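import Mathlib

/-!
Basic transport lemmas (complements, conjugation, cardinalities) used by helper1's proofs.
-/

set_option autoImplicit false

namespace Cfsg.Agent.Lib.Helper1

open Pointwise
open Subgroup MulAction MulOpposite

variable {G : Type*} [Group G]

/-- `MulAut.conj g • H` membership. -/
theorem mem_conj_smul {H : Subgroup G} {g x : G} :
    x ∈ MulAut.conj g • H ↔ g⁻¹ * x * g ∈ H := by
  rw [Subgroup.mem_pointwise_smul_iff_inv_smul_mem]
  simp [MulAut.smul_def]

theorem conj_smul_eq_map (g : G) (H : Subgroup G) :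
    MulAut.conj g • H = H.map (MulAut.conj g).toMonoidHom := rfl

theorem card_conj_smul (g : G) (H : Subgroup G) :
    Nat.card (MulAut.conj g • H : Subgroup G) = Nat.card H := by
  rw [conj_smul_eq_map]
  exact Nat.card_congr (H.equivMapOfInjective _ (MulAut.conj g).injective).symm.toEquiv

/-- Every element of `G` is a product `n * h` when `N` and `H` are complements. -/
theorem IsComplement'.exists_mul_eq {N H : Subgroup G} (hc : IsComplement' N H) (g : G) :
    ∃ n ∈ N, ∃ h ∈ H, n * h = g := by
  obtain ⟨⟨n, h⟩, hx, -⟩ := (isComplement_iff_existsUnique.mp hc) g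
  exact ⟨n, n.2, h, h.2, hx⟩

/-- A normal subgroup `N` and a subgroup `H` with `N ⊓ H = ⊥` and `N ⊔ H = ⊤` are complements. -/
theorem isComplement'_of_disjoint_of_sup_eq_top {N H : Subgroup G} [N.Normal]
    (h1 : Disjoint N H) (h2 : N ⊔ H = ⊤) : IsComplement' N H := by
  apply isComplement'_of_disjoint_and_mul_eq_univ h1
  rw [← Subgroup.normal_mul, h2, Subgroup.coe_top]

/-- Complements with coprime orders map to complements under a surjection. -/
theorem IsComplement'.map_of_surjective {G' : Type*} [Group G'] {N H : Subgroup G}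
    [N.Normal] (hc : IsComplement' N H) (hcop : (Nat.card N).Coprime (Nat.card H))
    (f : G →* G') (hf : Function.Surjective f) :
    IsComplement' (N.map f) (H.map f) := by
  have : (N.map f).Normal := Subgroup.Normal.map inferInstance f hf
  apply isComplement'_of_disjoint_of_sup_eq_top
  · apply Subgroup.disjoint_of_coprime_natCard
    exact Nat.Coprime.coprime_dvd_left (Subgroup.card_map_dvd N f)
      (Nat.Coprime.coprime_dvd_right (Subgroup.card_map_dvd H f) hcop)
  · rw [← Subgroup.map_sup, hc.sup_eq_top, ← MonoidHom.range_eq_map, MonoidHom.range_eq_top.mpr hf]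

/-- Complements restrict to a subgroup containing the second factor. -/
theorem IsComplement'.subgroupOf_of_le_right {N H L : Subgroup G}
    (hc : IsComplement' N H) (hHL : H ≤ L) :
    IsComplement' (N.subgroupOf L) (H.subgroupOf L) := by
  apply isComplement'_of_disjoint_and_mul_eq_univ
  · rw [disjoint_iff, eq_bot_iff]
    intro x hx
    rw [Subgroup.mem_inf, Subgroup.mem_subgroupOf, Subgroup.mem_subgroupOf] at hx
    have := hc.disjoint.le_bot (Subgroup.mem_inf.mpr hx)
    rw [Subgroup.mem_bot] at this ⊢
    exact Subtype.ext this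
  · rw [Set.eq_univ_iff_forall]
    intro l
    obtain ⟨n, hn, h, hh, hnh⟩ := IsComplement'.exists_mul_eq hc (l : G)
    have hhL : h ∈ L := hHL hh
    have hnL : n ∈ L := by
      have : n = l * h⁻¹ := by rw [← hnh]; group
      rw [this]; exact mul_mem l.2 (inv_mem hhL)
    exact ⟨⟨n, hnL⟩, hn, ⟨h, hhL⟩, hh, Subtype.ext hnh⟩

/-- Complements restrict to a subgroup containing the first factor. -/
theorem IsComplement'.subgroupOf_of_le_left {N H L : Subgroup G}
    (hc : IsComplement' N H) (hNL : N ≤ L) :
    IsComplement' (N.subgroupOf L) (H.subgroupOf L) := by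
  apply isComplement'_of_disjoint_and_mul_eq_univ
  · rw [disjoint_iff, eq_bot_iff]
    intro x hx
    rw [Subgroup.mem_inf, Subgroup.mem_subgroupOf, Subgroup.mem_subgroupOf] at hx
    have := hc.disjoint.le_bot (Subgroup.mem_inf.mpr hx)
    rw [Subgroup.mem_bot] at this ⊢
    exact Subtype.ext this
  · rw [Set.eq_univ_iff_forall]
    intro l
    obtain ⟨n, hn, h, hh, hnh⟩ := IsComplement'.exists_mul_eq hc (l : G)
    have hnL : n ∈ L := hNL hn
    have hhL : h ∈ L := by
      have : h = n⁻¹ * l := by rw [← hnh]; group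
      rw [this]; exact mul_mem (inv_mem hnL) l.2
    exact ⟨⟨n, hnL⟩, hn, ⟨h, hhL⟩, hh, Subtype.ext hnh⟩

/-- Conjugacy inside a subgroup gives conjugacy in the group. -/
theorem conj_of_conj_subgroupOf {L H K : Subgroup G} (hH : H ≤ L) (hK : K ≤ L) (l : L)
    (h : MulAut.conj l • (H.subgroupOf L) = K.subgroupOf L) :
    MulAut.conj (l : G) • H = K := by
  have h2 := congrArg (Subgroup.map L.subtype) h
  rw [Subgroup.map_subgroupOf_eq_of_le hK] at h2
  rw [← h2]
  ext x
  rw [mem_conj_smul, Subgroup.mem_map]
  constructor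
  · intro hx
    have hxL : x ∈ L := by
      have : x = (l : G) * ((l : G)⁻¹ * x * (l : G)) * (l : G)⁻¹ := by group
      rw [this]
      exact mul_mem (mul_mem l.2 (hH hx)) (inv_mem l.2)
    refine ⟨⟨x, hxL⟩, ?_, rfl⟩
    rw [mem_conj_smul, Subgroup.mem_subgroupOf]
    simpa using hx
  · rintro ⟨y, hy, rfl⟩
    rw [mem_conj_smul, Subgroup.mem_subgroupOf] at hy
    simpa using hy

/-- Strict monotonicity of the cardinality of subgroups of a finite group. -/
theorem card_lt_of_lt [Finite G] {H K : Subgroup G} (h : H < K) : Nat.card H < Nat.card K := by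
  have h1 : (H : Set G) ⊂ (K : Set G) := SetLike.coe_ssubset_coe.mpr h
  have := Set.ncard_lt_ncard h1 (Set.toFinite _)
  rwa [← Nat.card_coe_set_eq, ← Nat.card_coe_set_eq] at this

theorem card_subgroup_lt_of_ne_top [Finite G] {H : Subgroup G} (h : H ≠ ⊤) :
    Nat.card H < Nat.card G := by
  have := card_lt_of_lt (lt_top_iff_ne_top.mpr h)
  rwa [Subgroup.card_top] at this

theorem card_quotient_lt_of_ne_bot [Finite G] {H : Subgroup G} (h : H ≠ ⊥) :
    Nat.card (G ⧸ H) < Nat.card G := by
  rw [← Subgroup.index_eq_card, ← Subgroup.card_mul_index H]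
  have h1 : 1 < Nat.card H := by
    rcases Nat.lt_or_ge 1 (Nat.card H) with h1 | h1
    · exact h1
    · exfalso; apply h; rw [← Subgroup.card_eq_one]
      have : 0 < Nat.card H := Nat.card_pos
      omega
  have h2 : 0 < H.index := Nat.pos_of_ne_zero Subgroup.index_ne_zero_of_finite
  nlinarith

theorem map_conj_smul {G' : Type*} [Group G'] (f : G →* G') (g : G) (H : Subgroup G) :
    (MulAut.conj g • H).map f = MulAut.conj (f g) • H.map f := by
  rw [conj_smul_eq_map, conj_smul_eq_map, Subgroup.map_map, Subgroup.map_map]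
  congr 1
  ext x
  simp

theorem conj_smul_le_iff {H K : Subgroup G} {g : G} :
    MulAut.conj g • H ≤ K ↔ ∀ h ∈ H, g * h * g⁻¹ ∈ K := by
  constructor
  · intro hle h hh
    apply hle
    rw [mem_conj_smul]
    simpa [mul_assoc] using hh
  · intro hall x hx
    rw [mem_conj_smul] at hx
    have := hall _ hx
    simpa [mul_assoc] using this

/-- A conjugate of a complement of a normal subgroup is again a complement. -/
theorem IsComplement'.conj_smul [Finite G] {N H : Subgroup G} [hN : N.Normal]
    (hc : IsComplement' N H) (g : G) : IsComplement' N (MulAut.conj g • H) := by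
  apply isComplement'_of_card_mul_and_disjoint
  · rw [card_conj_smul, hc.card_mul_card]
  · rw [disjoint_iff, eq_bot_iff]
    intro x hx
    rw [Subgroup.mem_inf, mem_conj_smul] at hx
    have h1 : g⁻¹ * x * g ∈ N := by
      have := hN.conj_mem x hx.1 g⁻¹
      simpa using this
    have h2 := hc.disjoint.le_bot (Subgroup.mem_inf.mpr ⟨h1, hx.2⟩)
    rw [Subgroup.mem_bot] at h2 ⊢
    have : x = g * (g⁻¹ * x * g) * g⁻¹ := by group
    rw [this, h2]; group

/-- To show `K ≤ N(N)` it suffices that conjugates of elements of `N` by elements of `K` stay in `N`. -/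
theorem le_normalizer_of_forall_conj_mem' {K N : Subgroup G}
    (h : ∀ x ∈ K, ∀ n ∈ N, x * n * x⁻¹ ∈ N) : K ≤ normalizer (N : Set G) := by
  intro x hx
  rw [Subgroup.mem_normalizer_iff]
  intro n
  refine ⟨h x hx n, fun hn => ?_⟩
  have := h x⁻¹ (inv_mem hx) _ hn
  simpa [mul_assoc] using this

end Cfsg.Agent.Lib.Helper1
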