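import Mathlib
import Cfsg.Prelude.Def_Solvable

/-!
Basics on `Cfsg.pCore`, `Cfsg.pPrimeCore`, `Cfsg.fittingSubgroup`.
-/

set_option autoImplicit false

namespace Cfsg.Agent.Lib.Helper1

open Cfsg

variable {G : Type*} [Group G]

/-! ### Generalities on `sSup` of families of subgroups -/

/-- Induction principle for the supremum of a set of subgroups in a finite group. -/
theorem sSup_induction_of_finite [Finite G] (P : Subgroup G → Prop) (hbot : P ⊥)
    (hsup : ∀ H K, P H → P K → P (H ⊔ K)) (S : Set (Subgroup G)) (hS : ∀ H ∈ S, P H) :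
    P (sSup S) := by
  have hfin : S.Finite := Set.toFinite S
  induction S, hfin using Set.Finite.induction_on with
  | empty => simpa using hbot
  | @insert a s _ _ ih =>
    rw [sSup_insert]
    exact hsup _ _ (hS a (Set.mem_insert a s)) (ih fun H hH => hS H (Set.mem_insert_of_mem a hH))

/-- If a set of subgroups is stable under all automorphisms, its supremum is characteristic. -/
theorem sSup_characteristic_of_stable (S : Set (Subgroup G))
    (hS : ∀ (φ : G ≃* G), ∀ N ∈ S, N.map φ.toMonoidHom ∈ S) : (sSup S).Characteristic := by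
  rw [Subgroup.characteristic_iff_map_le]
  intro φ
  conv_lhs => rw [sSup_eq_iSup', Subgroup.map_iSup]
  rw [iSup_le_iff]
  rintro ⟨N, hN⟩
  exact le_sSup (hS φ N hN)

theorem card_mul_relIndex_of_le {K L : Subgroup G} (h : K ≤ L) :
    Nat.card K * K.relIndex L = Nat.card L := by
  rw [Subgroup.relIndex, ← Nat.card_congr (Subgroup.subgroupOfEquivOfLe h).toEquiv,
    Subgroup.card_mul_index]

/-- The order of `H ⊔ K` divides the product of the orders when `K` is normal. -/
theorem card_sup_dvd_of_normal (H K : Subgroup G) [K.Normal] :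
    Nat.card (H ⊔ K : Subgroup G) ∣ Nat.card H * Nat.card K := by
  rw [← card_mul_relIndex_of_le (le_sup_right : K ≤ H ⊔ K), Subgroup.relIndex_sup_right, mul_comm]
  exact Nat.mul_dvd_mul_right (Subgroup.relIndex_dvd_card K H) _

/-! ### The `p`-core -/

theorem pCore_normal (p : ℕ) : (pCore p G).Normal :=
  Subgroup.sSup_normal _ fun _ hN => hN.1

theorem pCore_characteristic (p : ℕ) : (pCore p G).Characteristic := by
  apply sSup_characteristic_of_stable
  rintro φ N ⟨hN1, hN2⟩
  exact ⟨Subgroup.Normal.map hN1 _ φ.surjective, hN2.map _⟩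

theorem pCore_isPGroup (p : ℕ) : IsPGroup p (pCore p G) :=
  Sylow.sSup_of_normal _ (fun _ hN => hN.2) (fun _ hN => hN.1)

/-- Every normal `p`-subgroup is contained in the `p`-core. -/
theorem le_pCore {p : ℕ} {N : Subgroup G} (hN : N.Normal) (hp : IsPGroup p N) : N ≤ pCore p G :=
  le_sSup ⟨hN, hp⟩

theorem pCore_le_sylow {p : ℕ} (P : Sylow p G) : pCore p G ≤ P :=
  haveI := pCore_normal (G := G) p
  (pCore_isPGroup p).le_sylow_of_normal P

/-- The `p`-core is the intersection of the Sylow `p`-subgroups. -/
theorem pCore_eq_iInf_sylow (p : ℕ) : pCore p G = ⨅ P : Sylow p G, (P : Subgroup G) := by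
  apply le_antisymm
  · exact le_iInf fun P => pCore_le_sylow P
  · apply le_pCore
    · constructor
      intro n hn g
      rw [Subgroup.mem_iInf] at hn ⊢
      intro P
      have h1 : n ∈ ((g⁻¹ • P : Sylow p G) : Subgroup G) := hn (g⁻¹ • P)
      rw [Sylow.coe_subgroup_smul, Subgroup.mem_pointwise_smul_iff_inv_smul_mem] at h1
      simpa [MulAut.smul_def] using h1
    · obtain ⟨P⟩ := (inferInstance : Nonempty (Sylow p G))
      exact P.2.to_le (iInf_le _ P)

/-! ### The `p'`-core -/

theorem pPrimeCore_normal (p : ℕ) : (pPrimeCore p G).Normal :=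
  Subgroup.sSup_normal _ fun _ hN => hN.1

theorem pPrimeCore_characteristic (p : ℕ) : (pPrimeCore p G).Characteristic := by
  apply sSup_characteristic_of_stable
  rintro φ N ⟨hN1, hN2⟩
  refine ⟨Subgroup.Normal.map hN1 _ φ.surjective, ?_⟩
  exact Nat.Coprime.coprime_dvd_left (Subgroup.card_map_dvd N _) hN2

/-- In a finite group the `p'`-core has order coprime to `p`. -/
theorem pPrimeCore_coprime [Finite G] (p : ℕ) : (Nat.card (pPrimeCore p G)).Coprime p := by
  have := sSup_induction_of_finite (G := G) (fun N => N.Normal ∧ (Nat.card N).Coprime p)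
    ⟨inferInstance, by simp⟩ ?_ {N : Subgroup G | N.Normal ∧ (Nat.card N).Coprime p} (fun _ h => h)
  · exact this.2
  · rintro H K ⟨hH1, hH2⟩ ⟨hK1, hK2⟩
    exact ⟨inferInstance, Nat.Coprime.coprime_dvd_left (card_sup_dvd_of_normal H K)
      (Nat.Coprime.mul_left hH2 hK2)⟩

/-- Every normal subgroup of order coprime to `p` is contained in the `p'`-core. -/
theorem le_pPrimeCore {p : ℕ} {N : Subgroup G} (hN : N.Normal) (hp : (Nat.card N).Coprime p) :
    N ≤ pPrimeCore p G :=
  le_sSup ⟨hN, hp⟩

/-! ### The Fitting subgroup -/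

theorem fittingSubgroup_normal : (fittingSubgroup G).Normal :=
  Subgroup.sSup_normal _ fun _ hN => hN.1

theorem fittingSubgroup_characteristic : (fittingSubgroup G).Characteristic := by
  apply sSup_characteristic_of_stable
  rintro φ N ⟨hN1, hN2⟩
  refine ⟨Subgroup.Normal.map hN1 _ φ.surjective, ?_⟩
  exact Group.nilpotent_of_surjective (φ.toMonoidHom.subgroupMap N)
    (φ.toMonoidHom.subgroupMap_surjective N)

/-- Every normal nilpotent subgroup is contained in the Fitting subgroup. -/
theorem le_fittingSubgroup {N : Subgroup G} (hN : N.Normal) (h : Group.IsNilpotent N) :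
    N ≤ fittingSubgroup G :=
  le_sSup ⟨hN, h⟩

theorem pCore_le_fittingSubgroup [Finite G] (p : ℕ) [Fact p.Prime] :
    pCore p G ≤ fittingSubgroup G :=
  le_fittingSubgroup (pCore_normal p) (pCore_isPGroup p).isNilpotent

/-- The join of the `p`-cores of a finite group is nilpotent. -/
theorem iSup_pCore_isNilpotent [Finite G] :
    Group.IsNilpotent (⨆ p : (Nat.card G).primeFactors, pCore (p : ℕ) G : Subgroup G) := by
  have hprime : ∀ p : (Nat.card G).primeFactors, Fact (p : ℕ).Prime :=
    fun p => ⟨Nat.prime_of_mem_primeFactors p.2⟩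
  have hcomm : Pairwise fun p q : (Nat.card G).primeFactors =>
      ∀ x y : G, x ∈ pCore (p : ℕ) G → y ∈ pCore (q : ℕ) G → Commute x y := by
    intro p q hpq x y hx hy
    have hne : (p : ℕ) ≠ q := fun h => hpq (Subtype.ext h)
    have hdis : Disjoint (pCore (p : ℕ) G) (pCore (q : ℕ) G) :=
      IsPGroup.disjoint_of_ne _ _ hne _ _ (pCore_isPGroup _) (pCore_isPGroup _)
    exact Subgroup.commute_of_normal_of_disjoint _ _ (pCore_normal _) (pCore_normal _) hdis x y hx hy
  have hnil : ∀ p : (Nat.card G).primeFactors, Group.IsNilpotent (pCore (p : ℕ) G) :=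
    fun p => (pCore_isPGroup (p : ℕ)).isNilpotent
  have h1 : Group.IsNilpotent (Subgroup.noncommPiCoprod hcomm).range :=
    Group.nilpotent_of_surjective (Subgroup.noncommPiCoprod hcomm).rangeRestrict
      (Subgroup.noncommPiCoprod hcomm).rangeRestrict_surjective
  rwa [Subgroup.noncommPiCoprod_range] at h1

/-- A normal nilpotent subgroup of a finite group lies in the join of the `p`-cores. -/
theorem le_iSup_pCore_of_isNilpotent [Finite G] {N : Subgroup G} (hN : N.Normal)
    (h : Group.IsNilpotent N) :
    N ≤ ⨆ p : (Nat.card G).primeFactors, pCore (p : ℕ) G := by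
  set S : Subgroup G := ⨆ p : (Nat.card G).primeFactors, pCore (p : ℕ) G with hS
  suffices hcard : Nat.card N ∣ Nat.card (N ⊓ S : Subgroup G) by
    have : N ⊓ S = N :=
      Subgroup.eq_of_le_of_card_ge inf_le_left (Nat.le_of_dvd Nat.card_pos hcard)
    exact inf_eq_left.mp this
  rw [← Nat.factorization_prime_le_iff_dvd Nat.card_pos.ne' Nat.card_pos.ne']
  intro p hp
  have : Fact p.Prime := ⟨hp⟩
  rw [← hp.pow_dvd_iff_le_factorization Nat.card_pos.ne']
  obtain ⟨P⟩ : Nonempty (Sylow p N) := inferInstance
  have hPn : (P : Subgroup N).Normal := inferInstance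
  have hPc : (P : Subgroup N).Characteristic := P.characteristic_of_normal hPn
  have hQn : ((P : Subgroup N).map N.subtype).Normal := inferInstance
  have hQp : IsPGroup p ((P : Subgroup N).map N.subtype) := P.2.map _
  have hQcard : Nat.card ((P : Subgroup N).map N.subtype) = p ^ (Nat.card N).factorization p := by
    rw [← P.card_eq_multiplicity]
    exact Nat.card_congr ((P : Subgroup N).equivMapOfInjective _ N.subtype_injective).symm.toEquiv
  rw [← hQcard]
  apply Subgroup.card_dvd_of_le
  refine le_inf (Subgroup.map_subtype_le _) ?_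
  by_cases hpG : p ∣ Nat.card G
  · have hmem : p ∈ (Nat.card G).primeFactors :=
      Nat.mem_primeFactors.mpr ⟨hp, hpG, Nat.card_pos.ne'⟩
    exact (le_pCore hQn hQp).trans (le_iSup (fun q : (Nat.card G).primeFactors => pCore (q : ℕ) G) ⟨p, hmem⟩)
  · have hpN : ¬ p ∣ Nat.card N := fun hd => hpG (hd.trans (Subgroup.card_subgroup_dvd_card N))
    have : Nat.card ((P : Subgroup N).map N.subtype) = 1 := by
      rw [hQcard, Nat.factorization_eq_zero_of_not_dvd hpN, pow_zero]
    rw [Subgroup.card_eq_one.mp this]
    exact bot_le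

/-- **Fitting's theorem** (first form): the Fitting subgroup of a finite group is the join of the
`p`-cores over the primes dividing the order. -/
theorem fittingSubgroup_eq_iSup_primeFactors [Finite G] :
    fittingSubgroup G = ⨆ p : (Nat.card G).primeFactors, pCore (p : ℕ) G := by
  apply le_antisymm
  · exact sSup_le fun N hN => le_iSup_pCore_of_isNilpotent hN.1 hN.2
  · refine iSup_le fun p => ?_
    have : Fact (p : ℕ).Prime := ⟨Nat.prime_of_mem_primeFactors p.2⟩
    exact pCore_le_fittingSubgroup (p : ℕ)

/-- **Fitting's theorem**: the Fitting subgroup of a finite group is nilpotent. -/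
theorem fittingSubgroup_isNilpotent [Finite G] : Group.IsNilpotent (fittingSubgroup G) := by
  rw [fittingSubgroup_eq_iSup_primeFactors]
  exact iSup_pCore_isNilpotent

/-- The Fitting subgroup of a finite group is the join of the `p`-cores over all primes. -/
theorem fittingSubgroup_eq_iSup_primes [Finite G] :
    fittingSubgroup G = ⨆ p : Nat.Primes, pCore (p : ℕ) G := by
  apply le_antisymm
  · rw [fittingSubgroup_eq_iSup_primeFactors]
    refine iSup_le fun p => ?_
    exact le_iSup (fun q : Nat.Primes => pCore (q : ℕ) G) ⟨p, Nat.prime_of_mem_primeFactors p.2⟩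
  · refine iSup_le fun p => ?_
    have : Fact (p : ℕ).Prime := ⟨p.2⟩
    exact pCore_le_fittingSubgroup (p : ℕ)

end Cfsg.Agent.Lib.Helper1
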