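import Mathlib
import Cfsg.Agent.Lib.Helper1.Basic

/-!
Schur–Zassenhaus: conjugacy of complements.
-/

set_option autoImplicit false

namespace Cfsg.Agent.Lib.Helper1

open Pointwise
open Subgroup MulAction MulOpposite

universe u

/-- Schur's theorem, conjugacy part, abelian normal Hall subgroup. -/
theorem conj_complement_of_abelian {G : Type*} [Group G] [Finite G] (A : Subgroup G) [A.Normal]
    [IsMulCommutative A] (hA : (Nat.card A).Coprime A.index)
    (H K : Subgroup G) (hH : Subgroup.IsComplement' A H) (hK : Subgroup.IsComplement' A K) :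
    ∃ a ∈ A, MulAut.conj a • H = K := by
  let mkQ : ∀ (L : Subgroup G) (_ : Subgroup.IsComplement' A L), A.QuotientDiff :=
    fun L hL => Quotient.mk'' (⟨(L : Set G), hL.symm⟩ : A.LeftTransversal)
  have key : ∀ (L : Subgroup G) (hL : Subgroup.IsComplement' A L),
      stabilizer G (mkQ L hL) = L := by
    intro L hL
    symm
    apply Subgroup.eq_of_le_of_card_ge
    · intro l hl
      rw [mem_stabilizer_iff]
      change Quotient.mk'' _ = _
      congr 1
      apply Subtype.ext
      change (op l⁻¹) • (L : Set G) = L
      ext x
      rw [Set.mem_smul_set_iff_inv_smul_mem]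
      simp only [← op_inv, inv_inv, MulOpposite.smul_eq_mul_unop, unop_op, SetLike.mem_coe]
      exact ⟨fun h => by simpa using mul_mem h (inv_mem hl), fun h => mul_mem h hl⟩
    · have h1 := (isComplement'_stabilizer_of_coprime (α := mkQ L hL) hA).card_mul_card
      have h2 := hL.card_mul_card
      have h3 : 0 < Nat.card A := Nat.card_pos
      exact le_of_eq (Nat.eq_of_mul_eq_mul_left h3 (h1.trans h2.symm))
  obtain ⟨a, ha⟩ := exists_smul_eq hA (mkQ H hH) (mkQ K hK)
  refine ⟨a, a.2, ?_⟩
  rw [← key H hH, ← key K hK, ← ha]
  rw [Subgroup.smul_def, stabilizer_smul_eq_stabilizer_map_conj]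
  rfl

/-- A nontrivial solvable normal subgroup contains a nontrivial normal (in `G`) elementary abelian
`p`-subgroup. -/
theorem exists_normal_elementary_abelian_le {G : Type u} [Group G] [Finite G] :
    ∀ (n : ℕ) (N : Subgroup G) [N.Normal], Nat.card N = n → N ≠ ⊥ → Group.IsSolvable N →
    ∃ p : ℕ, p.Prime ∧ ∃ P : Subgroup G, P.Normal ∧ P ≤ N ∧ P ≠ ⊥ ∧ IsMulCommutative P ∧
      ∀ x ∈ P, x ^ p = 1 := by
  intro n
  induction n using Nat.strong_induction_on with
  | _ n ih =>
    intro N hNn hcard hN hsolv
    have hD_le : ⁅N, N⁆ ≤ N := Subgroup.commutator_le_self N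
    have hD_ne : ⁅N, N⁆ ≠ N := by
      intro h
      have : Nontrivial N := (Subgroup.nontrivial_iff_ne_bot N).mpr hN
      have h1 := Group.IsSolvable.commutator_lt_top_of_nontrivial N
      apply h1.ne
      apply Subgroup.map_injective N.subtype_injective
      rw [Subgroup.map_subtype_commutator, h, ← MonoidHom.range_eq_map, Subgroup.range_subtype]
    by_cases hD : ⁅N, N⁆ = ⊥
    · -- N is abelian
      have hcomm : ∀ x ∈ N, ∀ y ∈ N, x * y = y * x := by
        intro x hx y hy
        have := (Subgroup.commutator_eq_bot_iff_le_centralizer.mp hD) hx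
        rw [Subgroup.mem_centralizer_iff] at this
        exact (this y hy).symm
      have hN1 : Nat.card N ≠ 1 := by
        rw [Ne, Subgroup.card_eq_one]; exact hN
      obtain ⟨p, hp, hpd⟩ := Nat.exists_prime_and_dvd hN1
      have : Fact p.Prime := ⟨hp⟩
      obtain ⟨x, hx⟩ := exists_prime_orderOf_dvd_card' p hpd
      refine ⟨p, hp, ?_⟩
      let P : Subgroup G :=
        { carrier := {x | x ∈ N ∧ x ^ p = 1}
          mul_mem' := by
            rintro a b ⟨ha, ha'⟩ ⟨hb, hb'⟩
            refine ⟨mul_mem ha hb, ?_⟩
            rw [(show Commute a b from hcomm a ha b hb).mul_pow, ha', hb', one_mul]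
          one_mem' := ⟨one_mem _, one_pow _⟩
          inv_mem' := by
            rintro a ⟨ha, ha'⟩
            exact ⟨inv_mem ha, by rw [inv_pow, ha', inv_one]⟩ }
      refine ⟨P, ?_, ?_, ?_, ?_, ?_⟩
      · constructor
        rintro a ⟨ha, ha'⟩ g
        refine ⟨hNn.conj_mem a ha g, ?_⟩
        rw [conj_pow, ha']; simp
      · rintro a ⟨ha, _⟩; exact ha
      · intro hP
        have hxP : (x : G) ∈ P := by
          refine ⟨x.2, ?_⟩
          rw [← hx, ← Subgroup.coe_pow, pow_orderOf_eq_one]; rfl
        rw [hP, Subgroup.mem_bot] at hxP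
        have hx1 : x = 1 := Subtype.ext hxP
        rw [hx1, orderOf_one] at hx
        exact hp.one_lt.ne hx
      · constructor
        constructor
        rintro ⟨a, ha, _⟩ ⟨b, hb, _⟩
        exact Subtype.ext (hcomm a ha b hb)
      · rintro a ⟨_, ha'⟩; exact ha'
    · -- apply induction to the derived subgroup
      have hlt : Nat.card (⁅N, N⁆ : Subgroup G) < n := by
        rw [← hcard]
        exact card_lt_of_lt (lt_of_le_of_ne hD_le hD_ne)
      have hsolv' : Group.IsSolvable (⁅N, N⁆ : Subgroup G) :=
        Group.isSolvable_of_isSolvable_injective (Subgroup.inclusion_injective hD_le)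
      obtain ⟨p, hp, P, hPn, hPle, hPne, hPc, hPe⟩ := ih _ hlt ⁅N, N⁆ rfl hD hsolv'
      exact ⟨p, hp, P, hPn, hPle.trans hD_le, hPne, hPc, hPe⟩


section transfer

variable {G : Type u} [Group G]

/-- Hall-type hypotheses restrict to subgroups. -/
theorem szhyp_subgroupOf (N : Subgroup G) [N.Normal] (hcop : (Nat.card N).Coprime N.index)
    (hsolv : Group.IsSolvable N ∨ Group.IsSolvable (G ⧸ N)) (L : Subgroup G) :
    (Nat.card (N.subgroupOf L)).Coprime (N.subgroupOf L).index ∧
      (Group.IsSolvable (N.subgroupOf L) ∨ Group.IsSolvable (L ⧸ N.subgroupOf L)) := by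
  constructor
  · have h1 : Nat.card (N.subgroupOf L) ∣ Nat.card N := by
      rw [← Subgroup.inf_subgroupOf_right N L,
        Nat.card_congr (Subgroup.subgroupOfEquivOfLe (inf_le_right : N ⊓ L ≤ L)).toEquiv]
      exact Subgroup.card_dvd_of_le inf_le_left
    have h2 : (N.subgroupOf L).index ∣ N.index := Subgroup.relIndex_dvd_index_of_normal N L
    exact Nat.Coprime.coprime_dvd_left h1 (Nat.Coprime.coprime_dvd_right h2 hcop)
  · rcases hsolv with h | h
    · left
      let f : N.subgroupOf L →* N :=
        { toFun := fun x => ⟨x.1.1, x.2⟩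
          map_one' := rfl
          map_mul' := fun _ _ => rfl }
      have hf : Function.Injective f := by
        intro x y hxy
        apply Subtype.ext; apply Subtype.ext
        exact congrArg (fun z : N => (z : G)) hxy
      exact Group.isSolvable_of_isSolvable_injective hf
    · right
      let f : L ⧸ N.subgroupOf L →* G ⧸ N :=
        QuotientGroup.map (N.subgroupOf L) N L.subtype (fun x hx => hx)
      have hf : Function.Injective f := by
        rw [← MonoidHom.ker_eq_bot_iff, eq_bot_iff]
        intro x hx
        induction x using QuotientGroup.induction_on with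
        | H l =>
          rw [MonoidHom.mem_ker] at hx
          change ((l : G) : G ⧸ N) = 1 at hx
          rw [QuotientGroup.eq_one_iff] at hx
          rw [Subgroup.mem_bot, QuotientGroup.eq_one_iff]
          exact hx
      exact Group.isSolvable_of_isSolvable_injective hf


/-- Hall-type hypotheses pass to quotients. -/
theorem szhyp_map {G' : Type*} [Group G'] (N : Subgroup G) [N.Normal]
    (hcop : (Nat.card N).Coprime N.index)
    (hsolv : Group.IsSolvable N ∨ Group.IsSolvable (G ⧸ N)) (f : G →* G')
    (hf : Function.Surjective f) [(N.map f).Normal] :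
    (Nat.card (N.map f)).Coprime (N.map f).index ∧
      (Group.IsSolvable (N.map f) ∨ Group.IsSolvable (G' ⧸ N.map f)) := by
  constructor
  · exact Nat.Coprime.coprime_dvd_left (Subgroup.card_map_dvd N f)
      (Nat.Coprime.coprime_dvd_right (Subgroup.index_map_dvd N hf) hcop)
  · rcases hsolv with h | h
    · left
      exact Group.isSolvable_of_surjective (f.subgroupMap_surjective N)
    · right
      let φ : G ⧸ N →* G' ⧸ N.map f :=
        QuotientGroup.map N (N.map f) f (Subgroup.le_comap_map f N)
      have hφ : Function.Surjective φ := by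
        intro y
        induction y using QuotientGroup.induction_on with
        | H y =>
          obtain ⟨x, rfl⟩ := hf y
          exact ⟨(x : G ⧸ N), rfl⟩
      exact Group.isSolvable_of_surjective hφ

end transfer


/-- Schur–Zassenhaus, conjugacy part; inductive form. -/
theorem sz_conj_aux (n : ℕ) : ∀ (G : Type u) [Group G] [Finite G], Nat.card G = n →
    ∀ (N : Subgroup G) [N.Normal], (Nat.card N).Coprime N.index →
    (Group.IsSolvable N ∨ Group.IsSolvable (G ⧸ N)) →
    ∀ H K : Subgroup G, IsComplement' N H → IsComplement' N K →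
    ∃ g : G, MulAut.conj g • H = K := by
  induction n using Nat.strong_induction_on with
  | _ n ih =>
    intro G _ _ hn N hNn hcop hsolv H K hH hK
    have hcardH : Nat.card H = N.index := hH.symm.index_eq_card.symm
    have hcardK : Nat.card K = N.index := hK.symm.index_eq_card.symm
    -- a general principle: conjugacy inside a proper subgroup containing both
    have inSub : ∀ (L : Subgroup G), L ≠ ⊤ → ∀ H' : Subgroup G, IsComplement' N H' → H' ≤ L → K ≤ L →
        ∃ g : G, MulAut.conj g • H' = K := by
      intro L hL H' hH' hH'L hKL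
      obtain ⟨hc, hs⟩ := szhyp_subgroupOf N hcop hsolv L
      obtain ⟨l, hl⟩ := ih (Nat.card L) (hn ▸ card_subgroup_lt_of_ne_top hL) L rfl (N.subgroupOf L) hc hs
        (H'.subgroupOf L) (K.subgroupOf L) (IsComplement'.subgroupOf_of_le_right hH' hH'L)
        (IsComplement'.subgroupOf_of_le_right hK hKL)
      exact ⟨l, conj_of_conj_subgroupOf hH'L hKL l hl⟩
    -- a general principle: conjugacy modulo a normal subgroup
    have inQuot : ∀ (R : Subgroup G) [R.Normal], R ≠ ⊥ → ∀ H' : Subgroup G, IsComplement' N H' →
        ∃ g : G, MulAut.conj g • H' ≤ K ⊔ R := by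
      intro R hRn hR H' hH'
      have hcopH' : (Nat.card N).Coprime (Nat.card H') := by
        rw [hH'.symm.index_eq_card.symm]; exact hcop
      have hcopK : (Nat.card N).Coprime (Nat.card K) := by
        rw [hcardK]; exact hcop
      have hsurj := QuotientGroup.mk'_surjective R
      have : (N.map (QuotientGroup.mk' R)).Normal := Subgroup.Normal.map inferInstance _ hsurj
      obtain ⟨hc, hs⟩ := szhyp_map N hcop hsolv (QuotientGroup.mk' R) hsurj
      obtain ⟨gbar, hg⟩ := ih (Nat.card (G ⧸ R)) (hn ▸ card_quotient_lt_of_ne_bot hR) (G ⧸ R) rfl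
        (N.map (QuotientGroup.mk' R)) hc hs (H'.map (QuotientGroup.mk' R)) (K.map (QuotientGroup.mk' R))
        (IsComplement'.map_of_surjective hH' hcopH' _ hsurj)
        (IsComplement'.map_of_surjective hK hcopK _ hsurj)
      obtain ⟨g, rfl⟩ := hsurj gbar
      refine ⟨g, ?_⟩
      rw [← map_conj_smul] at hg
      have := Subgroup.le_comap_map (QuotientGroup.mk' R) (MulAut.conj g • H')
      rw [hg, Subgroup.comap_map_eq, QuotientGroup.ker_mk'] at this
      exact this
    have conj_one : ∀ X : Subgroup G, MulAut.conj (1 : G) • X = X := by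
      intro X; rw [map_one, one_smul]
    rcases hsolv with hsN | hsQ
    · -- `N` solvable
      by_cases hNbot : N = ⊥
      · subst hNbot
        rw [isComplement'_bot_left] at hH hK
        exact ⟨1, by rw [hH, hK, conj_one]⟩
      have hDle : ⁅N, N⁆ ≤ N := Subgroup.commutator_le_self N
      have hDne : ⁅N, N⁆ ≠ N := by
        intro h
        have : Nontrivial N := (Subgroup.nontrivial_iff_ne_bot N).mpr hNbot
        have h1 := Group.IsSolvable.commutator_lt_top_of_nontrivial N
        apply h1.ne
        apply Subgroup.map_injective N.subtype_injective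
        rw [Subgroup.map_subtype_commutator, h, ← MonoidHom.range_eq_map, Subgroup.range_subtype]
      by_cases hDbot : ⁅N, N⁆ = ⊥
      · have : IsMulCommutative N := by
          rw [← Subgroup.le_centralizer_iff_isMulCommutative]
          exact Subgroup.commutator_eq_bot_iff_le_centralizer.mp hDbot
        obtain ⟨a, -, ha⟩ := conj_complement_of_abelian N hcop H K hH hK
        exact ⟨a, ha⟩
      · obtain ⟨g, hg⟩ := inQuot ⁅N, N⁆ hDbot H hH
        have hL : K ⊔ ⁅N, N⁆ ≠ ⊤ := by
          intro htop
          apply hDne
          have hdis : Disjoint ⁅N, N⁆ K := hK.disjoint.mono_left hDle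
          have hc : IsComplement' ⁅N, N⁆ K :=
            isComplement'_of_disjoint_of_sup_eq_top hdis (by rw [sup_comm]; exact htop)
          apply Subgroup.eq_of_le_of_card_ge hDle
          have h1 := hc.card_mul_card
          have h2 := hK.card_mul_card
          have h3 : 0 < Nat.card K := Nat.card_pos
          exact le_of_eq (Nat.eq_of_mul_eq_mul_right h3 (h2.trans h1.symm))
        obtain ⟨l, hl⟩ := inSub (K ⊔ ⁅N, N⁆) hL (MulAut.conj g • H) (IsComplement'.conj_smul hH g) hg le_sup_left
        exact ⟨l * g, by rw [map_mul, mul_smul, hl]⟩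
    · -- `G ⧸ N` solvable
      by_cases hNtop : N = ⊤
      · subst hNtop
        rw [isComplement'_top_left] at hH hK
        exact ⟨1, by rw [hH, hK, conj_one]⟩
      -- a nontrivial normal elementary abelian subgroup of `G ⧸ N`
      have hQnt : (⊤ : Subgroup (G ⧸ N)) ≠ ⊥ := by
        intro h
        apply hNtop
        rw [← Subgroup.index_eq_one, Subgroup.index_eq_card, ← Subgroup.card_top, h, Subgroup.card_bot]
      have hQs : Group.IsSolvable (⊤ : Subgroup (G ⧸ N)) :=
        Group.isSolvable_of_isSolvable_injective (Subgroup.subtype_injective _)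
      obtain ⟨p, hp, Pbar, hPn, -, hPne, -, hPe⟩ :=
        exists_normal_elementary_abelian_le _ (⊤ : Subgroup (G ⧸ N)) rfl hQnt hQs
      have : Fact p.Prime := ⟨hp⟩
      have hNM : N ≤ Pbar.comap (QuotientGroup.mk' N) := by
        intro x hx
        rw [Subgroup.mem_comap]
        have : (QuotientGroup.mk' N) x = 1 := (QuotientGroup.eq_one_iff x).mpr hx
        rw [this]; exact one_mem _
      by_cases hM : Pbar.comap (QuotientGroup.mk' N) = ⊤
      · -- `G ⧸ N` is a `p`-group, the complements are Sylow subgroups
        have hpow : ∀ x : G, x ^ p ∈ N := by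
          intro x
          have hx : x ∈ Pbar.comap (QuotientGroup.mk' N) := hM ▸ Subgroup.mem_top x
          rw [Subgroup.mem_comap] at hx
          have := hPe _ hx
          rw [← map_pow] at this
          exact (QuotientGroup.eq_one_iff _).mp this
        have hpg : ∀ X : Subgroup G, IsComplement' N X → IsPGroup p X := by
          intro X hX x
          refine ⟨1, ?_⟩
          rw [pow_one]
          apply Subtype.ext
          have h1 : (x : G) ^ p ∈ N := hpow x
          have h2 : (x : G) ^ p ∈ X := pow_mem x.2 p
          have := hX.disjoint.le_bot (Subgroup.mem_inf.mpr ⟨h1, h2⟩)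
          rw [Subgroup.mem_bot] at this
          simpa using this
        have hpN : ¬ p ∣ Nat.card N := by
          intro hdvd
          have hQp : IsPGroup p (G ⧸ N) := by
            intro x
            induction x using QuotientGroup.induction_on with
            | H x =>
              refine ⟨1, ?_⟩
              rw [pow_one]
              exact (QuotientGroup.eq_one_iff _).mpr (hpow x)
          obtain ⟨k, hk⟩ := hQp.exists_card_eq
          rw [← Subgroup.index_eq_card] at hk
          have hk0 : k ≠ 0 := by
            rintro rfl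
            rw [pow_zero, Subgroup.index_eq_one] at hk
            exact hNtop hk
          have h2 : p ∣ N.index := by rw [hk]; exact dvd_pow_self p hk0
          have := Nat.dvd_gcd hdvd h2
          rw [Nat.Coprime.gcd_eq_one hcop] at this
          exact hp.one_lt.ne' (Nat.dvd_one.mp this)
        have hidx : ∀ X : Subgroup G, IsComplement' N X → ¬ p ∣ X.index := by
          intro X hX
          rw [hX.index_eq_card]; exact hpN
        obtain ⟨g, hg⟩ := MulAction.exists_smul_eq G ((hpg H hH).toSylow (hidx H hH))
          ((hpg K hK).toSylow (hidx K hK))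
        refine ⟨g, ?_⟩
        have := congrArg (fun P : Sylow p G => (P : Subgroup G)) hg
        simpa [Sylow.coe_subgroup_smul] using this
      · -- apply the induction hypothesis inside `M`
        have hMn : (Pbar.comap (QuotientGroup.mk' N)).Normal := inferInstance
        generalize hMdef : Pbar.comap (QuotientGroup.mk' N) = M at hNM hM hMn
        obtain ⟨hc, hs⟩ := szhyp_subgroupOf N hcop (Or.inr hsQ) M
        obtain ⟨m, hm⟩ := ih (Nat.card M) (hn ▸ card_subgroup_lt_of_ne_top hM) M rfl (N.subgroupOf M) hc hs
          (H.subgroupOf M) (K.subgroupOf M) (IsComplement'.subgroupOf_of_le_left hH hNM)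
          (IsComplement'.subgroupOf_of_le_left hK hNM)
        have hH' := IsComplement'.conj_smul hH (m : G)
        have hR : (MulAut.conj (m : G) • H) ⊓ M = K ⊓ M := by
          have h1 := congrArg (Subgroup.map M.subtype) hm
          rw [map_conj_smul, Subgroup.subgroupOf_map_subtype, Subgroup.subgroupOf_map_subtype,
            Subgroup.smul_inf, Subgroup.Normal.conj_smul_eq_self _ M] at h1
          exact h1
        have hRne : K ⊓ M ≠ ⊥ := by
          intro hbot
          apply hPne
          rw [eq_bot_iff]
          intro xbar hxbar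
          obtain ⟨x, rfl⟩ := QuotientGroup.mk'_surjective N xbar
          obtain ⟨n, hn', k, hk, hnk⟩ := IsComplement'.exists_mul_eq hK x
          have hkx : (QuotientGroup.mk' N) k = (QuotientGroup.mk' N) x := by
            have hn1 : (QuotientGroup.mk' N) n = 1 := (QuotientGroup.eq_one_iff n).mpr hn'
            rw [← hnk, map_mul, hn1, one_mul]
          have hkM : k ∈ M := by
            rw [← hMdef, Subgroup.mem_comap, hkx]; exact hxbar
          have := hbot.le (Subgroup.mem_inf.mpr ⟨hk, hkM⟩)
          rw [Subgroup.mem_bot] at this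
          rw [Subgroup.mem_bot, ← hkx, this, map_one]
        have hnorm : ∀ X : Subgroup G, X ≤ Subgroup.normalizer ((X ⊓ M : Subgroup G) : Set G) := by
          intro X x hx
          rw [Subgroup.mem_normalizer_iff]
          intro y
          rw [Subgroup.mem_inf, Subgroup.mem_inf]
          constructor
          · rintro ⟨hy1, hy2⟩
            exact ⟨mul_mem (mul_mem hx hy1) (inv_mem hx), hMn.conj_mem y hy2 x⟩
          · rintro ⟨hy1, hy2⟩
            constructor
            · have : y = x⁻¹ * (x * y * x⁻¹) * x := by group
              rw [this]; exact mul_mem (mul_mem (inv_mem hx) hy1) hx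
            · have := hMn.conj_mem _ hy2 x⁻¹
              simpa [mul_assoc] using this
        have hH'R : MulAut.conj (m : G) • H ≤ Subgroup.normalizer ((K ⊓ M : Subgroup G) : Set G) := by
          rw [← hR]; exact hnorm _
        have hKR : K ≤ Subgroup.normalizer ((K ⊓ M : Subgroup G) : Set G) := hnorm K
        by_cases hL : Subgroup.normalizer ((K ⊓ M : Subgroup G) : Set G) = ⊤
        · have hRn : (K ⊓ M).Normal := Subgroup.normalizer_eq_top_iff.mp hL
          obtain ⟨g, hg⟩ := inQuot (K ⊓ M) hRne _ hH'
          rw [sup_of_le_left inf_le_left] at hg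
          have : MulAut.conj g • MulAut.conj (m : G) • H = K := by
            apply Subgroup.eq_of_le_of_card_ge hg
            rw [card_conj_smul, card_conj_smul, hcardH, hcardK]
          exact ⟨g * m, by rw [map_mul, mul_smul, this]⟩
        · obtain ⟨l, hl⟩ := inSub _ hL _ hH' hH'R hKR
          exact ⟨l * m, by rw [map_mul, mul_smul, hl]⟩


/-- **Schur–Zassenhaus**, conjugacy part: complements of a normal Hall subgroup `N` are conjugate,
provided `N` or `G ⧸ N` is solvable. -/
theorem sz_conj {G : Type u} [Group G] [Finite G] (N : Subgroup G) [N.Normal]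
    (hN : (Nat.card N).Coprime N.index)
    (hsolv : Group.IsSolvable N ∨ Group.IsSolvable (G ⧸ N))
    (H K : Subgroup G) (hH : IsComplement' N H) (hK : IsComplement' N K) :
    ∃ g : G, MulAut.conj g • H = K :=
  sz_conj_aux _ G rfl N hN hsolv H K hH hK

end Cfsg.Agent.Lib.Helper1
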