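import Mathlib
import Cfsg.Agent.Lib.Helper1.Basic
import Cfsg.Agent.Lib.Helper1.Cores
import Cfsg.Agent.Lib.Helper1.SZ

/-!
Hall's theorems for finite solvable groups.
-/

set_option autoImplicit false

namespace Cfsg.Agent.Lib.Helper1

open Pointwise
open Subgroup

universe u

section card

variable {G : Type*} [Group G]

/-- First isomorphism theorem, counting form, restricted to a subgroup. -/
theorem card_map_mul_card_inf_ker {G' : Type*} [Group G'] (f : G →* G') (H : Subgroup G) :
    Nat.card (H.map f) * Nat.card (H ⊓ f.ker : Subgroup G) = Nat.card H := by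
  rw [← MonoidHom.domRestrict_range, ← Subgroup.index_ker, MonoidHom.ker_domRestrict,
    ← Subgroup.inf_subgroupOf_left f.ker H,
    ← Nat.card_congr (Subgroup.subgroupOfEquivOfLe (inf_le_left : H ⊓ f.ker ≤ H)).toEquiv,
    mul_comm, Subgroup.card_mul_index]

theorem card_map_mk_of_le (M : Subgroup G) [M.Normal] {H : Subgroup G} (h : M ≤ H) :
    Nat.card (H.map (QuotientGroup.mk' M)) * Nat.card M = Nat.card H := by
  have := card_map_mul_card_inf_ker (QuotientGroup.mk' M) H
  rwa [QuotientGroup.ker_mk', inf_eq_right.mpr h] at this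

theorem card_map_mk_of_disjoint (M : Subgroup G) [M.Normal] {H : Subgroup G} (h : H ⊓ M = ⊥) :
    Nat.card (H.map (QuotientGroup.mk' M)) = Nat.card H := by
  have := card_map_mul_card_inf_ker (QuotientGroup.mk' M) H
  rwa [QuotientGroup.ker_mk', h, Subgroup.card_bot, mul_one] at this

theorem card_comap_mk (M : Subgroup G) [M.Normal] (L : Subgroup (G ⧸ M)) :
    Nat.card (L.comap (QuotientGroup.mk' M)) = Nat.card L * Nat.card M := by
  have h1 : M ≤ L.comap (QuotientGroup.mk' M) := by
    conv_lhs => rw [← QuotientGroup.ker_mk' M]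
    exact MonoidHom.ker_le_comap _ _
  rw [← card_map_mk_of_le M h1, Subgroup.map_comap_eq_self_of_surjective (QuotientGroup.mk'_surjective M)]

/-- Product formula. -/
theorem card_sup_mul_card_inf (H K : Subgroup G) [K.Normal] :
    Nat.card (H ⊔ K : Subgroup G) * Nat.card (H ⊓ K : Subgroup G) = Nat.card H * Nat.card K := by
  rw [← card_mul_relIndex_of_le (le_sup_right : K ≤ H ⊔ K), Subgroup.relIndex_sup_right,
    ← card_mul_relIndex_of_le (inf_le_left : H ⊓ K ≤ H), Subgroup.inf_relIndex_left]
  ring

end card

section transfer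

variable {G : Type*} [Group G]

theorem le_conj_of_subgroupOf_le {L H K : Subgroup G} (hK : K ≤ L) (l : L)
    (h : K.subgroupOf L ≤ MulAut.conj l • H.subgroupOf L) : K ≤ MulAut.conj (l : G) • H := by
  intro x hx
  have h1 : (⟨x, hK hx⟩ : L) ∈ K.subgroupOf L := by rw [Subgroup.mem_subgroupOf]; exact hx
  have h2 := h h1
  rw [mem_conj_smul, Subgroup.mem_subgroupOf] at h2
  rw [mem_conj_smul]
  simpa using h2

theorem le_conj_sup_of_map_le (M : Subgroup G) [M.Normal] {H K : Subgroup G} (g : G)
    (h : K.map (QuotientGroup.mk' M) ≤ MulAut.conj ((QuotientGroup.mk' M) g) • H.map (QuotientGroup.mk' M)) :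
    K ≤ (MulAut.conj g • H) ⊔ M := by
  rw [← map_conj_smul] at h
  have h1 := Subgroup.comap_mono (f := QuotientGroup.mk' M) h
  rw [Subgroup.comap_map_eq, Subgroup.comap_map_eq, QuotientGroup.ker_mk'] at h1
  exact le_sup_left.trans h1

end transfer


/-- Hall's theorems, inductive form: existence and dominance. -/
theorem hall_aux (N : ℕ) : ∀ (G : Type u) [Group G] [Finite G] [Group.IsSolvable G], Nat.card G = N →
    ∀ m n : ℕ, Nat.card G = m * n → m.Coprime n →
    (∃ H : Subgroup G, Nat.card H = m) ∧
    (∀ H K : Subgroup G, Nat.card H = m → (Nat.card K).Coprime n →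
      ∃ g : G, K ≤ MulAut.conj g • H) := by
  induction N using Nat.strong_induction_on with
  | _ N ih =>
    intro G _ _ _ hN m n hmn hcop
    have hmpos : 0 < m := by
      rcases Nat.eq_zero_or_pos m with h | h
      · rw [h, zero_mul] at hmn; exact absurd hmn Nat.card_pos.ne'
      · exact h
    by_cases htriv : (⊤ : Subgroup G) = ⊥
    · -- trivial group
      have hc1 : Nat.card G = 1 := by rw [← Subgroup.card_top, htriv, Subgroup.card_bot]
      have hm1 : m = 1 := by
        rw [hc1] at hmn; exact Nat.eq_one_of_mul_eq_one_right hmn.symm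
      refine ⟨⟨⊥, by rw [Subgroup.card_bot, hm1]⟩, ?_⟩
      intro H K _ _
      refine ⟨1, ?_⟩
      have : K = ⊥ := by rw [eq_bot_iff, ← htriv]; exact le_top
      rw [this]; exact bot_le
    -- `G` nontrivial: pick a normal elementary abelian subgroup
    have hGs : Group.IsSolvable (⊤ : Subgroup G) := inferInstance
    obtain ⟨p, hp, M, hMn, -, hMne, hMc, hMe⟩ :=
      exists_normal_elementary_abelian_le _ (⊤ : Subgroup G) rfl htriv hGs
    have : Fact p.Prime := ⟨hp⟩
    have hMp : IsPGroup p M := fun x => ⟨1, by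
      rw [pow_one]; exact Subtype.ext (by simpa using hMe x x.2)⟩
    obtain ⟨k, hk⟩ := hMp.exists_card_eq
    have hpk : 0 < p ^ k := pow_pos hp.pos k
    have hk0 : k ≠ 0 := by
      rintro rfl
      rw [pow_zero, Subgroup.card_eq_one] at hk
      exact hMne hk
    have hQlt : Nat.card (G ⧸ M) < N := hN ▸ card_quotient_lt_of_ne_bot hMne
    have hQcard : Nat.card (G ⧸ M) * p ^ k = m * n := by
      rw [← hmn, ← hk, ← Subgroup.index_eq_card, mul_comm, Subgroup.card_mul_index]
    by_cases hpm : p ∣ m
    · -- Case 1: `p ∣ m`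
      have hpn' : ¬ p ∣ n := by
        intro hpn
        have := Nat.dvd_gcd hpm hpn
        rw [Nat.Coprime.gcd_eq_one hcop] at this
        exact hp.one_lt.ne' (Nat.dvd_one.mp this)
      have hpn : (p ^ k).Coprime n := Nat.Coprime.pow_left k ((hp.coprime_iff_not_dvd).mpr hpn')
      have hpkm : p ^ k ∣ m := hpn.dvd_of_dvd_mul_right (Dvd.intro_left _ hQcard)
      obtain ⟨m', hm'⟩ := hpkm
      have hQ : Nat.card (G ⧸ M) = m' * n := by
        apply Nat.eq_of_mul_eq_mul_right hpk
        rw [hQcard, hm']; ring
      have hcop' : m'.Coprime n := Nat.Coprime.coprime_dvd_left (Dvd.intro_left _ hm'.symm) hcop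
      obtain ⟨⟨Hbar, hHbar⟩, hD⟩ := ih _ hQlt (G ⧸ M) rfl m' n hQ hcop'
      constructor
      · refine ⟨Hbar.comap (QuotientGroup.mk' M), ?_⟩
        rw [card_comap_mk, hHbar, hk, hm']; ring
      · intro H K hH hK
        have hMH : M ≤ H := by
          have h1 : Nat.card (H ⊔ M : Subgroup G) ∣ m * p ^ k := by
            rw [← hH, ← hk]; exact card_sup_dvd_of_normal H M
          have h2 : Nat.card (H ⊔ M : Subgroup G) ∣ m * n :=
            hmn ▸ Subgroup.card_subgroup_dvd_card _
          have h3 : Nat.card (H ⊔ M : Subgroup G) ∣ m := by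
            have := Nat.dvd_gcd h1 h2
            rwa [Nat.gcd_mul_left, hpn.gcd_eq_one, mul_one] at this
          have h4 : H = H ⊔ M :=
            Subgroup.eq_of_le_of_card_ge le_sup_left (by rw [hH]; exact Nat.le_of_dvd hmpos h3)
          rw [h4]; exact le_sup_right
        have hHbar' : Nat.card (H.map (QuotientGroup.mk' M)) = m' := by
          have := card_map_mk_of_le M hMH
          rw [hk, hH, hm', mul_comm] at this
          exact Nat.eq_of_mul_eq_mul_left hpk this
        have hKbar : (Nat.card (K.map (QuotientGroup.mk' M))).Coprime n :=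
          Nat.Coprime.coprime_dvd_left (Subgroup.card_map_dvd _ _) hK
        obtain ⟨gbar, hg⟩ := hD (H.map (QuotientGroup.mk' M)) (K.map (QuotientGroup.mk' M)) hHbar' hKbar
        obtain ⟨g, rfl⟩ := QuotientGroup.mk'_surjective M gbar
        refine ⟨g, ?_⟩
        have h1 := le_conj_sup_of_map_le M g hg
        have h2 : (MulAut.conj g • H) ⊔ M = MulAut.conj g • H := by
          rw [sup_eq_left]
          conv_lhs => rw [← Subgroup.Normal.conj_smul_eq_self g M]
          exact Subgroup.pointwise_smul_le_pointwise_smul_iff.mpr hMH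
        rwa [h2] at h1
    · -- Case 2: `p ∤ m`
      have hpm' : (p ^ k).Coprime m := Nat.Coprime.pow_left k ((hp.coprime_iff_not_dvd).mpr hpm)
      have hpkn : p ^ k ∣ n := hpm'.dvd_of_dvd_mul_left (Dvd.intro_left _ hQcard)
      obtain ⟨n', hn'⟩ := hpkn
      have hQ : Nat.card (G ⧸ M) = m * n' := by
        apply Nat.eq_of_mul_eq_mul_right hpk
        rw [hQcard, hn']; ring
      have hcop' : m.Coprime n' := Nat.Coprime.coprime_dvd_right (Dvd.intro_left _ hn'.symm) hcop
      obtain ⟨⟨Lbar, hLbar⟩, hD⟩ := ih _ hQlt (G ⧸ M) rfl m n' hQ hcop'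
      constructor
      · -- existence, by Schur–Zassenhaus inside the preimage of `Lbar`
        have hML : M ≤ Lbar.comap (QuotientGroup.mk' M) := by
          conv_lhs => rw [← QuotientGroup.ker_mk' M]
          exact MonoidHom.ker_le_comap _ _
        have hLcard : Nat.card (Lbar.comap (QuotientGroup.mk' M)) = m * p ^ k := by
          rw [card_comap_mk, hLbar, hk]
        generalize Lbar.comap (QuotientGroup.mk' M) = L at hML hLcard
        have hM'card : Nat.card (M.subgroupOf L) = p ^ k := by
          rw [Nat.card_congr (Subgroup.subgroupOfEquivOfLe hML).toEquiv, hk]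
        have hM'idx : (M.subgroupOf L).index = m := by
          have := Subgroup.card_mul_index (M.subgroupOf L)
          rw [hM'card, hLcard, mul_comm] at this
          exact Nat.eq_of_mul_eq_mul_right hpk this
        obtain ⟨H', hH'⟩ := Subgroup.exists_right_complement'_of_coprime
          (N := M.subgroupOf L) (by rw [hM'card, hM'idx]; exact hpm')
        refine ⟨H'.map L.subtype, ?_⟩
        rw [← Nat.card_congr (H'.equivMapOfInjective _ L.subtype_injective).toEquiv,
          ← hM'idx]
        exact hH'.symm.index_eq_card.symm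
      · intro H K hH hK
        have hKp : (Nat.card K).Coprime (p ^ k) :=
          Nat.Coprime.coprime_dvd_right (Dvd.intro _ hn'.symm) hK
        have hHM : H ⊓ M = ⊥ := by
          rw [← disjoint_iff]
          apply Subgroup.disjoint_of_coprime_natCard
          rw [hH, hk]; exact hpm'.symm
        have hHbar' : Nat.card (H.map (QuotientGroup.mk' M)) = m := by
          rw [card_map_mk_of_disjoint M hHM, hH]
        have hKbar : (Nat.card (K.map (QuotientGroup.mk' M))).Coprime n' :=
          Nat.Coprime.coprime_dvd_left (Subgroup.card_map_dvd _ _)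
            (Nat.Coprime.coprime_dvd_right (Dvd.intro_left _ hn'.symm) hK)
        obtain ⟨gbar, hg⟩ := hD (H.map (QuotientGroup.mk' M)) (K.map (QuotientGroup.mk' M)) hHbar' hKbar
        obtain ⟨g, rfl⟩ := QuotientGroup.mk'_surjective M gbar
        have hKL := le_conj_sup_of_map_le M g hg
        have hH₁ : Nat.card (MulAut.conj g • H : Subgroup G) = m := by rw [card_conj_smul, hH]
        obtain ⟨H₁, hH₁def⟩ : ∃ H₁, H₁ = MulAut.conj g • H := ⟨_, rfl⟩
        rw [← hH₁def] at hKL hH₁
        have hH₁M : H₁ ⊓ M = ⊥ := by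
          rw [← disjoint_iff]
          apply Subgroup.disjoint_of_coprime_natCard
          rw [hH₁, hk]; exact hpm'.symm
        have hLcard : Nat.card (H₁ ⊔ M : Subgroup G) = m * p ^ k := by
          have := card_sup_mul_card_inf H₁ M
          rwa [hH₁M, Subgroup.card_bot, mul_one, hH₁, hk] at this
        suffices hmain : ∃ x : G, K ≤ MulAut.conj x • H₁ by
          obtain ⟨x, hx⟩ := hmain
          exact ⟨x * g, by rw [map_mul, mul_smul, ← hH₁def]; exact hx⟩
        by_cases hL : H₁ ⊔ M = ⊤
        · -- `M` is a normal abelian Hall subgroup of `G` with complement `H₁`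
          have hGcard : Nat.card G = m * p ^ k := by
            rw [← hLcard, hL, Subgroup.card_top]
          have hc : IsComplement' M H₁ := by
            apply Subgroup.isComplement'_of_coprime
            · rw [hk, hH₁, hGcard, mul_comm]
            · rw [hk, hH₁]; exact hpm'
          have hKM : K ⊓ M = ⊥ := by
            rw [← disjoint_iff]
            apply Subgroup.disjoint_of_coprime_natCard
            rw [hk]; exact hKp
          have hL₂card : Nat.card (K ⊔ M : Subgroup G) = Nat.card K * p ^ k := by
            have := card_sup_mul_card_inf K M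
            rwa [hKM, Subgroup.card_bot, mul_one, hk] at this
          have hML₂ : M ≤ K ⊔ M := le_sup_right
          have hKL₂ : K ≤ K ⊔ M := le_sup_left
          generalize K ⊔ M = L₂ at hL₂card hML₂ hKL₂
          have hc1 : IsComplement' (M.subgroupOf L₂) (H₁.subgroupOf L₂) :=
            IsComplement'.subgroupOf_of_le_left hc hML₂
          have hM'card : Nat.card (M.subgroupOf L₂) = p ^ k := by
            rw [Nat.card_congr (Subgroup.subgroupOfEquivOfLe hML₂).toEquiv, hk]
          have hK'card : Nat.card (K.subgroupOf L₂) = Nat.card K :=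
            Nat.card_congr (Subgroup.subgroupOfEquivOfLe hKL₂).toEquiv
          have hc2 : IsComplement' (M.subgroupOf L₂) (K.subgroupOf L₂) := by
            apply Subgroup.isComplement'_of_coprime
            · rw [hM'card, hK'card, hL₂card, mul_comm]
            · rw [hM'card, hK'card]; exact hKp.symm
          have hcopL₂ : (Nat.card (M.subgroupOf L₂)).Coprime (M.subgroupOf L₂).index := by
            rw [hc2.symm.index_eq_card, hM'card, hK'card]; exact hKp.symm
          obtain ⟨a, -, ha⟩ := conj_complement_of_abelian (M.subgroupOf L₂) hcopL₂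
            (H₁.subgroupOf L₂) (K.subgroupOf L₂) hc1 hc2
          exact ⟨a, le_conj_of_subgroupOf_le hKL₂ a ha.ge⟩
        · -- induction inside `L = H₁ ⊔ M`
          have hH₁L : H₁ ≤ H₁ ⊔ M := le_sup_left
          have hLlt : Nat.card (H₁ ⊔ M : Subgroup G) < N := hN ▸ card_subgroup_lt_of_ne_top hL
          generalize H₁ ⊔ M = L at hKL hLcard hH₁L hLlt
          obtain ⟨-, hD'⟩ := ih _ hLlt L rfl m (p ^ k) hLcard hpm'.symm
          have h1 : Nat.card (H₁.subgroupOf L) = m := by
            rw [Nat.card_congr (Subgroup.subgroupOfEquivOfLe hH₁L).toEquiv, hH₁]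
          have h2 : (Nat.card (K.subgroupOf L)).Coprime (p ^ k) := by
            rw [Nat.card_congr (Subgroup.subgroupOfEquivOfLe hKL).toEquiv]; exact hKp
          obtain ⟨l, hl⟩ := hD' (H₁.subgroupOf L) (K.subgroupOf L) h1 h2
          exact ⟨l, le_conj_of_subgroupOf_le hKL l hl⟩

section main

variable {G : Type u} [Group G] [Finite G] [Group.IsSolvable G]

/-- **Hall's theorem**, existence. -/
theorem hall_exists (m n : ℕ) (hG : Nat.card G = m * n) (hmn : m.Coprime n) :
    ∃ H : Subgroup G, Nat.card H = m :=
  (hall_aux _ G rfl m n hG hmn).1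

/-- **Hall's theorem**, dominance, conjugate form. -/
theorem hall_le_conj (m n : ℕ) (hG : Nat.card G = m * n) (hmn : m.Coprime n)
    (H K : Subgroup G) (hH : Nat.card H = m) (hK : (Nat.card K).Coprime n) :
    ∃ g : G, K ≤ MulAut.conj g • H :=
  (hall_aux _ G rfl m n hG hmn).2 H K hH hK

/-- **Hall's theorem**, conjugacy. -/
theorem hall_conj (m n : ℕ) (hG : Nat.card G = m * n) (hmn : m.Coprime n)
    (H K : Subgroup G) (hH : Nat.card H = m) (hK : Nat.card K = m) :
    ∃ g : G, MulAut.conj g • H = K := by
  obtain ⟨g, hg⟩ := hall_le_conj m n hG hmn H K hH (hK ▸ hmn)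
  exact ⟨g, (Subgroup.eq_of_le_of_card_ge hg (by rw [card_conj_smul, hH, hK])).symm⟩

/-- **Hall's theorem**, dominance. -/
theorem hall_dominance (m n : ℕ) (hG : Nat.card G = m * n) (hmn : m.Coprime n)
    (K : Subgroup G) (hK : (Nat.card K).Coprime n) :
    ∃ H : Subgroup G, Nat.card H = m ∧ K ≤ H := by
  obtain ⟨H, hH⟩ := hall_exists m n hG hmn
  obtain ⟨g, hg⟩ := hall_le_conj m n hG hmn H K hH hK
  exact ⟨MulAut.conj g • H, by rw [card_conj_smul, hH], hg⟩

end main

end Cfsg.Agent.Lib.Helper1
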