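import Mathlib
import Cfsg.Agent.Lib.Helper1.Basic
import Cfsg.Agent.Lib.Helper1.Cores
import Cfsg.Agent.Lib.Helper1.SZ
import Cfsg.Agent.Lib.Helper1.Hall

/-!
Coprime action: Glauberman's lemma and its consequences.
-/

set_option autoImplicit false

namespace Cfsg.Agent.Lib.Helper1

open Pointwise
open scoped commutatorElement
open Subgroup

universe u

section NC

variable {G : Type*} [Group G]

/-- If `H` normalizes `K` and `K ⊓ H = ⊥`, then an element of `K` normalizing `H` centralizes `H`. -/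
theorem mem_centralizer_of_mem_normalizer {K H : Subgroup G} (hHK : H ≤ normalizer (K : Set G))
    (hdis : K ⊓ H = ⊥) {c : G} (hcK : c ∈ K) (hcH : c ∈ normalizer (H : Set G)) :
    c ∈ centralizer (H : Set G) := by
  rw [Subgroup.mem_centralizer_iff]
  intro h hh
  have h1 : c * h * c⁻¹ ∈ H := (Subgroup.mem_normalizer_iff.mp hcH h).mp hh
  have h2 : h * c⁻¹ * h⁻¹ ∈ K := (Subgroup.mem_normalizer_iff.mp (hHK hh) c⁻¹).mp (inv_mem hcK)
  have h3 : c * h * c⁻¹ * h⁻¹ ∈ K ⊓ H := by
    refine Subgroup.mem_inf.mpr ⟨?_, mul_mem h1 (inv_mem hh)⟩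
    have : c * h * c⁻¹ * h⁻¹ = c * (h * c⁻¹ * h⁻¹) := by group
    rw [this]; exact mul_mem hcK h2
  rw [hdis, Subgroup.mem_bot] at h3
  have : c * h = h * c := by
    have h4 : c * h * c⁻¹ * h⁻¹ * (h * c) = h * c := by rw [h3, one_mul]
    rw [← h4]; group
  exact this.symm

theorem conj_smul_eq_self_iff_mem_normalizer {H : Subgroup G} {g : G} :
    MulAut.conj g • H = H ↔ g ∈ normalizer (H : Set G) := by
  rw [Subgroup.mem_normalizer_iff]
  constructor
  · intro h x
    constructor
    · intro hx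
      rw [← h, mem_conj_smul]
      simpa [mul_assoc] using hx
    · intro hx
      rw [← h, mem_conj_smul] at hx
      simpa [mul_assoc] using hx
  · intro h
    ext x
    rw [mem_conj_smul]
    have := h (g⁻¹ * x * g)
    rw [this]
    simp [mul_assoc]

/-- To show `K ≤ N(N)` it suffices that conjugates of elements of `N` by elements of `K` stay in `N`. -/
theorem le_normalizer_of_forall_conj_mem {K N : Subgroup G}
    (h : ∀ x ∈ K, ∀ n ∈ N, x * n * x⁻¹ ∈ N) : K ≤ normalizer (N : Set G) := by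
  intro x hx
  rw [Subgroup.mem_normalizer_iff]
  intro n
  refine ⟨h x hx n, fun hn => ?_⟩
  have := h x⁻¹ (inv_mem hx) _ hn
  simpa [mul_assoc] using this

/-- If `A` normalizes `K` then `[K, A] ≤ K`. -/
theorem commutator_le_of_le_normalizer {K A : Subgroup G} (hAK : A ≤ normalizer (K : Set G)) :
    ⁅K, A⁆ ≤ K := by
  rw [Subgroup.commutator_le]
  intro k hk a ha
  rw [commutatorElement_def]
  have h1 : a * k⁻¹ * a⁻¹ ∈ K := (Subgroup.mem_normalizer_iff.mp (hAK ha) _).mp (inv_mem hk)
  have : k * a * k⁻¹ * a⁻¹ = k * (a * k⁻¹ * a⁻¹) := by group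
  rw [this]; exact mul_mem hk h1

/-- If `A` normalizes `K` then `K` normalizes `[K, A]`. -/
theorem le_normalizer_commutator_left {K A : Subgroup G} :
    K ≤ normalizer ((⁅K, A⁆ : Subgroup G) : Set G) := by
  apply le_normalizer_of_forall_conj_mem
  intro x hx n hn
  induction hn using Subgroup.closure_induction with
  | mem y hy =>
    obtain ⟨k, hk, a, ha, rfl⟩ := hy
    have h1 : x * ⁅k, a⁆ * x⁻¹ = ⁅x * k, a⁆ * ⁅x, a⁆⁻¹ := by
      simp only [commutatorElement_def]; group
    rw [h1]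
    exact mul_mem (Subgroup.commutator_mem_commutator (mul_mem hx hk) ha)
      (inv_mem (Subgroup.commutator_mem_commutator hx ha))
  | one => simp
  | mul y z _ _ hy hz =>
    have : x * (y * z) * x⁻¹ = (x * y * x⁻¹) * (x * z * x⁻¹) := by group
    rw [this]; exact mul_mem hy hz
  | inv y _ hy =>
    have : x * y⁻¹ * x⁻¹ = (x * y * x⁻¹)⁻¹ := by group
    rw [this]; exact inv_mem hy

/-- `A` normalizes `[K, A]`. -/
theorem le_normalizer_commutator_right {K A : Subgroup G} :
    A ≤ normalizer ((⁅K, A⁆ : Subgroup G) : Set G) := by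
  rw [Subgroup.commutator_comm]
  exact le_normalizer_commutator_left

end NC

section Glauberman

variable {G : Type u} [Group G] [Finite G] {X : Type*} [MulAction G X]

/-- Glauberman's lemma, existence of a fixed point. -/
theorem glauberman_exists [Nonempty X] (K H : Subgroup G) [K.Normal]
    (hc : IsComplement' K H) (hcop : (Nat.card K).Coprime K.index)
    (hsolv : Group.IsSolvable K ∨ Group.IsSolvable (G ⧸ K))
    (htrans : MulAction.IsPretransitive K X) :
    ∃ x : X, ∀ h ∈ H, h • x = x := by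
  obtain ⟨x₀⟩ := (inferInstance : Nonempty X)
  -- the stabilizer of `x₀`
  have hSK : MulAction.stabilizer G x₀ ⊔ K = ⊤ := by
    rw [eq_top_iff]
    intro g _
    obtain ⟨k, hk⟩ := MulAction.exists_smul_eq K x₀ (g • x₀)
    have h1 : (k : G)⁻¹ * g ∈ MulAction.stabilizer G x₀ := by
      rw [MulAction.mem_stabilizer_iff, mul_smul, ← hk]
      exact inv_smul_smul (k : G) x₀
    have : g = (k : G) * ((k : G)⁻¹ * g) := by group
    rw [this]
    exact mul_mem (Subgroup.mem_sup_right k.2) (Subgroup.mem_sup_left h1)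
  have hSfix : ∀ s ∈ MulAction.stabilizer G x₀, s • x₀ = x₀ := fun s hs => hs
  generalize MulAction.stabilizer G x₀ = S at hSK hSfix
  obtain ⟨hc', hs'⟩ := szhyp_subgroupOf K hcop hsolv S
  obtain ⟨B', hB'⟩ := Subgroup.exists_right_complement'_of_coprime hc'
  have hidx : (K.subgroupOf S).index = K.index := by
    change K.relIndex S = K.index
    rw [← Subgroup.relIndex_sup_right, hSK, Subgroup.relIndex_top_right]
  have hBcard : Nat.card (B'.map S.subtype) = K.index := by
    rw [← Nat.card_congr (B'.equivMapOfInjective _ S.subtype_injective).toEquiv, ← hidx]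
    exact hB'.symm.index_eq_card.symm
  have hB : IsComplement' K (B'.map S.subtype) := by
    apply Subgroup.isComplement'_of_coprime
    · rw [hBcard, Subgroup.card_mul_index]
    · rw [hBcard]; exact hcop
  obtain ⟨g, hg⟩ := sz_conj K hcop hsolv _ _ hB hc
  refine ⟨g • x₀, ?_⟩
  intro h hh
  rw [← hg, mem_conj_smul] at hh
  have hbS : g⁻¹ * h * g ∈ S := (Subgroup.map_subtype_le B') hh
  have := hSfix _ hbS
  rw [mul_smul, mul_smul] at this
  rw [inv_smul_eq_iff] at this
  exact this

/-- Glauberman's lemma, transitivity of the centralizer on fixed points. -/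
theorem glauberman_conj (K H : Subgroup G) [K.Normal]
    (hc : IsComplement' K H) (hcop : (Nat.card K).Coprime K.index)
    (hsolv : Group.IsSolvable K ∨ Group.IsSolvable (G ⧸ K))
    (htrans : MulAction.IsPretransitive K X) (x y : X)
    (hx : ∀ h ∈ H, h • x = x) (hy : ∀ h ∈ H, h • y = y) :
    ∃ k ∈ K ⊓ centralizer (H : Set G), k • x = y := by
  obtain ⟨k, hk⟩ := MulAction.exists_smul_eq K x y
  have hk' : (k : G) • x = y := hk
  have hHS : H ≤ MulAction.stabilizer G x := fun h hh => hx h hh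
  have hH₂S : MulAut.conj (k : G)⁻¹ • H ≤ MulAction.stabilizer G x := by
    intro h hh
    rw [mem_conj_smul, inv_inv] at hh
    rw [MulAction.mem_stabilizer_iff]
    have h1 := hy _ hh
    rw [mul_smul, mul_smul, ← hk', inv_smul_smul, smul_left_cancel_iff] at h1
    exact h1
  have hSfix : ∀ s ∈ MulAction.stabilizer G x, s • x = x := fun s hs => hs
  generalize MulAction.stabilizer G x = S at hHS hH₂S hSfix
  obtain ⟨hc', hs'⟩ := szhyp_subgroupOf K hcop hsolv S
  have hc1 : IsComplement' (K.subgroupOf S) (H.subgroupOf S) :=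
    IsComplement'.subgroupOf_of_le_right hc hHS
  have hc2 : IsComplement' (K.subgroupOf S) ((MulAut.conj (k : G)⁻¹ • H).subgroupOf S) :=
    IsComplement'.subgroupOf_of_le_right (IsComplement'.conj_smul hc _) hH₂S
  obtain ⟨s, hs⟩ := sz_conj (K.subgroupOf S) hc' hs' _ _ hc1 hc2
  have hs2 : MulAut.conj (s : G) • H = MulAut.conj (k : G)⁻¹ • H :=
    conj_of_conj_subgroupOf hHS hH₂S s hs
  -- decompose `s = n * h'`
  obtain ⟨n, hn, h', hh', hnh⟩ := IsComplement'.exists_mul_eq hc1 s
  rw [Subgroup.mem_subgroupOf] at hn hh'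
  have hs3 : MulAut.conj (n : G) • H = MulAut.conj (k : G)⁻¹ • H := by
    rw [← hs2, ← hnh, Subgroup.coe_mul, map_mul, mul_smul, Subgroup.conj_smul_eq_self_of_mem hh']
  -- `c = k * n` normalizes `H`
  have hcn : MulAut.conj ((k : G) * n) • H = H := by
    rw [map_mul, mul_smul, hs3, ← mul_smul, ← map_mul, mul_inv_cancel, map_one, one_smul]
  refine ⟨(k : G) * n, Subgroup.mem_inf.mpr ⟨mul_mem k.2 hn, ?_⟩, ?_⟩
  · apply mem_centralizer_of_mem_normalizer (K := K) (H := H)
    · rw [Subgroup.normalizer_eq_top]; exact le_top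
    · exact disjoint_iff.mp hc.disjoint
    · exact mul_mem k.2 hn
    · exact conj_smul_eq_self_iff_mem_normalizer.mp hcn
  · rw [mul_smul, hSfix _ n.2, hk']

end Glauberman

/-- `A` acts coprimely on `K` (inside a common ambient group), one of the two being solvable. -/
structure CoprimeAct {G : Type*} [Group G] (A K : Subgroup G) : Prop where
  norm : A ≤ normalizer (K : Set G)
  cop : (Nat.card A).Coprime (Nat.card K)
  solv : Group.IsSolvable A ∨ Group.IsSolvable K

namespace CoprimeAct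

variable {G : Type u} [Group G] {A K : Subgroup G}

theorem inf_eq_bot (h : CoprimeAct A K) : K ⊓ A = ⊥ :=
  disjoint_iff.mp (Subgroup.disjoint_of_coprime_natCard h.cop.symm)

theorem normal (h : CoprimeAct A K) : (K.subgroupOf (A ⊔ K)).Normal :=
  Subgroup.normal_subgroupOf_sup_of_le_normalizer h.norm

theorem complement (h : CoprimeAct A K) :
    IsComplement' (K.subgroupOf (A ⊔ K)) (A.subgroupOf (A ⊔ K)) := by
  have := h.normal
  apply isComplement'_of_disjoint_of_sup_eq_top
  · rw [disjoint_iff, eq_bot_iff]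
    intro x hx
    rw [Subgroup.mem_inf, Subgroup.mem_subgroupOf, Subgroup.mem_subgroupOf] at hx
    have : (x : G) ∈ K ⊓ A := Subgroup.mem_inf.mpr hx
    rw [h.inf_eq_bot, Subgroup.mem_bot] at this
    rw [Subgroup.mem_bot]
    exact Subtype.ext this
  · rw [sup_comm (K.subgroupOf (A ⊔ K))]
    exact codisjoint_iff.mp (Subgroup.codisjoint_subgroupOf_sup A K)

theorem card_subgroupOf_left (_h : CoprimeAct A K) :
    Nat.card (K.subgroupOf (A ⊔ K)) = Nat.card K :=
  Nat.card_congr (Subgroup.subgroupOfEquivOfLe (le_sup_right : K ≤ A ⊔ K)).toEquiv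

theorem card_subgroupOf_right (_h : CoprimeAct A K) :
    Nat.card (A.subgroupOf (A ⊔ K)) = Nat.card A :=
  Nat.card_congr (Subgroup.subgroupOfEquivOfLe (le_sup_left : A ≤ A ⊔ K)).toEquiv

theorem hall (h : CoprimeAct A K) :
    (Nat.card (K.subgroupOf (A ⊔ K))).Coprime (K.subgroupOf (A ⊔ K)).index := by
  have := h.normal
  rw [h.complement.symm.index_eq_card, h.card_subgroupOf_left, h.card_subgroupOf_right]
  exact h.cop.symm

theorem solvable (h : CoprimeAct A K) :
    haveI := h.normal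
    Group.IsSolvable (K.subgroupOf (A ⊔ K)) ∨
      Group.IsSolvable (↥(A ⊔ K) ⧸ K.subgroupOf (A ⊔ K)) := by
  have := h.normal
  rcases h.solv with hs | hs
  · right
    let f : A →* ↥(A ⊔ K) ⧸ K.subgroupOf (A ⊔ K) :=
      (QuotientGroup.mk' _).comp (Subgroup.inclusion le_sup_left)
    have hf : Function.Surjective f := by
      intro y
      induction y using QuotientGroup.induction_on with
      | H y =>
        obtain ⟨n, hn, a, ha, hna⟩ := IsComplement'.exists_mul_eq h.complement y
        rw [Subgroup.mem_subgroupOf] at ha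
        refine ⟨⟨a, ha⟩, ?_⟩
        change ((QuotientGroup.mk' (K.subgroupOf (A ⊔ K))) a) = (QuotientGroup.mk' _) y
        have hn1 : (QuotientGroup.mk' (K.subgroupOf (A ⊔ K))) n = 1 :=
          (QuotientGroup.eq_one_iff n).mpr hn
        rw [← hna, map_mul, hn1, one_mul]
    exact Group.isSolvable_of_surjective hf
  · left
    exact Group.isSolvable_of_isSolvable_injective
      (f := (Subgroup.subgroupOfEquivOfLe (le_sup_right : K ≤ A ⊔ K)).toMonoidHom)
      (Subgroup.subgroupOfEquivOfLe (le_sup_right : K ≤ A ⊔ K)).injective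

/-- Restriction of a coprime action to an invariant subgroup. -/
theorem mono (h : CoprimeAct A K) {U : Subgroup G} (hU : U ≤ K)
    (hUA : A ≤ normalizer (U : Set G)) : CoprimeAct A U where
  norm := hUA
  cop := Nat.Coprime.coprime_dvd_right (Subgroup.card_dvd_of_le hU) h.cop
  solv := by
    rcases h.solv with hs | hs
    · exact Or.inl hs
    · exact Or.inr (Group.isSolvable_of_isSolvable_injective (Subgroup.inclusion_injective hU))

/-- `N_K(A) = C_K(A)` under coprime action. -/
theorem mem_centralizer_of_mem_normalizer (h : CoprimeAct A K) {c : G} (hcK : c ∈ K)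
    (hcA : c ∈ normalizer (A : Set G)) : c ∈ centralizer (A : Set G) :=
  Cfsg.Agent.Lib.Helper1.mem_centralizer_of_mem_normalizer h.norm h.inf_eq_bot hcK hcA

variable [Finite G]

/-- Schur–Zassenhaus conjugacy in subgroup form: a subgroup `B` of `A K` of the same order as `A`
is conjugate to `A` by an element of `K`. -/
theorem exists_conj_eq (h : CoprimeAct A K) (B : Subgroup G) (hB : B ≤ A ⊔ K)
    (hcard : Nat.card B = Nat.card A) : ∃ k ∈ K, MulAut.conj k • A = B := by
  have := h.normal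
  have hB' : IsComplement' (K.subgroupOf (A ⊔ K)) (B.subgroupOf (A ⊔ K)) := by
    have hBc : Nat.card (B.subgroupOf (A ⊔ K)) = Nat.card A := by
      rw [Nat.card_congr (Subgroup.subgroupOfEquivOfLe hB).toEquiv, hcard]
    apply Subgroup.isComplement'_of_coprime
    · rw [hBc, ← h.card_subgroupOf_right]; exact h.complement.card_mul_card
    · rw [hBc, h.card_subgroupOf_left]; exact h.cop.symm
  obtain ⟨l, hl⟩ := sz_conj (K.subgroupOf (A ⊔ K)) h.hall h.solvable _ _ h.complement hB'
  have hl2 : MulAut.conj (l : G) • A = B := conj_of_conj_subgroupOf le_sup_left hB l hl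
  obtain ⟨n, hn, a, ha, hna⟩ := IsComplement'.exists_mul_eq h.complement l
  rw [Subgroup.mem_subgroupOf] at hn ha
  refine ⟨n, hn, ?_⟩
  rw [← hl2, ← hna, Subgroup.coe_mul, map_mul, mul_smul, Subgroup.conj_smul_eq_self_of_mem ha]

/-- An `A`-invariant left coset of an `A`-invariant subgroup `K` contains a fixed point:
if `x⁻¹ * (a * x * a⁻¹) ∈ K` for all `a ∈ A`, then `x * u` centralizes `A` for some `u ∈ K`. -/
theorem exists_mul_mem_normalizer (h : CoprimeAct A K) (x : G)
    (hx : ∀ a ∈ A, x⁻¹ * (a * x * a⁻¹) ∈ K) :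
    ∃ u ∈ K, x * u ∈ normalizer (A : Set G) := by
  have hB : MulAut.conj x⁻¹ • A ≤ A ⊔ K := by
    rw [conj_smul_le_iff]
    intro a ha
    rw [inv_inv]
    have h1 : x⁻¹ * a * x = (x⁻¹ * (a * x * a⁻¹)) * a := by group
    rw [h1]
    exact mul_mem (Subgroup.mem_sup_right (hx a ha)) (Subgroup.mem_sup_left ha)
  obtain ⟨k, hk, hkA⟩ := h.exists_conj_eq _ hB (card_conj_smul _ _)
  refine ⟨k, hk, ?_⟩
  rw [← conj_smul_eq_self_iff_mem_normalizer, map_mul, mul_smul, hkA, ← mul_smul, ← map_mul,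
    mul_inv_cancel, map_one, one_smul]

/-- Fixed points on invariant cosets (left coset form): if `N ≤ K` is `A`-invariant and the coset
`x N` (with `x ∈ K`) is `A`-invariant, it contains an element centralized by `A`. -/
theorem exists_mul_mem_centralizer (h : CoprimeAct A K) {N : Subgroup G} (hNK : N ≤ K)
    (hNA : A ≤ normalizer (N : Set G)) (x : G) (hxK : x ∈ K)
    (hx : ∀ a ∈ A, x⁻¹ * (a * x * a⁻¹) ∈ N) :
    ∃ u ∈ N, x * u ∈ K ⊓ centralizer (A : Set G) := by
  obtain ⟨u, hu, hxu⟩ := (h.mono hNK hNA).exists_mul_mem_normalizer x hx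
  have hxuK : x * u ∈ K := mul_mem hxK (hNK hu)
  exact ⟨u, hu, Subgroup.mem_inf.mpr ⟨hxuK, h.mem_centralizer_of_mem_normalizer hxuK hxu⟩⟩

/-- `K = [K, A] C_K(A)` under coprime action. -/
theorem commutator_sup_centralizer (h : CoprimeAct A K) :
    ⁅K, A⁆ ⊔ (K ⊓ centralizer (A : Set G)) = K := by
  apply le_antisymm
  · exact sup_le (commutator_le_of_le_normalizer h.norm) inf_le_left
  · intro k hk
    have hx : ∀ a ∈ A, k⁻¹ * (a * k * a⁻¹) ∈ ⁅K, A⁆ := by
      intro a ha
      have : k⁻¹ * (a * k * a⁻¹) = ⁅k⁻¹, a⁆ := by rw [commutatorElement_def]; group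
      rw [this]
      exact Subgroup.commutator_mem_commutator (inv_mem hk) ha
    obtain ⟨u, hu, hc⟩ := h.exists_mul_mem_centralizer (commutator_le_of_le_normalizer h.norm)
      le_normalizer_commutator_right k hk hx
    have : k = (k * u) * u⁻¹ := by group
    rw [this, sup_comm]
    exact mul_mem (Subgroup.mem_sup_left hc) (Subgroup.mem_sup_right (inv_mem hu))

/-- `[K, A, A] = [K, A]` under coprime action. -/
theorem commutator_commutator_eq (h : CoprimeAct A K) : ⁅⁅K, A⁆, A⁆ = ⁅K, A⁆ := by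
  apply le_antisymm
  · exact commutator_le_of_le_normalizer le_normalizer_commutator_right
  · rw [Subgroup.commutator_le]
    intro k hk a ha
    have hx : ∀ a ∈ A, k⁻¹⁻¹ * (a * k⁻¹ * a⁻¹) ∈ ⁅K, A⁆ := by
      intro a ha
      have : k⁻¹⁻¹ * (a * k⁻¹ * a⁻¹) = ⁅k, a⁆ := by rw [commutatorElement_def]; group
      rw [this]
      exact Subgroup.commutator_mem_commutator hk ha
    obtain ⟨u, hu, hc⟩ := h.exists_mul_mem_centralizer (commutator_le_of_le_normalizer h.norm)
      le_normalizer_commutator_right k⁻¹ (inv_mem hk) hx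
    have hc2 := Subgroup.mem_centralizer_iff.mp (Subgroup.mem_inf.mp hc).2 a ha
    -- `k = u * (k⁻¹ * u)⁻¹`
    have h1 : ⁅k, a⁆ = ⁅u, a⁆ := by
      have hk' : k = u * (k⁻¹ * u)⁻¹ := by group
      have hcomm : (k⁻¹ * u)⁻¹ * a = a * (k⁻¹ * u)⁻¹ := by
        have := congrArg (fun z => (k⁻¹ * u)⁻¹ * z * (k⁻¹ * u)⁻¹) hc2
        simpa [mul_assoc] using this
      rw [commutatorElement_def, commutatorElement_def]
      conv_lhs => rw [hk']
      generalize (k⁻¹ * u)⁻¹ = c at hcomm
      have : u * c * a * (u * c)⁻¹ * a⁻¹ = u * (c * a) * c⁻¹ * u⁻¹ * a⁻¹ := by group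
      rw [this, hcomm]; group
    rw [h1]
    exact Subgroup.commutator_mem_commutator hu ha

/-- Fixed points of a product of two invariant subgroups factor. -/
theorem centralizer_mul (h : CoprimeAct A K) {X Y : Subgroup G} (hX : X ≤ K) (_hY : Y ≤ K)
    (hXA : A ≤ normalizer (X : Set G)) (hYA : A ≤ normalizer (Y : Set G))
    (hXY : ∀ k ∈ K, ∃ x ∈ X, ∃ y ∈ Y, k = x * y) (k : G)
    (hk : k ∈ K ⊓ centralizer (A : Set G)) :
    ∃ x ∈ X ⊓ centralizer (A : Set G), ∃ y ∈ Y ⊓ centralizer (A : Set G), k = x * y := by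
  obtain ⟨hkK, hkC⟩ := Subgroup.mem_inf.mp hk
  obtain ⟨x, hx, y, hy, hxy⟩ := hXY k hkK
  have hDA : A ≤ normalizer ((X ⊓ Y : Subgroup G) : Set G) :=
    (le_inf hXA hYA).trans Subgroup.inf_normalizer_le_normalizer_inf
  have hfix : ∀ a ∈ A, x⁻¹ * (a * x * a⁻¹) ∈ X ⊓ Y := by
    intro a ha
    have hxa : a * x * a⁻¹ ∈ X := (Subgroup.mem_normalizer_iff.mp (hXA ha) _).mp hx
    have hya : a * y * a⁻¹ ∈ Y := (Subgroup.mem_normalizer_iff.mp (hYA ha) _).mp hy
    refine Subgroup.mem_inf.mpr ⟨mul_mem (inv_mem hx) hxa, ?_⟩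
    have hka : a * k * a⁻¹ = k := by
      have := Subgroup.mem_centralizer_iff.mp hkC a ha
      rw [this]; group
    have h1 : x⁻¹ * (a * x * a⁻¹) = y * (a * y * a⁻¹)⁻¹ := by
      have h2 : (a * x * a⁻¹) * (a * y * a⁻¹) = x * y := by
        rw [← hxy, ← hka, hxy]; group
      have h3 : a * x * a⁻¹ = x * y * (a * y * a⁻¹)⁻¹ := by rw [← h2]; group
      rw [h3]; group
    rw [h1]
    exact mul_mem hy (inv_mem hya)
  obtain ⟨u, hu, hc⟩ := h.exists_mul_mem_centralizer (inf_le_left.trans hX) hDA x (hX hx) hfix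
  obtain ⟨huX, huY⟩ := Subgroup.mem_inf.mp hu
  obtain ⟨-, hcC⟩ := Subgroup.mem_inf.mp hc
  refine ⟨x * u, Subgroup.mem_inf.mpr ⟨mul_mem hx huX, hcC⟩, u⁻¹ * y,
    Subgroup.mem_inf.mpr ⟨mul_mem (inv_mem huY) hy, ?_⟩, by rw [hxy]; group⟩
  have : u⁻¹ * y = (x * u)⁻¹ * k := by rw [hxy]; group
  rw [this]
  exact mul_mem (inv_mem hcC) hkC

end CoprimeAct

end Cfsg.Agent.Lib.Helper1
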