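import Mathlib
import Cfsg.Agent.Lib.Helper1.Basic

/-!
Nilpotent groups: miscellaneous results.
-/

set_option autoImplicit false

namespace Cfsg.Agent.Lib.Helper1

open Pointwise
open scoped commutatorElement
open Subgroup

universe u

variable {G : Type u} [Group G]

/-- A nontrivial normal subgroup of a nilpotent group meets the centre nontrivially. -/
theorem inf_center_ne_bot_of_normal [hG : Group.IsNilpotent G] (N : Subgroup G) [hN : N.Normal]
    (hNbot : N ≠ ⊥) : N ⊓ center G ≠ ⊥ := by
  have key : ∀ n : ℕ, N ⊓ Subgroup.upperCentralSeries G n ≠ ⊥ → N ⊓ center G ≠ ⊥ := by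
    intro n
    induction n with
    | zero =>
      intro h
      rw [Subgroup.upperCentralSeries_zero, inf_bot_eq] at h
      exact absurd rfl h
    | succ n ih =>
      intro h
      by_cases hn : N ⊓ Subgroup.upperCentralSeries G n = ⊥
      · obtain ⟨⟨x, hx⟩, hx1⟩ := (Subgroup.ne_bot_iff_exists_ne_one).mp h
        obtain ⟨hxN, hxZ⟩ := Subgroup.mem_inf.mp hx
        have hxc : x ∈ center G := by
          rw [Subgroup.mem_center_iff]
          intro y
          have h1 : ⁅x, y⁆ ∈ Subgroup.upperCentralSeries G n :=
            Subgroup.mem_upperCentralSeries_succ_iff.mp hxZ y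
          have h2 : ⁅x, y⁆ ∈ N := by
            rw [commutatorElement_def]
            have := hN.conj_mem x⁻¹ (inv_mem hxN) y
            have h3 : x * y * x⁻¹ * y⁻¹ = x * (y * x⁻¹ * y⁻¹) := by group
            rw [h3]; exact mul_mem hxN this
          have h4 := hn.le (Subgroup.mem_inf.mpr ⟨h2, h1⟩)
          rw [Subgroup.mem_bot, commutatorElement_def] at h4
          have h5 : x * y * x⁻¹ * y⁻¹ * (y * x) = y * x := by rw [h4, one_mul]
          rw [← h5]; group
        intro hbot
        have := hbot.le (Subgroup.mem_inf.mpr ⟨hxN, hxc⟩)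
        rw [Subgroup.mem_bot] at this
        exact hx1 (Subtype.ext this)
      · exact ih hn
  obtain ⟨n, hn⟩ := Group.IsNilpotent.nilpotent G
  apply key n
  rw [hn, inf_top_eq]
  exact hNbot

/-- In a nilpotent group, a maximal abelian normal subgroup is self-centralizing. -/
theorem centralizer_eq_of_maximal_abelian_normal [Group.IsNilpotent G]
    (N : Subgroup G) [hN : N.Normal] [hNc : IsMulCommutative N]
    (hmax : ∀ M : Subgroup G, M.Normal → IsMulCommutative M → N ≤ M → M = N) :
    centralizer (N : Set G) = N := by
  have hNC : N ≤ centralizer (N : Set G) := Subgroup.le_centralizer N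
  by_contra hne
  have hlt : N < centralizer (N : Set G) := lt_of_le_of_ne hNC (Ne.symm hne)
  -- pass to the quotient
  have hCbar : (centralizer (N : Set G)).map (QuotientGroup.mk' N) ≠ ⊥ := by
    intro h
    rw [Subgroup.map_eq_bot_iff, QuotientGroup.ker_mk'] at h
    exact hlt.not_ge h
  have hCn : ((centralizer (N : Set G)).map (QuotientGroup.mk' N)).Normal :=
    Subgroup.Normal.map inferInstance _ (QuotientGroup.mk'_surjective N)
  have hQnil : Group.IsNilpotent (G ⧸ N) := inferInstance
  have h1 := inf_center_ne_bot_of_normal ((centralizer (N : Set G)).map (QuotientGroup.mk' N)) hCbar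
  obtain ⟨⟨xbar, hxbar⟩, hxbar1⟩ := (Subgroup.ne_bot_iff_exists_ne_one).mp h1
  obtain ⟨⟨x, hxC, rfl⟩, hxZ⟩ := Subgroup.mem_inf.mp hxbar
  have hxN : x ∉ N := by
    intro h
    apply hxbar1
    apply Subtype.ext
    exact (QuotientGroup.eq_one_iff x).mpr h
  -- the subgroup generated by `N` and `x`
  have hcomm : ∀ a ∈ (N : Set G) ∪ {x}, ∀ b ∈ (N : Set G) ∪ {x}, a * b = b * a := by
    rintro a (ha | ha) b (hb | hb)
    · exact congrArg Subtype.val (hNc.is_comm.comm ⟨a, ha⟩ ⟨b, hb⟩)
    · rw [Set.mem_singleton_iff] at hb; subst hb
      exact (Subgroup.mem_centralizer_iff.mp hxC a ha)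
    · rw [Set.mem_singleton_iff] at ha; subst ha
      exact (Subgroup.mem_centralizer_iff.mp hxC b hb).symm
    · rw [Set.mem_singleton_iff] at ha hb; subst ha; subst hb; rfl
  have hMc : IsMulCommutative (closure ((N : Set G) ∪ {x})) := Subgroup.isMulCommutative_closure hcomm
  have hNM : N ≤ closure ((N : Set G) ∪ {x}) := fun n hn => subset_closure (Or.inl hn)
  have hxM : x ∈ closure ((N : Set G) ∪ {x}) := subset_closure (Or.inr rfl)
  have hMn : (closure ((N : Set G) ∪ {x})).Normal := by
    rw [← Subgroup.normalizer_eq_top_iff, eq_top_iff]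
    apply le_trans _ (Cfsg.Agent.Lib.Helper1.le_normalizer_of_forall_conj_mem' (K := ⊤) ?_)
    · exact le_rfl
    intro g _ m hm
    induction hm using Subgroup.closure_induction with
    | mem y hy =>
      rcases hy with hy | hy
      · exact hNM (hN.conj_mem y hy g)
      · rw [Set.mem_singleton_iff] at hy; subst hy
        have h2 : g * y * g⁻¹ * y⁻¹ ∈ N := by
          rw [← QuotientGroup.eq_one_iff]
          have h3 := Subgroup.mem_center_iff.mp hxZ ((QuotientGroup.mk' N) g)
          simp only [QuotientGroup.mk'_apply] at h3
          rw [QuotientGroup.mk_mul, QuotientGroup.mk_mul, QuotientGroup.mk_mul, QuotientGroup.mk_inv,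
            QuotientGroup.mk_inv, h3]
          group
        have h4 : g * y * g⁻¹ = (g * y * g⁻¹ * y⁻¹) * y := by group
        rw [h4]
        exact mul_mem (hNM h2) hxM
    | one => simp
    | mul y z _ _ hy hz =>
      have : g * (y * z) * g⁻¹ = (g * y * g⁻¹) * (g * z * g⁻¹) := by group
      rw [this]; exact mul_mem hy hz
    | inv y _ hy =>
      have : g * y⁻¹ * g⁻¹ = (g * y * g⁻¹)⁻¹ := by group
      rw [this]; exact inv_mem hy
  have := hmax _ hMn hMc hNM
  exact hxN (this ▸ hxM)

/-- In a finite group satisfying the normalizer condition every subgroup is subnormal. -/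
theorem isSubnormal_of_normalizerCondition [Finite G] (hnc : NormalizerCondition G) :
    ∀ (n : ℕ) (H : Subgroup G), Nat.card G - Nat.card H = n → H.IsSubnormal := by
  intro n
  induction n using Nat.strong_induction_on with
  | _ n ih =>
    intro H hn
    by_cases hH : H = ⊤
    · rw [hH]; exact Subgroup.IsSubnormal.top
    · have hlt : H < normalizer (H : Set G) := hnc H (lt_top_iff_ne_top.mpr hH)
      have h1 : Nat.card H < Nat.card (normalizer (H : Set G)) := card_lt_of_lt hlt
      have h2 : Nat.card (normalizer (H : Set G)) ≤ Nat.card G := Subgroup.card_le_card_group _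
      have hK := ih (Nat.card G - Nat.card (normalizer (H : Set G))) (by omega) _ rfl
      exact Subgroup.IsSubnormal.step H _ hlt.le hK Subgroup.normal_in_normalizer

/-- A finite group is nilpotent iff every subgroup is subnormal. -/
theorem isNilpotent_iff_forall_isSubnormal [Finite G] :
    Group.IsNilpotent G ↔ ∀ H : Subgroup G, H.IsSubnormal := by
  constructor
  · intro h H
    exact isSubnormal_of_normalizerCondition Group.normalizerCondition_of_isNilpotent _ H rfl
  · intro h
    have q := (Group.isNilpotent_of_finite_tfae (G := G)).out 0 1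
    rw [q]
    intro H hH
    rcases (Subgroup.IsSubnormal.iff_eq_top_or_exists).mp (h H) with h1 | ⟨K, hHK, -, hKn⟩
    · exact absurd h1 hH.ne
    · have := (Subgroup.normal_subgroupOf_iff_le_normalizer hHK.le).mp hKn
      exact lt_of_lt_of_le hHK this

/-- A group of order `p ^ m` has class at most `max 1 (m - 1)`. -/
theorem nilpotencyClass_le_of_card_pow {p : ℕ} [hp : Fact p.Prime] :
    ∀ (m : ℕ) (G : Type u) [Group G] [Finite G], Nat.card G = p ^ m →
      Group.nilpotencyClass G ≤ max 1 (m - 1) := by
  intro m
  induction m using Nat.strong_induction_on with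
  | _ m ih =>
    intro G _ _ hcard
    have hG : IsPGroup p G := IsPGroup.of_card hcard
    have hnil : Group.IsNilpotent G := hG.isNilpotent
    by_cases hcomm : IsMulCommutative G
    · exact (Group.IsNilpotent.nilpotencyClass_le_one_iff.mpr hcomm).trans (le_max_left _ _)
    · have hnt : Nontrivial G := by
        by_contra h
        rw [not_nontrivial_iff_subsingleton] at h
        exact hcomm ⟨⟨fun a b => Subsingleton.elim _ _⟩⟩
      obtain ⟨k, hk⟩ := (hG.to_subgroup (center G)).exists_card_eq
      have hk0 : k ≠ 0 := by
        rintro rfl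
        rw [pow_zero, Subgroup.card_eq_one] at hk
        exact (IsPGroup.bot_lt_center hG).ne' hk
      have hkm : k ≤ m := by
        have h1 : p ^ k ∣ p ^ m := by rw [← hk, ← hcard]; exact Subgroup.card_subgroup_dvd_card _
        exact (Nat.pow_dvd_pow_iff_le_right hp.out.one_lt).mp h1
      have hQcard : Nat.card (G ⧸ center G) = p ^ (m - k) := by
        have h1 := Subgroup.card_mul_index (center G)
        rw [hk, hcard, Subgroup.index_eq_card] at h1
        have h2 : p ^ m = p ^ k * p ^ (m - k) := by rw [← pow_add]; congr 1; omega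
        rw [h2] at h1
        exact Nat.eq_of_mul_eq_mul_left (pow_pos hp.out.pos k) h1
      have hncyc : ¬ IsCyclic (G ⧸ center G) := by
        intro hc
        apply hcomm
        exact (QuotientGroup.mk' (center G)).isMulCommutative_of_isCyclic_of_ker_le_center
          (by rw [QuotientGroup.ker_mk'])
      have hmk : 2 ≤ m - k := by
        by_contra hlt
        push Not at hlt
        apply hncyc
        interval_cases h : m - k
        · rw [pow_zero] at hQcard
          have : Subsingleton (G ⧸ center G) := (Nat.card_eq_one_iff_unique.mp hQcard).1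
          exact isCyclic_of_subsingleton
        · rw [pow_one] at hQcard
          exact isCyclic_of_prime_card hQcard
      have h3 := ih (m - k) (by omega) (G ⧸ center G) hQcard
      rw [Group.nilpotencyClass_eq_quotient_center_plus_one]
      have h4 : max 1 (m - k - 1) = m - k - 1 := max_eq_right (by omega)
      rw [h4] at h3
      have h5 : m - 1 ≤ max 1 (m - 1) := le_max_right _ _
      omega

end Cfsg.Agent.Lib.Helper1
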