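import Mathlib
import Cfsg.Prelude.Def_Solvable
import Cfsg.Agent.Lib.Helper1.Cores
import Cfsg.Agent.Lib.Helper1.Coprime
import Cfsg.Agent.Lib.Helper1.Nilpotent

/-!
Baer–Suzuki theorem (Alperin–Lyons proof) and a nilpotent-join criterion for the Fitting subgroup.
-/

set_option autoImplicit false

open Subgroup Cfsg
open Pointwise

namespace Cfsg.Agent.Lib.Helper1

universe u

variable {G : Type u} [Group G]

/-- Normalizers grow in nilpotent subgroups (ambient form). -/
theorem exists_mem_normalizer_notMem_of_lt {D N : Subgroup G} (hnil : Group.IsNilpotent D)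
    (hN : N < D) : ∃ u ∈ D, u ∈ normalizer (N : Set G) ∧ u ∉ N := by
  have hlt : N.subgroupOf D < ⊤ := by
    rw [lt_top_iff_ne_top, Ne, Subgroup.subgroupOf_eq_top]
    exact not_le_of_gt hN
  have h1 := Group.normalizerCondition_of_isNilpotent (G := D) _ hlt
  obtain ⟨u', hu'n, hu'⟩ := SetLike.exists_of_lt h1
  refine ⟨u', u'.2, ?_, ?_⟩
  · have key : ∀ v : D, v ∈ normalizer ((N.subgroupOf D : Subgroup D) : Set D) →
        ∀ n ∈ N, (v : G) * n * (v : G)⁻¹ ∈ N := by
      intro v hv n hn
      have h2 := (Subgroup.mem_normalizer_iff.mp hv ⟨n, hN.le hn⟩).mp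
        (Subgroup.mem_subgroupOf.mpr hn)
      rw [Subgroup.mem_subgroupOf] at h2
      simpa using h2
    rw [Subgroup.mem_normalizer_iff]
    intro n
    constructor
    · exact key u' hu'n n
    · intro hn
      have := key u'⁻¹ (inv_mem hu'n) _ hn
      simpa [mul_assoc] using this
  · intro hmem
    exact hu' (Subgroup.mem_subgroupOf.mpr hmem)

/-- In a finite `p`-group `S` with an `S`-invariant subset `X`, if `D` is generated by a subset
of `X` and does not contain `X`, some element of `X` outside `D` normalizes `D`. -/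
theorem exists_mem_normalizer_of_generated [Finite G] {p : ℕ} [Fact p.Prime] {S : Subgroup G}
    (hS : IsPGroup p S) (X Y : Set G) (hXS : X ⊆ S) (hXinv : ∀ s ∈ S, ∀ x ∈ X, s * x * s⁻¹ ∈ X)
    (hYX : Y ⊆ X) (x₀ : G) (hx₀ : x₀ ∈ X) (hx₀D : x₀ ∉ closure Y) :
    ∃ z ∈ X, z ∉ closure Y ∧ z ∈ normalizer ((closure Y : Subgroup G) : Set G) := by
  have hDS : closure Y ≤ S := (Subgroup.closure_le S).mpr (hYX.trans hXS)
  have hD'S : closure Y ⊔ zpowers x₀ ≤ S :=
    sup_le hDS ((Subgroup.zpowers_le).mpr (hXS hx₀))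
  by_cases hcase : closure Y ⊔ zpowers x₀ ≤ normalizer ((closure Y : Subgroup G) : Set G)
  · exact ⟨x₀, hx₀, hx₀D, hcase (le_sup_right (a := closure Y) (Subgroup.mem_zpowers x₀))⟩
  · -- N = normalizer of D inside D*
    have hnil : Group.IsNilpotent ↥(closure Y ⊔ zpowers x₀) := (hS.to_le hD'S).isNilpotent
    have hNlt : normalizer ((closure Y : Subgroup G) : Set G) ⊓ (closure Y ⊔ zpowers x₀) <
        closure Y ⊔ zpowers x₀ := by
      apply lt_of_le_of_ne inf_le_right
      intro h
      exact hcase (h ▸ inf_le_left)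
    obtain ⟨u, huD', huN, hunot⟩ := exists_mem_normalizer_notMem_of_lt hnil hNlt
    have hunD : u ∉ normalizer ((closure Y : Subgroup G) : Set G) := fun h =>
      hunot (Subgroup.mem_inf.mpr ⟨h, huD'⟩)
    -- some generator is moved outside D
    have hex : ∃ y ∈ Y, u * y * u⁻¹ ∉ closure Y := by
      by_contra hall
      push Not at hall
      apply hunD
      rw [← conj_smul_eq_self_iff_mem_normalizer]
      apply Subgroup.eq_of_le_of_card_ge
      · rw [conj_smul_le_iff]
        intro d hd
        induction hd using Subgroup.closure_induction with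
        | mem y hy => exact hall y hy
        | one => simp
        | mul a b _ _ iha ihb =>
          have e : u * (a * b) * u⁻¹ = (u * a * u⁻¹) * (u * b * u⁻¹) := by group
          rw [e]; exact mul_mem iha ihb
        | inv a _ iha =>
          have e : u * a⁻¹ * u⁻¹ = (u * a * u⁻¹)⁻¹ := by group
          rw [e]; exact inv_mem iha
      · rw [card_conj_smul]
    obtain ⟨y, hy, hyD⟩ := hex
    refine ⟨u * y * u⁻¹, hXinv u (hD'S huD') y (hYX hy), hyD, ?_⟩
    have hyN : y ∈ normalizer ((closure Y : Subgroup G) : Set G) ⊓ (closure Y ⊔ zpowers x₀) :=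
      Subgroup.mem_inf.mpr ⟨Subgroup.le_normalizer (Subgroup.subset_closure hy),
        le_sup_left (a := closure Y) (Subgroup.subset_closure hy)⟩
    exact (Subgroup.mem_inf.mp ((Subgroup.mem_normalizer_iff.mp huN y).mp hyN)).1


/-- **Baer–Suzuki** (Alperin–Lyons): a normal subset `K` of a finite group, any two elements of
which generate a `p`-group, lies in `O_p(G)`. -/
theorem baer_suzuki [Finite G] {p : ℕ} [Fact p.Prime] (K : Set G)
    (hKinv : ∀ g : G, ∀ x ∈ K, g * x * g⁻¹ ∈ K)
    (hK : ∀ x ∈ K, ∀ y ∈ K, IsPGroup p (closure ({x, y} : Set G))) :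
    ∀ x ∈ K, x ∈ pCore p G := by
  classical
  -- all Sylow subgroups meet K in sets of the same size
  have hcard : ∀ S T : Sylow p G, (K ∩ (S : Set G)).ncard = (K ∩ (T : Set G)).ncard := by
    intro S T
    obtain ⟨g, rfl⟩ := MulAction.exists_smul_eq G S T
    have himg : (fun x => g * x * g⁻¹) '' (K ∩ (S : Set G)) = K ∩ ((g • S : Sylow p G) : Set G) := by
      ext y
      constructor
      · rintro ⟨x, ⟨hxK, hxS⟩, rfl⟩
        refine ⟨hKinv g x hxK, ?_⟩
        show g * x * g⁻¹ ∈ MulAut.conj g • (S : Subgroup G)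
        rw [mem_conj_smul]
        have e : g⁻¹ * (g * x * g⁻¹) * g = x := by group
        rw [e]; exact hxS
      · rintro ⟨hyK, hyS⟩
        have hyS' : y ∈ MulAut.conj g • (S : Subgroup G) := hyS
        rw [mem_conj_smul] at hyS'
        refine ⟨g⁻¹ * y * g, ⟨?_, hyS'⟩, by group⟩
        have := hKinv g⁻¹ y hyK
        simpa using this
    rw [← himg]
    apply (Set.ncard_image_of_injective _ _).symm
    intro a b hab
    simpa using hab
  -- Claim: all Sylow subgroups meet K in the same set
  have hclaim : ∀ S T : Sylow p G, K ∩ (S : Set G) = K ∩ (T : Set G) := by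
    by_contra hne
    push Not at hne
    obtain ⟨S₀, T₀, hST₀⟩ := hne
    have : Nonempty {st : Sylow p G × Sylow p G // K ∩ (st.1 : Set G) ≠ K ∩ (st.2 : Set G)} :=
      ⟨⟨(S₀, T₀), hST₀⟩⟩
    obtain ⟨⟨⟨S, T⟩, hST⟩, hmax⟩ := Finite.exists_max
      (fun st : {st : Sylow p G × Sylow p G // K ∩ (st.1 : Set G) ≠ K ∩ (st.2 : Set G)} =>
        (K ∩ (st.1.1 : Set G) ∩ (st.1.2 : Set G)).ncard)
    simp only at hST hmax
    -- D
    have hYS : K ∩ (S : Set G) ∩ (T : Set G) ⊆ K ∩ (S : Set G) := Set.inter_subset_left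
    have hYT : K ∩ (S : Set G) ∩ (T : Set G) ⊆ K ∩ (T : Set G) := fun x hx => ⟨hx.1.1, hx.2⟩
    have hDS : closure (K ∩ (S : Set G) ∩ (T : Set G)) ≤ (S : Subgroup G) :=
      (Subgroup.closure_le _).mpr (fun x hx => hx.1.2)
    have hDT : closure (K ∩ (S : Set G) ∩ (T : Set G)) ≤ (T : Subgroup G) :=
      (Subgroup.closure_le _).mpr (fun x hx => hx.2)
    -- K ∩ S ⊄ D and K ∩ T ⊄ D
    have hnotS : ∃ x₀ ∈ K ∩ (S : Set G), x₀ ∉ closure (K ∩ (S : Set G) ∩ (T : Set G)) := by
      by_contra hall
      push Not at hall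
      apply hST
      apply Set.eq_of_subset_of_ncard_le _ (hcard S T).symm.le (Set.toFinite _)
      intro x hx
      exact ⟨hx.1, hDT (hall x hx)⟩
    have hnotT : ∃ y₀ ∈ K ∩ (T : Set G), y₀ ∉ closure (K ∩ (S : Set G) ∩ (T : Set G)) := by
      by_contra hall
      push Not at hall
      apply hST
      symm
      apply Set.eq_of_subset_of_ncard_le _ (hcard S T).le (Set.toFinite _)
      intro x hx
      exact ⟨hx.1, hDS (hall x hx)⟩
    obtain ⟨x₀, hx₀, hx₀D⟩ := hnotS
    obtain ⟨y₀, hy₀, hy₀D⟩ := hnotT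
    obtain ⟨x, hxX, hxD, hxN⟩ := exists_mem_normalizer_of_generated S.2 (K ∩ (S : Set G))
      (K ∩ (S : Set G) ∩ (T : Set G)) Set.inter_subset_right
      (fun s hs x hx => ⟨hKinv s x hx.1, mul_mem (mul_mem hs hx.2) (inv_mem hs)⟩) hYS x₀ hx₀ hx₀D
    obtain ⟨y, hyX, hyD, hyN⟩ := exists_mem_normalizer_of_generated T.2 (K ∩ (T : Set G))
      (K ∩ (S : Set G) ∩ (T : Set G)) Set.inter_subset_right
      (fun s hs x hx => ⟨hKinv s x hx.1, mul_mem (mul_mem hs hx.2) (inv_mem hs)⟩) hYT y₀ hy₀ hy₀D
    -- L = ⟨x, y⟩ is a p-group normalizing D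
    have hL := hK x hxX.1 y hyX.1
    have hLN : closure ({x, y} : Set G) ≤
        normalizer ((closure (K ∩ (S : Set G) ∩ (T : Set G)) : Subgroup G) : Set G) := by
      rw [Subgroup.closure_le]
      intro z hz
      rcases hz with rfl | hz
      · exact hxN
      · rw [Set.mem_singleton_iff] at hz; rw [hz]; exact hyN
    have hLD := IsPGroup.to_sup_of_normal_right' hL (S.2.to_le hDS) hLN
    obtain ⟨R, hR⟩ := hLD.exists_le_sylow
    have hxR : x ∈ (R : Subgroup G) :=
      hR (le_sup_left (a := closure ({x, y} : Set G)) (Subgroup.subset_closure (by simp)))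
    have hyR : y ∈ (R : Subgroup G) :=
      hR (le_sup_left (a := closure ({x, y} : Set G)) (Subgroup.subset_closure (by simp)))
    have hDR : closure (K ∩ (S : Set G) ∩ (T : Set G)) ≤ (R : Subgroup G) := le_sup_right.trans hR
    -- (S, R) has a bigger intersection
    have hSR : K ∩ (S : Set G) = K ∩ (R : Set G) := by
      by_contra hne
      have h1 := hmax ⟨(S, R), hne⟩
      simp only at h1
      have h2 : K ∩ (S : Set G) ∩ (T : Set G) ⊂ K ∩ (S : Set G) ∩ (R : Set G) := by
        constructor
        · intro z hz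
          exact ⟨hz.1, hDR (Subgroup.subset_closure hz)⟩
        · intro hsub
          exact hxD (Subgroup.subset_closure (hsub ⟨hxX, hxR⟩))
      have h3 := Set.ncard_lt_ncard h2 (Set.toFinite _)
      omega
    have hTR : K ∩ (T : Set G) = K ∩ (R : Set G) := by
      by_contra hne
      have h1 := hmax ⟨(T, R), hne⟩
      simp only at h1
      have h2 : K ∩ (S : Set G) ∩ (T : Set G) ⊂ K ∩ (T : Set G) ∩ (R : Set G) := by
        constructor
        · intro z hz
          exact ⟨⟨hz.1.1, hz.2⟩, hDR (Subgroup.subset_closure hz)⟩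
        · intro hsub
          exact hyD (Subgroup.subset_closure (hsub ⟨hyX, hyR⟩))
      have h3 := Set.ncard_lt_ncard h2 (Set.toFinite _)
      omega
    exact hST (hSR.trans hTR.symm)
  intro x hx
  rw [pCore_eq_iInf_sylow, Subgroup.mem_iInf]
  have hxp : IsPGroup p (zpowers x) := by
    have := hK x hx x hx
    apply this.to_le
    rw [Subgroup.zpowers_le]
    exact Subgroup.subset_closure (by simp)
  obtain ⟨S, hS⟩ := hxp.exists_le_sylow
  intro T
  have h1 : x ∈ K ∩ (S : Set G) := ⟨hx, hS (Subgroup.mem_zpowers x)⟩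
  rw [hclaim S T] at h1
  exact h1.2


/-- In a nilpotent subgroup of a finite group, `p`-elements generate a `p`-group. -/
theorem isPGroup_closure_of_isNilpotent [Finite G] {p : ℕ} [Fact p.Prime] (N : Subgroup G)
    (hN : Group.IsNilpotent N) (X : Set G) (hXN : X ⊆ N) (hX : ∀ x ∈ X, IsPGroup p (zpowers x)) :
    IsPGroup p (closure X) := by
  have q := (Group.isNilpotent_of_finite_tfae (G := N)).out 0 3
  have hnormal := q.mp hN
  obtain ⟨P⟩ : Nonempty (Sylow p N) := inferInstance
  have hPn : (P : Subgroup N).Normal := hnormal p inferInstance P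
  have hle : closure X ≤ (P : Subgroup N).map N.subtype := by
    rw [Subgroup.closure_le]
    intro x hx
    have hxp : IsPGroup p (zpowers (⟨x, hXN hx⟩ : N)) := by
      have h1 := hX x hx
      have h2 : (zpowers (⟨x, hXN hx⟩ : N)).map N.subtype = zpowers x := by
        rw [MonoidHom.map_zpowers]; rfl
      rw [← h2] at h1
      exact h1.of_equiv ((zpowers (⟨x, hXN hx⟩ : N)).equivMapOfInjective _ N.subtype_injective).symm
    obtain ⟨Q, hQ⟩ := hxp.exists_le_sylow
    obtain ⟨g, hg⟩ := MulAction.exists_smul_eq N P Q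
    have hPQ : Q = P := by
      rw [← hg]
      exact Sylow.smul_eq_of_normal
    rw [hPQ] at hQ
    exact ⟨⟨x, hXN hx⟩, hQ (Subgroup.mem_zpowers _), rfl⟩
  exact (P.2.map N.subtype).to_le hle

/-- If `⟨A, A^g⟩` is nilpotent for all `g`, then `A ≤ F(G)` and `A` is subnormal. -/
theorem isSubnormal_and_le_fitting_of_sup_conj_nilpotent [Finite G] (A : Subgroup G)
    (h : ∀ g : G, Group.IsNilpotent (A ⊔ MulAut.conj g • A : Subgroup G)) :
    A.IsSubnormal ∧ A ≤ fittingSubgroup G := by
  have hle : A ≤ fittingSubgroup G := by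
    -- it suffices to compare orders
    suffices hdvd : Nat.card A ∣ Nat.card (fittingSubgroup G ⊓ A : Subgroup G) by
      have h1 : fittingSubgroup G ⊓ A = A := by
        apply Subgroup.eq_of_le_of_card_ge inf_le_right
        exact Nat.le_of_dvd Nat.card_pos hdvd
      rw [← h1]; exact inf_le_left
    rw [Nat.dvd_iff_prime_pow_dvd_dvd]
    intro p k hp hpk
    have : Fact p.Prime := ⟨hp⟩
    obtain ⟨P⟩ : Nonempty (Sylow p A) := inferInstance
    -- the Sylow subgroup of A lies in O_p(G)
    have hPcore : (P : Subgroup A).map A.subtype ≤ pCore p G := by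
      have hbs := baer_suzuki (p := p)
        {y : G | ∃ g : G, ∃ x ∈ (P : Subgroup A).map A.subtype, y = g * x * g⁻¹}
        (by
          rintro g _ ⟨g', x, hx, rfl⟩
          exact ⟨g * g', x, hx, by group⟩)
        (by
          rintro _ ⟨g, x₁, hx₁, rfl⟩ _ ⟨g', x₂, hx₂, rfl⟩
          -- conjugate back by g
          have hPp : IsPGroup p ((P : Subgroup A).map A.subtype) := P.2.map _
          have hx₁p : IsPGroup p (zpowers x₁) := hPp.to_le ((Subgroup.zpowers_le).mpr hx₁)
          have hx₂p : IsPGroup p (zpowers ((g⁻¹ * g') * x₂ * (g⁻¹ * g')⁻¹)) := by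
            have h1 : IsPGroup p (zpowers x₂) := hPp.to_le ((Subgroup.zpowers_le).mpr hx₂)
            have h2 := h1.map (MulAut.conj (g⁻¹ * g')).toMonoidHom
            rw [MonoidHom.map_zpowers] at h2
            exact h2
          have hx₁A : x₁ ∈ A := Subgroup.map_subtype_le _ hx₁
          have hx₂A : x₂ ∈ A := Subgroup.map_subtype_le _ hx₂
          have hcl := isPGroup_closure_of_isNilpotent (p := p) _ (h (g⁻¹ * g'))
            ({x₁, (g⁻¹ * g') * x₂ * (g⁻¹ * g')⁻¹} : Set G)
            (by
              intro z hz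
              rcases hz with rfl | hz
              · exact le_sup_left (a := A) hx₁A
              · rw [Set.mem_singleton_iff] at hz
                rw [hz]
                apply le_sup_right (a := A)
                rw [mem_conj_smul]
                have e : (g⁻¹ * g')⁻¹ * ((g⁻¹ * g') * x₂ * (g⁻¹ * g')⁻¹) * (g⁻¹ * g') = x₂ := by group
                rw [e]; exact hx₂A)
            (by
              intro z hz
              rcases hz with rfl | hz
              · exact hx₁p
              · rw [Set.mem_singleton_iff] at hz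
                rw [hz]; exact hx₂p)
          have hmap := hcl.map (MulAut.conj g).toMonoidHom
          rw [MonoidHom.map_closure] at hmap
          have himg : (MulAut.conj g).toMonoidHom '' ({x₁, (g⁻¹ * g') * x₂ * (g⁻¹ * g')⁻¹} : Set G) =
              {g * x₁ * g⁻¹, g' * x₂ * g'⁻¹} := by
            rw [Set.image_pair]
            congr 1
            · rw [Set.singleton_eq_singleton_iff]
              show g * ((g⁻¹ * g') * x₂ * (g⁻¹ * g')⁻¹) * g⁻¹ = _
              group
          rw [himg] at hmap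
          exact hmap)
      intro x hx
      exact hbs x ⟨1, x, hx, by group⟩
    have hPF : (P : Subgroup A).map A.subtype ≤ fittingSubgroup G ⊓ A :=
      le_inf (hPcore.trans (pCore_le_fittingSubgroup p)) (Subgroup.map_subtype_le _)
    have hPcard : Nat.card ((P : Subgroup A).map A.subtype) = p ^ (Nat.card A).factorization p := by
      rw [Subgroup.card_map_of_injective A.subtype_injective]
      exact P.card_eq_multiplicity
    have h1 : p ^ k ∣ p ^ (Nat.card A).factorization p := by
      apply pow_dvd_pow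
      exact (hp.pow_dvd_iff_le_factorization Nat.card_pos.ne').mp hpk
    exact h1.trans (hPcard ▸ Subgroup.card_dvd_of_le hPF)
  refine ⟨?_, hle⟩
  have hF : Group.IsNilpotent (fittingSubgroup G) := fittingSubgroup_isNilpotent
  have h1 : (A.subgroupOf (fittingSubgroup G)).IsSubnormal :=
    isNilpotent_iff_forall_isSubnormal.mp hF _
  exact Subgroup.IsSubnormal.trans hle h1 (fittingSubgroup_normal (G := G)).isSubnormal

end Cfsg.Agent.Lib.Helper1
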