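import Mathlib
import Cfsg.Prelude.Def_Solvable
import Cfsg.Agent.Lib.Helper1.Basic
import Cfsg.Agent.Lib.Helper1.Cores

/-!
The Fitting subgroup of a finite solvable group contains its centralizer; the analogous
statement for the `p`-core when the `p'`-core is trivial.
-/

set_option autoImplicit false

namespace Cfsg.Agent.Lib.Helper1

open Cfsg

variable {G : Type*} [Group G]

/-- A subgroup of class at most two is nilpotent. -/
theorem isNilpotent_of_commutator_commutator_eq_bot {A : Subgroup G} (h : ⁅⁅A, A⁆, A⁆ = ⊥) :
    Group.IsNilpotent A :=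
  Subgroup.isNilpotent_of_lowerCentralSeries_eq_bot (n := 2) h

/-- In a finite solvable group, a normal subgroup centralizing the Fitting subgroup lies in it. -/
theorem le_fittingSubgroup_of_le_centralizer [Finite G] [Group.IsSolvable G] :
    ∀ (n : ℕ) (A : Subgroup G), Nat.card A = n → A.Normal →
      A ≤ Subgroup.centralizer (fittingSubgroup G : Set G) → A ≤ fittingSubgroup G := by
  intro n
  induction n using Nat.strong_induction_on with
  | _ n ih =>
    intro A hcard hAn hAC
    by_cases hA : A = ⊥
    · rw [hA]; exact bot_le
    have hlt : ⁅A, A⁆ < A := Group.IsSolvable.commutator_lt_of_ne_bot hA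
    have hDF : ⁅A, A⁆ ≤ fittingSubgroup G :=
      ih _ (hcard ▸ card_lt_of_lt hlt) ⁅A, A⁆ rfl inferInstance (hlt.le.trans hAC)
    apply le_fittingSubgroup hAn
    apply isNilpotent_of_commutator_commutator_eq_bot
    rw [Subgroup.commutator_eq_bot_iff_le_centralizer]
    exact hDF.trans (Subgroup.le_centralizer_iff.mp hAC)

/-- In a finite solvable group the Fitting subgroup contains its own centralizer. -/
theorem centralizer_fittingSubgroup_le [Finite G] [Group.IsSolvable G] :
    Subgroup.centralizer (fittingSubgroup G : Set G) ≤ fittingSubgroup G := by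
  have := fittingSubgroup_normal (G := G)
  exact le_fittingSubgroup_of_le_centralizer _ _ rfl inferInstance le_rfl

/-- If the `p'`-core of a finite group is trivial then the Fitting subgroup is the `p`-core. -/
theorem fittingSubgroup_eq_pCore_of_pPrimeCore_eq_bot [Finite G] (p : ℕ) [Fact p.Prime]
    (h : pPrimeCore p G = ⊥) : fittingSubgroup G = pCore p G := by
  apply le_antisymm
  · rw [fittingSubgroup_eq_iSup_primes]
    refine iSup_le fun q => ?_
    by_cases hq : (q : ℕ) = p
    · rw [hq]
    · have : Fact (q : ℕ).Prime := ⟨q.2⟩
      have hle : pCore (q : ℕ) G ≤ pPrimeCore p G := by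
        apply le_pPrimeCore (pCore_normal _)
        obtain ⟨k, hk⟩ := (pCore_isPGroup (G := G) (q : ℕ)).exists_card_eq
        rw [hk]
        exact Nat.Coprime.pow_left k ((Nat.coprime_primes q.2 (Fact.out : p.Prime)).mpr hq)
      rw [h] at hle
      exact hle.trans bot_le
  · exact pCore_le_fittingSubgroup p

/-- In a finite solvable group with trivial `p'`-core, the `p`-core contains its centralizer. -/
theorem centralizer_pCore_le [Finite G] [Group.IsSolvable G] (p : ℕ) [Fact p.Prime]
    (h : pPrimeCore p G = ⊥) :
    Subgroup.centralizer (pCore p G : Set G) ≤ pCore p G := by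
  rw [← fittingSubgroup_eq_pCore_of_pPrimeCore_eq_bot p h]
  exact centralizer_fittingSubgroup_le

end Cfsg.Agent.Lib.Helper1
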