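import Mathlib
import Cfsg.Agent.Lib.Helper1.Basic
import Cfsg.Agent.Lib.Helper1.Cores
import Cfsg.Agent.Lib.Helper1.SZ
import Cfsg.Agent.Lib.Helper1.Hall
import Cfsg.Agent.Lib.Helper1.Coprime

/-!
Coprime action: invariant Sylow subgroups.
-/

set_option autoImplicit false

namespace Cfsg.Agent.Lib.Helper1

open Pointwise
open Subgroup

universe u

variable {G : Type u} [Group G]

/-- The Sylow `p`-subgroups of `K`, as subgroups of the ambient group `G`. -/
def SylSet (p : ℕ) (K : Subgroup G) : Type u :=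
  {P : Subgroup G // P ≤ K ∧ Nat.card P = p ^ (Nat.card K).factorization p}

theorem conj_smul_le_of_mem_normalizer {K P : Subgroup G} {g : G}
    (hg : g ∈ normalizer (K : Set G)) (hP : P ≤ K) : MulAut.conj g • P ≤ K := by
  rw [conj_smul_le_iff]
  intro h hh
  exact (Subgroup.mem_normalizer_iff.mp hg h).mp (hP hh)

/-- A subgroup normalizing `K` acts on the Sylow subgroups of `K` by conjugation. -/
@[reducible] def sylSetAction (p : ℕ) (K L : Subgroup G) (hL : L ≤ normalizer (K : Set G)) :
    MulAction L (SylSet p K) where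
  smul l P := ⟨MulAut.conj (l : G) • P.1, conj_smul_le_of_mem_normalizer (hL l.2) P.2.1, by
    rw [card_conj_smul]; exact P.2.2⟩
  one_smul P := by
    apply Subtype.ext
    change MulAut.conj ((1 : L) : G) • P.1 = P.1
    rw [Subgroup.coe_one, map_one, one_smul]
  mul_smul l₁ l₂ P := by
    apply Subtype.ext
    change MulAut.conj ((l₁ * l₂ : L) : G) • P.1 = MulAut.conj (l₁ : G) • MulAut.conj (l₂ : G) • P.1
    rw [Subgroup.coe_mul, map_mul, mul_smul]

variable [Finite G]

/-- Sylow's theorem in subgroup form: two Sylow `p`-subgroups of `K` are conjugate in `K`. -/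
theorem exists_conj_eq_of_sylSet {p : ℕ} [Fact p.Prime] {K : Subgroup G} (P Q : SylSet p K) :
    ∃ k ∈ K, MulAut.conj k • P.1 = Q.1 := by
  have hP : Nat.card (P.1.subgroupOf K) = p ^ (Nat.card K).factorization p := by
    rw [Nat.card_congr (Subgroup.subgroupOfEquivOfLe P.2.1).toEquiv]; exact P.2.2
  have hQ : Nat.card (Q.1.subgroupOf K) = p ^ (Nat.card K).factorization p := by
    rw [Nat.card_congr (Subgroup.subgroupOfEquivOfLe Q.2.1).toEquiv]; exact Q.2.2
  obtain ⟨k, hk⟩ := MulAction.exists_smul_eq K (Sylow.ofCard _ hP) (Sylow.ofCard _ hQ)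
  refine ⟨k, k.2, ?_⟩
  apply conj_of_conj_subgroupOf P.2.1 Q.2.1 k
  have := congrArg (fun S : Sylow p K => (S : Subgroup K)) hk
  simpa [Sylow.coe_subgroup_smul] using this

theorem sylSet_nonempty (p : ℕ) [Fact p.Prime] (K : Subgroup G) : Nonempty (SylSet p K) := by
  obtain ⟨P⟩ := (inferInstance : Nonempty (Sylow p K))
  refine ⟨⟨(P : Subgroup K).map K.subtype, Subgroup.map_subtype_le _, ?_⟩⟩
  rw [← Nat.card_congr ((P : Subgroup K).equivMapOfInjective _ K.subtype_injective).toEquiv]
  exact P.card_eq_multiplicity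

/-- The element of `SylSet p K` attached to a Sylow subgroup of `K`. -/
def SylSet.ofSylow {p : ℕ} [Fact p.Prime] {K : Subgroup G} (P : Sylow p K) : SylSet p K :=
  ⟨(P : Subgroup K).map K.subtype, Subgroup.map_subtype_le _, by
    rw [← Nat.card_congr ((P : Subgroup K).equivMapOfInjective _ K.subtype_injective).toEquiv]
    exact P.card_eq_multiplicity⟩

/-- The Sylow subgroup of `K` attached to an element of `SylSet p K`. -/
def SylSet.toSylow {p : ℕ} [Fact p.Prime] {K : Subgroup G} (x : SylSet p K) : Sylow p K :=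
  Sylow.ofCard (x.1.subgroupOf K) (by
    rw [Nat.card_congr (Subgroup.subgroupOfEquivOfLe x.2.1).toEquiv]; exact x.2.2)

theorem SylSet.toSylow_map {p : ℕ} [Fact p.Prime] {K : Subgroup G} (x : SylSet p K) :
    ((x.toSylow : Subgroup K)).map K.subtype = x.1 := by
  rw [SylSet.toSylow, Sylow.coe_ofCard, Subgroup.map_subgroupOf_eq_of_le x.2.1]

namespace CoprimeAct

variable {A K : Subgroup G}

/-- Under coprime action there is an invariant Sylow `p`-subgroup. -/
theorem exists_invariant_sylSet (h : CoprimeAct A K) (p : ℕ) [Fact p.Prime] :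
    ∃ P : SylSet p K, A ≤ normalizer (P.1 : Set G) := by
  have hΓ : A ⊔ K ≤ normalizer (K : Set G) := sup_le h.norm Subgroup.le_normalizer
  let _ := sylSetAction p K (A ⊔ K) hΓ
  have := h.normal
  have := sylSet_nonempty p K
  have htrans : MulAction.IsPretransitive (K.subgroupOf (A ⊔ K)) (SylSet p K) := by
    constructor
    intro P Q
    obtain ⟨k, hk, hkPQ⟩ := exists_conj_eq_of_sylSet P Q
    refine ⟨⟨⟨k, Subgroup.mem_sup_right hk⟩, hk⟩, ?_⟩
    exact Subtype.ext hkPQ
  obtain ⟨x, hx⟩ := glauberman_exists (K.subgroupOf (A ⊔ K)) (A.subgroupOf (A ⊔ K))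
    h.complement h.hall h.solvable htrans
  refine ⟨x, ?_⟩
  intro a ha
  have h1 := hx ⟨a, Subgroup.mem_sup_left ha⟩ ha
  have h2 : MulAut.conj a • x.1 = x.1 := congrArg Subtype.val h1
  exact conj_smul_eq_self_iff_mem_normalizer.mp h2

/-- Under coprime action two invariant Sylow `p`-subgroups are conjugate under `C_K(A)`. -/
theorem exists_conj_sylSet (h : CoprimeAct A K) {p : ℕ} [Fact p.Prime] (P Q : SylSet p K)
    (hP : A ≤ normalizer (P.1 : Set G)) (hQ : A ≤ normalizer (Q.1 : Set G)) :
    ∃ c ∈ K ⊓ centralizer (A : Set G), MulAut.conj c • P.1 = Q.1 := by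
  have hΓ : A ⊔ K ≤ normalizer (K : Set G) := sup_le h.norm Subgroup.le_normalizer
  let _ := sylSetAction p K (A ⊔ K) hΓ
  have := h.normal
  have htrans : MulAction.IsPretransitive (K.subgroupOf (A ⊔ K)) (SylSet p K) := by
    constructor
    intro P Q
    obtain ⟨k, hk, hkPQ⟩ := exists_conj_eq_of_sylSet P Q
    refine ⟨⟨⟨k, Subgroup.mem_sup_right hk⟩, hk⟩, ?_⟩
    exact Subtype.ext hkPQ
  have hfix : ∀ R : SylSet p K, A ≤ normalizer (R.1 : Set G) →
      ∀ a ∈ A.subgroupOf (A ⊔ K), a • R = R := by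
    intro R hR a ha
    apply Subtype.ext
    exact conj_smul_eq_self_iff_mem_normalizer.mpr (hR ha)
  obtain ⟨k, hk, hkPQ⟩ := glauberman_conj (K.subgroupOf (A ⊔ K)) (A.subgroupOf (A ⊔ K))
    h.complement h.hall h.solvable htrans P Q (hfix P hP) (hfix Q hQ)
  obtain ⟨hk1, hk2⟩ := Subgroup.mem_inf.mp hk
  refine ⟨k, Subgroup.mem_inf.mpr ⟨hk1, ?_⟩, congrArg Subtype.val hkPQ⟩
  rw [Subgroup.mem_centralizer_iff] at hk2 ⊢
  intro a ha
  have := hk2 ⟨a, Subgroup.mem_sup_left ha⟩ ha
  exact congrArg Subtype.val this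

/-- Under coprime action there is an invariant Sylow `p`-subgroup (Sylow form). -/
theorem exists_invariant_sylow (h : CoprimeAct A K) (p : ℕ) [Fact p.Prime] :
    ∃ P : Sylow p K, A ≤ normalizer ((P : Subgroup K).map K.subtype : Set G) := by
  obtain ⟨x, hx⟩ := h.exists_invariant_sylSet p
  exact ⟨x.toSylow, by rw [x.toSylow_map]; exact hx⟩

/-- Under coprime action two invariant Sylow `p`-subgroups are conjugate under `C_K(A)`
(Sylow form). -/
theorem exists_conj_sylow (h : CoprimeAct A K) {p : ℕ} [Fact p.Prime] (P Q : Sylow p K)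
    (hP : A ≤ normalizer ((P : Subgroup K).map K.subtype : Set G))
    (hQ : A ≤ normalizer ((Q : Subgroup K).map K.subtype : Set G)) :
    ∃ c : K, (c : G) ∈ centralizer (A : Set G) ∧ MulAut.conj c • P = Q := by
  obtain ⟨c, hc, hcPQ⟩ := h.exists_conj_sylSet (SylSet.ofSylow P) (SylSet.ofSylow Q) hP hQ
  obtain ⟨hcK, hcA⟩ := Subgroup.mem_inf.mp hc
  refine ⟨⟨c, hcK⟩, hcA, ?_⟩
  apply Sylow.ext
  rw [Sylow.pointwise_smul_def]
  apply Subgroup.map_injective K.subtype_injective
  rw [map_conj_smul]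
  exact hcPQ

omit [Finite G] in
/-- If `A` normalizes `U` and `K` then it normalizes `N_K(U)`. -/
theorem le_normalizer_normalizer_inf {A U K : Subgroup G} (hU : A ≤ normalizer (U : Set G))
    (hK : A ≤ normalizer (K : Set G)) :
    A ≤ normalizer ((normalizer (U : Set G) ⊓ K : Subgroup G) : Set G) := by
  apply le_normalizer_of_forall_conj_mem
  intro a ha n hn
  obtain ⟨hn1, hn2⟩ := Subgroup.mem_inf.mp hn
  refine Subgroup.mem_inf.mpr ⟨?_, (Subgroup.mem_normalizer_iff.mp (hK ha) n).mp hn2⟩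
  have h1 : a ∈ normalizer (U : Set G) := hU ha
  exact mul_mem (mul_mem h1 hn1) (inv_mem h1)

/-- Under coprime action, an invariant `p`-subgroup lies in an invariant Sylow `p`-subgroup. -/
theorem exists_invariant_sylSet_ge (h : CoprimeAct A K) {p : ℕ} [Fact p.Prime] :
    ∀ (n : ℕ) (U : Subgroup G), Nat.card K - Nat.card U = n → U ≤ K → IsPGroup p U →
      A ≤ normalizer (U : Set G) →
      ∃ P : SylSet p K, U ≤ P.1 ∧ A ≤ normalizer (P.1 : Set G) := by
  intro n
  induction n using Nat.strong_induction_on with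
  | _ n ih =>
    intro U hn hUK hU hUA
    obtain ⟨j, hj⟩ := hU.exists_card_eq
    have hp : p.Prime := Fact.out
    have hjv : j ≤ (Nat.card K).factorization p := by
      rw [← hp.pow_dvd_iff_le_factorization Nat.card_pos.ne', ← hj]
      exact Subgroup.card_dvd_of_le hUK
    rcases hjv.eq_or_lt with hjv | hjv
    · exact ⟨⟨U, hUK, by rw [hj, hjv]⟩, le_rfl, hUA⟩
    · -- pass to the normalizer
      have hNA := le_normalizer_normalizer_inf hUA h.norm
      have hN := h.mono (inf_le_right : normalizer (U : Set G) ⊓ K ≤ K) hNA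
      obtain ⟨S, hS⟩ := hN.exists_invariant_sylSet p
      have hUN : U ≤ normalizer (U : Set G) ⊓ K := le_inf Subgroup.le_normalizer hUK
      -- `U ≤ S`
      have hUS : U ≤ S.1 := by
        have hnorm : (U.subgroupOf (normalizer (U : Set G) ⊓ K)).Normal :=
          (Subgroup.normal_subgroupOf_iff_le_normalizer hUN).mpr inf_le_left
        have hpg : IsPGroup p (U.subgroupOf (normalizer (U : Set G) ⊓ K)) :=
          hU.of_equiv (Subgroup.subgroupOfEquivOfLe hUN).symm
        have h1 := hpg.le_sylow_of_normal S.toSylow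
        have h2 := Subgroup.map_mono (f := (normalizer (U : Set G) ⊓ K).subtype) h1
        rwa [Subgroup.map_subgroupOf_eq_of_le hUN, S.toSylow_map] at h2
      -- `S` is strictly bigger than `U`
      have hdvd : p ^ (j + 1) ∣ Nat.card (normalizer (U : Set G) ⊓ K : Subgroup G) := by
        have h1 : p ^ (j + 1) ∣ Nat.card K :=
          (hp.pow_dvd_iff_le_factorization Nat.card_pos.ne').mpr hjv
        have h2 : Nat.card (U.subgroupOf K) = p ^ j := by
          rw [Nat.card_congr (Subgroup.subgroupOfEquivOfLe hUK).toEquiv, hj]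
        have h3 := Sylow.prime_pow_dvd_card_normalizer h1 h2
        rwa [← Subgroup.subgroupOf_normalizer_eq hUK, ← Subgroup.inf_subgroupOf_right,
          Nat.card_congr (Subgroup.subgroupOfEquivOfLe
            (inf_le_right : normalizer (U : Set G) ⊓ K ≤ K)).toEquiv] at h3
      have hScard : p ^ (j + 1) ∣ Nat.card S.1 := by
        rw [S.2.2]
        exact pow_dvd_pow p ((hp.pow_dvd_iff_le_factorization Nat.card_pos.ne').mp hdvd)
      have hlt : Nat.card U < Nat.card S.1 := by
        rw [hj]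
        exact lt_of_lt_of_le (Nat.pow_lt_pow_right hp.one_lt (Nat.lt_succ_self j))
          (Nat.le_of_dvd Nat.card_pos hScard)
      have hSK : S.1 ≤ K := S.2.1.trans inf_le_right
      have hSp : IsPGroup p S.1 := IsPGroup.of_card S.2.2
      have hSle : Nat.card S.1 ≤ Nat.card K := Subgroup.card_le_of_le hSK
      obtain ⟨P, hP1, hP2⟩ := ih (Nat.card K - Nat.card S.1) (by omega) S.1 rfl hSK hSp hS
      exact ⟨P, hUS.trans hP1, hP2⟩

/-- Under coprime action, an invariant `p`-subgroup lies in an invariant Sylow `p`-subgroup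
(Sylow form). -/
theorem exists_invariant_sylow_ge (h : CoprimeAct A K) {p : ℕ} [Fact p.Prime] (U : Subgroup G)
    (hUK : U ≤ K) (hU : IsPGroup p U) (hUA : A ≤ normalizer (U : Set G)) :
    ∃ P : Sylow p K, U ≤ (P : Subgroup K).map K.subtype ∧
      A ≤ normalizer ((P : Subgroup K).map K.subtype : Set G) := by
  obtain ⟨x, hx1, hx2⟩ := h.exists_invariant_sylSet_ge _ U rfl hUK hU hUA
  exact ⟨x.toSylow, by rw [x.toSylow_map]; exact hx1, by rw [x.toSylow_map]; exact hx2⟩

end CoprimeAct

end Cfsg.Agent.Lib.Helper1
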