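import Mathlib
import Cfsg.Agent.Lib.Helper12.Generation

/-!
# Helper1 library: noncyclic abelian groups

* `exists_prime_lt_card_ker_pow_of_not_isCyclic`: a finite noncyclic commutative group has more
  than `p` elements of order dividing `p` for some prime `p`.
* `exists_exponent_prime_subgroup_of_not_isCyclic`: subgroup form.
* `iSup_inf_centralizer_eq_of_not_isCyclic`: coprime generation `K = ⟨C_K(a) : a ∈ A#⟩` for
  noncyclic abelian `A` (on top of `Cfsg.Agent.Lib.Helper12.Generation`).
-/

set_option autoImplicit false

namespace Cfsg.Agent.Lib.Helper1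

open Subgroup

/-- In a finite commutative group, if the `p`-torsion has at most `p` elements for each prime `p`,
then the `n`-torsion has at most `n` elements for each `n > 0`. -/
theorem card_ker_pow_le_of_prime {A : Type*} [CommGroup A] [Finite A]
    (h : ∀ p : ℕ, p.Prime → Nat.card (powMonoidHom p : A →* A).ker ≤ p) :
    ∀ n : ℕ, 0 < n → Nat.card (powMonoidHom n : A →* A).ker ≤ n := by
  intro n
  induction n using Nat.strong_induction_on with
  | _ n ih =>
    intro hn
    rcases Nat.lt_or_ge 1 n with h1 | h1
    · obtain ⟨p, hp, m, rfl⟩ : ∃ p, p.Prime ∧ ∃ m, n = p * m := by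
        refine ⟨n.minFac, Nat.minFac_prime (by omega), ?_⟩
        obtain ⟨m, hm⟩ := Nat.minFac_dvd n
        exact ⟨m, hm⟩
      have hm0 : 0 < m := Nat.pos_of_mul_pos_left hn |> fun _ => by
        rcases Nat.eq_zero_or_pos m with h0 | h0
        · subst h0; simp at hn
        · exact h0
      have hmlt : m < p * m := by
        have := hp.two_le
        nlinarith
      set H : Subgroup A := (powMonoidHom (p * m) : A →* A).ker with hH
      let g : H →* A := (powMonoidHom p : A →* A).comp H.subtype
      have hcard : Nat.card H = Nat.card g.ker * Nat.card g.range := by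
        rw [← Subgroup.index_ker, Subgroup.card_mul_index]
      have hker : Nat.card g.ker ≤ p := by
        refine le_trans ?_ (h p hp)
        refine Nat.card_le_card_of_injective
          (fun x => ⟨(x : H), ?_⟩) ?_
        · have := x.2
          rw [MonoidHom.mem_ker] at this ⊢
          exact this
        · intro x y hxy
          simp only [Subtype.mk.injEq] at hxy
          exact Subtype.ext (Subtype.ext hxy)
      have hrange : Nat.card g.range ≤ m := by
        refine le_trans ?_ (ih m hmlt hm0)
        apply Subgroup.card_le_of_le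
        rintro _ ⟨x, rfl⟩
        rw [MonoidHom.mem_ker]
        have hx : (x : A) ∈ (powMonoidHom (p * m) : A →* A).ker := x.2
        rw [MonoidHom.mem_ker] at hx
        simp only [powMonoidHom_apply] at hx
        simp only [g, MonoidHom.comp_apply, Subgroup.coe_subtype, powMonoidHom_apply]
        rw [← pow_mul]; exact hx
      rw [hcard]
      exact Nat.mul_le_mul hker hrange
    · have : n = 1 := by omega
      subst this
      have : (powMonoidHom 1 : A →* A).ker = ⊥ := by
        ext x; simp [MonoidHom.mem_ker]
      rw [this, Subgroup.card_bot]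

/-- A finite commutative group which is not cyclic has more than `p` elements of order dividing
`p` for some prime `p`. -/
theorem exists_prime_lt_card_ker_pow_of_not_isCyclic {A : Type*} [CommGroup A] [Finite A]
    (hA : ¬ IsCyclic A) : ∃ p : ℕ, p.Prime ∧ p < Nat.card (powMonoidHom p : A →* A).ker := by
  classical
  by_contra hcon
  push Not at hcon
  apply hA
  have := Fintype.ofFinite A
  apply isCyclic_of_card_pow_eq_one_le
  intro n hn
  have h1 := card_ker_pow_le_of_prime hcon n hn
  refine le_trans (le_of_eq ?_) h1
  rw [Nat.card_eq_fintype_card, Fintype.card_subtype]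
  congr 1
  ext x
  simp [MonoidHom.mem_ker]

/-- A noncyclic commutative subgroup `A` of a finite group contains, for some prime `p`, a
subgroup `E` of exponent `p` with more than `p` elements. -/
theorem exists_exponent_prime_subgroup_of_not_isCyclic {G : Type*} [Group G] [Finite G]
    (A : Subgroup G) [IsMulCommutative A] (hA : ¬ IsCyclic A) :
    ∃ p : ℕ, p.Prime ∧ ∃ E : Subgroup G, E ≤ A ∧ (∀ x ∈ E, x ^ p = 1) ∧ p < Nat.card E := by
  open scoped IsMulCommutative in
  obtain ⟨p, hp, hlt⟩ := exists_prime_lt_card_ker_pow_of_not_isCyclic (A := A) hA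
  refine ⟨p, hp, ((powMonoidHom p : A →* A).ker).map A.subtype, Subgroup.map_subtype_le _, ?_, ?_⟩
  · rintro _ ⟨x, hx, rfl⟩
    have hx' : (powMonoidHom p : A →* A) x = 1 := hx
    simp only [powMonoidHom_apply] at hx'
    have := congrArg Subtype.val hx'
    simpa using this
  · rw [Subgroup.card_subtype]
    exact hlt

/-- **Coprime generation**: a noncyclic abelian group `A` acting coprimely on `K` satisfies
`K = ⟨C_K(a) : a ∈ A#⟩`. -/
theorem iSup_inf_centralizer_eq_of_not_isCyclic {G : Type*} [Group G] [Finite G]
    (A K : Subgroup G) [IsMulCommutative A] (hA : ¬ IsCyclic A)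
    (hAK : A ≤ Subgroup.normalizer (K : Set G)) (hcop : (Nat.card A).Coprime (Nat.card K)) :
    (⨆ a ∈ {a : G | a ∈ A ∧ a ≠ 1}, K ⊓ Subgroup.centralizer {a}) = K := by
  apply le_antisymm
  · exact iSup₂_le fun a _ => inf_le_left
  · obtain ⟨p, hp, E, hEA, hexp, hcard⟩ := exists_exponent_prime_subgroup_of_not_isCyclic A hA
    have : Fact p.Prime := ⟨hp⟩
    have hcomm : ∀ x ∈ E, ∀ y ∈ E, x * y = y * x := by
      intro x hx y hy
      exact congrArg Subtype.val (mul_comm' (⟨x, hEA hx⟩ : A) ⟨y, hEA hy⟩)
    have hpK : ¬ p ∣ Nat.card K := by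
      intro hdvd
      have hpA : p ∣ Nat.card A := by
        have hne : E ≠ ⊥ := by
          rintro rfl
          rw [Subgroup.card_bot] at hcard
          exact absurd hcard (by have := hp.two_le; omega)
        obtain ⟨x, hx1⟩ := (Subgroup.ne_bot_iff_exists_ne_one.mp hne)
        have hord : orderOf (x : G) = p := by
          refine orderOf_eq_prime (hexp x x.2) ?_
          intro h; exact hx1 (Subtype.ext h)
        rw [← hord]
        have : orderOf (x : G) = orderOf (⟨x, hEA x.2⟩ : A) := by
          rw [← Subgroup.orderOf_coe]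
        rw [this]
        exact orderOf_dvd_natCard _
      exact hp.one_lt.ne' (Nat.eq_one_of_dvd_coprimes hcop hpA hdvd)
    refine (Cfsg.Agent.Lib.Helper12.le_genC_of_card hcomm hexp (hEA.trans hAK) hpK hcard).trans ?_
    unfold Cfsg.Agent.Lib.Helper12.genC
    refine iSup_le fun a => ?_
    exact le_iSup₂_of_le (a : G) ⟨hEA a.2.1, a.2.2⟩ le_rfl

end Cfsg.Agent.Lib.Helper1
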