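import Mathlib
import Cfsg.Agent.Lib.Helper1.Basic
import Cfsg.Agent.Lib.Helper1.Cores
import Cfsg.Agent.Lib.Helper1.SZ
import Cfsg.Agent.Lib.Helper1.Hall
import Cfsg.Agent.Lib.Helper1.Coprime

/-!
Frattini subgroup: miscellaneous results.
-/

set_option autoImplicit false

namespace Cfsg.Agent.Lib.Helper1

open Pointwise
open Subgroup

universe u

variable {G : Type u} [Group G]

/-- The automorphism of `K` induced by conjugation with an element normalizing `K`. -/
def conjNormalizer (K : Subgroup G) (a : G) (ha : a ∈ normalizer (K : Set G)) : K ≃* K where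
  toFun k := ⟨a * k * a⁻¹, (Subgroup.mem_normalizer_iff.mp ha k).mp k.2⟩
  invFun k := ⟨a⁻¹ * k * a, by
    have := (Subgroup.mem_normalizer_iff.mp (inv_mem ha) k).mp k.2
    simpa using this⟩
  left_inv k := by apply Subtype.ext; simp [mul_assoc]
  right_inv k := by apply Subtype.ext; simp [mul_assoc]
  map_mul' x y := by apply Subtype.ext; simp [mul_assoc]

/-- A characteristic subgroup of `K` is normalized by the normalizer of `K`. -/
theorem normalizer_le_normalizer_map_of_characteristic (K : Subgroup G) (C : Subgroup K)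
    [hC : C.Characteristic] :
    normalizer (K : Set G) ≤ normalizer ((C.map K.subtype : Subgroup G) : Set G) := by
  apply le_normalizer_of_forall_conj_mem
  rintro a ha _ ⟨c, hc, rfl⟩
  have h1 := (Subgroup.characteristic_iff_map_le.mp hC (conjNormalizer K a ha))
  have h2 : (conjNormalizer K a ha) c ∈ C := h1 (Subgroup.mem_map_of_mem _ hc)
  exact ⟨_, h2, rfl⟩

/-- An action that is trivial modulo the Frattini subgroup and coprime on the Frattini subgroup
is trivial. -/
theorem le_centralizer_of_commutator_le_frattini [Finite G] (A K : Subgroup G)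
    (hAK : A ≤ normalizer (K : Set G))
    (hcop : (Nat.card A).Coprime (Nat.card (frattini K)))
    (htriv : ∀ a ∈ A, ∀ k ∈ K, a * k * a⁻¹ * k⁻¹ ∈ (frattini K).map K.subtype) :
    A ≤ centralizer (K : Set G) := by
  have hΦK : (frattini K).map K.subtype ≤ K := Subgroup.map_subtype_le _
  have hΦcard : Nat.card ((frattini K).map K.subtype) = Nat.card (frattini K) :=
    (Nat.card_congr ((frattini K).equivMapOfInjective _ K.subtype_injective).toEquiv).symm
  have hΦsolv : Group.IsSolvable ((frattini K).map K.subtype) := by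
    have : Group.IsNilpotent (frattini K) := frattini_nilpotent
    exact Group.isSolvable_of_surjective (K.subtype.subgroupMap_surjective (frattini K))
  have hΦnorm := normalizer_le_normalizer_map_of_characteristic K (frattini K)
  have h : CoprimeAct A ((frattini K).map K.subtype) :=
    ⟨hAK.trans hΦnorm, by rw [hΦcard]; exact hcop, Or.inr hΦsolv⟩
  -- every element of `K` is a product of an element centralizing `A` and an element of `Φ(K)`
  have key : ∀ k ∈ K, ∃ u ∈ (frattini K).map K.subtype, k * u ∈ centralizer (A : Set G) := by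
    intro k hk
    have hx : ∀ a ∈ A, k⁻¹ * (a * k * a⁻¹) ∈ (frattini K).map K.subtype := by
      intro a ha
      have h1 : k⁻¹ * (a * k * a⁻¹) = k⁻¹ * (a * k * a⁻¹ * k⁻¹) * k⁻¹⁻¹ := by group
      rw [h1]
      exact (Subgroup.mem_normalizer_iff.mp (hΦnorm (Subgroup.le_normalizer (inv_mem hk))) _).mp
        (htriv a ha k hk)
    obtain ⟨u, hu, hc⟩ := h.exists_mul_mem_normalizer k hx
    refine ⟨u, hu, ?_⟩
    have hcK : k * u ∈ K := mul_mem hk (hΦK hu)
    rw [Subgroup.mem_centralizer_iff]
    intro a ha
    have h1 : a * (k * u) * a⁻¹ * (k * u)⁻¹ ∈ (frattini K).map K.subtype := htriv a ha _ hcK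
    have h2 : a * (k * u) * a⁻¹ * (k * u)⁻¹ ∈ A := by
      have h3 : (k * u) * a⁻¹ * (k * u)⁻¹ ∈ A :=
        (Subgroup.mem_normalizer_iff.mp hc _).mp (inv_mem ha)
      have : a * (k * u) * a⁻¹ * (k * u)⁻¹ = a * ((k * u) * a⁻¹ * (k * u)⁻¹) := by group
      rw [this]; exact mul_mem ha h3
    have h4 := h.inf_eq_bot.le (Subgroup.mem_inf.mpr ⟨h1, h2⟩)
    rw [Subgroup.mem_bot] at h4
    have h5 : a * (k * u) * a⁻¹ * (k * u)⁻¹ * ((k * u) * a) = (k * u) * a := by rw [h4, one_mul]
    rw [← h5]; group
  -- hence `C_K(A) Φ(K) = K`, so `C_K(A) = K`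
  have hsup : (centralizer (A : Set G)).subgroupOf K ⊔ frattini K = ⊤ := by
    rw [eq_top_iff]
    intro k _
    obtain ⟨u, ⟨u', hu', hu'u⟩, hc⟩ := key k k.2
    have hk : k = (k * u') * u'⁻¹ := by group
    rw [hk]
    refine mul_mem (Subgroup.mem_sup_left ?_) (Subgroup.mem_sup_right (inv_mem hu'))
    rw [Subgroup.mem_subgroupOf, Subgroup.coe_mul]
    rw [← hu'u] at hc
    exact hc
  have htop := frattini_nongenerating hsup
  rw [Subgroup.subgroupOf_eq_top] at htop
  exact Subgroup.le_centralizer_iff.mp htop

/-- If `G ⧸ Φ(G)` is nilpotent then so is the finite group `G`. -/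
theorem isNilpotent_of_quotient_frattini [Finite G] (h : Group.IsNilpotent (G ⧸ frattini G)) :
    Group.IsNilpotent G := by
  have q := (Group.isNilpotent_of_finite_tfae (G := G)).out 0 3
  rw [q]
  intro p hp P
  have hsurj := QuotientGroup.mk'_surjective (frattini G)
  have hPbar : ((P.mapSurjective hsurj : Sylow p (G ⧸ frattini G)) : Subgroup (G ⧸ frattini G)).Normal :=
    inferInstance
  rw [Sylow.coe_mapSurjective] at hPbar
  have hN : (((P : Subgroup G).map (QuotientGroup.mk' (frattini G))).comap
      (QuotientGroup.mk' (frattini G))).Normal := inferInstance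
  rw [Subgroup.comap_map_eq, QuotientGroup.ker_mk'] at hN
  have h1 := Sylow.normalizer_sup_eq_top' P
    (le_sup_left : (P : Subgroup G) ≤ (P : Subgroup G) ⊔ frattini G)
  have h2 : normalizer ((P : Subgroup G) : Set G) ⊔ frattini G = ⊤ := by
    have h3 : (P : Subgroup G) ≤ normalizer ((P : Subgroup G) : Set G) := Subgroup.le_normalizer
    rw [eq_top_iff, ← h1]
    exact sup_le le_sup_left (sup_le (h3.trans le_sup_left) le_sup_right)
  exact Subgroup.normalizer_eq_top_iff.mp (frattini_nongenerating h2)

theorem le_frattini_iff {N : Subgroup G} : N ≤ frattini G ↔ ∀ M : Subgroup G, IsCoatom M → N ≤ M := by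
  rw [frattini, Order.radical, le_iInf₂_iff]
  rfl

/-- A subgroup of prime index is maximal. -/
theorem isCoatom_of_index_prime [Finite G] {M : Subgroup G} (h : M.index.Prime) : IsCoatom M := by
  constructor
  · intro htop
    rw [htop, Subgroup.index_top] at h
    exact Nat.not_prime_one h
  · intro M' hlt
    have h1 : M'.index ∣ M.index := Subgroup.index_dvd_of_le hlt.le
    rcases (Nat.dvd_prime h).mp h1 with h2 | h2
    · exact Subgroup.index_eq_one.mp h2
    · exfalso
      have h3 := Subgroup.relIndex_mul_index hlt.le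
      rw [h2] at h3
      have h4 : M.relIndex M' = 1 := by
        have hpos : 0 < M.index := h.pos
        exact Nat.eq_of_mul_eq_mul_right hpos (by rw [h3, one_mul])
      exact hlt.not_ge (Subgroup.relIndex_eq_one.mp h4)

/-- In a finite `p`-group every maximal subgroup has index `p`. -/
theorem IsPGroup.index_of_isCoatom [Finite G] {p : ℕ} [Fact p.Prime] (hG : IsPGroup p G)
    {M : Subgroup G} (hM : IsCoatom M) : M.index = p := by
  obtain ⟨n, hn⟩ := (hG.to_subgroup M).exists_card_eq
  obtain ⟨m, hm⟩ := hG.exists_card_eq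
  have hp : p.Prime := Fact.out
  have hlt : n < m := by
    have h1 : Nat.card M < Nat.card G := card_subgroup_lt_of_ne_top hM.1
    rw [hn, hm] at h1
    exact (Nat.pow_lt_pow_iff_right hp.one_lt).mp h1
  have hdvd : p ^ (n + 1) ∣ Nat.card G := by rw [hm]; exact pow_dvd_pow p hlt
  obtain ⟨K, hK, hMK⟩ := Sylow.exists_subgroup_card_pow_succ hdvd hn
  have hne : M ≠ K := by
    intro h
    rw [← h, hn] at hK
    exact absurd hK (by
      intro h'
      have := Nat.pow_right_injective hp.two_le h'
      omega)
  have hKtop : K = ⊤ := hM.2 K (lt_of_le_of_ne hMK hne)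
  rw [hKtop, Subgroup.card_top] at hK
  have h2 := Subgroup.card_mul_index M
  rw [hn, hK, pow_succ] at h2
  exact Nat.eq_of_mul_eq_mul_left (pow_pos hp.pos n) h2

/-- In a finite `p`-group every maximal subgroup is normal. -/
theorem IsPGroup.normal_of_isCoatom [Finite G] {p : ℕ} [Fact p.Prime] (hG : IsPGroup p G)
    {M : Subgroup G} (hM : IsCoatom M) : M.Normal := by
  have : Group.IsNilpotent G := hG.isNilpotent
  have q := (Group.isNilpotent_of_finite_tfae (G := G)).out 0 2
  exact (q.mp this) M hM

/-- In a finite `p`-group commutators and `p`-th powers lie in the Frattini subgroup. -/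
theorem IsPGroup.commutator_le_frattini [Finite G] {p : ℕ} [Fact p.Prime] (hG : IsPGroup p G) :
    commutator G ≤ frattini G := by
  rw [le_frattini_iff]
  intro M hM
  have hMn := IsPGroup.normal_of_isCoatom hG hM
  have hidx := IsPGroup.index_of_isCoatom hG hM
  rw [← Subgroup.Normal.quotient_commutative_iff_commutator_le]
  have hcard : Nat.card (G ⧸ M) = p := by rw [← Subgroup.index_eq_card, hidx]
  have hcyc : IsCyclic (G ⧸ M) := isCyclic_of_prime_card hcard
  exact IsCyclic.isMulCommutative

theorem IsPGroup.pow_mem_frattini [Finite G] {p : ℕ} [Fact p.Prime] (hG : IsPGroup p G) (x : G) :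
    x ^ p ∈ frattini G := by
  have h : Subgroup.zpowers (x ^ p) ≤ frattini G := by
    rw [le_frattini_iff]
    intro M hM
    have hMn := IsPGroup.normal_of_isCoatom hG hM
    have hidx := IsPGroup.index_of_isCoatom hG hM
    have hcard : Nat.card (G ⧸ M) = p := by rw [← Subgroup.index_eq_card, hidx]
    rw [Subgroup.zpowers_le]
    rw [← QuotientGroup.eq_one_iff, QuotientGroup.mk_pow, ← hcard]
    exact pow_card_eq_one'
  exact h (Subgroup.mem_zpowers _)

/-- In a finite group, the Frattini subgroup lies in any normal subgroup with elementary abelian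
`p`-quotient. -/
theorem frattini_le_of_commutator_le_of_pow_mem [Finite G] {p : ℕ} [Fact p.Prime]
    (N : Subgroup G) (hcomm : commutator G ≤ N) (hpow : ∀ x : G, x ^ p ∈ N) :
    frattini G ≤ N := by
  have hp : p.Prime := Fact.out
  intro x hx
  by_contra hxN
  -- a subgroup maximal subject to containing `N` and avoiding `x`
  obtain ⟨M, hM⟩ := Set.Finite.exists_maximal (s := {M : Subgroup G | N ≤ M ∧ x ∉ M})
    (Set.toFinite _) ⟨N, le_rfl, hxN⟩
  obtain ⟨hNM, hxM⟩ := hM.prop
  have hMn : M.Normal := Subgroup.Normal.of_commutator_le G (hcomm.trans hNM)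
  have hxbar : (x : G ⧸ M) ≠ 1 := fun h => hxM ((QuotientGroup.eq_one_iff x).mp h)
  have hpowbar : ∀ y : G ⧸ M, y ^ p = 1 := by
    intro y
    induction y using QuotientGroup.induction_on with
    | H y =>
      rw [← QuotientGroup.mk_pow, QuotientGroup.eq_one_iff]
      exact hNM (hpow y)
  have hordx : orderOf (x : G ⧸ M) = p := orderOf_eq_prime (hpowbar _) hxbar
  have hall : ∀ y : G ⧸ M, y ∈ Subgroup.zpowers (x : G ⧸ M) := by
    intro y
    by_cases hy1 : y = 1
    · rw [hy1]; exact one_mem _
    have hordy : orderOf y = p := orderOf_eq_prime (hpowbar _) hy1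
    induction y using QuotientGroup.induction_on with
    | H y =>
      have hyM : y ∉ M := fun h => hy1 ((QuotientGroup.eq_one_iff y).mpr h)
      have hxM' : x ∈ M ⊔ Subgroup.zpowers y := by
        by_contra hcon
        have hle : M ⊔ Subgroup.zpowers y ≤ M :=
          hM.le_of_ge ⟨hNM.trans le_sup_left, hcon⟩ le_sup_left
        exact hyM (hle (Subgroup.mem_sup_right (Subgroup.mem_zpowers y)))
      have hxz : (x : G ⧸ M) ∈ Subgroup.zpowers (y : G ⧸ M) := by
        have h1 : (QuotientGroup.mk' M) x ∈ (M ⊔ Subgroup.zpowers y).map (QuotientGroup.mk' M) :=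
          Subgroup.mem_map_of_mem _ hxM'
        rw [Subgroup.map_sup, MonoidHom.map_zpowers, QuotientGroup.map_mk'_self, bot_sup_eq] at h1
        exact h1
      have hle : Subgroup.zpowers (x : G ⧸ M) ≤ Subgroup.zpowers (y : G ⧸ M) :=
        Subgroup.zpowers_le.mpr hxz
      have heq : Subgroup.zpowers (x : G ⧸ M) = Subgroup.zpowers (y : G ⧸ M) := by
        apply Subgroup.eq_of_le_of_card_ge hle
        rw [Nat.card_zpowers, Nat.card_zpowers, hordx, hordy]
      rw [heq]; exact Subgroup.mem_zpowers _
  have hcard : Nat.card (G ⧸ M) = p := by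
    have : Subgroup.zpowers (x : G ⧸ M) = ⊤ := eq_top_iff.mpr fun y _ => hall y
    rw [← Subgroup.card_top, ← this, Nat.card_zpowers, hordx]
  have hcoatom : IsCoatom M := isCoatom_of_index_prime (by rw [Subgroup.index_eq_card, hcard]; exact hp)
  exact hxM (frattini_le_coatom hcoatom hx)

/-- Every prime divisor of the order of a finite group divides the index of the Frattini
subgroup. -/
theorem prime_dvd_index_frattini [Finite G] (p : ℕ) (hp : p.Prime) (hdvd : p ∣ Nat.card G) :
    p ∣ (frattini G).index := by
  have : Fact p.Prime := ⟨hp⟩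
  by_contra hnd
  obtain ⟨P⟩ : Nonempty (Sylow p (frattini G)) := inferInstance
  have hnil : Group.IsNilpotent (frattini G) := frattini_nilpotent
  have hPn : (P : Subgroup (frattini G)).Normal := inferInstance
  have hPc : (P : Subgroup (frattini G)).Characteristic := P.characteristic_of_normal hPn
  have hQn : ((P : Subgroup (frattini G)).map (frattini G).subtype).Normal := inferInstance
  have hQcard : Nat.card ((P : Subgroup (frattini G)).map (frattini G).subtype) =
      p ^ (Nat.card G).factorization p := by
    rw [← Nat.card_congr ((P : Subgroup (frattini G)).equivMapOfInjective _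
      (frattini G).subtype_injective).toEquiv, P.card_eq_multiplicity,
      ← Subgroup.card_mul_index (frattini G),
      Nat.factorization_mul Nat.card_pos.ne' Subgroup.index_ne_zero_of_finite]
    simp [Nat.factorization_eq_zero_of_not_dvd hnd]
  have hQΦ : (P : Subgroup (frattini G)).map (frattini G).subtype ≤ frattini G :=
    Subgroup.map_subtype_le _
  generalize (P : Subgroup (frattini G)).map (frattini G).subtype = Q at hQn hQcard hQΦ
  -- `Q` is a normal Hall subgroup of `G`
  have hcop : (Nat.card Q).Coprime Q.index := by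
    rw [hQcard]
    apply Nat.Coprime.pow_left
    rw [hp.coprime_iff_not_dvd]
    intro h
    have h0 := Subgroup.card_mul_index Q
    rw [hQcard] at h0
    have h1 : p ^ ((Nat.card G).factorization p + 1) ∣ Nat.card G :=
      calc p ^ ((Nat.card G).factorization p + 1) = p ^ (Nat.card G).factorization p * p := pow_succ _ _
        _ ∣ p ^ (Nat.card G).factorization p * Q.index := Nat.mul_dvd_mul_left _ h
        _ = Nat.card G := h0
    exact Nat.pow_succ_factorization_not_dvd Nat.card_pos.ne' hp h1
  obtain ⟨H, hH⟩ := Subgroup.exists_right_complement'_of_coprime hcop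
  have hsup : H ⊔ frattini G = ⊤ := by
    rw [eq_top_iff, ← hH.sup_eq_top, sup_comm]
    exact sup_le_sup_left hQΦ H
  have hHtop := frattini_nongenerating hsup
  rw [hHtop, Subgroup.isComplement'_top_right] at hH
  rw [hH, Subgroup.card_bot] at hQcard
  have hv : (Nat.card G).factorization p ≠ 0 := by
    rw [← Nat.pos_iff_ne_zero]
    exact hp.factorization_pos_of_dvd Nat.card_pos.ne' hdvd
  have := (Nat.pow_eq_one.mp hQcard.symm)
  rcases this with h | h
  · exact hp.one_lt.ne' h
  · exact hv h

/-- An abelian minimal normal subgroup is complemented iff it is not contained in the Frattini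
subgroup. -/
theorem exists_complement_iff_not_le_frattini [Finite G]
    (N : Subgroup G) [hNn : N.Normal] [hNc : IsMulCommutative N] (hN : N ≠ ⊥)
    (hmin : ∀ M : Subgroup G, M.Normal → M ≤ N → M = ⊥ ∨ M = N) :
    (∃ H : Subgroup G, IsComplement' N H) ↔ ¬ N ≤ frattini G := by
  constructor
  · rintro ⟨H, hH⟩ hle
    have hsup : H ⊔ frattini G = ⊤ := by
      rw [eq_top_iff, ← hH.sup_eq_top, sup_comm]
      exact sup_le_sup_left hle H
    have hHtop := frattini_nongenerating hsup
    rw [hHtop, Subgroup.isComplement'_top_right] at hH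
    exact hN hH
  · intro hle
    rw [le_frattini_iff] at hle
    push Not at hle
    obtain ⟨M, hM, hNM⟩ := hle
    refine ⟨M, ?_⟩
    have hsup : N ⊔ M = ⊤ := by
      apply hM.2
      refine lt_of_le_of_ne le_sup_right ?_
      intro h
      exact hNM (h ▸ le_sup_left)
    have hDn : (N ⊓ M).Normal := by
      rw [← Subgroup.normalizer_eq_top_iff, eq_top_iff, ← hsup]
      apply sup_le
      · -- `N` centralizes `N ⊓ M`
        apply le_normalizer_of_forall_conj_mem
        intro x hx d hd
        have hcomm : x * d = d * x := by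
          have := hNc.is_comm.comm ⟨x, hx⟩ ⟨d, (Subgroup.mem_inf.mp hd).1⟩
          exact congrArg Subtype.val this
        rw [hcomm, mul_inv_cancel_right]
        exact hd
      · apply le_normalizer_of_forall_conj_mem
        intro x hx d hd
        obtain ⟨hd1, hd2⟩ := Subgroup.mem_inf.mp hd
        exact Subgroup.mem_inf.mpr ⟨hNn.conj_mem d hd1 x, mul_mem (mul_mem hx hd2) (inv_mem hx)⟩
    apply isComplement'_of_disjoint_of_sup_eq_top _ hsup
    rw [disjoint_iff]
    rcases hmin (N ⊓ M) hDn inf_le_left with h | h
    · exact h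
    · exact absurd (h ▸ inf_le_right : N ≤ M) hNM

end Cfsg.Agent.Lib.Helper1
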