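import Mathlib
import Cfsg.Agent.Lib.Helper13.OmegaSmall

/-!
# Helper1 library: a `p'`-automorphism of a `p`-group fixing the small elements is trivial

`mulAut_eq_one_of_small`: automorphism form (via the semidirect product `G ⋊ ⟨a⟩`) of
`Cfsg.Agent.Lib.Helper13.mem_centralizer_of_centralizes_small`.
-/

set_option autoImplicit false

namespace Cfsg.Agent.Lib.Helper1

/-- Transfer principle: a statement about a single automorphism `a` of a finite group `G`
obtained from the semidirect product `G ⋊ ⟨a⟩`. -/
theorem mulAut_eq_one_of_small {G : Type*} [Group G] [Finite G] {p : ℕ} [Fact p.Prime]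
    (hG : IsPGroup p G) (a : MulAut G) (ha : Nat.Coprime (orderOf a) p)
    (h : ∀ x : G, (x ^ p = 1 ∨ (p = 2 ∧ x ^ 4 = 1)) → a x = x) : a = 1 := by
  classical
  let A : Subgroup (MulAut G) := Subgroup.zpowers a
  let φ : A →* MulAut G := A.subtype
  let S := G ⋊[φ] A
  have : Finite S := Finite.of_equiv _ (SemidirectProduct.equivProd (φ := φ)).symm
  let P : Subgroup S := (SemidirectProduct.inl : G →* S).range
  let g : S := SemidirectProduct.inr ⟨a, Subgroup.mem_zpowers a⟩
  have hP : IsPGroup p P := by
    have : IsPGroup p (SemidirectProduct.inl : G →* S).range :=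
      IsPGroup.of_surjective hG (SemidirectProduct.inl : G →* S).rangeRestrict
        (MonoidHom.rangeRestrict_surjective _)
    exact this
  have hconj : ∀ x : G, g * SemidirectProduct.inl x * g⁻¹ = SemidirectProduct.inl (a x) := by
    intro x
    have := SemidirectProduct.inl_aut (φ := φ) ⟨a, Subgroup.mem_zpowers a⟩ x
    simpa [g, φ] using this.symm
  have hgN : g ∈ Subgroup.normalizer (P : Set S) := by
    rw [Subgroup.mem_normalizer_iff]
    intro y
    constructor
    · rintro ⟨x, rfl⟩
      exact ⟨a x, (hconj x).symm⟩
    · rintro ⟨x, hx⟩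
      refine ⟨a⁻¹ x, ?_⟩
      have h1 := hconj (a⁻¹ x)
      have h2 : a (a⁻¹ x) = x := by simp
      rw [h2] at h1
      have : g * SemidirectProduct.inl (a⁻¹ x) * g⁻¹ = g * y * g⁻¹ := h1.trans hx
      exact mul_left_cancel (mul_right_cancel this)
  have hord : orderOf g = orderOf a := by
    have h1 : orderOf g = orderOf (⟨a, Subgroup.mem_zpowers a⟩ : A) :=
      orderOf_injective (SemidirectProduct.inr : A →* S) SemidirectProduct.inr_injective _
    rw [h1]
    exact (Subgroup.orderOf_mk a (Subgroup.mem_zpowers a))
  have hcent := Cfsg.Agent.Lib.Helper13.mem_centralizer_of_centralizes_small p P hP g hgN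
    (by rw [hord]; exact ha) ?_
  · ext x
    have h1 := hcent (SemidirectProduct.inl x) ⟨x, rfl⟩
    have h2 := hconj x
    rw [← h1] at h2
    have h3 : (SemidirectProduct.inl x : S) = SemidirectProduct.inl (a x) := by
      rw [← h2, mul_inv_cancel_right]
    exact (SemidirectProduct.inl_injective h3).symm
  · rintro _ ⟨x, rfl⟩ hs
    have hx : a x = x := by
      apply h
      rcases hs with hs | ⟨h2, hs⟩
      · left
        apply SemidirectProduct.inl_injective (φ := φ)
        rw [map_pow, hs, map_one]
      · right
        refine ⟨h2, ?_⟩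
        apply SemidirectProduct.inl_injective (φ := φ)
        rw [map_pow, hs, map_one]
    have h2 := hconj x
    rw [hx] at h2
    calc g * SemidirectProduct.inl x = g * SemidirectProduct.inl x * g⁻¹ * g := by
          rw [inv_mul_cancel_right]
      _ = SemidirectProduct.inl x * g := by rw [h2]

end Cfsg.Agent.Lib.Helper1
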