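import Mathlib
import Cfsg.Prelude.Def_Transfer
import Cfsg.Agent.Lib.Helper1.Frattini
import Cfsg.Agent.Lib.Helper1.Hall
import Cfsg.Agent.Lib.Helper1.Nilpotent

/-!
Extraspecial subgroups of p-groups: G = E C_G(E) when [G,E] ≤ Z(E).
-/

set_option autoImplicit false

open Subgroup
open scoped commutatorElement

namespace Cfsg.Agent.Lib.Helper1

universe u

variable {G : Type u} [Group G]

/-- A normal subgroup of prime order in a finite `p`-group is central. -/
theorem le_center_of_normal_of_card_prime [Finite G] {p : ℕ} [Fact p.Prime] (hG : IsPGroup p G)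
    (Z : Subgroup G) [Z.Normal] (hZ : Nat.card Z = p) : Z ≤ center G := by
  have hpp : p.Prime := Fact.out
  have hnil : Group.IsNilpotent G := hG.isNilpotent
  have hZne : Z ≠ ⊥ := by
    intro h
    rw [h, Subgroup.card_bot] at hZ
    exact hpp.one_lt.ne hZ
  have h1 := inf_center_ne_bot_of_normal Z hZne
  have h2 : Nat.card (Z ⊓ center G : Subgroup G) ∣ p := by
    rw [← hZ]; exact Subgroup.card_dvd_of_le inf_le_left
  rcases (Nat.dvd_prime hpp).mp h2 with h3 | h3
  · exact absurd (Subgroup.card_eq_one.mp h3) h1
  · have : Z ⊓ center G = Z := by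
      apply Subgroup.eq_of_le_of_card_ge inf_le_left
      rw [h3, hZ]
    rw [← this]; exact inf_le_right


/-- In a `p`-group `G`, an extraspecial subgroup `E` with `[G, E] ≤ Z(E)` satisfies
`G = E C_G(E)`. -/
theorem extraspecial_sup_centralizer [Finite G] {p : ℕ} [Fact p.Prime] (hG : IsPGroup p G)
    (E : Subgroup G) (hE : Cfsg.IsExtraspecial p E)
    (h : ⁅(⊤ : Subgroup G), E⁆ ≤ E ⊓ centralizer (E : Set G)) :
    E ⊔ centralizer (E : Set G) = ⊤ := by
  have hpp : p.Prime := Fact.out
  -- the centre of E, inside G
  have hZcard : Nat.card (E ⊓ centralizer (E : Set G) : Subgroup G) = p := by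
    have h1 : (E ⊓ centralizer (E : Set G)).subgroupOf E = center E := by
      ext x
      rw [Subgroup.mem_subgroupOf, Subgroup.mem_center_iff, Subgroup.mem_inf,
        Subgroup.mem_centralizer_iff]
      constructor
      · rintro ⟨_, hx⟩ g
        exact Subtype.ext (hx g g.2)
      · intro hx
        exact ⟨x.2, fun g hg => congrArg Subtype.val (hx ⟨g, hg⟩)⟩
    rw [← hE.2, ← h1]
    exact (Nat.card_congr (Subgroup.subgroupOfEquivOfLe
      (inf_le_left : E ⊓ centralizer (E : Set G) ≤ E)).toEquiv).symm
  have hcomm_mem : ∀ g : G, ∀ a ∈ E, ⁅g, a⁆ ∈ E ⊓ centralizer (E : Set G) :=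
    fun g a ha => h (Subgroup.commutator_mem_commutator (Subgroup.mem_top g) ha)
  have hZn : (E ⊓ centralizer (E : Set G)).Normal := by
    constructor
    intro z hz g
    have e : g * z * g⁻¹ = ⁅g, z⁆ * z := by rw [commutatorElement_def]; group
    rw [e]
    exact Subgroup.mul_mem _ (hcomm_mem g z (Subgroup.mem_inf.mp hz).1) hz
  have hZc : E ⊓ centralizer (E : Set G) ≤ center G :=
    le_center_of_normal_of_card_prime hG _ hZcard
  have hEn : E.Normal := by
    rw [← Subgroup.normalizer_eq_top_iff, eq_top_iff, Subgroup.le_normalizer_iff_commutator_le_right]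
    exact h.trans inf_le_left
  -- the commutator homomorphisms
  have hstep : ∀ a ∈ E, ∀ K : Subgroup G,
      Nat.card K ≤ Nat.card (K ⊓ centralizer {a} : Subgroup G) * p := by
    intro a ha K
    let ψ : G →* (E ⊓ centralizer (E : Set G) : Subgroup G) :=
      { toFun := fun g => ⟨⁅g, a⁆, hcomm_mem g a ha⟩
        map_one' := by
          apply Subtype.ext
          simp
        map_mul' := fun g1 g2 => by
          apply Subtype.ext
          show ⁅g1 * g2, a⁆ = ⁅g1, a⁆ * ⁅g2, a⁆
          have hc : ⁅g2, a⁆ ∈ center G := hZc (hcomm_mem g2 a ha)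
          have e : ⁅g1 * g2, a⁆ = g1 * ⁅g2, a⁆ * g1⁻¹ * ⁅g1, a⁆ := by
            simp only [commutatorElement_def]; group
          rw [e, (Subgroup.mem_center_iff.mp hc) g1]
          have hc1 := (Subgroup.mem_center_iff.mp hc) ⁅g1, a⁆
          calc ⁅g2, a⁆ * g1 * g1⁻¹ * ⁅g1, a⁆ = ⁅g2, a⁆ * ⁅g1, a⁆ := by group
            _ = ⁅g1, a⁆ * ⁅g2, a⁆ := hc1.symm }
    have hker : ψ.ker = centralizer {a} := by
      ext g
      rw [MonoidHom.mem_ker, Subgroup.mem_centralizer_iff]
      constructor
      · intro hg y hy
        rw [Set.mem_singleton_iff] at hy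
        subst hy
        have h1 : ⁅g, y⁆ = 1 := congrArg Subtype.val hg
        rw [commutatorElement_eq_one_iff_commute] at h1
        exact h1.eq.symm
      · intro hg
        apply Subtype.ext
        show ⁅g, a⁆ = 1
        rw [commutatorElement_eq_one_iff_commute]
        exact (hg a (Set.mem_singleton a)).symm
    have h1 := card_map_mul_card_inf_ker ψ K
    rw [hker] at h1
    have h2 : Nat.card (K.map ψ) ≤ p := by
      rw [← hZcard]; exact Subgroup.card_le_card_group _
    calc Nat.card K = Nat.card (K.map ψ) * Nat.card (K ⊓ centralizer {a} : Subgroup G) := h1.symm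
      _ ≤ p * Nat.card (K ⊓ centralizer {a} : Subgroup G) := Nat.mul_le_mul_right _ h2
      _ = _ := mul_comm _ _
  -- chain induction
  have hchain : ∀ n : ℕ, ∀ A : Subgroup G, Nat.card A = n → E ⊓ centralizer (E : Set G) ≤ A → A ≤ E →
      Nat.card G * p ≤ Nat.card A * Nat.card (centralizer (A : Set G)) := by
    intro n
    induction n using Nat.strong_induction_on with
    | _ n ih =>
    intro A hn hZA hAE
    by_cases hAZ : A = E ⊓ centralizer (E : Set G)
    · have hct : centralizer (A : Set G) = ⊤ := by
        rw [eq_top_iff]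
        intro g _
        rw [Subgroup.mem_centralizer_iff]
        intro z hz
        rw [hAZ] at hz
        exact ((Subgroup.mem_center_iff.mp (hZc hz)) g).symm
      rw [hct, Subgroup.card_top, hAZ, hZcard, mul_comm]
    · have hZA' : (E ⊓ centralizer (E : Set G)).subgroupOf A ≠ ⊤ := by
        rw [Ne, Subgroup.subgroupOf_eq_top]
        intro hle
        exact hAZ (le_antisymm hle hZA)
      obtain ⟨M, hM, hZM⟩ := (eq_top_or_exists_le_coatom _).resolve_left hZA'
      have hAp : IsPGroup p A := hG.to_subgroup A
      have hMidx : M.index = p := IsPGroup.index_of_isCoatom hAp hM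
      have hA0card : Nat.card (M.map A.subtype) * p = Nat.card A := by
        rw [Subgroup.card_map_of_injective A.subtype_injective, ← hMidx, Subgroup.card_mul_index]
      have hA0A : M.map A.subtype ≤ A := Subgroup.map_subtype_le M
      have hZA0 : E ⊓ centralizer (E : Set G) ≤ M.map A.subtype := by
        intro z hz
        exact ⟨⟨z, hZA hz⟩, hZM (Subgroup.mem_subgroupOf.mpr hz), rfl⟩
      obtain ⟨a', ha'⟩ : ∃ a' : A, a' ∉ M := by
        by_contra hall
        push Not at hall
        exact hM.1 (eq_top_iff.mpr fun x _ => hall x)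
      have hcent : centralizer ((M.map A.subtype : Subgroup G) : Set G) ⊓ centralizer {(a' : G)} ≤
          centralizer (A : Set G) := by
        intro g hg
        obtain ⟨hg0, hga⟩ := Subgroup.mem_inf.mp hg
        have hMK : M ≤ (centralizer {g}).subgroupOf A := by
          intro m hm
          rw [Subgroup.mem_subgroupOf, Subgroup.mem_centralizer_iff]
          intro y hy
          rw [Set.mem_singleton_iff] at hy
          subst hy
          exact ((Subgroup.mem_centralizer_iff.mp hg0) m ⟨m, hm, rfl⟩).symm
        have haK : a' ∈ (centralizer {g}).subgroupOf A := by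
          rw [Subgroup.mem_subgroupOf, Subgroup.mem_centralizer_iff]
          intro y hy
          rw [Set.mem_singleton_iff] at hy
          subst hy
          exact ((Subgroup.mem_centralizer_iff.mp hga) a' (Set.mem_singleton _)).symm
        have hlt : M < (centralizer {g}).subgroupOf A := by
          apply lt_of_le_of_ne hMK
          intro heq
          exact ha' (heq ▸ haK)
        have hK := hM.2 _ hlt
        rw [Subgroup.mem_centralizer_iff]
        intro x hx
        have hxK : (⟨x, hx⟩ : A) ∈ (centralizer {g}).subgroupOf A := by rw [hK]; exact Subgroup.mem_top _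
        rw [Subgroup.mem_subgroupOf, Subgroup.mem_centralizer_iff] at hxK
        exact (hxK g (Set.mem_singleton g)).symm
      have hlt : Nat.card (M.map A.subtype) < n := by
        rw [← hn, ← hA0card]
        have hpos : 0 < Nat.card (M.map A.subtype) := Nat.card_pos
        have := hpp.one_lt
        nlinarith
      have hih := ih _ hlt (M.map A.subtype) rfl hZA0 (hA0A.trans hAE)
      have hs := hstep (a' : G) (hAE a'.2) (centralizer ((M.map A.subtype : Subgroup G) : Set G))
      have hle := Subgroup.card_le_of_le hcent
      calc Nat.card G * p ≤ Nat.card (M.map A.subtype) *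
            Nat.card (centralizer ((M.map A.subtype : Subgroup G) : Set G)) := hih
        _ ≤ Nat.card (M.map A.subtype) * (Nat.card (centralizer (A : Set G)) * p) :=
            Nat.mul_le_mul_left _ (hs.trans (Nat.mul_le_mul_right _ hle))
        _ = (Nat.card (M.map A.subtype) * p) * Nat.card (centralizer (A : Set G)) := by ring
        _ = _ := by rw [hA0card]
  have hfinal := hchain _ E rfl inf_le_left le_rfl
  have : (centralizer (E : Set G)).Normal := Subgroup.normal_centralizer
  have hprod := card_sup_mul_card_inf E (centralizer (E : Set G))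
  rw [hZcard] at hprod
  rw [← hprod] at hfinal
  have hle : Nat.card G ≤ Nat.card (E ⊔ centralizer (E : Set G) : Subgroup G) :=
    Nat.le_of_mul_le_mul_right hfinal hpp.pos
  exact Subgroup.eq_top_of_le_card _ hle

end Cfsg.Agent.Lib.Helper1
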