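import Mathlib
import Cfsg.Agent.Lib.Helper1.SZ
import Cfsg.Agent.Lib.Helper1.Hall

/-!
Maximal subgroups of finite solvable groups have prime power index.
-/

set_option autoImplicit false

open Subgroup
open Pointwise

namespace Cfsg.Agent.Lib.Helper1

universe u

variable {G : Type u} [Group G]

theorem relIndex_sup_of_normal [Finite G] (D N : Subgroup G) [N.Normal] :
    D.relIndex (D ⊔ N) = D.relIndex N := by
  have c1 := card_sup_mul_card_inf D N
  have c2 := card_mul_relIndex_of_le (le_sup_left : D ≤ D ⊔ N)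
  have c3 := card_mul_relIndex_of_le (inf_le_right : D ⊓ N ≤ N)
  rw [Subgroup.inf_relIndex_right] at c3
  rw [← c2, ← c3] at c1
  have hD : 0 < Nat.card D := Nat.card_pos
  have hDN : 0 < Nat.card (D ⊓ N : Subgroup G) := Nat.card_pos
  have : Nat.card D * Nat.card (D ⊓ N : Subgroup G) * D.relIndex (D ⊔ N) =
      Nat.card D * Nat.card (D ⊓ N : Subgroup G) * D.relIndex N := by
    calc Nat.card D * Nat.card (D ⊓ N : Subgroup G) * D.relIndex (D ⊔ N)
        = Nat.card D * D.relIndex (D ⊔ N) * Nat.card (D ⊓ N : Subgroup G) := by ring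
      _ = Nat.card D * (Nat.card (D ⊓ N : Subgroup G) * D.relIndex N) := c1
      _ = _ := by ring
  exact Nat.eq_of_mul_eq_mul_left (Nat.mul_pos hD hDN) this

/-- The image of a coatom containing the kernel is a coatom in the quotient. -/
theorem isCoatom_map_mk (N M : Subgroup G) [N.Normal] (hM : IsCoatom M) (hNM : N ≤ M) :
    IsCoatom (M.map (QuotientGroup.mk' N)) := by
  have hcomap : (M.map (QuotientGroup.mk' N)).comap (QuotientGroup.mk' N) = M := by
    rw [Subgroup.comap_map_eq, QuotientGroup.ker_mk', sup_eq_left.mpr hNM]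
  constructor
  · intro h
    rw [h, Subgroup.comap_top] at hcomap
    exact hM.1 hcomap.symm
  · intro L hL
    have h1 : M ≤ L.comap (QuotientGroup.mk' N) := by
      rw [← hcomap]; exact Subgroup.comap_mono hL.le
    have h2 : M ≠ L.comap (QuotientGroup.mk' N) := by
      intro h
      have : L = M.map (QuotientGroup.mk' N) := by
        rw [h, Subgroup.map_comap_eq_self_of_surjective (QuotientGroup.mk'_surjective N)]
      exact hL.ne this.symm
    have h3 := hM.2 _ (lt_of_le_of_ne h1 h2)
    have := Subgroup.map_comap_eq_self_of_surjective (QuotientGroup.mk'_surjective N) L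
    rw [h3, Subgroup.map_top_of_surjective _ (QuotientGroup.mk'_surjective N)] at this
    exact this.symm

theorem isPrimePow_index_of_isCoatom_aux : ∀ (n : ℕ) (G : Type u) [Group G] [Finite G]
    [Group.IsSolvable G], Nat.card G = n → ∀ M : Subgroup G, IsCoatom M → IsPrimePow M.index := by
  intro n
  induction n using Nat.strong_induction_on with
  | _ n ih =>
  intro G _ _ _ hn M hM
  have hnt : Nontrivial G := by
    by_contra h
    rw [not_nontrivial_iff_subsingleton] at h
    exact hM.1 (Subsingleton.elim _ _)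
  have htop : (⊤ : Subgroup G) ≠ ⊥ := top_ne_bot
  obtain ⟨p, hp, P, hPn, -, hPne, -, hPp⟩ :=
    exists_normal_elementary_abelian_le (G := G) _ ⊤ rfl htop inferInstance
  have : Fact p.Prime := ⟨hp⟩
  by_cases hPM : P ≤ M
  · have hlt : Nat.card (G ⧸ P) < n := by rw [← hn]; exact card_quotient_lt_of_ne_bot hPne
    have := ih _ hlt (G ⧸ P) rfl _ (isCoatom_map_mk P M hM hPM)
    rwa [Subgroup.index_map_eq _ (QuotientGroup.mk'_surjective P)
      (by rw [QuotientGroup.ker_mk']; exact hPM)] at this
  · have hsup : M ⊔ P = ⊤ := by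
      apply hM.2
      apply lt_of_le_of_ne le_sup_left
      intro h
      apply hPM
      rw [h]; exact le_sup_right
    have hidx : M.index = M.relIndex P := by
      rw [← relIndex_sup_of_normal, hsup, Subgroup.relIndex_top_right]
    have hPp' : IsPGroup p P := by
      intro g
      refine ⟨1, ?_⟩
      rw [pow_one]
      exact Subtype.ext (hPp g g.2)
    obtain ⟨k, hk⟩ := IsPGroup.iff_card.mp hPp'
    have hdvd : M.index ∣ p ^ k := by
      rw [hidx, ← hk]; exact Subgroup.relIndex_dvd_card M P
    obtain ⟨j, -, hj⟩ := (Nat.dvd_prime_pow hp).mp hdvd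
    rw [isPrimePow_nat_iff]
    refine ⟨p, j, hp, ?_, hj.symm⟩
    apply Nat.pos_of_ne_zero
    intro h0
    rw [h0, pow_zero, Subgroup.index_eq_one] at hj
    exact hM.1 hj

end Cfsg.Agent.Lib.Helper1
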