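import Mathlib
import Cfsg.Agent.Lib.Helper1.Basic
import Cfsg.Agent.Lib.Helper1.SZ
import Cfsg.Agent.Lib.Helper1.BaerSuzuki
import Cfsg.Agent.Lib.Helper1.MaxSolvable

/-!
# Carter subgroups

Existence and conjugacy of Carter subgroups (nilpotent self-normalizing subgroups) of finite
solvable groups: `Carter.carterProp`.
-/

set_option autoImplicit false
set_option linter.unusedSectionVars false

namespace Cfsg.Agent.Lib.Helper1

open Pointwise

namespace Carter

universe u

/-- `C` is a Carter subgroup: nilpotent and self-normalizing. -/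
def IsCarter {G : Type*} [Group G] (C : Subgroup G) : Prop :=
  Group.IsNilpotent C ∧ Subgroup.normalizer (C : Set G) = C

/-- `C` is a Carter subgroup of the subgroup `M`. -/
def IsCarterIn {G : Type*} [Group G] (C M : Subgroup G) : Prop :=
  C ≤ M ∧ Group.IsNilpotent C ∧ Subgroup.normalizer (C : Set G) ⊓ M = C

/-- existence and conjugacy of Carter subgroups in `X`. -/
def CarterProp (X : Type u) [Group X] : Prop :=
  (∃ C : Subgroup X, IsCarter C) ∧
    ∀ C D : Subgroup X, IsCarter C → IsCarter D → ∃ g : X, MulAut.conj g • C = D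

/-- induction hypothesis -/
def IHyp (n : ℕ) : Prop :=
  ∀ m < n, ∀ (X : Type u) [Group X] [Finite X] [Group.IsSolvable X], Nat.card X = m → CarterProp X

section

variable {G : Type u} [Group G]

theorem isCarter_subgroupOf_iff {C M : Subgroup G} (hCM : C ≤ M) :
    IsCarter (C.subgroupOf M) ↔ IsCarterIn C M := by
  unfold IsCarter IsCarterIn
  have e : C.subgroupOf M ≃* C := Subgroup.subgroupOfEquivOfLe hCM
  constructor
  · rintro ⟨h1, h2⟩
    refine ⟨hCM, Group.nilpotent_of_mulEquiv e, ?_⟩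
    rw [← Subgroup.subgroupOf_normalizer_eq hCM] at h2
    apply le_antisymm
    · intro x hx
      obtain ⟨hx1, hx2⟩ := Subgroup.mem_inf.mp hx
      have : (⟨x, hx2⟩ : M) ∈ (Subgroup.normalizer (C : Set G)).subgroupOf M := hx1
      rw [h2] at this
      exact this
    · exact le_inf Subgroup.le_normalizer hCM
  · rintro ⟨-, h1, h2⟩
    refine ⟨Group.nilpotent_of_mulEquiv e.symm, ?_⟩
    rw [← Subgroup.subgroupOf_normalizer_eq hCM]
    ext x
    rw [Subgroup.mem_subgroupOf, Subgroup.mem_subgroupOf]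
    constructor
    · intro hx
      have : (x : G) ∈ Subgroup.normalizer (C : Set G) ⊓ M := Subgroup.mem_inf.mpr ⟨hx, x.2⟩
      rwa [h2] at this
    · intro hx
      exact Subgroup.le_normalizer hx

variable [Finite G] [Group.IsSolvable G]

theorem exists_isCarterIn {n : ℕ} (ih : IHyp.{u} n) (hG : Nat.card G = n) (M : Subgroup G)
    (hM : M ≠ ⊤) : ∃ C : Subgroup G, IsCarterIn C M := by
  have hlt : Nat.card M < n := by
    rw [← hG]
    rcases (Nat.le_of_dvd Nat.card_pos (Subgroup.card_subgroup_dvd_card M)).lt_or_eq with h | h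
    · exact h
    · exact absurd (Subgroup.eq_top_of_card_eq M h) hM
  obtain ⟨⟨C', hC'⟩, -⟩ := ih _ hlt M rfl
  refine ⟨C'.map M.subtype, ?_⟩
  have hle : C'.map M.subtype ≤ M := Subgroup.map_subtype_le _
  rw [← isCarter_subgroupOf_iff hle]
  have : (C'.map M.subtype).subgroupOf M = C' := by
    ext x
    rw [Subgroup.mem_subgroupOf]
    constructor
    · rintro ⟨y, hy, hxy⟩
      have : y = x := Subtype.ext hxy
      rwa [← this]
    · intro hx
      exact ⟨x, hx, rfl⟩
  rw [this]
  exact hC'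

theorem exists_conj_of_isCarterIn {n : ℕ} (ih : IHyp.{u} n) (hG : Nat.card G = n)
    (M : Subgroup G) (hM : M ≠ ⊤) {C D : Subgroup G} (hC : IsCarterIn C M)
    (hD : IsCarterIn D M) : ∃ g ∈ M, MulAut.conj g • C = D := by
  have hlt : Nat.card M < n := by
    rw [← hG]
    rcases (Nat.le_of_dvd Nat.card_pos (Subgroup.card_subgroup_dvd_card M)).lt_or_eq with h | h
    · exact h
    · exact absurd (Subgroup.eq_top_of_card_eq M h) hM
  obtain ⟨-, hconj⟩ := ih _ hlt M rfl
  obtain ⟨g, hg⟩ := hconj _ _ ((isCarter_subgroupOf_iff hC.1).mpr hC)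
    ((isCarter_subgroupOf_iff hD.1).mpr hD)
  refine ⟨g, g.2, ?_⟩
  ext x
  rw [mem_conj_smul]
  constructor
  · intro hx
    have hxM : x ∈ M := by
      have h1 : (g : G)⁻¹ * x * g ∈ M := hC.1 hx
      have : x = (g : G) * ((g : G)⁻¹ * x * g) * (g : G)⁻¹ := by group
      rw [this]
      exact M.mul_mem (M.mul_mem g.2 h1) (M.inv_mem g.2)
    have h2 : (⟨x, hxM⟩ : M) ∈ MulAut.conj g • C.subgroupOf M := by
      rw [mem_conj_smul, Subgroup.mem_subgroupOf]
      exact hx
    rw [hg, Subgroup.mem_subgroupOf] at h2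
    exact h2
  · intro hx
    have hxM : x ∈ M := hD.1 hx
    have h2 : (⟨x, hxM⟩ : M) ∈ D.subgroupOf M := by
      rw [Subgroup.mem_subgroupOf]; exact hx
    rw [← hg, mem_conj_smul, Subgroup.mem_subgroupOf] at h2
    exact h2

theorem card_quotient_lt (N : Subgroup G) [N.Normal] (hN : N ≠ ⊥) :
    Nat.card (G ⧸ N) < Nat.card G := by
  have h1 := Subgroup.card_eq_card_quotient_mul_card_subgroup N
  have h2 : 1 < Nat.card N := by
    rcases Nat.lt_or_ge 1 (Nat.card N) with h | h
    · exact h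
    · exfalso
      have : Nat.card N = 1 := le_antisymm h Nat.card_pos
      exact hN (Subgroup.card_eq_one.mp this)
  have h3 : 0 < Nat.card (G ⧸ N) := Nat.card_pos
  rw [h1]
  nlinarith

theorem isCarter_comap_iff (N : Subgroup G) [N.Normal] (K' : Subgroup (G ⧸ N)) :
    Subgroup.normalizer ((K'.comap (QuotientGroup.mk' N) : Subgroup G) : Set G) =
      K'.comap (QuotientGroup.mk' N) ↔ Subgroup.normalizer (K' : Set (G ⧸ N)) = K' := by
  rw [← Subgroup.comap_normalizer_eq_of_surjective K' (QuotientGroup.mk'_surjective N)]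
  constructor
  · intro h
    exact Subgroup.comap_injective (QuotientGroup.mk'_surjective N) h
  · intro h
    rw [h]

theorem exists_of_quotient {n : ℕ} (ih : IHyp.{u} n) (hG : Nat.card G = n) (N : Subgroup G)
    [N.Normal] (hN : N ≠ ⊥) :
    ∃ K : Subgroup G, N ≤ K ∧ Group.IsNilpotent (K.map (QuotientGroup.mk' N)) ∧
      Subgroup.normalizer (K : Set G) = K := by
  have hlt : Nat.card (G ⧸ N) < n := hG ▸ card_quotient_lt N hN
  obtain ⟨⟨K', hK'1, hK'2⟩, -⟩ := ih _ hlt (G ⧸ N) rfl
  refine ⟨K'.comap (QuotientGroup.mk' N), ?_, ?_, ?_⟩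
  · conv_lhs => rw [← QuotientGroup.ker_mk' N]
    exact MonoidHom.ker_le_comap _ _
  · rw [Subgroup.map_comap_eq_self_of_surjective (QuotientGroup.mk'_surjective N)]
    exact hK'1
  · exact (isCarter_comap_iff N K').mpr hK'2

theorem exists_conj_of_quotient {n : ℕ} (ih : IHyp.{u} n) (hG : Nat.card G = n) (N : Subgroup G)
    [N.Normal] (hN : N ≠ ⊥) {K L : Subgroup G} (hNK : N ≤ K) (hNL : N ≤ L)
    (hK : Group.IsNilpotent (K.map (QuotientGroup.mk' N)))
    (hKn : Subgroup.normalizer (K : Set G) = K)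
    (hL : Group.IsNilpotent (L.map (QuotientGroup.mk' N)))
    (hLn : Subgroup.normalizer (L : Set G) = L) : ∃ g : G, MulAut.conj g • K = L := by
  have hlt : Nat.card (G ⧸ N) < n := hG ▸ card_quotient_lt N hN
  obtain ⟨-, hconj⟩ := ih _ hlt (G ⧸ N) rfl
  have hcm : ∀ {K : Subgroup G}, N ≤ K →
      (K.map (QuotientGroup.mk' N)).comap (QuotientGroup.mk' N) = K := by
    intro K hNK
    rw [Subgroup.comap_map_eq, QuotientGroup.ker_mk', sup_of_le_left hNK]
  have hK' : IsCarter (K.map (QuotientGroup.mk' N)) := by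
    refine ⟨hK, ?_⟩
    rw [← isCarter_comap_iff, hcm hNK]
    exact hKn
  have hL' : IsCarter (L.map (QuotientGroup.mk' N)) := by
    refine ⟨hL, ?_⟩
    rw [← isCarter_comap_iff, hcm hNL]
    exact hLn
  obtain ⟨q, hq⟩ := hconj _ _ hK' hL'
  obtain ⟨g, rfl⟩ := QuotientGroup.mk'_surjective N q
  refine ⟨g, ?_⟩
  rw [← hcm hNL, ← hq]
  ext x
  rw [mem_conj_smul, Subgroup.mem_comap, mem_conj_smul]
  have h1 : (QuotientGroup.mk' N g)⁻¹ * (QuotientGroup.mk' N x) * (QuotientGroup.mk' N g) =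
      QuotientGroup.mk' N (g⁻¹ * x * g) := by simp
  rw [h1]
  constructor
  · intro hx
    exact Subgroup.mem_map_of_mem _ hx
  · intro hx
    have : g⁻¹ * x * g ∈ (K.map (QuotientGroup.mk' N)).comap (QuotientGroup.mk' N) := hx
    rwa [hcm hNK] at this

omit [Finite G] [Group.IsSolvable G] in
theorem mem_normalizer_conj_smul {C : Subgroup G} {x z : G} :
    z ∈ Subgroup.normalizer ((MulAut.conj x • C : Subgroup G) : Set G) ↔
      x⁻¹ * z * x ∈ Subgroup.normalizer (C : Set G) := by
  rw [← conj_smul_eq_self_iff_mem_normalizer, ← conj_smul_eq_self_iff_mem_normalizer]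
  have h1 : MulAut.conj (x⁻¹ * z * x) • C =
      MulAut.conj x⁻¹ • (MulAut.conj z • (MulAut.conj x • C)) := by
    rw [← mul_smul, ← mul_smul, ← map_mul, ← map_mul, mul_assoc]
  rw [h1]
  constructor
  · intro h
    rw [h, ← mul_smul, ← map_mul, inv_mul_cancel, map_one, one_smul]
  · intro h
    have h2 : MulAut.conj x • (MulAut.conj x⁻¹ • (MulAut.conj z • (MulAut.conj x • C))) =
        MulAut.conj x • C := by rw [h]
    rwa [← mul_smul, ← map_mul, mul_inv_cancel, map_one, one_smul] at h2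

omit [Finite G] [Group.IsSolvable G] in
theorem isCarterIn_conj {C M : Subgroup G} (hC : IsCarterIn C M) {x : G}
    (hx : x ∈ Subgroup.normalizer (M : Set G)) : IsCarterIn (MulAut.conj x • C) M := by
  obtain ⟨h1, h2, h3⟩ := hC
  have hxM : ∀ y, y ∈ M ↔ x⁻¹ * y * x ∈ M := by
    intro y
    have := (Subgroup.mem_normalizer_iff.mp hx) (x⁻¹ * y * x)
    rw [this]
    have : x * (x⁻¹ * y * x) * x⁻¹ = y := by group
    rw [this]
  refine ⟨?_, ?_, ?_⟩
  · intro y hy
    rw [mem_conj_smul] at hy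
    exact (hxM y).mpr (h1 hy)
  · have e : C ≃* (MulAut.conj x • C : Subgroup G) :=
      C.equivMapOfInjective _ (MulAut.conj x).injective
    exact Group.nilpotent_of_mulEquiv e
  · ext z
    rw [Subgroup.mem_inf, mem_normalizer_conj_smul, mem_conj_smul, hxM z, ← Subgroup.mem_inf, h3]

/-- If `C` is a Carter subgroup of the proper subgroup `M` and `x` normalizes `M`, then
`x ∈ M N_G(C)`. -/
theorem exists_mul_mem_normalizer {n : ℕ} (ih : IHyp.{u} n) (hG : Nat.card G = n)
    (M : Subgroup G) (hM : M ≠ ⊤) {C : Subgroup G} (hC : IsCarterIn C M) {x : G}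
    (hx : x ∈ Subgroup.normalizer (M : Set G)) :
    ∃ y ∈ M, y⁻¹ * x ∈ Subgroup.normalizer (C : Set G) := by
  obtain ⟨y, hyM, hy⟩ := exists_conj_of_isCarterIn ih hG M hM hC (isCarterIn_conj hC hx)
  refine ⟨y, hyM, ?_⟩
  rw [← conj_smul_eq_self_iff_mem_normalizer, map_mul, mul_smul, ← hy, ← mul_smul, ← map_mul,
    inv_mul_cancel, map_one, one_smul]

/-- If `C` is a Carter subgroup of `G` and `N` is normal, then `C N` is self-normalizing. -/
theorem normalizer_sup_eq {n : ℕ} (ih : IHyp.{u} n) (hG : Nat.card G = n)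
    {C : Subgroup G} (hC : IsCarter C) (N : Subgroup G) [N.Normal] :
    Subgroup.normalizer ((C ⊔ N : Subgroup G) : Set G) = C ⊔ N := by
  by_cases htop : C ⊔ N = ⊤
  · rw [htop]
    exact Subgroup.normalizer_eq_top_iff.mpr (inferInstance : (⊤ : Subgroup G).Normal)
  · apply le_antisymm _ Subgroup.le_normalizer
    intro x hx
    have hCin : IsCarterIn C (C ⊔ N) := by
      refine ⟨le_sup_left, hC.1, ?_⟩
      rw [hC.2]
      exact inf_of_le_left le_sup_left
    obtain ⟨y, hy, hyx⟩ := exists_mul_mem_normalizer ih hG _ htop hCin hx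
    rw [hC.2] at hyx
    have : x = y * (y⁻¹ * x) := by group
    rw [this]
    exact Subgroup.mul_mem _ hy (le_sup_left (a := C) hyx)

/-- A minimal normal subgroup inside a nontrivial normal subgroup of a solvable group; it is
abelian. -/
theorem exists_minimal_normal (N₀ : Subgroup G) [N₀.Normal] (hN₀ : N₀ ≠ ⊥) :
    ∃ A : Subgroup G, A.Normal ∧ A ≠ ⊥ ∧ A ≤ N₀ ∧ IsMulCommutative A ∧
      ∀ B : Subgroup G, B.Normal → B ≤ A → B = ⊥ ∨ B = A := by
  obtain ⟨A, ⟨hAn, hAne, hAle⟩, hmin⟩ :=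
    (Set.toFinite {A : Subgroup G | A.Normal ∧ A ≠ ⊥ ∧ A ≤ N₀}).exists_minimal
      ⟨N₀, inferInstance, hN₀, le_rfl⟩
  have hmin' : ∀ B : Subgroup G, B.Normal → B ≤ A → B = ⊥ ∨ B = A := by
    intro B hB hBA
    by_cases hb : B = ⊥
    · exact Or.inl hb
    · right
      exact le_antisymm hBA (hmin ⟨hB, hb, hBA.trans hAle⟩ hBA)
  refine ⟨A, hAn, hAne, hAle, ?_, hmin'⟩
  have hsolv : Group.IsSolvable A := inferInstance
  obtain ⟨p, -, P, hPn, hPA, hPne, hPc, -⟩ :=
    exists_normal_elementary_abelian_le (G := G) _ A rfl hAne hsolv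
  rcases hmin' P hPn hPA with h | h
  · exact absurd h hPne
  · rw [← h]; exact hPc

omit [Finite G] [Group.IsSolvable G] in
/-- A Carter subgroup contained in a nilpotent subgroup equals it. -/
theorem eq_of_le_of_isNilpotent {D C : Subgroup G} (hD : IsCarter D) (hC : Group.IsNilpotent C)
    (hDC : D ≤ C) : D = C := by
  by_contra hne
  obtain ⟨u, -, hu1, hu2⟩ := exists_mem_normalizer_notMem_of_lt hC (lt_of_le_of_ne hDC hne)
  rw [hD.2] at hu1
  exact hu2 hu1

omit [Finite G] [Group.IsSolvable G] in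
theorem mem_normalizer_sup_of_mem_normalizer {C A : Subgroup G} [A.Normal] {g : G}
    (hg : g ∈ Subgroup.normalizer (C : Set G)) :
    g ∈ Subgroup.normalizer ((C ⊔ A : Subgroup G) : Set G) := by
  rw [← conj_smul_eq_self_iff_mem_normalizer] at hg ⊢
  rw [Subgroup.smul_sup, hg, Subgroup.Normal.conj_smul_eq_self]

omit [Finite G] [Group.IsSolvable G] in
theorem exists_mul_of_sup_eq_top {M A : Subgroup G} [A.Normal] (h : M ⊔ A = ⊤) (g : G) :
    ∃ m ∈ M, ∃ a ∈ A, g = m * a := by
  have hg : g ∈ ((M ⊔ A : Subgroup G) : Set G) := by rw [h]; trivial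
  rw [Subgroup.mul_normal] at hg
  obtain ⟨m, hm, a, ha, rfl⟩ := Set.mem_mul.mp hg
  exact ⟨m, hm, a, ha, rfl⟩

omit [Finite G] [Group.IsSolvable G] in
theorem comm_of_mem_of_isMulCommutative {A : Subgroup G} (hA : IsMulCommutative A) {a b : G}
    (ha : a ∈ A) (hb : b ∈ A) : a * b = b * a := by
  have := hA.is_comm.comm (⟨a, ha⟩ : A) ⟨b, hb⟩
  exact congrArg Subtype.val this

omit [Finite G] [Group.IsSolvable G] in
theorem inf_normal_of_sup_eq_top {M A : Subgroup G} [hAn : A.Normal] (hA : IsMulCommutative A)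
    (h : M ⊔ A = ⊤) : (M ⊓ A).Normal := by
  constructor
  intro x hx g
  obtain ⟨m, hm, a, ha, rfl⟩ := exists_mul_of_sup_eq_top h g
  obtain ⟨hxM, hxA⟩ := Subgroup.mem_inf.mp hx
  have hcomm : a * x = x * a := comm_of_mem_of_isMulCommutative hA ha hxA
  have : m * a * x * (m * a)⁻¹ = m * x * m⁻¹ := by
    rw [mul_inv_rev, mul_assoc m a x, hcomm]; group
  rw [this]
  exact Subgroup.mem_inf.mpr
    ⟨M.mul_mem (M.mul_mem hm hxM) (M.inv_mem hm), hAn.conj_mem x hxA m⟩

omit [Finite G] [Group.IsSolvable G] in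
/-- a subgroup meeting the kernel of a map to a nilpotent group trivially is nilpotent -/
theorem isNilpotent_of_inf_eq_bot {M A : Subgroup G} [A.Normal] (hQ : Group.IsNilpotent (G ⧸ A))
    (h : M ⊓ A = ⊥) : Group.IsNilpotent M := by
  apply Subgroup.isNilpotent_of_ker_le_center ((QuotientGroup.mk' A).comp M.subtype)
  intro x hx
  rw [MonoidHom.mem_ker, MonoidHom.comp_apply, QuotientGroup.mk'_apply,
    QuotientGroup.eq_one_iff] at hx
  have : (x : G) ∈ M ⊓ A := Subgroup.mem_inf.mpr ⟨x.2, hx⟩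
  rw [h, Subgroup.mem_bot] at this
  have hx1 : x = 1 := Subtype.ext this
  rw [hx1]
  exact Subgroup.one_mem _

theorem exists_isCarter {n : ℕ} (ih : IHyp.{u} n) (hG : Nat.card G = n) :
    ∃ C : Subgroup G, IsCarter C := by
  by_cases hnil : Group.IsNilpotent G
  · refine ⟨⊤, Group.nilpotent_of_mulEquiv Subgroup.topEquiv.symm, ?_⟩
    exact Subgroup.normalizer_eq_top_iff.mpr (inferInstance : (⊤ : Subgroup G).Normal)
  · have htop : (⊤ : Subgroup G) ≠ ⊥ := by
      intro h
      apply hnil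
      have h1 : Subsingleton (Subgroup G) := subsingleton_of_bot_eq_top h.symm
      have : Subsingleton G := Subgroup.subsingleton_iff.mp h1
      infer_instance
    obtain ⟨A, hAn, hAne, -, hAc, hAmin⟩ := exists_minimal_normal (⊤ : Subgroup G) htop
    obtain ⟨K, hAK, hKnil, hKn⟩ := exists_of_quotient ih hG A hAne
    by_cases hK : K = ⊤
    · -- `G ⧸ A` is nilpotent
      have hQ : Group.IsNilpotent (G ⧸ A) := by
        rw [hK, ← MonoidHom.range_eq_map,
          MonoidHom.range_eq_top.mpr (QuotientGroup.mk'_surjective A)] at hKnil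
        exact Group.nilpotent_of_mulEquiv Subgroup.topEquiv
      have h3 : ¬ ∀ H : Subgroup G, IsCoatom H → H.Normal := by
        intro h
        exact hnil ((Group.isNilpotent_of_finite_tfae (G := G)).out 0 2 rfl rfl |>.mpr h)
      push Not at h3
      obtain ⟨M, hM, hMn⟩ := h3
      have hMnorm : Subgroup.normalizer (M : Set G) = M := by
        by_contra hne
        have hlt : M < Subgroup.normalizer (M : Set G) :=
          lt_of_le_of_ne Subgroup.le_normalizer (Ne.symm hne)
        exact hMn (Subgroup.normalizer_eq_top_iff.mp (hM.2 _ hlt))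
      have hAM : ¬ A ≤ M := by
        intro hAM
        have h4 := isCoatom_map_mk A M hM hAM
        have h5 : (M.map (QuotientGroup.mk' A)).Normal :=
          (Group.isNilpotent_of_finite_tfae (G := G ⧸ A)).out 0 2 rfl rfl |>.mp hQ _ h4
        have h6 : (M.map (QuotientGroup.mk' A)).comap (QuotientGroup.mk' A) = M := by
          rw [Subgroup.comap_map_eq, QuotientGroup.ker_mk', sup_of_le_left hAM]
        apply hMn
        rw [← h6]
        exact Subgroup.Normal.comap h5 _
      have hsup : M ⊔ A = ⊤ := hM.2 _ (lt_of_le_of_ne le_sup_left (fun h => hAM (h ▸ le_sup_right)))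
      have hinfn : (M ⊓ A).Normal := inf_normal_of_sup_eq_top hAc hsup
      have hinf : M ⊓ A = ⊥ := by
        rcases hAmin _ hinfn inf_le_right with h | h
        · exact h
        · exact absurd (h ▸ inf_le_left) hAM
      exact ⟨M, isNilpotent_of_inf_eq_bot hQ hinf, hMnorm⟩
    · -- a Carter subgroup of `K`
      obtain ⟨C, hCK, hCnil, hCn⟩ := exists_isCarterIn ih hG K hK
      have hcm : ∀ {L : Subgroup G}, A ≤ L →
          (L.map (QuotientGroup.mk' A)).comap (QuotientGroup.mk' A) = L := by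
        intro L hAL
        rw [Subgroup.comap_map_eq, QuotientGroup.ker_mk', sup_of_le_left hAL]
      have hCAK : C ⊔ A = K := by
        by_contra hne
        have hlt : C ⊔ A < K := lt_of_le_of_ne (sup_le hCK hAK) hne
        have hlt' : (C ⊔ A).map (QuotientGroup.mk' A) < K.map (QuotientGroup.mk' A) := by
          refine lt_of_le_of_ne (Subgroup.map_mono hlt.le) ?_
          intro h
          apply hne
          rw [← hcm (le_sup_right : A ≤ C ⊔ A), h, hcm hAK]
        obtain ⟨u, huK, hun, hu⟩ := exists_mem_normalizer_notMem_of_lt hKnil hlt'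
        obtain ⟨x, hxK, rfl⟩ := huK
        have hxn : x ∈ Subgroup.normalizer ((C ⊔ A : Subgroup G) : Set G) := by
          have : x ∈ (Subgroup.normalizer
              (((C ⊔ A).map (QuotientGroup.mk' A) : Subgroup (G ⧸ A)) : Set (G ⧸ A))).comap
              (QuotientGroup.mk' A) := hun
          rwa [Subgroup.comap_normalizer_eq_of_surjective _ (QuotientGroup.mk'_surjective A),
            hcm (le_sup_right : A ≤ C ⊔ A)] at this
        have hxCA : x ∉ C ⊔ A := fun h => hu (Subgroup.mem_map_of_mem _ h)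
        have hCin : IsCarterIn C (C ⊔ A) := by
          refine ⟨le_sup_left, hCnil, le_antisymm ?_ (le_inf Subgroup.le_normalizer le_sup_left)⟩
          exact (inf_le_inf_left _ hlt.le).trans hCn.le
        have htop : C ⊔ A ≠ ⊤ := fun h => (h ▸ hlt).ne_top rfl
        obtain ⟨y, hy, hyx⟩ := exists_mul_mem_normalizer ih hG _ htop hCin hxn
        have hyxC : y⁻¹ * x ∈ C := by
          rw [← hCn]
          exact Subgroup.mem_inf.mpr ⟨hyx, K.mul_mem (K.inv_mem (hlt.le hy)) hxK⟩
        apply hxCA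
        have : x = y * (y⁻¹ * x) := by group
        rw [this]
        exact Subgroup.mul_mem _ hy (le_sup_left (a := C) hyxC)
      refine ⟨C, hCnil, le_antisymm ?_ Subgroup.le_normalizer⟩
      intro g hg
      have h1 : g ∈ Subgroup.normalizer ((C ⊔ A : Subgroup G) : Set G) :=
        mem_normalizer_sup_of_mem_normalizer hg
      rw [hCAK, hKn] at h1
      rw [← hCn]
      exact Subgroup.mem_inf.mpr ⟨hg, h1⟩

omit [Finite G] [Group.IsSolvable G] in
theorem isCarter_conj {C : Subgroup G} (hC : IsCarter C) (x : G) :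
    IsCarter (MulAut.conj x • C) := by
  refine ⟨?_, ?_⟩
  · have e : C ≃* (MulAut.conj x • C : Subgroup G) :=
      C.equivMapOfInjective _ (MulAut.conj x).injective
    have := hC.1
    exact Group.nilpotent_of_mulEquiv e
  · ext z
    rw [mem_normalizer_conj_smul, mem_conj_smul, hC.2]

omit [Finite G] [Group.IsSolvable G] in
theorem IsCarter.isCarterIn {C M : Subgroup G} (hC : IsCarter C) (hCM : C ≤ M) :
    IsCarterIn C M :=
  ⟨hCM, hC.1, by rw [hC.2]; exact inf_of_le_left hCM⟩

omit [Finite G] [Group.IsSolvable G] in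
theorem isNilpotent_map_sup (N : Subgroup G) [N.Normal] {C : Subgroup G}
    (hC : Group.IsNilpotent C) :
    Group.IsNilpotent ((C ⊔ N).map (QuotientGroup.mk' N)) := by
  have h1 : (C ⊔ N).map (QuotientGroup.mk' N) = C.map (QuotientGroup.mk' N) := by
    rw [Subgroup.map_sup, (Subgroup.map_eq_bot_iff _).mpr (QuotientGroup.ker_mk' N).ge,
      sup_bot_eq]
  rw [h1]
  have := hC
  exact Group.nilpotent_of_surjective ((QuotientGroup.mk' N).subgroupMap C)
    (MonoidHom.subgroupMap_surjective _ _)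

theorem exists_conj_of_sup_eq {n : ℕ} (ih : IHyp.{u} n) (hG : Nat.card G = n)
    {A : Subgroup G} [hAn : A.Normal] (hAne : A ≠ ⊥) (hAc : IsMulCommutative A)
    (hAmin : ∀ B : Subgroup G, B.Normal → B ≤ A → B = ⊥ ∨ B = A)
    {C D : Subgroup G} (hC : IsCarter C) (hD : IsCarter D) (h : C ⊔ A = D ⊔ A) :
    ∃ g : G, MulAut.conj g • C = D := by
  by_cases htop : C ⊔ A = ⊤
  swap
  · obtain ⟨g, -, hg⟩ := exists_conj_of_isCarterIn ih hG _ htop (hC.isCarterIn le_sup_left)
      (hD.isCarterIn (h ▸ le_sup_left))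
    exact ⟨g, hg⟩
  have htopD : D ⊔ A = ⊤ := h ▸ htop
  by_cases hAC : A ≤ C
  · have hCtop : C = ⊤ := by rw [← htop, sup_of_le_left hAC]
    have : D = C := eq_of_le_of_isNilpotent hD hC.1 (hCtop ▸ le_top)
    exact ⟨1, by rw [map_one, one_smul, this]⟩
  by_cases hAD : A ≤ D
  · have hDtop : D = ⊤ := by rw [← htopD, sup_of_le_left hAD]
    have : C = D := eq_of_le_of_isNilpotent hC hD.1 (hDtop ▸ le_top)
    exact ⟨1, by rw [map_one, one_smul, this]⟩
  have hCA : C ⊓ A = ⊥ := by
    rcases hAmin _ (inf_normal_of_sup_eq_top hAc htop) inf_le_right with h | h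
    · exact h
    · exact absurd (h ▸ inf_le_left) hAC
  have hDA : D ⊓ A = ⊥ := by
    rcases hAmin _ (inf_normal_of_sup_eq_top hAc htopD) inf_le_right with h | h
    · exact h
    · exact absurd (h ▸ inf_le_left) hAD
  have hN₁n : (C ⊓ Subgroup.centralizer (A : Set G)).Normal := by
    constructor
    intro x hx g
    obtain ⟨c, hc, a, ha, rfl⟩ := exists_mul_of_sup_eq_top htop g
    obtain ⟨hxC, hxA⟩ := Subgroup.mem_inf.mp hx
    have hax : a * x = x * a := Subgroup.mem_centralizer_iff.mp hxA a ha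
    have : c * a * x * (c * a)⁻¹ = c * x * c⁻¹ := by
      rw [mul_inv_rev, mul_assoc c a x, hax]; group
    rw [this]
    refine Subgroup.mem_inf.mpr ⟨C.mul_mem (C.mul_mem hc hxC) (C.inv_mem hc), ?_⟩
    have hcn : (Subgroup.centralizer (A : Set G)).Normal := inferInstance
    exact hcn.conj_mem x hxA c
  by_cases hN₁ : C ⊓ Subgroup.centralizer (A : Set G) = ⊥
  swap
  · obtain ⟨B, hBn, hBne, hBle, -, -⟩ := exists_minimal_normal _ hN₁
    have hBC : B ≤ C := hBle.trans inf_le_left
    have h1 : Subgroup.normalizer ((D ⊔ B : Subgroup G) : Set G) = D ⊔ B :=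
      normalizer_sup_eq ih hG hD B
    have hCB : C ⊔ B = C := sup_of_le_left hBC
    have hnilC : Group.IsNilpotent (C.map (QuotientGroup.mk' B)) := by
      have := isNilpotent_map_sup B hC.1
      rwa [hCB] at this
    have hnilD : Group.IsNilpotent ((D ⊔ B).map (QuotientGroup.mk' B)) :=
      isNilpotent_map_sup B hD.1
    obtain ⟨g, hg⟩ := exists_conj_of_quotient ih hG B hBne hBC le_sup_right hnilC hC.2 hnilD h1
    refine ⟨g, ?_⟩
    have h2 : D ≤ MulAut.conj g • C := hg ▸ le_sup_left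
    exact (eq_of_le_of_isNilpotent hD (isCarter_conj hC g).1 h2).symm
  -- `C` acts faithfully on `A`
  have hGne : (⊤ : Subgroup G) ≠ ⊥ := by
    intro h
    apply hAne
    exact le_bot_iff.mp (h ▸ le_top)
  have hCne : C ≠ ⊥ := by
    intro h
    have h1 := hC.2
    rw [h, Subgroup.normalizer_eq_top_iff.mpr (inferInstance : (⊥ : Subgroup G).Normal)] at h1
    exact hGne h1
  have hCnt : Nontrivial C := (Subgroup.nontrivial_iff_ne_bot C).mpr hCne
  have hCnil : Group.IsNilpotent C := hC.1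
  obtain ⟨⟨z, hz⟩, hz1⟩ := (Subgroup.ne_bot_iff_exists_ne_one).mp
    (Group.IsNilpotent.center_ne_bot (G := C))
  have hz1' : (z : G) ≠ 1 := by
    intro h
    apply hz1
    exact Subtype.ext (Subtype.ext h)
  have hzC : ∀ c ∈ C, c * (z : G) = (z : G) * c := by
    intro c hc
    have := Subgroup.mem_center_iff.mp hz ⟨c, hc⟩
    exact congrArg Subtype.val this
  have hzA : (z : G) ∉ Subgroup.centralizer (A : Set G) := by
    intro h
    have : (z : G) ∈ C ⊓ Subgroup.centralizer (A : Set G) := Subgroup.mem_inf.mpr ⟨z.2, h⟩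
    rw [hN₁, Subgroup.mem_bot] at this
    exact hz1' this
  have hCAzn : (A ⊓ Subgroup.centralizer {(z : G)}).Normal := by
    constructor
    intro x hx g
    obtain ⟨c, hc, a, ha, rfl⟩ := exists_mul_of_sup_eq_top htop g
    obtain ⟨hxA, hxz⟩ := Subgroup.mem_inf.mp hx
    rw [Subgroup.mem_centralizer_singleton_iff] at hxz
    have hax : a * x = x * a := comm_of_mem_of_isMulCommutative hAc ha hxA
    have : c * a * x * (c * a)⁻¹ = c * x * c⁻¹ := by
      rw [mul_inv_rev, mul_assoc c a x, hax]; group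
    rw [this]
    refine Subgroup.mem_inf.mpr ⟨hAn.conj_mem x hxA c, ?_⟩
    rw [Subgroup.mem_centralizer_singleton_iff]
    have hcz := hzC c hc
    have hcz' : c⁻¹ * (z : G) = (z : G) * c⁻¹ :=
      (Commute.inv_left (show Commute c (z : G) from hcz)).eq
    calc c * x * c⁻¹ * z = c * x * (c⁻¹ * z) := by group
      _ = c * x * (z * c⁻¹) := by rw [hcz']
      _ = c * (x * z) * c⁻¹ := by group
      _ = c * (z * x) * c⁻¹ := by rw [hxz]
      _ = (c * z) * x * c⁻¹ := by group
      _ = (z * c) * x * c⁻¹ := by rw [hcz]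
      _ = z * (c * x * c⁻¹) := by group
  have hCAz : A ⊓ Subgroup.centralizer {(z : G)} = ⊥ := by
    rcases hAmin _ hCAzn inf_le_left with h | h
    · exact h
    · exfalso
      apply hzA
      rw [Subgroup.mem_centralizer_iff]
      intro a ha
      have : a ∈ A ⊓ Subgroup.centralizer {(z : G)} := by rw [h]; exact ha
      exact (Subgroup.mem_centralizer_singleton_iff.mp (Subgroup.mem_inf.mp this).2)
  obtain ⟨d, hd, a, ha, hzda⟩ := exists_mul_of_sup_eq_top htopD (z : G)
  have hmkA : ∀ a₁ ∈ A, QuotientGroup.mk' A a₁ = 1 := by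
    intro a₁ ha₁
    rw [QuotientGroup.mk'_apply]
    exact (QuotientGroup.eq_one_iff a₁).mpr ha₁
  have hdD : ∀ d' ∈ D, d' * d = d * d' := by
    intro d' hd'
    have hq : (QuotientGroup.mk' A d') * (QuotientGroup.mk' A d) =
        (QuotientGroup.mk' A d) * (QuotientGroup.mk' A d') := by
      obtain ⟨c, hc, a₁, ha₁, rfl⟩ := exists_mul_of_sup_eq_top htop d'
      have h1 : QuotientGroup.mk' A d = QuotientGroup.mk' A (z : G) := by
        rw [hzda, map_mul, hmkA a ha, mul_one]
      have h2 : QuotientGroup.mk' A (c * a₁) = QuotientGroup.mk' A c := by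
        rw [map_mul, hmkA a₁ ha₁, mul_one]
      rw [h1, h2, ← map_mul, ← map_mul, hzC c hc]
    have h3 : d' * d * (d * d')⁻¹ ∈ D ⊓ A := by
      refine Subgroup.mem_inf.mpr
        ⟨D.mul_mem (D.mul_mem hd' hd) (D.inv_mem (D.mul_mem hd hd')), ?_⟩
      have : QuotientGroup.mk' A (d' * d * (d * d')⁻¹) = 1 := by
        rw [map_mul, map_inv, map_mul, map_mul, hq, mul_inv_cancel]
      rw [QuotientGroup.mk'_apply] at this
      exact (QuotientGroup.eq_one_iff _).mp this
    rw [hDA, Subgroup.mem_bot] at h3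
    exact mul_inv_eq_one.mp h3
  let ψ : A → A := fun b => ⟨(b : G) * z * (b : G)⁻¹ * (z : G)⁻¹, by
    have h1 : (z : G) * (b : G)⁻¹ * (z : G)⁻¹ ∈ A := hAn.conj_mem _ (A.inv_mem b.2) z
    have : (b : G) * z * (b : G)⁻¹ * (z : G)⁻¹ = (b : G) * ((z : G) * (b : G)⁻¹ * (z : G)⁻¹) := by
      group
    rw [this]
    exact A.mul_mem b.2 h1⟩
  have hinj : Function.Injective ψ := by
    intro b₁ b₂ h
    have h1 : (b₁ : G) * z * (b₁ : G)⁻¹ * (z : G)⁻¹ = (b₂ : G) * z * (b₂ : G)⁻¹ * (z : G)⁻¹ :=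
      congrArg Subtype.val h
    have h2 : (b₂ : G)⁻¹ * b₁ ∈ A ⊓ Subgroup.centralizer {(z : G)} := by
      refine Subgroup.mem_inf.mpr ⟨A.mul_mem (A.inv_mem b₂.2) b₁.2, ?_⟩
      rw [Subgroup.mem_centralizer_singleton_iff]
      have h3 : (b₁ : G) * z * (b₁ : G)⁻¹ = (b₂ : G) * z * (b₂ : G)⁻¹ := mul_right_cancel h1
      calc (b₂ : G)⁻¹ * b₁ * z = (b₂ : G)⁻¹ * ((b₁ : G) * z * (b₁ : G)⁻¹) * b₁ := by group
        _ = (b₂ : G)⁻¹ * ((b₂ : G) * z * (b₂ : G)⁻¹) * b₁ := by rw [h3]
        _ = z * ((b₂ : G)⁻¹ * b₁) := by group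
    rw [hCAz, Subgroup.mem_bot, inv_mul_eq_one] at h2
    exact Subtype.ext h2.symm
  have hsurj := Finite.surjective_of_injective hinj
  obtain ⟨b, hb⟩ := hsurj ⟨(z : G) * a⁻¹ * (z : G)⁻¹, hAn.conj_mem _ (A.inv_mem ha) z⟩
  have hb' : (b : G) * z * (b : G)⁻¹ * (z : G)⁻¹ = (z : G) * a⁻¹ * (z : G)⁻¹ :=
    congrArg Subtype.val hb
  have hbz : (b : G) * z * (b : G)⁻¹ = d := by
    have := mul_right_cancel hb'
    rw [this, hzda]; group
  have hzd : (z : G) = (b : G)⁻¹ * d * b := by rw [← hbz]; group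
  have hD' : IsCarter (MulAut.conj (b : G)⁻¹ • D) := isCarter_conj hD _
  have hM₂ : Subgroup.centralizer {(z : G)} ≠ ⊤ := by
    intro h
    apply hAne
    rw [← hCAz, h, inf_top_eq]
  have hCM : C ≤ Subgroup.centralizer {(z : G)} := by
    intro c hc
    rw [Subgroup.mem_centralizer_singleton_iff]
    exact hzC c hc
  have hDM : MulAut.conj (b : G)⁻¹ • D ≤ Subgroup.centralizer {(z : G)} := by
    intro y hy
    rw [mem_conj_smul, inv_inv] at hy
    rw [Subgroup.mem_centralizer_singleton_iff, hzd]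
    have := hdD _ hy
    calc y * ((b : G)⁻¹ * d * b) = (b : G)⁻¹ * (((b : G) * y * (b : G)⁻¹) * d) * b := by group
      _ = (b : G)⁻¹ * (d * ((b : G) * y * (b : G)⁻¹)) * b := by rw [this]
      _ = (b : G)⁻¹ * d * b * y := by group
  obtain ⟨g, -, hg⟩ := exists_conj_of_isCarterIn ih hG _ hM₂ (hC.isCarterIn hCM)
    (hD'.isCarterIn hDM)
  refine ⟨b * g, ?_⟩
  rw [map_mul, mul_smul, hg, ← mul_smul, ← map_mul, mul_inv_cancel, map_one, one_smul]

theorem exists_conj_isCarter {n : ℕ} (ih : IHyp.{u} n) (hG : Nat.card G = n)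
    {C D : Subgroup G} (hC : IsCarter C) (hD : IsCarter D) :
    ∃ g : G, MulAut.conj g • C = D := by
  by_cases htop : (⊤ : Subgroup G) = ⊥
  · have h1 : Subsingleton (Subgroup G) := subsingleton_of_bot_eq_top htop.symm
    exact ⟨1, h1.elim _ _⟩
  obtain ⟨A, hAn, hAne, -, hAc, hAmin⟩ := exists_minimal_normal ⊤ htop
  have h1 := normalizer_sup_eq ih hG hC A
  have h2 := normalizer_sup_eq ih hG hD A
  obtain ⟨g, hg⟩ := exists_conj_of_quotient ih hG A hAne le_sup_right le_sup_right
    (isNilpotent_map_sup A hC.1) h1 (isNilpotent_map_sup A hD.1) h2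
  have h3 : MulAut.conj g • C ⊔ A = D ⊔ A := by
    rw [← hg, Subgroup.smul_sup, Subgroup.Normal.conj_smul_eq_self g A]
  obtain ⟨k, hk⟩ := exists_conj_of_sup_eq ih hG hAne hAc hAmin (isCarter_conj hC g) hD h3
  exact ⟨k * g, by rw [map_mul, mul_smul, hk]⟩

end

theorem carterProp : ∀ (n : ℕ) (G : Type u) [Group G] [Finite G] [Group.IsSolvable G],
    Nat.card G = n → CarterProp G := by
  intro n
  induction n using Nat.strong_induction_on with
  | _ n ih =>
    intro G _ _ _ hG
    have ih' : IHyp.{u} n := fun m hm X _ _ _ hX => ih m hm X hX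
    exact ⟨exists_isCarter ih' hG, fun C D hC hD => exists_conj_isCarter ih' hG hC hD⟩

end Carter

end Cfsg.Agent.Lib.Helper1
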