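import Mathlib
import Cfsg.Agent.Lib.Helper1.SZ
import Cfsg.Agent.Lib.Helper1.Hall
import Cfsg.Agent.Lib.Helper2.BurnsidePQ

/-!
P. Hall converse: Hall p-complements for all p imply solvable (uses Burnside p^a q^b from helper2).
-/

set_option autoImplicit false

open Subgroup
open Pointwise

namespace Cfsg.Agent.Lib.Helper1

universe u

section lemmas
variable {G : Type u} [Group G]

theorem relIndex_eq_index_of_coprime [Finite G] (H K : Subgroup G)
    (h : H.index.Coprime K.index) : H.relIndex K = H.index := by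
  have h1 : H.relIndex K * K.index = (H ⊓ K).index := by
    rw [← Subgroup.inf_relIndex_right, Subgroup.relIndex_mul_index inf_le_right]
  have h2 : H.index ∣ H.relIndex K * K.index := by
    rw [h1]; exact Subgroup.index_dvd_of_le inf_le_left
  have h3 : H.index ∣ H.relIndex K := h.dvd_of_dvd_mul_right h2
  have h4 : H.relIndex K * K.index ≤ H.index * K.index := by
    rw [h1]; exact Subgroup.index_inf_le
  have hK : 0 < K.index := Nat.pos_of_ne_zero Subgroup.index_ne_zero_of_finite
  have h5 : H.relIndex K ≤ H.index := Nat.le_of_mul_le_mul_right h4 hK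
  have hH : 0 < H.relIndex K := Nat.pos_of_ne_zero Subgroup.index_ne_zero_of_finite
  exact le_antisymm h5 (Nat.le_of_dvd hH h3)

theorem le_of_normal_of_coprime_index [Finite G] (N D : Subgroup G) [N.Normal]
    (h : (Nat.card N).Coprime D.index) : N ≤ D := by
  rw [← Subgroup.relIndex_eq_one]
  have h1 : D.relIndex N ∣ Nat.card N := Subgroup.relIndex_dvd_card D N
  have h2 : D.relIndex N ∣ D.index := by
    have e1 : D.relIndex (D ⊔ N) = D.relIndex N := by
      have c1 := card_sup_mul_card_inf D N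
      have c2 := card_mul_relIndex_of_le (le_sup_left : D ≤ D ⊔ N)
      have c3 := card_mul_relIndex_of_le (inf_le_right : D ⊓ N ≤ N)
      rw [Subgroup.inf_relIndex_right] at c3
      rw [← c2, ← c3] at c1
      have hD : 0 < Nat.card D := Nat.card_pos
      have hDN : 0 < Nat.card (D ⊓ N : Subgroup G) := Nat.card_pos
      have : Nat.card D * Nat.card (D ⊓ N : Subgroup G) * D.relIndex (D ⊔ N) =
          Nat.card D * Nat.card (D ⊓ N : Subgroup G) * D.relIndex N := by
        calc Nat.card D * Nat.card (D ⊓ N : Subgroup G) * D.relIndex (D ⊔ N)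
            = Nat.card D * D.relIndex (D ⊔ N) * Nat.card (D ⊓ N : Subgroup G) := by ring
          _ = Nat.card D * (Nat.card (D ⊓ N : Subgroup G) * D.relIndex N) := c1
          _ = _ := by ring
      exact Nat.eq_of_mul_eq_mul_left (Nat.mul_pos hD hDN) this
    have e2 := Subgroup.relIndex_mul_index (le_sup_left : D ≤ D ⊔ N)
    rw [e1] at e2
    exact Dvd.intro _ e2
  exact Nat.eq_one_of_dvd_coprimes h h1 h2

end lemmas

/-- `G` has Hall `p`-complements for all primes `p` (flexible form). -/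
def HasHallComplements (G : Type u) [Group G] : Prop :=
  ∀ p : ℕ, p.Prime → ∃ H : Subgroup G, (∃ c : ℕ, H.index = p ^ c) ∧ (Nat.card H).Coprime p

theorem HasHallComplements.subgroup {G : Type u} [Group G] [Finite G] (h : HasHallComplements G)
    (p : ℕ) (hp : p.Prime) (H : Subgroup G) (hH : ∃ c : ℕ, H.index = p ^ c)
    (hHc : (Nat.card H).Coprime p) : HasHallComplements H := by
  intro r hr
  by_cases hrp : r = p
  · subst hrp
    exact ⟨⊤, ⟨0, by simp⟩, by rw [Subgroup.card_top]; exact hHc⟩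
  · obtain ⟨K, ⟨c, hKc⟩, hKcop⟩ := h r hr
    obtain ⟨d, hHd⟩ := hH
    refine ⟨K.subgroupOf H, ⟨c, ?_⟩, ?_⟩
    · show K.relIndex H = r ^ c
      rw [relIndex_eq_index_of_coprime K H, hKc]
      rw [hKc, hHd]
      exact Nat.Coprime.pow _ _ ((Nat.coprime_primes hr hp).mpr hrp)
    · have : Nat.card (K.subgroupOf H) ∣ Nat.card K := by
        rw [← Subgroup.inf_subgroupOf_left,
          Nat.card_congr (Subgroup.subgroupOfEquivOfLe (inf_le_left : H ⊓ K ≤ H)).toEquiv]
        exact Subgroup.card_dvd_of_le inf_le_right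
      exact Nat.Coprime.coprime_dvd_left this hKcop

theorem HasHallComplements.quotient {G : Type u} [Group G] [Finite G] (h : HasHallComplements G)
    (N : Subgroup G) [N.Normal] : HasHallComplements (G ⧸ N) := by
  intro r hr
  obtain ⟨K, ⟨c, hKc⟩, hKcop⟩ := h r hr
  refine ⟨K.map (QuotientGroup.mk' N), ?_, ?_⟩
  · have := Subgroup.index_map_dvd K (QuotientGroup.mk'_surjective N)
    rw [hKc] at this
    obtain ⟨d, _, hd⟩ := (Nat.dvd_prime_pow hr).mp this
    exact ⟨d, hd⟩
  · exact Nat.Coprime.coprime_dvd_left (Subgroup.card_map_dvd K _) hKcop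

theorem hall_converse_aux : ∀ (n : ℕ) (G : Type u) [Group G] [Finite G], Nat.card G = n →
    HasHallComplements G → Group.IsSolvable G := by
  intro n
  induction n using Nat.strong_induction_on with
  | _ n ih =>
  intro G _ _ hn hHC
  by_cases hn1 : n = 1
  · have : Subsingleton G := (Nat.card_eq_one_iff_unique.mp (hn.trans hn1)).1
    infer_instance
  -- complements of primes dividing n are proper and solvable
  have hcompl : ∀ p : ℕ, p.Prime → p ∣ n → ∀ H : Subgroup G, (∃ c : ℕ, H.index = p ^ c) →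
      (Nat.card H).Coprime p → Nat.card H < n ∧ Group.IsSolvable H := by
    intro p hp hpn H hH hHc
    have hlt : Nat.card H < n := by
      rw [← hn]
      apply card_subgroup_lt_of_ne_top
      intro htop
      rw [htop, Subgroup.card_top, hn] at hHc
      exact hp.one_lt.ne' (Nat.eq_one_of_dvd_coprimes hHc hpn dvd_rfl)
    exact ⟨hlt, ih _ hlt H rfl (hHC.subgroup p hp H hH hHc)⟩
  have hn0 : n ≠ 0 := by rw [← hn]; exact Nat.card_pos.ne'
  have hp1 : n.minFac.Prime := Nat.minFac_prime hn1
  have hp1n : n.minFac ∣ n := Nat.minFac_dvd n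
  generalize n.minFac = p1 at hp1 hp1n
  obtain ⟨H1, hH1, hH1c⟩ := hHC p1 hp1
  obtain ⟨hH1lt, hH1s⟩ := hcompl p1 hp1 hp1n H1 hH1 hH1c
  by_cases hH1bot : H1 = ⊥
  · obtain ⟨c, hc⟩ := hH1
    rw [hH1bot, Subgroup.index_bot] at hc
    have : Fact p1.Prime := ⟨hp1⟩
    have hpg : IsPGroup p1 G := IsPGroup.of_card hc
    have := hpg.isNilpotent
    infer_instance
  have hH1nt : Nontrivial H1 := (Subgroup.nontrivial_iff_ne_bot H1).mpr hH1bot
  have htop : (⊤ : Subgroup H1) ≠ ⊥ := top_ne_bot
  obtain ⟨q, hq, M', hM'n, -, hM'ne, -, hM'q⟩ :=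
    exists_normal_elementary_abelian_le (G := H1) _ ⊤ rfl htop inferInstance
  have : Fact q.Prime := ⟨hq⟩
  have hM'p : IsPGroup q M' := by
    intro g
    refine ⟨1, ?_⟩
    rw [pow_one]
    exact Subtype.ext (hM'q g g.2)
  obtain ⟨k, hk⟩ := IsPGroup.iff_card.mp hM'p
  have hqH1 : q ∣ Nat.card H1 := by
    have hk0 : k ≠ 0 := by
      intro h0
      rw [h0, pow_zero, Subgroup.card_eq_one] at hk
      exact hM'ne hk
    have h1 : q ∣ Nat.card M' := by rw [hk]; exact dvd_pow_self q hk0
    exact h1.trans (Subgroup.card_subgroup_dvd_card M')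
  have hqn : q ∣ n := by
    rw [← hn]; exact hqH1.trans (Subgroup.card_subgroup_dvd_card H1)
  have hqp1 : q ≠ p1 := by
    intro h
    rw [h] at hqH1
    exact hp1.one_lt.ne' (Nat.eq_one_of_dvd_coprimes hH1c hqH1 dvd_rfl)
  by_cases h3 : ∃ p3 : ℕ, p3.Prime ∧ p3 ∣ n ∧ p3 ≠ p1 ∧ p3 ≠ q
  · obtain ⟨p3, hp3, hp3n, hp31, hp3q⟩ := h3
    obtain ⟨K0, hK0, hK0c⟩ := hHC p3 hp3
    obtain ⟨hK0lt, hK0s⟩ := hcompl p3 hp3 hp3n K0 hK0 hK0c
    have hMle : ∀ K : Subgroup G, (∃ c : ℕ, K.index = p3 ^ c) → M'.map H1.subtype ≤ K := by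
      rintro K ⟨c, hKc⟩
      obtain ⟨d, hd⟩ := hH1
      have hrel : (K.subgroupOf H1).index = p3 ^ c := by
        show K.relIndex H1 = _
        rw [relIndex_eq_index_of_coprime K H1, hKc]
        rw [hKc, hd]
        exact Nat.Coprime.pow _ _ ((Nat.coprime_primes hp3 hp1).mpr hp31)
      have hle : M' ≤ K.subgroupOf H1 := by
        apply le_of_normal_of_coprime_index
        rw [hrel, hk]
        exact Nat.Coprime.pow _ _ ((Nat.coprime_primes hq hp3).mpr (Ne.symm hp3q))
      rintro _ ⟨m, hm, rfl⟩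
      exact Subgroup.mem_subgroupOf.mp (hle hm)
    have hMcore : M'.map H1.subtype ≤ K0.normalCore := by
      intro m hm b
      obtain ⟨c, hc⟩ := hK0
      have h1 := hMle (MulAut.conj b⁻¹ • K0) ⟨c, by rw [conj_smul_eq_map]; exact (Subgroup.index_map_equiv K0 (MulAut.conj b⁻¹)).trans hc⟩ hm
      rw [mem_conj_smul] at h1
      simpa using h1
    have hNne : K0.normalCore ≠ ⊥ := by
      intro h
      rw [h, le_bot_iff, (Subgroup.map_eq_bot_iff_of_injective _ H1.subtype_injective)] at hMcore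
      exact hM'ne hMcore
    have hNs : Group.IsSolvable K0.normalCore :=
      Group.isSolvable_of_isSolvable_injective (Subgroup.inclusion_injective K0.normalCore_le)
    have hQlt : Nat.card (G ⧸ K0.normalCore) < n := by
      rw [← hn]; exact card_quotient_lt_of_ne_bot hNne
    have hQs : Group.IsSolvable (G ⧸ K0.normalCore) :=
      ih _ hQlt (G ⧸ K0.normalCore) rfl (hHC.quotient K0.normalCore)
    exact Group.isSolvable_of_ker_le_range K0.normalCore.subtype
      (QuotientGroup.mk' K0.normalCore) (by rw [QuotientGroup.ker_mk', Subgroup.range_subtype])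
  · push Not at h3
    have e1 := Nat.ordProj_mul_ordCompl_eq_self n p1
    have hm0 : ordCompl[p1] n ≠ 0 := (Nat.ordCompl_pos p1 hn0).ne'
    have e2 := Nat.ordProj_mul_ordCompl_eq_self (ordCompl[p1] n) q
    have e3 : ordCompl[q] (ordCompl[p1] n) = 1 := by
      rw [Nat.eq_one_iff_not_exists_prime_dvd]
      intro r hr hrd
      have hrm : r ∣ ordCompl[p1] n := hrd.trans (Nat.ordCompl_dvd _ q)
      have hrn : r ∣ n := hrm.trans (Nat.ordCompl_dvd n p1)
      by_cases hr1 : r = p1
      · rw [hr1] at hrm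
        exact Nat.not_dvd_ordCompl hp1 hn0 hrm
      · have hrq : r = q := h3 r hr hrn hr1
        rw [hrq] at hrd
        exact Nat.not_dvd_ordCompl hq hm0 hrd
    rw [e3, mul_one] at e2
    rw [← e2] at e1
    exact Cfsg.Agent.Lib.Helper2.isSolvable_of_card_eq_prime_pow_mul_prime_pow p1 q hp1 hq n G hn
      ⟨_, _, e1.symm⟩

/-- P. Hall's converse: a finite group with Hall `p`-complements for all `p` is solvable. -/
theorem hall_converse {G : Type u} [Group G] [Finite G]
    (h : ∀ p : ℕ, p.Prime → ∃ H : Subgroup G, H.index = p ^ (Nat.card G).factorization p) :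
    Group.IsSolvable G := by
  apply hall_converse_aux _ G rfl
  intro p hp
  obtain ⟨H, hH⟩ := h p hp
  refine ⟨H, ⟨_, hH⟩, ?_⟩
  have h1 := Subgroup.card_mul_index H
  have h2 := Nat.ordProj_mul_ordCompl_eq_self (Nat.card G) p
  rw [hH] at h1
  have hpos : 0 < p ^ (Nat.card G).factorization p := pow_pos hp.pos _
  have h3 : Nat.card H = ordCompl[p] (Nat.card G) := by
    apply Nat.eq_of_mul_eq_mul_right hpos
    rw [h1, mul_comm, h2]
  rw [h3]
  exact (Nat.coprime_ordCompl hp Nat.card_pos.ne').symm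

end Cfsg.Agent.Lib.Helper1
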