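import Mathlib
import Cfsg.Agent.Lib.Helper1.HallConverse

/-!
Sylow systems: existence in solvable groups, and solvability of groups with a Sylow system.
-/

set_option autoImplicit false

open Subgroup
open Pointwise

namespace Cfsg.Agent.Lib.Helper1

universe u

variable {G : Type u} [Group G]

/-- Two permuting subgroups: their join is their set product. -/
theorem coe_sup_of_mul_comm (H K : Subgroup G) (h : (H : Set G) * K = (K : Set G) * H) :
    ((H ⊔ K : Subgroup G) : Set G) = (H : Set G) * K := by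
  let L : Subgroup G :=
    { carrier := (H : Set G) * K
      one_mem' := ⟨1, H.one_mem, 1, K.one_mem, by simp⟩
      mul_mem' := by
        rintro _ _ ⟨h1, hh1, k1, hk1, rfl⟩ ⟨h2, hh2, k2, hk2, rfl⟩
        have : k1 * h2 ∈ (H : Set G) * K := by
          rw [h]; exact ⟨k1, hk1, h2, hh2, rfl⟩
        obtain ⟨h3, hh3, k3, hk3, e⟩ := this
        simp only at e
        refine ⟨h1 * h3, H.mul_mem hh1 hh3, k3 * k2, K.mul_mem hk3 hk2, ?_⟩
        simp only
        calc h1 * h3 * (k3 * k2) = h1 * (h3 * k3) * k2 := by group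
          _ = h1 * (k1 * h2) * k2 := by rw [e]
          _ = h1 * k1 * (h2 * k2) := by group
      inv_mem' := by
        rintro _ ⟨h1, hh1, k1, hk1, rfl⟩
        have : k1⁻¹ * h1⁻¹ ∈ (H : Set G) * K := by
          rw [h]; exact ⟨k1⁻¹, K.inv_mem hk1, h1⁻¹, H.inv_mem hh1, rfl⟩
        simpa using this }
  have hL : (L : Set G) = (H : Set G) * K := rfl
  have h1 : H ⊔ K ≤ L := by
    apply sup_le
    · intro x hx; exact ⟨x, hx, 1, K.one_mem, by simp⟩
    · intro x hx; exact ⟨1, H.one_mem, x, hx, by simp⟩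
  have h2 : L ≤ H ⊔ K := by
    rintro _ ⟨h1, hh1, k1, hk1, rfl⟩
    exact Subgroup.mul_mem _ (le_sup_left (a := H) hh1) (le_sup_right (b := K) hk1)
  rw [← hL, le_antisymm h1 h2]

theorem card_sup_of_mul_comm_of_coprime [Finite G] (H K : Subgroup G)
    (h : (H : Set G) * K = (K : Set G) * H) (hcop : (Nat.card H).Coprime (Nat.card K)) :
    Nat.card (H ⊔ K : Subgroup G) = Nat.card H * Nat.card K := by
  apply le_antisymm
  · have h1 : Nat.card (H ⊔ K : Subgroup G) = Nat.card ((H : Set G) * (K : Set G) : Set G) := by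
      rw [← coe_sup_of_mul_comm H K h]; rfl
    rw [h1]
    exact Set.natCard_mul_le
  · apply Nat.le_of_dvd Nat.card_pos
    exact hcop.mul_dvd_of_dvd_of_dvd (Subgroup.card_dvd_of_le le_sup_left)
      (Subgroup.card_dvd_of_le le_sup_right)

theorem iSup_finset_permute [Finite G] {ι : Type*} [DecidableEq ι] (T : ι → Subgroup G)
    (hT : ∀ i j, (T i : Set G) * T j = (T j : Set G) * T i) (s : Finset ι) :
    (∀ r, ((⨆ i ∈ s, T i : Subgroup G) : Set G) * T r = (T r : Set G) * (⨆ i ∈ s, T i : Subgroup G)) ∧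
    ((∀ i ∈ s, ∀ j ∈ s, i ≠ j → (Nat.card (T i)).Coprime (Nat.card (T j))) →
      Nat.card (⨆ i ∈ s, T i : Subgroup G) = ∏ i ∈ s, Nat.card (T i)) := by
  induction s using Finset.induction_on with
  | empty =>
    constructor
    · intro r
      simp
    · intro _
      simp
  | insert a s ha ih =>
    obtain ⟨ih1, ih2⟩ := ih
    have hcoe : ((⨆ i ∈ insert a s, T i : Subgroup G) : Set G) =
        (T a : Set G) * (⨆ i ∈ s, T i : Subgroup G) := by
      rw [Finset.iSup_insert]
      exact coe_sup_of_mul_comm _ _ (ih1 a).symm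
    constructor
    · intro r
      rw [hcoe, mul_assoc, ih1 r, ← mul_assoc, hT a r, mul_assoc]
    · intro hcop
      rw [Finset.prod_insert ha, Finset.iSup_insert]
      have hc : Nat.card (⨆ i ∈ s, T i : Subgroup G) = ∏ i ∈ s, Nat.card (T i) :=
        ih2 (fun i hi j hj hij => hcop i (Finset.mem_insert_of_mem hi) j (Finset.mem_insert_of_mem hj) hij)
      rw [card_sup_of_mul_comm_of_coprime _ _ (ih1 a).symm, hc]
      rw [hc]
      apply Nat.Coprime.prod_right
      intro i hi
      exact hcop a (Finset.mem_insert_self a s) i (Finset.mem_insert_of_mem hi)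
        (fun h => ha (h ▸ hi))

/-- A finite group with a Sylow system is solvable. -/
theorem isSolvable_of_sylow_system [Finite G]
    (S : (p : Nat.Primes) → Sylow (p : ℕ) G)
    (hS : ∀ p q : Nat.Primes, (S p : Set G) * (S q : Set G) = (S q : Set G) * (S p : Set G)) :
    Group.IsSolvable G := by
  classical
  let T : ℕ → Subgroup G := fun q => if h : q.Prime then (S ⟨q, h⟩ : Subgroup G) else ⊥
  have hTp : ∀ q (h : q.Prime), T q = (S ⟨q, h⟩ : Subgroup G) := fun q h => dif_pos h
  have hTn : ∀ q (h : ¬ q.Prime), T q = ⊥ := fun q h => dif_neg h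
  have hT : ∀ i j, (T i : Set G) * T j = (T j : Set G) * T i := by
    intro i j
    by_cases hi : i.Prime
    · by_cases hj : j.Prime
      · rw [hTp i hi, hTp j hj]; exact hS _ _
      · rw [hTn j hj]; simp
    · rw [hTn i hi]; simp
  have hTcard : ∀ q, q.Prime → Nat.card (T q) = q ^ (Nat.card G).factorization q := by
    intro q hq
    rw [hTp q hq]
    have : Fact q.Prime := ⟨hq⟩
    exact (S ⟨q, hq⟩).card_eq_multiplicity
  apply hall_converse
  intro p hp
  refine ⟨⨆ i ∈ (Nat.card G).primeFactors.erase p, T i, ?_⟩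
  have hcard := (iSup_finset_permute T hT ((Nat.card G).primeFactors.erase p)).2 (by
    intro i hi j hj hij
    have hi' := Nat.prime_of_mem_primeFactors (Finset.mem_of_mem_erase hi)
    have hj' := Nat.prime_of_mem_primeFactors (Finset.mem_of_mem_erase hj)
    rw [hTcard i hi', hTcard j hj']
    exact Nat.Coprime.pow _ _ ((Nat.coprime_primes hi' hj').mpr hij))
  have hprod : ∏ i ∈ (Nat.card G).primeFactors.erase p, Nat.card (T i) =
      ∏ i ∈ (Nat.card G).primeFactors.erase p, i ^ (Nat.card G).factorization i := by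
    apply Finset.prod_congr rfl
    intro i hi
    exact hTcard i (Nat.prime_of_mem_primeFactors (Finset.mem_of_mem_erase hi))
  have hn0 : Nat.card G ≠ 0 := Nat.card_pos.ne'
  have hfull : p ^ (Nat.card G).factorization p *
      ∏ i ∈ (Nat.card G).primeFactors.erase p, i ^ (Nat.card G).factorization i = Nat.card G := by
    have h1 := Nat.prod_factorization_pow_eq_self hn0
    rw [Finsupp.prod, Nat.support_factorization] at h1
    by_cases hpm : p ∈ (Nat.card G).primeFactors
    · rw [Finset.mul_prod_erase _ (fun i => i ^ (Nat.card G).factorization i) hpm]; exact h1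
    · rw [Finset.erase_eq_of_notMem hpm, h1]
      have : (Nat.card G).factorization p = 0 := by
        rw [← Finsupp.notMem_support_iff, Nat.support_factorization]; exact hpm
      rw [this, pow_zero, one_mul]
  have hidx := Subgroup.card_mul_index (⨆ i ∈ (Nat.card G).primeFactors.erase p, T i)
  rw [hcard, hprod] at hidx
  have hpos : 0 < ∏ i ∈ (Nat.card G).primeFactors.erase p, i ^ (Nat.card G).factorization i := by
    apply Nat.pos_of_ne_zero
    intro h0
    rw [h0, mul_zero] at hfull
    exact hn0 hfull.symm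
  apply Nat.eq_of_mul_eq_mul_left hpos
  rw [hidx, mul_comm, hfull]


theorem index_inf_of_coprime [Finite G] (H K : Subgroup G) (h : H.index.Coprime K.index) :
    (H ⊓ K).index = H.index * K.index := by
  rw [← relIndex_eq_index_of_coprime H K h, ← Subgroup.inf_relIndex_right,
    Subgroup.relIndex_mul_index inf_le_right]

theorem index_iInf_finset_of_coprime [Finite G] {ι : Type*} [DecidableEq ι] (T : ι → Subgroup G)
    (s : Finset ι)
    (hcop : ∀ i ∈ s, ∀ j ∈ s, i ≠ j → (T i).index.Coprime (T j).index) :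
    (⨅ i ∈ s, T i).index = ∏ i ∈ s, (T i).index := by
  induction s using Finset.induction_on with
  | empty => simp
  | insert a s ha ih =>
    have hc := ih (fun i hi j hj hij =>
      hcop i (Finset.mem_insert_of_mem hi) j (Finset.mem_insert_of_mem hj) hij)
    rw [Finset.iInf_insert, Finset.prod_insert ha, index_inf_of_coprime, hc]
    rw [hc]
    apply Nat.Coprime.prod_right
    intro i hi
    exact hcop a (Finset.mem_insert_self a s) i (Finset.mem_insert_of_mem hi) (fun h => ha (h ▸ hi))

/-- Two subgroups of coprime orders inside a subgroup `D` of order the product: `H * K = D`. -/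
theorem coe_mul_eq_of_card_mul [Finite G] (H K D : Subgroup G) (hH : H ≤ D) (hK : K ≤ D)
    (hcop : (Nat.card H).Coprime (Nat.card K)) (hcard : Nat.card H * Nat.card K = Nat.card D) :
    (H : Set G) * (K : Set G) = D := by
  apply Set.Subset.antisymm
  · rintro _ ⟨h, hh, k, hk, rfl⟩
    exact D.mul_mem (hH hh) (hK hk)
  · intro d hd
    have hc : IsComplement' (H.subgroupOf D) (K.subgroupOf D) := by
      apply Subgroup.isComplement'_of_card_mul_and_disjoint
      · rw [Nat.card_congr (Subgroup.subgroupOfEquivOfLe hH).toEquiv,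
          Nat.card_congr (Subgroup.subgroupOfEquivOfLe hK).toEquiv, hcard]
      · apply Subgroup.disjoint_of_coprime_natCard
        rw [Nat.card_congr (Subgroup.subgroupOfEquivOfLe hH).toEquiv,
          Nat.card_congr (Subgroup.subgroupOfEquivOfLe hK).toEquiv]
        exact hcop
    obtain ⟨h, hh, k, hk, e⟩ := IsComplement'.exists_mul_eq hc ⟨d, hd⟩
    refine ⟨h, Subgroup.mem_subgroupOf.mp hh, k, Subgroup.mem_subgroupOf.mp hk, ?_⟩
    have := congrArg Subtype.val e
    simpa using this


theorem pow_mul_prod_erase_eq (n : ℕ) (s : Finset ℕ) (p : ℕ)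
    (_hs : ∀ r, r ∉ s → r ≠ p → True) (hp : p ∉ s → n.factorization p = 0) :
    p ^ n.factorization p * ∏ r ∈ s.erase p, r ^ n.factorization r =
      ∏ r ∈ s, r ^ n.factorization r := by
  by_cases hpm : p ∈ s
  · rw [Finset.mul_prod_erase _ (fun i => i ^ n.factorization i) hpm]
  · rw [Finset.erase_eq_of_notMem hpm, hp hpm, pow_zero, one_mul]

/-- A finite solvable group has a Sylow system. -/
theorem exists_sylow_system [Finite G] [Group.IsSolvable G] :
    ∃ S : (p : Nat.Primes) → Sylow (p : ℕ) G,
      ∀ p q : Nat.Primes, (S p : Set G) * (S q : Set G) = (S q : Set G) * (S p : Set G) := by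
  classical
  have hn0 : Nat.card G ≠ 0 := Nat.card_pos.ne'
  -- Hall complements
  have hex : ∀ r : ℕ, ∃ H : Subgroup G, r.Prime → H.index = r ^ (Nat.card G).factorization r := by
    intro r
    by_cases hr : r.Prime
    · obtain ⟨H, hH⟩ := hall_exists (G := G) (ordCompl[r] (Nat.card G)) (ordProj[r] (Nat.card G))
        (by rw [mul_comm]; exact (Nat.ordProj_mul_ordCompl_eq_self _ r).symm)
        (Nat.Coprime.pow_right _ (Nat.coprime_ordCompl hr hn0).symm)
      refine ⟨H, fun _ => ?_⟩
      have h1 := Subgroup.card_mul_index H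
      rw [hH] at h1
      have h2 := Nat.ordProj_mul_ordCompl_eq_self (Nat.card G) r
      apply Nat.eq_of_mul_eq_mul_left (Nat.ordCompl_pos r hn0)
      rw [h1, mul_comm, h2]
    · exact ⟨⊤, fun h => absurd h hr⟩
  choose Hc hHc using hex
  have hvz : ∀ p : ℕ, p ∉ (Nat.card G).primeFactors → (Nat.card G).factorization p = 0 := by
    intro p hp
    rw [← Finsupp.notMem_support_iff, Nat.support_factorization]; exact hp
  have hidx : ∀ s ⊆ (Nat.card G).primeFactors,
      (⨅ r ∈ s, Hc r).index = ∏ r ∈ s, r ^ (Nat.card G).factorization r := by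
    intro s hs
    rw [index_iInf_finset_of_coprime]
    · apply Finset.prod_congr rfl
      intro r hr
      exact hHc r (Nat.prime_of_mem_primeFactors (hs hr))
    · intro i hi j hj hij
      have hi' := Nat.prime_of_mem_primeFactors (hs hi)
      have hj' := Nat.prime_of_mem_primeFactors (hs hj)
      rw [hHc i hi', hHc j hj']
      exact Nat.Coprime.pow _ _ ((Nat.coprime_primes hi' hj').mpr hij)
  have hfull : ∏ r ∈ (Nat.card G).primeFactors, r ^ (Nat.card G).factorization r = Nat.card G := by
    have h1 := Nat.prod_factorization_pow_eq_self hn0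
    rwa [Finsupp.prod, Nat.support_factorization] at h1
  have hprod1 : ∀ p : ℕ, p ^ (Nat.card G).factorization p *
      ∏ r ∈ (Nat.card G).primeFactors.erase p, r ^ (Nat.card G).factorization r = Nat.card G := by
    intro p
    rw [pow_mul_prod_erase_eq _ _ _ (fun _ _ _ => trivial) (hvz p), hfull]
  have hpos : ∀ s : Finset ℕ, s ⊆ (Nat.card G).primeFactors →
      0 < ∏ r ∈ s, r ^ (Nat.card G).factorization r := by
    intro s hs
    apply Finset.prod_pos
    intro r hr
    exact pow_pos (Nat.prime_of_mem_primeFactors (hs hr)).pos _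
  have hcardS : ∀ p : ℕ, Nat.card (⨅ r ∈ (Nat.card G).primeFactors.erase p, Hc r : Subgroup G) =
      p ^ (Nat.card G).factorization p := by
    intro p
    have h1 := Subgroup.card_mul_index (⨅ r ∈ (Nat.card G).primeFactors.erase p, Hc r)
    rw [hidx _ (Finset.erase_subset _ _)] at h1
    exact Nat.eq_of_mul_eq_mul_right (hpos _ (Finset.erase_subset _ _)) (h1.trans (hprod1 p).symm)
  refine ⟨fun p => haveI : Fact (p : ℕ).Prime := ⟨p.2⟩
    Sylow.ofCard (⨅ r ∈ (Nat.card G).primeFactors.erase (p : ℕ), Hc r) (hcardS p), ?_⟩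
  intro p q
  change ((⨅ r ∈ (Nat.card G).primeFactors.erase (p : ℕ), Hc r : Subgroup G) : Set G) *
      ((⨅ r ∈ (Nat.card G).primeFactors.erase (q : ℕ), Hc r : Subgroup G) : Set G) =
    ((⨅ r ∈ (Nat.card G).primeFactors.erase (q : ℕ), Hc r : Subgroup G) : Set G) *
      ((⨅ r ∈ (Nat.card G).primeFactors.erase (p : ℕ), Hc r : Subgroup G) : Set G)
  by_cases hpq : p = q
  · subst hpq; rfl
  have hpq' : (p : ℕ) ≠ q := fun h => hpq (Subtype.ext h)
  have hsub : ((Nat.card G).primeFactors.erase (p : ℕ)).erase (q : ℕ) ⊆ (Nat.card G).primeFactors :=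
    (Finset.erase_subset _ _).trans (Finset.erase_subset _ _)
  have hDcard : Nat.card (⨅ r ∈ ((Nat.card G).primeFactors.erase (p : ℕ)).erase (q : ℕ), Hc r : Subgroup G)
      = (p : ℕ) ^ (Nat.card G).factorization p * (q : ℕ) ^ (Nat.card G).factorization q := by
    have h1 := Subgroup.card_mul_index
      (⨅ r ∈ ((Nat.card G).primeFactors.erase (p : ℕ)).erase (q : ℕ), Hc r)
    rw [hidx _ hsub] at h1
    have h2 : (q : ℕ) ^ (Nat.card G).factorization q *
        ∏ r ∈ ((Nat.card G).primeFactors.erase (p : ℕ)).erase (q : ℕ), r ^ (Nat.card G).factorization r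
        = ∏ r ∈ (Nat.card G).primeFactors.erase (p : ℕ), r ^ (Nat.card G).factorization r := by
      apply pow_mul_prod_erase_eq _ _ _ (fun _ _ _ => trivial)
      intro hq
      apply hvz
      intro hq'
      exact hq (Finset.mem_erase.mpr ⟨Ne.symm hpq', hq'⟩)
    apply Nat.eq_of_mul_eq_mul_right (hpos _ hsub)
    rw [h1, mul_assoc, h2, hprod1]
  have hcop : ((p : ℕ) ^ (Nat.card G).factorization p).Coprime
      ((q : ℕ) ^ (Nat.card G).factorization q) :=
    Nat.Coprime.pow _ _ ((Nat.coprime_primes p.2 q.2).mpr hpq')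
  have hle1 : (⨅ r ∈ (Nat.card G).primeFactors.erase (p : ℕ), Hc r : Subgroup G) ≤
      ⨅ r ∈ ((Nat.card G).primeFactors.erase (p : ℕ)).erase (q : ℕ), Hc r :=
    biInf_mono (fun r hr => Finset.mem_of_mem_erase hr)
  have hle2 : (⨅ r ∈ (Nat.card G).primeFactors.erase (q : ℕ), Hc r : Subgroup G) ≤
      ⨅ r ∈ ((Nat.card G).primeFactors.erase (p : ℕ)).erase (q : ℕ), Hc r :=
    biInf_mono (fun r hr => by
      rw [Finset.mem_erase, Finset.mem_erase] at hr
      exact Finset.mem_erase.mpr ⟨hr.1, hr.2.2⟩)
  rw [coe_mul_eq_of_card_mul _ _ _ hle1 hle2 (by rw [hcardS, hcardS]; exact hcop)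
      (by rw [hcardS, hcardS, hDcard]),
    coe_mul_eq_of_card_mul _ _ _ hle2 hle1 (by rw [hcardS, hcardS]; exact hcop.symm)
      (by rw [hcardS, hcardS, hDcard, mul_comm])]

end Cfsg.Agent.Lib.Helper1
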