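import Mathlib

/-!
# Helper1 library: Gaschütz's complement theorem

For `K` abelian normal in the finite group `G`, `K ≤ U ≤ G` with `(|K|, |G : U|) = 1`
(namespace `Cfsg.Agent.Lib.Helper1.Gaschutz`):
* `cj K g : K →* K` conjugation; coset representatives `rep U c`, `cocyc U g c ∈ U`;
  `prod_mul_rep` (reindexing of products of right-`U`-invariant functions),
* `IsCrossedOn`, `Theta` (transfer of crossed homomorphisms `U → K` to `G → K`),
  `exists_isComplement'_of_crossed`, `exists_kpart`, `exists_zpow_root`,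
* `exists_isComplement'` (= S0051) and `exists_conj_eq` (= S0052).
-/

set_option autoImplicit false

namespace Cfsg.Agent.Lib.Helper1

open scoped IsMulCommutative
open Pointwise

namespace Gaschutz

section

variable {G : Type*} [Group G] (K U : Subgroup G) [hKn : K.Normal]

/-- conjugation by `g` on the normal subgroup `K`, as a monoid homomorphism. -/
def cj (g : G) : K →* K := (MulAut.conjNormal g : MulAut K).toMonoidHom

@[simp] theorem cj_apply (g : G) (k : K) : ((cj K g k : K) : G) = g * k * g⁻¹ := rfl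

theorem cj_mul (g g' : G) (k : K) : cj K (g * g') k = cj K g (cj K g' k) := by
  apply Subtype.ext
  simp only [cj_apply]
  group

theorem cj_one (k : K) : cj K 1 k = k := by
  apply Subtype.ext
  simp

variable [hKc : IsMulCommutative K]

theorem cj_of_mem {x : G} (hx : x ∈ K) (k : K) : cj K x k = k := by
  apply Subtype.ext
  simp only [cj_apply]
  have := mul_comm' (⟨x, hx⟩ : K) k
  have h2 : x * (k : G) = (k : G) * x := congrArg Subtype.val this
  rw [h2, mul_inv_cancel_right]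

/-- the coset representative -/
noncomputable def rep (c : G ⧸ U) : G := c.out

theorem mk_rep (c : G ⧸ U) : ((rep U c : G) : G ⧸ U) = c := QuotientGroup.out_eq' c

/-- `u g c = (t (g • c))⁻¹ * g * t c`, an element of `U`. -/
noncomputable def cocyc (g : G) (c : G ⧸ U) : G := (rep U (g • c))⁻¹ * g * rep U c

theorem cocyc_mem (g : G) (c : G ⧸ U) : cocyc U g c ∈ U := by
  unfold cocyc
  have h1 : ((g * rep U c : G) : G ⧸ U) = ((rep U (g • c) : G) : G ⧸ U) := by
    rw [mk_rep]
    conv_rhs => rw [← mk_rep U c]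
    rfl
  rw [eq_comm, QuotientGroup.eq] at h1
  rwa [mul_assoc]

theorem rep_mul_cocyc (g : G) (c : G ⧸ U) : rep U (g • c) * cocyc U g c = g * rep U c := by
  unfold cocyc; group

theorem cocyc_mul (g g' : G) (c : G ⧸ U) :
    cocyc U (g * g') c = cocyc U g (g' • c) * cocyc U g' c := by
  unfold cocyc
  rw [mul_smul]
  group

/-- reindexing of a product of a right-`U`-invariant function over coset representatives. -/
theorem prod_mul_rep [Fintype (G ⧸ U)] {M : Type*} [CommMonoid M] (δ : G → M)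
    (hδ : ∀ g, ∀ u ∈ U, δ (g * u) = δ g) (g : G) :
    ∏ c : G ⧸ U, δ (g * rep U c) = ∏ c : G ⧸ U, δ (rep U c) := by
  have h1 : ∀ c : G ⧸ U, δ (g * rep U c) = δ (rep U (g • c)) := by
    intro c
    rw [← rep_mul_cocyc, hδ _ _ (cocyc_mem U g c)]
  simp_rw [h1]
  exact Fintype.prod_equiv (MulAction.toPerm g) _ _ (fun c => rfl)

/-- `θ : G → K` is a crossed homomorphism on the subgroup `U`. -/
def IsCrossedOn (θ : G → K) : Prop :=
  ∀ u ∈ U, ∀ u' ∈ U, θ (u * u') = θ u * cj K u (θ u')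

/-- the transfer of a crossed homomorphism from `U` to `G`. -/
noncomputable def Theta [Fintype (G ⧸ U)] (θ : G → K) (g : G) : K :=
  ∏ c : G ⧸ U, cj K (rep U (g • c)) (θ (cocyc U g c))

theorem Theta_mul [Fintype (G ⧸ U)] (θ : G → K) (hθ : IsCrossedOn K U θ) (g g' : G) :
    Theta K U θ (g * g') = Theta K U θ g * cj K g (Theta K U θ g') := by
  unfold Theta
  rw [map_prod]
  have h1 : ∀ c : G ⧸ U, cj K (rep U ((g * g') • c)) (θ (cocyc U (g * g') c)) =
      cj K (rep U (g • (g' • c))) (θ (cocyc U g (g' • c))) *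
        cj K g (cj K (rep U (g' • c)) (θ (cocyc U g' c))) := by
    intro c
    rw [cocyc_mul, hθ _ (cocyc_mem U g (g' • c)) _ (cocyc_mem U g' c), map_mul, mul_smul,
      ← cj_mul, ← cj_mul, rep_mul_cocyc]
  simp_rw [h1]
  rw [Finset.prod_mul_distrib]
  congr 1
  exact Fintype.prod_equiv (MulAction.toPerm g') _ _ (fun c => rfl)

theorem Theta_of_mem [Fintype (G ⧸ U)] (hKU : K ≤ U) (θ : G → K) (hθK : ∀ k : K, θ k = k)
    (k : K) : Theta K U θ k = k ^ U.index := by
  unfold Theta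
  have hfix : ∀ c : G ⧸ U, (k : G) • c = c := by
    intro c
    induction c using QuotientGroup.induction_on with
    | H x =>
      show (((k : G) * x : G) : G ⧸ U) = (x : G ⧸ U)
      rw [QuotientGroup.eq]
      have : ((k : G) * x)⁻¹ * x = x⁻¹ * (k : G)⁻¹ * x⁻¹⁻¹ := by group
      rw [this]
      exact hKU (hKn.conj_mem _ (K.inv_mem k.2) _)
  have h1 : ∀ c : G ⧸ U, cj K (rep U ((k : G) • c)) (θ (cocyc U (k : G) c)) = k := by
    intro c
    have hmem : cocyc U (k : G) c ∈ K := by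
      unfold cocyc
      rw [hfix]
      have := hKn.conj_mem _ k.2 (rep U c)⁻¹
      rwa [inv_inv] at this
    have h2 := hθK ⟨_, hmem⟩
    have h3 : θ (cocyc U (k : G) c) = ⟨_, hmem⟩ := h2
    rw [h3, hfix]
    apply Subtype.ext
    simp only [cj_apply]
    unfold cocyc
    rw [hfix]
    group
  simp_rw [h1]
  rw [Finset.prod_const, Finset.card_univ, Subgroup.index, Nat.card_eq_fintype_card]

/-- A crossed homomorphism `G → K` restricting to the identity on `K` yields a complement. -/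
theorem exists_isComplement'_of_crossed (θ : G → K)
    (hθ : ∀ g g' : G, θ (g * g') = θ g * cj K g (θ g')) (hθK : ∀ k : K, θ k = k) :
    ∃ H : Subgroup G, Subgroup.IsComplement' K H := by
  have h1 : θ 1 = 1 := by
    have := hθK 1
    simpa using this
  let H : Subgroup G :=
    { carrier := {g | θ g = 1}
      one_mem' := h1
      mul_mem' := by
        intro a b ha hb
        show θ (a * b) = 1
        rw [hθ, show θ a = 1 from ha, show θ b = 1 from hb, map_one, mul_one]
      inv_mem' := by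
        intro a ha
        show θ a⁻¹ = 1
        have h2 := hθ a a⁻¹
        rw [mul_inv_cancel, h1, show θ a = 1 from ha, one_mul] at h2
        have h3 : cj K a (θ a⁻¹) = cj K a 1 := by rw [← h2, map_one]
        have hinj : Function.Injective (cj K a) := (MulAut.conjNormal a : MulAut K).injective
        exact hinj h3 }
  refine ⟨H, Subgroup.isComplement'_of_disjoint_and_mul_eq_univ ?_ ?_⟩
  · rw [Subgroup.disjoint_def]
    intro x hxK hxH
    have h2 : θ x = 1 := hxH
    have h3 := hθK ⟨x, hxK⟩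
    have h4 : θ x = ⟨x, hxK⟩ := h3
    rw [h4] at h2
    exact congrArg Subtype.val h2
  · rw [Set.eq_univ_iff_forall]
    intro g
    refine ⟨(θ g : G), (θ g).2, (θ g : G)⁻¹ * g, ?_, by group⟩
    show θ ((θ g : G)⁻¹ * g) = 1
    rw [hθ]
    have h5 : θ ((θ g : G)⁻¹) = (θ g)⁻¹ := hθK (θ g)⁻¹
    rw [h5, cj_of_mem K (K.inv_mem (θ g).2), inv_mul_cancel]

omit hKn in
theorem exists_zpow_root [Finite G] {m : ℕ} (hcop : (Nat.card K).Coprime m) :
    ∃ z : ℤ, ∀ k : K, (k ^ m) ^ z = k := by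
  refine ⟨Nat.gcdB (Nat.card K) m, fun k => ?_⟩
  have h1 := Nat.gcd_eq_gcd_ab (Nat.card K) m
  rw [hcop.gcd_eq_one] at h1
  have h2 : (k ^ m) ^ (Nat.gcdB (Nat.card K) m) =
      k ^ ((m : ℤ) * Nat.gcdB (Nat.card K) m) := by
    rw [zpow_mul, zpow_natCast]
  have h3 : (m : ℤ) * Nat.gcdB (Nat.card K) m =
      1 - (Nat.card K : ℤ) * Nat.gcdA (Nat.card K) m := by
    push_cast at h1
    linarith
  rw [h2, h3, zpow_sub, zpow_one, zpow_mul, zpow_natCast, pow_card_eq_one', one_zpow, inv_one,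
    mul_one]

/-- The `K`-part of an element of `U = K A`. -/
theorem exists_kpart (A : Subgroup G) (hAK : A ⊓ K = ⊥) (hKA : K ⊔ A = U) :
    ∃ θ : G → K, (∀ k : K, ∀ a ∈ A, θ ((k : G) * a) = k) ∧ IsCrossedOn K U θ := by
  classical
  have hdec : ∀ u ∈ U, ∃ k : K, ∃ a ∈ A, u = (k : G) * a := by
    intro u hu
    rw [← hKA, ← SetLike.mem_coe, Subgroup.normal_mul] at hu
    obtain ⟨k, hk, a, ha, rfl⟩ := Set.mem_mul.mp hu
    exact ⟨⟨k, hk⟩, a, ha, rfl⟩
  let θ : G → K := fun g => if h : g ∈ U then (hdec g h).choose else 1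
  have hθ : ∀ k : K, ∀ a ∈ A, θ ((k : G) * a) = k := by
    intro k a ha
    have hu : (k : G) * a ∈ U := by
      rw [← hKA]
      exact Subgroup.mul_mem _ (le_sup_left (a := K) k.2) (le_sup_right (a := K) ha)
    have h1 : θ ((k : G) * a) = (hdec _ hu).choose := dif_pos hu
    obtain ⟨a', ha', heq⟩ := (hdec _ hu).choose_spec
    rw [h1]
    set k' := (hdec _ hu).choose with hk'
    have h2 : (k' : G)⁻¹ * k = a' * a⁻¹ := by
      have : (k' : G)⁻¹ * ((k : G) * a) * a⁻¹ = (k' : G)⁻¹ * ((k' : G) * a') * a⁻¹ := by rw [← heq]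
      calc (k' : G)⁻¹ * k = (k' : G)⁻¹ * ((k : G) * a) * a⁻¹ := by group
        _ = (k' : G)⁻¹ * ((k' : G) * a') * a⁻¹ := this
        _ = a' * a⁻¹ := by group
    have h3 : (k' : G)⁻¹ * k ∈ A ⊓ K := by
      refine Subgroup.mem_inf.mpr ⟨?_, K.mul_mem (K.inv_mem k'.2) k.2⟩
      rw [h2]
      exact A.mul_mem ha' (A.inv_mem ha)
    rw [hAK, Subgroup.mem_bot] at h3
    apply Subtype.ext
    have : (k : G) = (k' : G) := by
      calc (k : G) = (k' : G) * ((k' : G)⁻¹ * k) := by group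
        _ = k' := by rw [h3, mul_one]
    exact this.symm
  refine ⟨θ, hθ, ?_⟩
  intro u hu u' hu'
  obtain ⟨k, a, ha, rfl⟩ := hdec u hu
  obtain ⟨k', a', ha', rfl⟩ := hdec u' hu'
  have h1 : (k : G) * a * ((k' : G) * a') = ((k * cj K a k' : K) : G) * (a * a') := by
    simp only [Subgroup.coe_mul, cj_apply]
    group
  rw [h1, hθ _ _ (A.mul_mem ha ha'), hθ _ _ ha, hθ _ _ ha', cj_mul, cj_of_mem K k.2]

/-- **Gaschütz, existence**: if `K` is abelian normal, `K ≤ U`, `(|K|, |G : U|) = 1` and `K` has a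
complement in `U`, then `K` has a complement in `G`. -/
theorem exists_isComplement' [Finite G] (hKU : K ≤ U) (hcop : (Nat.card K).Coprime U.index)
    (A : Subgroup G) (hAK : A ⊓ K = ⊥) (hKA : K ⊔ A = U) :
    ∃ H : Subgroup G, Subgroup.IsComplement' K H := by
  classical
  have : Fintype (G ⧸ U) := Fintype.ofFinite _
  obtain ⟨θU, hθU, hcr⟩ := exists_kpart K U A hAK hKA
  obtain ⟨z, hz⟩ := exists_zpow_root K hcop
  have hθUK : ∀ k : K, θU k = k := by
    intro k
    have := hθU k 1 A.one_mem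
    rwa [mul_one] at this
  apply exists_isComplement'_of_crossed K (fun g => (Theta K U θU g) ^ z)
  · intro g g'
    show (Theta K U θU (g * g')) ^ z = _
    rw [Theta_mul K U θU hcr, mul_zpow, map_zpow]
  · intro k
    show (Theta K U θU k) ^ z = k
    rw [Theta_of_mem K U hKU θU hθUK, hz]

/-- **Gaschütz, conjugacy**: two complements of the abelian normal subgroup `K` in `G` meeting
`U ≥ K` (with `(|K|, |G : U|) = 1`) in the same subgroup are conjugate. -/
theorem exists_conj_eq [Finite G] (hKU : K ≤ U) (hcop : (Nat.card K).Coprime U.index)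
    (H₀ H₁ : Subgroup G) (h₀ : Subgroup.IsComplement' K H₀) (h₁ : Subgroup.IsComplement' K H₁)
    (hU : H₀ ⊓ U = H₁ ⊓ U) : ∃ g : G, MulAut.conj g • H₀ = H₁ := by
  classical
  have : Fintype (G ⧸ U) := Fintype.ofFinite _
  obtain ⟨θ₀, hθ₀, hcr₀⟩ := exists_kpart K ⊤ H₀ (by rw [inf_comm]; exact h₀.disjoint.eq_bot)
    h₀.sup_eq_top
  obtain ⟨θ₁, hθ₁, hcr₁⟩ := exists_kpart K ⊤ H₁ (by rw [inf_comm]; exact h₁.disjoint.eq_bot)
    h₁.sup_eq_top
  have hdec : ∀ (H : Subgroup G), K ⊔ H = ⊤ → ∀ g : G, ∃ k : K, ∃ a ∈ H, g = (k : G) * a := by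
    intro H hH g
    have hg : g ∈ ((K ⊔ H : Subgroup G) : Set G) := by rw [hH]; trivial
    rw [Subgroup.normal_mul] at hg
    obtain ⟨k, hk, a, ha, rfl⟩ := Set.mem_mul.mp hg
    exact ⟨⟨k, hk⟩, a, ha, rfl⟩
  obtain ⟨z, hz⟩ := exists_zpow_root K hcop
  set δ : G → K := fun g => θ₁ g * (θ₀ g)⁻¹ with hδ
  have hδmul : ∀ g g' : G, δ (g * g') = δ g * cj K g (δ g') := by
    intro g g'
    simp only [hδ]
    rw [hcr₀ g (Subgroup.mem_top g) g' (Subgroup.mem_top g'),
      hcr₁ g (Subgroup.mem_top g) g' (Subgroup.mem_top g'), map_mul, map_inv, mul_inv]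
    exact mul_mul_mul_comm _ _ _ _
  have hδU : ∀ u ∈ U, δ u = 1 := by
    intro u hu
    obtain ⟨k, a, ha, rfl⟩ := hdec H₀ h₀.sup_eq_top u
    have haU : a ∈ U := by
      have : a = (k : G)⁻¹ * ((k : G) * a) := by group
      rw [this]
      exact U.mul_mem (U.inv_mem (hKU k.2)) hu
    have ha1 : a ∈ H₁ := by
      have : a ∈ H₀ ⊓ U := Subgroup.mem_inf.mpr ⟨ha, haU⟩
      rw [hU] at this
      exact (Subgroup.mem_inf.mp this).1
    simp only [hδ]
    rw [hθ₀ k a ha, hθ₁ k a ha1, mul_inv_cancel]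
  have hδinv : ∀ g, ∀ u ∈ U, δ (g * u) = δ g := by
    intro g u hu
    rw [hδmul, hδU u hu, map_one, mul_one]
  set E : K := ∏ c : G ⧸ U, δ (rep U c) with hE
  have hpow : ∀ g : G, (δ g) ^ U.index = E * (cj K g E)⁻¹ := by
    intro g
    have h1 := prod_mul_rep U δ hδinv g
    have h2 : ∏ c : G ⧸ U, δ (g * rep U c) = (δ g) ^ U.index * cj K g E := by
      simp_rw [hδmul]
      rw [Finset.prod_mul_distrib, Finset.prod_const, Finset.card_univ, ← map_prod,
        Subgroup.index, Nat.card_eq_fintype_card]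
    rw [h2] at h1
    exact eq_mul_inv_of_mul_eq h1
  set e : K := E ^ z with he
  have hδe : ∀ g : G, δ g = e * (cj K g e)⁻¹ := by
    intro g
    rw [← hz (δ g), hpow, mul_zpow, inv_zpow, ← map_zpow]
  refine ⟨(e : G)⁻¹, ?_⟩
  have hle : MulAut.conj (e : G)⁻¹ • H₀ ≤ H₁ := by
    rintro _ ⟨g, hg, rfl⟩
    have h0 : θ₀ g = 1 := by
      have := hθ₀ 1 g hg
      simpa using this
    have h1 : δ g = θ₁ g := by simp only [hδ]; rw [h0, inv_one, mul_one]
    obtain ⟨k, a, ha, hga⟩ := hdec H₁ h₁.sup_eq_top g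
    have h2 : θ₁ g = k := by rw [hga]; exact hθ₁ k a ha
    have h3 : (k : G) = (e : G) * ((g * (e : G) * g⁻¹))⁻¹ := by
      have := congrArg Subtype.val (hδe g)
      rw [h1, h2] at this
      simpa using this
    have h4 : a = (k : G)⁻¹ * g := by rw [hga]; group
    have hcomm : (e : G) * (g * (e : G) * g⁻¹) = (g * (e : G) * g⁻¹) * (e : G) := by
      have := mul_comm' e (cj K g e)
      exact congrArg Subtype.val this
    have h5 : (MulAut.conj (e : G)⁻¹) g = a := by
      rw [h4, h3, MulAut.conj_apply]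
      have : ((e : G) * (g * (e : G) * g⁻¹)⁻¹)⁻¹ * g = (g * (e : G) * g⁻¹) * (e : G)⁻¹ * g := by
        group
      rw [this]
      have h6 : (g * (e : G) * g⁻¹) * (e : G)⁻¹ = (e : G)⁻¹ * (g * (e : G) * g⁻¹) := by
        calc (g * (e : G) * g⁻¹) * (e : G)⁻¹
            = (e : G)⁻¹ * ((e : G) * (g * (e : G) * g⁻¹)) * (e : G)⁻¹ := by group
          _ = (e : G)⁻¹ * ((g * (e : G) * g⁻¹) * (e : G)) * (e : G)⁻¹ := by rw [hcomm]
          _ = (e : G)⁻¹ * (g * (e : G) * g⁻¹) := by group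
      rw [h6]
      group
    show (MulAut.conj (e : G)⁻¹) g ∈ H₁
    rw [h5]; exact ha
  apply Subgroup.eq_of_le_of_card_ge hle
  have hc0 := h₀.card_mul_card
  have hc1 := h₁.card_mul_card
  have hcard : Nat.card (MulAut.conj (e : G)⁻¹ • H₀ : Subgroup G) = Nat.card H₀ :=
    Nat.card_congr (H₀.equivMapOfInjective _ (MulAut.conj (e : G)⁻¹).injective).symm.toEquiv
  rw [hcard]
  have hpos : 0 < Nat.card K := Nat.card_pos
  have : Nat.card K * Nat.card H₁ = Nat.card K * Nat.card H₀ := by rw [hc0, hc1]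
  exact (Nat.eq_of_mul_eq_mul_left hpos this).le

end

end Gaschutz

end Cfsg.Agent.Lib.Helper1
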