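import Mathlib
import Cfsg.Prelude.Def_Transfer
import Cfsg.Agent.Lib.Helper1.Frattini

/-!
Class two p-groups: power formulas, special and extraspecial groups.
-/

set_option autoImplicit false

open Subgroup
open scoped commutatorElement

namespace Cfsg.Agent.Lib.Helper1

universe u

variable {P : Type u} [Group P]

/-- If `⁅x, y⁆` commutes with `x` then `⁅x ^ n, y⁆ = ⁅x, y⁆ ^ n`. -/
theorem commutatorElement_pow_left {x y : P} (h : ⁅x, y⁆ * x = x * ⁅x, y⁆) (n : ℕ) :
    ⁅x ^ n, y⁆ = ⁅x, y⁆ ^ n := by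
  induction n with
  | zero => simp
  | succ n ih =>
    have hc : ⁅x, y⁆ ^ n * x = x * ⁅x, y⁆ ^ n := by
      have : Commute (⁅x, y⁆) x := h
      exact (this.pow_left n).eq
    calc ⁅x ^ (n + 1), y⁆ = x * ⁅x ^ n, y⁆ * x⁻¹ * ⁅x, y⁆ := by
          simp only [commutatorElement_def, pow_succ']
          group
      _ = x * ⁅x, y⁆ ^ n * x⁻¹ * ⁅x, y⁆ := by rw [ih]
      _ = ⁅x, y⁆ ^ n * x * x⁻¹ * ⁅x, y⁆ := by rw [hc]
      _ = ⁅x, y⁆ ^ (n + 1) := by rw [pow_succ]; group

/-- Class two power formula: if `c = ⁅y, x⁆` commutes with `x` and `y` then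
`(x * y) ^ n = x ^ n * y ^ n * c ^ (n choose 2)`. -/
theorem mul_pow_of_commutator_central {x y : P} (hx : ⁅y, x⁆ * x = x * ⁅y, x⁆)
    (hy : ⁅y, x⁆ * y = y * ⁅y, x⁆) (n : ℕ) :
    (x * y) ^ n = x ^ n * y ^ n * ⁅y, x⁆ ^ (n.choose 2) := by
  have hcx : Commute (⁅y, x⁆) x := hx
  have hcy : Commute (⁅y, x⁆) y := hy
  -- y^n * x = c^n * x * y^n
  have hyx : ∀ m : ℕ, y ^ m * x = ⁅y, x⁆ ^ m * x * y ^ m := by
    intro m
    have h1 := commutatorElement_pow_left (x := y) (y := x) hy m
    rw [← h1, commutatorElement_def]; group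
  induction n with
  | zero => simp
  | succ n ih =>
    have e : (n + 1).choose 2 = n + n.choose 2 := by
      rw [Nat.choose_succ_succ, Nat.choose_one_right]
    rw [pow_succ (x * y), ih]
    have c1 : Commute (⁅y, x⁆ ^ n.choose 2) x := hcx.pow_left _
    have c2 : Commute (⁅y, x⁆ ^ n.choose 2) y := hcy.pow_left _
    have c3 : Commute (⁅y, x⁆ ^ n) x := hcx.pow_left _
    have c4 : Commute (⁅y, x⁆ ^ n) (x ^ n) := (hcx.pow_left _).pow_right _
    have c5 : Commute (⁅y, x⁆ ^ n.choose 2) (y ^ (n + 1)) := c2.pow_right _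
    have c6 : Commute (⁅y, x⁆ ^ n) (y ^ (n + 1)) := (hcy.pow_left _).pow_right _
    calc x ^ n * y ^ n * ⁅y, x⁆ ^ n.choose 2 * (x * y)
        = x ^ n * y ^ n * (⁅y, x⁆ ^ n.choose 2 * x) * y := by group
      _ = x ^ n * y ^ n * (x * ⁅y, x⁆ ^ n.choose 2) * y := by rw [c1.eq]
      _ = x ^ n * (y ^ n * x) * (⁅y, x⁆ ^ n.choose 2 * y) := by group
      _ = x ^ n * (⁅y, x⁆ ^ n * x * y ^ n) * (y * ⁅y, x⁆ ^ n.choose 2) := by rw [hyx n, c2.eq]
      _ = (x ^ n * ⁅y, x⁆ ^ n) * x * (y ^ n * y) * ⁅y, x⁆ ^ n.choose 2 := by group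
      _ = (⁅y, x⁆ ^ n * x ^ n) * x * (y ^ n * y) * ⁅y, x⁆ ^ n.choose 2 := by rw [c4.eq]
      _ = ⁅y, x⁆ ^ n * (x ^ (n + 1) * y ^ (n + 1)) * ⁅y, x⁆ ^ n.choose 2 := by
          rw [pow_succ, pow_succ]; group
      _ = x ^ (n + 1) * y ^ (n + 1) * (⁅y, x⁆ ^ n * ⁅y, x⁆ ^ n.choose 2) := by
          have c7 : Commute (⁅y, x⁆ ^ n) (x ^ (n + 1) * y ^ (n + 1)) :=
            ((hcx.pow_left _).pow_right _).mul_right c6
          rw [c7.eq]; group
      _ = x ^ (n + 1) * y ^ (n + 1) * ⁅y, x⁆ ^ (n + 1).choose 2 := by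
          rw [e, pow_add ⁅y, x⁆ n (n.choose 2)]


/-- If all commutators of `P` are central and `p`-th powers are central, then the derived
subgroup has exponent dividing `p`. -/
theorem pow_eq_one_of_mem_commutator_of_class_two {p : ℕ}
    (hcomm : commutator P ≤ center P) (hpow : ∀ x : P, x ^ p ∈ center P) :
    ∀ z ∈ commutator P, z ^ p = 1 := by
  intro z hz
  rw [commutator_eq_closure] at hz
  induction hz using Subgroup.closure_induction with
  | mem z hz =>
    obtain ⟨x, y, rfl⟩ := hz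
    have hc : ⁅x, y⁆ ∈ center P := hcomm (Subgroup.commutator_mem_commutator (mem_top x) (mem_top y))
    rw [← commutatorElement_pow_left ((Subgroup.mem_center_iff.mp hc) x).symm p]
    rw [commutatorElement_eq_one_iff_commute]
    exact ((Subgroup.mem_center_iff.mp (hpow x)) y).symm
  | one => simp
  | mul a b ha hb iha ihb =>
    have hac : a ∈ center P := hcomm (by rw [commutator_eq_closure]; exact ha)
    have : Commute a b := ((Subgroup.mem_center_iff.mp hac) b).symm
    rw [this.mul_pow, iha, ihb, one_mul]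
  | inv a ha iha => rw [inv_pow, iha, inv_one]

theorem IsSpecial.pow_eq_one_of_mem_center [Finite P] {p : ℕ} [Fact p.Prime]
    (h : Cfsg.IsSpecial p P) (z : P) (hz : z ∈ center P) : z ^ p = 1 := by
  obtain ⟨hP, hΦ, hD⟩ := h
  apply pow_eq_one_of_mem_commutator_of_class_two (p := p) hD.le
  · intro x
    rw [← hΦ]
    exact IsPGroup.pow_mem_frattini hP x
  · rw [hD]; exact hz


theorem commutator_le_center_of_class_two (h2 : ⁅commutator P, (⊤ : Subgroup P)⁆ = ⊥) :
    commutator P ≤ center P := by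
  rw [Subgroup.commutator_eq_bot_iff_le_centralizer] at h2
  rwa [Subgroup.coe_top, Subgroup.centralizer_univ] at h2

/-- In a group of class at most two, for an odd prime `p`, if `x ^ p = 1` and `y ^ p = 1`
then `(x * y) ^ p = 1`. -/
theorem mul_pow_prime_eq_one_of_class_two {p : ℕ} [Fact p.Prime] (hp : p ≠ 2)
    (hcomm : commutator P ≤ center P) {x y : P} (hx : x ^ p = 1) (hy : y ^ p = 1) :
    (x * y) ^ p = 1 := by
  have hpp : p.Prime := Fact.out
  have hc : ⁅y, x⁆ ∈ center P := hcomm (Subgroup.commutator_mem_commutator (mem_top y) (mem_top x))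
  have hcx := ((Subgroup.mem_center_iff.mp hc) x).symm
  have hcy := ((Subgroup.mem_center_iff.mp hc) y).symm
  rw [mul_pow_of_commutator_central hcx hcy, hx, hy, one_mul, one_mul]
  have hcp : ⁅y, x⁆ ^ p = 1 := by
    rw [← commutatorElement_pow_left hcy p, hy, commutatorElement_one_left]
  have hdvd : p ∣ p.choose 2 := by
    apply hpp.dvd_choose_self (by norm_num)
    have := hpp.two_le
    omega
  obtain ⟨k, hk⟩ := hdvd
  rw [hk, pow_mul, hcp, one_pow]

theorem pow_eq_one_of_mem_closure_of_class_two {p : ℕ} [Fact p.Prime] (hp : p ≠ 2)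
    (h2 : ⁅commutator P, (⊤ : Subgroup P)⁆ = ⊥) (g : P)
    (hg : g ∈ Subgroup.closure {x : P | x ^ p = 1}) : g ^ p = 1 := by
  have hcomm := commutator_le_center_of_class_two h2
  induction hg using Subgroup.closure_induction with
  | mem z hz => exact hz
  | one => simp
  | mul a b _ _ iha ihb => exact mul_pow_prime_eq_one_of_class_two hp hcomm iha ihb
  | inv a _ iha => rw [inv_pow, iha, inv_one]


theorem IsSpecial.class_two {p : ℕ} (h : Cfsg.IsSpecial p P) :
    ⁅commutator P, (⊤ : Subgroup P)⁆ = ⊥ := by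
  rw [Subgroup.commutator_eq_bot_iff_le_centralizer, Subgroup.coe_top, Subgroup.centralizer_univ,
    h.2.2]

/-- The `p`-th power map of a special `p`-group (`p` odd), as a homomorphism to the centre. -/
def IsSpecial.powHom [Finite P] {p : ℕ} [Fact p.Prime] (hp : p ≠ 2) (h : Cfsg.IsSpecial p P) :
    P →* center P where
  toFun x := ⟨x ^ p, by rw [← h.2.1]; exact IsPGroup.pow_mem_frattini h.1 x⟩
  map_one' := by simp
  map_mul' x y := by
    apply Subtype.ext
    show (x * y) ^ p = x ^ p * y ^ p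
    have hpp : p.Prime := Fact.out
    have hc : ⁅y, x⁆ ∈ center P := by
      rw [← h.2.2]; exact Subgroup.commutator_mem_commutator (mem_top y) (mem_top x)
    have hcx := ((Subgroup.mem_center_iff.mp hc) x).symm
    have hcy := ((Subgroup.mem_center_iff.mp hc) y).symm
    rw [mul_pow_of_commutator_central hcx hcy]
    have hcp : ⁅y, x⁆ ^ p = 1 := IsSpecial.pow_eq_one_of_mem_center h _ hc
    have hdvd : p ∣ p.choose 2 := by
      apply hpp.dvd_choose_self (by norm_num)
      have := hpp.two_le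
      omega
    obtain ⟨k, hk⟩ := hdvd
    rw [hk, pow_mul, hcp, one_pow, mul_one]

theorem IsExtraspecial.omega_one [Finite P] {p : ℕ} [Fact p.Prime] (hp : p ≠ 2)
    (h : Cfsg.IsExtraspecial p P) :
    (Subgroup.closure {x : P | x ^ p = 1}).index ≤ p ∧
      ∀ g ∈ Subgroup.closure {x : P | x ^ p = 1}, g ^ p = 1 := by
  have hexp : ∀ g ∈ Subgroup.closure {x : P | x ^ p = 1}, g ^ p = 1 :=
    fun g hg => pow_eq_one_of_mem_closure_of_class_two hp (IsSpecial.class_two h.1) g hg
  refine ⟨?_, hexp⟩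
  have hker : Subgroup.closure {x : P | x ^ p = 1} = (IsSpecial.powHom hp h.1).ker := by
    apply le_antisymm
    · intro g hg
      rw [MonoidHom.mem_ker]
      apply Subtype.ext
      exact hexp g hg
    · intro g hg
      rw [MonoidHom.mem_ker] at hg
      apply Subgroup.subset_closure
      exact congrArg Subtype.val hg
  rw [hker, Subgroup.index_ker]
  exact (Subgroup.card_le_card_group _).trans h.2.le

end Cfsg.Agent.Lib.Helper1
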