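import Mathlib
import Cfsg.Prelude.Def_Transfer
import Cfsg.Agent.Lib.Helper1.Frattini

/-!
# Helper1 library: the order of an extraspecial group

* `commHom hcl a : P →* center P`, `g ↦ ⁅a, g⁆` (central commutators),
* `card_eq_mul_card_inf_centralizer`: `|H| = p |C_H(a)|` and `H = ⟨b⟩ C_H(a)` when `|Z(P)| = p`,
* `card_eq_pow_of_inf_centralizer_le` (inductive claim), `IsExtraspecial.card_eq` (= S0095).
-/

set_option autoImplicit false

namespace Cfsg.Agent.Lib.Helper1

open scoped commutatorElement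

section ExtraspecialOrder

variable {P : Type*} [Group P]

theorem commutatorElement_mul_right_eq (a g h : P) :
    ⁅a, g * h⁆ = ⁅a, g⁆ * (g * ⁅a, h⁆ * g⁻¹) := by
  simp only [commutatorElement_def]; group

/-- In a group whose commutators are central, `g ↦ ⁅a, g⁆` is a homomorphism to the centre. -/
def commHom (hcl : ∀ a b : P, ⁅a, b⁆ ∈ Subgroup.center P) (a : P) : P →* Subgroup.center P where
  toFun g := ⟨⁅a, g⁆, hcl a g⟩
  map_one' := by apply Subtype.ext; simp
  map_mul' g h := by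
    apply Subtype.ext
    show ⁅a, g * h⁆ = ⁅a, g⁆ * ⁅a, h⁆
    rw [commutatorElement_mul_right_eq]
    congr 1
    have := (Subgroup.mem_center_iff.mp (hcl a h)) g
    rw [this, mul_inv_cancel_right]

theorem commHom_apply (hcl : ∀ a b : P, ⁅a, b⁆ ∈ Subgroup.center P) (a g : P) :
    ((commHom hcl a g : Subgroup.center P) : P) = ⁅a, g⁆ := rfl

theorem commHom_eq_one_iff (hcl : ∀ a b : P, ⁅a, b⁆ ∈ Subgroup.center P) (a g : P) :
    commHom hcl a g = 1 ↔ g ∈ Subgroup.centralizer {a} := by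
  have h0 : commHom hcl a g = 1 ↔ ⁅a, g⁆ = 1 :=
    ⟨fun h => congrArg Subtype.val h, fun h => Subtype.ext h⟩
  rw [h0, commutatorElement_eq_one_iff_mul_comm, Subgroup.mem_centralizer_singleton_iff]
  exact eq_comm

variable [Finite P]

/-- Key step: if the centre has prime order `p`, commutators are central, `b ∈ H` and
`⁅a, b⁆ ≠ 1`, then `C_H(a)` has index `p` in `H` and `H = ⟨b⟩ C_H(a)`. -/
theorem card_eq_mul_card_inf_centralizer {p : ℕ} [Fact p.Prime]
    (hcl : ∀ a b : P, ⁅a, b⁆ ∈ Subgroup.center P) (hZ : Nat.card (Subgroup.center P) = p)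
    (H : Subgroup P) (a b : P) (hb : b ∈ H) (hab : ⁅a, b⁆ ≠ 1) :
    Nat.card H = p * Nat.card (H ⊓ Subgroup.centralizer {a} : Subgroup P) ∧
      ∀ g ∈ H, ∃ i : ℕ, g * (b ^ i)⁻¹ ∈ H ⊓ Subgroup.centralizer {a} := by
  have hp : p.Prime := Fact.out
  let κ : H →* Subgroup.center P := (commHom hcl a).comp H.subtype
  have hκb : κ ⟨b, hb⟩ ≠ 1 := by
    intro h
    apply hab
    exact congrArg Subtype.val h
  have hgen : ∀ z : Subgroup.center P, z ∈ Subgroup.zpowers (κ ⟨b, hb⟩) := by
    intro z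
    have hcard : Nat.card (Subgroup.zpowers (κ ⟨b, hb⟩)) = p := by
      rw [Nat.card_zpowers]
      have h1 : orderOf (κ ⟨b, hb⟩) ∣ p := hZ ▸ orderOf_dvd_natCard _
      rcases (Nat.dvd_prime hp).mp h1 with h2 | h2
      · exact absurd (orderOf_eq_one_iff.mp h2) hκb
      · exact h2
    have : Subgroup.zpowers (κ ⟨b, hb⟩) = ⊤ :=
      Subgroup.eq_top_of_card_eq _ (by rw [hcard, hZ])
    rw [this]; trivial
  have hker : Nat.card κ.ker = Nat.card (H ⊓ Subgroup.centralizer {a} : Subgroup P) := by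
    have : κ.ker = (H ⊓ Subgroup.centralizer {a}).subgroupOf H := by
      ext g
      rw [MonoidHom.mem_ker, Subgroup.mem_subgroupOf, Subgroup.mem_inf]
      show commHom hcl a (g : P) = 1 ↔ _
      rw [commHom_eq_one_iff]
      exact ⟨fun h => ⟨g.2, h⟩, fun h => h.2⟩
    rw [this]
    exact Nat.card_congr (Subgroup.subgroupOfEquivOfLe inf_le_left).toEquiv
  have hrange : Nat.card κ.range = p := by
    have : κ.range = ⊤ := by
      rw [eq_top_iff]
      intro z _
      obtain ⟨k, hk⟩ := Subgroup.mem_zpowers_iff.mp (hgen z)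
      exact ⟨⟨b, hb⟩ ^ k, by rw [map_zpow]; exact hk⟩
    rw [this, Subgroup.card_top, hZ]
  constructor
  · rw [← hker, ← hrange, ← Subgroup.index_ker, mul_comm, Subgroup.card_mul_index]
  · intro g hg
    have h1 := hgen (κ ⟨g, hg⟩)
    rw [← mem_powers_iff_mem_zpowers] at h1
    obtain ⟨i, hi⟩ := h1
    have hi' : κ ⟨b, hb⟩ ^ i = κ ⟨g, hg⟩ := hi
    refine ⟨i, Subgroup.mem_inf.mpr ⟨H.mul_mem hg (H.inv_mem (H.pow_mem hb i)), ?_⟩⟩
    rw [← commHom_eq_one_iff hcl]
    have h2 : κ (⟨g, hg⟩ * (⟨b, hb⟩ ^ i)⁻¹) = 1 := by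
      rw [map_mul, map_inv, map_pow, hi', mul_inv_cancel]
    exact h2

/-- Inductive claim: in a group with central commutators and centre of prime order `p`, every
subgroup `C ≥ Z(P)` with `Z(C) ≤ Z(P)` has order `p ^ (2 m + 1)`. -/
theorem card_eq_pow_of_inf_centralizer_le {p : ℕ} [Fact p.Prime]
    (hcl : ∀ a b : P, ⁅a, b⁆ ∈ Subgroup.center P) (hZ : Nat.card (Subgroup.center P) = p) :
    ∀ (n : ℕ) (C : Subgroup P), Nat.card C = n → Subgroup.center P ≤ C →
      C ⊓ Subgroup.centralizer (C : Set P) ≤ Subgroup.center P → ∃ m : ℕ, n = p ^ (2 * m + 1) := by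
  have hp : p.Prime := Fact.out
  intro n
  induction n using Nat.strong_induction_on with
  | _ n ih =>
    intro C hCn hZC hCZ
    by_cases hCle : C ≤ Subgroup.center P
    · refine ⟨0, ?_⟩
      rw [← hCn, le_antisymm hCle hZC, hZ]; simp
    · obtain ⟨x, hxC, hxZ⟩ := SetLike.not_le_iff_exists.mp hCle
      have hxc : x ∉ Subgroup.centralizer (C : Set P) :=
        fun h => hxZ (hCZ (Subgroup.mem_inf.mpr ⟨hxC, h⟩))
      rw [Subgroup.mem_centralizer_iff] at hxc
      push Not at hxc
      obtain ⟨y, hyC, hyx⟩ := hxc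
      have hxy : ⁅x, y⁆ ≠ 1 := by
        rw [Ne, commutatorElement_eq_one_iff_mul_comm]
        exact fun h => hyx h.symm
      have hyx' : ⁅y, x⁆ ≠ 1 := by
        rw [Ne, commutatorElement_eq_one_iff_mul_comm]
        exact hyx
      obtain ⟨h1, h2⟩ := card_eq_mul_card_inf_centralizer hcl hZ C x y hyC hxy
      set C₁ : Subgroup P := C ⊓ Subgroup.centralizer {x} with hC₁
      have hxC₁ : x ∈ C₁ := Subgroup.mem_inf.mpr ⟨hxC, Subgroup.mem_centralizer_singleton_iff.mpr rfl⟩
      obtain ⟨h3, h4⟩ := card_eq_mul_card_inf_centralizer hcl hZ C₁ y x hxC₁ hyx'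
      set D : Subgroup P := C₁ ⊓ Subgroup.centralizer {y} with hD
      have hcent : ∀ a : P, Subgroup.center P ≤ Subgroup.centralizer {a} := by
        intro a z hz
        rw [Subgroup.mem_centralizer_singleton_iff]
        exact ((Subgroup.mem_center_iff.mp hz) a).symm
      have hZD : Subgroup.center P ≤ D := le_inf (le_inf hZC (hcent x)) (hcent y)
      have hDZ : D ⊓ Subgroup.centralizer (D : Set P) ≤ Subgroup.center P := by
        intro z hz
        obtain ⟨hzD, hzc⟩ := Subgroup.mem_inf.mp hz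
        have hzC : z ∈ C := (Subgroup.mem_inf.mp (Subgroup.mem_inf.mp hzD).1).1
        have hzx : x * z = z * x :=
          (Subgroup.mem_centralizer_singleton_iff.mp
            (Subgroup.mem_inf.mp (Subgroup.mem_inf.mp hzD).1).2).symm
        have hzy : y * z = z * y :=
          (Subgroup.mem_centralizer_singleton_iff.mp (Subgroup.mem_inf.mp hzD).2).symm
        apply hCZ
        refine Subgroup.mem_inf.mpr ⟨hzC, ?_⟩
        rw [Subgroup.mem_centralizer_iff]
        intro g hg
        obtain ⟨i, hi⟩ := h2 g hg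
        obtain ⟨j, hj⟩ := h4 _ hi
        have hd := (Subgroup.mem_centralizer_iff.mp hzc) _ hj
        have hg' : g = (g * (y ^ i)⁻¹ * (x ^ j)⁻¹) * x ^ j * y ^ i := by group
        have cx : Commute (x ^ j) z := (show Commute x z from hzx).pow_left j
        have cy : Commute (y ^ i) z := (show Commute y z from hzy).pow_left i
        have cd : Commute (g * (y ^ i)⁻¹ * (x ^ j)⁻¹) z := hd
        rw [hg']
        exact ((cd.mul_left cx).mul_left cy).eq
      have hlt : Nat.card D < n := by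
        rw [← hCn, h1, h3]
        have : 0 < Nat.card D := Nat.card_pos
        have := hp.two_le
        nlinarith
      obtain ⟨m, hm⟩ := ih _ hlt D rfl hZD hDZ
      refine ⟨m + 1, ?_⟩
      rw [← hCn, h1, h3, hm]
      ring

/-- An extraspecial `p`-group has order `p ^ (2 n + 1)` with `n ≥ 1`. -/
theorem IsExtraspecial.card_eq {p : ℕ} [Fact p.Prime] (h : Cfsg.IsExtraspecial p P) :
    ∃ n : ℕ, 1 ≤ n ∧ Nat.card P = p ^ (2 * n + 1) := by
  have hp : p.Prime := Fact.out
  obtain ⟨⟨hP, hΦ, hD⟩, hZ⟩ := h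
  have hcl : ∀ a b : P, ⁅a, b⁆ ∈ Subgroup.center P := by
    intro a b
    rw [← hD]
    exact Subgroup.commutator_mem_commutator (Subgroup.mem_top a) (Subgroup.mem_top b)
  obtain ⟨m, hm⟩ := card_eq_pow_of_inf_centralizer_le hcl hZ _ ⊤ rfl le_top
    (by rw [Subgroup.coe_top, Subgroup.centralizer_univ]; exact inf_le_right)
  rw [Subgroup.card_top] at hm
  refine ⟨m, ?_, hm⟩
  by_contra hm0
  have hm0 : m = 0 := by omega
  rw [hm0] at hm
  simp only [mul_zero, zero_add, pow_one] at hm
  have htop : Subgroup.center P = ⊤ := Subgroup.eq_top_of_card_eq _ (by rw [hZ, hm])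
  have hcomm : commutator P = ⊥ := by
    rw [commutator_def, Subgroup.commutator_eq_bot_iff_le_centralizer, Subgroup.coe_top,
      Subgroup.centralizer_univ, htop]
  rw [hD, htop] at hcomm
  have : Nat.card (⊤ : Subgroup P) = 1 := by rw [hcomm, Subgroup.card_bot]
  rw [Subgroup.card_top, hm] at this
  exact hp.one_lt.ne' this

end ExtraspecialOrder

end Cfsg.Agent.Lib.Helper1
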