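import Mathlib
import Cfsg.Prelude.Def_Transfer
import Cfsg.Agent.Lib.Helper1.ExtraspecialOrder

/-!
# Helper1 library: isomorphisms of extraspecial-type groups

* `exists_mulEquiv_of_graph`: a subgroup of `P × P'` projecting onto `H`, `H'`, no bigger than
  either, is the graph of an isomorphism,
* `exists_mulEquiv_glue`: gluing isomorphisms of commuting factors agreeing on the intersection,
* `card_closure_pair_le`: `|⟨X, Y⟩| ≤ p^3` for Heisenberg-type relations,
* `decomp`: `C = ⟨x, y⟩ C_C(x, y)` in a group with central commutators and centre of order `p`,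
* `exists_mulEquiv_pair`: isomorphism of two 2-generator groups with equal relations.
-/

set_option autoImplicit false

open scoped commutatorElement

namespace Cfsg.Agent.Lib.Helper1

namespace ExtraspecialIso

universe u v

variable {P : Type u} {P' : Type v} [Group P] [Group P']

/-- Graph trick: a subgroup `F ≤ P × P'` projecting onto `H` and `H'` and no bigger than either
is the graph of an isomorphism `H ≃* H'`. -/
theorem exists_mulEquiv_of_graph [Finite P] [Finite P'] (H : Subgroup P) (H' : Subgroup P')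
    (F : Subgroup (P × P'))
    (h1 : F.map (MonoidHom.fst P P') = H) (h2 : F.map (MonoidHom.snd P P') = H')
    (hc1 : Nat.card F ≤ Nat.card H) (hc2 : Nat.card F ≤ Nat.card H') :
    ∃ α : H ≃* H', ∀ (a : P) (b : P') (_ : (a, b) ∈ F) (ha : a ∈ H) (hb : b ∈ H'),
      α ⟨a, ha⟩ = ⟨b, hb⟩ := by
  let f₁ : F →* H := (MulEquiv.subgroupCongr h1).toMonoidHom.comp ((MonoidHom.fst P P').subgroupMap F)
  let f₂ : F →* H' := (MulEquiv.subgroupCongr h2).toMonoidHom.comp ((MonoidHom.snd P P').subgroupMap F)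
  have hs1 : Function.Surjective f₁ :=
    (MulEquiv.subgroupCongr h1).surjective.comp (MonoidHom.subgroupMap_surjective _ _)
  have hs2 : Function.Surjective f₂ :=
    (MulEquiv.subgroupCongr h2).surjective.comp (MonoidHom.subgroupMap_surjective _ _)
  have hb1 : Function.Bijective f₁ := hs1.bijective_of_nat_card_le hc1
  have hb2 : Function.Bijective f₂ := hs2.bijective_of_nat_card_le hc2
  let e₁ : F ≃* H := MulEquiv.ofBijective f₁ hb1
  let e₂ : F ≃* H' := MulEquiv.ofBijective f₂ hb2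
  refine ⟨e₁.symm.trans e₂, ?_⟩
  intro a b hab ha hb
  have h3 : e₁ ⟨(a, b), hab⟩ = ⟨a, ha⟩ := Subtype.ext rfl
  have h4 : e₂ ⟨(a, b), hab⟩ = ⟨b, hb⟩ := Subtype.ext rfl
  rw [MulEquiv.trans_apply, ← h3, MulEquiv.symm_apply_apply, h4]

/-- Gluing lemma: if `C = H D`, `C' = H' D'` with commuting factors, `|C| = |C'|`, and
isomorphisms `α : H ≃* H'`, `γ : D ≃* D'` agree on `H ∩ D`, they glue to `C ≃* C'`. -/
theorem exists_mulEquiv_glue [Finite P] [Finite P'] (C H D : Subgroup P) (C' H' D' : Subgroup P')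
    (hHC : H ≤ C) (hDC : D ≤ C) (hHC' : H' ≤ C') (hDC' : D' ≤ C')
    (hcomm : ∀ h ∈ H, ∀ d ∈ D, h * d = d * h) (hcomm' : ∀ h ∈ H', ∀ d ∈ D', h * d = d * h)
    (hgen : ∀ g ∈ C, ∃ h ∈ H, ∃ d ∈ D, g = h * d)
    (hgen' : ∀ g ∈ C', ∃ h ∈ H', ∃ d ∈ D', g = h * d)
    (α : H ≃* H') (γ : D ≃* D')
    (hag : ∀ (t : P) (hH : t ∈ H) (hD : t ∈ D), (α ⟨t, hH⟩ : P') = γ ⟨t, hD⟩)
    (hcard : Nat.card C = Nat.card C') :
    ∃ φ : C ≃* C', (∀ (h : P) (hh : h ∈ H), (φ ⟨h, hHC hh⟩ : P') = α ⟨h, hh⟩) ∧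
      (∀ (d : P) (hd : d ∈ D), (φ ⟨d, hDC hd⟩ : P') = γ ⟨d, hd⟩) := by
  let π : H × D →* C := MonoidHom.noncommCoprod (Subgroup.inclusion hHC) (Subgroup.inclusion hDC)
    (fun h d => Subtype.ext (hcomm h h.2 d d.2))
  let f : H × D →* C' := MonoidHom.noncommCoprod ((Subgroup.inclusion hHC').comp α.toMonoidHom)
    ((Subgroup.inclusion hDC').comp γ.toMonoidHom)
    (fun h d => Subtype.ext (hcomm' _ (α h).2 _ (γ d).2))
  have hπ : Function.Surjective π := by
    rintro ⟨g, hg⟩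
    obtain ⟨h, hh, d, hd, rfl⟩ := hgen g hg
    exact ⟨(⟨h, hh⟩, ⟨d, hd⟩), Subtype.ext rfl⟩
  have hf : Function.Surjective f := by
    rintro ⟨g, hg⟩
    obtain ⟨h, hh, d, hd, rfl⟩ := hgen' g hg
    obtain ⟨a, ha⟩ := α.surjective ⟨h, hh⟩
    obtain ⟨b, hb⟩ := γ.surjective ⟨d, hd⟩
    refine ⟨(a, b), Subtype.ext ?_⟩
    show ((α a : H') : P') * ((γ b : D') : P') = h * d
    rw [ha, hb]
  have hker : π.ker ≤ f.ker := by
    rintro ⟨h, d⟩ hx
    rw [MonoidHom.mem_ker] at hx ⊢
    have h1 : (h : P) * (d : P) = 1 := congrArg Subtype.val hx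
    have h2 : (h : P) = (d⁻¹ : D) := by
      rw [Subgroup.coe_inv]; exact eq_inv_of_mul_eq_one_left h1
    have h3 : (h : P) ∈ D := by rw [h2]; exact (d⁻¹).2
    have h4 : (α h : P') = γ ⟨(h : P), h3⟩ := hag h h.2 h3
    have h5 : (⟨(h : P), h3⟩ : D) = d⁻¹ := Subtype.ext h2
    apply Subtype.ext
    show ((α h : H') : P') * ((γ d : D') : P') = 1
    rw [h4, h5, map_inv, Subgroup.coe_inv, inv_mul_cancel]
  let φ₀ : C →* C' := MonoidHom.liftOfSurjective π hπ ⟨f, hker⟩
  have hφ₀ : ∀ x, φ₀ (π x) = f x := fun x =>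
    MonoidHom.liftOfRightInverse_comp_apply π _ _ ⟨f, hker⟩ x
  have hsurj : Function.Surjective φ₀ := by
    intro g
    obtain ⟨x, hx⟩ := hf g
    exact ⟨π x, by rw [hφ₀, hx]⟩
  have hbij : Function.Bijective φ₀ := hsurj.bijective_of_nat_card_le hcard.le
  refine ⟨MulEquiv.ofBijective φ₀ hbij, ?_, ?_⟩
  · intro h hh
    have h1 : π (⟨h, hh⟩, 1) = ⟨h, hHC hh⟩ := Subtype.ext (by
      show h * ((1 : D) : P) = h
      rw [Subgroup.coe_one, mul_one])
    show ((φ₀ ⟨h, hHC hh⟩ : C') : P') = _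
    rw [← h1, hφ₀]
    show ((α ⟨h, hh⟩ : H') : P') * ((γ 1 : D') : P') = _
    rw [map_one, Subgroup.coe_one, mul_one]
  · intro d hd
    have h1 : π (1, ⟨d, hd⟩) = ⟨d, hDC hd⟩ := Subtype.ext (by
      show ((1 : H) : P) * d = d
      rw [Subgroup.coe_one, one_mul])
    show ((φ₀ ⟨d, hDC hd⟩ : C') : P') = _
    rw [← h1, hφ₀]
    show ((α 1 : H') : P') * ((γ ⟨d, hd⟩ : D') : P') = _
    rw [map_one, Subgroup.coe_one, one_mul]


section TwoGen

variable {G : Type u} [Group G]

/-- If `Y X = X Y W` with `W` commuting with `Y`, then `Y^j X = X Y^j W^j`. -/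
theorem pow_mul_comm_of_central {X Y W : G} (h : Y * X = X * Y * W) (hWY : Commute W Y) (j : ℕ) :
    Y ^ j * X = X * Y ^ j * W ^ j := by
  induction j with
  | zero => simp
  | succ j ih =>
    calc Y ^ (j + 1) * X = Y * (Y ^ j * X) := by rw [pow_succ', mul_assoc]
      _ = Y * (X * Y ^ j * W ^ j) := by rw [ih]
      _ = (Y * X) * Y ^ j * W ^ j := by simp only [mul_assoc]
      _ = X * Y * W * Y ^ j * W ^ j := by rw [h]
      _ = X * Y * (W * Y ^ j) * W ^ j := by simp only [mul_assoc]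
      _ = X * Y * (Y ^ j * W) * W ^ j := by rw [(hWY.pow_right j).eq]
      _ = X * (Y * Y ^ j) * (W * W ^ j) := by simp only [mul_assoc]
      _ = X * Y ^ (j + 1) * W ^ (j + 1) := by rw [← pow_succ', ← pow_succ']

/-- A group generated by `X, Y` whose commutator `Z` commutes with both, with `X^p, Y^p ∈ ⟨Z⟩` and
`Z^p = 1`, has order at most `p^3`. -/
theorem card_closure_pair_le [Finite G] (X Y : G) (p : ℕ) (hp : 0 < p)
    (hZX : Commute ⁅X, Y⁆ X) (hZY : Commute ⁅X, Y⁆ Y) (hZp : ⁅X, Y⁆ ^ p = 1)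
    (hX : X ^ p ∈ Subgroup.zpowers ⁅X, Y⁆) (hY : Y ^ p ∈ Subgroup.zpowers ⁅X, Y⁆) :
    Nat.card (Subgroup.closure ({X, Y} : Set G)) ≤ p ^ 3 := by
  set W : G := ⁅X, Y⁆⁻¹ with hW
  have hWX : Commute W X := hZX.inv_left
  have hWY : Commute W Y := hZY.inv_left
  have hWp : W ^ p = 1 := by rw [hW, inv_pow, hZp, inv_one]
  have hYX : Y * X = X * Y * W := by
    have h1 : Y * X = W * X * Y := by rw [hW, commutatorElement_def]; group
    rw [h1, hWX.eq, mul_assoc, hWY.eq, ← mul_assoc]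
  have hzW : Subgroup.zpowers ⁅X, Y⁆ = Subgroup.zpowers W := by
    rw [hW, Subgroup.zpowers_inv]
  rw [hzW, ← mem_powers_iff_mem_zpowers] at hX hY
  obtain ⟨a, ha⟩ := hX
  obtain ⟨b, hb⟩ := hY
  -- the enumeration
  let e : Fin p × Fin p × Fin p → G := fun t => X ^ (t.1 : ℕ) * Y ^ (t.2.1 : ℕ) * W ^ (t.2.2 : ℕ)
  -- every product X^i Y^j W^k is in the range of e
  have hred : ∀ i j k : ℕ, X ^ i * Y ^ j * W ^ k ∈ Set.range e := by
    intro i j k
    have hXi : X ^ i = X ^ (i % p) * W ^ (a * (i / p)) := by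
      conv_lhs => rw [← Nat.mod_add_div i p]
      rw [pow_add, pow_mul, ← ha, ← pow_mul]
    have hYj : Y ^ j = Y ^ (j % p) * W ^ (b * (j / p)) := by
      conv_lhs => rw [← Nat.mod_add_div j p]
      rw [pow_add, pow_mul, ← hb, ← pow_mul]
    have hWm : ∀ m : ℕ, W ^ m = W ^ (m % p) := by
      intro m
      conv_lhs => rw [← Nat.mod_add_div m p]
      rw [pow_add, pow_mul, hWp, one_pow, mul_one]
    refine ⟨(⟨i % p, Nat.mod_lt _ hp⟩, ⟨j % p, Nat.mod_lt _ hp⟩,
      ⟨(a * (i / p) + b * (j / p) + k) % p, Nat.mod_lt _ hp⟩), ?_⟩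
    show X ^ (i % p) * Y ^ (j % p) * W ^ ((a * (i / p) + b * (j / p) + k) % p) = _
    rw [← hWm, hXi, hYj, pow_add, pow_add]
    have c1 : Commute (W ^ (a * (i / p))) (Y ^ (j % p)) := (hWY.pow_left _).pow_right _
    calc X ^ (i % p) * Y ^ (j % p) * (W ^ (a * (i / p)) * W ^ (b * (j / p)) * W ^ k)
        = X ^ (i % p) * (Y ^ (j % p) * W ^ (a * (i / p))) * W ^ (b * (j / p)) * W ^ k := by
          simp only [mul_assoc]
      _ = X ^ (i % p) * (W ^ (a * (i / p)) * Y ^ (j % p)) * W ^ (b * (j / p)) * W ^ k := by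
          rw [c1.eq]
      _ = _ := by simp only [mul_assoc]
  have hcl : ∀ g : G, g ∈ Subgroup.closure ({X, Y} : Set G) → ∃ i j k : ℕ, g = X ^ i * Y ^ j * W ^ k := by
    intro g hg
    have hfin : ∀ x ∈ ({X, Y} : Set G), IsOfFinOrder x := fun x _ => isOfFinOrder_of_finite x
    have h1 : g ∈ Submonoid.closure ({X, Y} : Set G) := by
      rw [← Subgroup.closure_toSubmonoid_of_isOfFinOrder hfin]
      exact hg
    induction h1 using Submonoid.closure_induction_right with
    | one => exact ⟨0, 0, 0, by simp⟩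
    | mul_right x _ y hy ih =>
      have hx' : x ∈ Subgroup.closure ({X, Y} : Set G) := by
        rw [← Subgroup.mem_toSubmonoid, Subgroup.closure_toSubmonoid_of_isOfFinOrder hfin]
        assumption
      obtain ⟨i, j, k, rfl⟩ := ih hx'
      rcases hy with rfl | rfl
      · refine ⟨i + 1, j, j + k, ?_⟩
        have c1 : Commute (W ^ k) y := hWX.pow_left k
        calc y ^ i * Y ^ j * W ^ k * y = y ^ i * Y ^ j * (W ^ k * y) := by simp only [mul_assoc]
          _ = y ^ i * Y ^ j * (y * W ^ k) := by rw [c1.eq]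
          _ = y ^ i * (Y ^ j * y) * W ^ k := by simp only [mul_assoc]
          _ = y ^ i * (y * Y ^ j * W ^ j) * W ^ k := by rw [pow_mul_comm_of_central hYX hWY j]
          _ = (y ^ i * y) * Y ^ j * (W ^ j * W ^ k) := by simp only [mul_assoc]
          _ = _ := by rw [← pow_succ, ← pow_add]
      · refine ⟨i, j + 1, k, ?_⟩
        have c1 : Commute (W ^ k) y := hWY.pow_left k
        calc X ^ i * y ^ j * W ^ k * y = X ^ i * y ^ j * (W ^ k * y) := by simp only [mul_assoc]
          _ = X ^ i * y ^ j * (y * W ^ k) := by rw [c1.eq]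
          _ = X ^ i * (y ^ j * y) * W ^ k := by simp only [mul_assoc]
          _ = _ := by rw [← pow_succ]
  have hsub : (Subgroup.closure ({X, Y} : Set G) : Set G) ⊆ Set.range e := by
    intro g hg
    obtain ⟨i, j, k, rfl⟩ := hcl g hg
    exact hred i j k
  calc Nat.card (Subgroup.closure ({X, Y} : Set G))
      = (Subgroup.closure ({X, Y} : Set G) : Set G).ncard := Nat.card_coe_set_eq _
    _ ≤ (Set.range e).ncard := Set.ncard_le_ncard hsub (Set.toFinite _)
    _ ≤ Nat.card (Fin p × Fin p × Fin p) := by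
        rw [← Set.image_univ, ← Set.ncard_univ]
        exact Set.ncard_image_le (Set.toFinite _)
    _ = p ^ 3 := by
        rw [Nat.card_prod, Nat.card_prod, Nat.card_fin]; ring


end TwoGen

section Setting

variable {P : Type u} [Group P] [Finite P] {p : ℕ} [Fact p.Prime]

omit [Finite P] in
theorem center_le_centralizer_singleton (a : P) : Subgroup.center P ≤ Subgroup.centralizer {a} := by
  intro z hz
  rw [Subgroup.mem_centralizer_singleton_iff]
  exact ((Subgroup.mem_center_iff.mp hz) a).symm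

/-- a nontrivial central element generates the centre when the centre has prime order -/
theorem center_eq_zpowers (hZ : Nat.card (Subgroup.center P) = p) (z : P)
    (hz : z ∈ Subgroup.center P) (hz1 : z ≠ 1) : Subgroup.center P = Subgroup.zpowers z := by
  have hp : p.Prime := Fact.out
  symm
  apply Subgroup.eq_of_le_of_card_ge ((Subgroup.zpowers_le).mpr hz)
  rw [Nat.card_zpowers, hZ]
  have h1 : orderOf z ∣ p := by
    have := Subgroup.orderOf_dvd_natCard (Subgroup.center P) hz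
    rwa [hZ] at this
  rcases (Nat.dvd_prime hp).mp h1 with h2 | h2
  · exact absurd (orderOf_eq_one_iff.mp h2) hz1
  · exact h2.ge

/-- The decomposition `C = H D` with `H = ⟨x, y⟩`, `D = C_C(H)`. -/
theorem decomp (hcl : ∀ a b : P, ⁅a, b⁆ ∈ Subgroup.center P)
    (hZ : Nat.card (Subgroup.center P) = p) (C : Subgroup P) (hZC : Subgroup.center P ≤ C)
    (hCZ : C ⊓ Subgroup.centralizer (C : Set P) ≤ Subgroup.center P) (x y : P) (hx : x ∈ C)
    (hy : y ∈ C) (hxy : ⁅x, y⁆ ≠ 1) :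
    Subgroup.center P ≤ C ⊓ Subgroup.centralizer {x} ⊓ Subgroup.centralizer {y} ∧
    (C ⊓ Subgroup.centralizer {x} ⊓ Subgroup.centralizer {y}) ⊓
      Subgroup.centralizer ((C ⊓ Subgroup.centralizer {x} ⊓ Subgroup.centralizer {y} : Subgroup P) : Set P)
        ≤ Subgroup.center P ∧
    Nat.card C = p ^ 2 * Nat.card (C ⊓ Subgroup.centralizer {x} ⊓ Subgroup.centralizer {y} : Subgroup P) ∧
    Subgroup.closure ({x, y} : Set P) ≤ C ∧
    (∀ g ∈ C, ∃ h ∈ Subgroup.closure ({x, y} : Set P),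
      ∃ d ∈ C ⊓ Subgroup.centralizer {x} ⊓ Subgroup.centralizer {y}, g = h * d) ∧
    (∀ h ∈ Subgroup.closure ({x, y} : Set P),
      ∀ d ∈ C ⊓ Subgroup.centralizer {x} ⊓ Subgroup.centralizer {y}, h * d = d * h) ∧
    Subgroup.closure ({x, y} : Set P) ⊓ (C ⊓ Subgroup.centralizer {x} ⊓ Subgroup.centralizer {y})
      ≤ Subgroup.center P ∧
    p ^ 3 ≤ Nat.card (Subgroup.closure ({x, y} : Set P)) := by
  have hp : p.Prime := Fact.out
  have hyx : ⁅y, x⁆ ≠ 1 := by
    intro h
    apply hxy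
    rw [commutatorElement_eq_one_iff_mul_comm] at h ⊢
    exact h.symm
  obtain ⟨h1, h2⟩ := card_eq_mul_card_inf_centralizer hcl hZ C x y hy hxy
  set C₁ : Subgroup P := C ⊓ Subgroup.centralizer {x} with hC₁
  have hxC₁ : x ∈ C₁ := Subgroup.mem_inf.mpr ⟨hx, Subgroup.mem_centralizer_singleton_iff.mpr rfl⟩
  obtain ⟨h3, h4⟩ := card_eq_mul_card_inf_centralizer hcl hZ C₁ y x hxC₁ hyx
  set D : Subgroup P := C₁ ⊓ Subgroup.centralizer {y} with hD
  set H : Subgroup P := Subgroup.closure ({x, y} : Set P) with hH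
  have hxH : x ∈ H := Subgroup.subset_closure (by simp)
  have hyH : y ∈ H := Subgroup.subset_closure (by simp)
  have hZD : Subgroup.center P ≤ D :=
    le_inf (le_inf hZC (center_le_centralizer_singleton x)) (center_le_centralizer_singleton y)
  have hDx : ∀ d ∈ D, x * d = d * x := fun d hd =>
    (Subgroup.mem_centralizer_singleton_iff.mp (Subgroup.mem_inf.mp (Subgroup.mem_inf.mp hd).1).2).symm
  have hDy : ∀ d ∈ D, y * d = d * y := fun d hd =>
    (Subgroup.mem_centralizer_singleton_iff.mp (Subgroup.mem_inf.mp hd).2).symm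
  have hDC : D ≤ C := fun d hd => (Subgroup.mem_inf.mp (Subgroup.mem_inf.mp hd).1).1
  have hHC : H ≤ C := by
    rw [hH, Subgroup.closure_le]
    rintro g (rfl | rfl)
    · exact hx
    · exact hy
  have hcomm : ∀ h ∈ H, ∀ d ∈ D, h * d = d * h := by
    intro h hh d hd
    have : H ≤ Subgroup.centralizer {d} := by
      rw [hH, Subgroup.closure_le]
      rintro g (rfl | rfl)
      · exact Subgroup.mem_centralizer_singleton_iff.mpr (hDx d hd)
      · exact Subgroup.mem_centralizer_singleton_iff.mpr (hDy d hd)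
    exact Subgroup.mem_centralizer_singleton_iff.mp (this hh)
  have hgen : ∀ g ∈ C, ∃ h ∈ H, ∃ d ∈ D, g = h * d := by
    intro g hg
    obtain ⟨i, hi⟩ := h2 g hg
    obtain ⟨j, hj⟩ := h4 _ hi
    refine ⟨x ^ j * y ^ i, H.mul_mem (H.pow_mem hxH j) (H.pow_mem hyH i), _, hj, ?_⟩
    rw [hcomm _ (H.mul_mem (H.pow_mem hxH j) (H.pow_mem hyH i)) _ hj]
    group
  have hHD : H ⊓ D ≤ Subgroup.center P := by
    intro t ht
    obtain ⟨htH, htD⟩ := Subgroup.mem_inf.mp ht
    apply hCZ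
    refine Subgroup.mem_inf.mpr ⟨hHC htH, ?_⟩
    rw [Subgroup.mem_centralizer_iff]
    intro g hg
    obtain ⟨h, hh, d, hd, rfl⟩ := hgen g hg
    have e1 : h * t = t * h := hcomm h hh t htD
    have e2 : t * d = d * t := hcomm t htH d hd
    calc h * d * t = h * (d * t) := mul_assoc _ _ _
      _ = h * (t * d) := by rw [e2]
      _ = (h * t) * d := (mul_assoc _ _ _).symm
      _ = t * h * d := by rw [e1]
      _ = t * (h * d) := mul_assoc _ _ _
  refine ⟨hZD, ?_, ?_, hHC, hgen, hcomm, hHD, ?_⟩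
  · intro t ht
    obtain ⟨htD, htc⟩ := Subgroup.mem_inf.mp ht
    apply hCZ
    refine Subgroup.mem_inf.mpr ⟨hDC htD, ?_⟩
    rw [Subgroup.mem_centralizer_iff]
    intro g hg
    obtain ⟨h, hh, d, hd, rfl⟩ := hgen g hg
    have e1 : h * t = t * h := hcomm h hh t htD
    have e2 : d * t = t * d := (Subgroup.mem_centralizer_iff.mp htc) d hd
    calc h * d * t = h * (d * t) := mul_assoc _ _ _
      _ = h * (t * d) := by rw [e2]
      _ = (h * t) * d := (mul_assoc _ _ _).symm
      _ = t * h * d := by rw [e1]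
      _ = t * (h * d) := mul_assoc _ _ _
  · rw [h1, h3]; ring
  · -- |H| ≥ p^3
    obtain ⟨k1, _⟩ := card_eq_mul_card_inf_centralizer hcl hZ H x y hyH hxy
    have hxH₁ : x ∈ H ⊓ Subgroup.centralizer {x} :=
      Subgroup.mem_inf.mpr ⟨hxH, Subgroup.mem_centralizer_singleton_iff.mpr rfl⟩
    obtain ⟨k2, _⟩ := card_eq_mul_card_inf_centralizer hcl hZ (H ⊓ Subgroup.centralizer {x}) y x hxH₁ hyx
    have hZH : Subgroup.center P ≤ H := by
      rw [center_eq_zpowers hZ ⁅x, y⁆ (hcl x y) hxy, Subgroup.zpowers_le]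
      rw [commutatorElement_def]
      exact H.mul_mem (H.mul_mem (H.mul_mem hxH hyH) (H.inv_mem hxH)) (H.inv_mem hyH)
    have hZle : Subgroup.center P ≤ H ⊓ Subgroup.centralizer {x} ⊓ Subgroup.centralizer {y} :=
      le_inf (le_inf hZH (center_le_centralizer_singleton x)) (center_le_centralizer_singleton y)
    have k3 := Subgroup.card_le_of_le hZle
    rw [hZ] at k3
    rw [k1, k2]
    calc p ^ 3 = p * (p * p) := by ring
      _ ≤ p * (p * _) := Nat.mul_le_mul_left _ (Nat.mul_le_mul_left _ k3)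

end Setting


/-- Pair isomorphism: two 2-generator groups with the same "Heisenberg-type" relations and
order at least `p^3` are isomorphic by an isomorphism matching the generators. -/
theorem exists_mulEquiv_pair [Finite P] [Finite P'] (p : ℕ) (hp : 0 < p)
    (x y : P) (x' y' : P')
    (hzx : Commute ⁅x, y⁆ x) (hzy : Commute ⁅x, y⁆ y)
    (hzx' : Commute ⁅x', y'⁆ x') (hzy' : Commute ⁅x', y'⁆ y')
    (hzp : ⁅x, y⁆ ^ p = 1) (hzp' : ⁅x', y'⁆ ^ p = 1) (a b : ℕ)
    (hxa : x ^ p = ⁅x, y⁆ ^ a) (hxa' : x' ^ p = ⁅x', y'⁆ ^ a)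
    (hyb : y ^ p = ⁅x, y⁆ ^ b) (hyb' : y' ^ p = ⁅x', y'⁆ ^ b)
    (hc : p ^ 3 ≤ Nat.card (Subgroup.closure ({x, y} : Set P)))
    (hc' : p ^ 3 ≤ Nat.card (Subgroup.closure ({x', y'} : Set P'))) :
    ∃ α : Subgroup.closure ({x, y} : Set P) ≃* Subgroup.closure ({x', y'} : Set P'),
      (α ⟨x, Subgroup.subset_closure (by simp)⟩ : P') = x' ∧
      (α ⟨y, Subgroup.subset_closure (by simp)⟩ : P') = y' := by
  set X : P × P' := (x, x') with hX
  set Y : P × P' := (y, y') with hY
  have hXY : ⁅X, Y⁆ = (⁅x, y⁆, ⁅x', y'⁆) := rfl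
  have hF : Nat.card (Subgroup.closure ({X, Y} : Set (P × P'))) ≤ p ^ 3 := by
    apply card_closure_pair_le X Y p hp
    · rw [hXY]; exact Prod.ext hzx.eq hzx'.eq
    · rw [hXY]; exact Prod.ext hzy.eq hzy'.eq
    · rw [hXY]; exact Prod.ext hzp hzp'
    · rw [hXY]
      refine Subgroup.mem_zpowers_iff.mpr ⟨a, ?_⟩
      rw [zpow_natCast]
      exact Prod.ext hxa.symm hxa'.symm
    · rw [hXY]
      refine Subgroup.mem_zpowers_iff.mpr ⟨b, ?_⟩
      rw [zpow_natCast]
      exact Prod.ext hyb.symm hyb'.symm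
  have h1 : (Subgroup.closure ({X, Y} : Set (P × P'))).map (MonoidHom.fst P P')
      = Subgroup.closure ({x, y} : Set P) := by
    rw [MonoidHom.map_closure, Set.image_pair]; rfl
  have h2 : (Subgroup.closure ({X, Y} : Set (P × P'))).map (MonoidHom.snd P P')
      = Subgroup.closure ({x', y'} : Set P') := by
    rw [MonoidHom.map_closure, Set.image_pair]; rfl
  obtain ⟨α, hα⟩ := exists_mulEquiv_of_graph _ _ _ h1 h2 (hF.trans hc) (hF.trans hc')
  refine ⟨α, ?_, ?_⟩
  · rw [hα x x' (Subgroup.subset_closure (Or.inl rfl)) _ (Subgroup.subset_closure (by simp))]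
  · rw [hα y y' (Subgroup.subset_closure (Or.inr rfl)) _ (Subgroup.subset_closure (by simp))]

section Main

variable {P : Type u} {P' : Type v} [Group P] [Group P']

/-- two homs from subgroups agreeing at `z` agree on `zpowers z`. -/
theorem agree_on_zpowers {A B : Subgroup P} (f : A →* P') (g : B →* P') (z : P) (hzA : z ∈ A)
    (hzB : z ∈ B) (h : f ⟨z, hzA⟩ = g ⟨z, hzB⟩) (t : P) (ht : t ∈ Subgroup.zpowers z)
    (htA : t ∈ A) (htB : t ∈ B) : f ⟨t, htA⟩ = g ⟨t, htB⟩ := by
  obtain ⟨k, rfl⟩ := Subgroup.mem_zpowers_iff.mp ht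
  have e1 : (⟨z ^ k, htA⟩ : A) = ⟨z, hzA⟩ ^ k := Subtype.ext (by rw [Subgroup.coe_zpow])
  have e2 : (⟨z ^ k, htB⟩ : B) = ⟨z, hzB⟩ ^ k := Subtype.ext (by rw [Subgroup.coe_zpow])
  rw [e1, e2, map_zpow, map_zpow, h]

variable [Finite P] [Finite P'] {p : ℕ} [Fact p.Prime]

/-- In a non-central member of the class, some pair has commutator the given central generator. -/
theorem exists_pair (hcl : ∀ a b : P, ⁅a, b⁆ ∈ Subgroup.center P)
    (hZ : Nat.card (Subgroup.center P) = p) (z : P) (hz : z ∈ Subgroup.center P)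
    (C : Subgroup P) (hCZ : C ⊓ Subgroup.centralizer (C : Set P) ≤ Subgroup.center P)
    (x : P) (hxC : x ∈ C) (hxZ : x ∉ Subgroup.center P) :
    ∃ y ∈ C, ⁅x, y⁆ = z := by
  have hxc : x ∉ Subgroup.centralizer (C : Set P) :=
    fun h => hxZ (hCZ (Subgroup.mem_inf.mpr ⟨hxC, h⟩))
  rw [Subgroup.mem_centralizer_iff] at hxc
  push Not at hxc
  obtain ⟨y₀, hy₀C, hy₀x⟩ := hxc
  have hw : ⁅x, y₀⁆ ≠ 1 := by
    rw [Ne, commutatorElement_eq_one_iff_mul_comm]
    exact fun h => hy₀x h.symm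
  have h1 := center_eq_zpowers hZ ⁅x, y₀⁆ (hcl x y₀) hw
  rw [h1] at hz
  obtain ⟨k, hk⟩ := Subgroup.mem_zpowers_iff.mp hz
  refine ⟨y₀ ^ k, C.zpow_mem hy₀C k, ?_⟩
  have h2 : commHom hcl x (y₀ ^ k) = (commHom hcl x y₀) ^ k := map_zpow _ _ _
  have h3 := congrArg Subtype.val h2
  rw [commHom_apply, Subgroup.coe_zpow, commHom_apply] at h3
  rw [h3, hk]

/-- Base case: the centres, both of order `p`, matched at generators. -/
theorem exists_mulEquiv_center (hZ : Nat.card (Subgroup.center P) = p)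
    (hZ' : Nat.card (Subgroup.center P') = p) (z : P) (hz : z ∈ Subgroup.center P) (hz1 : z ≠ 1)
    (z' : P') (hz' : z' ∈ Subgroup.center P') (hz1' : z' ≠ 1)
    (C : Subgroup P) (C' : Subgroup P') (hC : C = Subgroup.center P)
    (hC' : C' = Subgroup.center P') (hzC : z ∈ C) :
    ∃ φ : C ≃* C', (φ ⟨z, hzC⟩ : P') = z' := by
  have hp : p.Prime := Fact.out
  have e := center_eq_zpowers hZ z hz hz1
  have e' := center_eq_zpowers hZ' z' hz' hz1'
  have hzp : z ^ p = 1 := by
    have : (⟨z, hz⟩ : Subgroup.center P) ^ Nat.card (Subgroup.center P) = 1 := pow_card_eq_one'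
    rw [hZ] at this
    exact congrArg Subtype.val this
  have hzp' : z' ^ p = 1 := by
    have : (⟨z', hz'⟩ : Subgroup.center P') ^ Nat.card (Subgroup.center P') = 1 := pow_card_eq_one'
    rw [hZ'] at this
    exact congrArg Subtype.val this
  have hF : Nat.card (Subgroup.zpowers ((z, z') : P × P')) ≤ p := by
    rw [Nat.card_zpowers]
    apply Nat.le_of_dvd hp.pos
    apply orderOf_dvd_of_pow_eq_one
    exact Prod.ext hzp hzp'
  have h1 : (Subgroup.zpowers ((z, z') : P × P')).map (MonoidHom.fst P P') = C := by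
    rw [MonoidHom.map_zpowers, hC, e]; rfl
  have h2 : (Subgroup.zpowers ((z, z') : P × P')).map (MonoidHom.snd P P') = C' := by
    rw [MonoidHom.map_zpowers, hC', e']; rfl
  have hcC : Nat.card C = p := by rw [hC, hZ]
  have hcC' : Nat.card C' = p := by rw [hC', hZ']
  obtain ⟨α, hα⟩ := exists_mulEquiv_of_graph C C' _ h1 h2 (hF.trans hcC.ge) (hF.trans hcC'.ge)
  refine ⟨α, ?_⟩
  rw [hα z z' (Subgroup.mem_zpowers _) hzC (by rw [hC']; exact hz')]

/-- Main theorem, exponent `p`. -/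
theorem exists_mulEquiv_exp (hcl : ∀ a b : P, ⁅a, b⁆ ∈ Subgroup.center P)
    (hZ : Nat.card (Subgroup.center P) = p) (hexp : ∀ g : P, g ^ p = 1)
    (hcl' : ∀ a b : P', ⁅a, b⁆ ∈ Subgroup.center P')
    (hZ' : Nat.card (Subgroup.center P') = p) (hexp' : ∀ g : P', g ^ p = 1)
    (z : P) (hz : z ∈ Subgroup.center P) (hz1 : z ≠ 1)
    (z' : P') (hz' : z' ∈ Subgroup.center P') (hz1' : z' ≠ 1) :
    ∀ (n : ℕ) (C : Subgroup P) (C' : Subgroup P'), Nat.card C = n → Nat.card C' = n →
      ∀ (hZC : Subgroup.center P ≤ C), C ⊓ Subgroup.centralizer (C : Set P) ≤ Subgroup.center P →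
      Subgroup.center P' ≤ C' → C' ⊓ Subgroup.centralizer (C' : Set P') ≤ Subgroup.center P' →
      ∃ φ : C ≃* C', (φ ⟨z, hZC hz⟩ : P') = z' := by
  have hp : p.Prime := Fact.out
  intro n
  induction n using Nat.strong_induction_on with
  | _ n ih =>
    intro C C' hCn hCn' hZC hCZ hZC' hCZ'
    by_cases hCle : C ≤ Subgroup.center P
    · have hC : C = Subgroup.center P := le_antisymm hCle hZC
      have hC' : C' = Subgroup.center P' := by
        symm
        apply Subgroup.eq_of_le_of_card_ge hZC'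
        rw [hCn', ← hCn, hC, hZ, hZ']
      exact exists_mulEquiv_center hZ hZ' z hz hz1 z' hz' hz1' C C' hC hC' (hZC hz)
    · have hCle' : ¬ C' ≤ Subgroup.center P' := by
        intro h
        apply hCle
        have hC' : C' = Subgroup.center P' := le_antisymm h hZC'
        have : Subgroup.center P = C := by
          apply Subgroup.eq_of_le_of_card_ge hZC
          rw [hCn, ← hCn', hC', hZ, hZ']
        rw [← this]
      obtain ⟨x, hxC, hxZ⟩ := SetLike.not_le_iff_exists.mp hCle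
      obtain ⟨y, hyC, hxy⟩ := exists_pair hcl hZ z hz C hCZ x hxC hxZ
      obtain ⟨x', hxC', hxZ'⟩ := SetLike.not_le_iff_exists.mp hCle'
      obtain ⟨y', hyC', hxy'⟩ := exists_pair hcl' hZ' z' hz' C' hCZ' x' hxC' hxZ'
      have hxy1 : ⁅x, y⁆ ≠ 1 := by rw [hxy]; exact hz1
      have hxy1' : ⁅x', y'⁆ ≠ 1 := by rw [hxy']; exact hz1'
      obtain ⟨d1, d2, d3, d4, d5, d6, d7, d8⟩ := decomp hcl hZ C hZC hCZ x y hxC hyC hxy1
      obtain ⟨d1', d2', d3', d4', d5', d6', d7', d8'⟩ :=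
        decomp hcl' hZ' C' hZC' hCZ' x' y' hxC' hyC' hxy1'
      set D : Subgroup P := C ⊓ Subgroup.centralizer {x} ⊓ Subgroup.centralizer {y} with hD
      set D' : Subgroup P' := C' ⊓ Subgroup.centralizer {x'} ⊓ Subgroup.centralizer {y'} with hD'
      set H : Subgroup P := Subgroup.closure ({x, y} : Set P) with hH
      set H' : Subgroup P' := Subgroup.closure ({x', y'} : Set P') with hH'
      have hp2 : 0 < p ^ 2 := pow_pos hp.pos 2
      have hDD' : Nat.card D' = Nat.card D := by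
        have : p ^ 2 * Nat.card D' = p ^ 2 * Nat.card D := by rw [← d3, ← d3', hCn, hCn']
        exact Nat.eq_of_mul_eq_mul_left hp2 this
      have hDlt : Nat.card D < n := by
        rw [← hCn, d3]
        have h0 : 0 < Nat.card D := Nat.card_pos
        have : 1 < p ^ 2 := Nat.one_lt_pow (by norm_num) hp.one_lt
        nlinarith
      obtain ⟨γ, hγ⟩ := ih _ hDlt D D' rfl hDD' d1 d2 d1' d2'
      -- the pair isomorphism
      have czx : ∀ g : P, Commute z g := fun g => ((Subgroup.mem_center_iff.mp hz) g).symm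
      have czx' : ∀ g : P', Commute z' g := fun g => ((Subgroup.mem_center_iff.mp hz') g).symm
      obtain ⟨α, hαx, hαy⟩ := exists_mulEquiv_pair p hp.pos x y x' y'
        (by rw [hxy]; exact czx x) (by rw [hxy]; exact czx y)
        (by rw [hxy']; exact czx' x') (by rw [hxy']; exact czx' y')
        (hexp _) (hexp' _) 0 0 (by rw [pow_zero]; exact hexp x) (by rw [pow_zero]; exact hexp' x')
        (by rw [pow_zero]; exact hexp y) (by rw [pow_zero]; exact hexp' y') d8 d8'
      have hxH : x ∈ H := Subgroup.subset_closure (by simp)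
      have hyH : y ∈ H := Subgroup.subset_closure (by simp)
      have hzH : z ∈ H := by
        rw [← hxy, commutatorElement_def]
        exact H.mul_mem (H.mul_mem (H.mul_mem hxH hyH) (H.inv_mem hxH)) (H.inv_mem hyH)
      have hαz : (α ⟨z, hzH⟩ : P') = z' := by
        have e1 : (⟨z, hzH⟩ : H) = ⁅(⟨x, hxH⟩ : H), ⟨y, hyH⟩⁆ := by
          apply Subtype.ext
          rw [commutatorElement_def]
          simp only [Subgroup.coe_mul, Subgroup.coe_inv]
          rw [← commutatorElement_def, hxy]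
        rw [e1, map_commutatorElement, commutatorElement_def]
        simp only [Subgroup.coe_mul, Subgroup.coe_inv]
        rw [hαx, hαy, ← commutatorElement_def, hxy']
      have hag : ∀ (t : P) (hH : t ∈ H) (hD : t ∈ D), (α ⟨t, hH⟩ : P') = γ ⟨t, hD⟩ := by
        intro t htH htD
        have ht : t ∈ Subgroup.zpowers z := by
          rw [← center_eq_zpowers hZ z hz hz1]
          exact d7 (Subgroup.mem_inf.mpr ⟨htH, htD⟩)
        exact agree_on_zpowers ((Subgroup.subtype H').comp α.toMonoidHom)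
          ((Subgroup.subtype D').comp γ.toMonoidHom) z hzH (d1 hz) (by
            show (α ⟨z, hzH⟩ : P') = γ ⟨z, d1 hz⟩
            rw [hαz, hγ]) t ht htH htD
      have hDC : D ≤ C := fun d hd => (Subgroup.mem_inf.mp (Subgroup.mem_inf.mp hd).1).1
      have hDC' : D' ≤ C' := fun d hd => (Subgroup.mem_inf.mp (Subgroup.mem_inf.mp hd).1).1
      obtain ⟨φ, hφ1, _⟩ := exists_mulEquiv_glue C H D C' H' D' d4 hDC d4' hDC' d6 d6' d5 d5' α γ hag
        (by rw [hCn, hCn'])
      refine ⟨φ, ?_⟩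
      rw [← hαz, ← hφ1 z hzH]

end Main

end ExtraspecialIso

end Cfsg.Agent.Lib.Helper1
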