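import Mathlib
import Cfsg.Prelude.Def_Transfer
import Cfsg.Agent.Lib.Helper1.ExtraspecialIso
import Cfsg.Agent.Lib.Helper1.Frattini
import Cfsg.Agent.Lib.Helper1.ExtraspecialOrder

/-!
# Helper1 library: extraspecial 2-groups

The setting `Setting z`: central commutators, centre of order 2 generated by `z`, central squares.
Counting solutions of `g^2 = 1` (`invCount`), the recursion `n(C) = 2 n(D) + |D|` when a dihedral
pair is split off, and the classification: equal order and equal count imply isomorphic.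
-/

set_option autoImplicit false
set_option linter.unusedSectionVars false

open scoped commutatorElement

namespace Cfsg.Agent.Lib.Helper1

namespace ExtraspecialTwo

open ExtraspecialIso

universe u v

section Basic

variable {P : Type u} [Group P]

/-- `(x y)^2 = [y,x] x^2 y^2` when `[y,x]` commutes with `x`. -/
theorem mul_sq_eq (x y : P) (h : Commute ⁅y, x⁆ x) : (x * y) ^ 2 = ⁅y, x⁆ * x ^ 2 * y ^ 2 := by
  have h1 : y * x = ⁅y, x⁆ * x * y := by rw [commutatorElement_def]; group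
  calc (x * y) ^ 2 = x * (y * x) * y := by rw [pow_two]; simp only [mul_assoc]
    _ = x * (⁅y, x⁆ * x * y) * y := by rw [h1]
    _ = (x * ⁅y, x⁆) * x * y * y := by simp only [mul_assoc]
    _ = (⁅y, x⁆ * x) * x * y * y := by rw [h.eq]
    _ = ⁅y, x⁆ * x ^ 2 * y ^ 2 := by rw [pow_two, pow_two]; simp only [mul_assoc]

variable [Finite P]

/-- The setting: central commutators, centre of order 2 generated by `z`, central squares. -/
structure Setting (z : P) : Prop where
  hcl : ∀ a b : P, ⁅a, b⁆ ∈ Subgroup.center P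
  hZ : Nat.card (Subgroup.center P) = 2
  hsq : ∀ g : P, g ^ 2 ∈ Subgroup.center P
  hz : z ∈ Subgroup.center P
  hz1 : z ≠ 1

variable {z : P}

theorem Setting.z_sq (S : Setting z) : z ^ 2 = 1 := by
  have : (⟨z, S.hz⟩ : Subgroup.center P) ^ Nat.card (Subgroup.center P) = 1 := pow_card_eq_one'
  rw [S.hZ] at this
  exact congrArg Subtype.val this

theorem Setting.z_mul_z (S : Setting z) : z * z = 1 := by rw [← pow_two, S.z_sq]

theorem Setting.z_inv (S : Setting z) : z⁻¹ = z := inv_eq_of_mul_eq_one_left S.z_mul_z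

theorem Setting.comm (S : Setting z) (g : P) : Commute z g :=
  ((Subgroup.mem_center_iff.mp S.hz) g).symm

theorem Setting.center_cases (S : Setting z) {t : P} (ht : t ∈ Subgroup.center P) :
    t = 1 ∨ t = z := by
  have : Fact (Nat.Prime 2) := ⟨Nat.prime_two⟩
  rw [center_eq_zpowers S.hZ z S.hz S.hz1, ← mem_powers_iff_mem_zpowers] at ht
  obtain ⟨k, rfl⟩ := ht
  show z ^ k = 1 ∨ z ^ k = z
  rw [pow_eq_pow_mod k S.z_sq]
  rcases Nat.mod_two_eq_zero_or_one k with h | h
  · left; rw [h, pow_zero]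
  · right; rw [h, pow_one]

theorem Setting.sq_cases (S : Setting z) (g : P) : g ^ 2 = 1 ∨ g ^ 2 = z := S.center_cases (S.hsq g)

theorem Setting.comm_cases (S : Setting z) (a b : P) : ⁅a, b⁆ = 1 ∨ ⁅a, b⁆ = z :=
  S.center_cases (S.hcl a b)

theorem Setting.comm_symm (S : Setting z) {a b : P} (h : ⁅a, b⁆ = z) : ⁅b, a⁆ = z := by
  rw [← commutatorElement_inv, h, S.z_inv]

theorem Setting.mul_sq (S : Setting z) (x y : P) : (x * y) ^ 2 = ⁅y, x⁆ * x ^ 2 * y ^ 2 :=
  mul_sq_eq x y ((Subgroup.mem_center_iff.mp (S.hcl y x) x).symm)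

/-- Lemma A: a non-central involution of `C` is part of a dihedral pair. -/
theorem Setting.exists_dihedral_pair (S : Setting z) (C : Subgroup P)
    (hCZ : C ⊓ Subgroup.centralizer (C : Set P) ≤ Subgroup.center P)
    (x : P) (hxC : x ∈ C) (hx2 : x ^ 2 = 1) (hxZ : x ∉ Subgroup.center P) :
    ∃ y ∈ C, y ^ 2 = 1 ∧ ⁅x, y⁆ = z := by
  have : Fact (Nat.Prime 2) := ⟨Nat.prime_two⟩
  obtain ⟨y₀, hy₀C, hxy₀⟩ := exists_pair S.hcl S.hZ z S.hz C hCZ x hxC hxZ
  rcases S.sq_cases y₀ with h | h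
  · exact ⟨y₀, hy₀C, h, hxy₀⟩
  · refine ⟨x * y₀, C.mul_mem hxC hy₀C, ?_, ?_⟩
    · rw [S.mul_sq, S.comm_symm hxy₀, hx2, h, mul_one, S.z_mul_z]
    · have h2 : commHom S.hcl x (x * y₀) = commHom S.hcl x x * commHom S.hcl x y₀ := map_mul _ _ _
      have h3 := congrArg Subtype.val h2
      rw [commHom_apply, Subgroup.coe_mul, commHom_apply, commHom_apply, commutatorElement_self,
        one_mul] at h3
      rw [h3, hxy₀]

/-- Lemma B: a member of the class of order `> 8` contains a non-central involution. -/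
theorem Setting.exists_noncentral_involution (S : Setting z) (C : Subgroup P)
    (hZC : Subgroup.center P ≤ C)
    (hCZ : C ⊓ Subgroup.centralizer (C : Set P) ≤ Subgroup.center P) (hcard : 8 < Nat.card C) :
    ∃ t ∈ C, t ^ 2 = 1 ∧ t ∉ Subgroup.center P := by
  have : Fact (Nat.Prime 2) := ⟨Nat.prime_two⟩
  have hCle : ¬ C ≤ Subgroup.center P := by
    intro h
    have := Subgroup.card_le_of_le h
    rw [S.hZ] at this
    omega
  obtain ⟨a, haC, haZ⟩ := SetLike.not_le_iff_exists.mp hCle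
  obtain ⟨b, hbC, hab⟩ := exists_pair S.hcl S.hZ z S.hz C hCZ a haC haZ
  have hab1 : ⁅a, b⁆ ≠ 1 := by rw [hab]; exact S.hz1
  obtain ⟨d1, d2, d3, d4, d5, d6, d7, d8⟩ := decomp S.hcl S.hZ C hZC hCZ a b haC hbC hab1
  set D : Subgroup P := C ⊓ Subgroup.centralizer {a} ⊓ Subgroup.centralizer {b} with hD
  rcases S.sq_cases a with ha2 | ha2
  · exact ⟨a, haC, ha2, haZ⟩
  · have hDle : ¬ D ≤ Subgroup.center P := by
      intro h
      have := Subgroup.card_le_of_le h
      rw [S.hZ] at this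
      rw [d3] at hcard
      omega
    obtain ⟨c, hcD, hcZ⟩ := SetLike.not_le_iff_exists.mp hDle
    have hcC : c ∈ C := (Subgroup.mem_inf.mp (Subgroup.mem_inf.mp hcD).1).1
    rcases S.sq_cases c with hc2 | hc2
    · exact ⟨c, hcC, hc2, hcZ⟩
    · have hac : a * c = c * a := d6 a (Subgroup.subset_closure (by simp)) c hcD
      have hbc : b * c = c * b := d6 b (Subgroup.subset_closure (by simp)) c hcD
      refine ⟨a * c, C.mul_mem haC hcC, ?_, ?_⟩
      · have : ⁅c, a⁆ = 1 := by
          rw [commutatorElement_eq_one_iff_mul_comm]; exact hac.symm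
        rw [S.mul_sq, this, ha2, hc2, one_mul, S.z_mul_z]
      · intro hacZ
        apply hab1
        rw [commutatorElement_eq_one_iff_mul_comm]
        have h1 : a * c * b = b * (a * c) := (Subgroup.mem_center_iff.mp hacZ b).symm
        have h2 : a * b * c = b * a * c := by
          calc a * b * c = a * (b * c) := mul_assoc _ _ _
            _ = a * (c * b) := by rw [hbc]
            _ = a * c * b := (mul_assoc _ _ _).symm
            _ = b * (a * c) := h1
            _ = b * a * c := (mul_assoc _ _ _).symm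
        exact mul_right_cancel h2

end Basic

section Count

variable {P : Type u} [Group P] [Finite P]

/-- Splitting a count over the two cosets of an index-two subgroup. -/
theorem ncard_split (K K₁ : Subgroup P) (hle : K₁ ≤ K) (t : P) (htK : t ∈ K) (htK₁ : t ∉ K₁)
    (hcos : ∀ g ∈ K, g ∈ K₁ ∨ g * t⁻¹ ∈ K₁) (Q : P → Prop) :
    {g : P | g ∈ K ∧ Q g}.ncard =
      {k : P | k ∈ K₁ ∧ Q k}.ncard + {k : P | k ∈ K₁ ∧ Q (k * t)}.ncard := by
  have h1 : {g : P | g ∈ K ∧ Q g} =
      {k : P | k ∈ K₁ ∧ Q k} ∪ (fun k => k * t) '' {k : P | k ∈ K₁ ∧ Q (k * t)} := by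
    ext g
    simp only [Set.mem_ofPred_eq, Set.mem_union, Set.mem_image]
    constructor
    · rintro ⟨hgK, hQ⟩
      rcases hcos g hgK with h | h
      · exact Or.inl ⟨h, hQ⟩
      · refine Or.inr ⟨g * t⁻¹, ⟨h, ?_⟩, ?_⟩
        · rw [inv_mul_cancel_right]; exact hQ
        · rw [inv_mul_cancel_right]
    · rintro (⟨hk, hQ⟩ | ⟨k, ⟨hk, hQ⟩, rfl⟩)
      · exact ⟨hle hk, hQ⟩
      · exact ⟨K.mul_mem (hle hk) htK, hQ⟩
  have h2 : Disjoint {k : P | k ∈ K₁ ∧ Q k} ((fun k => k * t) '' {k : P | k ∈ K₁ ∧ Q (k * t)}) := by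
    rw [Set.disjoint_left]
    rintro g ⟨hg, _⟩ ⟨k, ⟨hk, _⟩, rfl⟩
    apply htK₁
    have : t = k⁻¹ * (k * t) := by group
    rw [this]
    exact K₁.mul_mem (K₁.inv_mem hk) hg
  rw [h1, Set.ncard_union_eq h2 (Set.toFinite _) (Set.toFinite _),
    Set.ncard_image_of_injective _ (mul_left_injective t)]

end Count

section Count2

variable {P : Type u} [Group P] [Finite P] {z : P}

/-- number of solutions of `g^2 = 1` in `C`. -/
noncomputable def invCount (C : Subgroup P) : ℕ := {g : P | g ∈ C ∧ g ^ 2 = 1}.ncard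

/-- The coset condition for `C_K(a)` in `K`. -/
theorem Setting.coset_two (S : Setting z) (K : Subgroup P) (hZK : Subgroup.center P ≤ K)
    (a b : P) (hb : b ∈ K) (hab : ⁅a, b⁆ ≠ 1) :
    ∀ g ∈ K, g ∈ K ⊓ Subgroup.centralizer {a} ∨ g * b⁻¹ ∈ K ⊓ Subgroup.centralizer {a} := by
  have : Fact (Nat.Prime 2) := ⟨Nat.prime_two⟩
  obtain ⟨_, h2⟩ := card_eq_mul_card_inf_centralizer S.hcl S.hZ K a b hb hab
  intro g hg
  obtain ⟨i, hi⟩ := h2 g hg
  set K₁ : Subgroup P := K ⊓ Subgroup.centralizer {a} with hK₁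
  have hb2 : b ^ 2 ∈ K₁ :=
    Subgroup.mem_inf.mpr ⟨hZK (S.hsq b), center_le_centralizer_singleton a (S.hsq b)⟩
  have hbi : b ^ i = (b ^ 2) ^ (i / 2) * b ^ (i % 2) := by
    rw [← pow_mul, ← pow_add, Nat.div_add_mod]
  rcases Nat.mod_two_eq_zero_or_one i with h | h
  · left
    rw [h, pow_zero, mul_one] at hbi
    have h3 : b ^ i ∈ K₁ := by rw [hbi]; exact K₁.pow_mem hb2 _
    have : g = g * (b ^ i)⁻¹ * b ^ i := by group
    rw [this]
    exact K₁.mul_mem hi h3
  · right
    rw [h, pow_one] at hbi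
    have : g * b⁻¹ = g * (b ^ i)⁻¹ * (b ^ 2) ^ (i / 2) := by rw [hbi]; group
    rw [this]
    exact K₁.mul_mem hi (K₁.pow_mem hb2 _)

/-- Lemma C: splitting off a dihedral pair, `n(C) = 2 n(D) + |D|`. -/
theorem Setting.invCount_eq (S : Setting z) (C : Subgroup P) (hZC : Subgroup.center P ≤ C)
    (x y : P) (hxC : x ∈ C) (hyC : y ∈ C) (hx2 : x ^ 2 = 1) (hy2 : y ^ 2 = 1) (hxy : ⁅x, y⁆ = z) :
    invCount C = 2 * invCount (C ⊓ Subgroup.centralizer {x} ⊓ Subgroup.centralizer {y}) +
      Nat.card (C ⊓ Subgroup.centralizer {x} ⊓ Subgroup.centralizer {y} : Subgroup P) := by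
  have hxy1 : ⁅x, y⁆ ≠ 1 := by rw [hxy]; exact S.hz1
  have hyx : ⁅y, x⁆ = z := S.comm_symm hxy
  have hyx1 : ⁅y, x⁆ ≠ 1 := by rw [hyx]; exact S.hz1
  set C₁ : Subgroup P := C ⊓ Subgroup.centralizer {x} with hC₁
  set D : Subgroup P := C₁ ⊓ Subgroup.centralizer {y} with hD
  have hxC₁ : x ∈ C₁ := Subgroup.mem_inf.mpr ⟨hxC, Subgroup.mem_centralizer_singleton_iff.mpr rfl⟩
  have hyC₁ : y ∉ C₁ := by
    intro h
    apply hxy1
    rw [commutatorElement_eq_one_iff_mul_comm]
    exact (Subgroup.mem_centralizer_singleton_iff.mp (Subgroup.mem_inf.mp h).2).symm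
  have hxD : x ∉ D := by
    intro h
    apply hxy1
    rw [commutatorElement_eq_one_iff_mul_comm]
    exact Subgroup.mem_centralizer_singleton_iff.mp (Subgroup.mem_inf.mp h).2
  have hZC₁ : Subgroup.center P ≤ C₁ := le_inf hZC (center_le_centralizer_singleton x)
  have hDx : ∀ d ∈ D, Commute d x := fun d hd =>
    (Subgroup.mem_centralizer_singleton_iff.mp (Subgroup.mem_inf.mp (Subgroup.mem_inf.mp hd).1).2)
  have hDy : ∀ d ∈ D, Commute d y := fun d hd =>
    (Subgroup.mem_centralizer_singleton_iff.mp (Subgroup.mem_inf.mp hd).2)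
  -- squares
  have hsq_x : ∀ d ∈ D, (d * x) ^ 2 = d ^ 2 := by
    intro d hd
    rw [(hDx d hd).mul_pow, hx2, mul_one]
  have hsq_y : ∀ d ∈ D, (d * y) ^ 2 = d ^ 2 := by
    intro d hd
    rw [(hDy d hd).mul_pow, hy2, mul_one]
  have hxy2 : (x * y) ^ 2 = z := by
    rw [S.mul_sq, hyx, hx2, hy2, mul_one, mul_one]
  have hsq_xy : ∀ d ∈ D, (d * x * y) ^ 2 = d ^ 2 * z := by
    intro d hd
    rw [mul_assoc, ((hDx d hd).mul_right (hDy d hd)).mul_pow, hxy2]
  -- the three splits
  have s1 := ncard_split C C₁ inf_le_left y hyC hyC₁ (S.coset_two C hZC x y hyC hxy1)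
    (fun g => g ^ 2 = 1)
  have s2 := ncard_split C₁ D inf_le_left x hxC₁ hxD (S.coset_two C₁ hZC₁ y x hxC₁ hyx1)
    (fun g => g ^ 2 = 1)
  have s3 := ncard_split C₁ D inf_le_left x hxC₁ hxD (S.coset_two C₁ hZC₁ y x hxC₁ hyx1)
    (fun g => (g * y) ^ 2 = 1)
  have e1 : {k : P | k ∈ D ∧ (k * x) ^ 2 = 1} = {g : P | g ∈ D ∧ g ^ 2 = 1} := by
    ext d
    simp only [Set.mem_ofPred_eq]
    constructor
    · rintro ⟨hd, h⟩; exact ⟨hd, by rw [← hsq_x d hd]; exact h⟩
    · rintro ⟨hd, h⟩; exact ⟨hd, by rw [hsq_x d hd]; exact h⟩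
  have e2 : {k : P | k ∈ D ∧ (k * y) ^ 2 = 1} = {g : P | g ∈ D ∧ g ^ 2 = 1} := by
    ext d
    simp only [Set.mem_ofPred_eq]
    constructor
    · rintro ⟨hd, h⟩; exact ⟨hd, by rw [← hsq_y d hd]; exact h⟩
    · rintro ⟨hd, h⟩; exact ⟨hd, by rw [hsq_y d hd]; exact h⟩
  have e3 : {k : P | k ∈ D ∧ (k * x * y) ^ 2 = 1} = {g : P | g ∈ D ∧ g ^ 2 = z} := by
    ext d
    simp only [Set.mem_ofPred_eq]
    constructor
    · rintro ⟨hd, h⟩
      refine ⟨hd, ?_⟩
      rw [hsq_xy d hd] at h
      rw [eq_inv_of_mul_eq_one_left h, S.z_inv]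
    · rintro ⟨hd, h⟩
      refine ⟨hd, ?_⟩
      rw [hsq_xy d hd, h, S.z_mul_z]
  have e4 : {g : P | g ∈ D ∧ g ^ 2 = 1}.ncard + {g : P | g ∈ D ∧ g ^ 2 = z}.ncard = Nat.card D := by
    have hdisj : Disjoint {g : P | g ∈ D ∧ g ^ 2 = 1} {g : P | g ∈ D ∧ g ^ 2 = z} := by
      rw [Set.disjoint_left]
      rintro g ⟨_, h1⟩ ⟨_, h2⟩
      exact S.hz1 (h2.symm.trans h1)
    have hun : {g : P | g ∈ D ∧ g ^ 2 = 1} ∪ {g : P | g ∈ D ∧ g ^ 2 = z} = (D : Set P) := by
      ext g
      simp only [Set.mem_union, Set.mem_ofPred_eq, SetLike.mem_coe]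
      constructor
      · rintro (⟨h, _⟩ | ⟨h, _⟩) <;> exact h
      · intro h
        rcases S.sq_cases g with h2 | h2
        · exact Or.inl ⟨h, h2⟩
        · exact Or.inr ⟨h, h2⟩
    rw [← Set.ncard_union_eq hdisj (Set.toFinite _) (Set.toFinite _), hun]
    exact (Nat.card_coe_set_eq _).symm
  beta_reduce at s1 s2 s3
  rw [e1] at s2
  rw [e2, e3] at s3
  unfold invCount
  rw [s1, s2, s3]
  omega

/-- Lemma D: a non-central member of the class without non-central involutions has order 8 and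
exactly two solutions of `g^2 = 1`; all its non-central elements square to `z`. -/
theorem Setting.quaternion_case (S : Setting z) (C : Subgroup P) (hZC : Subgroup.center P ≤ C)
    (hCZ : C ⊓ Subgroup.centralizer (C : Set P) ≤ Subgroup.center P)
    (hCle : ¬ C ≤ Subgroup.center P)
    (hno : ∀ t ∈ C, t ^ 2 = 1 → t ∈ Subgroup.center P) :
    Nat.card C = 8 ∧ invCount C = 2 ∧ ∀ g ∈ C, g ∉ Subgroup.center P → g ^ 2 = z := by
  have : Fact (Nat.Prime 2) := ⟨Nat.prime_two⟩
  refine ⟨?_, ?_, ?_⟩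
  · have h8 : ¬ 8 < Nat.card C := by
      intro h
      obtain ⟨t, htC, ht2, htZ⟩ := S.exists_noncentral_involution C hZC hCZ h
      exact htZ (hno t htC ht2)
    obtain ⟨a, haC, haZ⟩ := SetLike.not_le_iff_exists.mp hCle
    obtain ⟨b, hbC, hab⟩ := exists_pair S.hcl S.hZ z S.hz C hCZ a haC haZ
    have hab1 : ⁅a, b⁆ ≠ 1 := by rw [hab]; exact S.hz1
    obtain ⟨d1, _, d3, _⟩ := decomp S.hcl S.hZ C hZC hCZ a b haC hbC hab1
    have h2 := Subgroup.card_le_of_le d1
    rw [S.hZ] at h2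
    omega
  · unfold invCount
    have : {g : P | g ∈ C ∧ g ^ 2 = 1} = (Subgroup.center P : Set P) := by
      ext g
      simp only [Set.mem_ofPred_eq, SetLike.mem_coe]
      constructor
      · rintro ⟨h1, h2⟩; exact hno g h1 h2
      · intro h
        refine ⟨hZC h, ?_⟩
        rcases S.center_cases h with rfl | rfl
        · exact one_pow 2
        · exact S.z_sq
    rw [this, ← S.hZ]
    exact (Nat.card_coe_set_eq _).symm
  · intro g hgC hgZ
    rcases S.sq_cases g with h | h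
    · exact absurd (hno g hgC h) hgZ
    · exact h

end Count2

section Glue

variable {P : Type u} {P' : Type v} [Group P] [Group P'] [Finite P] [Finite P']
  {p : ℕ} [Fact p.Prime]

/-- The gluing step: matching pairs `(x, y)`, `(x', y')` with the same relations, and an
isomorphism of the centralizers `D ≃* D'` matching `z` and `z'`, give `C ≃* C'`. -/
theorem glue_step (hcl : ∀ a b : P, ⁅a, b⁆ ∈ Subgroup.center P)
    (hZ : Nat.card (Subgroup.center P) = p)
    (hcl' : ∀ a b : P', ⁅a, b⁆ ∈ Subgroup.center P')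
    (hZ' : Nat.card (Subgroup.center P') = p)
    (z : P) (hz : z ∈ Subgroup.center P) (hz1 : z ≠ 1)
    (z' : P') (hz' : z' ∈ Subgroup.center P') (hz1' : z' ≠ 1)
    (C : Subgroup P) (C' : Subgroup P') (hcard : Nat.card C = Nat.card C')
    (hZC : Subgroup.center P ≤ C)
    (hCZ : C ⊓ Subgroup.centralizer (C : Set P) ≤ Subgroup.center P)
    (hZC' : Subgroup.center P' ≤ C')
    (hCZ' : C' ⊓ Subgroup.centralizer (C' : Set P') ≤ Subgroup.center P')
    (x y : P) (x' y' : P') (hxC : x ∈ C) (hyC : y ∈ C) (hxC' : x' ∈ C') (hyC' : y' ∈ C')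
    (hxy : ⁅x, y⁆ = z) (hxy' : ⁅x', y'⁆ = z') (a b : ℕ)
    (hxa : x ^ p = z ^ a) (hxa' : x' ^ p = z' ^ a) (hyb : y ^ p = z ^ b) (hyb' : y' ^ p = z' ^ b)
    (γ : (C ⊓ Subgroup.centralizer {x} ⊓ Subgroup.centralizer {y} : Subgroup P) ≃*
      (C' ⊓ Subgroup.centralizer {x'} ⊓ Subgroup.centralizer {y'} : Subgroup P'))
    (hγ : ∀ hzD : z ∈ C ⊓ Subgroup.centralizer {x} ⊓ Subgroup.centralizer {y},
      (γ ⟨z, hzD⟩ : P') = z') :
    ∃ φ : C ≃* C', (φ ⟨z, hZC hz⟩ : P') = z' := by
  have hp : p.Prime := Fact.out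
  have hzp : z ^ p = 1 := by
    have : (⟨z, hz⟩ : Subgroup.center P) ^ Nat.card (Subgroup.center P) = 1 := pow_card_eq_one'
    rw [hZ] at this
    exact congrArg Subtype.val this
  have hzp' : z' ^ p = 1 := by
    have : (⟨z', hz'⟩ : Subgroup.center P') ^ Nat.card (Subgroup.center P') = 1 := pow_card_eq_one'
    rw [hZ'] at this
    exact congrArg Subtype.val this
  have hxy1 : ⁅x, y⁆ ≠ 1 := by rw [hxy]; exact hz1
  have hxy1' : ⁅x', y'⁆ ≠ 1 := by rw [hxy']; exact hz1'
  obtain ⟨d1, d2, d3, d4, d5, d6, d7, d8⟩ := decomp hcl hZ C hZC hCZ x y hxC hyC hxy1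
  obtain ⟨d1', d2', d3', d4', d5', d6', d7', d8'⟩ :=
    decomp hcl' hZ' C' hZC' hCZ' x' y' hxC' hyC' hxy1'
  set H : Subgroup P := Subgroup.closure ({x, y} : Set P) with hH
  set H' : Subgroup P' := Subgroup.closure ({x', y'} : Set P') with hH'
  have czx : ∀ g : P, Commute z g := fun g => ((Subgroup.mem_center_iff.mp hz) g).symm
  have czx' : ∀ g : P', Commute z' g := fun g => ((Subgroup.mem_center_iff.mp hz') g).symm
  obtain ⟨α, hαx, hαy⟩ := exists_mulEquiv_pair p hp.pos x y x' y'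
    (by rw [hxy]; exact czx x) (by rw [hxy]; exact czx y)
    (by rw [hxy']; exact czx' x') (by rw [hxy']; exact czx' y')
    (by rw [hxy]; exact hzp) (by rw [hxy']; exact hzp') a b
    (by rw [hxy]; exact hxa) (by rw [hxy']; exact hxa')
    (by rw [hxy]; exact hyb) (by rw [hxy']; exact hyb') d8 d8'
  have hxH : x ∈ H := Subgroup.subset_closure (by simp)
  have hyH : y ∈ H := Subgroup.subset_closure (by simp)
  have hzH : z ∈ H := by
    rw [← hxy, commutatorElement_def]
    exact H.mul_mem (H.mul_mem (H.mul_mem hxH hyH) (H.inv_mem hxH)) (H.inv_mem hyH)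
  have hαz : (α ⟨z, hzH⟩ : P') = z' := by
    have e1 : (⟨z, hzH⟩ : H) = ⁅(⟨x, hxH⟩ : H), ⟨y, hyH⟩⁆ := by
      apply Subtype.ext
      rw [commutatorElement_def]
      simp only [Subgroup.coe_mul, Subgroup.coe_inv]
      rw [← commutatorElement_def, hxy]
    rw [e1, map_commutatorElement, commutatorElement_def]
    simp only [Subgroup.coe_mul, Subgroup.coe_inv]
    rw [hαx, hαy, ← commutatorElement_def, hxy']
  have hag : ∀ (t : P) (hH : t ∈ H)
      (hD : t ∈ C ⊓ Subgroup.centralizer {x} ⊓ Subgroup.centralizer {y}),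
      (α ⟨t, hH⟩ : P') = γ ⟨t, hD⟩ := by
    intro t htH htD
    have ht : t ∈ Subgroup.zpowers z := by
      rw [← center_eq_zpowers hZ z hz hz1]
      exact d7 (Subgroup.mem_inf.mpr ⟨htH, htD⟩)
    exact agree_on_zpowers ((Subgroup.subtype H').comp α.toMonoidHom)
      ((Subgroup.subtype _).comp γ.toMonoidHom) z hzH (d1 hz) (by
        show (α ⟨z, hzH⟩ : P') = γ ⟨z, d1 hz⟩
        rw [hαz, hγ]) t ht htH htD
  have hDC : C ⊓ Subgroup.centralizer {x} ⊓ Subgroup.centralizer {y} ≤ C :=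
    fun d hd => (Subgroup.mem_inf.mp (Subgroup.mem_inf.mp hd).1).1
  have hDC' : C' ⊓ Subgroup.centralizer {x'} ⊓ Subgroup.centralizer {y'} ≤ C' :=
    fun d hd => (Subgroup.mem_inf.mp (Subgroup.mem_inf.mp hd).1).1
  obtain ⟨φ, hφ1, _⟩ := exists_mulEquiv_glue C H _ C' H' _ d4 hDC d4' hDC' d6 d6' d5 d5' α γ hag
    hcard
  refine ⟨φ, ?_⟩
  rw [← hαz, ← hφ1 z hzH]

end Glue

section MainTwo

variable {P : Type u} [Group P] [Finite P] {z : P}

theorem Setting.invCount_center (S : Setting z) (C : Subgroup P) (hC : C = Subgroup.center P) :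
    invCount C = 2 := by
  unfold invCount
  have : {g : P | g ∈ C ∧ g ^ 2 = 1} = (Subgroup.center P : Set P) := by
    ext g
    simp only [Set.mem_ofPred_eq, SetLike.mem_coe]
    constructor
    · rintro ⟨h1, _⟩; rw [← hC]; exact h1
    · intro h
      refine ⟨by rw [hC]; exact h, ?_⟩
      rcases S.center_cases h with rfl | rfl
      · exact one_pow 2
      · exact S.z_sq
  rw [this, ← S.hZ]
  exact (Nat.card_coe_set_eq _).symm

theorem invCount_pos (C : Subgroup P) : 0 < invCount C := by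
  unfold invCount
  rw [Set.ncard_pos (Set.toFinite _)]
  exact ⟨1, C.one_mem, one_pow 2⟩

/-- The count formula: `|C| = 2^(2m+1)` and `n(C) = 2^(2m) ± 2^m`. -/
theorem Setting.invCount_formula (S : Setting z) :
    ∀ (n : ℕ) (C : Subgroup P), Nat.card C = n → Subgroup.center P ≤ C →
      C ⊓ Subgroup.centralizer (C : Set P) ≤ Subgroup.center P →
      ∃ m : ℕ, n = 2 ^ (2 * m + 1) ∧
        (invCount C = 2 ^ (2 * m) + 2 ^ m ∨ (1 ≤ m ∧ invCount C + 2 ^ m = 2 ^ (2 * m))) := by
  have : Fact (Nat.Prime 2) := ⟨Nat.prime_two⟩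
  intro n
  induction n using Nat.strong_induction_on with
  | _ n ih =>
    intro C hCn hZC hCZ
    by_cases hCle : C ≤ Subgroup.center P
    · have hC : C = Subgroup.center P := le_antisymm hCle hZC
      refine ⟨0, ?_, Or.inl ?_⟩
      · rw [← hCn, hC, S.hZ]; rfl
      · rw [S.invCount_center C hC]; rfl
    · by_cases hinv : ∃ t ∈ C, t ^ 2 = 1 ∧ t ∉ Subgroup.center P
      · obtain ⟨x, hxC, hx2, hxZ⟩ := hinv
        obtain ⟨y, hyC, hy2, hxy⟩ := S.exists_dihedral_pair C hCZ x hxC hx2 hxZ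
        have hxy1 : ⁅x, y⁆ ≠ 1 := by rw [hxy]; exact S.hz1
        obtain ⟨d1, d2, d3, _⟩ := decomp S.hcl S.hZ C hZC hCZ x y hxC hyC hxy1
        have hcnt := S.invCount_eq C hZC x y hxC hyC hx2 hy2 hxy
        have hDlt : Nat.card (C ⊓ Subgroup.centralizer {x} ⊓ Subgroup.centralizer {y} :
            Subgroup P) < n := by
          rw [← hCn, d3]
          have h0 : 0 < Nat.card (C ⊓ Subgroup.centralizer {x} ⊓ Subgroup.centralizer {y} :
            Subgroup P) := Nat.card_pos
          omega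
        obtain ⟨m, hm, hform⟩ := ih _ hDlt _ rfl d1 d2
        refine ⟨m + 1, ?_, ?_⟩
        · rw [← hCn, d3, hm]; ring
        · have e1 : 2 ^ (2 * (m + 1)) = 4 * 2 ^ (2 * m) := by ring
          have e2 : 2 ^ (m + 1) = 2 * 2 ^ m := by ring
          have e3 : 2 ^ (2 * m + 1) = 2 * 2 ^ (2 * m) := by ring
          rw [hcnt, hm, e1, e2, e3]
          rcases hform with h | ⟨_, h⟩
          · left; rw [h]; ring
          · right
            refine ⟨by omega, ?_⟩
            omega
      · push Not at hinv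
        have hno : ∀ t ∈ C, t ^ 2 = 1 → t ∈ Subgroup.center P := hinv
        obtain ⟨h8, h2, _⟩ := S.quaternion_case C hZC hCZ hCle hno
        refine ⟨1, ?_, Or.inr ⟨le_rfl, ?_⟩⟩
        · rw [← hCn, h8]; rfl
        · rw [h2]; rfl

end MainTwo

section MainIso

variable {P : Type u} {P' : Type v} [Group P] [Group P'] [Finite P] [Finite P'] {z : P} {z' : P'}

/-- Classification: equal order and equal number of solutions of `g^2 = 1` give an isomorphism
matching the central involutions. -/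
theorem exists_mulEquiv_two (S : Setting z) (S' : Setting z') :
    ∀ (n : ℕ) (C : Subgroup P) (C' : Subgroup P'), Nat.card C = n → Nat.card C' = n →
      invCount C = invCount C' →
      ∀ (hZC : Subgroup.center P ≤ C), C ⊓ Subgroup.centralizer (C : Set P) ≤ Subgroup.center P →
      Subgroup.center P' ≤ C' → C' ⊓ Subgroup.centralizer (C' : Set P') ≤ Subgroup.center P' →
      ∃ φ : C ≃* C', (φ ⟨z, hZC S.hz⟩ : P') = z' := by
  have : Fact (Nat.Prime 2) := ⟨Nat.prime_two⟩
  intro n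
  induction n using Nat.strong_induction_on with
  | _ n ih =>
    intro C C' hCn hCn' hcnt hZC hCZ hZC' hCZ'
    by_cases hCle : C ≤ Subgroup.center P
    · have hC : C = Subgroup.center P := le_antisymm hCle hZC
      have hC' : C' = Subgroup.center P' := by
        symm
        apply Subgroup.eq_of_le_of_card_ge hZC'
        rw [hCn', ← hCn, hC, S.hZ, S'.hZ]
      exact exists_mulEquiv_center S.hZ S'.hZ z S.hz S.hz1 z' S'.hz S'.hz1 C C' hC hC' (hZC S.hz)
    · have hCle' : ¬ C' ≤ Subgroup.center P' := by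
        intro h
        apply hCle
        have hC' : C' = Subgroup.center P' := le_antisymm h hZC'
        have : Subgroup.center P = C := by
          apply Subgroup.eq_of_le_of_card_ge hZC
          rw [hCn, ← hCn', hC', S.hZ, S'.hZ]
        rw [← this]
      by_cases hinv : ∃ t ∈ C, t ^ 2 = 1 ∧ t ∉ Subgroup.center P
      · obtain ⟨x, hxC, hx2, hxZ⟩ := hinv
        obtain ⟨y, hyC, hy2, hxy⟩ := S.exists_dihedral_pair C hCZ x hxC hx2 hxZ
        have hxy1 : ⁅x, y⁆ ≠ 1 := by rw [hxy]; exact S.hz1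
        obtain ⟨d1, d2, d3, _⟩ := decomp S.hcl S.hZ C hZC hCZ x y hxC hyC hxy1
        have hc := S.invCount_eq C hZC x y hxC hyC hx2 hy2 hxy
        by_cases hinv' : ∃ t ∈ C', t ^ 2 = 1 ∧ t ∉ Subgroup.center P'
        · obtain ⟨x', hxC', hx2', hxZ'⟩ := hinv'
          obtain ⟨y', hyC', hy2', hxy'⟩ := S'.exists_dihedral_pair C' hCZ' x' hxC' hx2' hxZ'
          have hxy1' : ⁅x', y'⁆ ≠ 1 := by rw [hxy']; exact S'.hz1
          obtain ⟨d1', d2', d3', _⟩ := decomp S'.hcl S'.hZ C' hZC' hCZ' x' y' hxC' hyC' hxy1'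
          have hc' := S'.invCount_eq C' hZC' x' y' hxC' hyC' hx2' hy2' hxy'
          have hDD' : Nat.card (C' ⊓ Subgroup.centralizer {x'} ⊓ Subgroup.centralizer {y'} :
              Subgroup P') = Nat.card (C ⊓ Subgroup.centralizer {x} ⊓ Subgroup.centralizer {y} :
              Subgroup P) := by
            rw [hCn] at d3; rw [hCn'] at d3'
            omega
          have hDlt : Nat.card (C ⊓ Subgroup.centralizer {x} ⊓ Subgroup.centralizer {y} :
              Subgroup P) < n := by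
            rw [← hCn, d3]
            have h0 : 0 < Nat.card (C ⊓ Subgroup.centralizer {x} ⊓ Subgroup.centralizer {y} :
              Subgroup P) := Nat.card_pos
            omega
          have hcD : invCount (C ⊓ Subgroup.centralizer {x} ⊓ Subgroup.centralizer {y}) =
              invCount (C' ⊓ Subgroup.centralizer {x'} ⊓ Subgroup.centralizer {y'}) := by
            omega
          obtain ⟨γ, hγ⟩ := ih _ hDlt _ _ rfl hDD' hcD d1 d2 d1' d2'
          exact glue_step S.hcl S.hZ S'.hcl S'.hZ z S.hz S.hz1 z' S'.hz S'.hz1 C C'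
            (by rw [hCn, hCn']) hZC hCZ hZC' hCZ' x y x' y' hxC hyC hxC' hyC' hxy hxy' 0 0
            (by rw [pow_zero]; exact hx2) (by rw [pow_zero]; exact hx2')
            (by rw [pow_zero]; exact hy2) (by rw [pow_zero]; exact hy2') γ (fun _ => hγ)
        · exfalso
          push Not at hinv'
          obtain ⟨h8, h2, _⟩ := S'.quaternion_case C' hZC' hCZ' hCle' hinv'
          have := invCount_pos (C ⊓ Subgroup.centralizer {x} ⊓ Subgroup.centralizer {y})
          have h0 : 0 < Nat.card (C ⊓ Subgroup.centralizer {x} ⊓ Subgroup.centralizer {y} :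
              Subgroup P) := Nat.card_pos
          omega
      · push Not at hinv
        obtain ⟨h8, h2, hq⟩ := S.quaternion_case C hZC hCZ hCle hinv
        by_cases hinv' : ∃ t ∈ C', t ^ 2 = 1 ∧ t ∉ Subgroup.center P'
        · exfalso
          obtain ⟨x', hxC', hx2', hxZ'⟩ := hinv'
          obtain ⟨y', hyC', hy2', hxy'⟩ := S'.exists_dihedral_pair C' hCZ' x' hxC' hx2' hxZ'
          have hc' := S'.invCount_eq C' hZC' x' y' hxC' hyC' hx2' hy2' hxy'
          have := invCount_pos (C' ⊓ Subgroup.centralizer {x'} ⊓ Subgroup.centralizer {y'})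
          have h0 : 0 < Nat.card (C' ⊓ Subgroup.centralizer {x'} ⊓ Subgroup.centralizer {y'} :
              Subgroup P') := Nat.card_pos
          omega
        · push Not at hinv'
          obtain ⟨h8', h2', hq'⟩ := S'.quaternion_case C' hZC' hCZ' hCle' hinv'
          obtain ⟨x, hxC, hxZ⟩ := SetLike.not_le_iff_exists.mp hCle
          obtain ⟨y, hyC, hxy⟩ := exists_pair S.hcl S.hZ z S.hz C hCZ x hxC hxZ
          obtain ⟨x', hxC', hxZ'⟩ := SetLike.not_le_iff_exists.mp hCle'
          obtain ⟨y', hyC', hxy'⟩ := exists_pair S'.hcl S'.hZ z' S'.hz C' hCZ' x' hxC' hxZ'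
          have hxy1 : ⁅x, y⁆ ≠ 1 := by rw [hxy]; exact S.hz1
          have hxy1' : ⁅x', y'⁆ ≠ 1 := by rw [hxy']; exact S'.hz1
          have hyZ : y ∉ Subgroup.center P := by
            intro h
            apply hxy1
            rw [commutatorElement_eq_one_iff_mul_comm]
            exact Subgroup.mem_center_iff.mp h x
          have hyZ' : y' ∉ Subgroup.center P' := by
            intro h
            apply hxy1'
            rw [commutatorElement_eq_one_iff_mul_comm]
            exact Subgroup.mem_center_iff.mp h x'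
          obtain ⟨d1, d2, d3, _⟩ := decomp S.hcl S.hZ C hZC hCZ x y hxC hyC hxy1
          obtain ⟨d1', d2', d3', _⟩ := decomp S'.hcl S'.hZ C' hZC' hCZ' x' y' hxC' hyC' hxy1'
          have hD : (C ⊓ Subgroup.centralizer {x} ⊓ Subgroup.centralizer {y} : Subgroup P) =
              Subgroup.center P := by
            symm
            apply Subgroup.eq_of_le_of_card_ge d1
            rw [S.hZ]
            omega
          have hD' : (C' ⊓ Subgroup.centralizer {x'} ⊓ Subgroup.centralizer {y'} : Subgroup P') =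
              Subgroup.center P' := by
            symm
            apply Subgroup.eq_of_le_of_card_ge d1'
            rw [S'.hZ]
            omega
          obtain ⟨γ, hγ⟩ := exists_mulEquiv_center S.hZ S'.hZ z S.hz S.hz1 z' S'.hz S'.hz1 _ _
            hD hD' (d1 S.hz)
          exact glue_step S.hcl S.hZ S'.hcl S'.hZ z S.hz S.hz1 z' S'.hz S'.hz1 C C'
            (by rw [hCn, hCn']) hZC hCZ hZC' hCZ' x y x' y' hxC hyC hxC' hyC' hxy hxy' 1 1
            (by rw [pow_one]; exact hq x hxC hxZ) (by rw [pow_one]; exact hq' x' hxC' hxZ')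
            (by rw [pow_one]; exact hq y hyC hyZ) (by rw [pow_one]; exact hq' y' hyC' hyZ')
            γ (fun _ => hγ)

end MainIso

section Final

variable {E : Type u} [Group E] [Finite E]

/-- An extraspecial 2-group is in the setting. -/
theorem exists_setting (h : Cfsg.IsExtraspecial 2 E) : ∃ z : E, Setting z := by
  have : Fact (Nat.Prime 2) := ⟨Nat.prime_two⟩
  obtain ⟨⟨hP, hΦ, hD⟩, hZ⟩ := h
  have hne : Subgroup.center E ≠ ⊥ := by
    intro h
    rw [h, Subgroup.card_bot] at hZ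
    omega
  obtain ⟨⟨z, hz⟩, hz0⟩ := (Subgroup.ne_bot_iff_exists_ne_one.mp hne)
  refine ⟨z, ?_, hZ, ?_, hz, fun h => hz0 (Subtype.ext h)⟩
  · intro a b
    rw [← hD]
    exact Subgroup.commutator_mem_commutator (Subgroup.mem_top a) (Subgroup.mem_top b)
  · intro g
    rw [← hΦ]
    exact IsPGroup.pow_mem_frattini hP g

theorem invCount_top : invCount (⊤ : Subgroup E) = Nat.card {x : E // x ^ 2 = 1} := by
  unfold invCount
  have : {g : E | g ∈ (⊤ : Subgroup E) ∧ g ^ 2 = 1} = {g : E | g ^ 2 = 1} := by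
    ext g
    simp
  rw [this]
  exact (Nat.card_coe_set_eq _).symm

theorem top_inf_centralizer_le : (⊤ : Subgroup E) ⊓ Subgroup.centralizer ((⊤ : Subgroup E) : Set E)
    ≤ Subgroup.center E := by
  rw [Subgroup.coe_top, Subgroup.centralizer_univ]; exact inf_le_right

/-- Order and number of solutions of `x^2 = 1` in an extraspecial 2-group. -/
theorem card_sq_eq_one_formula (h : Cfsg.IsExtraspecial 2 E) :
    ∃ m : ℕ, 1 ≤ m ∧ Nat.card E = 2 ^ (2 * m + 1) ∧
      (Nat.card {x : E // x ^ 2 = 1} = 2 ^ (2 * m) + 2 ^ m ∨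
        Nat.card {x : E // x ^ 2 = 1} = 2 ^ (2 * m) - 2 ^ m) := by
  have : Fact (Nat.Prime 2) := ⟨Nat.prime_two⟩
  obtain ⟨z, S⟩ := exists_setting h
  obtain ⟨n, hn1, hn⟩ := IsExtraspecial.card_eq h
  obtain ⟨m, hm, hform⟩ := S.invCount_formula (Nat.card E) ⊤ Subgroup.card_top le_top
    top_inf_centralizer_le
  have hmn : m = n := by
    rw [hn] at hm
    have := Nat.pow_right_injective (le_refl 2) hm
    omega
  subst hmn
  refine ⟨m, hn1, hn, ?_⟩
  rw [← invCount_top]
  rcases hform with h1 | ⟨_, h1⟩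
  · exact Or.inl h1
  · right; omega

/-- Extraspecial 2-groups of the same order with the same number of solutions of `x^2 = 1` are
isomorphic. -/
theorem nonempty_mulEquiv_of_card_sq {E' : Type v} [Group E'] [Finite E']
    (h : Cfsg.IsExtraspecial 2 E) (h' : Cfsg.IsExtraspecial 2 E')
    (hc : Nat.card E' = Nat.card E)
    (hn : Nat.card {x : E' // x ^ 2 = 1} = Nat.card {x : E // x ^ 2 = 1}) :
    Nonempty (E ≃* E') := by
  obtain ⟨z, S⟩ := exists_setting h
  obtain ⟨z', S'⟩ := exists_setting h'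
  obtain ⟨φ, _⟩ := exists_mulEquiv_two S S' (Nat.card E) ⊤ ⊤ Subgroup.card_top
    (by rw [Subgroup.card_top, hc]) (by rw [invCount_top, invCount_top, hn]) le_top
    top_inf_centralizer_le le_top top_inf_centralizer_le
  exact ⟨Subgroup.topEquiv.symm.trans (φ.trans Subgroup.topEquiv)⟩

end Final

end ExtraspecialTwo

end Cfsg.Agent.Lib.Helper1
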