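import Mathlib
import Cfsg.Prelude.Def_Transfer
import Cfsg.Prelude.Def_CaseTheorems
import Cfsg.Agent.Lib.Helper1.ExtraspecialTwo

/-!
# Helper1 library: the 2-rank of extraspecial 2-groups

`ElemAb`, `ExactRank`, the recursion `rank C = rank D + 1` when a dihedral pair is split off,
`rank_formula`, `rank_dichotomy` (rank `n+1` in the plus case, `n` in the minus case), and
`nonempty_mulEquiv_of_rank`.
-/

set_option autoImplicit false
set_option linter.unusedSectionVars false

open scoped commutatorElement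

namespace Cfsg.Agent.Lib.Helper1

namespace ExtraspecialTwo

open ExtraspecialIso

universe u v

section Rank

variable {P : Type u} [Group P] [Finite P] {z : P}

/-- elementary abelian 2-subgroup -/
def ElemAb (A : Subgroup P) : Prop := (∀ a ∈ A, ∀ b ∈ A, a * b = b * a) ∧ ∀ a ∈ A, a ^ 2 = 1

/-- `C` has rank exactly `k`. -/
def ExactRank (C : Subgroup P) (k : ℕ) : Prop :=
  (∀ A : Subgroup P, A ≤ C → ElemAb A → Nat.card A ≤ 2 ^ k) ∧
    ∃ A : Subgroup P, A ≤ C ∧ ElemAb A ∧ Nat.card A = 2 ^ k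

/-- adjoining a commuting involution to an elementary abelian subgroup -/
theorem ElemAb.adjoin {A : Subgroup P} (hA : ElemAb A) (x : P) (hx2 : x ^ 2 = 1)
    (hxA : ∀ a ∈ A, a * x = x * a) :
    ElemAb (Subgroup.closure ((A : Set P) ∪ {x})) := by
  have hgen : ∀ g ∈ (A : Set P) ∪ {x}, ∀ h ∈ (A : Set P) ∪ {x}, g * h = h * g := by
    rintro g (hg | rfl) h (hh | rfl)
    · exact hA.1 g hg h hh
    · exact hxA g hg
    · exact (hxA h hh).symm
    · rfl
  have h1 : ∀ g ∈ (A : Set P) ∪ {x}, ∀ b ∈ Subgroup.closure ((A : Set P) ∪ {x}), g * b = b * g := by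
    intro g hg b hb
    have : Subgroup.closure ((A : Set P) ∪ {x}) ≤ Subgroup.centralizer {g} := by
      rw [Subgroup.closure_le]
      intro h hh
      exact Subgroup.mem_centralizer_singleton_iff.mpr (hgen g hg h hh).symm
    exact (Subgroup.mem_centralizer_singleton_iff.mp (this hb)).symm
  have h2 : ∀ a ∈ Subgroup.closure ((A : Set P) ∪ {x}),
      ∀ b ∈ Subgroup.closure ((A : Set P) ∪ {x}), a * b = b * a := by
    intro a ha b hb
    have : Subgroup.closure ((A : Set P) ∪ {x}) ≤ Subgroup.centralizer {b} := by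
      rw [Subgroup.closure_le]
      intro h hh
      exact Subgroup.mem_centralizer_singleton_iff.mpr (h1 h hh b hb)
    exact (Subgroup.mem_centralizer_singleton_iff.mp (this ha))
  refine ⟨h2, ?_⟩
  intro a ha
  induction ha using Subgroup.closure_induction with
  | mem g hg =>
    rcases hg with hg | rfl
    · exact hA.2 g hg
    · exact hx2
  | one => exact one_pow 2
  | mul a b ha hb iha ihb =>
    have : Commute a b := h2 a ha b hb
    rw [this.mul_pow, iha, ihb, one_mul]
  | inv a _ iha => rw [inv_pow, iha, inv_one]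

theorem ElemAb.mono {A B : Subgroup P} (hB : ElemAb B) (h : A ≤ B) : ElemAb A :=
  ⟨fun a ha b hb => hB.1 a (h ha) b (h hb), fun a ha => hB.2 a (h ha)⟩

/-- Rank recursion when a dihedral pair is split off. -/
theorem Setting.exactRank_succ (S : Setting z) (C : Subgroup P)
    (x y : P) (hxC : x ∈ C) (hyC : y ∈ C) (hx2 : x ^ 2 = 1) (hxy : ⁅x, y⁆ = z) (k : ℕ)
    (hD : ExactRank (C ⊓ Subgroup.centralizer {x} ⊓ Subgroup.centralizer {y}) k) :
    ExactRank C (k + 1) := by
  have : Fact (Nat.Prime 2) := ⟨Nat.prime_two⟩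
  have hxy1 : ⁅x, y⁆ ≠ 1 := by rw [hxy]; exact S.hz1
  have hyx : ⁅y, x⁆ = z := S.comm_symm hxy
  have hyx1 : ⁅y, x⁆ ≠ 1 := by rw [hyx]; exact S.hz1
  obtain ⟨hub, A₀, hA₀D, hA₀, hA₀card⟩ := hD
  -- key: an elementary abelian subgroup B ≤ C_C(x) containing x has |B| ≤ 2 * 2^k,
  -- and at least twice the order of any subgroup of it centralizing y
  have key : ∀ B : Subgroup P, B ≤ C → ElemAb B → x ∈ B →
      Nat.card B ≤ 2 * 2 ^ k ∧ ∀ A' : Subgroup P, A' ≤ B → A' ≤ Subgroup.centralizer {y} →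
        2 * Nat.card A' ≤ Nat.card B := by
    intro B hBC hB hxB
    obtain ⟨h1, _⟩ := card_eq_mul_card_inf_centralizer S.hcl S.hZ B y x hxB hyx1
    have hle : B ⊓ Subgroup.centralizer {y} ≤
        C ⊓ Subgroup.centralizer {x} ⊓ Subgroup.centralizer {y} := by
      intro b hb
      obtain ⟨hbB, hby⟩ := Subgroup.mem_inf.mp hb
      refine Subgroup.mem_inf.mpr ⟨Subgroup.mem_inf.mpr ⟨hBC hbB, ?_⟩, hby⟩
      exact Subgroup.mem_centralizer_singleton_iff.mpr (hB.1 b hbB x hxB)
    have h2 := hub _ hle (hB.mono inf_le_left)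
    refine ⟨by rw [h1]; omega, ?_⟩
    intro A' hA'B hA'y
    have := Subgroup.card_le_of_le (le_inf hA'B hA'y)
    rw [h1]; omega
  constructor
  · intro A hAC hA
    by_cases hAx : A ≤ Subgroup.centralizer {x}
    · -- A centralizes x
      have hB := hA.adjoin x hx2 (fun a ha =>
        (Subgroup.mem_centralizer_singleton_iff.mp (hAx ha)))
      have hBC : Subgroup.closure ((A : Set P) ∪ {x}) ≤ C := by
        rw [Subgroup.closure_le]
        rintro g (hg | rfl)
        · exact hAC hg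
        · exact hxC
      have hxB : x ∈ Subgroup.closure ((A : Set P) ∪ {x}) :=
        Subgroup.subset_closure (Or.inr rfl)
      have hAB : A ≤ Subgroup.closure ((A : Set P) ∪ {x}) := fun a ha =>
        Subgroup.subset_closure (Or.inl ha)
      obtain ⟨h1, _⟩ := key _ hBC hB hxB
      have := Subgroup.card_le_of_le hAB
      rw [pow_succ]; omega
    · -- some a ∈ A does not commute with x
      obtain ⟨a, haA, hax⟩ := SetLike.not_le_iff_exists.mp hAx
      have hxa : ⁅x, a⁆ ≠ 1 := by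
        rw [Ne, commutatorElement_eq_one_iff_mul_comm]
        intro h
        exact hax (Subgroup.mem_centralizer_singleton_iff.mpr h.symm)
      obtain ⟨h1, _⟩ := card_eq_mul_card_inf_centralizer S.hcl S.hZ A x a haA hxa
      set A₁ : Subgroup P := A ⊓ Subgroup.centralizer {x} with hA₁
      have hA₁e : ElemAb A₁ := hA.mono inf_le_left
      have hB := hA₁e.adjoin x hx2 (fun b hb =>
        (Subgroup.mem_centralizer_singleton_iff.mp (Subgroup.mem_inf.mp hb).2))
      have hBC : Subgroup.closure ((A₁ : Set P) ∪ {x}) ≤ C := by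
        rw [Subgroup.closure_le]
        rintro g (hg | rfl)
        · exact hAC (Subgroup.mem_inf.mp hg).1
        · exact hxC
      have hxB : x ∈ Subgroup.closure ((A₁ : Set P) ∪ {x}) :=
        Subgroup.subset_closure (Or.inr rfl)
      have hAB : A₁ ≤ Subgroup.closure ((A₁ : Set P) ∪ {x}) := fun a ha =>
        Subgroup.subset_closure (Or.inl ha)
      -- use a in place of y: B ⊓ C(a) ⊇ A₁ and x ∉ C(a)
      obtain ⟨k1, _⟩ := card_eq_mul_card_inf_centralizer S.hcl S.hZ
        (Subgroup.closure ((A₁ : Set P) ∪ {x})) a x hxB (by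
          rw [Ne, commutatorElement_eq_one_iff_mul_comm]
          intro h
          exact hax (Subgroup.mem_centralizer_singleton_iff.mpr h))
      have k2 : A₁ ≤ Subgroup.closure ((A₁ : Set P) ∪ {x}) ⊓ Subgroup.centralizer {a} := by
        intro b hb
        refine Subgroup.mem_inf.mpr ⟨hAB hb, ?_⟩
        exact Subgroup.mem_centralizer_singleton_iff.mpr (hA.1 b (Subgroup.mem_inf.mp hb).1 a haA)
      have k3 := Subgroup.card_le_of_le k2
      obtain ⟨k4, _⟩ := key _ hBC hB hxB
      rw [pow_succ, h1]; omega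
  · -- lower bound
    have hA₀x : ∀ a ∈ A₀, a * x = x * a := fun a ha =>
      Subgroup.mem_centralizer_singleton_iff.mp
        (Subgroup.mem_inf.mp (Subgroup.mem_inf.mp (hA₀D ha)).1).2
    have hB := hA₀.adjoin x hx2 hA₀x
    have hBC : Subgroup.closure ((A₀ : Set P) ∪ {x}) ≤ C := by
      rw [Subgroup.closure_le]
      rintro g (hg | rfl)
      · exact (Subgroup.mem_inf.mp (Subgroup.mem_inf.mp (hA₀D hg)).1).1
      · exact hxC
    have hxB : x ∈ Subgroup.closure ((A₀ : Set P) ∪ {x}) :=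
      Subgroup.subset_closure (Or.inr rfl)
    have hAB : A₀ ≤ Subgroup.closure ((A₀ : Set P) ∪ {x}) := fun a ha =>
      Subgroup.subset_closure (Or.inl ha)
    obtain ⟨h1, h2⟩ := key _ hBC hB hxB
    have h3 := h2 A₀ hAB (fun a ha => (Subgroup.mem_inf.mp (hA₀D ha)).2)
    refine ⟨_, hBC, hB, ?_⟩
    rw [pow_succ]; omega

end Rank

section Rank2

variable {P : Type u} [Group P] [Finite P] {z : P}

theorem Setting.elemAb_center (S : Setting z) : ElemAb (Subgroup.center P) := by
  refine ⟨fun a ha b _ => (Subgroup.mem_center_iff.mp ha b).symm, fun a ha => ?_⟩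
  rcases S.center_cases ha with rfl | rfl
  · exact one_pow 2
  · exact S.z_sq

theorem Setting.exactRank_of_no_involution (S : Setting z) (C : Subgroup P)
    (hZC : Subgroup.center P ≤ C)
    (hno : ∀ t ∈ C, t ^ 2 = 1 → t ∈ Subgroup.center P) : ExactRank C 1 := by
  constructor
  · intro A hAC hA
    have : A ≤ Subgroup.center P := fun a ha => hno a (hAC ha) (hA.2 a ha)
    have := Subgroup.card_le_of_le this
    rw [S.hZ] at this
    simpa using this
  · exact ⟨Subgroup.center P, hZC, S.elemAb_center, by rw [S.hZ]; rfl⟩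

/-- The count formula together with the exact rank. -/
theorem Setting.rank_formula (S : Setting z) :
    ∀ (n : ℕ) (C : Subgroup P), Nat.card C = n → Subgroup.center P ≤ C →
      C ⊓ Subgroup.centralizer (C : Set P) ≤ Subgroup.center P →
      ∃ m : ℕ, n = 2 ^ (2 * m + 1) ∧
        ((invCount C = 2 ^ (2 * m) + 2 ^ m ∧ ExactRank C (m + 1)) ∨
          (1 ≤ m ∧ invCount C + 2 ^ m = 2 ^ (2 * m) ∧ ExactRank C m)) := by
  have : Fact (Nat.Prime 2) := ⟨Nat.prime_two⟩
  intro n
  induction n using Nat.strong_induction_on with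
  | _ n ih =>
    intro C hCn hZC hCZ
    by_cases hCle : C ≤ Subgroup.center P
    · have hC : C = Subgroup.center P := le_antisymm hCle hZC
      refine ⟨0, ?_, Or.inl ⟨?_, ?_⟩⟩
      · rw [← hCn, hC, S.hZ]; rfl
      · rw [S.invCount_center C hC]; rfl
      · exact S.exactRank_of_no_involution C hZC (fun t ht _ => hCle ht)
    · by_cases hinv : ∃ t ∈ C, t ^ 2 = 1 ∧ t ∉ Subgroup.center P
      · obtain ⟨x, hxC, hx2, hxZ⟩ := hinv
        obtain ⟨y, hyC, hy2, hxy⟩ := S.exists_dihedral_pair C hCZ x hxC hx2 hxZ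
        have hxy1 : ⁅x, y⁆ ≠ 1 := by rw [hxy]; exact S.hz1
        obtain ⟨d1, d2, d3, _⟩ := decomp S.hcl S.hZ C hZC hCZ x y hxC hyC hxy1
        have hcnt := S.invCount_eq C hZC x y hxC hyC hx2 hy2 hxy
        have hDlt : Nat.card (C ⊓ Subgroup.centralizer {x} ⊓ Subgroup.centralizer {y} :
            Subgroup P) < n := by
          rw [← hCn, d3]
          have h0 : 0 < Nat.card (C ⊓ Subgroup.centralizer {x} ⊓ Subgroup.centralizer {y} :
            Subgroup P) := Nat.card_pos
          omega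
        obtain ⟨m, hm, hform⟩ := ih _ hDlt _ rfl d1 d2
        refine ⟨m + 1, ?_, ?_⟩
        · rw [← hCn, d3, hm]; ring
        · have e1 : 2 ^ (2 * (m + 1)) = 4 * 2 ^ (2 * m) := by ring
          have e2 : 2 ^ (m + 1) = 2 * 2 ^ m := by ring
          have e3 : 2 ^ (2 * m + 1) = 2 * 2 ^ (2 * m) := by ring
          rw [hcnt, hm, e1, e2, e3]
          rcases hform with ⟨h, hr⟩ | ⟨_, h, hr⟩
          · left
            exact ⟨by rw [h]; ring, S.exactRank_succ C x y hxC hyC hx2 hxy _ hr⟩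
          · right
            exact ⟨by omega, by omega, S.exactRank_succ C x y hxC hyC hx2 hxy _ hr⟩
      · push Not at hinv
        have hno : ∀ t ∈ C, t ^ 2 = 1 → t ∈ Subgroup.center P := hinv
        obtain ⟨h8, h2, _⟩ := S.quaternion_case C hZC hCZ hCle hno
        refine ⟨1, ?_, Or.inr ⟨le_rfl, ?_, S.exactRank_of_no_involution C hZC hno⟩⟩
        · rw [← hCn, h8]; rfl
        · rw [h2]; rfl

end Rank2

section FinalRank

variable {E : Type u} [Group E] [Finite E]

theorem pRankLE_of_exactRank_top {k : ℕ} (h : ExactRank (⊤ : Subgroup E) k) :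
    Cfsg.PRankLE 2 k E := by
  intro A hA hA2
  apply h.1 A le_top
  refine ⟨fun a ha b hb => ?_, hA2⟩
  exact congrArg Subtype.val (isMulCommutative_iff.mp hA ⟨a, ha⟩ ⟨b, hb⟩)

theorem not_pRankLE_of_exactRank_top {k j : ℕ} (h : ExactRank (⊤ : Subgroup E) k) (hj : j < k) :
    ¬ Cfsg.PRankLE 2 j E := by
  intro hP
  obtain ⟨A, _, hA, hAcard⟩ := h.2
  have h1 := hP A (isMulCommutative_iff.mpr (fun a b => Subtype.ext (hA.1 a a.2 b b.2))) hA.2
  rw [hAcard] at h1
  have := Nat.pow_lt_pow_right (by norm_num : 1 < 2) hj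
  omega

/-- Rank dichotomy for an extraspecial 2-group of order `2^(2n+1)`. -/
theorem rank_dichotomy (h : Cfsg.IsExtraspecial 2 E) (n : ℕ) (hn : Nat.card E = 2 ^ (2 * n + 1)) :
    (invCount (⊤ : Subgroup E) = 2 ^ (2 * n) + 2 ^ n ∧ Cfsg.PRankLE 2 (n + 1) E ∧
        ¬ Cfsg.PRankLE 2 n E) ∨
      (1 ≤ n ∧ invCount (⊤ : Subgroup E) + 2 ^ n = 2 ^ (2 * n) ∧ Cfsg.PRankLE 2 n E ∧
        ¬ Cfsg.PRankLE 2 (n - 1) E) := by
  obtain ⟨z, S⟩ := exists_setting h
  obtain ⟨m, hm, hform⟩ := S.rank_formula (Nat.card E) ⊤ Subgroup.card_top le_top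
    top_inf_centralizer_le
  have hmn : m = n := by
    rw [hn] at hm
    have := Nat.pow_right_injective (le_refl 2) hm
    omega
  subst hmn
  rcases hform with ⟨h1, hr⟩ | ⟨hm1, h1, hr⟩
  · exact Or.inl ⟨h1, pRankLE_of_exactRank_top hr, not_pRankLE_of_exactRank_top hr (by omega)⟩
  · exact Or.inr ⟨hm1, h1, pRankLE_of_exactRank_top hr,
      not_pRankLE_of_exactRank_top hr (by omega)⟩

/-- Extraspecial 2-groups of equal order and equal 2-rank profile are isomorphic. -/
theorem nonempty_mulEquiv_of_rank {E' : Type v} [Group E'] [Finite E']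
    (h : Cfsg.IsExtraspecial 2 E) (h' : Cfsg.IsExtraspecial 2 E')
    (hc : Nat.card E' = Nat.card E)
    (hr : ∀ k : ℕ, Cfsg.PRankLE 2 k E ↔ Cfsg.PRankLE 2 k E') :
    Nonempty (E ≃* E') := by
  have : Fact (Nat.Prime 2) := ⟨Nat.prime_two⟩
  obtain ⟨n, _, hn⟩ := IsExtraspecial.card_eq h
  have hn' : Nat.card E' = 2 ^ (2 * n + 1) := by rw [hc, hn]
  obtain ⟨z, S⟩ := exists_setting h
  obtain ⟨z', S'⟩ := exists_setting h'
  have hcnt : invCount (⊤ : Subgroup E) = invCount (⊤ : Subgroup E') := by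
    rcases rank_dichotomy h n hn with ⟨a1, a2, a3⟩ | ⟨_, a1, a2, a3⟩ <;>
      rcases rank_dichotomy h' n hn' with ⟨b1, b2, b3⟩ | ⟨_, b1, b2, b3⟩
    · rw [a1, b1]
    · exact absurd ((hr n).mpr b2) a3
    · exact absurd ((hr n).mp a2) b3
    · omega
  obtain ⟨φ, _⟩ := exists_mulEquiv_two S S' (Nat.card E) ⊤ ⊤ Subgroup.card_top
    (by rw [Subgroup.card_top, hc]) hcnt le_top
    top_inf_centralizer_le le_top top_inf_centralizer_le
  exact ⟨Subgroup.topEquiv.symm.trans (φ.trans Subgroup.topEquiv)⟩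

end FinalRank

end ExtraspecialTwo

end Cfsg.Agent.Lib.Helper1
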