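import Mathlib
import Cfsg.Prelude.Def_Transfer
import Cfsg.Prelude.Def_Classical
import Cfsg.Prelude.Def_KGroupFacts
import Cfsg.Agent.Lib.Helper1.Frattini
import Cfsg.Agent.Lib.Helper1.ExtraspecialRank

/-!
# Outer automorphisms of extraspecial 2-groups (helper1)

* `Cocycle ι`, `QG c`: the model group `ZMod 2 × (ι → ZMod 2)` with multiplication twisted by a
  biadditive form `c.β`; `QG.isExtraspecial`, `QG.card_eq`, `QG.card_sq_eq_one`;
* character sums `chi_sum_plus`, `chi_sum_minus` and zero counts `card_zero_plus`, `card_zero_minus`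
  of the standard quadratic forms over `ZMod 2`;
* `exists_quadratic` (alternating biadditive forms over `ZMod 2` are polarisations),
  `exists_repr` (functionals are represented by a nondegenerate polar form);
* `QG.toGL`, `QG.ker_toGL`, `QG.exists_lift`, `QG.nonempty_out_equiv`:
  `Out (QG c) ≃* isometryGroup (ZMod 2) Q`;
* `nonempty_out_congr`, `count_dichotomy`, `out_extraspecial` (= S5432).
-/

set_option autoImplicit false
set_option linter.unusedSectionVars false
set_option linter.unusedSimpArgs false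

namespace Cfsg.Agent.Lib.Helper1.ESOut

open scoped commutatorElement
open Cfsg.Agent.Lib.Helper1.ExtraspecialTwo

section
/-- A biadditive form on `ι → ZMod 2` (the cocycle of the model group). -/
structure Cocycle (ι : Type) where
  β : (ι → ZMod 2) → (ι → ZMod 2) → ZMod 2
  add_left : ∀ u v w, β (u + v) w = β u w + β v w
  add_right : ∀ u v w, β u (v + w) = β u v + β u w

variable {ι : Type}

theorem zmod2_add_self (a : ZMod 2) : a + a = 0 := CharTwo.add_self_eq_zero a

theorem vec_add_self (v : ι → ZMod 2) : v + v = 0 := by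
  funext i; exact zmod2_add_self _

namespace Cocycle

variable (c : Cocycle ι)

theorem zero_left (w : ι → ZMod 2) : c.β 0 w = 0 := by
  have := c.add_left 0 0 w
  rw [add_zero] at this
  exact left_eq_add.mp this

theorem zero_right (w : ι → ZMod 2) : c.β w 0 = 0 := by
  have := c.add_right w 0 0
  rw [add_zero] at this
  exact left_eq_add.mp this

/-- the quadratic form -/
def Q (v : ι → ZMod 2) : ZMod 2 := c.β v v

/-- the polar form -/
def B (u v : ι → ZMod 2) : ZMod 2 := c.β u v + c.β v u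

theorem B_comm (u v : ι → ZMod 2) : c.B u v = c.B v u := add_comm _ _

theorem B_self (u : ι → ZMod 2) : c.B u u = 0 := zmod2_add_self _

theorem B_add_left (u v w : ι → ZMod 2) : c.B (u + v) w = c.B u w + c.B v w := by
  unfold B; rw [c.add_left, c.add_right]; ring

theorem B_add_right (u v w : ι → ZMod 2) : c.B u (v + w) = c.B u v + c.B u w := by
  unfold B; rw [c.add_left, c.add_right]; ring

theorem Q_add (u v : ι → ZMod 2) : c.Q (u + v) = c.Q u + c.Q v + c.B u v := by
  unfold Q B; rw [c.add_left, c.add_right, c.add_right]; ring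

end Cocycle

/-- The model group `ZMod 2 × (ι → ZMod 2)` with multiplication twisted by `c.β`. -/
@[ext] structure QG (c : Cocycle ι) where
  a : ZMod 2
  v : ι → ZMod 2

namespace QG

variable {c : Cocycle ι}

instance : Mul (QG c) := ⟨fun x y => ⟨x.a + y.a + c.β x.v y.v, x.v + y.v⟩⟩
instance : One (QG c) := ⟨⟨0, 0⟩⟩
instance : Inv (QG c) := ⟨fun x => ⟨x.a + c.β x.v x.v, x.v⟩⟩

@[simp] theorem mul_a (x y : QG c) : (x * y).a = x.a + y.a + c.β x.v y.v := rfl
@[simp] theorem mul_v (x y : QG c) : (x * y).v = x.v + y.v := rfl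
@[simp] theorem one_a : (1 : QG c).a = 0 := rfl
@[simp] theorem one_v : (1 : QG c).v = 0 := rfl
@[simp] theorem inv_a (x : QG c) : (x⁻¹).a = x.a + c.β x.v x.v := rfl
@[simp] theorem inv_v (x : QG c) : (x⁻¹).v = x.v := rfl

instance : Group (QG c) where
  mul_assoc x y z := by
    ext
    · simp only [mul_a, mul_v, c.add_left, c.add_right]; ring
    · simp only [mul_v, add_assoc]
  one_mul x := by
    ext
    · simp [c.zero_left]
    · simp
  mul_one x := by
    ext
    · simp [c.zero_right]
    · simp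
  inv_mul_cancel x := by
    ext
    · simp only [mul_a, inv_a, inv_v, one_a]
      have := zmod2_add_self (x.a + c.β x.v x.v)
      linear_combination this
    · simp only [mul_v, inv_v, one_v, vec_add_self]

theorem sq_eq (x : QG c) : x ^ 2 = ⟨c.Q x.v, 0⟩ := by
  rw [pow_two]
  ext
  · simp only [mul_a]
    rw [zmod2_add_self, zero_add]; rfl
  · simp only [mul_v, vec_add_self]

theorem comm_iff (x y : QG c) : x * y = y * x ↔ c.B x.v y.v = 0 := by
  constructor
  · intro h
    have := congrArg QG.a h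
    simp only [mul_a] at this
    unfold Cocycle.B
    have h2 := zmod2_add_self (c.β y.v x.v)
    linear_combination this + h2
  · intro h
    unfold Cocycle.B at h
    ext
    · simp only [mul_a]
      have h2 := zmod2_add_self (c.β y.v x.v)
      linear_combination h - h2
    · simp only [mul_v, add_comm]

end QG

end

section
variable {ι : Type} [Fintype ι] [DecidableEq ι]

/-- nondegeneracy of the polar form -/
def Cocycle.Nondeg (c : Cocycle ι) : Prop := ∀ u, (∀ v, c.B u v = 0) → u = 0

namespace QG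

variable {c : Cocycle ι}

/-- the underlying equivalence with a product -/
def equivProd (c : Cocycle ι) : QG c ≃ ZMod 2 × (ι → ZMod 2) where
  toFun x := (x.a, x.v)
  invFun p := ⟨p.1, p.2⟩
  left_inv _ := rfl
  right_inv _ := rfl

instance : Finite (QG c) := Finite.of_equiv _ (equivProd c).symm

theorem card_eq : Nat.card (QG c) = 2 ^ (Fintype.card ι + 1) := by
  rw [Nat.card_congr (equivProd c), Nat.card_prod, Nat.card_eq_fintype_card, ZMod.card,
    Nat.card_eq_fintype_card, Fintype.card_fun, ZMod.card, pow_succ, mul_comm]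

theorem isPGroup : IsPGroup 2 (QG c) := IsPGroup.of_card card_eq

theorem mem_center_iff (hc : c.Nondeg) (x : QG c) : x ∈ Subgroup.center (QG c) ↔ x.v = 0 := by
  rw [Subgroup.mem_center_iff]
  constructor
  · intro h
    apply hc
    intro w
    have := h ⟨0, w⟩
    rw [eq_comm, comm_iff] at this
    exact this
  · intro h y
    rw [comm_iff, h, Cocycle.B, c.zero_left, c.zero_right, add_zero]

/-- the central involution -/
def z (c : Cocycle ι) : QG c := ⟨1, 0⟩

theorem eq_one_or_z (x : QG c) (h : x.v = 0) : x = 1 ∨ x = z c := by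
  rcases x with ⟨a, v⟩
  simp only at h
  subst h
  have : a = 0 ∨ a = 1 := by
    fin_cases a
    · left; rfl
    · right; rfl
  rcases this with rfl | rfl
  · left; rfl
  · right; rfl

theorem z_ne_one : z c ≠ 1 := by
  intro h
  have := congrArg QG.a h
  simp [z] at this

theorem card_center (hc : c.Nondeg) : Nat.card (Subgroup.center (QG c)) = 2 := by
  have : (Subgroup.center (QG c) : Set (QG c)) = {1, z c} := by
    ext x
    rw [SetLike.mem_coe, mem_center_iff hc]
    constructor
    · intro h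
      rcases eq_one_or_z x h with rfl | rfl
      · exact Set.mem_insert _ _
      · exact Set.mem_insert_of_mem _ rfl
    · rintro (rfl | rfl)
      · rfl
      · rfl
  change Nat.card ((Subgroup.center (QG c) : Set (QG c))) = 2
  rw [Nat.card_coe_set_eq, this, Set.ncard_pair z_ne_one.symm]


theorem commutatorElement_v (x y : QG c) : (⁅x, y⁆).v = 0 := by
  rw [commutatorElement_def]
  simp only [mul_v, inv_v]
  funext i
  have h1 := zmod2_add_self (x.v i)
  have h2 := zmod2_add_self (y.v i)
  simp only [Pi.add_apply, Pi.zero_apply]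
  linear_combination h1 + h2

theorem commutator_eq_center [Nonempty ι] (hc : c.Nondeg) :
    commutator (QG c) = Subgroup.center (QG c) := by
  apply le_antisymm
  · rw [commutator_def, Subgroup.commutator_le]
    intro x _ y _
    rw [mem_center_iff hc]
    exact commutatorElement_v x y
  · obtain ⟨i⟩ := ‹Nonempty ι›
    have hu : (Pi.single i 1 : ι → ZMod 2) ≠ 0 := by
      intro h
      have := congrFun h i
      simp at this
    have : ∃ w, c.B (Pi.single i 1) w ≠ 0 := by
      by_contra hcon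
      push Not at hcon
      exact hu (hc _ hcon)
    obtain ⟨w, hw⟩ := this
    have hne : ⁅(⟨0, Pi.single i 1⟩ : QG c), (⟨0, w⟩ : QG c)⁆ ≠ 1 := by
      rw [Ne, commutatorElement_eq_one_iff_mul_comm, comm_iff]
      exact hw
    have hz : ⁅(⟨0, Pi.single i 1⟩ : QG c), (⟨0, w⟩ : QG c)⁆ = z c := by
      rcases eq_one_or_z _ (commutatorElement_v (⟨0, Pi.single i 1⟩ : QG c) ⟨0, w⟩) with h | h
      · exact absurd h hne
      · exact h
    have hzmem : z c ∈ commutator (QG c) := by
      rw [← hz, commutator_def]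
      exact Subgroup.commutator_mem_commutator (Subgroup.mem_top _) (Subgroup.mem_top _)
    intro x hx
    rw [mem_center_iff hc] at hx
    rcases eq_one_or_z x hx with rfl | rfl
    · exact one_mem _
    · exact hzmem

theorem frattini_eq_center [Nonempty ι] (hc : c.Nondeg) :
    frattini (QG c) = Subgroup.center (QG c) := by
  have : Fact (Nat.Prime 2) := ⟨Nat.prime_two⟩
  apply le_antisymm
  · apply Cfsg.Agent.Lib.Helper1.frattini_le_of_commutator_le_of_pow_mem (p := 2)
    · rw [commutator_eq_center hc]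
    · intro x
      rw [sq_eq, mem_center_iff hc]
  · rw [← commutator_eq_center hc]
    exact Cfsg.Agent.Lib.Helper1.IsPGroup.commutator_le_frattini isPGroup

theorem isExtraspecial [Nonempty ι] (hc : c.Nondeg) : Cfsg.IsExtraspecial 2 (QG c) :=
  ⟨⟨isPGroup, frattini_eq_center hc, commutator_eq_center hc⟩, card_center hc⟩

/-- solutions of `x^2 = 1` correspond to pairs `(a, v)` with `Q v = 0`. -/
theorem card_sq_eq_one :
    Nat.card {x : QG c // x ^ 2 = 1} = 2 * Nat.card {v : ι → ZMod 2 // c.Q v = 0} := by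
  have e : {x : QG c // x ^ 2 = 1} ≃ ZMod 2 × {v : ι → ZMod 2 // c.Q v = 0} :=
    { toFun := fun x => (x.1.a, ⟨x.1.v, by
        have := x.2
        rw [sq_eq] at this
        exact congrArg QG.a this⟩)
      invFun := fun p => ⟨⟨p.1, p.2.1⟩, by
        rw [sq_eq]
        ext
        · exact p.2.2
        · rfl⟩
      left_inv := fun x => rfl
      right_inv := fun p => rfl }
  rw [Nat.card_congr e, Nat.card_prod, Nat.card_eq_fintype_card, ZMod.card]

end QG

end

section
/-- the sign character of `ZMod 2` -/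
def chi (t : ZMod 2) : ℤ := if t = 0 then 1 else -1

theorem chi_add : ∀ s t : ZMod 2, chi (s + t) = chi s * chi t := by decide

theorem chi_zero : chi 0 = 1 := rfl

theorem chi_sum {κ : Type*} (s : Finset κ) (f : κ → ZMod 2) :
    chi (∑ i ∈ s, f i) = ∏ i ∈ s, chi (f i) := by
  classical
  induction s using Finset.induction_on with
  | empty => simp [chi_zero]
  | insert a s ha ih => rw [Finset.sum_insert ha, Finset.prod_insert ha, chi_add, ih]

theorem one_add_chi (t : ZMod 2) : 1 + chi t = if t = 0 then 2 else 0 := by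
  unfold chi; split_ifs <;> norm_num

/-- zero count in terms of the character sum -/
theorem two_mul_card_zero {W : Type*} [Fintype W] (f : W → ZMod 2) :
    (2 * Fintype.card {w : W // f w = 0} : ℤ) = Fintype.card W + ∑ w, chi (f w) := by
  classical
  have h1 : ∑ w : W, (1 + chi (f w)) = ∑ w : W, if f w = 0 then (2 : ℤ) else 0 := by
    apply Finset.sum_congr rfl
    intro w _
    exact one_add_chi _
  rw [Finset.sum_add_distrib, Finset.sum_const, Finset.card_univ, nsmul_eq_mul, mul_one] at h1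
  rw [h1, Finset.sum_ite, Finset.sum_const_zero, add_zero, Finset.sum_const, nsmul_eq_mul,
    Fintype.card_subtype, mul_comm]

theorem chi_hyp : ∑ a : ZMod 2 × ZMod 2, chi (a.1 * a.2) = 2 := by decide

theorem chi_aniso : ∑ z : Fin 2 → ZMod 2, chi (z 0 ^ 2 + 1 * z 0 * z 1 + 1 * z 1 ^ 2) = -2 := by
  decide

/-- character sum of the hyperbolic form -/
theorem chi_sum_plus (n : ℕ) :
    ∑ v : Fin n ⊕ Fin n → ZMod 2, chi (Cfsg.quadFormPlus n (ZMod 2) v) = 2 ^ n := by
  unfold Cfsg.quadFormPlus
  simp_rw [chi_sum]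
  -- reindex by `Fin n → ZMod 2 × ZMod 2`
  let e : (Fin n ⊕ Fin n → ZMod 2) ≃ (Fin n → ZMod 2 × ZMod 2) :=
    (Equiv.sumArrowEquivProdArrow (Fin n) (Fin n) (ZMod 2)).trans
      (Equiv.arrowProdEquivProdArrow (Fin n) (fun _ => ZMod 2) (fun _ => ZMod 2)).symm
  have h1 : ∑ v : Fin n ⊕ Fin n → ZMod 2, ∏ i : Fin n, chi (v (Sum.inl i) * v (Sum.inr i)) =
      ∑ p : Fin n → ZMod 2 × ZMod 2, ∏ i : Fin n, chi ((p i).1 * (p i).2) := by
    apply Fintype.sum_equiv e
    intro v
    rfl
  rw [h1]
  have h2 := Finset.prod_univ_sum (fun _ : Fin n => (Finset.univ : Finset (ZMod 2 × ZMod 2)))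
    (fun _ a => chi (a.1 * a.2))
  rw [Fintype.piFinset_univ] at h2
  rw [← h2]
  simp [chi_hyp]


/-- character sum of the minus form -/
theorem chi_sum_minus (m : ℕ) :
    ∑ v : (Fin m ⊕ Fin m) ⊕ Fin 2 → ZMod 2, chi (Cfsg.quadFormMinus m (ZMod 2) 1 1 v) =
      -2 ^ (m + 1) := by
  let e : ((Fin m ⊕ Fin m) ⊕ Fin 2 → ZMod 2) ≃ (Fin m ⊕ Fin m → ZMod 2) × (Fin 2 → ZMod 2) :=
    Equiv.sumArrowEquivProdArrow (Fin m ⊕ Fin m) (Fin 2) (ZMod 2)
  have h1 : ∑ v : (Fin m ⊕ Fin m) ⊕ Fin 2 → ZMod 2, chi (Cfsg.quadFormMinus m (ZMod 2) 1 1 v) =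
      ∑ p : (Fin m ⊕ Fin m → ZMod 2) × (Fin 2 → ZMod 2),
        chi (Cfsg.quadFormPlus m (ZMod 2) p.1) *
          chi (p.2 0 ^ 2 + 1 * p.2 0 * p.2 1 + 1 * p.2 1 ^ 2) := by
    apply Fintype.sum_equiv e
    intro v
    rw [← chi_add]
    rfl
  rw [h1, Fintype.sum_prod_type]
  simp_rw [← Finset.mul_sum]
  rw [← Finset.sum_mul, chi_sum_plus, chi_aniso, pow_succ]
  ring

theorem card_zero_plus (n : ℕ) :
    2 * Nat.card {v : Fin n ⊕ Fin n → ZMod 2 // Cfsg.quadFormPlus n (ZMod 2) v = 0} =
      2 ^ (2 * n) + 2 ^ n := by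
  have h := two_mul_card_zero (Cfsg.quadFormPlus n (ZMod 2))
  rw [chi_sum_plus] at h
  rw [Nat.card_eq_fintype_card]
  have hc : Fintype.card (Fin n ⊕ Fin n → ZMod 2) = 2 ^ (2 * n) := by
    rw [Fintype.card_fun, ZMod.card, Fintype.card_sum, Fintype.card_fin, two_mul]
  rw [hc] at h
  exact_mod_cast h

theorem card_zero_minus (m : ℕ) :
    2 * Nat.card {v : (Fin m ⊕ Fin m) ⊕ Fin 2 → ZMod 2 //
        Cfsg.quadFormMinus m (ZMod 2) 1 1 v = 0} + 2 ^ (m + 1) = 2 ^ (2 * (m + 1)) := by
  have h := two_mul_card_zero (Cfsg.quadFormMinus m (ZMod 2) 1 1)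
  rw [chi_sum_minus] at h
  rw [Nat.card_eq_fintype_card]
  have hc : Fintype.card ((Fin m ⊕ Fin m) ⊕ Fin 2 → ZMod 2) = 2 ^ (2 * (m + 1)) := by
    rw [Fintype.card_fun, ZMod.card, Fintype.card_sum, Fintype.card_sum, Fintype.card_fin,
      Fintype.card_fin]
    congr 1; ring
  rw [hc] at h
  have h2 : (2 * Fintype.card {v : (Fin m ⊕ Fin m) ⊕ Fin 2 → ZMod 2 //
        Cfsg.quadFormMinus m (ZMod 2) 1 1 v = 0} + 2 ^ (m + 1) : ℤ) = 2 ^ (2 * (m + 1)) := by
    push_cast at h ⊢
    linarith
  exact_mod_cast h2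

end

section
/-- the cocycle of the plus form -/
def cPlus (n : ℕ) : Cocycle (Fin n ⊕ Fin n) where
  β v w := ∑ i : Fin n, v (Sum.inl i) * w (Sum.inr i)
  add_left u v w := by
    simp only [Pi.add_apply, add_mul, Finset.sum_add_distrib]
  add_right u v w := by
    simp only [Pi.add_apply, mul_add, Finset.sum_add_distrib]

theorem cPlus_Q (n : ℕ) (v : Fin n ⊕ Fin n → ZMod 2) :
    Cfsg.quadFormPlus n (ZMod 2) v = (cPlus n).β v v := rfl

theorem cPlus_nondeg (n : ℕ) : (cPlus n).Nondeg := by
  intro u hu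
  funext k
  rcases k with j | j
  · have := hu (Pi.single (Sum.inr j) 1)
    simp only [Cocycle.B, cPlus, Pi.single_apply, Sum.inr.injEq, reduceCtorEq, if_false,
      mul_zero, zero_mul, Finset.sum_const_zero, add_zero, mul_ite, mul_one,
      Finset.sum_ite_eq', Finset.mem_univ, if_true] at this
    simpa using this
  · have := hu (Pi.single (Sum.inl j) 1)
    simp only [Cocycle.B, cPlus, Pi.single_apply, Sum.inl.injEq, reduceCtorEq, if_false,
      mul_zero, zero_mul, Finset.sum_const_zero, zero_add, ite_mul, one_mul,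
      Finset.sum_ite_eq', Finset.mem_univ, if_true] at this
    simpa using this


/-- the cocycle of the minus form -/
def cMinus (m : ℕ) : Cocycle ((Fin m ⊕ Fin m) ⊕ Fin 2) where
  β v w := (∑ i : Fin m, v (Sum.inl (Sum.inl i)) * w (Sum.inl (Sum.inr i))) +
    (v (Sum.inr 0) * w (Sum.inr 0) + v (Sum.inr 0) * w (Sum.inr 1) + v (Sum.inr 1) * w (Sum.inr 1))
  add_left u v w := by
    simp only [Pi.add_apply, add_mul, Finset.sum_add_distrib]
    ring
  add_right u v w := by
    simp only [Pi.add_apply, mul_add, Finset.sum_add_distrib]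
    ring

theorem cMinus_Q (m : ℕ) (v : (Fin m ⊕ Fin m) ⊕ Fin 2 → ZMod 2) :
    Cfsg.quadFormMinus m (ZMod 2) 1 1 v = (cMinus m).β v v := by
  unfold Cfsg.quadFormMinus cMinus
  simp only
  ring

theorem cMinus_nondeg (m : ℕ) : (cMinus m).Nondeg := by
  intro u hu
  funext k
  rcases k with (j | j) | j
  · have := hu (Pi.single (Sum.inl (Sum.inr j)) 1)
    simp only [Cocycle.B, cMinus, Pi.single_apply, Sum.inl.injEq, Sum.inr.injEq, reduceCtorEq,
      if_false, mul_zero, zero_mul, Finset.sum_const_zero, add_zero, mul_ite, mul_one,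
      Finset.sum_ite_eq', Finset.mem_univ, if_true] at this
    simpa using this
  · have := hu (Pi.single (Sum.inl (Sum.inl j)) 1)
    simp only [Cocycle.B, cMinus, Pi.single_apply, Sum.inl.injEq, Sum.inr.injEq, reduceCtorEq,
      if_false, mul_zero, zero_mul, Finset.sum_const_zero, zero_add, add_zero, ite_mul, one_mul,
      Finset.sum_ite_eq', Finset.mem_univ, if_true] at this
    simpa using this
  · have h0 := hu (Pi.single (Sum.inr 0) 1)
    have h1 := hu (Pi.single (Sum.inr 1) 1)
    simp only [Cocycle.B, cMinus, Pi.single_apply, Sum.inl.injEq, Sum.inr.injEq, reduceCtorEq,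
      if_false, mul_zero, zero_mul, Finset.sum_const_zero, zero_add, add_zero, if_true,
      mul_one, one_mul, Fin.isValue, zero_ne_one, one_ne_zero] at h0 h1
    have e0 := zmod2_add_self (u (Sum.inr 0))
    have e1 := zmod2_add_self (u (Sum.inr 1))
    fin_cases j
    · change u (Sum.inr 0) = 0
      linear_combination h1 - e1
    · change u (Sum.inr 1) = 0
      linear_combination h0 - e0

end

section
variable {ι : Type} [Fintype ι] [DecidableEq ι]

/-- additive maps into `ZMod 2` scale along `Pi.single`. -/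
theorem add_single (f : (ι → ZMod 2) → ZMod 2) (hf : ∀ u v, f (u + v) = f u + f v)
    (i : ι) (a : ZMod 2) : f (Pi.single i a) = a * f (Pi.single i 1) := by
  have h0 : f 0 = 0 := by
    have := hf 0 0
    rw [add_zero] at this
    exact left_eq_add.mp this
  have : a = 0 ∨ a = 1 := by
    fin_cases a
    · left; rfl
    · right; rfl
  rcases this with rfl | rfl
  · rw [Pi.single_zero, h0, zero_mul]
  · rw [one_mul]

theorem add_expand (f : (ι → ZMod 2) → ZMod 2) (hf : ∀ u v, f (u + v) = f u + f v)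
    (v : ι → ZMod 2) : f v = ∑ i, v i * f (Pi.single i 1) := by
  let F : (ι → ZMod 2) →+ ZMod 2 := AddMonoidHom.mk' f hf
  have h1 : f v = F (∑ i, Pi.single i (v i)) := by
    rw [Finset.univ_sum_single]; rfl
  rw [h1, map_sum]
  apply Finset.sum_congr rfl
  intro i _
  exact add_single f hf i (v i)

/-- An alternating biadditive form over `ZMod 2` is the polarisation of a quadratic map. -/
theorem exists_quadratic (γ : (ι → ZMod 2) → (ι → ZMod 2) → ZMod 2)
    (hl : ∀ u v w, γ (u + v) w = γ u w + γ v w) (hr : ∀ u v w, γ u (v + w) = γ u v + γ u w)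
    (halt : ∀ v, γ v v = 0) :
    ∃ κ : (ι → ZMod 2) → ZMod 2, ∀ v w, κ (v + w) = κ v + κ w + γ v w := by
  let G : ι → ι → ZMod 2 := fun i j => γ (Pi.single i 1) (Pi.single j 1)
  have hGii : ∀ i, G i i = 0 := fun i => halt _
  have hGsymm : ∀ i j, G i j = G j i := by
    intro i j
    have h := halt (Pi.single i 1 + Pi.single j 1)
    rw [hl, hr, hr, halt, halt, zero_add, add_zero] at h
    have e := zmod2_add_self (G j i)
    change G i j + G j i = 0 at h
    linear_combination h - e
  have hexp : ∀ v w, γ v w = ∑ i, ∑ j, v i * w j * G i j := by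
    intro v w
    rw [add_expand (fun v => γ v w) (fun u v => hl u v w) v]
    apply Finset.sum_congr rfl
    intro i _
    rw [add_expand (fun w => γ (Pi.single i 1) w) (fun u v => hr _ u v) w, Finset.mul_sum]
    apply Finset.sum_congr rfl
    intro j _
    ring
  let r : ι → ℕ := fun i => (Fintype.equivFin ι i).val
  have hr_inj : ∀ i j, r i = r j → i = j := by
    intro i j h
    exact (Fintype.equivFin ι).injective (Fin.ext h)
  let δ : (ι → ZMod 2) → (ι → ZMod 2) → ZMod 2 :=
    fun v w => ∑ i, ∑ j, if r i < r j then v i * w j * G i j else 0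
  have hδl : ∀ u v w, δ (u + v) w = δ u w + δ v w := by
    intro u v w
    simp only [δ, ← Finset.sum_add_distrib]
    apply Finset.sum_congr rfl; intro i _
    apply Finset.sum_congr rfl; intro j _
    split_ifs
    · simp only [Pi.add_apply]; ring
    · rw [add_zero]
  have hδr : ∀ u v w, δ u (v + w) = δ u v + δ u w := by
    intro u v w
    simp only [δ, ← Finset.sum_add_distrib]
    apply Finset.sum_congr rfl; intro i _
    apply Finset.sum_congr rfl; intro j _
    split_ifs
    · simp only [Pi.add_apply]; ring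
    · rw [add_zero]
  have hδγ : ∀ v w, δ v w + δ w v = γ v w := by
    intro v w
    have h1 : δ w v = ∑ i, ∑ j, if r j < r i then v i * w j * G i j else 0 := by
      simp only [δ]
      rw [Finset.sum_comm]
      apply Finset.sum_congr rfl; intro i _
      apply Finset.sum_congr rfl; intro j _
      split_ifs
      · rw [hGsymm j i]; ring
      · rfl
    rw [h1, hexp]
    simp only [δ, ← Finset.sum_add_distrib]
    apply Finset.sum_congr rfl; intro i _
    apply Finset.sum_congr rfl; intro j _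
    rcases lt_trichotomy (r i) (r j) with h | h | h
    · rw [if_pos h, if_neg (by omega), add_zero]
    · have := hr_inj i j h
      subst this
      simp [hGii]
    · rw [if_neg (by omega), if_pos h, zero_add]
  refine ⟨fun v => δ v v, ?_⟩
  intro v w
  simp only
  rw [hδl, hδr, hδr, ← hδγ v w]
  ring


/-- Every additive functional is `B u ·` for a nondegenerate polar form. -/
theorem exists_repr (c : Cocycle ι) (hc : c.Nondeg) (lam : (ι → ZMod 2) → ZMod 2)
    (hlam : ∀ u v, lam (u + v) = lam u + lam v) : ∃ u, ∀ v, lam v = c.B u v := by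
  let res : ((ι → ZMod 2) →+ ZMod 2) → (ι → ZMod 2) := fun f i => f (Pi.single i 1)
  have hres : Function.Injective res := by
    intro f g hfg
    apply DFunLike.ext
    intro v
    rw [add_expand f (map_add f) v, add_expand g (map_add g) v]
    apply Finset.sum_congr rfl
    intro i _
    have := congrFun hfg i
    simp only [res] at this
    rw [this]
  have hfin : Finite ((ι → ZMod 2) →+ ZMod 2) := Finite.of_injective res hres
  let Ψ : (ι → ZMod 2) → ((ι → ZMod 2) →+ ZMod 2) :=
    fun u => AddMonoidHom.mk' (fun v => c.B u v) (fun v w => c.B_add_right u v w)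
  have hΨ : Function.Injective Ψ := by
    intro u u' h
    have h1 : ∀ v, c.B (u + u') v = 0 := by
      intro v
      rw [c.B_add_left]
      have := DFunLike.congr_fun h v
      change c.B u v = c.B u' v at this
      rw [this]
      exact zmod2_add_self _
    have h2 := hc _ h1
    have h3 : u + u' + u' = u' := by rw [h2, zero_add]
    rw [add_assoc, vec_add_self, add_zero] at h3
    exact h3
  have hbij := hΨ.bijective_of_nat_card_le (Nat.card_le_card_of_injective res hres)
  obtain ⟨u, hu⟩ := hbij.2 (AddMonoidHom.mk' lam hlam)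
  refine ⟨u, fun v => ?_⟩
  have := DFunLike.congr_fun hu v
  exact this.symm

end

section
variable {ι : Type} [Fintype ι] [DecidableEq ι] {c : Cocycle ι}

namespace QG

theorem central_eq (a : ZMod 2) : (⟨a, 0⟩ : QG c) = 1 ∨ (⟨a, 0⟩ : QG c) = z c :=
  eq_one_or_z _ rfl

/-- automorphisms fix the central elements -/
theorem aut_central (hc : c.Nondeg) (φ : MulAut (QG c)) (a : ZMod 2) :
    φ ⟨a, 0⟩ = ⟨a, 0⟩ := by
  have hz : φ (z c) = z c := by
    have hmem : φ (z c) ∈ Subgroup.center (QG c) := by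
      rw [Subgroup.mem_center_iff]
      intro y
      obtain ⟨y', rfl⟩ := φ.surjective y
      rw [← map_mul, ← map_mul]
      congr 1
      have : z c ∈ Subgroup.center (QG c) := (mem_center_iff hc _).mpr rfl
      exact Subgroup.mem_center_iff.mp this y'
    rw [mem_center_iff hc] at hmem
    rcases eq_one_or_z _ hmem with h | h
    · exfalso
      rw [← map_one φ] at h
      exact z_ne_one (φ.injective h)
    · exact h
  rcases central_eq (c := c) a with h | h
  · rw [h, map_one]
  · rw [h, hz]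

theorem split (x : QG c) : x = (⟨x.a, 0⟩ : QG c) * ⟨0, x.v⟩ := by
  ext
  · simp [c.zero_left]
  · simp

/-- the induced map on `ι → ZMod 2` -/
def lin (φ : MulAut (QG c)) (v : ι → ZMod 2) : ι → ZMod 2 := (φ ⟨0, v⟩).v

theorem aut_v (hc : c.Nondeg) (φ : MulAut (QG c)) (x : QG c) : (φ x).v = lin φ x.v := by
  conv_lhs => rw [split x]
  rw [map_mul, aut_central hc]
  simp [lin]

theorem lin_add (hc : c.Nondeg) (φ : MulAut (QG c)) (v w : ι → ZMod 2) :
    lin φ (v + w) = lin φ v + lin φ w := by
  have h := aut_v hc φ ((⟨0, v⟩ : QG c) * ⟨0, w⟩)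
  rw [map_mul] at h
  simp only [mul_v] at h
  exact h.symm

theorem lin_mul (hc : c.Nondeg) (φ ψ : MulAut (QG c)) (v : ι → ZMod 2) :
    lin (φ * ψ) v = lin φ (lin ψ v) := by
  unfold lin
  rw [MulAut.mul_apply]
  exact aut_v hc φ _

theorem lin_one (v : ι → ZMod 2) : lin (1 : MulAut (QG c)) v = v := rfl

theorem lin_Q (hc : c.Nondeg) (φ : MulAut (QG c)) (v : ι → ZMod 2) :
    c.Q (lin φ v) = c.Q v := by
  have h := map_pow φ (⟨0, v⟩ : QG c) 2
  rw [sq_eq, sq_eq, aut_central hc] at h
  have := congrArg QG.a h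
  exact this.symm

/-- the induced linear map -/
def linMap (hc : c.Nondeg) (φ : MulAut (QG c)) : (ι → ZMod 2) →ₗ[ZMod 2] (ι → ZMod 2) :=
  (AddMonoidHom.mk' (lin φ) (lin_add hc φ)).toZModLinearMap 2

theorem linMap_apply (hc : c.Nondeg) (φ : MulAut (QG c)) (v : ι → ZMod 2) :
    linMap hc φ v = lin φ v := rfl

theorem linMap_mul (hc : c.Nondeg) (φ ψ : MulAut (QG c)) :
    linMap hc (φ * ψ) = linMap hc φ ∘ₗ linMap hc ψ := by
  apply LinearMap.ext
  intro v
  simp only [LinearMap.comp_apply, linMap_apply]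
  exact lin_mul hc φ ψ v

theorem linMap_one (hc : c.Nondeg) : linMap hc (1 : MulAut (QG c)) = LinearMap.id := by
  apply LinearMap.ext
  intro v
  rfl

/-- the induced matrix, as a homomorphism to `GL`. -/
noncomputable def toGL (hc : c.Nondeg) : MulAut (QG c) →* Matrix.GeneralLinearGroup ι (ZMod 2) where
  toFun φ := ⟨LinearMap.toMatrix' (linMap hc φ), LinearMap.toMatrix' (linMap hc φ⁻¹), by
      rw [← LinearMap.toMatrix'_comp, ← linMap_mul, mul_inv_cancel, linMap_one,
        LinearMap.toMatrix'_id], by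
      rw [← LinearMap.toMatrix'_comp, ← linMap_mul, inv_mul_cancel, linMap_one,
        LinearMap.toMatrix'_id]⟩
  map_one' := by
    apply Units.ext
    simp only [linMap_one, LinearMap.toMatrix'_id]
    rfl
  map_mul' φ ψ := by
    apply Units.ext
    simp only [linMap_mul, LinearMap.toMatrix'_comp]
    rfl

theorem toGL_mulVec (hc : c.Nondeg) (φ : MulAut (QG c)) (v : ι → ZMod 2) :
    ((toGL hc φ : Matrix.GeneralLinearGroup ι (ZMod 2)) : Matrix ι ι (ZMod 2)).mulVec v
      = lin φ v := by
  change (LinearMap.toMatrix' (linMap hc φ)).mulVec v = _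
  rw [LinearMap.toMatrix'_mulVec]
  rfl

end QG

end

section
variable {ι : Type} [Fintype ι] [DecidableEq ι] {c : Cocycle ι}

namespace QG

theorem mem_isometryGroup_iff (Q : (ι → ZMod 2) → ZMod 2)
    (g : Matrix.GeneralLinearGroup ι (ZMod 2)) :
    g ∈ Cfsg.isometryGroup (ZMod 2) Q ↔
      ∀ u, Q ((g : Matrix ι ι (ZMod 2)).mulVec u) = Q u := by
  unfold Cfsg.isometryGroup Cfsg.preserving
  simp only [Subgroup.mem_mk, Submonoid.mem_mk, Subsemigroup.mem_mk, Set.mem_ofPred_eq,
    Units.coeHom_apply]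
  constructor
  · intro h u; exact h u u
  · intro h u _; exact h u

theorem toGL_mem (hc : c.Nondeg) (Q : (ι → ZMod 2) → ZMod 2) (hQ : ∀ v, Q v = c.β v v)
    (φ : MulAut (QG c)) : toGL hc φ ∈ Cfsg.isometryGroup (ZMod 2) Q := by
  rw [mem_isometryGroup_iff]
  intro u
  rw [toGL_mulVec, hQ, hQ]
  exact lin_Q hc φ u

/-- conjugation does not move the vector part -/
theorem conj_v (y x : QG c) : (y * x * y⁻¹).v = x.v := by
  simp only [mul_v, inv_v]
  funext i
  have := zmod2_add_self (y.v i)
  simp only [Pi.add_apply]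
  linear_combination this

theorem conj_a (y x : QG c) : (y * x * y⁻¹).a = x.a + c.B y.v x.v := by
  simp only [mul_a, mul_v, inv_a, inv_v, c.add_left, Cocycle.B]
  have := zmod2_add_self (c.β y.v y.v)
  have h2 := zmod2_add_self y.a
  linear_combination this + h2

theorem toGL_eq_one_iff (hc : c.Nondeg) (φ : MulAut (QG c)) :
    toGL hc φ = 1 ↔ ∀ v, lin φ v = v := by
  constructor
  · intro h v
    rw [← toGL_mulVec hc, h]
    simp
  · intro h
    apply Units.ext
    change LinearMap.toMatrix' (linMap hc φ) = 1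
    have : linMap hc φ = LinearMap.id := by
      apply LinearMap.ext
      intro v
      exact h v
    rw [this, LinearMap.toMatrix'_id]

theorem ker_toGL (hc : c.Nondeg) : (toGL hc).ker = Cfsg.Inn (QG c) := by
  ext φ
  rw [MonoidHom.mem_ker, toGL_eq_one_iff]
  constructor
  · intro h
    -- φ ⟨a, v⟩ = ⟨a + lam v, v⟩
    let lam : (ι → ZMod 2) → ZMod 2 := fun v => (φ ⟨0, v⟩).a
    have hφ : ∀ x : QG c, φ x = ⟨x.a + lam x.v, x.v⟩ := by
      intro x
      conv_lhs => rw [split x]
      rw [map_mul, aut_central hc]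
      refine QG.ext ?_ ?_
      · simp only [mul_a, lam]
        rw [c.zero_left, add_zero]
      · simp only [mul_v, zero_add]
        exact h x.v
    have hlam : ∀ u v, lam (u + v) = lam u + lam v := by
      intro u v
      have h1 := map_mul φ (⟨0, u⟩ : QG c) ⟨0, v⟩
      rw [hφ, hφ, hφ] at h1
      have h2 := congrArg QG.a h1
      simp only [mul_a, mul_v, zero_add] at h2
      linear_combination h2
    obtain ⟨u, hu⟩ := exists_repr c hc lam hlam
    refine ⟨⟨0, u⟩, ?_⟩
    apply MulEquiv.ext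
    intro x
    refine QG.ext ?_ ?_
    · rw [MulAut.conj_apply, conj_a, hφ, hu]
    · rw [MulAut.conj_apply, conj_v, hφ]
  · rintro ⟨y, rfl⟩ v
    unfold lin
    rw [MulAut.conj_apply, conj_v]

end QG

end

section
variable {ι : Type} [Fintype ι] [DecidableEq ι] {c : Cocycle ι}

namespace QG

/-- every isometry lifts to an automorphism -/
theorem exists_lift (hc : c.Nondeg) (Q : (ι → ZMod 2) → ZMod 2) (hQ : ∀ v, Q v = c.β v v)
    (g : Matrix.GeneralLinearGroup ι (ZMod 2)) (hg : g ∈ Cfsg.isometryGroup (ZMod 2) Q) :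
    ∃ φ : MulAut (QG c), toGL hc φ = g := by
  rw [mem_isometryGroup_iff] at hg
  let T : (ι → ZMod 2) → (ι → ZMod 2) := fun v => (g : Matrix ι ι (ZMod 2)).mulVec v
  have hTadd : ∀ u v, T (u + v) = T u + T v := fun u v => Matrix.mulVec_add _ u v
  have hTinj : Function.Injective T := by
    intro u v h
    have h2 := congrArg (fun w => ((g⁻¹ : Matrix.GeneralLinearGroup ι (ZMod 2)) :
      Matrix ι ι (ZMod 2)).mulVec w) h
    simp only [T, Matrix.mulVec_mulVec] at h2
    rw [← Matrix.GeneralLinearGroup.coe_mul, inv_mul_cancel] at h2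
    simpa using h2
  let γ : (ι → ZMod 2) → (ι → ZMod 2) → ZMod 2 := fun v w => c.β (T v) (T w) + c.β v w
  have hγl : ∀ u v w, γ (u + v) w = γ u w + γ v w := by
    intro u v w
    simp only [γ, hTadd, c.add_left]; ring
  have hγr : ∀ u v w, γ u (v + w) = γ u v + γ u w := by
    intro u v w
    simp only [γ, hTadd, c.add_right]; ring
  have hγalt : ∀ v, γ v v = 0 := by
    intro v
    simp only [γ]
    rw [← hQ, ← hQ, hg]
    exact zmod2_add_self _
  obtain ⟨κ, hκ⟩ := exists_quadratic γ hγl hγr hγalt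
  let φ₀ : QG c →* QG c := MonoidHom.mk' (fun x => ⟨x.a + κ x.v, T x.v⟩) (by
    intro x y
    refine QG.ext ?_ ?_
    · simp only [mul_a, mul_v, hκ, γ]
      have := zmod2_add_self (c.β x.v y.v)
      linear_combination this
    · simp only [mul_v, hTadd])
  have hinj : Function.Injective φ₀ := by
    intro x y h
    have h1 : T x.v = T y.v := congrArg QG.v h
    have h2 : x.v = y.v := hTinj h1
    have h3 : x.a + κ x.v = y.a + κ y.v := congrArg QG.a h
    rw [h2] at h3
    exact QG.ext (add_right_cancel h3) h2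
  have hbij : Function.Bijective φ₀ := Finite.injective_iff_bijective.mp hinj
  refine ⟨MulEquiv.ofBijective φ₀ hbij, ?_⟩
  apply Units.ext
  change LinearMap.toMatrix' (linMap hc (MulEquiv.ofBijective φ₀ hbij)) = (g : Matrix ι ι (ZMod 2))
  have : linMap hc (MulEquiv.ofBijective φ₀ hbij) = Matrix.toLin' (g : Matrix ι ι (ZMod 2)) := by
    apply LinearMap.ext
    intro v
    rw [Matrix.toLin'_apply]
    rfl
  rw [this, LinearMap.toMatrix'_toLin']

/-- `Out` of the model group is the isometry group of its quadratic form. -/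
theorem nonempty_out_equiv (hc : c.Nondeg) (Q : (ι → ZMod 2) → ZMod 2)
    (hQ : ∀ v, Q v = c.β v v) :
    Nonempty (Cfsg.Out (QG c) ≃* Cfsg.isometryGroup (ZMod 2) Q) := by
  let Θ : MulAut (QG c) →* Cfsg.isometryGroup (ZMod 2) Q :=
    (toGL hc).codRestrict _ (toGL_mem hc Q hQ)
  have hsurj : Function.Surjective Θ := by
    rintro ⟨g, hg⟩
    obtain ⟨φ, hφ⟩ := exists_lift hc Q hQ g hg
    exact ⟨φ, Subtype.ext hφ⟩
  have hker : Θ.ker = Cfsg.Inn (QG c) := by
    rw [← ker_toGL hc]
    ext φ
    simp only [MonoidHom.mem_ker]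
    constructor
    · intro h
      exact congrArg Subtype.val h
    · intro h
      exact Subtype.ext h
  exact ⟨(QuotientGroup.quotientMulEquivOfEq hker.symm).trans
    (QuotientGroup.quotientKerEquivOfSurjective Θ hsurj)⟩

end QG

end

section
/-- `Out` is invariant under isomorphism. -/
theorem nonempty_out_congr {E E' : Type*} [Group E] [Group E'] (e : E ≃* E') :
    Nonempty (Cfsg.Out E ≃* Cfsg.Out E') := by
  refine ⟨QuotientGroup.congr (Cfsg.Inn E) (Cfsg.Inn E') (MulAut.congr e) ?_⟩
  ext ψ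
  constructor
  · rintro ⟨_, ⟨g, rfl⟩, rfl⟩
    refine ⟨e g, ?_⟩
    apply MulEquiv.ext
    intro x
    simp [MulAut.congr, MulAut.conj_apply]
  · rintro ⟨g', rfl⟩
    refine ⟨MulAut.conj (e.symm g'), ⟨_, rfl⟩, ?_⟩
    apply MulEquiv.ext
    intro x
    simp [MulAut.congr, MulAut.conj_apply]

theorem plus_case {E : Type*} [Group E] [Finite E] (hE : Cfsg.IsExtraspecial 2 E) (n : ℕ)
    (hn : 1 ≤ n) (hcard : Nat.card E = 2 ^ (2 * n + 1))
    (hcount : Nat.card {x : E // x ^ 2 = 1} = 2 ^ (2 * n) + 2 ^ n) :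
    Nonempty (Cfsg.Out E ≃* Cfsg.isometryGroup (ZMod 2) (Cfsg.quadFormPlus n (ZMod 2))) := by
  have hne : Nonempty (Fin n ⊕ Fin n) := ⟨Sum.inl ⟨0, hn⟩⟩
  have hE' := QG.isExtraspecial (cPlus_nondeg n)
  have hc' : Nat.card (QG (cPlus n)) = Nat.card E := by
    rw [QG.card_eq, hcard, Fintype.card_sum, Fintype.card_fin, two_mul]
  have hn' : Nat.card {x : QG (cPlus n) // x ^ 2 = 1} = Nat.card {x : E // x ^ 2 = 1} := by
    rw [QG.card_sq_eq_one, hcount]
    exact card_zero_plus n
  obtain ⟨e⟩ := nonempty_mulEquiv_of_card_sq hE hE' hc' hn'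
  obtain ⟨f⟩ := nonempty_out_congr e
  obtain ⟨g⟩ := QG.nonempty_out_equiv (cPlus_nondeg n) (Cfsg.quadFormPlus n (ZMod 2))
    (cPlus_Q n)
  exact ⟨f.trans g⟩

theorem minus_case {E : Type*} [Group E] [Finite E] (hE : Cfsg.IsExtraspecial 2 E) (n : ℕ)
    (hn : 1 ≤ n) (hcard : Nat.card E = 2 ^ (2 * n + 1))
    (hcount : Nat.card {x : E // x ^ 2 = 1} + 2 ^ n = 2 ^ (2 * n)) :
    Nonempty (Cfsg.Out E ≃*
      Cfsg.isometryGroup (ZMod 2) (Cfsg.quadFormMinus (n - 1) (ZMod 2) 1 1)) := by
  obtain ⟨m, rfl⟩ : ∃ m, n = m + 1 := ⟨n - 1, by omega⟩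
  rw [Nat.add_sub_cancel]
  have hne : Nonempty ((Fin m ⊕ Fin m) ⊕ Fin 2) := ⟨Sum.inr 0⟩
  have hE' := QG.isExtraspecial (cMinus_nondeg m)
  have hc' : Nat.card (QG (cMinus m)) = Nat.card E := by
    rw [QG.card_eq, hcard, Fintype.card_sum, Fintype.card_sum, Fintype.card_fin, Fintype.card_fin]
    congr 1; ring
  have hn' : Nat.card {x : QG (cMinus m) // x ^ 2 = 1} = Nat.card {x : E // x ^ 2 = 1} := by
    rw [QG.card_sq_eq_one]
    have h1 : Nat.card {v : (Fin m ⊕ Fin m) ⊕ Fin 2 → ZMod 2 // (cMinus m).Q v = 0} =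
        Nat.card {v : (Fin m ⊕ Fin m) ⊕ Fin 2 → ZMod 2 //
          Cfsg.quadFormMinus m (ZMod 2) 1 1 v = 0} := by
      apply Nat.card_congr
      apply Equiv.subtypeEquivRight
      intro v
      rw [cMinus_Q]
      rfl
    rw [h1]
    have := card_zero_minus m
    omega
  obtain ⟨e⟩ := nonempty_mulEquiv_of_card_sq hE hE' hc' hn'
  obtain ⟨f⟩ := nonempty_out_congr e
  obtain ⟨g⟩ := QG.nonempty_out_equiv (cMinus_nondeg m) (Cfsg.quadFormMinus m (ZMod 2) 1 1)
    (cMinus_Q m)
  exact ⟨f.trans g⟩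

end

section
theorem count_dichotomy {E : Type*} [Group E] [Finite E] (hE : Cfsg.IsExtraspecial 2 E) (n : ℕ)
    (hcard : Nat.card E = 2 ^ (2 * n + 1)) :
    ((∃ A : Subgroup E, Cfsg.IsElementaryAbelian 2 A ∧ Nat.card ↥A = 2 ^ (n + 1)) →
        Nat.card {x : E // x ^ 2 = 1} = 2 ^ (2 * n) + 2 ^ n) ∧
      ((¬ ∃ A : Subgroup E, Cfsg.IsElementaryAbelian 2 A ∧ Nat.card ↥A = 2 ^ (n + 1)) →
        Nat.card {x : E // x ^ 2 = 1} + 2 ^ n = 2 ^ (2 * n)) := by
  have : Fact (Nat.Prime 2) := ⟨Nat.prime_two⟩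
  rw [← invCount_top]
  constructor
  · rintro ⟨A, ⟨hAc, hA2⟩, hAcard⟩
    rcases rank_dichotomy hE n hcard with ⟨h1, _, _⟩ | ⟨_, _, h3, _⟩
    · exact h1
    · exfalso
      have := h3 A hAc hA2
      rw [hAcard] at this
      have := Nat.pow_lt_pow_right (by norm_num : 1 < 2) (Nat.lt_succ_self n)
      omega
  · intro hno
    rcases rank_dichotomy hE n hcard with ⟨_, h2, h3⟩ | ⟨_, h2, _, _⟩
    · exfalso
      apply h3
      intro A hAc hA2
      by_contra hlt
      push Not at hlt
      have hle := h2 A hAc hA2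
      have hpA : IsPGroup 2 A := hE.1.1.to_subgroup A
      obtain ⟨k, hk⟩ := hpA.exists_card_eq
      rw [hk] at hlt hle
      have h4 : n < k := (Nat.pow_lt_pow_iff_right (by norm_num : 1 < 2)).mp hlt
      have h5 : k ≤ n + 1 := (Nat.pow_le_pow_iff_right (by norm_num : 1 < 2)).mp hle
      have h6 : k = n + 1 := by omega
      exact hno ⟨A, ⟨hAc, hA2⟩, by rw [hk, h6]⟩
    · exact h2

theorem out_extraspecial {E : Type*} [Group E] [Finite E] (hE : Cfsg.IsExtraspecial 2 E) (n : ℕ)
    (hn : 1 ≤ n) (hcard : Nat.card E = 2 ^ (2 * n + 1)) :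
    ((∃ A : Subgroup E, Cfsg.IsElementaryAbelian 2 A ∧ Nat.card ↥A = 2 ^ (n + 1)) →
      Nonempty (Cfsg.Out E ≃* Cfsg.isometryGroup (ZMod 2) (Cfsg.quadFormPlus n (ZMod 2)))) ∧
    ((¬ ∃ A : Subgroup E, Cfsg.IsElementaryAbelian 2 A ∧ Nat.card ↥A = 2 ^ (n + 1)) →
      Nonempty (Cfsg.Out E ≃*
        Cfsg.isometryGroup (ZMod 2) (Cfsg.quadFormMinus (n - 1) (ZMod 2) 1 1))) := by
  obtain ⟨h1, h2⟩ := count_dichotomy hE n hcard
  exact ⟨fun hA => plus_case hE n hn hcard (h1 hA), fun hA => minus_case hE n hn hcard (h2 hA)⟩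

end

end Cfsg.Agent.Lib.Helper1.ESOut
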