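import Mathlib
import Cfsg.Agent.Lib.Helper1.ExtraspecialOut

set_option autoImplicit false

open Cfsg.Agent.Lib.Helper1.ESOut

namespace Cfsg.Agent.Lib.Helper1.ESRep

section mats
variable {n : ℕ}

/-- index set of the Fock space -/
abbrev S (n : ℕ) := Fin n → ZMod 2

/-- sign character into `ZMod 3` -/
def sgn (t : ZMod 2) : ZMod 3 := if t = 0 then 1 else -1

theorem sgn_add : ∀ s t : ZMod 2, sgn (s + t) = sgn s * sgn t := by decide

theorem sgn_zero : sgn 0 = 1 := rfl

theorem sgn_one : sgn 1 = -1 := rfl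

theorem sgn_mul_self : ∀ t : ZMod 2, sgn t * sgn t = 1 := by decide

theorem sgn_ne_zero : ∀ t : ZMod 2, sgn t ≠ 0 := by decide

/-- dot product on `S n` -/
def dot (w s : S n) : ZMod 2 := ∑ i, w i * s i

theorem dot_comm (w s : S n) : dot w s = dot s w := by
  unfold dot; exact Finset.sum_congr rfl (fun i _ => mul_comm _ _)

theorem dot_add_right (w s t : S n) : dot w (s + t) = dot w s + dot w t := by
  unfold dot; simp only [Pi.add_apply, mul_add, Finset.sum_add_distrib]

theorem dot_add_left (w w' s : S n) : dot (w + w') s = dot w s + dot w' s := by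
  unfold dot; simp only [Pi.add_apply, add_mul, Finset.sum_add_distrib]

theorem dot_zero_left (s : S n) : dot 0 s = 0 := by
  unfold dot; simp

theorem dot_zero_right (s : S n) : dot s 0 = 0 := by
  unfold dot; simp

theorem dot_single (w : S n) (i : Fin n) : dot w (Pi.single i 1) = w i := by
  unfold dot
  simp [Pi.single_apply]

theorem add_self_S (s : S n) : s + s = 0 := by
  funext i; exact CharTwo.add_self_eq_zero (s i)

theorem eq_add_iff (s t u : S n) : t = s + u ↔ s = t + u := by
  constructor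
  · rintro rfl; rw [add_assoc, add_self_S, add_zero]
  · rintro rfl; rw [add_assoc, add_self_S, add_zero]

/-- the matrix of `x^u y^w z^a` -/
def Mat (a : ZMod 2) (u w : S n) : Matrix (S n) (S n) (ZMod 3) :=
  Matrix.of fun s t => if t = s + u then sgn (a + dot w s) else 0

theorem Mat_apply (a : ZMod 2) (u w s t : S n) :
    Mat a u w s t = if t = s + u then sgn (a + dot w s) else 0 := rfl

theorem Mat_mul (a a' : ZMod 2) (u u' w w' : S n) :
    Mat a u w * Mat a' u' w' = Mat (a + a' + dot w' u) (u + u') (w + w') := by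
  ext s r
  rw [Matrix.mul_apply]
  simp only [Mat_apply]
  rw [Finset.sum_eq_single (s + u)]
  · rw [if_pos rfl]
    by_cases h : r = s + (u + u')
    · rw [if_pos (by rw [h, add_assoc]), if_pos h, ← sgn_add]
      congr 1
      rw [dot_add_right, dot_add_left]
      ring
    · rw [if_neg (by rw [add_assoc]; exact h), if_neg h, mul_zero]
  · intro t _ ht
    rw [if_neg ht, zero_mul]
  · intro h; exact absurd (Finset.mem_univ _) h

theorem Mat_one : Mat (n := n) 0 0 0 = 1 := by
  ext s t
  rw [Mat_apply, Matrix.one_apply]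
  simp only [add_zero, dot_zero_left, sgn_zero]
  by_cases h : s = t
  · rw [if_pos h.symm, if_pos h]
  · rw [if_neg (fun h' => h h'.symm), if_neg h]

/-- the sum of a nontrivial character vanishes -/
theorem sum_sgn_dot (w : S n) (hw : w ≠ 0) : ∑ s : S n, sgn (dot w s) = 0 := by
  obtain ⟨i, hi⟩ : ∃ i, w i ≠ 0 := by
    by_contra h
    push Not at h
    exact hw (funext h)
  have hi1 : w i = 1 := by
    have : ∀ t : ZMod 2, t ≠ 0 → t = 1 := by decide
    exact this _ hi
  have h1 : ∑ s : S n, sgn (dot w s) = ∑ s : S n, sgn (dot w (s + Pi.single i 1)) :=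
    (Equiv.sum_comp (Equiv.addRight (Pi.single i (1 : ZMod 2) : S n))
      (fun s => sgn (dot w s))).symm
  have h2 : ∀ s : S n, sgn (dot w (s + Pi.single i 1)) = - sgn (dot w s) := by
    intro s
    rw [dot_add_right, dot_single, hi1, sgn_add, sgn_one]; ring
  rw [Finset.sum_congr rfl (fun s _ => h2 s), Finset.sum_neg_distrib] at h1
  have h3 : (2 : ZMod 3) * ∑ s : S n, sgn (dot w s) = 0 := by
    rw [two_mul]; nth_rewrite 1 [h1]; ring
  have h4 : (2 : ZMod 3) ≠ 0 := by decide
  exact (mul_eq_zero.mp h3).resolve_left h4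

theorem sum_sgn_dot' (t : S n) (ht : t ≠ 0) : ∑ w : S n, sgn (dot w t) = 0 := by
  rw [← sum_sgn_dot t ht]
  exact Finset.sum_congr rfl (fun w _ => by rw [dot_comm])

/-- `card (S n)` as an element of `ZMod 3` is a unit squaring to one -/
theorem card_S_sq : ((Fintype.card (S n) : ℕ) : ZMod 3) * (Fintype.card (S n) : ℕ) = 1 := by
  rw [Fintype.card_fun, ZMod.card, Fintype.card_fin]
  push_cast
  rw [← mul_pow]
  have : (2 : ZMod 3) * 2 = 1 := by decide
  rw [this, one_pow]

theorem trace_Mat (a : ZMod 2) (u w : S n) :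
    (Mat a u w).trace = if u = 0 ∧ w = 0 then sgn a * (Fintype.card (S n) : ℕ) else 0 := by
  unfold Matrix.trace
  simp only [Matrix.diag_apply, Mat_apply]
  by_cases hu : u = 0
  · subst hu
    simp only [add_zero, if_true, true_and]
    by_cases hw : w = 0
    · subst hw
      simp only [dot_zero_left, add_zero, if_true, Finset.sum_const, Finset.card_univ,
        nsmul_eq_mul]
      ring
    · rw [if_neg hw]
      have : ∀ s : S n, sgn (a + dot w s) = sgn a * sgn (dot w s) := fun s => sgn_add _ _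
      rw [Finset.sum_congr rfl (fun s _ => this s), ← Finset.mul_sum, sum_sgn_dot w hw, mul_zero]
  · rw [if_neg (fun h => hu h.1)]
    apply Finset.sum_eq_zero
    intro s _
    rw [if_neg]
    intro h
    apply hu
    have : s + 0 = s + u := by rw [add_zero]; exact h
    exact (add_left_cancel this).symm

end mats

section rep
variable {n : ℕ}

/-- the model extraspecial group of plus type -/
abbrev Q0 (n : ℕ) := QG (cPlus n)

def inlv (v : Fin n ⊕ Fin n → ZMod 2) : S n := fun i => v (Sum.inl i)
def inrv (v : Fin n ⊕ Fin n → ZMod 2) : S n := fun i => v (Sum.inr i)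

theorem inlv_add (v w : Fin n ⊕ Fin n → ZMod 2) : inlv (v + w) = inlv v + inlv w := rfl
theorem inrv_add (v w : Fin n ⊕ Fin n → ZMod 2) : inrv (v + w) = inrv v + inrv w := rfl

theorem eq_zero_of_inlv_inrv {v : Fin n ⊕ Fin n → ZMod 2} (h1 : inlv v = 0) (h2 : inrv v = 0) :
    v = 0 := by
  funext k
  rcases k with i | i
  · exact congrFun h1 i
  · exact congrFun h2 i

theorem cPlus_beta (v w : Fin n ⊕ Fin n → ZMod 2) : (cPlus n).β v w = dot (inrv w) (inlv v) := by
  change ∑ i : Fin n, v (Sum.inl i) * w (Sum.inr i) = ∑ i : Fin n, w (Sum.inr i) * v (Sum.inl i)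
  exact Finset.sum_congr rfl (fun i _ => mul_comm (v (Sum.inl i)) (w (Sum.inr i)))

/-- the representation on the Fock space -/
def rho (x : Q0 n) : Matrix (S n) (S n) (ZMod 3) := Mat x.a (inlv x.v) (inrv x.v)

theorem rho_mk (a : ZMod 2) (u w : S n) : rho (⟨a, Sum.elim u w⟩ : Q0 n) = Mat a u w := rfl

theorem rho_mul (x y : Q0 n) : rho (x * y) = rho x * rho y := by
  unfold rho
  rw [Mat_mul, QG.mul_a, QG.mul_v, inlv_add, inrv_add, cPlus_beta]

theorem rho_one : rho (1 : Q0 n) = 1 := by
  unfold rho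
  exact Mat_one

/-- `rho` as a monoid homomorphism -/
def rhoHom (n : ℕ) : Q0 n →* Matrix (S n) (S n) (ZMod 3) where
  toFun := rho
  map_one' := rho_one
  map_mul' := rho_mul

/-- `rho` into the units -/
def rhoU (n : ℕ) : Q0 n →* (Matrix (S n) (S n) (ZMod 3))ˣ := (rhoHom n).toHomUnits

theorem rhoU_val (x : Q0 n) : ((rhoU n x : (Matrix (S n) (S n) (ZMod 3))ˣ) : Matrix _ _ _) = rho x :=
  rfl

theorem rho_mulVec (x : Q0 n) (f : S n → ZMod 3) (s : S n) :
    (rho x).mulVec f s = sgn (x.a + dot (inrv x.v) s) * f (s + inlv x.v) := by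
  unfold rho Matrix.mulVec dotProduct
  simp only [Mat_apply]
  rw [Finset.sum_eq_single (s + inlv x.v)]
  · rw [if_pos rfl]
  · intro t _ ht; rw [if_neg ht, zero_mul]
  · intro h; exact absurd (Finset.mem_univ _) h

theorem trace_rho (x : Q0 n) :
    (rho x).trace = if x.v = 0 then sgn x.a * (Fintype.card (S n) : ℕ) else 0 := by
  unfold rho
  rw [trace_Mat]
  by_cases h : x.v = 0
  · rw [if_pos h, if_pos]
    rw [h]; exact ⟨rfl, rfl⟩
  · rw [if_neg h, if_neg]
    rintro ⟨h1, h2⟩
    exact h (eq_zero_of_inlv_inrv h1 h2)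

theorem rho_injective : Function.Injective (rho (n := n)) := by
  intro x y h
  have hxy : rho (x * y⁻¹) = 1 := by
    rw [rho_mul, h, ← rho_mul, mul_inv_cancel, rho_one]
  have key : ∀ w : Q0 n, rho w = 1 → w = 1 := by
    intro w hw
    have hu : inlv w.v = 0 := by
      have h1 := congrFun (congrFun hw 0) 0
      unfold rho at h1
      rw [Mat_apply, Matrix.one_apply_eq] at h1
      by_contra hne
      rw [if_neg] at h1
      · exact zero_ne_one h1
      · rw [zero_add]; exact fun h => hne h.symm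
    have hent : ∀ s : S n, sgn (w.a + dot (inrv w.v) s) = 1 := by
      intro s
      have h1 := congrFun (congrFun hw s) s
      unfold rho at h1
      rw [Mat_apply, Matrix.one_apply_eq, hu, add_zero, if_pos rfl] at h1
      exact h1
    have hsg : ∀ t : ZMod 2, sgn t = 1 → t = 0 := by decide
    have ha : w.a = 0 := by
      have := hsg _ (hent 0)
      rwa [dot_zero_right, add_zero] at this
    have hw' : inrv w.v = 0 := by
      funext i
      have := hsg _ (hent (Pi.single i 1))
      rw [ha, zero_add, dot_single] at this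
      exact this
    ext
    · exact ha
    · rw [eq_zero_of_inlv_inrv hu hw']; rfl
  have := key _ hxy
  exact mul_inv_eq_one.mp this

/-- an intertwiner that is nonzero is invertible (irreducibility) -/
theorem isUnit_of_intertwine (g : Matrix (S n) (S n) (ZMod 3)) (α : Q0 n → Q0 n)
    (h : ∀ x, g * rho x = rho (α x) * g) (hg : g ≠ 0) : IsUnit g := by
  rw [← Matrix.mulVec_injective_iff_isUnit]
  have hker : ∀ f : S n → ZMod 3, g.mulVec f = 0 → ∀ x : Q0 n, g.mulVec ((rho x).mulVec f) = 0 := by
    intro f hf x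
    rw [Matrix.mulVec_mulVec, h, ← Matrix.mulVec_mulVec, hf, Matrix.mulVec_zero]
  have hzero : ∀ f : S n → ZMod 3, g.mulVec f = 0 → f = 0 := by
    intro f hf
    by_contra hne
    obtain ⟨s₀, hs₀⟩ : ∃ s, f s ≠ 0 := by
      by_contra hcon
      push Not at hcon
      exact hne (funext hcon)
    -- the delta function at `s₀` is in the kernel
    have hdelta : g.mulVec (Pi.single s₀ 1) = 0 := by
      have h1 : g.mulVec (∑ w : S n, sgn (dot w s₀) •
          (rho (⟨0, Sum.elim 0 w⟩ : Q0 n)).mulVec f) = 0 := by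
        rw [Matrix.mulVec_sum]
        apply Finset.sum_eq_zero
        intro w _
        rw [Matrix.mulVec_smul, hker f hf, smul_zero]
      have h2 : (∑ w : S n, sgn (dot w s₀) • (rho (⟨0, Sum.elim 0 w⟩ : Q0 n)).mulVec f)
          = (((Fintype.card (S n) : ℕ) : ZMod 3) * f s₀) • (Pi.single s₀ 1 : S n → ZMod 3) := by
        funext s
        rw [Finset.sum_apply]
        simp only [Pi.smul_apply, smul_eq_mul, rho_mulVec]
        have hterm : ∀ w : S n, sgn (dot w s₀) *
            (sgn ((⟨0, Sum.elim 0 w⟩ : Q0 n).a + dot (inrv (⟨0, Sum.elim 0 w⟩ : Q0 n).v) s) *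
              f (s + inlv (⟨0, Sum.elim 0 w⟩ : Q0 n).v)) = sgn (dot w (s₀ + s)) * f s := by
          intro w
          have e1 : (⟨0, Sum.elim 0 w⟩ : Q0 n).a = 0 := rfl
          have e2 : inrv (⟨0, Sum.elim 0 w⟩ : Q0 n).v = w := rfl
          have e3 : inlv (⟨0, Sum.elim 0 w⟩ : Q0 n).v = 0 := rfl
          rw [e1, e2, e3, zero_add, add_zero, dot_add_right, sgn_add]
          ring
        rw [Finset.sum_congr rfl (fun w _ => hterm w), ← Finset.sum_mul]
        by_cases hs : s = s₀
        · subst hs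
          rw [add_self_S]
          simp only [dot_zero_right, sgn_zero, Finset.sum_const, Finset.card_univ, nsmul_eq_mul,
            mul_one, Pi.single_eq_same]
        · have hne' : s₀ + s ≠ 0 := by
            intro h0
            apply hs
            have : s₀ + s = s₀ + s₀ := by rw [h0, add_self_S]
            exact add_left_cancel this
          rw [sum_sgn_dot' _ hne', zero_mul, Pi.single_eq_of_ne hs, mul_zero]
      rw [h2, Matrix.mulVec_smul] at h1
      have hunit : ((Fintype.card (S n) : ℕ) : ZMod 3) * f s₀ ≠ 0 := by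
        apply mul_ne_zero _ hs₀
        intro h0
        have := card_S_sq (n := n)
        rw [h0, zero_mul] at this
        exact zero_ne_one this
      exact (smul_eq_zero.mp h1).resolve_left hunit
    -- hence all delta functions, so `g = 0`
    apply hg
    ext s t
    have h3 := hker _ hdelta (⟨0, Sum.elim (t + s₀) 0⟩ : Q0 n)
    have h4 : (rho (⟨0, Sum.elim (t + s₀) 0⟩ : Q0 n)).mulVec (Pi.single s₀ 1) =
        (Pi.single t 1 : S n → ZMod 3) := by
      funext r
      rw [rho_mulVec]
      have e1 : (⟨0, Sum.elim (t + s₀) 0⟩ : Q0 n).a = 0 := rfl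
      have e2 : inrv (⟨0, Sum.elim (t + s₀) 0⟩ : Q0 n).v = 0 := rfl
      have e3 : inlv (⟨0, Sum.elim (t + s₀) 0⟩ : Q0 n).v = t + s₀ := rfl
      rw [e1, e2, e3, dot_zero_left, add_zero, sgn_zero, one_mul]
      by_cases hr : r = t
      · subst hr
        rw [← add_assoc, add_self_S, zero_add, Pi.single_eq_same, Pi.single_eq_same]
      · rw [Pi.single_eq_of_ne hr, Pi.single_eq_of_ne]
        intro h0
        apply hr
        have : r + (t + s₀) = t + (t + s₀) := by rw [h0, ← add_assoc, add_self_S, zero_add]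
        exact add_right_cancel this
    rw [h4, Matrix.mulVec_single_one] at h3
    have := congrFun h3 s
    simpa using this
  intro f f' hff'
  have : g.mulVec (f - f') = 0 := by
    rw [Matrix.mulVec_sub, hff', sub_self]
  exact sub_eq_zero.mp (hzero _ this)

end rep

section inter
variable {n : ℕ}

noncomputable instance : Fintype (Q0 n) := Fintype.ofFinite _

theorem sum_Q0 {M : Type*} [AddCommMonoid M] (F : Q0 n → M) :
    ∑ x : Q0 n, F x = ∑ a : ZMod 2, ∑ v : Fin n ⊕ Fin n → ZMod 2, F ⟨a, v⟩ := by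
  rw [← Finset.sum_product']
  exact Fintype.sum_equiv (QG.equivProd (cPlus n)) _ _ (fun x => rfl)

/-- the averaged operator -/
noncomputable def avg (α : MulAut (Q0 n)) (M : Matrix (S n) (S n) (ZMod 3)) :
    Matrix (S n) (S n) (ZMod 3) := ∑ x : Q0 n, rho (α x) * M * rho x⁻¹

theorem avg_intertwine (α : MulAut (Q0 n)) (M : Matrix (S n) (S n) (ZMod 3)) (y : Q0 n) :
    avg α M * rho y = rho (α y) * avg α M := by
  unfold avg
  rw [Matrix.sum_mul, Matrix.mul_sum]
  rw [← Equiv.sum_comp (Equiv.mulLeft y)]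
  apply Finset.sum_congr rfl
  intro x _
  simp only [Equiv.coe_mulLeft, map_mul, mul_inv_rev]
  have e : rho (x⁻¹ * y⁻¹) * rho y = rho x⁻¹ := by
    rw [← rho_mul, mul_assoc, inv_mul_cancel, mul_one]
  rw [rho_mul (α y) (α x), Matrix.mul_assoc _ _ (rho y), e]
  simp only [Matrix.mul_assoc]

theorem exists_intertwiner (α : MulAut (Q0 n)) :
    ∃ g : Matrix (S n) (S n) (ZMod 3), g ≠ 0 ∧ ∀ x, g * rho x = rho (α x) * g := by
  by_contra hcon
  push Not at hcon
  have hzero : ∀ M, avg α M = 0 := by
    intro M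
    by_contra hne
    obtain ⟨x, hx⟩ := hcon (avg α M) hne
    exact hx (avg_intertwine α M x)
  -- the double sum of entries
  have h1 : ∑ s : S n, ∑ t : S n,
      (avg α (Matrix.vecMulVec (Pi.single s 1) (Pi.single t 1))) s t = 0 := by
    apply Finset.sum_eq_zero; intro s _
    apply Finset.sum_eq_zero; intro t _
    rw [hzero]; rfl
  have h2 : ∀ s t : S n, (avg α (Matrix.vecMulVec (Pi.single s 1) (Pi.single t 1))) s t =
      ∑ x : Q0 n, rho (α x) s s * rho x⁻¹ t t := by
    intro s t
    unfold avg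
    rw [Matrix.sum_apply]
    apply Finset.sum_congr rfl
    intro x _
    rw [Matrix.mul_vecMulVec, Matrix.vecMulVec_mul, Matrix.vecMulVec_apply,
      Matrix.mulVec_single_one, Matrix.single_one_vecMul]
    rfl
  have h3 : ∑ s : S n, ∑ t : S n, ∑ x : Q0 n, rho (α x) s s * rho x⁻¹ t t =
      ∑ x : Q0 n, (rho (α x)).trace * (rho x⁻¹).trace := by
    have : ∀ s : S n, ∑ t : S n, ∑ x : Q0 n, rho (α x) s s * rho x⁻¹ t t =
        ∑ x : Q0 n, ∑ t : S n, rho (α x) s s * rho x⁻¹ t t := fun s => Finset.sum_comm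
    rw [Finset.sum_congr rfl (fun s _ => this s), Finset.sum_comm]
    apply Finset.sum_congr rfl
    intro x _
    unfold Matrix.trace
    simp only [Matrix.diag_apply]
    rw [Finset.sum_mul_sum]
  rw [Finset.sum_congr rfl (fun s _ => Finset.sum_congr rfl (fun t _ => h2 s t)), h3] at h1
  -- evaluate the trace sum
  have hN := card_S_sq (n := n)
  have h4 : ∀ (a : ZMod 2) (v : Fin n ⊕ Fin n → ZMod 2),
      (rho (α (⟨a, v⟩ : Q0 n))).trace * (rho (⟨a, v⟩ : Q0 n)⁻¹).trace =
        if v = 0 then 1 else 0 := by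
    intro a v
    by_cases hv : v = 0
    · subst hv
      rw [if_pos rfl, QG.aut_central (cPlus_nondeg n) α a, trace_rho, trace_rho]
      have e1 : ((⟨a, 0⟩ : Q0 n)⁻¹).v = 0 := rfl
      have e2 : ((⟨a, 0⟩ : Q0 n)⁻¹).a = a := by
        rw [QG.inv_a]
        simp [(cPlus n).zero_left]
      have e3 : (⟨a, 0⟩ : Q0 n).v = 0 := rfl
      have e4 : (⟨a, 0⟩ : Q0 n).a = a := rfl
      rw [if_pos e1, if_pos e3, e2, e4]
      calc sgn a * ((Fintype.card (S n) : ℕ) : ZMod 3) * (sgn a * ((Fintype.card (S n) : ℕ) : ZMod 3))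
          = (sgn a * sgn a) * (((Fintype.card (S n) : ℕ) : ZMod 3) * (Fintype.card (S n) : ℕ)) := by
            ring
        _ = 1 := by rw [sgn_mul_self, hN, mul_one]
    · rw [if_neg hv, trace_rho (⟨a, v⟩ : Q0 n)⁻¹]
      have e1 : ((⟨a, v⟩ : Q0 n)⁻¹).v = v := rfl
      rw [e1, if_neg hv, mul_zero]
  rw [sum_Q0] at h1
  simp only [h4] at h1
  simp only [Finset.sum_ite_eq', Finset.mem_univ, if_true, Finset.sum_const, Finset.card_univ,
    ZMod.card] at h1
  revert h1
  decide

/-- the commutant of `rho` consists of scalars; invertible ones are `± 1` -/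
theorem commutant (T : Matrix (S n) (S n) (ZMod 3)) (hT : ∀ x : Q0 n, T * rho x = rho x * T) :
    ∃ lam : ZMod 3, T = lam • (1 : Matrix (S n) (S n) (ZMod 3)) := by
  have hoff : ∀ s t : S n, s ≠ t → T s t = 0 := by
    intro s t hst
    obtain ⟨i, hi⟩ : ∃ i, s i ≠ t i := by
      by_contra h
      push Not at h
      exact hst (funext h)
    have h1 := congrFun (congrFun (hT (⟨0, Sum.elim 0 (Pi.single i 1)⟩ : Q0 n)) s) t
    rw [Matrix.mul_apply, Matrix.mul_apply] at h1
    have e : ∀ r r' : S n, rho (⟨0, Sum.elim 0 (Pi.single i 1)⟩ : Q0 n) r r' =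
        if r' = r then sgn (r i) else 0 := by
      intro r r'
      rw [rho_mk, Mat_apply, add_zero, zero_add, dot_comm, dot_single]
    simp only [e] at h1
    have hL : ∑ r : S n, T s r * (if t = r then sgn (r i) else 0) = T s t * sgn (t i) := by
      rw [Finset.sum_eq_single t]
      · rw [if_pos rfl]
      · intro r _ hr; rw [if_neg (fun h => hr h.symm), mul_zero]
      · intro h; exact absurd (Finset.mem_univ _) h
    have hR : ∑ r : S n, (if r = s then sgn (s i) else 0) * T r t = sgn (s i) * T s t := by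
      rw [Finset.sum_eq_single s]
      · rw [if_pos rfl]
      · intro r _ hr; rw [if_neg hr, zero_mul]
      · intro h; exact absurd (Finset.mem_univ _) h
    rw [hL, hR] at h1
    have hsg : ∀ a b : ZMod 2, a ≠ b → sgn b = - sgn a := by decide
    rw [hsg _ _ hi] at h1
    have h2 : (2 : ZMod 3) * (T s t * sgn (s i)) = 0 := by
      linear_combination -h1
    have h4 : (2 : ZMod 3) ≠ 0 := by decide
    have h5 := (mul_eq_zero.mp h2).resolve_left h4
    exact (mul_eq_zero.mp h5).resolve_right (sgn_ne_zero _)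
  have hdiag : ∀ s : S n, T s s = T 0 0 := by
    intro s
    have h1 := congrFun (congrFun (hT (⟨0, Sum.elim s 0⟩ : Q0 n)) 0) s
    rw [Matrix.mul_apply, Matrix.mul_apply] at h1
    have e : ∀ r r' : S n, rho (⟨0, Sum.elim s 0⟩ : Q0 n) r r' =
        if r' = r + s then 1 else 0 := by
      intro r r'
      rw [rho_mk, Mat_apply, dot_zero_left, add_zero, sgn_zero]
    simp only [e] at h1
    have hL : ∑ r : S n, T 0 r * (if s = r + s then (1 : ZMod 3) else 0) = T 0 0 := by
      rw [Finset.sum_eq_single 0]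
      · rw [if_pos (by rw [zero_add]), mul_one]
      · intro r _ hr
        rw [if_neg, mul_zero]
        intro h
        apply hr
        have : r + s = 0 + s := by rw [zero_add]; exact h.symm
        exact add_right_cancel this
      · intro h; exact absurd (Finset.mem_univ _) h
    have hR : ∑ r : S n, (if r = 0 + s then (1 : ZMod 3) else 0) * T r s = T s s := by
      rw [Finset.sum_eq_single s]
      · rw [if_pos (by rw [zero_add]), one_mul]
      · intro r _ hr; rw [if_neg (by rw [zero_add]; exact hr), zero_mul]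
      · intro h; exact absurd (Finset.mem_univ _) h
    rw [hL, hR] at h1
    exact h1.symm
  refine ⟨T 0 0, ?_⟩
  ext s t
  rw [Matrix.smul_apply, Matrix.one_apply, smul_eq_mul]
  by_cases hst : s = t
  · subst hst; rw [if_pos rfl, mul_one, hdiag]
  · rw [if_neg hst, mul_zero, hoff s t hst]

end inter

section witt
variable {U : Type*} [AddCommGroup U] [Module (ZMod 2) U] [Module.Finite (ZMod 2) U]

theorem two_smul_zmod2 (a : ZMod 2) : a + a = 0 := CharTwo.add_self_eq_zero a

theorem zmod2_mul_self : ∀ a : ZMod 2, a * a = a := by decide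

/-- a quadratic form vanishes on the span of a family of pairwise orthogonal singular vectors -/
theorem q_span_eq_zero (q : QuadraticForm (ZMod 2) U) {ι : Type*} (f : ι → U)
    (hf : ∀ i, q (f i) = 0) (hB : ∀ i j, QuadraticMap.polarBilin q (f i) (f j) = 0) :
    ∀ u ∈ Submodule.span (ZMod 2) (Set.range f), q u = 0 := by
  have h1 : ∀ u ∈ Submodule.span (ZMod 2) (Set.range f), ∀ j,
      QuadraticMap.polarBilin q u (f j) = 0 := by
    intro u hu j
    induction hu using Submodule.span_induction with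
    | mem x hx => obtain ⟨i, rfl⟩ := hx; exact hB i j
    | zero => simp
    | add x y _ _ hx hy => rw [map_add, LinearMap.add_apply, hx, hy, add_zero]
    | smul a x _ hx => rw [map_smul, LinearMap.smul_apply, hx, smul_zero]
  have h2 : ∀ u ∈ Submodule.span (ZMod 2) (Set.range f),
      ∀ u' ∈ Submodule.span (ZMod 2) (Set.range f), QuadraticMap.polarBilin q u u' = 0 := by
    intro u hu u' hu'
    induction hu' using Submodule.span_induction with
    | mem x hx => obtain ⟨i, rfl⟩ := hx; exact h1 u hu i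
    | zero => simp
    | add x y _ _ hx hy => rw [map_add, hx, hy, add_zero]
    | smul a x _ hx => rw [map_smul, hx, smul_zero]
  intro u hu
  induction hu using Submodule.span_induction with
  | mem x hx => obtain ⟨i, rfl⟩ := hx; exact hf i
  | zero => simp
  | add x y hx' hy' hx hy =>
    have := h2 x hx' y hy'
    rw [QuadraticMap.polarBilin_apply_apply] at this
    have h3 := QuadraticMap.map_add q x y
    rw [h3, hx, hy, this, add_zero, add_zero]
  | smul a x _ hx => rw [QuadraticMap.map_smul, hx, smul_zero]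

/-- a non-degenerate quadratic form over `ZMod 2` of dimension `2n` vanishing on an `n`-dimensional
subspace is isometric to the standard hyperbolic form -/
theorem exists_witt (n : ℕ) (hn : Module.finrank (ZMod 2) U = 2 * n) (q : QuadraticForm (ZMod 2) U)
    (hnd : (QuadraticMap.polarBilin q).Nondegenerate)
    (W : Submodule (ZMod 2) U) (hW : Module.finrank (ZMod 2) W = n) (hq : ∀ w ∈ W, q w = 0) :
    ∃ T : U ≃ₗ[ZMod 2] (Fin n ⊕ Fin n → ZMod 2),
      ∀ u, q u = ∑ i : Fin n, T u (Sum.inl i) * T u (Sum.inr i) := by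
  classical
  set B : LinearMap.BilinForm (ZMod 2) U := QuadraticMap.polarBilin q with hBdef
  have hBpol : ∀ u v, B u v = QuadraticMap.polar q u v := fun u v =>
    QuadraticMap.polarBilin_apply_apply q u v
  have hBcomm : ∀ u v, B u v = B v u := by
    intro u v; rw [hBpol, hBpol, QuadraticMap.polar_comm]
  have hBself : ∀ u, B u u = 0 := by
    intro u
    rw [hBpol, QuadraticMap.polar_self]
    rw [two_smul]; exact two_smul_zmod2 _
  have hqadd : ∀ u v, q (u + v) = q u + q v + B u v := by
    intro u v; rw [hBpol]; exact QuadraticMap.map_add q u v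
  have hBaddL : ∀ x y z, B (x + y) z = B x z + B y z := by
    intro x y z; rw [map_add, LinearMap.add_apply]
  have hBaddR : ∀ x y z, B x (y + z) = B x y + B x z := by
    intro x y z; rw [map_add]
  have hBsmulL : ∀ (c : ZMod 2) x z, B (c • x) z = c * B x z := by
    intro c x z; rw [map_smul, LinearMap.smul_apply, smul_eq_mul]
  have hBsmulR : ∀ (c : ZMod 2) x z, B x (c • z) = c * B x z := by
    intro c x z; rw [map_smul, smul_eq_mul]
  have hBsumL : ∀ (g : Fin n → U) z, B (∑ k, g k) z = ∑ k, B (g k) z := by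
    intro g z; rw [map_sum, LinearMap.sum_apply]
  have hBsumR : ∀ x (g : Fin n → U), B x (∑ k, g k) = ∑ k, B x (g k) := by
    intro x g; rw [map_sum]
  -- basis of `W`
  let e : Module.Basis (Fin n) (ZMod 2) W := Module.finBasisOfFinrankEq (ZMod 2) W hW
  have heW : ∀ i, ((e i : W) : U) ∈ W := fun i => (e i).2
  have hBee : ∀ i j, B (e i : U) (e j : U) = 0 := by
    intro i j
    have h1 := hqadd (e i : U) (e j : U)
    rw [hq _ (heW i), hq _ (heW j), hq _ (W.add_mem (heW i) (heW j))] at h1
    simpa using h1.symm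
  -- dual vectors
  have hex : ∀ j : Fin n, ∃ f0 : U, ∀ i, B f0 (e i : U) = if i = j then 1 else 0 := by
    intro j
    obtain ⟨φ, hφ⟩ := LinearMap.exists_extend (e.coord j)
    refine ⟨(B.toDual hnd).symm φ, ?_⟩
    intro i
    rw [LinearMap.BilinForm.apply_toDual_symm_apply]
    have := congrArg (fun g => g (e i)) hφ
    simp only [LinearMap.comp_apply, Submodule.subtype_apply] at this
    rw [this, Module.Basis.coord_apply, Module.Basis.repr_self, Finsupp.single_apply]
  choose f0 hf0 using hex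
  -- adjusted dual vectors
  let a : Fin n → Fin n → ZMod 2 := fun j k =>
    if k < j then B (f0 j) (f0 k) else if k = j then q (f0 j) else 0
  let f : Fin n → U := fun j => f0 j + ∑ k, a j k • (e k : U)
  have hsumW : ∀ j, (∑ k, a j k • (e k : U)) ∈ W := fun j =>
    W.sum_mem (fun k _ => W.smul_mem _ (heW k))
  have hBsum_e : ∀ (c : Fin n → ZMod 2) (i : Fin n), B (∑ k, c k • (e k : U)) (e i : U) = 0 := by
    intro c i
    rw [hBsumL]
    apply Finset.sum_eq_zero
    intro k _
    rw [hBsmulL, hBee, mul_zero]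
  have hBf0_sum : ∀ (j : Fin n) (c : Fin n → ZMod 2), B (f0 j) (∑ k, c k • (e k : U)) = c j := by
    intro j c
    rw [hBsumR]
    simp only [hBsmulR, hf0, mul_ite, mul_one, mul_zero]
    rw [Finset.sum_ite_eq' Finset.univ j c]
    simp
  have hBfe : ∀ i j, B (f j) (e i : U) = if i = j then 1 else 0 := by
    intro i j
    change B (f0 j + ∑ k, a j k • (e k : U)) (e i : U) = _
    rw [hBaddL, hf0, hBsum_e, add_zero]
  have hBsumsum : ∀ c c' : Fin n → ZMod 2,
      B (∑ k, c k • (e k : U)) (∑ k, c' k • (e k : U)) = 0 := by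
    intro c c'
    rw [hBsumR]
    apply Finset.sum_eq_zero
    intro k _
    rw [hBsmulR, hBsum_e, mul_zero]
  have hBff : ∀ i j, B (f i) (f j) = B (f0 i) (f0 j) + a j i + a i j := by
    intro i j
    change B (f0 i + ∑ k, a i k • (e k : U)) (f0 j + ∑ k, a j k • (e k : U)) = _
    rw [hBaddL, hBaddR, hBaddR, hBf0_sum,
      hBsumsum, hBcomm (∑ k, a i k • (e k : U)) (f0 j), hBf0_sum]
    ring
  have hqf : ∀ j, q (f j) = 0 := by
    intro j
    change q (f0 j + ∑ k, a j k • (e k : U)) = 0
    rw [hqadd, hq _ (hsumW j), hBf0_sum]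
    have : a j j = q (f0 j) := by
      change (if j < j then B (f0 j) (f0 j) else if j = j then q (f0 j) else 0) = _
      rw [if_neg (lt_irrefl j), if_pos rfl]
    rw [this, add_zero]
    exact two_smul_zmod2 _
  have hBff0 : ∀ i j, B (f i) (f j) = 0 := by
    intro i j
    rcases lt_trichotomy i j with h | h | h
    · rw [hBff]
      have h1 : a j i = B (f0 j) (f0 i) := by
        change (if i < j then B (f0 j) (f0 i) else _) = _
        rw [if_pos h]
      have h2 : a i j = 0 := by
        change (if j < i then _ else if j = i then _ else 0) = _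
        rw [if_neg (not_lt.mpr h.le), if_neg (ne_of_gt h)]
      rw [h1, h2, hBcomm (f0 j) (f0 i), add_zero]
      exact two_smul_zmod2 _
    · rw [h]; exact hBself _
    · rw [hBff]
      have h1 : a i j = B (f0 i) (f0 j) := by
        change (if j < i then B (f0 i) (f0 j) else _) = _
        rw [if_pos h]
      have h2 : a j i = 0 := by
        change (if i < j then _ else if i = j then _ else 0) = _
        rw [if_neg (not_lt.mpr h.le), if_neg (ne_of_gt h)]
      rw [h1, h2, add_zero]
      exact two_smul_zmod2 _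
  -- the linear map
  let Tinv : (Fin n ⊕ Fin n → ZMod 2) →ₗ[ZMod 2] U :=
    { toFun := fun v => ∑ i, v (Sum.inl i) • (e i : U) + ∑ i, v (Sum.inr i) • f i
      map_add' := by
        intro v w
        simp only [Pi.add_apply, add_smul, Finset.sum_add_distrib]
        abel
      map_smul' := by
        intro c v
        simp only [Pi.smul_apply, smul_eq_mul, mul_smul, RingHom.id_apply, smul_add,
          Finset.smul_sum] }
  have hTinv : ∀ v, Tinv v = ∑ i, v (Sum.inl i) • (e i : U) + ∑ i, v (Sum.inr i) • f i :=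
    fun v => rfl
  have hEW : ∀ c : Fin n → ZMod 2, (∑ i, c i • (e i : U)) ∈ W := fun c =>
    W.sum_mem (fun k _ => W.smul_mem _ (heW k))
  have hFspan : ∀ c : Fin n → ZMod 2,
      (∑ i, c i • f i) ∈ Submodule.span (ZMod 2) (Set.range f) := fun c =>
    Submodule.sum_mem _ (fun k _ => Submodule.smul_mem _ _ (Submodule.subset_span ⟨k, rfl⟩))
  have hBEF : ∀ c c' : Fin n → ZMod 2,
      B (∑ i, c i • (e i : U)) (∑ j, c' j • f j) = ∑ i, c i * c' i := by
    intro c c'
    rw [hBsumL]
    apply Finset.sum_congr rfl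
    intro i _
    rw [hBsmulL, hBsumR]
    have : ∀ j, B (e i : U) (f j) = if i = j then 1 else 0 := by
      intro j; rw [hBcomm, hBfe]
    simp only [hBsmulR, this, mul_ite, mul_one, mul_zero]
    rw [Finset.sum_ite_eq Finset.univ i c']
    simp
  have hqT : ∀ v, q (Tinv v) = ∑ i : Fin n, v (Sum.inl i) * v (Sum.inr i) := by
    intro v
    rw [hTinv, hqadd, hq _ (hEW _), q_span_eq_zero q f hqf hBff0 _ (hFspan _), hBEF]
    simp
  have hinj : Function.Injective Tinv := by
    rw [← LinearMap.ker_eq_bot, LinearMap.ker_eq_bot']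
    intro v hv
    have h1 : ∀ j, B (Tinv v) (e j : U) = v (Sum.inr j) := by
      intro j
      rw [hTinv, hBaddL, hBsum_e, zero_add, hBsumL]
      simp only [hBsmulL, hBfe, mul_ite, mul_one, mul_zero]
      rw [Finset.sum_ite_eq Finset.univ j]
      simp
    have h2 : ∀ j, B (Tinv v) (f j) = v (Sum.inl j) := by
      intro j
      rw [hTinv, hBaddL]
      have e1 : B (∑ i, v (Sum.inr i) • f i) (f j) = 0 := by
        rw [hBsumL]
        apply Finset.sum_eq_zero
        intro k _
        rw [hBsmulL, hBff0, mul_zero]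
      rw [e1, add_zero, hBsumL]
      have : ∀ i, B (e i : U) (f j) = if i = j then 1 else 0 := by
        intro i; rw [hBcomm, hBfe]
      simp only [hBsmulL, this, mul_ite, mul_one, mul_zero]
      rw [Finset.sum_ite_eq' Finset.univ j]
      simp
    funext k
    rcases k with j | j
    · rw [← h2 j, hv]; simp
    · rw [← h1 j, hv]; simp
  have hdim : Module.finrank (ZMod 2) (Fin n ⊕ Fin n → ZMod 2) = Module.finrank (ZMod 2) U := by
    rw [hn, Module.finrank_pi, Fintype.card_sum, Fintype.card_fin]; ring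
  let T := LinearMap.linearEquivOfInjective Tinv hinj hdim
  refine ⟨T.symm, ?_⟩
  intro u
  have hu : Tinv (T.symm u) = u := by
    have : T (T.symm u) = u := T.apply_symm_apply u
    exact this
  rw [← hqT (T.symm u), hu]

end witt

section transport

theorem map_commutator_le' {A B : Type*} [Group A] [Group B] (f : A →* B) :
    (commutator A).map f ≤ commutator B := by
  rw [commutator_def, commutator_def, Subgroup.map_commutator]
  exact Subgroup.commutator_mono le_top le_top

/-- extraspeciality is invariant under isomorphism -/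
theorem isExtraspecial_of_mulEquiv {p : ℕ} {P₁ P₂ : Type*} [Group P₁] [Group P₂] (e : P₁ ≃* P₂)
    (h : Cfsg.IsExtraspecial p P₁) : Cfsg.IsExtraspecial p P₂ := by
  have hcen : ∀ x : P₁, e x ∈ Subgroup.center P₂ ↔ x ∈ Subgroup.center P₁ := by
    intro x
    rw [Subgroup.mem_center_iff, Subgroup.mem_center_iff]
    constructor
    · intro hx g
      apply e.injective
      rw [map_mul, map_mul]
      exact hx (e g)
    · intro hx g
      obtain ⟨g', rfl⟩ := e.surjective g
      rw [← map_mul, ← map_mul, hx g']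
  have hfr : ∀ x : P₁, e x ∈ frattini P₂ ↔ x ∈ frattini P₁ := by
    intro x
    constructor
    · intro hx
      have h1 := frattini_le_comap_frattini_of_surjective (φ := e.symm.toMonoidHom)
        e.symm.surjective hx
      rw [Subgroup.mem_comap] at h1
      have h2 : e.symm.toMonoidHom (e x) = x := e.symm_apply_apply x
      rwa [h2] at h1
    · intro hx
      exact frattini_le_comap_frattini_of_surjective (φ := e.toMonoidHom) e.surjective hx
  have hcm : ∀ x : P₁, e x ∈ commutator P₂ ↔ x ∈ commutator P₁ := by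
    intro x
    constructor
    · intro hx
      have h1 := map_commutator_le' e.symm.toMonoidHom
        (Subgroup.mem_map_of_mem e.symm.toMonoidHom hx)
      have h2 : e.symm.toMonoidHom (e x) = x := e.symm_apply_apply x
      rwa [h2] at h1
    · intro hx
      exact map_commutator_le' e.toMonoidHom (Subgroup.mem_map_of_mem e.toMonoidHom hx)
  obtain ⟨⟨hp, hfc, hcc⟩, hcard⟩ := h
  refine ⟨⟨hp.of_surjective e.toMonoidHom e.surjective, ?_, ?_⟩, ?_⟩
  · ext y
    obtain ⟨x, rfl⟩ := e.surjective y
    rw [hfr, hcen, hfc]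
  · ext y
    obtain ⟨x, rfl⟩ := e.surjective y
    rw [hcm, hcen, hcc]
  · let eq : ↥(Subgroup.center P₁) ≃ ↥(Subgroup.center P₂) :=
      { toFun := fun c => ⟨e c.1, (hcen c.1).mpr c.2⟩
        invFun := fun d => ⟨e.symm d.1, (hcen (e.symm d.1)).mp (by
          rw [e.apply_symm_apply]; exact d.2)⟩
        left_inv := fun c => Subtype.ext (e.symm_apply_apply c.1)
        right_inv := fun d => Subtype.ext (e.apply_symm_apply d.1) }
    rw [← Nat.card_congr eq]
    exact hcard

theorem mem_center_of_mulEquiv {P₁ P₂ : Type*} [Group P₁] [Group P₂] (e : P₁ ≃* P₂) (x : P₁) :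
    e x ∈ Subgroup.center P₂ ↔ x ∈ Subgroup.center P₁ := by
  rw [Subgroup.mem_center_iff, Subgroup.mem_center_iff]
  constructor
  · intro hx g
    apply e.injective
    rw [map_mul, map_mul]
    exact hx (e g)
  · intro hx g
    obtain ⟨g', rfl⟩ := e.surjective g
    rw [← map_mul, ← map_mul, hx g']

end transport

section group
variable {n : ℕ}

/-- the general linear group of the Fock space -/
abbrev GLS (n : ℕ) := (Matrix (S n) (S n) (ZMod 3))ˣ

/-- pairs `(g, α)` with `g ρ(x) g⁻¹ = ρ(α x)` -/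
def R0 (n : ℕ) : Subgroup (GLS n × MulAut (Q0 n)) where
  carrier := {p | ∀ x, (p.1 : Matrix (S n) (S n) (ZMod 3)) * rho x =
    rho (p.2 x) * (p.1 : Matrix (S n) (S n) (ZMod 3))}
  mul_mem' := by
    intro p p' hp hp' x
    simp only [Prod.fst_mul, Prod.snd_mul, Units.val_mul, MulAut.mul_apply]
    rw [Matrix.mul_assoc, hp' x, ← Matrix.mul_assoc, hp (p'.2 x), Matrix.mul_assoc]
  one_mem' := by
    intro x
    simp
  inv_mem' := by
    intro p hp x
    simp only [Prod.fst_inv, Prod.snd_inv]
    have h1 := hp (p.2⁻¹ x)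
    rw [MulAut.apply_inv_self] at h1
    -- g ρ(α⁻¹ x) = ρ(x) g
    calc ((p.1⁻¹ : GLS n) : Matrix (S n) (S n) (ZMod 3)) * rho x
        = ((p.1⁻¹ : GLS n) : Matrix _ _ _) * (rho x * (p.1 : Matrix _ _ _)) *
            ((p.1⁻¹ : GLS n) : Matrix _ _ _) := by
          rw [Matrix.mul_assoc, Matrix.mul_assoc, Units.mul_inv, Matrix.mul_one]
      _ = ((p.1⁻¹ : GLS n) : Matrix _ _ _) * ((p.1 : Matrix _ _ _) * rho (p.2⁻¹ x)) *
            ((p.1⁻¹ : GLS n) : Matrix _ _ _) := by rw [h1]
      _ = rho (p.2⁻¹ x) * ((p.1⁻¹ : GLS n) : Matrix _ _ _) := by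
          rw [← Matrix.mul_assoc, Units.inv_mul, Matrix.one_mul]

theorem mem_R0 (p : GLS n × MulAut (Q0 n)) : p ∈ R0 n ↔ ∀ x, (p.1 : Matrix (S n) (S n) (ZMod 3)) * rho x =
    rho (p.2 x) * (p.1 : Matrix (S n) (S n) (ZMod 3)) := Iff.rfl

/-- the embedding of the extraspecial group -/
def jHom (n : ℕ) : Q0 n →* R0 n where
  toFun x := ⟨(rhoU n x, MulAut.conj x), by
    intro y
    simp only [rhoU_val, MulAut.conj_apply]
    rw [← rho_mul, ← rho_mul]
    congr 1
    group⟩
  map_one' := by
    apply Subtype.ext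
    simp
  map_mul' x y := by
    apply Subtype.ext
    simp

theorem jHom_fst (x : Q0 n) : ((jHom n x : R0 n) : GLS n × MulAut (Q0 n)).1 = rhoU n x := rfl
theorem jHom_snd (x : Q0 n) : ((jHom n x : R0 n) : GLS n × MulAut (Q0 n)).2 = MulAut.conj x := rfl

theorem jHom_injective : Function.Injective (jHom n) := by
  intro x y h
  have h1 : rhoU n x = rhoU n y := by
    have := congrArg (fun p : R0 n => (p : GLS n × MulAut (Q0 n)).1) h
    exact this
  have h2 : rho x = rho y := by
    have := congrArg (fun u : GLS n => (u : Matrix (S n) (S n) (ZMod 3))) h1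
    exact this
  exact rho_injective h2

/-- the projection to the linear group of `Q0 / Z` -/
noncomputable def piHom (n : ℕ) : R0 n →* Matrix.GeneralLinearGroup (Fin n ⊕ Fin n) (ZMod 2) :=
  (QG.toGL (cPlus_nondeg n)).comp ((MonoidHom.snd (GLS n) (MulAut (Q0 n))).comp (R0 n).subtype)

theorem piHom_apply (p : R0 n) :
    piHom n p = QG.toGL (cPlus_nondeg n) (p : GLS n × MulAut (Q0 n)).2 := rfl

theorem piHom_jHom (x : Q0 n) : piHom n (jHom n x) = 1 := by
  rw [piHom_apply, jHom_snd]
  have : MulAut.conj x ∈ (QG.toGL (cPlus_nondeg n)).ker := by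
    rw [QG.ker_toGL]
    exact ⟨x, rfl⟩
  exact this

/-- every isometry is induced by an element of `R0` -/
theorem piHom_surjective (k : Matrix.GeneralLinearGroup (Fin n ⊕ Fin n) (ZMod 2))
    (hk : k ∈ Cfsg.isometryGroup (ZMod 2) (fun v => (cPlus n).β v v)) :
    ∃ p : R0 n, piHom n p = k := by
  obtain ⟨α, hα⟩ := QG.exists_lift (cPlus_nondeg n) _ (fun v => rfl) k hk
  obtain ⟨g, hg0, hg⟩ := exists_intertwiner α
  have hu := isUnit_of_intertwine g α hg hg0
  refine ⟨⟨(hu.unit, α), ?_⟩, ?_⟩
  · intro x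
    exact hg x
  · rw [piHom_apply]
    exact hα

theorem rho_z : rho (QG.z (cPlus n)) = -1 := by
  ext s t
  unfold rho
  rw [Mat_apply, Matrix.neg_apply, Matrix.one_apply]
  have e1 : (QG.z (cPlus n)).a = 1 := rfl
  have e2 : inlv (QG.z (cPlus n)).v = 0 := rfl
  have e3 : inrv (QG.z (cPlus n)).v = 0 := rfl
  rw [e1, e2, e3, add_zero, dot_zero_left, add_zero, sgn_one]
  by_cases h : s = t
  · rw [if_pos h.symm, if_pos h]
  · rw [if_neg (fun h' => h h'.symm), if_neg h, neg_zero]

/-- the kernel of the projection is the image of the extraspecial group -/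
theorem exists_of_piHom_eq_one (p : R0 n) (hp : piHom n p = 1) : ∃ y : Q0 n, jHom n y = p := by
  have hker : (p : GLS n × MulAut (Q0 n)).2 ∈ (QG.toGL (cPlus_nondeg n)).ker := hp
  rw [QG.ker_toGL] at hker
  obtain ⟨y, hy⟩ := hker
  have hrel := p.2
  rw [mem_R0] at hrel
  set g : Matrix (S n) (S n) (ZMod 3) := (((p : GLS n × MulAut (Q0 n)).1 : GLS n) : Matrix (S n) (S n) (ZMod 3)) with hgdef
  -- `T = ρ(y)⁻¹ g` commutes with `ρ`
  have hT : ∀ x : Q0 n, (rho y⁻¹ * g) * rho x = rho x * (rho y⁻¹ * g) := by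
    intro x
    rw [Matrix.mul_assoc, hrel x, ← hy, MulAut.conj_apply, ← Matrix.mul_assoc, ← rho_mul,
      ← Matrix.mul_assoc, ← rho_mul]
    congr 2
    group
  obtain ⟨lam, hlam⟩ := commutant _ hT
  have hg : g = lam • rho y := by
    have : g = rho y * (rho y⁻¹ * g) := by
      rw [← Matrix.mul_assoc, ← rho_mul, mul_inv_cancel, rho_one, Matrix.one_mul]
    rw [this, hlam, Matrix.mul_smul, Matrix.mul_one]
  have hlam0 : lam ≠ 0 := by
    intro h0
    rw [h0, zero_smul] at hg
    have hu : IsUnit g := (p : GLS n × MulAut (Q0 n)).1.isUnit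
    rw [hg] at hu
    have : (0 : Matrix (S n) (S n) (ZMod 3)) = 1 := by
      obtain ⟨u, hu'⟩ := hu
      have := u.mul_inv
      rw [hu', Matrix.zero_mul] at this
      exact this
    have h1 := congrFun (congrFun this 0) 0
    rw [Matrix.zero_apply, Matrix.one_apply_eq] at h1
    exact zero_ne_one h1
  have hcases : ∀ l : ZMod 3, l ≠ 0 → l = 1 ∨ l = -1 := by decide
  rcases hcases lam hlam0 with h1 | h1
  · refine ⟨y, ?_⟩
    apply Subtype.ext
    apply Prod.ext
    · apply Units.ext
      rw [jHom_fst, rhoU_val, ← hgdef, hg, h1, one_smul]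
    · rw [jHom_snd, hy]
  · refine ⟨QG.z (cPlus n) * y, ?_⟩
    apply Subtype.ext
    apply Prod.ext
    · apply Units.ext
      rw [jHom_fst, rhoU_val, ← hgdef, hg, h1, rho_mul, rho_z]
      simp
    · rw [jHom_snd, ← hy]
      apply MulEquiv.ext
      intro x
      rw [MulAut.conj_apply, MulAut.conj_apply]
      have hz : QG.z (cPlus n) ∈ Subgroup.center (Q0 n) :=
        (QG.mem_center_iff (cPlus_nondeg n) _).mpr rfl
      have hzc := Subgroup.mem_center_iff.mp hz
      rw [mul_inv_rev]
      calc QG.z (cPlus n) * y * x * (y⁻¹ * (QG.z (cPlus n))⁻¹)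
          = y * x * y⁻¹ * (QG.z (cPlus n) * (QG.z (cPlus n))⁻¹) := by
            rw [← hzc y]
            have h3 := hzc (y * x * y⁻¹)
            calc y * QG.z (cPlus n) * x * (y⁻¹ * (QG.z (cPlus n))⁻¹)
                = y * (QG.z (cPlus n) * x) * y⁻¹ * (QG.z (cPlus n))⁻¹ := by group
              _ = y * (x * QG.z (cPlus n)) * y⁻¹ * (QG.z (cPlus n))⁻¹ := by rw [hzc x]
              _ = y * x * (QG.z (cPlus n) * y⁻¹) * (QG.z (cPlus n))⁻¹ := by group
              _ = y * x * (y⁻¹ * QG.z (cPlus n)) * (QG.z (cPlus n))⁻¹ := by rw [hzc y⁻¹]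
              _ = y * x * y⁻¹ * (QG.z (cPlus n) * (QG.z (cPlus n))⁻¹) := by group
        _ = y * x * y⁻¹ := by rw [mul_inv_cancel, mul_one]

/-- conjugation in `R0` acts on the extraspecial group through the automorphism component -/
theorem conj_jHom (p : R0 n) (y : Q0 n) :
    p * jHom n y * p⁻¹ = jHom n ((p : GLS n × MulAut (Q0 n)).2 y) := by
  apply Subtype.ext
  apply Prod.ext
  · apply Units.ext
    have hrel := (mem_R0 _).mp p.2 y
    simp only [Subgroup.coe_mul, Subgroup.coe_inv, Prod.fst_mul, Prod.fst_inv, Units.val_mul,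
      jHom_fst, rhoU_val]
    rw [hrel, Matrix.mul_assoc, Units.mul_inv, Matrix.mul_one]
  · simp only [Subgroup.coe_mul, Subgroup.coe_inv, Prod.snd_mul, Prod.snd_inv, jHom_snd]
    apply MulEquiv.ext
    intro x
    simp [MulAut.conj_apply]

end group

section final

instance instFiniteMulAutQ0 (n : ℕ) : Finite (MulAut (Q0 n)) :=
  Finite.of_injective (fun φ : MulAut (Q0 n) => (φ : Q0 n → Q0 n)) DFunLike.coe_injective

theorem main {K : Type*} [Group K] {U : Type*} [AddCommGroup U] [Module (ZMod 2) U]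
    [Module.Finite (ZMod 2) U] (n : ℕ) (hn1 : 1 ≤ n) (hn : Module.finrank (ZMod 2) U = 2 * n)
    (ρ : Representation (ZMod 2) K U) (hρ : Function.Injective ρ) (q : QuadraticForm (ZMod 2) U)
    (hq : ∀ (k : K) (u : U), q (ρ k u) = q u)
    (hnd : (QuadraticMap.polarBilin q).Nondegenerate)
    (hplus : ∃ W : Submodule (ZMod 2) U, Module.finrank (ZMod 2) ↥W = n ∧ ∀ w ∈ W, q w = 0) :
    ∃ (R : Type) (_ : Group R) (_ : Finite R) (Q : Subgroup R) (hN : Q.Normal) (e : R ⧸ Q ≃* K)
      (χ : ↥Q →* Multiplicative U), Cfsg.IsExtraspecial 2 ↥Q ∧ Nat.card ↥Q = 2 ^ (2 * n + 1) ∧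
      Function.Surjective χ ∧ χ.ker = Subgroup.center ↥Q ∧
      (∀ (r : R) (a : ↥Q), χ ⟨r * a * r⁻¹, hN.conj_mem (a : R) a.2 r⟩ =
        Multiplicative.ofAdd (ρ (e (r : R ⧸ Q)) (Multiplicative.toAdd (χ a)))) ∧
      ∀ a : ↥Q, a * a = 1 ↔ q (Multiplicative.toAdd (χ a)) = 0 := by
  classical
  obtain ⟨W, hW, hWq⟩ := hplus
  obtain ⟨T, hT⟩ := exists_witt n hn q hnd W hW hWq
  haveI : Nonempty (Fin n ⊕ Fin n) := ⟨Sum.inl ⟨0, hn1⟩⟩
  have hq0 : ∀ v : Fin n ⊕ Fin n → ZMod 2, (cPlus n).β v v = q (T.symm v) := by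
    intro v
    rw [hT]
    simp only [LinearEquiv.apply_symm_apply]
    rfl
  -- the matrix action of `K`
  let κM : K →* Matrix (Fin n ⊕ Fin n) (Fin n ⊕ Fin n) (ZMod 2) :=
    { toFun := fun k => LinearMap.toMatrix' (T.toLinearMap ∘ₗ ρ k ∘ₗ T.symm.toLinearMap)
      map_one' := by
        rw [map_one]
        have : T.toLinearMap ∘ₗ (1 : U →ₗ[ZMod 2] U) ∘ₗ T.symm.toLinearMap = LinearMap.id := by
          apply LinearMap.ext; intro v; simp
        rw [this, LinearMap.toMatrix'_id]
      map_mul' := by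
        intro k k'
        rw [← LinearMap.toMatrix'_comp]
        congr 1
        apply LinearMap.ext
        intro v
        simp }
  let κ : K →* Matrix.GeneralLinearGroup (Fin n ⊕ Fin n) (ZMod 2) := κM.toHomUnits
  have hκval : ∀ (k : K) (v : Fin n ⊕ Fin n → ZMod 2),
      ((κ k : Matrix.GeneralLinearGroup (Fin n ⊕ Fin n) (ZMod 2)) :
        Matrix (Fin n ⊕ Fin n) (Fin n ⊕ Fin n) (ZMod 2)).mulVec v = T (ρ k (T.symm v)) := by
    intro k v
    change (LinearMap.toMatrix' (T.toLinearMap ∘ₗ ρ k ∘ₗ T.symm.toLinearMap)).mulVec v = _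
    rw [LinearMap.toMatrix'_mulVec]
    rfl
  have hκinj : Function.Injective κ := by
    rw [injective_iff_map_eq_one]
    intro k hk
    apply hρ
    rw [map_one]
    apply LinearMap.ext
    intro u
    have h1 := hκval k (T u)
    rw [hk] at h1
    simp only [Units.val_one, Matrix.one_mulVec, LinearEquiv.symm_apply_apply] at h1
    have := T.injective h1
    simpa using this.symm
  have hκiso : ∀ k : K, κ k ∈ Cfsg.isometryGroup (ZMod 2) (fun v => (cPlus n).β v v) := by
    intro k
    rw [QG.mem_isometryGroup_iff]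
    intro u
    rw [hκval, hq0, hq0, LinearEquiv.symm_apply_apply, hq]
  -- the group `R`
  let Rsub : Subgroup (R0 n) := κ.range.comap (piHom n)
  let πR : ↥Rsub →* ↥κ.range := ((piHom n).comp Rsub.subtype).codRestrict κ.range (fun p => p.2)
  let ψ : ↥Rsub →* K := (MonoidHom.ofInjective hκinj).symm.toMonoidHom.comp πR
  have hψ : ∀ p : ↥Rsub, κ (ψ p) = piHom n p.1 := by
    intro p
    have h1 : (MonoidHom.ofInjective hκinj) (ψ p) = πR p :=
      (MonoidHom.ofInjective hκinj).apply_symm_apply (πR p)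
    have h2 := congrArg Subtype.val h1
    rw [MonoidHom.ofInjective_apply] at h2
    exact h2
  have hsurj : Function.Surjective ψ := by
    intro k
    obtain ⟨p, hp⟩ := piHom_surjective (κ k) (hκiso k)
    have hpR : p ∈ Rsub := by
      change piHom n p ∈ κ.range
      rw [hp]; exact ⟨k, rfl⟩
    refine ⟨⟨p, hpR⟩, ?_⟩
    apply hκinj
    rw [hψ]
    exact hp
  -- the embedding of the extraspecial group
  have hjR : ∀ x : Q0 n, jHom n x ∈ Rsub := by
    intro x
    change piHom n (jHom n x) ∈ κ.range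
    rw [piHom_jHom]; exact one_mem _
  have hjker : ∀ x : Q0 n, (⟨jHom n x, hjR x⟩ : ↥Rsub) ∈ ψ.ker := by
    intro x
    rw [MonoidHom.mem_ker]
    apply hκinj
    rw [hψ, map_one]
    exact piHom_jHom x
  let jQ : Q0 n →* ↥ψ.ker :=
    { toFun := fun x => ⟨⟨jHom n x, hjR x⟩, hjker x⟩
      map_one' := by
        apply Subtype.ext; apply Subtype.ext
        exact map_one (jHom n)
      map_mul' := by
        intro x y
        apply Subtype.ext; apply Subtype.ext
        exact map_mul (jHom n) x y }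
  have hjQval : ∀ x : Q0 n, ((jQ x : ↥ψ.ker) : ↥Rsub).1 = jHom n x := fun x => rfl
  have hjQbij : Function.Bijective jQ := by
    constructor
    · intro x y h
      apply jHom_injective (n := n)
      have := congrArg (fun a : ↥ψ.ker => (a : ↥Rsub).1) h
      exact this
    · intro a
      have h1 : ψ a.1 = 1 := a.2
      have h2 : piHom n a.1.1 = 1 := by
        rw [← hψ, h1, map_one]
      obtain ⟨y, hy⟩ := exists_of_piHom_eq_one a.1.1 h2
      refine ⟨y, ?_⟩
      apply Subtype.ext; apply Subtype.ext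
      exact hy
  let jQe : Q0 n ≃* ↥ψ.ker := MulEquiv.ofBijective jQ hjQbij
  have hjQe : ∀ x, jQe x = jQ x := fun x => rfl
  let vhom : Q0 n →* Multiplicative U :=
    { toFun := fun x => Multiplicative.ofAdd (T.symm x.v)
      map_one' := by
        change Multiplicative.ofAdd (T.symm 0) = 1
        rw [map_zero]; rfl
      map_mul' := by
        intro x y
        change Multiplicative.ofAdd (T.symm (x.v + y.v)) = _
        rw [map_add]; rfl }
  let χ : ↥ψ.ker →* Multiplicative U := vhom.comp jQe.symm.toMonoidHom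
  have hχ : ∀ x : Q0 n, χ (jQe x) = Multiplicative.ofAdd (T.symm x.v) := by
    intro x
    change vhom (jQe.symm (jQe x)) = _
    rw [MulEquiv.symm_apply_apply]
    rfl
  refine ⟨↥Rsub, inferInstance, inferInstance, ψ.ker, inferInstance,
    QuotientGroup.quotientKerEquivOfSurjective ψ hsurj, χ, ?_, ?_, ?_, ?_, ?_, ?_⟩
  · exact isExtraspecial_of_mulEquiv jQe (QG.isExtraspecial (cPlus_nondeg n))
  · rw [← Nat.card_congr jQe.toEquiv, QG.card_eq, Fintype.card_sum, Fintype.card_fin]
    congr 1; ring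
  · intro u
    refine ⟨jQe ⟨0, T (Multiplicative.toAdd u)⟩, ?_⟩
    rw [hχ]
    simp
  · ext a
    obtain ⟨x, rfl⟩ := jQe.surjective a
    rw [MonoidHom.mem_ker, hχ, mem_center_of_mulEquiv jQe, QG.mem_center_iff (cPlus_nondeg n)]
    constructor
    · intro h
      have h1 : T.symm x.v = 0 := by
        have := congrArg Multiplicative.toAdd h
        simpa using this
      have := congrArg T h1
      simpa using this
    · intro h
      rw [h, map_zero]; rfl
  · intro r a
    obtain ⟨y, rfl⟩ := jQe.surjective a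
    have h1 : r * ((jQe y : ↥ψ.ker) : ↥Rsub) * r⁻¹ =
        ((jQe ((r.1 : GLS n × MulAut (Q0 n)).2 y) : ↥ψ.ker) : ↥Rsub) := by
      apply Subtype.ext
      exact conj_jHom r.1 y
    have h2 : (⟨r * ((jQe y : ↥ψ.ker) : ↥Rsub) * r⁻¹,
        (inferInstance : ψ.ker.Normal).conj_mem _ (jQe y).2 r⟩ : ↥ψ.ker) =
        jQe ((r.1 : GLS n × MulAut (Q0 n)).2 y) := Subtype.ext h1
    rw [h2, hχ, hχ]
    congr 1
    have h3 : (QuotientGroup.quotientKerEquivOfSurjective ψ hsurj) (r : ↥Rsub ⧸ ψ.ker) = ψ r := rfl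
    rw [h3]
    simp only [toAdd_ofAdd]
    have h4 := hκval (ψ r) y.v
    rw [hψ, piHom_apply, QG.toGL_mulVec] at h4
    rw [QG.aut_v (cPlus_nondeg n), h4, LinearEquiv.symm_apply_apply]
  · intro a
    obtain ⟨y, rfl⟩ := jQe.surjective a
    rw [hχ, toAdd_ofAdd, ← hq0]
    constructor
    · intro h
      have h1 : jQe (y * y) = jQe 1 := by rw [map_mul, map_one]; exact h
      have h2 := jQe.injective h1
      rw [← pow_two, QG.sq_eq] at h2
      exact congrArg QG.a h2
    · intro h
      rw [← map_mul, ← pow_two, QG.sq_eq]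
      have : (⟨(cPlus n).Q y.v, 0⟩ : Q0 n) = 1 := by
        ext
        · exact h
        · rfl
      rw [this, map_one]

end final

end Cfsg.Agent.Lib.Helper1.ESRep
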