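import Mathlib
import Cfsg.Agent.Lib.Helper1.Nilpotent
import Cfsg.Agent.Lib.Helper10.DihedralRecog

/-!
# 2-groups of maximal class

* `MaxClassTwo.card_center_of_maxClass`: `|Z(X)| = p` for a `p`-group of maximal class.
* `MaxClassTwo.exists_cyclic_index_two`: a 2-group of maximal class has a cyclic subgroup of
  index 2.
* `MaxClassTwo.nonempty_mulEquiv_dihedral`: `X / Z(X)` is dihedral.
* `MaxClassTwo.card_eq_card_center_mul_card_commutator`: `|C| = |Z(X)| |X'|` for an abelian
  subgroup `C` of index 2 in a nonabelian group.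
* `MaxClassTwo.isKleinFour_of_maxClass`, `MaxClassTwo.maxClass_of_card_abelianization` (Taussky).
-/

set_option autoImplicit false

namespace Cfsg.Agent.Lib.Helper1

namespace MaxClassTwo

universe u

open Subgroup
open scoped commutatorElement

/-- In a `p`-group of maximal class (order `p ^ n`, class `n - 1`, `n ≥ 3`) the centre has
order `p`. -/
theorem card_center_of_maxClass {p : ℕ} [hp : Fact p.Prime] {X : Type u} [Group X] [Finite X]
    (n : ℕ) (hn : 3 ≤ n) (hX : Nat.card X = p ^ n) (hc : Group.nilpotencyClass X = n - 1) :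
    Nat.card (center X) = p := by
  have hG : IsPGroup p X := IsPGroup.of_card hX
  have hnil : Group.IsNilpotent X := hG.isNilpotent
  have hcomm : ¬ IsMulCommutative X := by
    intro h
    have := Group.IsNilpotent.nilpotencyClass_le_one_iff.mpr h
    omega
  have hnt : Nontrivial X := by
    by_contra h
    rw [not_nontrivial_iff_subsingleton] at h
    exact hcomm ⟨⟨fun a b => Subsingleton.elim _ _⟩⟩
  obtain ⟨k, hk⟩ := (hG.to_subgroup (center X)).exists_card_eq
  have hk0 : k ≠ 0 := by
    rintro rfl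
    rw [pow_zero, Subgroup.card_eq_one] at hk
    exact (IsPGroup.bot_lt_center hG).ne' hk
  have hkm : k ≤ n := by
    have h1 : p ^ k ∣ p ^ n := by rw [← hk, ← hX]; exact Subgroup.card_subgroup_dvd_card _
    exact (Nat.pow_dvd_pow_iff_le_right hp.out.one_lt).mp h1
  have hQcard : Nat.card (X ⧸ center X) = p ^ (n - k) := by
    have h1 := Subgroup.card_mul_index (center X)
    rw [hk, hX, Subgroup.index_eq_card] at h1
    have h2 : p ^ n = p ^ k * p ^ (n - k) := by rw [← pow_add]; congr 1; omega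
    rw [h2] at h1
    exact Nat.eq_of_mul_eq_mul_left (pow_pos hp.out.pos k) h1
  have hncyc : ¬ IsCyclic (X ⧸ center X) := by
    intro hc
    apply hcomm
    exact (QuotientGroup.mk' (center X)).isMulCommutative_of_isCyclic_of_ker_le_center
      (by rw [QuotientGroup.ker_mk'])
  have hmk : 2 ≤ n - k := by
    by_contra hlt
    push Not at hlt
    apply hncyc
    interval_cases h : n - k
    · rw [pow_zero] at hQcard
      have : Subsingleton (X ⧸ center X) := (Nat.card_eq_one_iff_unique.mp hQcard).1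
      exact isCyclic_of_subsingleton
    · rw [pow_one] at hQcard
      exact isCyclic_of_prime_card hQcard
  have h3 := nilpotencyClass_le_of_card_pow (p := p) (n - k) (X ⧸ center X) hQcard
  rw [Group.nilpotencyClass_quotient_center, hc] at h3
  have h4 : max 1 (n - k - 1) = n - k - 1 := max_eq_right (by omega)
  rw [h4] at h3
  have hk1 : k = 1 := by omega
  rw [hk, hk1, pow_one]

theorem card_quotient_center_of_maxClass {p : ℕ} [hp : Fact p.Prime] {X : Type u} [Group X]
    [Finite X] (n : ℕ) (hn : 3 ≤ n) (hX : Nat.card X = p ^ n)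
    (hc : Group.nilpotencyClass X = n - 1) :
    Nat.card (X ⧸ center X) = p ^ (n - 1) := by
  have h1 := Subgroup.card_mul_index (center X)
  rw [card_center_of_maxClass n hn hX hc, hX, Subgroup.index_eq_card] at h1
  have h2 : p ^ n = p * p ^ (n - 1) := by rw [← pow_succ']; congr 1; omega
  rw [h2] at h1
  exact Nat.eq_of_mul_eq_mul_left hp.out.pos h1

/-- in a group with a subgroup `Z` of order two, any element of `Z` is `1` or a given
non-identity element of `Z` -/
theorem eq_one_or_eq_of_card_two {X : Type*} [Group X] {Z : Subgroup X} (hZ : Nat.card Z = 2)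
    {s t : X} (hs : s ∈ Z) (ht : t ∈ Z) (ht1 : t ≠ 1) : s = 1 ∨ s = t := by
  by_cases hs1 : s = 1
  · exact Or.inl hs1
  · right
    obtain ⟨y, -, hy⟩ := (Nat.card_eq_two_iff' (1 : Z)).mp hZ
    have h1 := hy ⟨s, hs⟩ (fun h => hs1 (congrArg Subtype.val h))
    have h2 := hy ⟨t, ht⟩ (fun h => ht1 (congrArg Subtype.val h))
    exact congrArg Subtype.val (h1.trans h2.symm)

/-- a group of order `8` which is not commutative has a cyclic subgroup of index `2`. -/
theorem exists_cyclic_index_two_of_card_eight {X : Type*} [Group X] [Finite X]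
    (hX : Nat.card X = 2 ^ 3) (hc : ¬ IsMulCommutative X) :
    ∃ C : Subgroup X, IsCyclic C ∧ C.index = 2 := by
  have hne : ∃ x : X, x ^ 2 ≠ 1 := by
    by_contra h
    push Not at h
    apply hc
    refine ⟨⟨fun a b => ?_⟩⟩
    have h1 := h (a * b)
    have ha : a⁻¹ = a := by
      have := h a
      rw [sq] at this
      exact inv_eq_of_mul_eq_one_left this
    have hb : b⁻¹ = b := by
      have := h b
      rw [sq] at this
      exact inv_eq_of_mul_eq_one_left this
    rw [sq] at h1
    have h2 : a * b = (a * b)⁻¹ := (inv_eq_of_mul_eq_one_left h1).symm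
    rw [h2, mul_inv_rev, ha, hb]
  obtain ⟨x, hx⟩ := hne
  have hord : orderOf x ∣ 2 ^ 3 := by rw [← hX]; exact orderOf_dvd_natCard x
  obtain ⟨k, hk3, hk⟩ := (Nat.dvd_prime_pow Nat.prime_two).mp hord
  have hk2 : 2 ≤ k := by
    by_contra hlt
    push Not at hlt
    apply hx
    rw [← orderOf_dvd_iff_pow_eq_one, hk]
    interval_cases k <;> norm_num
  have hfour : ∃ y : X, orderOf y = 4 := by
    interval_cases k
    · exact ⟨x, hk⟩
    · refine ⟨x ^ 2, ?_⟩
      rw [orderOf_pow' x (by norm_num), hk]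
      norm_num
  obtain ⟨y, hy⟩ := hfour
  refine ⟨zpowers y, inferInstance, ?_⟩
  have h1 := Subgroup.card_mul_index (zpowers y)
  rw [Nat.card_zpowers, hy, hX] at h1
  omega

theorem exists_cyclic_index_two :
    ∀ (n : ℕ), 3 ≤ n → ∀ (X : Type u) [Group X] [Finite X], Nat.card X = 2 ^ n →
      Group.nilpotencyClass X = n - 1 → ∃ C : Subgroup X, IsCyclic C ∧ C.index = 2 := by
  intro n hn
  induction n, hn using Nat.le_induction with
  | base =>
    intro X _ _ hX hc
    apply exists_cyclic_index_two_of_card_eight hX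
    intro h
    have hnil : Group.IsNilpotent X := (IsPGroup.of_card hX).isNilpotent
    have := Group.IsNilpotent.nilpotencyClass_le_one_iff.mpr h
    omega
  | succ n hn ih =>
    intro X _ _ hX hc
    have hXp : IsPGroup 2 X := IsPGroup.of_card hX
    have hnil : Group.IsNilpotent X := hXp.isNilpotent
    have hZ2 : Nat.card (center X) = 2 := card_center_of_maxClass (p := 2) (n + 1) (by omega) hX hc
    have hQcard : Nat.card (X ⧸ center X) = 2 ^ n :=
      card_quotient_center_of_maxClass (p := 2) (n + 1) (by omega) hX hc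
    have hQclass : Group.nilpotencyClass (X ⧸ center X) = n - 1 := by
      rw [Group.nilpotencyClass_quotient_center, hc]; rfl
    obtain ⟨C', hC'cyc, hC'idx⟩ := ih (X ⧸ center X) hQcard hQclass
    obtain ⟨⟨q, hqC⟩, hgen⟩ := hC'cyc.exists_generator
    have hC'q : ∀ y ∈ C', ∃ k : ℤ, q ^ k = y := by
      intro y hy
      obtain ⟨k, hk⟩ := Subgroup.mem_zpowers_iff.mp (hgen ⟨y, hy⟩)
      exact ⟨k, congrArg Subtype.val hk⟩
    have hC'eq : C' = zpowers q := by
      apply le_antisymm
      · intro y hy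
        obtain ⟨k, hk⟩ := hC'q y hy
        exact Subgroup.mem_zpowers_iff.mpr ⟨k, hk⟩
      · rw [Subgroup.zpowers_le]; exact hqC
    have hC'card : Nat.card C' = 2 ^ (n - 1) := by
      have h1 := Subgroup.card_mul_index C'
      rw [hC'idx, hQcard] at h1
      have h2 : 2 ^ n = 2 ^ (n - 1) * 2 := by rw [← pow_succ]; congr 1; omega
      rw [h2] at h1
      exact Nat.eq_of_mul_eq_mul_right (by norm_num) h1
    have hqord : orderOf q = 2 ^ (n - 1) := by
      rw [← Nat.card_zpowers, ← hC'eq, hC'card]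
    obtain ⟨c, rfl⟩ := QuotientGroup.mk_surjective q
    have hC'n : C'.Normal := Subgroup.normal_of_index_eq_two hC'idx
    -- elements of `C` are `c ^ k * t` with `t` central
    have hdecomp : ∀ a : X, (a : X ⧸ center X) ∈ C' → ∃ k : ℤ, (c ^ k)⁻¹ * a ∈ center X := by
      intro a ha
      obtain ⟨k, hk⟩ := hC'q _ ha
      refine ⟨k, ?_⟩
      rw [← QuotientGroup.eq, QuotientGroup.mk_zpow]
      exact hk
    have hsq : ∀ t ∈ center X, t ^ 2 = 1 := by
      intro t ht
      have := pow_card_eq_one' (G := center X) (x := ⟨t, ht⟩)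
      rw [hZ2] at this
      exact congrArg Subtype.val this
    have hZc : center X ≤ zpowers c := by
      by_contra hnot
      have hNn : (zpowers (c ^ 2)).Normal := by
        constructor
        intro x hx g
        obtain ⟨m, rfl⟩ := Subgroup.mem_zpowers_iff.mp hx
        have hgc : ((g * c * g⁻¹ : X) : X ⧸ center X) ∈ C' := by
          rw [QuotientGroup.mk_mul, QuotientGroup.mk_mul, QuotientGroup.mk_inv]
          exact hC'n.conj_mem _ hqC _
        obtain ⟨k, hk⟩ := hdecomp _ hgc
        set t := (c ^ k)⁻¹ * (g * c * g⁻¹) with ht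
        have hgc' : g * c * g⁻¹ = c ^ k * t := by rw [ht]; group
        have htc : Commute t (c ^ k) := (Subgroup.mem_center_iff.mp hk (c ^ k)).symm
        have h1 : g * c ^ 2 * g⁻¹ = (c ^ 2) ^ k := by
          have : g * c ^ 2 * g⁻¹ = (g * c * g⁻¹) ^ 2 := by rw [conj_pow]
          rw [this, hgc', htc.symm.mul_pow, hsq t hk, mul_one, ← zpow_natCast, ← zpow_mul,
            ← zpow_natCast, ← zpow_mul, mul_comm]
        have h2 : g * (c ^ 2) ^ m * g⁻¹ = (g * c ^ 2 * g⁻¹) ^ m := by rw [conj_zpow]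
        rw [h2, h1]
        exact Subgroup.zpow_mem _ (Subgroup.zpow_mem _ (Subgroup.mem_zpowers _) _) _
      have hNbot : zpowers (c ^ 2) ≠ ⊥ := by
        intro h
        have h1 : c ^ 2 = 1 := by
          have := Subgroup.mem_zpowers (c ^ 2)
          rw [h, Subgroup.mem_bot] at this
          exact this
        have h2 : ((c : X ⧸ center X)) ^ 2 = 1 := by
          rw [← QuotientGroup.mk_pow, h1]; rfl
        have h3 := orderOf_dvd_of_pow_eq_one h2
        rw [hqord] at h3
        have h4 : 2 ^ 2 ≤ 2 ^ (n - 1) := Nat.pow_le_pow_right (by norm_num) (by omega)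
        have h5 := Nat.le_of_dvd (by norm_num) h3
        omega
      have h3 := inf_center_ne_bot_of_normal (zpowers (c ^ 2)) hNbot
      obtain ⟨⟨t, ht⟩, ht1⟩ := (Subgroup.ne_bot_iff_exists_ne_one).mp h3
      obtain ⟨htN, htZ⟩ := Subgroup.mem_inf.mp ht
      have ht1' : t ≠ 1 := fun h => ht1 (Subtype.ext h)
      apply hnot
      intro s hs
      have htc : t ∈ zpowers c := by
        obtain ⟨m, hm⟩ := Subgroup.mem_zpowers_iff.mp htN
        rw [← hm]
        exact Subgroup.zpow_mem _ (Subgroup.pow_mem _ (Subgroup.mem_zpowers _) _) _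
      rcases eq_one_or_eq_of_card_two hZ2 hs htZ ht1' with h | h
      · rw [h]; exact Subgroup.one_mem _
      · rw [h]; exact htc
    refine ⟨C'.comap (QuotientGroup.mk' (center X)), ?_, ?_⟩
    · have hCeq : C'.comap (QuotientGroup.mk' (center X)) = zpowers c := by
        apply le_antisymm
        · intro a ha
          obtain ⟨k, hk⟩ := hdecomp a ha
          have : a = c ^ k * ((c ^ k)⁻¹ * a) := by group
          rw [this]
          exact Subgroup.mul_mem _ (Subgroup.zpow_mem _ (Subgroup.mem_zpowers _) _) (hZc hk)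
        · rw [Subgroup.zpowers_le]
          exact hqC
      rw [hCeq]
      infer_instance
    · rw [Subgroup.index_comap_of_surjective _ (QuotientGroup.mk'_surjective _)]
      exact hC'idx

section IndexTwo

variable {X : Type*} [Group X] {C : Subgroup X}

theorem exists_eq_or_eq_mul (hC : C.index = 2) {a : X} (ha : a ∉ C) (g : X) :
    ∃ c' ∈ C, g = c' ∨ g = a * c' := by
  by_cases hg : g ∈ C
  · exact ⟨g, hg, Or.inl rfl⟩
  · refine ⟨a⁻¹ * g, ?_, Or.inr (by group)⟩
    rw [Subgroup.mul_mem_iff_of_index_two hC, inv_mem_iff]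
    exact ⟨fun h => absurd h ha, fun h => absurd h hg⟩

theorem mem_center_of_commute (hC : C.index = 2) {a : X} (ha : a ∉ C) {z : X}
    (hza : Commute z a) (hzC : ∀ c' ∈ C, Commute z c') : z ∈ center X := by
  rw [Subgroup.mem_center_iff]
  intro g
  obtain ⟨c', hc', h | h⟩ := exists_eq_or_eq_mul hC ha g
  · rw [h]; exact (hzC c' hc').eq.symm
  · rw [h]; exact ((hza.mul_right (hzC c' hc')).eq).symm

theorem sq_mem_center (hC : C.index = 2) (hcomm : ∀ x ∈ C, ∀ y ∈ C, Commute x y) {a : X}
    (ha : a ∉ C) : a ^ 2 ∈ center X :=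
  mem_center_of_commute hC ha ((Commute.refl a).pow_left 2)
    (fun _ hc' => hcomm _ (Subgroup.sq_mem_of_index_two hC a) _ hc')

theorem conj_mul_mem_center (hC : C.index = 2) (hcomm : ∀ x ∈ C, ∀ y ∈ C, Commute x y) {a : X}
    (ha : a ∉ C) {c : X} (hc : c ∈ C) : a * c * a⁻¹ * c ∈ center X := by
  have hCn : C.Normal := Subgroup.normal_of_index_eq_two hC
  have hac : a * c * a⁻¹ ∈ C := hCn.conj_mem c hc a
  apply mem_center_of_commute hC ha
  · have h2 := sq_mem_center hC hcomm ha
    have h4 : a * a * c = c * (a * a) := by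
      rw [← sq]; exact (Subgroup.mem_center_iff.mp h2 c).symm
    have h5 : c * (a * c * a⁻¹) = (a * c * a⁻¹) * c := (hcomm _ hc _ hac).eq
    show a * c * a⁻¹ * c * a = a * (a * c * a⁻¹ * c)
    calc a * c * a⁻¹ * c * a = c * (a * c * a⁻¹) * a := by rw [h5]
      _ = c * (a * a) * a⁻¹ * c * a⁻¹ * a := by group
      _ = a * a * c * a⁻¹ * c * a⁻¹ * a := by rw [h4]
      _ = a * (a * c * a⁻¹ * c) := by group
  · intro c' hc'
    exact hcomm _ (C.mul_mem hac hc) _ hc'

/-- the commutator map `c ↦ a c a⁻¹ c⁻¹` on an abelian normal subgroup -/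
noncomputable def commMap (hCn : C.Normal) (hcomm : ∀ x ∈ C, ∀ y ∈ C, Commute x y) (a : X) :
    C →* X :=
  MonoidHom.mk' (fun c => a * (c : X) * a⁻¹ * (c : X)⁻¹) (by
    intro c d
    have h1 : a * (d : X) * a⁻¹ * (d : X)⁻¹ ∈ C :=
      C.mul_mem (hCn.conj_mem _ d.2 a) (C.inv_mem d.2)
    have h2 : Commute ((c : X)⁻¹) (a * (d : X) * a⁻¹ * (d : X)⁻¹) :=
      hcomm _ (C.inv_mem c.2) _ h1
    show a * ((c : X) * (d : X)) * a⁻¹ * ((c : X) * (d : X))⁻¹ =
      a * (c : X) * a⁻¹ * (c : X)⁻¹ * (a * (d : X) * a⁻¹ * (d : X)⁻¹)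
    calc a * ((c : X) * (d : X)) * a⁻¹ * ((c : X) * (d : X))⁻¹
        = a * (c : X) * a⁻¹ * ((a * (d : X) * a⁻¹ * (d : X)⁻¹) * (c : X)⁻¹) := by group
      _ = a * (c : X) * a⁻¹ * ((c : X)⁻¹ * (a * (d : X) * a⁻¹ * (d : X)⁻¹)) := by rw [h2.eq]
      _ = _ := by group)

theorem commMap_apply (hCn : C.Normal) (hcomm : ∀ x ∈ C, ∀ y ∈ C, Commute x y) (a : X) (c : C) :
    commMap hCn hcomm a c = a * (c : X) * a⁻¹ * (c : X)⁻¹ := rfl

theorem commMap_range_le (hCn : C.Normal) (hcomm : ∀ x ∈ C, ∀ y ∈ C, Commute x y) (a : X) :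
    (commMap hCn hcomm a).range ≤ C := by
  rintro _ ⟨c, rfl⟩
  rw [commMap_apply]
  exact C.mul_mem (hCn.conj_mem _ c.2 a) (C.inv_mem c.2)

theorem commMap_range_normal (hC : C.index = 2) (hCn : C.Normal)
    (hcomm : ∀ x ∈ C, ∀ y ∈ C, Commute x y) {a : X} (ha : a ∉ C) :
    (commMap hCn hcomm a).range.Normal := by
  constructor
  rintro _ ⟨c, rfl⟩ g
  rw [commMap_apply]
  have hr : a * (c : X) * a⁻¹ * (c : X)⁻¹ ∈ C :=
    C.mul_mem (hCn.conj_mem _ c.2 a) (C.inv_mem c.2)
  have hconj : a * (a * (c : X) * a⁻¹ * (c : X)⁻¹) * a⁻¹ ∈ (commMap hCn hcomm a).range := by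
    refine ⟨⟨a * (c : X) * a⁻¹, hCn.conj_mem _ c.2 a⟩, ?_⟩
    rw [commMap_apply]
    group
  obtain ⟨c', hc', h | h⟩ := exists_eq_or_eq_mul hC ha g
  · rw [h]
    have h2 : Commute c' (a * (c : X) * a⁻¹ * (c : X)⁻¹) := hcomm _ hc' _ hr
    rw [h2.eq, mul_assoc, mul_inv_cancel, mul_one]
    exact ⟨c, rfl⟩
  · rw [h]
    have h2 : Commute c' (a * (c : X) * a⁻¹ * (c : X)⁻¹) := hcomm _ hc' _ hr
    have h3 : a * c' * (a * (c : X) * a⁻¹ * (c : X)⁻¹) * (a * c')⁻¹ =
        a * (c' * (a * (c : X) * a⁻¹ * (c : X)⁻¹)) * c'⁻¹ * a⁻¹ := by group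
    rw [h3, h2.eq]
    have h4 : a * (a * (c : X) * a⁻¹ * (c : X)⁻¹ * c') * c'⁻¹ * a⁻¹ =
        a * (a * (c : X) * a⁻¹ * (c : X)⁻¹) * a⁻¹ := by group
    rw [h4]
    exact hconj

theorem commutator_eq_commMap_range (hC : C.index = 2) (hCn : C.Normal)
    (hcomm : ∀ x ∈ C, ∀ y ∈ C, Commute x y) {a : X} (ha : a ∉ C) :
    commutator X = (commMap hCn hcomm a).range := by
  apply le_antisymm
  · have hRn := commMap_range_normal hC hCn hcomm ha
    rw [← Subgroup.Normal.quotient_commutative_iff_commutator_le]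
    set R := (commMap hCn hcomm a).range with hR
    have hca : ∀ c' ∈ C, Commute (QuotientGroup.mk' R a) (QuotientGroup.mk' R c') := by
      intro c' hc'
      show _ * _ = _ * _
      rw [← map_mul, ← map_mul, QuotientGroup.mk'_apply, QuotientGroup.mk'_apply,
        QuotientGroup.eq_iff_div_mem]
      refine ⟨⟨c', hc'⟩, ?_⟩
      rw [commMap_apply, div_eq_mul_inv]
      group
    have hcc : ∀ c' ∈ C, ∀ c'' ∈ C,
        Commute (QuotientGroup.mk' R c') (QuotientGroup.mk' R c'') := by
      intro c' hc' c'' hc''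
      show _ * _ = _ * _
      rw [← map_mul, ← map_mul, (hcomm _ hc' _ hc'').eq]
    refine ⟨⟨fun x y => ?_⟩⟩
    obtain ⟨g, rfl⟩ := QuotientGroup.mk'_surjective R x
    obtain ⟨h, rfl⟩ := QuotientGroup.mk'_surjective R y
    obtain ⟨c₁, hc₁, h1 | h1⟩ := exists_eq_or_eq_mul hC ha g <;>
    obtain ⟨c₂, hc₂, h2 | h2⟩ := exists_eq_or_eq_mul hC ha h
    · rw [h1, h2]; exact hcc _ hc₁ _ hc₂
    · rw [h1, h2, map_mul]
      exact ((hca _ hc₁).symm.mul_right (hcc _ hc₁ _ hc₂)).eq
    · rw [h1, h2, map_mul]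
      exact ((hca _ hc₂).mul_left (hcc _ hc₁ _ hc₂)).eq
    · rw [h1, h2, map_mul, map_mul]
      exact (((Commute.refl _).mul_right (hca _ hc₂)).mul_left
        ((hca _ hc₁).symm.mul_right (hcc _ hc₁ _ hc₂))).eq
  · rintro _ ⟨c, rfl⟩
    rw [commMap_apply, _root_.commutator_def]
    have : a * (c : X) * a⁻¹ * (c : X)⁻¹ = ⁅a, (c : X)⁆ := (commutatorElement_def _ _).symm
    rw [this]
    exact Subgroup.commutator_mem_commutator (Subgroup.mem_top _) (Subgroup.mem_top _)

/-- In a noncommutative group with a commutative subgroup `C` of index `2`: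
`|C| = |Z(X)| |X'|`. -/
theorem card_eq_card_center_mul_card_commutator [Finite X] (hC : C.index = 2)
    (hcomm : ∀ x ∈ C, ∀ y ∈ C, Commute x y) (hX : ¬ IsMulCommutative X) :
    Nat.card C = Nat.card (center X) * Nat.card (commutator X) := by
  have hCn : C.Normal := Subgroup.normal_of_index_eq_two hC
  have hCtop : C ≠ ⊤ := by
    intro h
    rw [h, Subgroup.index_top] at hC
    omega
  obtain ⟨a, ha⟩ : ∃ a : X, a ∉ C := by
    by_contra h
    push Not at h
    exact hCtop (eq_top_iff.mpr fun x _ => h x)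
  have hZC : center X ≤ C := by
    intro t ht
    by_contra htC
    apply hX
    have hall : ∀ g : X, g ∈ center X := by
      intro g
      have hc'Z : ∀ c' ∈ C, c' ∈ center X := by
        intro c' hc'
        apply mem_center_of_commute hC htC
        · exact ((Subgroup.mem_center_iff.mp ht c'))
        · intro c'' hc''
          exact hcomm _ hc' _ hc''
      obtain ⟨c', hc', h | h⟩ := exists_eq_or_eq_mul hC htC g
      · rw [h]; exact hc'Z c' hc'
      · rw [h]; exact Subgroup.mul_mem _ ht (hc'Z c' hc')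
    exact ⟨⟨fun x y => (Subgroup.mem_center_iff.mp (hall y) x)⟩⟩
  have hker : (commMap hCn hcomm a).ker = (center X).subgroupOf C := by
    ext c
    rw [MonoidHom.mem_ker, commMap_apply, Subgroup.mem_subgroupOf, mul_inv_eq_one,
      mul_inv_eq_iff_eq_mul]
    constructor
    · intro h
      apply mem_center_of_commute hC ha h.symm
      intro c' hc'
      exact hcomm _ c.2 _ hc'
    · intro h
      exact (Subgroup.mem_center_iff.mp h a)
  rw [commutator_eq_commMap_range hC hCn hcomm ha, ← Subgroup.index_ker, hker,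
    ← Nat.card_congr (Subgroup.subgroupOfEquivOfLe hZC).toEquiv]
  exact (Subgroup.card_mul_index _).symm

end IndexTwo

theorem nonempty_mulEquiv_dihedral {X : Type u} [Group X] [Finite X] (n : ℕ) (hn : 3 ≤ n)
    (hX : Nat.card X = 2 ^ n) (hc : Group.nilpotencyClass X = n - 1) :
    Nonempty (X ⧸ center X ≃* DihedralGroup (2 ^ (n - 2))) := by
  have hXp : IsPGroup 2 X := IsPGroup.of_card hX
  have hnil : Group.IsNilpotent X := hXp.isNilpotent
  have hncomm : ¬ IsMulCommutative X := by
    intro h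
    have := Group.IsNilpotent.nilpotencyClass_le_one_iff.mpr h
    omega
  obtain ⟨C, hCcyc, hCidx⟩ := exists_cyclic_index_two n hn X hX hc
  obtain ⟨⟨c, hcC⟩, hgen⟩ := hCcyc.exists_generator
  have hCc : ∀ y ∈ C, ∃ k : ℤ, c ^ k = y := by
    intro y hy
    obtain ⟨k, hk⟩ := Subgroup.mem_zpowers_iff.mp (hgen ⟨y, hy⟩)
    exact ⟨k, congrArg Subtype.val hk⟩
  have hCeq : C = zpowers c := by
    apply le_antisymm
    · intro y hy
      obtain ⟨k, hk⟩ := hCc y hy
      exact Subgroup.mem_zpowers_iff.mpr ⟨k, hk⟩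
    · rw [Subgroup.zpowers_le]; exact hcC
  have hcomm : ∀ x ∈ C, ∀ y ∈ C, Commute x y := by
    intro x hx y hy
    obtain ⟨i, rfl⟩ := hCc x hx
    obtain ⟨j, rfl⟩ := hCc y hy
    exact (Commute.refl c).zpow_zpow i j
  have hCtop : C ≠ ⊤ := by
    intro h
    rw [h, Subgroup.index_top] at hCidx
    omega
  obtain ⟨a, ha⟩ : ∃ a : X, a ∉ C := by
    by_contra h
    push Not at h
    exact hCtop (eq_top_iff.mpr fun x _ => h x)
  have hZC : center X ≤ C := by
    intro t ht
    by_contra htC
    apply hncomm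
    have hall : ∀ g : X, g ∈ center X := by
      intro g
      have hc'Z : ∀ c' ∈ C, c' ∈ center X := by
        intro c' hc'
        apply mem_center_of_commute hCidx htC
        · exact ((Subgroup.mem_center_iff.mp ht c'))
        · intro c'' hc''
          exact hcomm _ hc' _ hc''
      obtain ⟨c', hc', h | h⟩ := exists_eq_or_eq_mul hCidx htC g
      · rw [h]; exact hc'Z c' hc'
      · rw [h]; exact Subgroup.mul_mem _ ht (hc'Z c' hc')
    exact ⟨⟨fun x y => (Subgroup.mem_center_iff.mp (hall y) x)⟩⟩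
  have hQcard : Nat.card (X ⧸ center X) = 2 ^ (n - 1) :=
    card_quotient_center_of_maxClass (p := 2) n hn hX hc
  -- images
  set π := QuotientGroup.mk' (center X) with hπ
  have ha2 : π a * π a = 1 := by
    rw [← map_mul, ← sq, hπ, QuotientGroup.mk'_apply, QuotientGroup.eq_one_iff]
    exact sq_mem_center hCidx hcomm ha
  have hinv : π a * π c * (π a)⁻¹ = (π c)⁻¹ := by
    rw [eq_inv_iff_mul_eq_one, ← map_inv, ← map_mul, ← map_mul, ← map_mul, hπ,
      QuotientGroup.mk'_apply, QuotientGroup.eq_one_iff]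
    exact conj_mul_mem_center hCidx hcomm ha hcC
  have hmapC : C.map π = zpowers (π c) := by
    rw [hCeq, MonoidHom.map_zpowers]
  have hidx : (zpowers (π c)).index = 2 := by
    rw [← hmapC, Subgroup.index_map_eq _ (QuotientGroup.mk'_surjective _)
      (by rw [QuotientGroup.ker_mk']; exact hZC)]
    exact hCidx
  have hord : orderOf (π c) = 2 ^ (n - 2) := by
    rw [← Nat.card_zpowers]
    have h1 := Subgroup.card_mul_index (zpowers (π c))
    rw [hidx, hQcard] at h1
    have h2 : 2 ^ (n - 1) = 2 ^ (n - 2) * 2 := by rw [← pow_succ]; congr 1; omega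
    rw [h2] at h1
    exact Nat.eq_of_mul_eq_mul_right (by norm_num) h1
  have hanot : π a ∉ zpowers (π c) := by
    intro h
    rw [← hmapC] at h
    obtain ⟨y, hy, hya⟩ := h
    have h1 : y⁻¹ * a ∈ center X := by
      rw [← QuotientGroup.eq]
      exact hya
    apply ha
    have : a = y * (y⁻¹ * a) := by group
    rw [this]
    exact C.mul_mem hy (hZC h1)
  have : NeZero (2 ^ (n - 2)) := ⟨by positivity⟩
  obtain ⟨e⟩ := Cfsg.Agent.Lib.Helper10.nonempty_mulEquiv_dihedralGroup (2 ^ (n - 2)) (π a) (π c)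
    hord ha2 hinv hanot
  have htop : zpowers (π a) ⊔ zpowers (π c) = ⊤ := by
    apply Subgroup.eq_top_of_card_eq
    rw [Nat.card_congr e.toEquiv, DihedralGroup.nat_card, hQcard, ← pow_succ']
    congr 1
    omega
  exact ⟨(Subgroup.topEquiv.symm.trans (MulEquiv.subgroupCongr htop.symm)).trans e⟩

/-- a cyclic subgroup is elementwise commutative -/
theorem commute_of_isCyclic {X : Type*} [Group X] {C : Subgroup X} (hC : IsCyclic C) :
    ∀ x ∈ C, ∀ y ∈ C, Commute x y := by
  intro x hx y hy
  have := (IsCyclic.isMulCommutative (α := C)).is_comm.comm ⟨x, hx⟩ ⟨y, hy⟩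
  exact congrArg Subtype.val this

theorem not_isMulCommutative_of_maxClass {X : Type u} [Group X] [Finite X] (n : ℕ) (hn : 3 ≤ n)
    (hX : Nat.card X = 2 ^ n) (hc : Group.nilpotencyClass X = n - 1) : ¬ IsMulCommutative X := by
  have hXp : IsPGroup 2 X := IsPGroup.of_card hX
  have hnil : Group.IsNilpotent X := hXp.isNilpotent
  intro h
  have := Group.IsNilpotent.nilpotencyClass_le_one_iff.mpr h
  omega

theorem isKleinFour_of_maxClass {X : Type u} [Group X] [Finite X] (n : ℕ) (hn : 3 ≤ n)
    (hX : Nat.card X = 2 ^ n) (hc : Group.nilpotencyClass X = n - 1) :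
    IsKleinFour (X ⧸ commutator X) := by
  have hXp : IsPGroup 2 X := IsPGroup.of_card hX
  have hnil : Group.IsNilpotent X := hXp.isNilpotent
  have hncomm := not_isMulCommutative_of_maxClass n hn hX hc
  obtain ⟨C, hCcyc, hCidx⟩ := exists_cyclic_index_two n hn X hX hc
  have hcomm := commute_of_isCyclic hCcyc
  have hZ2 : Nat.card (center X) = 2 := card_center_of_maxClass (p := 2) n hn hX hc
  have h1 := card_eq_card_center_mul_card_commutator hCidx hcomm hncomm
  have hCcard : Nat.card C = 2 ^ (n - 1) := by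
    have h2 := Subgroup.card_mul_index C
    rw [hCidx, hX] at h2
    have h3 : 2 ^ n = 2 ^ (n - 1) * 2 := by rw [← pow_succ]; congr 1; omega
    rw [h3] at h2
    exact Nat.eq_of_mul_eq_mul_right (by norm_num) h2
  have hDcard : Nat.card (commutator X) = 2 ^ (n - 2) := by
    rw [hCcard, hZ2] at h1
    have h3 : 2 ^ (n - 1) = 2 * 2 ^ (n - 2) := by rw [← pow_succ']; congr 1; omega
    rw [h3] at h1
    exact (Nat.eq_of_mul_eq_mul_left (by norm_num) h1).symm
  have hQcard : Nat.card (X ⧸ commutator X) = 4 := by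
    have h2 := Subgroup.card_mul_index (commutator X)
    rw [hDcard, hX, Subgroup.index_eq_card] at h2
    have h3 : 2 ^ n = 2 ^ (n - 2) * 4 := by
      have : (4 : ℕ) = 2 ^ 2 := by norm_num
      rw [this, ← pow_add]; congr 1; omega
    rw [h3] at h2
    exact Nat.eq_of_mul_eq_mul_left (by positivity) h2
  -- `Z(X) ≤ X'`
  have hDne : commutator X ≠ ⊥ := by
    intro h
    rw [h, Subgroup.card_bot] at hDcard
    have : 2 ^ 1 ≤ 2 ^ (n - 2) := Nat.pow_le_pow_right (by norm_num) (by omega)
    omega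
  have hZD : center X ≤ commutator X := by
    have h3 := inf_center_ne_bot_of_normal (commutator X) hDne
    obtain ⟨⟨t, ht⟩, ht1⟩ := (Subgroup.ne_bot_iff_exists_ne_one).mp h3
    obtain ⟨htD, htZ⟩ := Subgroup.mem_inf.mp ht
    have ht1' : t ≠ 1 := fun h => ht1 (Subtype.ext h)
    intro s hs
    rcases eq_one_or_eq_of_card_two hZ2 hs htZ ht1' with h | h
    · rw [h]; exact Subgroup.one_mem _
    · rw [h]; exact htD
  have hCtop : C ≠ ⊤ := by
    intro h
    rw [h, Subgroup.index_top] at hCidx
    omega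
  obtain ⟨a, ha⟩ : ∃ a : X, a ∉ C := by
    by_contra h
    push Not at h
    exact hCtop (eq_top_iff.mpr fun x _ => h x)
  have hsq : ∀ g : X, g ^ 2 ∈ commutator X := by
    intro g
    by_cases hg : g ∈ C
    · have h2 := hZD (conj_mul_mem_center hCidx hcomm ha hg)
      have h3 : ⁅a, g⁆ ∈ commutator X := by
        rw [_root_.commutator_def]
        exact Subgroup.commutator_mem_commutator (Subgroup.mem_top _) (Subgroup.mem_top _)
      have h4 : g ^ 2 = ⁅a, g⁆⁻¹ * (a * g * a⁻¹ * g) := by
        rw [commutatorElement_def, sq]; group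
      rw [h4]
      exact Subgroup.mul_mem _ (Subgroup.inv_mem _ h3) h2
    · exact hZD (sq_mem_center hCidx hcomm hg)
  refine ⟨hQcard, ?_⟩
  have hdvd : Monoid.exponent (X ⧸ commutator X) ∣ 2 := by
    rw [Monoid.exponent_dvd_iff_forall_pow_eq_one]
    intro q
    obtain ⟨g, rfl⟩ := QuotientGroup.mk_surjective q
    rw [← QuotientGroup.mk_pow, QuotientGroup.eq_one_iff]
    exact hsq g
  rcases (Nat.dvd_prime Nat.prime_two).mp hdvd with h | h
  · exfalso
    rw [Monoid.exp_eq_one_iff] at h
    have : Nat.card (X ⧸ commutator X) = 1 := Nat.card_eq_one_iff_unique.mpr ⟨h, ⟨1⟩⟩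
    omega
  · exact h

theorem normal_of_le_center' {X : Type*} [Group X] {N : Subgroup X} (h : N ≤ center X) :
    N.Normal := by
  constructor
  intro x hx g
  have := Subgroup.mem_center_iff.mp (h hx) g
  rw [this, mul_assoc, mul_inv_cancel, mul_one]
  exact hx

theorem commutator_ne_bot_of_not_comm {X : Type*} [Group X] (h : ¬ IsMulCommutative X) :
    commutator X ≠ ⊥ := by
  intro h1
  rw [commutator_eq_bot_iff_center_eq_top, Subgroup.center_eq_top_iff] at h1
  exact h h1

/-- Taussky: a `2`-group of order `2 ^ n`, `n ≥ 3`, whose abelianization has order `4` is of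
maximal class. -/
theorem maxClass_of_card_abelianization :
    ∀ (n : ℕ), 3 ≤ n → ∀ (X : Type u) [Group X] [Finite X], Nat.card X = 2 ^ n →
      Nat.card (X ⧸ commutator X) = 4 → Group.nilpotencyClass X = n - 1 := by
  intro n hn
  induction n, hn using Nat.le_induction with
  | base =>
    intro X _ _ hX h4
    have hXp : IsPGroup 2 X := IsPGroup.of_card hX
    have hnil : Group.IsNilpotent X := hXp.isNilpotent
    have hle := nilpotencyClass_le_of_card_pow (p := 2) 3 X hX
    have hncomm : ¬ IsMulCommutative X := by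
      intro h
      have h1 : commutator X = ⊥ := by
        rw [commutator_eq_bot_iff_center_eq_top, Subgroup.center_eq_top_iff]
        exact h
      rw [← Subgroup.index_eq_card, h1, Subgroup.index_bot, hX] at h4
      omega
    have h2 : ¬ Group.nilpotencyClass X ≤ 1 := by
      rw [Group.IsNilpotent.nilpotencyClass_le_one_iff]
      exact hncomm
    have h3 : max 1 (3 - 1) = 2 := rfl
    rw [h3] at hle
    omega
  | succ n hn ih =>
    intro X _ _ hX h4
    have hXp : IsPGroup 2 X := IsPGroup.of_card hX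
    have hnil : Group.IsNilpotent X := hXp.isNilpotent
    have hDidx : (commutator X).index = 4 := by rw [Subgroup.index_eq_card]; exact h4
    have hDcard : Nat.card (commutator X) = 2 ^ (n - 1) := by
      have h2 := Subgroup.card_mul_index (commutator X)
      rw [hDidx, hX] at h2
      have h3 : 2 ^ (n + 1) = 2 ^ (n - 1) * 4 := by
        have : (4 : ℕ) = 2 ^ 2 := by norm_num
        rw [this, ← pow_add]; congr 1; omega
      rw [h3] at h2
      exact Nat.eq_of_mul_eq_mul_right (by norm_num) h2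
    have hDne : commutator X ≠ ⊥ := by
      intro h
      rw [h, Subgroup.card_bot] at hDcard
      have : 2 ^ 1 ≤ 2 ^ (n - 1) := Nat.pow_le_pow_right (by norm_num) (by omega)
      omega
    have hncomm : ¬ IsMulCommutative X := by
      intro h
      apply hDne
      rw [commutator_eq_bot_iff_center_eq_top, Subgroup.center_eq_top_iff]
      exact h
    have hnt : Nontrivial X := by
      by_contra h
      rw [not_nontrivial_iff_subsingleton] at h
      exact hncomm ⟨⟨fun a b => Subsingleton.elim _ _⟩⟩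
    -- a central subgroup of order two inside the commutator subgroup
    obtain ⟨N, hNcard, hNZ, hND⟩ : ∃ N : Subgroup X, Nat.card N = 2 ∧ N ≤ center X ∧
        N ≤ commutator X := by
      have h3 := inf_center_ne_bot_of_normal (commutator X) hDne
      have h2dvd : 2 ∣ Nat.card (commutator X ⊓ center X : Subgroup X) := by
        have hp : IsPGroup 2 (commutator X ⊓ center X : Subgroup X) := hXp.to_subgroup _
        obtain ⟨k, hk⟩ := hp.exists_card_eq
        have hk0 : k ≠ 0 := by
          rintro rfl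
          rw [pow_zero, Subgroup.card_eq_one] at hk
          exact h3 hk
        rw [hk]
        exact dvd_pow_self 2 hk0
      obtain ⟨⟨t, ht⟩, hto⟩ := exists_prime_orderOf_dvd_card' 2 h2dvd
      have hto' : orderOf t = 2 := by rw [← hto, Subgroup.orderOf_mk]
      obtain ⟨htD, htZ⟩ := Subgroup.mem_inf.mp ht
      refine ⟨zpowers t, ?_, ?_, ?_⟩
      · rw [Nat.card_zpowers, hto']
      · rw [Subgroup.zpowers_le]; exact htZ
      · rw [Subgroup.zpowers_le]; exact htD
    have hNn : N.Normal := normal_of_le_center' hNZ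
    have hQcard : Nat.card (X ⧸ N) = 2 ^ n := by
      have h2 := Subgroup.card_mul_index N
      rw [hNcard, hX, Subgroup.index_eq_card] at h2
      have h3 : 2 ^ (n + 1) = 2 * 2 ^ n := by rw [pow_succ']
      rw [h3] at h2
      exact Nat.eq_of_mul_eq_mul_left (by norm_num) h2
    have hsurj := QuotientGroup.mk'_surjective N
    have hQ4 : Nat.card ((X ⧸ N) ⧸ commutator (X ⧸ N)) = 4 := by
      rw [← Subgroup.index_eq_card]
      have h2 : commutator (X ⧸ N) = (commutator X).map (QuotientGroup.mk' N) := by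
        rw [_root_.commutator_def, _root_.commutator_def, Subgroup.map_commutator,
          ← MonoidHom.range_eq_map, MonoidHom.range_eq_top.mpr hsurj]
      rw [h2, Subgroup.index_map_eq _ hsurj (by rw [QuotientGroup.ker_mk']; exact hND)]
      exact hDidx
    have hQclass := ih (X ⧸ N) hQcard hQ4
    obtain ⟨C', hC'cyc, hC'idx⟩ := exists_cyclic_index_two n hn (X ⧸ N) hQcard hQclass
    have hCidx : (C'.comap (QuotientGroup.mk' N)).index = 2 := by
      rw [Subgroup.index_comap_of_surjective _ hsurj]; exact hC'idx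
    have hcomm : ∀ x ∈ C'.comap (QuotientGroup.mk' N), ∀ y ∈ C'.comap (QuotientGroup.mk' N),
        Commute x y := by
      obtain ⟨⟨q, hqC⟩, hgen⟩ := hC'cyc.exists_generator
      obtain ⟨c, rfl⟩ := QuotientGroup.mk_surjective q
      have hdecomp : ∀ x ∈ C'.comap (QuotientGroup.mk' N), ∃ k : ℤ, (c ^ k)⁻¹ * x ∈ N := by
        intro x hx
        obtain ⟨k, hk⟩ := Subgroup.mem_zpowers_iff.mp (hgen ⟨_, hx⟩)
        have hk' := congrArg Subtype.val hk
        refine ⟨k, ?_⟩
        rw [← QuotientGroup.eq, QuotientGroup.mk_zpow]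
        exact hk'
      intro x hx y hy
      obtain ⟨i, hi⟩ := hdecomp x hx
      obtain ⟨j, hj⟩ := hdecomp y hy
      have hs : ∀ g : X, Commute ((c ^ i)⁻¹ * x) g := fun g =>
        (Subgroup.mem_center_iff.mp (hNZ hi) g).symm
      have hs' : ∀ g : X, Commute ((c ^ j)⁻¹ * y) g := fun g =>
        (Subgroup.mem_center_iff.mp (hNZ hj) g).symm
      have hx' : x = c ^ i * ((c ^ i)⁻¹ * x) := by group
      have hy' : y = c ^ j * ((c ^ j)⁻¹ * y) := by group
      rw [hx', hy']
      apply Commute.mul_left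
      · apply Commute.mul_right
        · exact (Commute.refl c).zpow_zpow i j
        · exact (hs' _).symm
      · exact hs _
    have h1 := card_eq_card_center_mul_card_commutator hCidx hcomm hncomm
    have hCcard : Nat.card (C'.comap (QuotientGroup.mk' N)) = 2 ^ n := by
      have h2 := Subgroup.card_mul_index (C'.comap (QuotientGroup.mk' N))
      rw [hCidx, hX] at h2
      have h3 : 2 ^ (n + 1) = 2 ^ n * 2 := by rw [pow_succ]
      rw [h3] at h2
      exact Nat.eq_of_mul_eq_mul_right (by norm_num) h2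
    have hZ2 : Nat.card (center X) = 2 := by
      rw [hCcard, hDcard] at h1
      have h3 : 2 ^ n = 2 * 2 ^ (n - 1) := by rw [← pow_succ']; congr 1; omega
      rw [h3] at h1
      exact (Nat.eq_of_mul_eq_mul_right (by positivity) h1).symm
    have hNeq : N = center X := Subgroup.eq_of_le_of_card_ge hNZ (by rw [hNcard, hZ2])
    subst hNeq
    rw [Group.nilpotencyClass_eq_quotient_center_plus_one, hQclass]
    omega

end MaxClassTwo

end Cfsg.Agent.Lib.Helper1
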