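import Mathlib
import Cfsg.Agent.Lib.Helper1.Coprime
import Cfsg.Agent.Lib.Helper1.Frattini

/-!
Coprime action on an abelian subgroup: V = C_V(A) x [V,A].
-/

set_option autoImplicit false

open scoped commutatorElement
open Subgroup

namespace Cfsg.Agent.Lib.Helper1

variable {G : Type*} [Group G]

open scoped IsMulCommutative in
/-- The averaging ("norm") map of an abelian subgroup `V` under a finite group `A` normalizing it. -/
noncomputable def avgHom (A V : Subgroup G) [IsMulCommutative V] [Fintype A]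
    (hAV : A ≤ normalizer (V : Set G)) : V →* V where
  toFun v := ∏ a : A, conjNormalizer V a (hAV a.2) v
  map_one' := by simp
  map_mul' x y := by simp [Finset.prod_mul_distrib]

open scoped IsMulCommutative in
theorem avgHom_conj (A V : Subgroup G) [IsMulCommutative V] [Fintype A]
    (hAV : A ≤ normalizer (V : Set G)) (a : A) (v : V) :
    avgHom A V hAV (conjNormalizer V a (hAV a.2) v) = avgHom A V hAV v := by
  show ∏ b : A, conjNormalizer V b (hAV b.2) (conjNormalizer V a (hAV a.2) v) =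
    ∏ b : A, conjNormalizer V b (hAV b.2) v
  apply Fintype.prod_equiv (Equiv.mulRight a)
  intro b
  apply Subtype.ext
  simp [conjNormalizer, mul_assoc]

open scoped IsMulCommutative in
theorem avgHom_of_mem_centralizer (A V : Subgroup G) [IsMulCommutative V] [Fintype A]
    (hAV : A ≤ normalizer (V : Set G)) (v : V) (hv : (v : G) ∈ centralizer (A : Set G)) :
    avgHom A V hAV v = v ^ Fintype.card A := by
  show ∏ b : A, conjNormalizer V b (hAV b.2) v = _
  have : ∀ b : A, conjNormalizer V b (hAV b.2) v = v := by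
    intro b
    apply Subtype.ext
    have := (Subgroup.mem_centralizer_iff.mp hv) b b.2
    show (b : G) * v * (b : G)⁻¹ = v
    rw [this]; group
  simp [this]

theorem abelian_centralizer_inf_commutator_eq_bot [Finite G] (A V : Subgroup G) [IsMulCommutative V]
    (hAV : A ≤ normalizer (V : Set G)) (hcop : (Nat.card A).Coprime (Nat.card V)) :
    (V ⊓ centralizer (A : Set G)) ⊓ ⁅V, A⁆ = ⊥ := by
  classical
  have : Fintype A := Fintype.ofFinite A
  rw [eq_bot_iff]
  have hcomm : ⁅V, A⁆ ≤ (avgHom A V hAV).ker.map V.subtype := by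
    rw [Subgroup.commutator_le]
    intro v hv a ha
    have hmem : ⁅v, a⁆ ∈ V := commutator_le_of_le_normalizer hAV (Subgroup.commutator_mem_commutator hv ha)
    refine ⟨⟨⁅v, a⁆, hmem⟩, ?_, rfl⟩
    rw [SetLike.mem_coe, MonoidHom.mem_ker]
    have h1 : (⟨⁅v, a⁆, hmem⟩ : V) = ⟨v, hv⟩ * (conjNormalizer V a (hAV ha) ⟨v, hv⟩)⁻¹ := by
      apply Subtype.ext
      show ⁅v, a⁆ = v * (a * v * a⁻¹)⁻¹
      rw [commutatorElement_def]; group
    rw [h1, map_mul, map_inv]
    have := avgHom_conj A V hAV ⟨a, ha⟩ ⟨v, hv⟩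
    rw [this, mul_inv_cancel]
  rintro c ⟨⟨hcV, hcC⟩, hcc⟩
  obtain ⟨c', hc', rfl⟩ := hcomm hcc
  rw [SetLike.mem_coe, MonoidHom.mem_ker, avgHom_of_mem_centralizer A V hAV c' hcC] at hc'
  have h2 : c' ^ Nat.card V = 1 := pow_card_eq_one'
  have h3 : c' ^ Nat.card A = 1 := by rw [Nat.card_eq_fintype_card]; exact hc'
  have h4 : c' = 1 := by
    have d1 := orderOf_dvd_of_pow_eq_one h3
    have d2 := orderOf_dvd_of_pow_eq_one h2
    have d3 := Nat.dvd_gcd d1 d2
    rw [Nat.Coprime.gcd_eq_one hcop, Nat.dvd_one, orderOf_eq_one_iff] at d3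
    exact d3
  rw [h4]; simp

theorem abelian_centralizer_sup_commutator_eq [Finite G] (A V : Subgroup G) [IsMulCommutative V]
    (hAV : A ≤ normalizer (V : Set G)) (hcop : (Nat.card A).Coprime (Nat.card V)) :
    (V ⊓ centralizer (A : Set G)) ⊔ ⁅V, A⁆ = V := by
  have hV : Group.IsSolvable V := Group.isSolvable_of_comm (fun a b => IsMulCommutative.is_comm.comm a b)
  have h : CoprimeAct A V := ⟨hAV, hcop, Or.inr hV⟩
  rw [sup_comm]
  exact h.commutator_sup_centralizer

theorem le_centralizer_of_centralizes_prime_order [Finite G] (A V : Subgroup G) [IsMulCommutative V]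
    (hAV : A ≤ normalizer (V : Set G)) (hcop : (Nat.card A).Coprime (Nat.card V))
    (hΩ : ∀ v ∈ V, (orderOf v).Prime → ∀ a ∈ A, a * v = v * a) :
    A ≤ centralizer (V : Set G) := by
  rw [Subgroup.le_centralizer_iff, ← Subgroup.commutator_eq_bot_iff_le_centralizer]
  by_contra hne
  have hcard : Nat.card (⁅V, A⁆ : Subgroup G) ≠ 1 := by
    rwa [Ne, Subgroup.card_eq_one]
  have hp : (Nat.card (⁅V, A⁆ : Subgroup G)).minFac.Prime := Nat.minFac_prime hcard
  have : Fact (Nat.card (⁅V, A⁆ : Subgroup G)).minFac.Prime := ⟨hp⟩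
  obtain ⟨x, hx⟩ := exists_prime_orderOf_dvd_card' (G := (⁅V, A⁆ : Subgroup G))
    (Nat.card (⁅V, A⁆ : Subgroup G)).minFac (Nat.minFac_dvd _)
  have hxV : (x : G) ∈ V := commutator_le_of_le_normalizer hAV x.2
  have hox : orderOf (x : G) = (Nat.card (⁅V, A⁆ : Subgroup G)).minFac := by
    rw [Subgroup.orderOf_coe]; exact hx
  have hxC : (x : G) ∈ centralizer (A : Set G) := by
    rw [Subgroup.mem_centralizer_iff]
    intro a ha
    exact hΩ x hxV (by rw [hox]; exact hp) a ha
  have hbot := abelian_centralizer_inf_commutator_eq_bot A V hAV hcop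
  have hx1 : (x : G) ∈ (V ⊓ centralizer (A : Set G)) ⊓ ⁅V, A⁆ := ⟨⟨hxV, hxC⟩, x.2⟩
  rw [hbot, Subgroup.mem_bot] at hx1
  rw [hx1, orderOf_one] at hox
  exact hp.ne_one hox.symm

end Cfsg.Agent.Lib.Helper1
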