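import Mathlib
import Cfsg.Agent.Lib.Helper1.ClassTwo

/-!
# Power formula in groups of class at most three

`ClassThree.mul_pow_formula`: a collection formula
`(x y)^n = x^n y^n u^(n choose 2) w^(n choose 3) v^(∑ i<n, i^2)` under explicit relations;
`ClassThree.mul_pow_class_three` its instance in a group with `γ₄ = 1`;
`ClassThree.mul_pow_prime`: `p > 3`, class ≤ 3 and `R' ≤ Ω₁(R)` imply `(xy)^p = x^p y^p`.
-/

set_option autoImplicit false

open scoped commutatorElement

namespace Cfsg.Agent.Lib.Helper1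

namespace ClassThree

variable {G : Type*} [Group G]

theorem iterate_formula (σ : MulAut G) (y u w : G) (h1 : σ y = y * u)
    (h2 : σ u = u * w) (h3 : σ w = w) (huw : Commute u w) (n : ℕ) :
    (σ ^ n) y = y * u ^ n * w ^ (n.choose 2) := by
  induction n with
  | zero => simp
  | succ n ih =>
    rw [pow_succ', MulAut.mul_apply, ih, map_mul, map_mul, map_pow, map_pow, h1, h2, h3,
      huw.mul_pow]
    have hc : (n + 1).choose 2 = n + n.choose 2 := by
      rw [Nat.choose_succ_succ, Nat.choose_one_right]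
    rw [hc, pow_add w n, pow_succ' u n]
    simp only [mul_assoc]

theorem conj_pow_formula (x y u w : G) (h1 : x⁻¹ * y * x = y * u) (h2 : x⁻¹ * u * x = u * w)
    (hwx : Commute w x) (huw : Commute u w) (n : ℕ) :
    (x ^ n)⁻¹ * y * x ^ n = y * u ^ n * w ^ (n.choose 2) := by
  have h3 : x⁻¹ * w * x = w := by
    rw [mul_assoc, hwx.eq, ← mul_assoc, inv_mul_cancel, one_mul]
  have := iterate_formula (MulAut.conj x⁻¹) y u w (by simpa using h1) (by simpa using h2)
    (by simpa using h3) huw n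
  rw [← map_pow, MulAut.conj_apply, inv_pow, inv_inv] at this
  exact this

theorem mul_pow_formula (x y u w v : G)
    (h1 : x⁻¹ * y * x = y * u) (h2 : x⁻¹ * u * x = u * w) (h3 : y⁻¹ * u * y = u * v)
    (hwx : Commute w x) (hwu : Commute w u) (hwy : Commute w y)
    (hvu : Commute v u) (hvy : Commute v y) (hvw : Commute v w) (n : ℕ) :
    (x * y) ^ n = x ^ n * y ^ n * u ^ (n.choose 2) * w ^ (n.choose 3) *
      v ^ (∑ i ∈ Finset.range n, i ^ 2) := by
  have hσ := conj_pow_formula x y u w h1 h2 hwx hwu.symm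
  have hτ : ∀ m k : ℕ, (y ^ m)⁻¹ * u ^ k * y ^ m = u ^ k * v ^ (m * k) := by
    intro m k
    have h3' : y⁻¹ * v * y = v * 1 := by
      rw [mul_one, mul_assoc, hvy.eq, ← mul_assoc, inv_mul_cancel, one_mul]
    have h4 := conj_pow_formula y u v 1 h3 h3' (Commute.one_left y) (Commute.one_right v) m
    rw [one_pow, mul_one] at h4
    have h5 : (y ^ m)⁻¹ * u ^ k * y ^ m = ((y ^ m)⁻¹ * u * y ^ m) ^ k := by
      have := map_pow (MulAut.conj (y ^ m)⁻¹) u k
      rw [MulAut.conj_apply, MulAut.conj_apply, inv_inv] at this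
      exact this
    rw [h5, h4, hvu.symm.pow_right m |>.mul_pow, ← pow_mul]
  induction n with
  | zero => simp
  | succ n ih =>
    have hc2 : (n + 1).choose 2 = n + n.choose 2 := by
      rw [Nat.choose_succ_succ, Nat.choose_one_right]
    have hc3 : (n + 1).choose 3 = n.choose 2 + n.choose 3 := by
      rw [Nat.choose_succ_succ]
    rw [pow_succ' (x * y), ih, hc2, hc3, Finset.sum_range_succ]
    set U := u ^ n.choose 2 with hU
    set W := w ^ n.choose 3 with hW
    set V := v ^ (∑ i ∈ Finset.range n, i ^ 2) with hV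
    have e1 : x * y * (x ^ n * y ^ n * U * W * V) =
        x ^ (n + 1) * ((x ^ n)⁻¹ * y * x ^ n) * y ^ n * U * W * V := by
      rw [pow_succ']; group
    rw [e1, hσ n]
    have cwy : Commute (w ^ n.choose 2) (y ^ n) := hwy.pow_pow _ _
    have e2 : y * u ^ n * w ^ n.choose 2 * y ^ n =
        y ^ (n + 1) * ((y ^ n)⁻¹ * u ^ n * y ^ n) * w ^ n.choose 2 := by
      rw [mul_assoc (y * u ^ n), cwy.eq, pow_succ']; group
    have e3 : x ^ (n + 1) * (y * u ^ n * w ^ n.choose 2) * y ^ n * U * W * V =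
        x ^ (n + 1) * (y * u ^ n * w ^ n.choose 2 * y ^ n) * U * W * V := by group
    rw [e3, e2, hτ n n]
    -- now rearrange
    have c1 : Commute (v ^ (n * n)) (w ^ n.choose 2 * U * W * V) := by
      apply Commute.mul_right
      · apply Commute.mul_right
        · apply Commute.mul_right
          · exact hvw.pow_pow _ _
          · exact hvu.pow_pow _ _
        · exact hvw.pow_pow _ _
      · exact (Commute.refl v).pow_pow _ _
    have c2 : Commute (w ^ n.choose 2) U := hwu.pow_pow _ _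
    calc x ^ (n + 1) * (y ^ (n + 1) * (u ^ n * v ^ (n * n)) * w ^ n.choose 2) * U * W * V
        = x ^ (n + 1) * y ^ (n + 1) * u ^ n * (v ^ (n * n) * (w ^ n.choose 2 * U * W * V)) := by
          group
      _ = x ^ (n + 1) * y ^ (n + 1) * u ^ n * ((w ^ n.choose 2 * U * W * V) * v ^ (n * n)) := by
          rw [c1.eq]
      _ = x ^ (n + 1) * y ^ (n + 1) * u ^ n * (w ^ n.choose 2 * U) * W * V * v ^ (n * n) := by
          group
      _ = x ^ (n + 1) * y ^ (n + 1) * u ^ n * (U * w ^ n.choose 2) * W * V * v ^ (n * n) := by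
          rw [c2.eq]
      _ = x ^ (n + 1) * y ^ (n + 1) * u ^ (n + n.choose 2) * w ^ (n.choose 2 + n.choose 3) *
          v ^ (∑ i ∈ Finset.range n, i ^ 2 + n ^ 2) := by
          rw [pow_add u n, pow_add w (n.choose 2), pow_add v _ (n ^ 2), sq]
          simp only [mul_assoc, hU, hW, hV]

theorem six_mul_sum_sq (n : ℕ) :
    6 * ∑ i ∈ Finset.range (n + 1), i ^ 2 = n * (n + 1) * (2 * n + 1) := by
  induction n with
  | zero => simp
  | succ n ih =>
    rw [Finset.sum_range_succ, mul_add, ih]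
    ring

theorem prime_dvd_sum_sq {p : ℕ} (hp : p.Prime) (h3 : 3 < p) :
    p ∣ ∑ i ∈ Finset.range p, i ^ 2 := by
  obtain ⟨n, rfl⟩ : ∃ n, p = n + 1 := ⟨p - 1, by have := hp.two_le; omega⟩
  have h1 := six_mul_sum_sq n
  have h2 : (n + 1) ∣ 6 * ∑ i ∈ Finset.range (n + 1), i ^ 2 := by
    rw [h1]
    exact Dvd.dvd.mul_right (Dvd.intro_left n rfl) _
  have hcop : Nat.Coprime (n + 1) 6 := by
    rw [Nat.Prime.coprime_iff_not_dvd hp]
    intro h
    have h6 : (6 : ℕ) = 2 * 3 := by norm_num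
    rw [h6] at h
    rcases (Nat.Prime.dvd_mul hp).mp h with h | h
    · have := Nat.le_of_dvd (by norm_num) h
      omega
    · have := Nat.le_of_dvd (by norm_num) h
      omega
  exact hcop.dvd_of_dvd_mul_left h2

section

variable {R : Type*} [Group R]

theorem triple_commute (h4 : ⁅⁅commutator R, (⊤ : Subgroup R)⁆, (⊤ : Subgroup R)⁆ = ⊥)
    (a b c g : R) : Commute ⁅⁅a, b⁆, c⁆ g := by
  rw [← commutatorElement_eq_one_iff_commute, ← Subgroup.mem_bot, ← h4]
  apply Subgroup.commutator_mem_commutator _ (Subgroup.mem_top g)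
  apply Subgroup.commutator_mem_commutator _ (Subgroup.mem_top c)
  exact Subgroup.commutator_mem_commutator (Subgroup.mem_top a) (Subgroup.mem_top b)

/-- the three commutators appearing in the power formula -/
def cu (x y : R) : R := ⁅y⁻¹, x⁻¹⁆
def cw (x y : R) : R := ⁅(cu x y)⁻¹, x⁻¹⁆
def cv (x y : R) : R := ⁅(cu x y)⁻¹, y⁻¹⁆

theorem cu_mem (x y : R) : cu x y ∈ commutator R := by
  rw [cu, commutator_def]
  exact Subgroup.commutator_mem_commutator (Subgroup.mem_top _) (Subgroup.mem_top _)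

theorem cw_mem (x y : R) : cw x y ∈ commutator R := by
  rw [cw, commutator_def]
  exact Subgroup.commutator_mem_commutator (Subgroup.mem_top _) (Subgroup.mem_top _)

theorem cv_mem (x y : R) : cv x y ∈ commutator R := by
  rw [cv, commutator_def]
  exact Subgroup.commutator_mem_commutator (Subgroup.mem_top _) (Subgroup.mem_top _)

theorem rel1 (x y : R) : x⁻¹ * y * x = y * cu x y := by
  rw [cu, commutatorElement_def]; group

theorem rel2 (x y : R) : x⁻¹ * cu x y * x = cu x y * cw x y := by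
  rw [cw, commutatorElement_def]; group

theorem rel3 (x y : R) : y⁻¹ * cu x y * y = cu x y * cv x y := by
  rw [cv, commutatorElement_def]; group

theorem cw_commute (h4 : ⁅⁅commutator R, (⊤ : Subgroup R)⁆, (⊤ : Subgroup R)⁆ = ⊥)
    (x y g : R) : Commute (cw x y) g := by
  have : cw x y = ⁅⁅x⁻¹, y⁻¹⁆, x⁻¹⁆ := by
    rw [cw, cu, commutatorElement_inv]
  rw [this]
  exact triple_commute h4 _ _ _ g

theorem cv_commute (h4 : ⁅⁅commutator R, (⊤ : Subgroup R)⁆, (⊤ : Subgroup R)⁆ = ⊥)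
    (x y g : R) : Commute (cv x y) g := by
  have : cv x y = ⁅⁅x⁻¹, y⁻¹⁆, y⁻¹⁆ := by
    rw [cv, cu, commutatorElement_inv]
  rw [this]
  exact triple_commute h4 _ _ _ g

theorem mul_pow_class_three (h4 : ⁅⁅commutator R, (⊤ : Subgroup R)⁆, (⊤ : Subgroup R)⁆ = ⊥)
    (x y : R) (n : ℕ) :
    (x * y) ^ n = x ^ n * y ^ n * cu x y ^ (n.choose 2) * cw x y ^ (n.choose 3) *
      cv x y ^ (∑ i ∈ Finset.range n, i ^ 2) :=
  mul_pow_formula x y (cu x y) (cw x y) (cv x y) (rel1 x y) (rel2 x y) (rel3 x y)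
    (cw_commute h4 x y _) (cw_commute h4 x y _) (cw_commute h4 x y _)
    (cv_commute h4 x y _) (cv_commute h4 x y _) (cv_commute h4 x y _) n

theorem pow_eq_one_of_dvd {g : R} {p k : ℕ} (hg : g ^ p = 1) (hk : p ∣ k) : g ^ k = 1 := by
  obtain ⟨m, rfl⟩ := hk
  rw [pow_mul, hg, one_pow]

theorem cw_pow_eq_one (h4 : ⁅⁅commutator R, (⊤ : Subgroup R)⁆, (⊤ : Subgroup R)⁆ = ⊥)
    {x : R} (y : R) {p : ℕ} (hx : x ^ p = 1) : cw x y ^ p = 1 := by
  have h := conj_pow_formula x (cu x y) (cw x y) 1 (rel2 x y)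
    (by rw [mul_one, mul_assoc, (cw_commute h4 x y x).eq, ← mul_assoc, inv_mul_cancel, one_mul])
    (Commute.one_left x) (Commute.one_right _) p
  rw [hx, one_pow, mul_one, inv_one, one_mul, mul_one] at h
  exact (mul_eq_left.mp h.symm)

theorem cv_pow_eq_one (h4 : ⁅⁅commutator R, (⊤ : Subgroup R)⁆, (⊤ : Subgroup R)⁆ = ⊥)
    (x : R) {y : R} {p : ℕ} (hy : y ^ p = 1) : cv x y ^ p = 1 := by
  have h := conj_pow_formula y (cu x y) (cv x y) 1 (rel3 x y)
    (by rw [mul_one, mul_assoc, (cv_commute h4 x y y).eq, ← mul_assoc, inv_mul_cancel, one_mul])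
    (Commute.one_left y) (Commute.one_right _) p
  rw [hy, one_pow, mul_one, inv_one, one_mul, mul_one] at h
  exact (mul_eq_left.mp h.symm)

theorem cu_pow_eq_one (h4 : ⁅⁅commutator R, (⊤ : Subgroup R)⁆, (⊤ : Subgroup R)⁆ = ⊥)
    {x : R} (y : R) {p : ℕ} (hp2 : p ∣ p.choose 2) (hx : x ^ p = 1) : cu x y ^ p = 1 := by
  have h := conj_pow_formula x y (cu x y) (cw x y) (rel1 x y) (rel2 x y)
    (cw_commute h4 x y x) (cw_commute h4 x y _).symm p
  rw [hx, inv_one, one_mul, mul_one, pow_eq_one_of_dvd (cw_pow_eq_one h4 y hx) hp2, mul_one] at h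
  exact (mul_eq_left.mp h.symm)

/-- In a group of class at most three, if `p` divides `p.choose 2`, `p.choose 3` and
`∑ i < p, i ^ 2` (e.g. `p > 3` prime), the product of two elements of order dividing `p` has
order dividing `p`. -/
theorem mul_pow_eq_one (h4 : ⁅⁅commutator R, (⊤ : Subgroup R)⁆, (⊤ : Subgroup R)⁆ = ⊥)
    {p : ℕ} (hp2 : p ∣ p.choose 2) (hp3 : p ∣ p.choose 3)
    (hps : p ∣ ∑ i ∈ Finset.range p, i ^ 2) {x y : R} (hx : x ^ p = 1) (hy : y ^ p = 1) :
    (x * y) ^ p = 1 := by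
  rw [mul_pow_class_three h4, hx, hy, pow_eq_one_of_dvd (cu_pow_eq_one h4 y hp2 hx) hp2,
    pow_eq_one_of_dvd (cw_pow_eq_one h4 y hx) hp3, pow_eq_one_of_dvd (cv_pow_eq_one h4 x hy) hps]
  simp

theorem pow_eq_one_of_mem_closure (h4 : ⁅⁅commutator R, (⊤ : Subgroup R)⁆, (⊤ : Subgroup R)⁆ = ⊥)
    {p : ℕ} (hp2 : p ∣ p.choose 2) (hp3 : p ∣ p.choose 3)
    (hps : p ∣ ∑ i ∈ Finset.range p, i ^ 2) (g : R)
    (hg : g ∈ Subgroup.closure {x : R | x ^ p = 1}) : g ^ p = 1 := by
  induction hg using Subgroup.closure_induction with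
  | mem z hz => exact hz
  | one => simp
  | mul a b _ _ iha ihb => exact mul_pow_eq_one h4 hp2 hp3 hps iha ihb
  | inv a _ iha => rw [inv_pow, iha, inv_one]

theorem mul_pow_prime (h4 : ⁅⁅commutator R, (⊤ : Subgroup R)⁆, (⊤ : Subgroup R)⁆ = ⊥)
    {p : ℕ} (hp : p.Prime) (h3 : 3 < p)
    (hder : commutator R ≤ Subgroup.closure {x : R | x ^ p = 1}) (x y : R) :
    (x * y) ^ p = x ^ p * y ^ p := by
  have hp2 : p ∣ p.choose 2 := hp.dvd_choose_self (by norm_num) (by omega)
  have hp3 : p ∣ p.choose 3 := hp.dvd_choose_self (by norm_num) (by omega)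
  have hps := prime_dvd_sum_sq hp h3
  have key : ∀ g ∈ commutator R, g ^ p = 1 := fun g hg =>
    pow_eq_one_of_mem_closure h4 hp2 hp3 hps g (hder hg)
  rw [mul_pow_class_three h4, pow_eq_one_of_dvd (key _ (cu_mem x y)) hp2,
    pow_eq_one_of_dvd (key _ (cw_mem x y)) hp3, pow_eq_one_of_dvd (key _ (cv_mem x y)) hps]
  simp

theorem mul_pow_prime_of_class_two {p : ℕ} [Fact p.Prime] (hp2 : p ≠ 2)
    (h2 : ⁅commutator R, (⊤ : Subgroup R)⁆ = ⊥)
    (hder : commutator R ≤ Subgroup.closure {x : R | x ^ p = 1}) (x y : R) :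
    (x * y) ^ p = x ^ p * y ^ p := by
  have hcomm := commutator_le_center_of_class_two h2
  have hmem : ⁅y, x⁆ ∈ commutator R := by
    rw [commutator_def]
    exact Subgroup.commutator_mem_commutator (Subgroup.mem_top y) (Subgroup.mem_top x)
  have hc : ⁅y, x⁆ ∈ Subgroup.center R := hcomm hmem
  have hcx := ((Subgroup.mem_center_iff.mp hc) x).symm
  have hcy := ((Subgroup.mem_center_iff.mp hc) y).symm
  rw [mul_pow_of_commutator_central hcx hcy]
  have hcp : ⁅y, x⁆ ^ p = 1 := pow_eq_one_of_mem_closure_of_class_two hp2 h2 _ (hder hmem)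
  have hdvd : p ∣ p.choose 2 := (Fact.out : p.Prime).dvd_choose_self (by norm_num)
    (by have := (Fact.out : p.Prime).two_le; omega)
  rw [pow_eq_one_of_dvd hcp hdvd, mul_one]

end

end ClassThree

end Cfsg.Agent.Lib.Helper1
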