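import Mathlib
import Cfsg.Agent.Lib.Helper1.Nilpotent
import Cfsg.Agent.Lib.Helper1.Frattini

/-!
# Helper1 library: Thompson's critical subgroup

* `criticalAux p M = {x ∈ C_P(M) | [x, P] ≤ M, x ^ p ∈ M}` (characteristic when `M` is).
* `exists_critical_subgroup`: every finite `p`-group `P` has a characteristic subgroup `H` with
  `Φ(H) ≤ Z(H)`, `[H, P] ≤ Z(H)`, `C_P(H) = Z(H)`.
-/

set_option autoImplicit false

namespace Cfsg.Agent.Lib.Helper1

open scoped commutatorElement

section Critical

variable {P : Type*} [Group P]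

theorem commute_mk_of_mem_step (M : Subgroup P) [M.Normal] {x : P}
    (hx : x ∈ Subgroup.upperCentralSeriesStep M) (y : P) :
    Commute (x : P ⧸ M) (y : P ⧸ M) := by
  have := (Subgroup.mem_upperCentralSeriesStep M x).mp hx y
  rw [← QuotientGroup.eq_one_iff] at this
  have h4 : ((⁅x, y⁆ : P) : P ⧸ M) = ⁅(x : P ⧸ M), (y : P ⧸ M)⁆ := by
    simp [commutatorElement_def]
  rw [h4, commutatorElement_eq_one_iff_commute] at this
  exact this

/-- the subgroup `{x ∈ C_P(M) | [x, P] ≤ M, x ^ p ∈ M}`, used to build a critical subgroup. -/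
def criticalAux (p : ℕ) (M : Subgroup P) [M.Normal] : Subgroup P where
  carrier := {x | x ∈ Subgroup.centralizer (M : Set P) ∧ x ∈ Subgroup.upperCentralSeriesStep M ∧
    x ^ p ∈ M}
  one_mem' := ⟨one_mem _, one_mem _, by simp [one_mem]⟩
  inv_mem' := by
    rintro x ⟨h1, h2, h3⟩
    exact ⟨inv_mem h1, inv_mem h2, by rw [inv_pow]; exact inv_mem h3⟩
  mul_mem' := by
    rintro x y ⟨h1, h2, h3⟩ ⟨k1, k2, k3⟩
    refine ⟨mul_mem h1 k1, mul_mem h2 k2, ?_⟩
    rw [← QuotientGroup.eq_one_iff] at h3 k3 ⊢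
    have hc := commute_mk_of_mem_step M h2 y
    rw [QuotientGroup.mk_pow, QuotientGroup.mk_mul, hc.mul_pow, ← QuotientGroup.mk_pow,
      ← QuotientGroup.mk_pow, h3, k3, one_mul]

theorem mem_criticalAux {p : ℕ} {M : Subgroup P} [M.Normal] {x : P} :
    x ∈ criticalAux p M ↔ x ∈ Subgroup.centralizer (M : Set P) ∧
      x ∈ Subgroup.upperCentralSeriesStep M ∧ x ^ p ∈ M := Iff.rfl

instance criticalAux_characteristic (p : ℕ) (M : Subgroup P) [hM : M.Characteristic] :
    (criticalAux p M).Characteristic := by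
  rw [Subgroup.characteristic_iff_map_le]
  intro φ
  rintro _ ⟨x, ⟨h1, h2, h3⟩, rfl⟩
  have hC : (Subgroup.centralizer (M : Set P)).Characteristic := inferInstance
  have hS : (Subgroup.upperCentralSeriesStep M).Characteristic := inferInstance
  refine ⟨?_, ?_, ?_⟩
  · exact (Subgroup.characteristic_iff_map_le.mp hC φ) ⟨x, h1, rfl⟩
  · exact (Subgroup.characteristic_iff_map_le.mp hS φ) ⟨x, h2, rfl⟩
  · show (φ.toMonoidHom x) ^ p ∈ M
    rw [← map_pow]
    exact (Subgroup.characteristic_iff_map_le.mp hM φ) ⟨x ^ p, h3, rfl⟩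

variable [Finite P]

/-- **Thompson's critical subgroup**: every finite `p`-group has a characteristic subgroup `H`
with `Φ(H) ≤ Z(H)`, `[H, P] ≤ Z(H)` and `C_P(H) = Z(H)`. -/
theorem exists_critical_subgroup {p : ℕ} [Fact p.Prime] (hP : IsPGroup p P) :
    ∃ H : Subgroup P, H.Characteristic ∧
      (frattini H).map H.subtype ≤ Subgroup.centralizer (H : Set P) ∧
      ⁅H, (⊤ : Subgroup P)⁆ ≤ H ⊓ Subgroup.centralizer (H : Set P) ∧
      Subgroup.centralizer (H : Set P) ≤ H := by
  classical
  -- a maximal characteristic abelian subgroup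
  obtain ⟨M, ⟨hMchar, hMcomm⟩, hmax⟩ :=
    (Set.toFinite {A : Subgroup P | A.Characteristic ∧ IsMulCommutative A}).exists_maximal
      ⟨⊥, Subgroup.botCharacteristic, inferInstance⟩
  have hMn : M.Normal := inferInstance
  set H := criticalAux p M with hH
  have hHchar : H.Characteristic := inferInstance
  have hMC : M ≤ Subgroup.centralizer (M : Set P) := by
    intro x hx
    rw [Subgroup.mem_centralizer_iff]
    intro y hy
    exact congrArg Subtype.val (mul_comm' (⟨y, hy⟩ : M) ⟨x, hx⟩)
  have hMH : M ≤ H := by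
    intro x hx
    refine ⟨hMC hx, ?_, pow_mem hx p⟩
    rw [Subgroup.mem_upperCentralSeriesStep]
    intro y
    rw [commutatorElement_def]
    have : x * y * x⁻¹ * y⁻¹ = x * (y * x⁻¹ * y⁻¹) := by group
    rw [this]
    exact mul_mem hx (hMn.conj_mem _ (inv_mem hx) y)
  have hHC : H ≤ Subgroup.centralizer (M : Set P) := fun x hx => hx.1
  have hMCH : M ≤ Subgroup.centralizer (H : Set P) := by
    intro m hm
    rw [Subgroup.mem_centralizer_iff]
    intro x hx
    exact ((Subgroup.mem_centralizer_iff.mp (hHC hx)) m hm).symm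
  have hcomm : ⁅H, (⊤ : Subgroup P)⁆ ≤ M := by
    rw [Subgroup.commutator_le]
    intro x hx y _
    exact (Subgroup.mem_upperCentralSeriesStep M x).mp hx.2.1 y
  refine ⟨H, hHchar, ?_, ?_, ?_⟩
  · -- Frattini
    have hHp : IsPGroup p H := hP.to_subgroup H
    have h1 : frattini H ≤ M.subgroupOf H := by
      apply frattini_le_of_commutator_le_of_pow_mem (p := p)
      · rw [commutator_def, Subgroup.commutator_le]
        intro x _ y _
        rw [Subgroup.mem_subgroupOf]
        exact hcomm (Subgroup.commutator_mem_commutator x.2 (Subgroup.mem_top _))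
      · intro x
        rw [Subgroup.mem_subgroupOf]
        exact x.2.2.2
    refine le_trans ?_ hMCH
    rintro _ ⟨x, hx, rfl⟩
    exact h1 hx
  · exact hcomm.trans (le_inf hMH hMCH)
  · -- the centralizer of H
    set D := Subgroup.centralizer (H : Set P) with hD
    have hDchar : D.Characteristic := inferInstance
    have hDn : D.Normal := inferInstance
    have hDC : D ≤ Subgroup.centralizer (M : Set P) := Subgroup.centralizer_le hMH
    -- Z(H) = M by maximality
    have hZ : H ⊓ D = M := by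
      have hZchar : (H ⊓ D).Characteristic := inferInstance
      have hZcomm : IsMulCommutative (H ⊓ D : Subgroup P) := by
        refine ⟨⟨?_⟩⟩
        rintro ⟨x, hx⟩ ⟨y, hy⟩
        apply Subtype.ext
        exact ((Subgroup.mem_centralizer_iff.mp (Subgroup.mem_inf.mp hy).2) x
          (Subgroup.mem_inf.mp hx).1)
      have hle : M ≤ H ⊓ D := le_inf hMH hMCH
      exact le_antisymm (hmax ⟨hZchar, hZcomm⟩ hle) hle
    suffices hDM : D ≤ M from hDM.trans hMH
    by_contra hDM
    -- pass to the quotient by M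
    have hQ : IsPGroup p (P ⧸ M) := hP.to_quotient M
    have hQnil : Group.IsNilpotent (P ⧸ M) := hQ.isNilpotent
    set Dbar : Subgroup (P ⧸ M) := D.map (QuotientGroup.mk' M) with hDbar
    have hDbarn : Dbar.Normal := Subgroup.Normal.map hDn _ (QuotientGroup.mk'_surjective M)
    have hDbar_ne : Dbar ≠ ⊥ := by
      intro h
      apply hDM
      intro x hx
      have : (QuotientGroup.mk' M x) ∈ Dbar := Subgroup.mem_map_of_mem _ hx
      rw [h, Subgroup.mem_bot] at this
      exact (QuotientGroup.eq_one_iff x).mp this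
    have hmeet := inf_center_ne_bot_of_normal Dbar hDbar_ne
    obtain ⟨z, hz, hz1⟩ : ∃ z ∈ Dbar ⊓ Subgroup.center (P ⧸ M), z ≠ 1 := by
      by_contra hcon
      push Not at hcon
      exact hmeet ((Subgroup.eq_bot_iff_forall _).mpr hcon)
    -- replace z by an element of order p
    obtain ⟨w, hw, hw1, hwp⟩ : ∃ w ∈ Dbar ⊓ Subgroup.center (P ⧸ M), w ≠ 1 ∧ w ^ p = 1 := by
      have hex : ∃ k, z ^ p ^ k = 1 := hQ z
      have hk := Nat.find_spec hex
      have hk0 : Nat.find hex ≠ 0 := by
        intro h0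
        rw [h0, pow_zero, pow_one] at hk
        exact hz1 hk
      obtain ⟨j, hj⟩ := Nat.exists_eq_succ_of_ne_zero hk0
      refine ⟨z ^ p ^ j, pow_mem hz _, ?_, ?_⟩
      · exact Nat.find_min hex (by omega)
      · rw [← pow_mul, ← pow_succ, ← Nat.succ_eq_add_one, ← hj]
        exact hk
    obtain ⟨x, hxD, hxw⟩ := Subgroup.mem_map.mp (Subgroup.mem_inf.mp hw).1
    have hxH : x ∈ H := by
      refine ⟨hDC hxD, ?_, ?_⟩
      · rw [Subgroup.upperCentralSeriesStep_eq_comap_center, Subgroup.mem_comap, hxw]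
        exact (Subgroup.mem_inf.mp hw).2
      · rw [← QuotientGroup.eq_one_iff, QuotientGroup.mk_pow]
        have : (x : P ⧸ M) = w := hxw
        rw [this, hwp]
    have hxM : x ∈ M := by
      rw [← hZ]
      exact Subgroup.mem_inf.mpr ⟨hxH, hxD⟩
    apply hw1
    rw [← hxw]
    exact (QuotientGroup.eq_one_iff x).mpr hxM

end Critical

end Cfsg.Agent.Lib.Helper1
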