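import Mathlib
import Cfsg.Agent.Lib.Helper1.Coprime

/-!
Thompson P x Q lemma and commutators of p-groups.
-/

set_option autoImplicit false

open scoped commutatorElement
open Subgroup

namespace Cfsg.Agent.Lib.Helper1

variable {G : Type*} [Group G]

/-- If `R = [R, P]` with `P ⊔ R` nilpotent then `R = ⊥`. -/
theorem eq_bot_of_commutator_eq_of_isNilpotent_sup {P R : Subgroup G}
    (hnil : Group.IsNilpotent (P ⊔ R : Subgroup G)) (h : ⁅R, P⁆ = R) : R = ⊥ := by
  obtain ⟨n, hn⟩ := (Subgroup.isNilpotent_iff_lowerCentralSeries (P ⊔ R)).mp hnil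
  have key : ∀ m, R ≤ (P ⊔ R).lowerCentralSeries m := by
    intro m
    induction m with
    | zero => rw [Subgroup.lowerCentralSeries_zero]; exact le_sup_right
    | succ m ih =>
      rw [Subgroup.lowerCentralSeries_succ]
      calc R = ⁅R, P⁆ := h.symm
        _ ≤ _ := Subgroup.commutator_mono ih le_sup_left
  have := key n
  rw [hn] at this
  exact le_bot_iff.mp this

theorem eq_bot_of_commutator_eq_of_isPGroup [Finite G] {p : ℕ} [Fact p.Prime] {P R : Subgroup G}
    (hP : IsPGroup p P) (hR : IsPGroup p R) (hPR : P ≤ normalizer (R : Set G))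
    (h : ⁅R, P⁆ = R) : R = ⊥ :=
  eq_bot_of_commutator_eq_of_isNilpotent_sup (IsPGroup.to_sup_of_normal_right' hP hR hPR).isNilpotent h

/-- Conjugation by an element centralizing `A` and normalizing `K` normalizes `[K, A]`. -/
theorem mem_normalizer_commutator_of_mem_centralizer {K A : Subgroup G} {x : G}
    (hxK : x ∈ normalizer (K : Set G)) (hxA : x ∈ centralizer (A : Set G)) :
    x ∈ normalizer ((⁅K, A⁆ : Subgroup G) : Set G) := by
  have key : ∀ y : G, y ∈ normalizer (K : Set G) → y ∈ centralizer (A : Set G) →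
      ∀ n ∈ ⁅K, A⁆, y * n * y⁻¹ ∈ ⁅K, A⁆ := by
    intro y hyK hyA n hn
    have hle : ⁅K, A⁆ ≤ (⁅K, A⁆ : Subgroup G).comap (MulAut.conj y).toMonoidHom := by
      rw [Subgroup.commutator_le]
      intro k hk a ha
      rw [Subgroup.mem_comap]
      show MulAut.conj y ⁅k, a⁆ ∈ _
      rw [map_commutatorElement]
      have h1 : MulAut.conj y a = a := by
        rw [MulAut.conj_apply, ← (Subgroup.mem_centralizer_iff.mp hyA) a ha]; group
      rw [h1]
      apply Subgroup.commutator_mem_commutator _ ha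
      rw [MulAut.conj_apply]
      exact (Subgroup.mem_normalizer_iff.mp hyK k).mp hk
    have := hle hn
    rw [Subgroup.mem_comap] at this
    simpa [MulAut.conj_apply] using this
  rw [Subgroup.mem_normalizer_iff]
  intro n
  constructor
  · exact key x hxK hxA n
  · intro hn
    have := key x⁻¹ (inv_mem hxK) (inv_mem hxA) _ hn
    simpa [mul_assoc] using this

/-- Thompson's `P × Q` lemma. -/
theorem thompson_PxQ [Finite G] (p : ℕ) [Fact p.Prime]
    (P Q : Subgroup G) (hP : IsPGroup p P) (hQ : (Nat.card Q).Coprime p)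
    (hPQ : P ≤ centralizer (Q : Set G)) :
    ∀ (n : ℕ) (U : Subgroup G), Nat.card U = n → IsPGroup p U →
    P ≤ normalizer (U : Set G) → Q ≤ normalizer (U : Set G) →
    U ⊓ centralizer (P : Set G) ≤ centralizer (Q : Set G) →
    Q ≤ centralizer (U : Set G) := by
  intro n
  induction n using Nat.strong_induction_on with
  | _ n ih =>
  intro U hn hU hPU hQU hC
  have hQP : Q ≤ centralizer (P : Set G) := Subgroup.le_centralizer_iff.mp hPQ
  -- coprime action of Q on U
  have hcop : (Nat.card Q).Coprime (Nat.card U) := by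
    obtain ⟨k, hk⟩ := IsPGroup.iff_card.mp hU
    rw [hk]; exact Nat.Coprime.pow_right _ hQ
  have hUsolv : Group.IsSolvable U := by
    have := hU.isNilpotent
    infer_instance
  have hact : CoprimeAct Q U := ⟨hQU, hcop, Or.inr hUsolv⟩
  set R : Subgroup G := ⁅U, Q⁆ with hRdef
  have hRU : R ≤ U := commutator_le_of_le_normalizer hQU
  have hRR : ⁅R, Q⁆ = R := hact.commutator_commutator_eq
  have hQR : Q ≤ normalizer (R : Set G) := le_normalizer_commutator_right
  have hPR : P ≤ normalizer (R : Set G) := fun x hx =>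
    mem_normalizer_commutator_of_mem_centralizer (hPU hx) (hPQ hx)
  have hRp : IsPGroup p R := hU.to_le hRU
  -- it suffices to show R = ⊥
  suffices hR : R = ⊥ by
    rw [Subgroup.le_centralizer_iff, ← Subgroup.commutator_eq_bot_iff_le_centralizer]
    exact hR
  by_contra hRne
  set S : Subgroup G := ⁅R, P⁆ with hSdef
  have hSR : S ≤ R := commutator_le_of_le_normalizer hPR
  have hSne : S ≠ R := fun h => hRne (eq_bot_of_commutator_eq_of_isPGroup hP hRp hPR h)
  have hSlt : S < R := lt_of_le_of_ne hSR hSne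
  have hScard : Nat.card S < n := by
    rw [← hn]
    exact lt_of_lt_of_le (card_lt_of_lt hSlt) (Subgroup.card_le_of_le hRU)
  have hPS : P ≤ normalizer (S : Set G) := le_normalizer_commutator_right
  have hQS : Q ≤ normalizer (S : Set G) := fun x hx =>
    mem_normalizer_commutator_of_mem_centralizer (hQR hx) (hQP hx)
  have hSC : S ⊓ centralizer (P : Set G) ≤ centralizer (Q : Set G) :=
    le_trans (inf_le_inf_right _ (hSR.trans hRU)) hC
  have hQcS := ih _ hScard S rfl (hU.to_le (hSR.trans hRU)) hPS hQS hSC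
  have h1 : ⁅⁅R, P⁆, Q⁆ = ⊥ := by
    rw [Subgroup.commutator_eq_bot_iff_le_centralizer]
    exact Subgroup.le_centralizer_iff.mp hQcS
  have h2 : ⁅⁅P, Q⁆, R⁆ = ⊥ := by
    have : ⁅P, Q⁆ = ⊥ := by
      rw [Subgroup.commutator_eq_bot_iff_le_centralizer]; exact hPQ
    rw [this, Subgroup.commutator_bot_left]
  have h3 : ⁅⁅Q, R⁆, P⁆ = ⊥ := Subgroup.commutator_commutator_eq_bot_of_rotate h1 h2
  rw [Subgroup.commutator_comm Q R, hRR] at h3
  have hRP : R ≤ centralizer (P : Set G) := Subgroup.commutator_eq_bot_iff_le_centralizer.mp h3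
  have hRQ : R ≤ centralizer (Q : Set G) := le_trans (le_inf hRU hRP) hC
  have : ⁅R, Q⁆ = ⊥ := Subgroup.commutator_eq_bot_iff_le_centralizer.mpr hRQ
  rw [hRR] at this
  exact hRne this

end Cfsg.Agent.Lib.Helper1
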