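import Mathlib
import Cfsg.Agent.Lib.Helper13.GSpMax
import Cfsg.Agent.Lib.Helper13.SubfField
import Cfsg.Prelude.Def_GeometricClasses

/-!
# Subfield subgroups of `SL_n`: basic definitions for S5639

`InM M A`: the matrix `A` is the underlying matrix of an element of the subgroup `M` of `GL_n(F)`.
`H1 K n`: the subfield group (with `P = 1`) intersected with `SL_n(F)`.
`Good K M`: `M` contains a transvection `1 + a • u φ` with `u`, `φ` rational over `K` and `a ∉ K`.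
-/

set_option autoImplicit false

namespace Cfsg.Agent.Lib.Helper1.SubfSL

open Matrix Cfsg.Agent.Lib.Helper13

variable {F : Type*} [Field F] {n : ℕ}

/-- the matrix `A` is the underlying matrix of an element of `M` -/
def InM (M : Subgroup (GL (Fin n) F)) (A : Matrix (Fin n) (Fin n) F) : Prop :=
  ∃ g : GL (Fin n) F, g ∈ M ∧ (g : Matrix (Fin n) (Fin n) F) = A

theorem InM.mono {M M' : Subgroup (GL (Fin n) F)} (h : M ≤ M') {A : Matrix (Fin n) (Fin n) F}
    (hA : InM M A) : InM M' A := by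
  obtain ⟨g, hg, e⟩ := hA
  exact ⟨g, h hg, e⟩

theorem InM.one (M : Subgroup (GL (Fin n) F)) : InM M (1 : Matrix (Fin n) (Fin n) F) :=
  ⟨1, M.one_mem, rfl⟩

theorem InM.mul {M : Subgroup (GL (Fin n) F)} {A B : Matrix (Fin n) (Fin n) F}
    (hA : InM M A) (hB : InM M B) : InM M (A * B) := by
  obtain ⟨g, hg, rfl⟩ := hA
  obtain ⟨h, hh, rfl⟩ := hB
  exact ⟨g * h, M.mul_mem hg hh, rfl⟩

theorem InM.of_mem {M : Subgroup (GL (Fin n) F)} {g : GL (Fin n) F} (hg : g ∈ M) :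
    InM M (g : Matrix (Fin n) (Fin n) F) := ⟨g, hg, rfl⟩

theorem InM.mem {M : Subgroup (GL (Fin n) F)} {g : GL (Fin n) F}
    (hg : InM M (g : Matrix (Fin n) (Fin n) F)) : g ∈ M := by
  obtain ⟨g', hg', e⟩ := hg
  have : g' = g := Units.ext e
  rwa [← this]

theorem tv_mul_tv_neg (a φ : Fin n → F) (h : φ ⬝ᵥ a = 0) : tv a φ * tv a (-φ) = 1 := by
  rw [tv_mul_tv a φ (-φ) h, add_neg_cancel, tv_zero]

theorem tv_neg_mul_tv (a φ : Fin n → F) (h : φ ⬝ᵥ a = 0) : tv a (-φ) * tv a φ = 1 := by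
  have h' : (-φ) ⬝ᵥ a = 0 := by rw [neg_dotProduct, h, neg_zero]
  rw [tv_mul_tv a (-φ) φ h', neg_add_cancel, tv_zero]

/-- inverse of a transvection in `M` -/
theorem InM.tv_inv {M : Subgroup (GL (Fin n) F)} {a φ : Fin n → F} (h : φ ⬝ᵥ a = 0)
    (hA : InM M (tv a φ)) : InM M (tv a (-φ)) := by
  obtain ⟨g, hg, e⟩ := hA
  refine ⟨g⁻¹, M.inv_mem hg, ?_⟩
  have h1 : (g : Matrix (Fin n) (Fin n) F) * tv a (-φ) = 1 := by rw [e, tv_mul_tv_neg a φ h]
  have h2 : ((g⁻¹ : GL (Fin n) F) : Matrix (Fin n) (Fin n) F) * (g : Matrix (Fin n) (Fin n) F) = 1 := by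
    rw [← Units.val_mul, inv_mul_cancel, Units.val_one]
  calc ((g⁻¹ : GL (Fin n) F) : Matrix (Fin n) (Fin n) F)
      = ((g⁻¹ : GL (Fin n) F) : Matrix (Fin n) (Fin n) F) * ((g : Matrix (Fin n) (Fin n) F) * tv a (-φ)) := by
        rw [h1, mul_one]
    _ = tv a (-φ) := by rw [← mul_assoc, h2, one_mul]

/-- the commutator formula for transvections: if the axis `φ` of the second kills the centre `w`
of the first, then `[1 + wψ, 1 + vφ] = 1 + ψ(v) wφ` -/
theorem tv_comm (w ψ v φ : Fin n → F) (hψw : ψ ⬝ᵥ w = 0) (hφv : φ ⬝ᵥ v = 0) (hφw : φ ⬝ᵥ w = 0) :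
    tv w ψ * tv v φ * tv w (-ψ) * tv v (-φ) = tv w ((ψ ⬝ᵥ v) • φ) := by
  apply mat_ext'
  intro x
  simp only [← mulVec_mulVec, tv_mulVec, dotProduct_add, dotProduct_smul, neg_dotProduct,
    smul_dotProduct, hψw, hφv, hφw, smul_eq_mul, mul_zero, add_zero]
  module

/-- conjugating a transvection in `M` by an element of `M` -/
theorem InM.conj_tv {M : Subgroup (GL (Fin n) F)} {k : GL (Fin n) F} (hk : k ∈ M)
    {a φ : Fin n → F} (hA : InM M (tv a (φ ᵥ* (k : Matrix (Fin n) (Fin n) F)))) :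
    InM M (tv ((k : Matrix (Fin n) (Fin n) F) *ᵥ a) φ) := by
  obtain ⟨g, hg, e⟩ := hA
  refine ⟨k * g * k⁻¹, M.mul_mem (M.mul_mem hk hg) (M.inv_mem hk), ?_⟩
  rw [Units.val_mul, Units.val_mul, e, Cfsg.Agent.Lib.Helper13.conj_tv]

/-- the subfield group with `P = 1`, intersected with `SL_n(F)` -/
def H1 (K : Subfield F) (n : ℕ) : Subgroup (GL (Fin n) F) :=
  Cfsg.Geo.subfieldSubgroup K (1 : GL (Fin n) F) ⊓ Cfsg.Geo.specialLinear (Fin n) F

theorem mem_subfield_one_of_eq (K : Subfield F) (g : GL (Fin n) F) (l : F) (hl : l ≠ 0)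
    (B : Matrix (Fin n) (Fin n) K) (h : (g : Matrix (Fin n) (Fin n) F) = l • rmat K B) :
    g ∈ Cfsg.Geo.subfieldSubgroup K (1 : GL (Fin n) F) := by
  apply mem_subfieldSubgroup_of_eq K 1 g l hl B
  rw [inv_one, one_mul, mul_one]
  exact h

theorem exists_eq_of_mem_subfield_one (K : Subfield F) (g : GL (Fin n) F)
    (hg : g ∈ Cfsg.Geo.subfieldSubgroup K (1 : GL (Fin n) F)) :
    ∃ (l : F) (B : Matrix (Fin n) (Fin n) K), (g : Matrix (Fin n) (Fin n) F) = l • rmat K B := by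
  obtain ⟨l, B, h⟩ := exists_eq_of_mem_subfieldSubgroup K 1 g hg
  rw [inv_one, one_mul, mul_one] at h
  exact ⟨l, B, h⟩

theorem rvec_dot (K : Subfield F) (φ u : Fin n → K) :
    rvec K φ ⬝ᵥ rvec K u = ((φ ⬝ᵥ u : K) : F) := by
  simp [rvec, dotProduct]

/-- rational transvections lie in `H1` -/
theorem rat_tv_mem (K : Subfield F) (u φ : Fin n → K) (h : φ ⬝ᵥ u = 0) :
    InM (H1 K n) (tv (rvec K u) (rvec K φ)) := by
  have h' : rvec K φ ⬝ᵥ rvec K u = 0 := by rw [rvec_dot, h]; rfl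
  obtain ⟨g, hg, hgS⟩ := exists_tvGL (rvec K u) (rvec K φ) h'
  refine ⟨g, ⟨?_, hgS⟩, hg⟩
  apply mem_subfield_one_of_eq K g 1 one_ne_zero (1 + vecMulVec u φ)
  rw [hg, one_smul, tv]
  ext i j
  simp [rmat, rvec, vecMulVec_apply, Matrix.one_apply]
  split_ifs <;> simp

/-- the common conclusion of the extraction lemmas: `M` contains a transvection with rational
centre and axis and a non-rational parameter -/
def Good (K : Subfield F) (M : Subgroup (GL (Fin n) F)) : Prop :=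
  ∃ (v φ : Fin n → K) (a : F), v ≠ 0 ∧ φ ≠ 0 ∧ φ ⬝ᵥ v = 0 ∧ a ∉ K ∧
    InM M (tv (rvec K v) (a • rvec K φ))

/-- `x` is a rational vector -/
def IsRat (K : Subfield F) (x : Fin n → F) : Prop := ∃ r : Fin n → K, x = rvec K r

end Cfsg.Agent.Lib.Helper1.SubfSL
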