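import Mathlib
import Cfsg.Agent.Lib.Helper1.SubfSLDefs
import Cfsg.Agent.Lib.Helper15.Dk21

/-!
# The embedding `SL₂(F) → GL_n(F)` attached to a pair of transvections (for S5639)

`iota U Ψ h : SL₂(F) →* GL_n(F)`, `g ↦ 1 + U (g - 1) Ψ` for `Ψ U = 1`; `emb u w ψ φ …`: the special
case acting on the plane `⟨u, w⟩` (basis `u`, `u + ψ(u) w`) and fixing `ker φ ∩ ker ψ`; it maps
`uu (s κ)` (`κ = φ(w) ψ(u)`) to the transvection `1 + s u φ` and `Wm = [[0,-1],[1,2]]` to `1 + w ψ`.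
-/

set_option autoImplicit false

namespace Cfsg.Agent.Lib.Helper1.SubfSL

open Matrix Cfsg.Agent.Lib.Helper13 Cfsg.Agent.Lib.Helper15.Dk Cfsg.Agent.Lib.Helper14 Cfsg.Agent.Lib.Helper15

variable {F : Type*} [Field F] {n : ℕ}

/-- the matrix `1 + U (g - 1) Ψ` -/
def iotaMat (U : Matrix (Fin n) (Fin 2) F) (Ψ : Matrix (Fin 2) (Fin n) F)
    (g : Matrix (Fin 2) (Fin 2) F) : Matrix (Fin n) (Fin n) F := 1 + U * (g - 1) * Ψ

theorem iotaMat_mul (U : Matrix (Fin n) (Fin 2) F) (Ψ : Matrix (Fin 2) (Fin n) F) (h : Ψ * U = 1)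
    (g g' : Matrix (Fin 2) (Fin 2) F) : iotaMat U Ψ g * iotaMat U Ψ g' = iotaMat U Ψ (g * g') := by
  unfold iotaMat
  have e : U * (g - 1) * Ψ * (U * (g' - 1) * Ψ) = U * ((g - 1) * (g' - 1)) * Ψ := by
    calc U * (g - 1) * Ψ * (U * (g' - 1) * Ψ) = U * (g - 1) * (Ψ * U) * (g' - 1) * Ψ := by
          simp only [Matrix.mul_assoc]
      _ = U * ((g - 1) * (g' - 1)) * Ψ := by rw [h, Matrix.mul_one]; simp only [Matrix.mul_assoc]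
  rw [mul_add, add_mul, add_mul, one_mul, mul_one, one_mul, e]
  have e2 : g * g' - 1 = (g - 1) + (g' - 1) + (g - 1) * (g' - 1) := by noncomm_ring
  rw [e2, Matrix.mul_add, Matrix.mul_add, Matrix.add_mul, Matrix.add_mul]
  abel

theorem iotaMat_one (U : Matrix (Fin n) (Fin 2) F) (Ψ : Matrix (Fin 2) (Fin n) F) :
    iotaMat U Ψ 1 = 1 := by
  unfold iotaMat
  rw [sub_self, Matrix.mul_zero, Matrix.zero_mul, add_zero]

theorem iotaMat_det (U : Matrix (Fin n) (Fin 2) F) (Ψ : Matrix (Fin 2) (Fin n) F) (h : Ψ * U = 1)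
    (g : Matrix (Fin 2) (Fin 2) F) : (iotaMat U Ψ g).det = g.det := by
  unfold iotaMat
  rw [Matrix.mul_assoc, Matrix.det_one_add_mul_comm, Matrix.mul_assoc, ← Matrix.mul_assoc (g - 1),
    Matrix.mul_assoc (g-1), h, Matrix.mul_one]
  congr 1
  abel

/-- the embedding `SL₂(F) → GL_n(F)`, `g ↦ 1 + U (g - 1) Ψ`, attached to `Ψ U = 1` -/
noncomputable def iota (U : Matrix (Fin n) (Fin 2) F) (Ψ : Matrix (Fin 2) (Fin n) F) (h : Ψ * U = 1) :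
    SpecialLinearGroup (Fin 2) F →* GL (Fin n) F where
  toFun g := Matrix.GeneralLinearGroup.mk'' (iotaMat U Ψ (g : Matrix (Fin 2) (Fin 2) F))
    (by rw [iotaMat_det U Ψ h, g.2]; exact isUnit_one)
  map_one' := by
    apply Units.ext
    change iotaMat U Ψ ((1 : SpecialLinearGroup (Fin 2) F) : Matrix (Fin 2) (Fin 2) F) = 1
    rw [Matrix.SpecialLinearGroup.coe_one, iotaMat_one]
  map_mul' g g' := by
    apply Units.ext
    change iotaMat U Ψ ((g * g' : SpecialLinearGroup (Fin 2) F) : Matrix (Fin 2) (Fin 2) F) =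
      iotaMat U Ψ (g : Matrix (Fin 2) (Fin 2) F) * iotaMat U Ψ (g' : Matrix (Fin 2) (Fin 2) F)
    rw [Matrix.SpecialLinearGroup.coe_mul, iotaMat_mul U Ψ h]

theorem iota_val (U : Matrix (Fin n) (Fin 2) F) (Ψ : Matrix (Fin 2) (Fin n) F) (h : Ψ * U = 1)
    (g : SpecialLinearGroup (Fin 2) F) :
    ((iota U Ψ h g : GL (Fin n) F) : Matrix (Fin n) (Fin n) F) =
      1 + U * ((g : Matrix (Fin 2) (Fin 2) F) - 1) * Ψ := rfl

theorem iota_mem_SL (U : Matrix (Fin n) (Fin 2) F) (Ψ : Matrix (Fin 2) (Fin n) F) (h : Ψ * U = 1)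
    (g : SpecialLinearGroup (Fin 2) F) : iota U Ψ h g ∈ Cfsg.Geo.specialLinear (Fin n) F := by
  change Matrix.GeneralLinearGroup.det (iota U Ψ h g) = 1
  apply Units.ext
  rw [Matrix.GeneralLinearGroup.val_det_apply, iota_val, ← iotaMat, iotaMat_det U Ψ h, g.2]
  rfl

theorem vecMul_iota (U : Matrix (Fin n) (Fin 2) F) (Ψ : Matrix (Fin 2) (Fin n) F) (h : Ψ * U = 1)
    (g : SpecialLinearGroup (Fin 2) F) (χ : Fin n → F) (hχ : χ ᵥ* U = 0) :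
    χ ᵥ* ((iota U Ψ h g : GL (Fin n) F) : Matrix (Fin n) (Fin n) F) = χ := by
  rw [iota_val, Matrix.vecMul_add, Matrix.vecMul_one, ← Matrix.vecMul_vecMul, ← Matrix.vecMul_vecMul,
    hχ, Matrix.zero_vecMul, Matrix.zero_vecMul, add_zero]

/-- the element `[[0,-1],[1,2]]` of `SL₂(F)` -/
def Wm : SpecialLinearGroup (Fin 2) F := ⟨!![0, -1; 1, 2], by simp [Matrix.det_fin_two]⟩

section emb
variable (u w ψ φ : Fin n → F)

/-- the `n × 2` matrix with columns `u` and `u + ψ(u) w` -/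
def embU : Matrix (Fin n) (Fin 2) F :=
  Matrix.of fun i j => if j = 0 then u i else u i + (ψ ⬝ᵥ u) * w i

/-- the `2 × n` matrix with rows `ψ/β - φ/κ` and `φ/κ`, `β = ψ(u)`, `κ = φ(w) ψ(u)` -/
def embΨ : Matrix (Fin 2) (Fin n) F :=
  Matrix.of fun j i => if j = 0 then (ψ ⬝ᵥ u)⁻¹ * ψ i - ((φ ⬝ᵥ w) * (ψ ⬝ᵥ u))⁻¹ * φ i
    else ((φ ⬝ᵥ w) * (ψ ⬝ᵥ u))⁻¹ * φ i

theorem embΨ_mul_embU (hφu : φ ⬝ᵥ u = 0) (hψw : ψ ⬝ᵥ w = 0) (hβ : ψ ⬝ᵥ u ≠ 0) (hα : φ ⬝ᵥ w ≠ 0) :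
    embΨ u w ψ φ * embU u w ψ = 1 := by
  have hκ : (φ ⬝ᵥ w) * (ψ ⬝ᵥ u) ≠ 0 := mul_ne_zero hα hβ
  have e1 : ∀ c d : F, ∑ i, (c * ψ i - d * φ i) * u i = c * (ψ ⬝ᵥ u) - d * (φ ⬝ᵥ u) := by
    intro c d
    simp only [dotProduct, Finset.mul_sum, ← Finset.sum_sub_distrib]
    exact Finset.sum_congr rfl (fun i _ => by ring)
  have e2 : ∀ c d : F, ∑ i, (c * ψ i - d * φ i) * w i = c * (ψ ⬝ᵥ w) - d * (φ ⬝ᵥ w) := by
    intro c d
    simp only [dotProduct, Finset.mul_sum, ← Finset.sum_sub_distrib]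
    exact Finset.sum_congr rfl (fun i _ => by ring)
  ext j k
  rw [Matrix.one_apply]
  fin_cases j <;> fin_cases k
  · simp only [embΨ, embU, Matrix.mul_apply, Matrix.of_apply, Fin.zero_eta, if_true]
    rw [e1, hφu, mul_zero, sub_zero, inv_mul_cancel₀ hβ]
  · simp only [embΨ, embU, Matrix.mul_apply, Matrix.of_apply, Fin.zero_eta, Fin.mk_one, if_true,
      one_ne_zero, if_false]
    have : ∑ i, ((ψ ⬝ᵥ u)⁻¹ * ψ i - ((φ ⬝ᵥ w) * (ψ ⬝ᵥ u))⁻¹ * φ i) * (u i + (ψ ⬝ᵥ u) * w i) =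
        ∑ i, ((ψ ⬝ᵥ u)⁻¹ * ψ i - ((φ ⬝ᵥ w) * (ψ ⬝ᵥ u))⁻¹ * φ i) * u i +
        (ψ ⬝ᵥ u) * ∑ i, ((ψ ⬝ᵥ u)⁻¹ * ψ i - ((φ ⬝ᵥ w) * (ψ ⬝ᵥ u))⁻¹ * φ i) * w i := by
      rw [Finset.mul_sum, ← Finset.sum_add_distrib]
      exact Finset.sum_congr rfl (fun i _ => by ring)
    rw [this, e1, e2, hφu, hψw]
    rw [if_neg (by decide)]
    field_simp
    ring
  · simp only [embΨ, embU, Matrix.mul_apply, Matrix.of_apply, Fin.zero_eta, Fin.mk_one, if_true,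
      one_ne_zero, if_false]
    have : ∑ i, ((φ ⬝ᵥ w) * (ψ ⬝ᵥ u))⁻¹ * φ i * u i = ((φ ⬝ᵥ w) * (ψ ⬝ᵥ u))⁻¹ * (φ ⬝ᵥ u) := by
      simp only [dotProduct, Finset.mul_sum]
      exact Finset.sum_congr rfl (fun i _ => by ring)
    rw [this, hφu, mul_zero]
  · simp only [embΨ, embU, Matrix.mul_apply, Matrix.of_apply, Fin.mk_one, one_ne_zero, if_false,
      if_true]
    have : ∑ i, ((φ ⬝ᵥ w) * (ψ ⬝ᵥ u))⁻¹ * φ i * (u i + (ψ ⬝ᵥ u) * w i) =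
        ((φ ⬝ᵥ w) * (ψ ⬝ᵥ u))⁻¹ * ((φ ⬝ᵥ u) + (ψ ⬝ᵥ u) * (φ ⬝ᵥ w)) := by
      simp only [dotProduct, Finset.mul_sum, ← Finset.sum_add_distrib]
      exact Finset.sum_congr rfl (fun i _ => by ring)
    rw [this, hφu, zero_add, mul_comm (ψ ⬝ᵥ u), inv_mul_cancel₀ hκ]

end emb

section emb2
variable (u w ψ φ : Fin n → F) (hφu : φ ⬝ᵥ u = 0) (hψw : ψ ⬝ᵥ w = 0) (hβ : ψ ⬝ᵥ u ≠ 0)
  (hα : φ ⬝ᵥ w ≠ 0)

/-- the embedding `SL₂(F) → GL_n(F)` attached to `(u, w, ψ, φ)`: it acts on the plane `⟨u, w⟩`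
in the basis `(u, u + ψ(u) w)` and fixes `ker φ ∩ ker ψ` pointwise -/
noncomputable def emb : SpecialLinearGroup (Fin 2) F →* GL (Fin n) F :=
  iota (embU u w ψ) (embΨ u w ψ φ) (embΨ_mul_embU u w ψ φ hφu hψw hβ hα)

theorem emb_mem_SL (g : SpecialLinearGroup (Fin 2) F) :
    emb u w ψ φ hφu hψw hβ hα g ∈ Cfsg.Geo.specialLinear (Fin n) F := iota_mem_SL _ _ _ g

theorem emb_uu (s : F) :
    ((emb u w ψ φ hφu hψw hβ hα (uu (s * ((φ ⬝ᵥ w) * (ψ ⬝ᵥ u)))) : GL (Fin n) F) :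
      Matrix (Fin n) (Fin n) F) = tv u (s • φ) := by
  have hκ : (φ ⬝ᵥ w) * (ψ ⬝ᵥ u) ≠ 0 := mul_ne_zero hα hβ
  rw [emb, iota_val, tv]
  congr 1
  ext i k
  simp only [Matrix.mul_apply, Fin.sum_univ_two, upperSL_coe, Matrix.sub_apply, Matrix.one_apply,
    embU, embΨ, Matrix.of_apply, vecMulVec_apply, Pi.smul_apply, smul_eq_mul]
  simp
  field_simp

theorem emb_Wm :
    ((emb u w ψ φ hφu hψw hβ hα Wm : GL (Fin n) F) : Matrix (Fin n) (Fin n) F) = tv w ψ := by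
  have hκ : (φ ⬝ᵥ w) * (ψ ⬝ᵥ u) ≠ 0 := mul_ne_zero hα hβ
  rw [emb, iota_val, tv]
  congr 1
  ext i k
  simp only [Matrix.mul_apply, Fin.sum_univ_two, Wm, Matrix.sub_apply, Matrix.one_apply,
    embU, embΨ, Matrix.of_apply, vecMulVec_apply]
  simp
  field_simp
  ring

theorem vecMul_emb (g : SpecialLinearGroup (Fin 2) F) (χ : Fin n → F) (hχu : χ ⬝ᵥ u = 0)
    (hχw : χ ⬝ᵥ w = 0) :
    χ ᵥ* ((emb u w ψ φ hφu hψw hβ hα g : GL (Fin n) F) : Matrix (Fin n) (Fin n) F) = χ := by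
  apply vecMul_iota
  ext j
  fin_cases j
  · simp only [Matrix.vecMul, embU, Matrix.of_apply, Fin.zero_eta, if_true, Pi.zero_apply]
    exact hχu
  · simp only [Matrix.vecMul, embU, Matrix.of_apply, Fin.mk_one, one_ne_zero, if_false, Pi.zero_apply]
    have : (χ ⬝ᵥ fun i => u i + (ψ ⬝ᵥ u) * w i) = χ ⬝ᵥ u + (ψ ⬝ᵥ u) * (χ ⬝ᵥ w) := by
      simp only [dotProduct, Finset.mul_sum, ← Finset.sum_add_distrib]
      exact Finset.sum_congr rfl (fun i _ => by ring)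
    rw [this, hχu, hχw, mul_zero, add_zero]

end emb2

end Cfsg.Agent.Lib.Helper1.SubfSL
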