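import Mathlib
import Cfsg.Prelude.Def_GeometricClasses
import Cfsg.Agent.Lib.Helper13.SpMax
import Cfsg.Agent.H5.SpCorA
import Cfsg.Agent.Lib.Helper16.TensDefs
import Cfsg.Agent.Lib.Helper3.SpTL1b
import Cfsg.Agent.Lib.Helper23.S5670FOLEFT
import Cfsg.Agent.Lib.Helper10.KronRank2

/-!
# Corollaries of the symplectic hub S5662, properness piece (SpG-b4)  (helper1, for helper5)

`not_sp_le_tensorProductSubgroup` : `Sp_{2m}(F)` is not contained in a tensor product subgroup `n₁, n₂ ≥ 2`.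
A symplectic transvection, transported to the Kronecker coordinates, is `v ↦ v + φ(v) x` (`x ≠ 0`, `φ ≠ 0`); a Kronecker
product `A ⊗ B` of this shape has every vector as an eigenvector of `A` and of `B`, so it is scalar, hence `1`: contradiction
(`kron_ne_transvection`).
-/

set_option autoImplicit false
set_option linter.unusedSectionVars false
set_option linter.unusedVariables false

namespace Cfsg.Agent.Lib.Helper1.SpCorB4

open Cfsg Cfsg.Geo Matrix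
open Cfsg.Agent.Lib.Helper16.Tens
open Cfsg.Agent.Lib.Helper13 (sympTransvGL sympTransvGL_mulVec sympTransvGL_mem)
open Cfsg.Agent.Lib.Helper6 (sympForm_add_left sympForm_smul_left)
open scoped MatrixGroups Kronecker

variable {F : Type*} [Field F]

/-- a functional on `F^n`, `n ≥ 2`, kills a non-zero vector -/
theorem exists_ker_ne_zero {n : ℕ} (hn : 2 ≤ n) (l : (Fin n → F) →ₗ[F] F) : ∃ w : Fin n → F, w ≠ 0 ∧ l w = 0 := by
  have h01 : (⟨0, by omega⟩ : Fin n) ≠ ⟨1, by omega⟩ := by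
    intro h
    simpa using congrArg Fin.val h
  by_cases h0 : l (Pi.single ⟨0, by omega⟩ 1) = 0
  · refine ⟨Pi.single ⟨0, by omega⟩ 1, ?_, h0⟩
    intro h
    have := congrFun h ⟨0, by omega⟩
    simp at this
  · refine ⟨l (Pi.single ⟨0, by omega⟩ 1) • Pi.single ⟨1, by omega⟩ 1 -
      l (Pi.single ⟨1, by omega⟩ 1) • Pi.single ⟨0, by omega⟩ 1, ?_, ?_⟩
    · intro h
      have := congrFun h ⟨1, by omega⟩
      simp only [Pi.sub_apply, Pi.smul_apply, Pi.single_eq_same, smul_eq_mul, mul_one, Pi.zero_apply,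
        Pi.single_eq_of_ne h01.symm, mul_zero, sub_zero] at this
      exact h0 this
    · rw [map_sub, map_smul, map_smul, smul_eq_mul, smul_eq_mul, mul_comm, sub_self]

/-- **a Kronecker product is not a transvection** (`n₁, n₂ ≥ 2`) -/
theorem kron_ne_transvection {n₁ n₂ : ℕ} (h1 : 2 ≤ n₁) (h2 : 2 ≤ n₂) (A : Matrix (Fin n₁) (Fin n₁) F)
    (B : Matrix (Fin n₂) (Fin n₂) F) (x : Fin n₁ × Fin n₂ → F) (hx : x ≠ 0)
    (φ : (Fin n₁ × Fin n₂ → F) →ₗ[F] F) (hφ : φ ≠ 0)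
    (h : ∀ v, (A ⊗ₖ B) *ᵥ v = v + φ v • x) : False := by
  -- every vector is an eigenvector of `A`
  have hA : ∀ u : Fin n₁ → F, ∃ z : F, A *ᵥ u = z • u := by
    intro u
    by_cases hu : u = 0
    · exact ⟨0, by rw [hu, Matrix.mulVec_zero, smul_zero]⟩
    obtain ⟨w, hw, hlw⟩ := exists_ker_ne_zero h2 (φ ∘ₗ purR (b := n₂) u)
    have h3 := h (pur u w)
    have h4 : φ (pur u w) = 0 := hlw
    rw [h4, zero_smul, add_zero, kron_mulVec_pur] at h3
    obtain ⟨c, -, hc, -⟩ := Cfsg.Agent.Lib.Helper23.S5670LEFT.pur_eq_pur u (A *ᵥ u) w (B *ᵥ w) h3.symm hu hw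
    exact ⟨c, hc⟩
  have hB : ∀ w : Fin n₂ → F, ∃ z : F, B *ᵥ w = z • w := by
    intro w
    by_cases hw : w = 0
    · exact ⟨0, by rw [hw, Matrix.mulVec_zero, smul_zero]⟩
    obtain ⟨u, hu, hlu⟩ := exists_ker_ne_zero h1 (φ ∘ₗ purL (a := n₁) w)
    have h3 := h (pur u w)
    have h4 : φ (pur u w) = 0 := hlu
    rw [h4, zero_smul, add_zero, kron_mulVec_pur] at h3
    obtain ⟨c, hc0, -, hc⟩ := Cfsg.Agent.Lib.Helper23.S5670LEFT.pur_eq_pur u (A *ᵥ u) w (B *ᵥ w) h3.symm hu hw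
    refine ⟨c⁻¹, ?_⟩
    conv_rhs => rw [hc]
    rw [smul_smul, inv_mul_cancel₀ hc0, one_smul]
  -- so `A` and `B` are scalar
  obtain ⟨z, hz⟩ : ∃ z : F, A = z • (1 : Matrix (Fin n₁) (Fin n₁) F) := by
    by_contra hcon
    push Not at hcon
    obtain ⟨u₀, hu₀⟩ := Cfsg.Agent.Lib.Helper10.KronRank2.exists_not_eigen A hcon
    obtain ⟨z, hz⟩ := hA u₀
    exact hu₀ z hz
  obtain ⟨z', hz'⟩ : ∃ z : F, B = z • (1 : Matrix (Fin n₂) (Fin n₂) F) := by
    by_contra hcon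
    push Not at hcon
    obtain ⟨w₀, hw₀⟩ := Cfsg.Agent.Lib.Helper10.KronRank2.exists_not_eigen B hcon
    obtain ⟨z, hz⟩ := hB w₀
    exact hw₀ z hz
  have hpur : ∀ (u : Fin n₁ → F) (w : Fin n₂ → F), (z * z') • pur u w = pur u w + φ (pur u w) • x := by
    intro u w
    rw [← h (pur u w), kron_mulVec_pur, hz, hz', Matrix.smul_mulVec, Matrix.smul_mulVec, Matrix.one_mulVec,
      Matrix.one_mulVec, pur_smul_left, pur_smul_right, smul_smul]
  -- `z z' = 1`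
  have hu₀ : (Pi.single ⟨0, by omega⟩ 1 : Fin n₁ → F) ≠ 0 := by
    intro h
    have := congrFun h ⟨0, by omega⟩
    simp at this
  obtain ⟨w₁, hw₁, hlw₁⟩ := exists_ker_ne_zero h2 (φ ∘ₗ purR (b := n₂) (Pi.single ⟨0, by omega⟩ 1))
  have h5 := hpur (Pi.single ⟨0, by omega⟩ 1) w₁
  have h6 : φ (pur (Pi.single ⟨0, by omega⟩ 1) w₁) = 0 := hlw₁
  rw [h6, zero_smul, add_zero] at h5
  have hp0 : pur (Pi.single ⟨0, by omega⟩ 1 : Fin n₁ → F) w₁ ≠ 0 := by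
    intro h0
    rcases pur_eq_zero h0 with h7 | h7
    · exact hu₀ h7
    · exact hw₁ h7
  have hzz : z * z' = 1 := by
    have h8 : (z * z' - 1) • pur (Pi.single ⟨0, by omega⟩ 1 : Fin n₁ → F) w₁ = 0 := by
      rw [sub_smul, one_smul, h5, sub_self]
    rcases smul_eq_zero.1 h8 with h9 | h9
    · exact sub_eq_zero.1 h9
    · exact absurd h9 hp0
  -- so `φ` vanishes on pure tensors
  apply hφ
  apply LinearMap.ext
  intro v
  refine Cfsg.Agent.Lib.Helper3.SpT.pur_induction (p := fun v => φ v = (0 : (Fin n₁ × Fin n₂ → F) →ₗ[F] F) v)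
    ?_ ?_ ?_ v
  · simp
  · intro v v' hv hv'
    rw [map_add, hv, hv', map_add]
  · intro u w
    have h10 := hpur u w
    rw [hzz, one_smul] at h10
    have h11 : φ (pur u w) • x = 0 := by
      have := h10.symm
      rwa [add_eq_left] at this
    rcases smul_eq_zero.1 h11 with h12 | h12
    · rw [h12, LinearMap.zero_apply]
    · exact absurd h12 hx


variable {m : ℕ}

/-- (SpG-b4) `Sp_{2m}(F)` is not contained in a tensor product subgroup -/
theorem not_sp_le_tensorProductSubgroup {n₁ n₂ : ℕ} (hm : 1 ≤ m) (h1 : 2 ≤ n₁) (h2 : 2 ≤ n₂)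
    (e : (Fin m ⊕ Fin m) ≃ Fin n₁ × Fin n₂) (P : GL (Fin m ⊕ Fin m) F) :
    ¬ Cfsg.spGL m F ≤ tensorProductSubgroup n₁ n₂ e P := by
  intro hle
  obtain ⟨y, a, hya⟩ := Cfsg.H5.SpCor.exists_pair (F := F) hm
  have ha : a ≠ 0 := by
    rintro rfl
    exact hya (Cfsg.Agent.Lib.Helper6.sympForm_zero_right y)
  have ht := hle (sympTransvGL_mem a 1)
  obtain ⟨y', ⟨k, hk, rfl⟩, hy'⟩ := ht
  obtain ⟨A, B, hAB⟩ := hk
  have hmat : ((sympTransvGL a 1 : GL (Fin m ⊕ Fin m) F) : Matrix (Fin m ⊕ Fin m) (Fin m ⊕ Fin m) F) =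
      (P : Matrix (Fin m ⊕ Fin m) (Fin m ⊕ Fin m) F) *
        Matrix.reindex e.symm e.symm (k : Matrix (Fin n₁ × Fin n₂) (Fin n₁ × Fin n₂) F) *
        ((P⁻¹ : GL (Fin m ⊕ Fin m) F) : Matrix (Fin m ⊕ Fin m) (Fin m ⊕ Fin m) F) := by
    rw [← hy']
    rfl
  have hPP : ∀ v : Fin m ⊕ Fin m → F,
      ((P⁻¹ : GL (Fin m ⊕ Fin m) F) : Matrix (Fin m ⊕ Fin m) (Fin m ⊕ Fin m) F) *ᵥ
        ((P : Matrix (Fin m ⊕ Fin m) (Fin m ⊕ Fin m) F) *ᵥ v) = v := by
    intro v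
    rw [Matrix.mulVec_mulVec, ← Units.val_mul, inv_mul_cancel, Units.val_one, Matrix.one_mulVec]
  have hPP' : ∀ v : Fin m ⊕ Fin m → F,
      (P : Matrix (Fin m ⊕ Fin m) (Fin m ⊕ Fin m) F) *ᵥ
        (((P⁻¹ : GL (Fin m ⊕ Fin m) F) : Matrix (Fin m ⊕ Fin m) (Fin m ⊕ Fin m) F) *ᵥ v) = v := by
    intro v
    rw [Matrix.mulVec_mulVec, ← Units.val_mul, mul_inv_cancel, Units.val_one, Matrix.one_mulVec]
  -- the action of `k` in Kronecker coordinates
  have hact : ∀ v' : Fin n₁ × Fin n₂ → F,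
      (k : Matrix (Fin n₁ × Fin n₂) (Fin n₁ × Fin n₂) F) *ᵥ v' =
        v' + Cfsg.sympForm m F ((P : Matrix (Fin m ⊕ Fin m) (Fin m ⊕ Fin m) F) *ᵥ (v' ∘ e)) a •
          ((((P⁻¹ : GL (Fin m ⊕ Fin m) F) : Matrix (Fin m ⊕ Fin m) (Fin m ⊕ Fin m) F) *ᵥ a) ∘ e.symm) := by
    intro v'
    have h3 := sympTransvGL_mulVec a 1 ((P : Matrix (Fin m ⊕ Fin m) (Fin m ⊕ Fin m) F) *ᵥ (v' ∘ e))
    rw [hmat, ← Matrix.mulVec_mulVec, ← Matrix.mulVec_mulVec, hPP, one_mul] at h3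
    have h4 : Matrix.reindex e.symm e.symm (k : Matrix (Fin n₁ × Fin n₂) (Fin n₁ × Fin n₂) F) *ᵥ (v' ∘ e) =
        ((k : Matrix (Fin n₁ × Fin n₂) (Fin n₁ × Fin n₂) F) *ᵥ v') ∘ e := by
      rw [Matrix.reindex_apply, Equiv.symm_symm, Matrix.submatrix_mulVec_equiv]
      congr 2
      funext p
      simp
    rw [h4] at h3
    have h5 := congrArg (fun z => ((P⁻¹ : GL (Fin m ⊕ Fin m) F) : Matrix (Fin m ⊕ Fin m) (Fin m ⊕ Fin m) F) *ᵥ z) h3
    simp only [hPP, Matrix.mulVec_add, Matrix.mulVec_smul] at h5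
    have h6 := congrArg (fun z : Fin m ⊕ Fin m → F => z ∘ e.symm) h5
    funext p
    have h7 := congrFun h6 p
    simp only [Function.comp_apply, Equiv.apply_symm_apply, Pi.add_apply, Pi.smul_apply] at h7
    simp only [Pi.add_apply, Pi.smul_apply, Function.comp_apply]
    exact h7
  -- the functional
  let φ : (Fin n₁ × Fin n₂ → F) →ₗ[F] F :=
    { toFun := fun v' => Cfsg.sympForm m F ((P : Matrix (Fin m ⊕ Fin m) (Fin m ⊕ Fin m) F) *ᵥ (v' ∘ e)) a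
      map_add' := by
        intro v w
        have : (v + w) ∘ e = v ∘ e + w ∘ e := rfl
        rw [this, Matrix.mulVec_add, sympForm_add_left]
      map_smul' := by
        intro c v
        have : (c • v) ∘ e = c • (v ∘ e) := rfl
        rw [this, Matrix.mulVec_smul, sympForm_smul_left]
        rfl }
  have hφv : ∀ v', φ v' = Cfsg.sympForm m F ((P : Matrix (Fin m ⊕ Fin m) (Fin m ⊕ Fin m) F) *ᵥ (v' ∘ e)) a :=
    fun v' => rfl
  have hφ : φ ≠ 0 := by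
    intro h0
    apply hya
    have h8 := hφv ((((P⁻¹ : GL (Fin m ⊕ Fin m) F) : Matrix (Fin m ⊕ Fin m) (Fin m ⊕ Fin m) F) *ᵥ y) ∘ e.symm)
    rw [h0, LinearMap.zero_apply] at h8
    have h9 : ((((P⁻¹ : GL (Fin m ⊕ Fin m) F) : Matrix (Fin m ⊕ Fin m) (Fin m ⊕ Fin m) F) *ᵥ y) ∘ e.symm) ∘ e =
        ((P⁻¹ : GL (Fin m ⊕ Fin m) F) : Matrix (Fin m ⊕ Fin m) (Fin m ⊕ Fin m) F) *ᵥ y := by
      funext p
      simp
    rw [h9, hPP'] at h8
    exact h8.symm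
  have hx : ((((P⁻¹ : GL (Fin m ⊕ Fin m) F) : Matrix (Fin m ⊕ Fin m) (Fin m ⊕ Fin m) F) *ᵥ a) ∘ e.symm) ≠ 0 := by
    intro h0
    apply ha
    have h10 : ((P⁻¹ : GL (Fin m ⊕ Fin m) F) : Matrix (Fin m ⊕ Fin m) (Fin m ⊕ Fin m) F) *ᵥ a = 0 := by
      funext p
      have := congrFun h0 (e p)
      simpa using this
    rw [← hPP' a, h10, Matrix.mulVec_zero]
  refine kron_ne_transvection h1 h2 (A : Matrix (Fin n₁) (Fin n₁) F) (B : Matrix (Fin n₂) (Fin n₂) F) _ hx φ hφ ?_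
  intro v
  rw [← hAB, hact v, hφv]

end Cfsg.Agent.Lib.Helper1.SpCorB4
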