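import Mathlib
import Cfsg.Prelude.Def_GeometricClasses
import Cfsg.Agent.Lib.Helper13.SpMax
import Cfsg.Agent.H5.SpCorA

/-!
# Corollaries of the symplectic hub S5662, properness piece (SpG-b8)  (helper1, for helper5)

`not_sp_le_quadSimilarityGroup` : `Sp_{2m}(F)`, `m ≥ 2`, is not contained in the similarity group of a quadratic form `Q`
whose polar form is the standard symplectic form.
`Q(t_a(c) x) = Q(x) + f(x,a)² (c² Q(a) + c)`.  A singular `a ≠ 0` gives a contradiction at once (`x`, `x + a`); so every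
`a ≠ 0` is non-singular, the multiplier of `t_a(c)` is `1`, `c² Q(a) + c = 0` for all `c`, `Q(a) = -1` for all `a ≠ 0`,
`f(u,v) = 1` whenever `u, v, u + v ≠ 0`: contradicts additivity on three basis vectors.
-/

set_option autoImplicit false
set_option linter.unusedSectionVars false
set_option linter.unusedVariables false

namespace Cfsg.Agent.Lib.Helper1.SpCorB8

open Cfsg Cfsg.Geo Matrix
open Cfsg.Agent.Lib.Helper13 (sympTransvGL sympTransvGL_mulVec sympTransvGL_mem)
open Cfsg.Agent.Lib.Helper6 (sympForm_add_left sympForm_add_right sympForm_smul_left sympForm_smul_right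
  sympForm_self sympForm_swap sympForm_zero_left sympForm_zero_right)
open scoped MatrixGroups

variable {F : Type*} [Field F] {m : ℕ}

local notation "ff" => Cfsg.sympForm m F

/-- (SpG-b8) -/
theorem not_sp_le_quadSimilarityGroup (hm : 2 ≤ m) (Q : (Fin m ⊕ Fin m → F) → F)
    (hQ : IsNondegenerateQuadraticForm Q)
    (hpol : ∀ u v, QuadraticMap.polar Q u v = Cfsg.sympForm m F u v) :
    ¬ Cfsg.spGL m F ≤ quadSimilarityGroup Q := by
  intro hle
  have hadd : ∀ u v, Q (u + v) = Q u + Q v + ff u v := by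
    intro u v
    have h := hpol u v
    unfold QuadraticMap.polar at h
    linear_combination h
  -- the key formula
  have hKF : ∀ (a x : Fin m ⊕ Fin m → F) (c : F),
      Q (x + (c * ff x a) • a) = Q x + (ff x a) ^ 2 * (c ^ 2 * Q a + c) := by
    intro a x c
    rw [hadd, hQ.smul, sympForm_smul_right]
    ring
  -- the transvections are similarities
  have hsim : ∀ (a : Fin m ⊕ Fin m → F) (c : F), ∃ μ : F, ∀ v,
      Q v + (ff v a) ^ 2 * (c ^ 2 * Q a + c) = μ * Q v := by
    intro a c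
    obtain ⟨μ, hμ⟩ := hle (sympTransvGL_mem a c)
    refine ⟨(μ : F), fun v => ?_⟩
    rw [← hKF, ← sympTransvGL_mulVec]
    exact hμ v
  have hex : ∀ a : Fin m ⊕ Fin m → F, a ≠ 0 → ∃ x, ff x a ≠ 0 := by
    intro a ha
    by_contra hcon
    push Not at hcon
    exact ha (Cfsg.H5.SpCor.eq_zero_of_forall_left a hcon)
  -- every non-zero vector is non-singular
  have hns : ∀ a : Fin m ⊕ Fin m → F, a ≠ 0 → Q a ≠ 0 := by
    intro a ha hQa
    obtain ⟨x, hx⟩ := hex a ha
    obtain ⟨μ, hμ⟩ := hsim a 1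
    have h1 := hμ x
    have h2 := hμ (x + a)
    rw [hadd x a, sympForm_add_left, sympForm_self, add_zero, hQa] at h2
    rw [hQa] at h1
    have h3 : ff x a * (1 - μ) = 0 := by linear_combination h2 - h1
    rcases mul_eq_zero.1 h3 with h4 | h4
    · exact hx h4
    · have h5 : μ = 1 := by linear_combination -h4
      rw [h5] at h1
      have h6 : ff x a ^ 2 = 0 := by linear_combination h1
      exact hx ((pow_eq_zero_iff (two_ne_zero)).1 h6)
  -- every non-zero vector has `Q = -1`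
  have hm1 : ∀ a : Fin m ⊕ Fin m → F, a ≠ 0 → Q a = -1 := by
    intro a ha
    obtain ⟨x, hx⟩ := hex a ha
    obtain ⟨μ, hμ⟩ := hsim a 1
    have h1 := hμ a
    rw [sympForm_self] at h1
    have h2 : (1 - μ) * Q a = 0 := by linear_combination h1
    rcases mul_eq_zero.1 h2 with h3 | h3
    · have h4 : μ = 1 := by linear_combination -h3
      have h5 := hμ x
      rw [h4] at h5
      have h6 : ff x a ^ 2 * (Q a + 1) = 0 := by linear_combination h5
      rcases mul_eq_zero.1 h6 with h7 | h7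
      · exact absurd ((pow_eq_zero_iff (two_ne_zero)).1 h7) hx
      · linear_combination h7
    · exact absurd h3 (hns a ha)
  -- three basis vectors
  have hff : ∀ u v : Fin m ⊕ Fin m → F, u ≠ 0 → v ≠ 0 → u + v ≠ 0 → ff u v = 1 := by
    intro u v hu hv huv
    have h := hadd u v
    rw [hm1 u hu, hm1 v hv, hm1 _ huv] at h
    linear_combination -h
  have hs : ∀ (p : Fin m ⊕ Fin m) (v : Fin m ⊕ Fin m → F), v p ≠ 0 → v ≠ 0 := by
    intro p v hv h
    rw [h] at hv
    exact hv rfl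
  have h01 : (Sum.inl ⟨0, by omega⟩ : Fin m ⊕ Fin m) ≠ Sum.inl ⟨1, by omega⟩ := by
    intro h
    have := Sum.inl_injective h
    simpa using congrArg Fin.val this
  have e1 : (Pi.single (Sum.inl ⟨0, by omega⟩) 1 : Fin m ⊕ Fin m → F) ≠ 0 :=
    hs (Sum.inl ⟨0, by omega⟩) _ (by simp)
  have e2 : (Pi.single (Sum.inl ⟨1, by omega⟩) 1 : Fin m ⊕ Fin m → F) ≠ 0 :=
    hs (Sum.inl ⟨1, by omega⟩) _ (by simp)
  have e3 : (Pi.single (Sum.inr ⟨0, by omega⟩) 1 : Fin m ⊕ Fin m → F) ≠ 0 :=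
    hs (Sum.inr ⟨0, by omega⟩) _ (by simp)
  have e12 : (Pi.single (Sum.inl ⟨0, by omega⟩) 1 + Pi.single (Sum.inl ⟨1, by omega⟩) 1 :
      Fin m ⊕ Fin m → F) ≠ 0 :=
    hs (Sum.inl ⟨0, by omega⟩) _ (by simp)
  have e13 : (Pi.single (Sum.inl ⟨0, by omega⟩) 1 + Pi.single (Sum.inr ⟨0, by omega⟩) 1 :
      Fin m ⊕ Fin m → F) ≠ 0 :=
    hs (Sum.inl ⟨0, by omega⟩) _ (by simp)
  have e23 : (Pi.single (Sum.inl ⟨1, by omega⟩) 1 + Pi.single (Sum.inr ⟨0, by omega⟩) 1 :
      Fin m ⊕ Fin m → F) ≠ 0 :=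
    hs (Sum.inl ⟨1, by omega⟩) _ (by simp)
  have e123 : (Pi.single (Sum.inl ⟨0, by omega⟩) 1 + Pi.single (Sum.inl ⟨1, by omega⟩) 1 +
      Pi.single (Sum.inr ⟨0, by omega⟩) 1 : Fin m ⊕ Fin m → F) ≠ 0 :=
    hs (Sum.inl ⟨0, by omega⟩) _ (by simp)
  have h1 := hff _ _ e12 e3 e123
  rw [sympForm_add_left, hff _ _ e1 e3 e13, hff _ _ e2 e3 e23] at h1
  have : (1 : F) = 0 := by linear_combination h1
  exact one_ne_zero this

end Cfsg.Agent.Lib.Helper1.SpCorB8
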