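import Mathlib
import Cfsg.Agent.Lib.Helper1.NoncyclicAbelian
import Cfsg.Agent.Lib.Helper10.FrobFpf

/-!
# Helper1 library: fixed-point-free actions force cyclic subgroups

* `conjHomOn A V hAV : A →* MulAut V`, conjugation action for `A ≤ N(V)`.
* `coprime_card_of_fpf`: `A` acting fixed-point-freely on `V` has order coprime to `|V|`.
* `isCyclic_of_fpf_of_comm`: abelian `A` acting fpf on `V ≠ 1` is cyclic.
* `isCyclic_of_fpf_of_card_eq_mul`: `|A| = pq` acting fpf on abelian `V ≠ 1` is cyclic.
-/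

set_option autoImplicit false

namespace Cfsg.Agent.Lib.Helper1

open Subgroup
open scoped commutatorElement

section FpfAction

variable {G : Type*} [Group G]

/-- the conjugation action `A → Aut V` for `A ≤ N(V)`. -/
noncomputable def conjHomOn (A V : Subgroup G) (hAV : A ≤ Subgroup.normalizer (V : Set G)) :
    A →* MulAut V :=
  V.normalizerMonoidHom.comp (Subgroup.inclusion hAV)

theorem conjHomOn_apply (A V : Subgroup G) (hAV : A ≤ Subgroup.normalizer (V : Set G))
    (a : A) (v : V) : ((conjHomOn A V hAV a) v : G) = a * v * (a : G)⁻¹ := rfl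

theorem eq_one_of_conjHomOn_fixed (A V : Subgroup G) (hAV : A ≤ Subgroup.normalizer (V : Set G))
    (hfpf : ∀ a ∈ A, a ≠ 1 → V ⊓ Subgroup.centralizer {a} = ⊥)
    (a : A) (ha : a ≠ 1) (v : V) (hv : conjHomOn A V hAV a v = v) : v = 1 := by
  have h1 : (a : G) * v * (a : G)⁻¹ = v := by
    rw [← conjHomOn_apply A V hAV a v, hv]
  have h2 : (v : G) ∈ V ⊓ Subgroup.centralizer {(a : G)} := by
    refine Subgroup.mem_inf.mpr ⟨v.2, ?_⟩
    rw [Subgroup.mem_centralizer_singleton_iff]
    calc (v : G) * a = (a : G) * v * (a : G)⁻¹ * a := by rw [h1]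
      _ = a * v := by group
  rw [hfpf a a.2 (fun h => ha (Subtype.ext h)), Subgroup.mem_bot] at h2
  exact Subtype.ext h2

variable [Finite G]

/-- A group acting fixed-point-freely on a nontrivial group has coprime order. -/
theorem coprime_card_of_fpf (A V : Subgroup G) (hAV : A ≤ Subgroup.normalizer (V : Set G))
    (hfpf : ∀ a ∈ A, a ≠ 1 → V ⊓ Subgroup.centralizer {a} = ⊥) :
    (Nat.card A).Coprime (Nat.card V) := by
  apply Nat.Coprime.symm
  refine Nat.coprime_of_dvd fun r hr hrV hrA => ?_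
  have : Fact r.Prime := ⟨hr⟩
  obtain ⟨a, ha⟩ := exists_prime_orderOf_dvd_card' (G := A) r hrA
  have ha1 : a ≠ 1 := by
    rintro rfl
    rw [orderOf_one] at ha
    exact hr.one_lt.ne ha
  let R : Subgroup A := Subgroup.zpowers a
  have hR : IsPGroup r R := by
    apply IsPGroup.of_card (n := 1)
    rw [Nat.card_zpowers, ha, pow_one]
  let ρ : R →* MulAut V := (conjHomOn A V hAV).comp R.subtype
  let _ : MulAction R V := MulAction.compHom V ρ
  have hfix : (1 : V) ∈ MulAction.fixedPoints R V := by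
    intro g
    show ρ g 1 = 1
    exact map_one _
  obtain ⟨b, hb, hb1⟩ := hR.exists_fixed_point_of_prime_dvd_card_of_fixed_point V hrV hfix
  apply hb1
  symm
  apply eq_one_of_conjHomOn_fixed A V hAV hfpf a ha1 b
  exact hb ⟨a, Subgroup.mem_zpowers a⟩

/-- An abelian group acting fixed-point-freely on a nontrivial group is cyclic. -/
theorem isCyclic_of_fpf_of_comm (A V : Subgroup G) [IsMulCommutative A] (hV : V ≠ ⊥)
    (hAV : A ≤ Subgroup.normalizer (V : Set G))
    (hfpf : ∀ a ∈ A, a ≠ 1 → V ⊓ Subgroup.centralizer {a} = ⊥) : IsCyclic A := by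
  by_contra hA
  have hcop := coprime_card_of_fpf A V hAV hfpf
  have h := iSup_inf_centralizer_eq_of_not_isCyclic A V hA hAV hcop
  apply hV
  rw [← h, eq_bot_iff]
  refine iSup₂_le fun a ha => ?_
  rw [hfpf a ha.1 ha.2]

theorem eq_or_eq_of_mul_eq_mul_primes {p q r s : ℕ} (hp : p.Prime) (hq : q.Prime)
    (h : r * s = p * q) (hr : r ≠ 1) (hs : s ≠ 1) : (r = p ∧ s = q) ∨ (r = q ∧ s = p) := by
  have h1 : p ∣ r * s := ⟨q, h⟩
  rcases (Nat.Prime.dvd_mul hp).mp h1 with ⟨r', rfl⟩ | ⟨s', rfl⟩
  · have h2 : r' * s = q := by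
      have : p * (r' * s) = p * q := by rw [← mul_assoc]; exact h
      exact Nat.eq_of_mul_eq_mul_left hp.pos this
    have h3 : r' ∣ q := ⟨s, h2.symm⟩
    rcases (Nat.dvd_prime hq).mp h3 with rfl | rfl
    · left; simpa using h2
    · exfalso
      have : s = 1 := by
        have : r' * s = r' * 1 := by rw [mul_one]; exact h2
        exact Nat.eq_of_mul_eq_mul_left hq.pos this
      exact hs this
  · have h2 : r * s' = q := by
      have : p * (r * s') = p * q := by rw [← h]; ring
      exact Nat.eq_of_mul_eq_mul_left hp.pos this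
    have h3 : s' ∣ q := ⟨r, by rw [← h2, mul_comm]⟩
    rcases (Nat.dvd_prime hq).mp h3 with rfl | rfl
    · right; simpa using h2
    · exfalso
      have : r = 1 := by
        have : s' * r = s' * 1 := by rw [mul_one, mul_comm]; exact h2
        exact Nat.eq_of_mul_eq_mul_left hq.pos this
      exact hr this

open scoped IsMulCommutative in
/-- A group of order `pq` acting fixed-point-freely on a nontrivial abelian group is cyclic. -/
theorem isCyclic_of_fpf_of_card_eq_mul (A V : Subgroup G) [IsMulCommutative V] (hV : V ≠ ⊥)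
    (hAV : A ≤ Subgroup.normalizer (V : Set G))
    (hfpf : ∀ a ∈ A, a ≠ 1 → V ⊓ Subgroup.centralizer {a} = ⊥)
    {p q : ℕ} (hp : p.Prime) (hq : q.Prime) (hcard : Nat.card A = p * q) : IsCyclic A := by
  by_cases hpq : p = q
  · subst hpq
    have : Fact p.Prime := ⟨hp⟩
    have : IsMulCommutative A :=
      IsPGroup.isMulCommutative_of_card_eq_prime_sq (by rw [hcard, sq])
    exact isCyclic_of_fpf_of_comm A V hV hAV hfpf
  · by_contra hA
    have hsq : Squarefree (Nat.card A) := by
      rw [hcard, Nat.squarefree_mul_iff]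
      exact ⟨(Nat.coprime_primes hp hq).mpr hpq, hp.prime.squarefree, hq.prime.squarefree⟩
    have hZ : IsZGroup A := IsZGroup.of_squarefree hsq
    have hnt : Nontrivial A := by
      rw [← Finite.one_lt_card_iff_nontrivial, hcard]
      exact Nat.one_lt_mul_iff.mpr ⟨hp.pos, hq.pos, Or.inl hp.one_lt⟩
    have hcop := coprime_card_of_fpf A V hAV hfpf
    let M : Subgroup A := commutator A
    have hMbot : M ≠ ⊥ := by
      intro h
      have : IsMulCommutative A := by
        refine ⟨⟨fun a b => ?_⟩⟩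
        have : ⁅a, b⁆ ∈ M := Subgroup.commutator_mem_commutator (Subgroup.mem_top a) (Subgroup.mem_top b)
        rw [h, Subgroup.mem_bot, commutatorElement_eq_one_iff_mul_comm] at this
        exact this
      exact hA (isCyclic_of_fpf_of_comm A V hV hAV hfpf)
    have hMtop : M < ⊤ := IsZGroup.commutator_lt A
    have hMcard : Nat.card M ≠ 1 := fun h => hMbot (Subgroup.card_eq_one.mp h)
    have hMidx : M.index ≠ 1 := fun h => hMtop.ne (Subgroup.index_eq_one.mp h)
    have hmul : Nat.card M * M.index = p * q := by rw [Subgroup.card_mul_index, hcard]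
    obtain ⟨r, s, hr, hs, hrs, hMr, hMs, hrsA⟩ : ∃ r s : ℕ, r.Prime ∧ s.Prime ∧ r ≠ s ∧
        Nat.card M = r ∧ M.index = s ∧ r * s = Nat.card A := by
      rcases eq_or_eq_of_mul_eq_mul_primes hp hq hmul hMcard hMidx with ⟨h1, h2⟩ | ⟨h1, h2⟩
      · exact ⟨p, q, hp, hq, hpq, h1, h2, hcard.symm⟩
      · exact ⟨q, p, hq, hp, Ne.symm hpq, h1, h2, by rw [hcard, mul_comm]⟩
    have : Fact s.Prime := ⟨hs⟩
    obtain ⟨g, hg⟩ := exists_prime_orderOf_dvd_card' (G := A) s ⟨r, by rw [← hrsA, mul_comm]⟩
    let X : Subgroup A := Subgroup.zpowers g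
    have hXcard : Nat.card X = s := by rw [Nat.card_zpowers, hg]
    have hordX : ∀ x ∈ X, x ≠ 1 → orderOf x = s := by
      intro x hx hx1
      have h1 : orderOf (⟨x, hx⟩ : X) ∣ s := hXcard ▸ orderOf_dvd_natCard _
      rw [Subgroup.orderOf_mk] at h1
      rcases (Nat.dvd_prime hs).mp h1 with h2 | h2
      · exact absurd (orderOf_eq_one_iff.mp h2) hx1
      · exact h2
    have hordM : ∀ m ∈ M, m ≠ 1 → orderOf m = r := by
      intro x hx hx1
      have h1 : orderOf (⟨x, hx⟩ : M) ∣ r := hMr ▸ orderOf_dvd_natCard _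
      rw [Subgroup.orderOf_mk] at h1
      rcases (Nat.dvd_prime hr).mp h1 with h2 | h2
      · exact absurd (orderOf_eq_one_iff.mp h2) hx1
      · exact h2
    have hfrob : ∀ x ∈ X, x ≠ 1 → ∀ m ∈ M, m * x = x * m → m = 1 := by
      intro x hx hx1 m hm hcomm
      by_contra hm1
      apply hA
      have hc : Commute m x := hcomm
      have hord : orderOf (m * x) = r * s := by
        rw [hc.orderOf_mul_eq_mul_orderOf_of_coprime, hordM m hm hm1, hordX x hx hx1]
        rw [hordM m hm hm1, hordX x hx hx1]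
        exact (Nat.coprime_primes hr hs).mpr hrs
      exact isCyclic_of_orderOf_eq_card (m * x) (by rw [hord, hrsA])
    have hXbot : X ≠ ⊥ := by
      intro h
      have : Nat.card X = 1 := by rw [h, Subgroup.card_bot]
      rw [hXcard] at this
      exact hs.one_lt.ne' this
    have key := Cfsg.Agent.Lib.Helper10.pow_card_eq_one_of_frobenius_fpf (V := V)
      (conjHomOn A V hAV) M X
      (by rw [Subgroup.normalizer_eq_top]; exact le_top) hfrob ?_ ?_
    · apply hV
      rw [eq_bot_iff]
      intro v hv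
      rw [Subgroup.mem_bot]
      have h1 := key ⟨v, hv⟩
      have h2 : orderOf (⟨v, hv⟩ : V) ∣ Nat.card M := orderOf_dvd_of_pow_eq_one h1
      have h3 : orderOf (⟨v, hv⟩ : V) ∣ Nat.card V := orderOf_dvd_natCard _
      have h4 : orderOf (⟨v, hv⟩ : V) ∣ Nat.card A := h2.trans (Subgroup.card_subgroup_dvd_card M)
      have h5 := Nat.eq_one_of_dvd_coprimes hcop h4 h3
      have := orderOf_eq_one_iff.mp h5
      exact congrArg Subtype.val this
    · intro v hv
      obtain ⟨m, hm1⟩ := (Subgroup.ne_bot_iff_exists_ne_one (H := M)).mp hMbot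
      exact eq_one_of_conjHomOn_fixed A V hAV hfpf m (fun h => hm1 (Subtype.ext h)) v (hv m m.2)
    · intro v hv
      obtain ⟨m, hm1⟩ := (Subgroup.ne_bot_iff_exists_ne_one (H := X)).mp hXbot
      exact eq_one_of_conjHomOn_fixed A V hAV hfpf m (fun h => hm1 (Subtype.ext h)) v (hv m m.2)

end FpfAction

end Cfsg.Agent.Lib.Helper1
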