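import Mathlib
import Cfsg.Agent.Lib.Helper1.FpfCyclic
import Cfsg.Agent.Lib.Helper10.UniqueOrderP

/-!
# Helper1 library: Sylow subgroups of Frobenius complements (fixed-point-free form)

* `mem_zpowers_of_fpf_of_commute`: commuting elements of order `p` of a group acting fpf on `K ≠ 1`
  generate the same subgroup.
* `uniqueOrderP_sylow_of_fpf`, `sylow_isCyclic_or_quaternion_of_fpf` (= S0040), on top of
  `Cfsg.Agent.Lib.Helper10.UniqueOrderP`.
-/

set_option autoImplicit false

namespace Cfsg.Agent.Lib.Helper1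

open Cfsg.Agent.Lib.Helper10

section FpfSylow

variable {G : Type*} [Group G] [Finite G]

/-- In a group acting fixed-point-freely, commuting elements of order `p` generate the same
subgroup. -/
theorem mem_zpowers_of_fpf_of_commute (K H : Subgroup G) [K.Normal] (hK : K ≠ ⊥)
    (hfpf : ∀ h ∈ H, h ≠ 1 → K ⊓ Subgroup.centralizer {h} = ⊥) {p : ℕ} [Fact p.Prime]
    {x y : G} (hx : x ∈ H) (hy : y ∈ H) (hxy : x * y = y * x) (hxp : x ^ p = 1) (hx1 : x ≠ 1)
    (hyp : y ^ p = 1) : y ∈ Subgroup.zpowers x := by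
  have hp : p.Prime := Fact.out
  set A : Subgroup G := Subgroup.closure {x, y} with hA
  have hAH : A ≤ H := by
    rw [hA, Subgroup.closure_le]
    rintro _ (rfl | rfl)
    · exact hx
    · exact hy
  have hAc : IsMulCommutative A := by
    apply Subgroup.isMulCommutative_closure
    rintro _ (rfl | rfl) _ (rfl | rfl)
    · rfl
    · exact hxy
    · exact hxy.symm
    · rfl
  have hcyc : IsCyclic A := isCyclic_of_fpf_of_comm A K hK
    (by rw [Subgroup.normalizer_eq_top]; exact le_top) (fun a ha ha1 => hfpf a (hAH ha) ha1)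
  have hxA : x ∈ A := Subgroup.subset_closure (by simp)
  have hyA : y ∈ A := Subgroup.subset_closure (by simp)
  apply mem_zpowers_of_orderOf_dvd' A hcyc hyA hxA
  rw [orderOf_eq_prime hxp hx1]
  exact orderOf_dvd_of_pow_eq_one hyp

/-- Sylow subgroups of a group acting fixed-point-freely have at most one subgroup of order `p`. -/
theorem uniqueOrderP_sylow_of_fpf (K H : Subgroup G) [K.Normal] (hK : K ≠ ⊥)
    (hfpf : ∀ h ∈ H, h ≠ 1 → K ⊓ Subgroup.centralizer {h} = ⊥) (p : ℕ) [Fact p.Prime]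
    (P : Sylow p H) : UniqueOrderP p P := by
  have hp : p.Prime := Fact.out
  intro x y hx hx1 hy
  -- a central element of order p
  have hPp : IsPGroup p P := P.2
  have hnt : Nontrivial P := ⟨⟨x, 1, hx1⟩⟩
  have hcn : Nontrivial (Subgroup.center P) := hPp.center_nontrivial
  obtain ⟨z0, hz0⟩ := exists_ne (1 : Subgroup.center P)
  obtain ⟨z, hzc, hz1, hzp⟩ : ∃ z : P, z ∈ Subgroup.center P ∧ z ≠ 1 ∧ z ^ p = 1 := by
    have hex : ∃ k, (z0 : P) ^ p ^ k = 1 := hPp (z0 : P)
    classical
    have hk := Nat.find_spec hex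
    have hk0 : Nat.find hex ≠ 0 := by
      intro h0
      rw [h0, pow_zero, pow_one] at hk
      exact hz0 (Subtype.ext hk)
    obtain ⟨j, hj⟩ := Nat.exists_eq_succ_of_ne_zero hk0
    refine ⟨(z0 : P) ^ p ^ j, pow_mem z0.2 _, ?_, ?_⟩
    · exact Nat.find_min hex (by omega)
    · rw [← pow_mul, ← pow_succ, ← Nat.succ_eq_add_one, ← hj]
      exact hk
  -- coercion to G
  let c : P → G := fun u => ((u : H) : G)
  have hc_mul : ∀ u v : P, c (u * v) = c u * c v := fun u v => rfl
  have hc_pow : ∀ (u : P) (n : ℕ), c (u ^ n) = c u ^ n := fun u n => by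
    simp [c]
  have hc_inj : Function.Injective c := fun u v h => Subtype.ext (Subtype.ext h)
  have hc_one : c 1 = 1 := rfl
  have hcH : ∀ u : P, c u ∈ H := fun u => (u : H).2
  have hzcomm : ∀ u : P, c z * c u = c u * c z := by
    intro u
    rw [← hc_mul, ← hc_mul, (Subgroup.mem_center_iff.mp hzc u).symm]
  have back : ∀ u v : P, c v ∈ Subgroup.zpowers (c u) → v ∈ Subgroup.zpowers u := by
    intro u v h
    obtain ⟨k, hk⟩ := Subgroup.mem_zpowers_iff.mp h
    refine Subgroup.mem_zpowers_iff.mpr ⟨k, ?_⟩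
    apply hc_inj
    rw [← hk]
    simp [c]
  have hzx : z ∈ Subgroup.zpowers x := by
    apply back
    apply mem_zpowers_of_fpf_of_commute K H hK hfpf (p := p) (hcH x) (hcH z) (hzcomm x).symm
    · rw [← hc_pow, hx]; rfl
    · intro h; exact hx1 (hc_inj h)
    · rw [← hc_pow, hzp]; rfl
  have hyz : y ∈ Subgroup.zpowers z := by
    apply back
    apply mem_zpowers_of_fpf_of_commute K H hK hfpf (p := p) (hcH z) (hcH y) (hzcomm y)
    · rw [← hc_pow, hzp]; rfl
    · intro h; exact hz1 (hc_inj h)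
    · rw [← hc_pow, hy]; rfl
  exact (Subgroup.zpowers_le.mpr hzx) hyz

/-- Sylow subgroups of Frobenius complements (fixed-point-free form) are cyclic or generalized
quaternion. -/
theorem sylow_isCyclic_or_quaternion_of_fpf (K H : Subgroup G) [K.Normal] (hK : K ≠ ⊥)
    (hfpf : ∀ h ∈ H, h ≠ 1 → K ⊓ Subgroup.centralizer {h} = ⊥) (p : ℕ) [Fact p.Prime]
    (P : Sylow p H) :
    IsCyclic P ∨ ∃ n : ℕ, Nonempty (P ≃* QuaternionGroup (2 ^ n)) := by
  rcases isCyclic_or_quaternion_of_uniqueOrderP P.2 (uniqueOrderP_sylow_of_fpf K H hK hfpf p P)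
    with h | ⟨-, h⟩
  · exact Or.inl h
  · exact Or.inr h

end FpfSylow

end Cfsg.Agent.Lib.Helper1
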