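import Mathlib
import Cfsg.Prelude.Def_Solvable
import Cfsg.Agent.Lib.Helper1.Basic

/-!
Frobenius complements: elementary counting and the involution case.
-/

set_option autoImplicit false

open Subgroup
open Pointwise

namespace Cfsg.Agent.Lib.Helper1

universe u

variable {G : Type u} [Group G]

section frobsec

/-- Semidirect product `G = K ⋊ H`: `H` is a Frobenius complement iff nonidentity elements of `H`
act fixed point freely on `K`. -/
theorem isFrobeniusComplement_iff_fpf (K H : Subgroup G) [K.Normal]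
    (hc : Subgroup.IsComplement' K H) (hK : K ≠ ⊥) (hH : H ≠ ⊥) :
    Cfsg.IsFrobeniusComplement H ↔ ∀ h ∈ H, h ≠ 1 → K ⊓ Subgroup.centralizer {h} = ⊥ := by
  have hdis : K ⊓ H = ⊥ := hc.disjoint.eq_bot
  constructor
  · rintro ⟨-, -, hF⟩ h hh hh1
    rw [eq_bot_iff]
    intro k hk
    obtain ⟨hkK, hkC⟩ := Subgroup.mem_inf.mp hk
    rw [Subgroup.mem_bot]
    by_contra hk1
    have hkH : k ∉ H := by
      intro hkH
      have : k ∈ K ⊓ H := Subgroup.mem_inf.mpr ⟨hkK, hkH⟩
      rw [hdis, Subgroup.mem_bot] at this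
      exact hk1 this
    have h1 := hF k hkH
    have h2 : h ∈ H ⊓ MulAut.conj k • H := by
      refine Subgroup.mem_inf.mpr ⟨hh, ?_⟩
      rw [mem_conj_smul]
      have hcomm : h * k = k * h := (Subgroup.mem_centralizer_iff.mp hkC) h (Set.mem_singleton h)
      have : k⁻¹ * h * k = h := by
        rw [mul_assoc, hcomm]; group
      rw [this]; exact hh
    rw [h1, Subgroup.mem_bot] at h2
    exact hh1 h2
  · intro hfpf
    refine ⟨hH, ?_, ?_⟩
    · intro htop
      rw [htop, inf_top_eq] at hdis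
      exact hK hdis
    · intro g hg
      rw [eq_bot_iff]
      intro x hx
      obtain ⟨hxH, hxc⟩ := Subgroup.mem_inf.mp hx
      rw [Subgroup.mem_bot]
      obtain ⟨k, hk, h', hh', rfl⟩ := IsComplement'.exists_mul_eq hc g
      rw [mem_conj_smul] at hxc
      -- y = h'⁻¹ * (k⁻¹ x k) * h' ∈ H; so z := k⁻¹ x k ∈ H
      have hz : k⁻¹ * x * k ∈ H := by
        have := H.mul_mem (H.mul_mem hh' hxc) (H.inv_mem hh')
        have e : h' * ((k * h')⁻¹ * x * (k * h')) * h'⁻¹ = k⁻¹ * x * k := by group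
        rwa [e] at this
      -- x * z⁻¹ ∈ K ∩ H
      have hxz : x * (k⁻¹ * x * k)⁻¹ ∈ K := by
        have e : x * (k⁻¹ * x * k)⁻¹ = (x * k⁻¹ * x⁻¹) * k := by group
        rw [e]
        exact K.mul_mem (Subgroup.Normal.conj_mem inferInstance _ (K.inv_mem hk) x) hk
      have hxz' : x * (k⁻¹ * x * k)⁻¹ ∈ K ⊓ H :=
        Subgroup.mem_inf.mpr ⟨hxz, H.mul_mem hxH (H.inv_mem hz)⟩
      rw [hdis, Subgroup.mem_bot, mul_inv_eq_one] at hxz'
      -- so x = k⁻¹ x k: k commutes with x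
      by_contra hx1
      have hkC : k ∈ K ⊓ Subgroup.centralizer {x} := by
        refine Subgroup.mem_inf.mpr ⟨hk, ?_⟩
        rw [Subgroup.mem_centralizer_iff]
        intro y hy
        rw [Set.mem_singleton_iff] at hy
        subst hy
        calc y * k = k * (k⁻¹ * y * k) := by group
          _ = k * y := by rw [← hxz']
      rw [hfpf x hxH hx1, Subgroup.mem_bot] at hkC
      apply hg
      rw [hkC, one_mul]; exact hh'


/-- Conjugates of a Frobenius complement sharing a nonidentity element coincide. -/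
theorem IsFrobeniusComplement.inv_mul_mem {H : Subgroup G} (hH : Cfsg.IsFrobeniusComplement H)
    {a b x : G} (hx1 : x ≠ 1) (hxa : x ∈ MulAut.conj a • H) (hxb : x ∈ MulAut.conj b • H) :
    a⁻¹ * b ∈ H := by
  by_contra hab
  have h1 := hH.2.2 _ hab
  rw [mem_conj_smul] at hxa hxb
  have h2 : a⁻¹ * x * a ∈ H ⊓ MulAut.conj (a⁻¹ * b) • H := by
    refine Subgroup.mem_inf.mpr ⟨hxa, ?_⟩
    rw [mem_conj_smul]
    have e : (a⁻¹ * b)⁻¹ * (a⁻¹ * x * a) * (a⁻¹ * b) = b⁻¹ * x * b := by group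
    rw [e]; exact hxb
  rw [h1, Subgroup.mem_bot] at h2
  apply hx1
  have e : x = a * (a⁻¹ * x * a) * a⁻¹ := by group
  rw [e, h2]; group

theorem card_subtype_ne_one (X : Type*) [Finite X] (a : X) :
    Nat.card {b : X // b ≠ a} + 1 = Nat.card X := by
  classical
  rw [← Nat.card_congr (Equiv.optionSubtypeNe a), Finite.card_option]

/-- The number of nonidentity elements lying in conjugates of a Frobenius complement. -/
theorem IsFrobeniusComplement.card_compl_kernel [Finite G] {H : Subgroup G}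
    (hH : Cfsg.IsFrobeniusComplement H) :
    Nat.card ((Cfsg.frobeniusKernel H)ᶜ : Set G) = H.index * (Nat.card H - 1) := by
  classical
  let Φ : (G ⧸ H) × {h : H // h ≠ 1} → G := fun x => x.1.out * (x.2.1 : G) * x.1.out⁻¹
  have hΦmem : ∀ x, Φ x ∈ MulAut.conj x.1.out • H := by
    intro x
    rw [mem_conj_smul]
    have e : x.1.out⁻¹ * Φ x * x.1.out = (x.2.1 : G) := by simp only [Φ]; group
    rw [e]; exact x.2.1.2
  have hΦne : ∀ x, Φ x ≠ 1 := by
    intro x h
    have e : (x.2.1 : G) = x.1.out⁻¹ * Φ x * x.1.out := by simp only [Φ]; group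
    rw [h] at e
    have : (x.2.1 : G) = 1 := by rw [e]; group
    exact x.2.2 (Subtype.ext this)
  have hinj : Function.Injective Φ := by
    rintro ⟨q, h⟩ ⟨q', h'⟩ heq
    have h1 := IsFrobeniusComplement.inv_mul_mem hH (hΦne ⟨q, h⟩) (hΦmem ⟨q, h⟩) (heq ▸ hΦmem ⟨q', h'⟩)
    have hq : q = q' := by
      rw [← QuotientGroup.out_eq' q, ← QuotientGroup.out_eq' q', QuotientGroup.eq]
      exact h1
    subst hq
    have : (h.1 : G) = h'.1 := by
      simp only [Φ] at heq
      exact mul_left_cancel (mul_right_cancel heq)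
    rw [Prod.mk.injEq]
    exact ⟨rfl, Subtype.ext (Subtype.ext this)⟩
  have hrange : Set.range Φ = (Cfsg.frobeniusKernel H)ᶜ := by
    ext x
    simp only [Set.mem_range, Set.mem_compl_iff, Cfsg.frobeniusKernel, Set.mem_ofPred_eq, not_or,
      not_forall, not_not]
    constructor
    · rintro ⟨y, rfl⟩
      exact ⟨hΦne y, _, hΦmem y⟩
    · rintro ⟨hx1, g, hg⟩
      obtain ⟨k, hk⟩ := QuotientGroup.mk_out_eq_mul H g
      rw [mem_conj_smul] at hg
      have hy : (k : G)⁻¹ * (g⁻¹ * x * g) * k ∈ H := H.mul_mem (H.mul_mem (H.inv_mem k.2) hg) k.2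
      have hy1 : (⟨_, hy⟩ : H) ≠ 1 := by
        intro h
        have := congrArg Subtype.val h
        simp only [Subgroup.coe_one] at this
        apply hx1
        have e : x = g * k * ((k : G)⁻¹ * (g⁻¹ * x * g) * k) * (g * k)⁻¹ := by group
        rw [e, this]; group
      refine ⟨⟨QuotientGroup.mk g, ⟨⟨_, hy⟩, hy1⟩⟩, ?_⟩
      simp only [Φ, hk]
      group
  rw [← hrange, ← Nat.card_congr (Equiv.ofInjective Φ hinj), Nat.card_prod, Subgroup.index]
  congr 1
  have := card_subtype_ne_one H 1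
  omega

theorem IsFrobeniusComplement.card_kernel [Finite G] {H : Subgroup G}
    (hH : Cfsg.IsFrobeniusComplement H) :
    Nat.card (Cfsg.frobeniusKernel H) = H.index := by
  have h1 := Set.ncard_add_ncard_compl (Cfsg.frobeniusKernel H)
  rw [← Nat.card_coe_set_eq, ← Nat.card_coe_set_eq, IsFrobeniusComplement.card_compl_kernel hH,
    ← Subgroup.index_mul_card H] at h1
  have hpos : 0 < Nat.card H := Nat.card_pos
  have h2 : H.index * Nat.card H = H.index * (Nat.card H - 1) + H.index := by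
    conv_lhs => rw [show Nat.card H = (Nat.card H - 1) + 1 by omega]
    ring
  omega


/-- The nontrivial cosets of `H`, as an `H`-set. -/
def cosetsNe (H : Subgroup G) : SubMulAction H (G ⧸ H) where
  carrier := {q | q ≠ QuotientGroup.mk 1}
  smul_mem' := by
    intro h q hq heq
    apply hq
    have h1 : q = h⁻¹ • (h • q) := by rw [inv_smul_smul]
    rw [h1, heq]
    show ((h⁻¹ : H) : G) • (QuotientGroup.mk 1 : G ⧸ H) = _
    rw [MulAction.Quotient.smul_mk, QuotientGroup.eq]
    simp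

theorem IsFrobeniusComplement.stabilizer_cosetsNe {H : Subgroup G}
    (hH : Cfsg.IsFrobeniusComplement H) (b : cosetsNe H) : MulAction.stabilizer H b = ⊥ := by
  rw [SubMulAction.stabilizer_of_subMul, eq_bot_iff]
  intro h hh
  rw [Subgroup.mem_bot]
  obtain ⟨q, hq⟩ := b
  induction q using QuotientGroup.induction_on with | _ g => ?_
  have hg : g ∉ H := by
    intro hg
    apply hq
    rw [QuotientGroup.eq]; simpa using hg
  rw [MulAction.mem_stabilizer_iff] at hh
  have h1 : ((h : G) * g : G ⧸ H) = (g : G ⧸ H) := hh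
  rw [QuotientGroup.eq] at h1
  have h2 := hH.2.2 g hg
  have h3 : (h : G) ∈ H ⊓ MulAut.conj g • H := by
    refine Subgroup.mem_inf.mpr ⟨h.2, ?_⟩
    rw [mem_conj_smul]
    have e : g⁻¹ * (h : G) * g = (((h : G) * g)⁻¹ * g)⁻¹ := by group
    rw [e]; exact H.inv_mem h1
  rw [h2, Subgroup.mem_bot] at h3
  exact Subtype.ext h3

theorem IsFrobeniusComplement.index_mod_card [Finite G] {H : Subgroup G}
    (hH : Cfsg.IsFrobeniusComplement H) : H.index % Nat.card H = 1 % Nat.card H := by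
  have e := MulAction.selfEquivOrbitsQuotientProd
    (IsFrobeniusComplement.stabilizer_cosetsNe hH)
  have h1 := Nat.card_congr e
  rw [Nat.card_prod] at h1
  have h2 : Nat.card (cosetsNe H) + 1 = H.index := by
    rw [Subgroup.index]
    exact card_subtype_ne_one (G ⧸ H) (QuotientGroup.mk 1)
  rw [← h2, h1, add_comm]
  exact Nat.add_mul_mod_self_right _ _ _


theorem one_mem_frobeniusKernel (H : Subgroup G) : (1 : G) ∈ Cfsg.frobeniusKernel H := Or.inl rfl

theorem conj_mem_frobeniusKernel {H : Subgroup G} {x : G} (hx : x ∈ Cfsg.frobeniusKernel H)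
    (c : G) : c * x * c⁻¹ ∈ Cfsg.frobeniusKernel H := by
  rcases hx with rfl | hx
  · left; group
  · right
    intro g hg
    apply hx (c⁻¹ * g)
    rw [mem_conj_smul] at hg ⊢
    have e : (c⁻¹ * g)⁻¹ * x * (c⁻¹ * g) = g⁻¹ * (c * x * c⁻¹) * g := by group
    rw [e]; exact hg

theorem mem_of_mem_conj_of_mem {H : Subgroup G} (hH : Cfsg.IsFrobeniusComplement H)
    {x c : G} (hx1 : x ≠ 1) (hx : x ∈ H) (hxc : x ∈ MulAut.conj c • H) : c ∈ H := by
  have h1 : x ∈ MulAut.conj (1 : G) • H := by simpa using hx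
  have := IsFrobeniusComplement.inv_mul_mem hH hx1 h1 hxc
  simpa using this

/-- Frobenius complement containing an involution: the kernel is closed under multiplication. -/
theorem IsFrobeniusComplement.mul_mem_kernel_of_involution [Finite G] {H : Subgroup G}
    (hH : Cfsg.IsFrobeniusComplement H) (t : G) (ht : t ∈ H) (ht1 : t ≠ 1) (ht2 : t * t = 1) :
    ∀ x ∈ Cfsg.frobeniusKernel H, ∀ y ∈ Cfsg.frobeniusKernel H,
      x * y ∈ Cfsg.frobeniusKernel H := by
  classical
  have htinv : t⁻¹ = t := inv_eq_of_mul_eq_one_left ht2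
  -- Step 1: the centralizer of t lies in H
  have hcent : ∀ c : G, c * t = t * c → c ∈ H := by
    intro c hc
    apply mem_of_mem_conj_of_mem hH ht1 ht
    rw [mem_conj_smul]
    have e : c⁻¹ * t * c = t := by
      rw [mul_assoc, ← hc]; group
    rw [e]; exact ht
  -- Step 2
  have hu1 : ∀ g : G, g ∉ H → t * (g * t * g⁻¹) ≠ 1 := by
    intro g hg h
    apply hg
    apply hcent
    have h2 : g * t * g⁻¹ = t := by
      have := eq_inv_of_mul_eq_one_right h
      rw [this, htinv]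
    calc g * t = (g * t * g⁻¹) * g := by group
      _ = t * g := by rw [h2]
  have huinv : ∀ g : G, t * (t * (g * t * g⁻¹)) * t⁻¹ = (t * (g * t * g⁻¹))⁻¹ := by
    intro g
    have e1 : t * (t * (g * t * g⁻¹)) * t⁻¹ = (t * t) * (g * t * g⁻¹) * t⁻¹ := by group
    have e2 : (t * (g * t * g⁻¹))⁻¹ = g * t⁻¹ * g⁻¹ * t⁻¹ := by group
    rw [e1, e2, ht2, htinv]; group
  have huN : ∀ g : G, g ∉ H → t * (g * t * g⁻¹) ∈ Cfsg.frobeniusKernel H := by
    intro g hg
    right
    intro x hx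
    have hinvne : (t * (g * t * g⁻¹))⁻¹ ≠ 1 := by
      rw [Ne, inv_eq_one]; exact hu1 g hg
    have hx' : (t * (g * t * g⁻¹))⁻¹ ∈ MulAut.conj x • H := inv_mem hx
    have hx'' : (t * (g * t * g⁻¹))⁻¹ ∈ MulAut.conj (t * x) • H := by
      rw [← huinv g, mem_conj_smul]
      rw [mem_conj_smul] at hx
      have e : (t * x)⁻¹ * (t * (t * (g * t * g⁻¹)) * t⁻¹) * (t * x) =
          x⁻¹ * (t * (g * t * g⁻¹)) * x := by group
      rw [e]; exact hx
    have h1 := IsFrobeniusComplement.inv_mul_mem hH hinvne hx' hx''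
    -- x⁻¹ * (t * x) ∈ H: t ∈ conj x • H
    have htx : t ∈ MulAut.conj x • H := by
      rw [mem_conj_smul]
      have e : x⁻¹ * t * x = x⁻¹ * (t * x) := by group
      rw [e]; exact h1
    have hxH : x ∈ H := mem_of_mem_conj_of_mem hH ht1 ht htx
    rw [mem_conj_smul] at hx
    have huH : t * (g * t * g⁻¹) ∈ H := by
      have := H.mul_mem (H.mul_mem hxH hx) (H.inv_mem hxH)
      have e : x * (x⁻¹ * (t * (g * t * g⁻¹)) * x) * x⁻¹ = t * (g * t * g⁻¹) := by group
      rwa [e] at this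
    have hgt : g * t * g⁻¹ ∈ H := by
      have := H.mul_mem (H.inv_mem ht) huH
      have e : t⁻¹ * (t * (g * t * g⁻¹)) = g * t * g⁻¹ := by group
      rwa [e] at this
    have hgt1 : g * t * g⁻¹ ≠ 1 := by
      intro h
      apply ht1
      have e : t = g⁻¹ * (g * t * g⁻¹) * g := by group
      rw [e, h]; group
    apply hg
    apply mem_of_mem_conj_of_mem hH hgt1 hgt
    rw [mem_conj_smul]
    have e : g⁻¹ * (g * t * g⁻¹) * g = t := by group
    rw [e]; exact ht
  -- Step 3: counting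
  have hsurj : ∀ x ∈ Cfsg.frobeniusKernel H, x ≠ 1 → ∃ g : G, g ∉ H ∧ x = t * (g * t * g⁻¹) := by
    have hout : ∀ q : G ⧸ H, q ≠ QuotientGroup.mk 1 → q.out ∉ H := by
      intro q hq hmem
      apply hq
      rw [← QuotientGroup.out_eq' q, QuotientGroup.eq]
      simpa using hmem
    let Ψ : {q : G ⧸ H // q ≠ QuotientGroup.mk 1} →
        {x : Cfsg.frobeniusKernel H // x ≠ ⟨1, one_mem_frobeniusKernel H⟩} := fun q =>
      ⟨⟨t * (q.1.out * t * q.1.out⁻¹), huN _ (hout q.1 q.2)⟩, by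
        intro h
        exact hu1 _ (hout q.1 q.2) (congrArg Subtype.val h)⟩
    have hΨinj : Function.Injective Ψ := by
      intro q q' h
      have h1 : t * (q.1.out * t * q.1.out⁻¹) = t * (q'.1.out * t * q'.1.out⁻¹) :=
        congrArg (fun z => (z.1.1 : G)) h
      have h2 := mul_left_cancel h1
      have h3 : (q.1.out⁻¹ * q'.1.out) * t = t * (q.1.out⁻¹ * q'.1.out) := by
        calc (q.1.out⁻¹ * q'.1.out) * t = q.1.out⁻¹ * (q'.1.out * t * q'.1.out⁻¹) * q'.1.out := by
              group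
          _ = q.1.out⁻¹ * (q.1.out * t * q.1.out⁻¹) * q'.1.out := by rw [h2]
          _ = _ := by group
      have h4 := hcent _ h3
      apply Subtype.ext
      rw [← QuotientGroup.out_eq' q.1, ← QuotientGroup.out_eq' q'.1, QuotientGroup.eq]
      exact h4
    have hcardX := card_subtype_ne_one (G ⧸ H) (QuotientGroup.mk 1)
    have hcardY := card_subtype_ne_one (Cfsg.frobeniusKernel H) ⟨1, one_mem_frobeniusKernel H⟩
    rw [IsFrobeniusComplement.card_kernel hH] at hcardY
    rw [← Subgroup.index] at hcardX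
    have hbij := hΨinj.bijective_of_nat_card_le (by omega)
    intro x hx hx1
    obtain ⟨q, hq⟩ := hbij.2 ⟨⟨x, hx⟩, fun h => hx1 (congrArg Subtype.val h)⟩
    refine ⟨q.1.out, hout q.1 q.2, ?_⟩
    exact (congrArg (fun z => (z.1.1 : G)) hq).symm
  -- Step 4: t and its conjugates invert the kernel
  have hinv_t : ∀ x ∈ Cfsg.frobeniusKernel H, t * x * t⁻¹ = x⁻¹ := by
    intro x hx
    by_cases hx1 : x = 1
    · rw [hx1]; group
    · obtain ⟨g, -, rfl⟩ := hsurj x hx hx1
      exact huinv g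
  have hinv_s : ∀ c : G, ∀ x ∈ Cfsg.frobeniusKernel H,
      (c * t * c⁻¹) * x * (c * t * c⁻¹)⁻¹ = x⁻¹ := by
    intro c x hx
    have h1 := hinv_t _ (conj_mem_frobeniusKernel hx c⁻¹)
    rw [inv_inv] at h1
    calc (c * t * c⁻¹) * x * (c * t * c⁻¹)⁻¹ = c * (t * (c⁻¹ * x * c) * t⁻¹) * c⁻¹ := by group
      _ = c * (c⁻¹ * x * c)⁻¹ * c⁻¹ := by rw [h1]
      _ = x⁻¹ := by group
  -- Step 5: the kernel is commutative
  have hcomm : ∀ x ∈ Cfsg.frobeniusKernel H, ∀ y ∈ Cfsg.frobeniusKernel H, x * y = y * x := by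
    intro x hx y hy
    by_cases hx1 : x = 1
    · rw [hx1]; group
    · obtain ⟨g, -, rfl⟩ := hsurj x hx hx1
      have h1 := hinv_s g y hy
      have h2 := hinv_t _ (by
        have := conj_mem_frobeniusKernel hy (g * t * g⁻¹)
        exact this)
      rw [h1] at h2
      have h3 : t * (g * t * g⁻¹) * y * (t * (g * t * g⁻¹))⁻¹ = y := by
        calc t * (g * t * g⁻¹) * y * (t * (g * t * g⁻¹))⁻¹
            = t * ((g * t * g⁻¹) * y * (g * t * g⁻¹)⁻¹) * t⁻¹ := by group
          _ = t * y⁻¹ * t⁻¹ := by rw [h1]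
          _ = y := by rw [h2, inv_inv]
      calc t * (g * t * g⁻¹) * y = (t * (g * t * g⁻¹) * y * (t * (g * t * g⁻¹))⁻¹) * (t * (g * t * g⁻¹)) := by
            group
        _ = y * (t * (g * t * g⁻¹)) := by rw [h3]
  -- Step 6
  intro x hx y hy
  by_cases hz1 : x * y = 1
  · left; exact hz1
  right
  intro c hc
  have hzinv : ∀ d : G, (d * t * d⁻¹) * (x * y) * (d * t * d⁻¹)⁻¹ = (x * y)⁻¹ := by
    intro d
    calc (d * t * d⁻¹) * (x * y) * (d * t * d⁻¹)⁻¹
        = ((d * t * d⁻¹) * x * (d * t * d⁻¹)⁻¹) * ((d * t * d⁻¹) * y * (d * t * d⁻¹)⁻¹) := by group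
      _ = x⁻¹ * y⁻¹ := by rw [hinv_s d x hx, hinv_s d y hy]
      _ = (y * x)⁻¹ := by group
      _ = (x * y)⁻¹ := by rw [hcomm x hx y hy]
  have hzinvne : (x * y)⁻¹ ≠ 1 := by rw [Ne, inv_eq_one]; exact hz1
  have hsc : ∀ d : G, d * t * d⁻¹ ∈ MulAut.conj c • H := by
    intro d
    have h1 : (x * y)⁻¹ ∈ MulAut.conj c • H := inv_mem hc
    have h2 : (x * y)⁻¹ ∈ MulAut.conj ((d * t * d⁻¹) * c) • H := by
      rw [← hzinv d, mem_conj_smul]
      rw [mem_conj_smul] at hc
      have e : ((d * t * d⁻¹) * c)⁻¹ * ((d * t * d⁻¹) * (x * y) * (d * t * d⁻¹)⁻¹) * ((d * t * d⁻¹) * c)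
          = c⁻¹ * (x * y) * c := by group
      rw [e]; exact hc
    have h3 := IsFrobeniusComplement.inv_mul_mem hH hzinvne h1 h2
    rw [mem_conj_smul]
    have e : c⁻¹ * (d * t * d⁻¹) * c = c⁻¹ * ((d * t * d⁻¹) * c) := by group
    rw [e]; exact h3
  have htc : t ∈ MulAut.conj c • H := by
    have := hsc 1
    simpa using this
  have hcH : c ∈ H := mem_of_mem_conj_of_mem hH ht1 ht htc
  -- pick g ∉ H
  obtain ⟨g, hg⟩ : ∃ g : G, g ∉ H := by
    by_contra h
    push Not at h
    exact hH.2.1 (eq_top_iff.mpr (fun g _ => h g))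
  have hgc := hsc g
  rw [mem_conj_smul] at hgc
  have hgH : g * t * g⁻¹ ∈ H := by
    have := H.mul_mem (H.mul_mem hcH hgc) (H.inv_mem hcH)
    have e : c * (c⁻¹ * (g * t * g⁻¹) * c) * c⁻¹ = g * t * g⁻¹ := by group
    rwa [e] at this
  have hgt1 : g * t * g⁻¹ ≠ 1 := by
    intro h
    apply ht1
    have e : t = g⁻¹ * (g * t * g⁻¹) * g := by group
    rw [e, h]; group
  apply hg
  apply mem_of_mem_conj_of_mem hH hgt1 hgH
  rw [mem_conj_smul]
  have e : g⁻¹ * (g * t * g⁻¹) * g = t := by group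
  rw [e]; exact ht

end frobsec

end Cfsg.Agent.Lib.Helper1
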