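import Mathlib
import Cfsg.Agent.Lib.Helper18.FrobeniusThm
import Cfsg.Agent.Lib.Helper22.FixedPoint
import Cfsg.Agent.Lib.Helper22.Frobenius
import Cfsg.Agent.Lib.Helper1.Frobenius

/-!
# Helper1 library: Frobenius groups after Frobenius' theorem

`FrobData H N`: `H` is a Frobenius complement and `N` is the normal complement whose carrier is the
Frobenius kernel (exists by `Cfsg.Agent.Lib.Helper18.frobenius_kernel_subgroup`).
* `FrobData.fpf`, `FrobData.not_mem_iff`, `FrobData.le_or_le_of_normal` (normal subgroups are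
  comparable with the kernel), `FrobData.exists_conj_le` (subgroups meeting the kernel trivially
  are conjugate into `H`), `FrobData.kernel_le_of_card_le`,
* `exists_conj_le_of_isFrobeniusComplement` (= S0037).
-/

set_option autoImplicit false

namespace Cfsg.Agent.Lib.Helper1

open Pointwise

section FrobConj

variable {G : Type*} [Group G]

/-- Data of a Frobenius group: a normal complement `N` of `H` whose underlying set is the
Frobenius kernel. -/
structure FrobData (H N : Subgroup G) : Prop where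
  frob : Cfsg.IsFrobeniusComplement H
  ker : (N : Set G) = Cfsg.frobeniusKernel H
  normal : N.Normal
  compl : Subgroup.IsComplement' N H

namespace FrobData

variable {H N : Subgroup G}

theorem exists_of_isFrobeniusComplement [Finite G] (hH : Cfsg.IsFrobeniusComplement H) :
    ∃ N : Subgroup G, FrobData H N := by
  obtain ⟨N, h1, h2, h3⟩ := Cfsg.Agent.Lib.Helper18.frobenius_kernel_subgroup H hH
  exact ⟨N, ⟨hH, h1, h2, h3⟩⟩

theorem inf_eq_bot (h : FrobData H N) : N ⊓ H = ⊥ := h.compl.disjoint.eq_bot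

theorem not_mem_iff (h : FrobData H N) {x : G} :
    x ∉ N ↔ x ≠ 1 ∧ ∃ g : G, x ∈ MulAut.conj g • H := by
  rw [← SetLike.mem_coe, h.ker]
  unfold Cfsg.frobeniusKernel
  simp only [Set.mem_ofPred_eq, not_or, not_forall, not_not]

/-- nonidentity elements of `H` have no nontrivial fixed points in `N` -/
theorem fpf (h : FrobData H N) {y : G} (hy : y ∈ H) (hy1 : y ≠ 1) {n : G} (hn : n ∈ N)
    (hc : y * n = n * y) : n = 1 := by
  have hnH : n ∈ H := by
    by_contra hnH
    have h1 := h.frob.2.2 n hnH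
    have h2 : y ∈ H ⊓ MulAut.conj n • H := by
      refine Subgroup.mem_inf.mpr ⟨hy, ?_⟩
      rw [mem_conj_smul]
      have : n⁻¹ * y * n = y := by rw [mul_assoc, hc, inv_mul_cancel_left]
      rw [this]; exact hy
    rw [h1, Subgroup.mem_bot] at h2
    exact hy1 h2
  have : n ∈ N ⊓ H := Subgroup.mem_inf.mpr ⟨hn, hnH⟩
  rwa [h.inf_eq_bot, Subgroup.mem_bot] at this

/-- A normal subgroup of a Frobenius group lies in the kernel or contains it. -/
theorem le_or_le_of_normal [Finite G] (h : FrobData H N) (L : Subgroup G) [hL : L.Normal] :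
    L ≤ N ∨ N ≤ L := by
  by_cases hLN : L ≤ N
  · exact Or.inl hLN
  · right
    obtain ⟨x, hxL, hxN⟩ := SetLike.not_le_iff_exists.mp hLN
    obtain ⟨hx1, g, hg⟩ := h.not_mem_iff.mp hxN
    rw [mem_conj_smul] at hg
    set y := g⁻¹ * x * g with hy
    have hyL : y ∈ L := by
      have := hL.conj_mem x hxL g⁻¹
      rwa [inv_inv] at this
    have hy1 : y ≠ 1 := by
      intro h1
      apply hx1
      have : x = g * y * g⁻¹ := by rw [hy]; group
      rw [this, h1]; group
    have := h.normal
    intro n hn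
    obtain ⟨m, hm, hmn⟩ := Cfsg.Agent.Lib.Helper22.exists_conj_of_fpf N y
      (fun n hn hc => h.fpf hg hy1 hn hc) n hn
    have : n = m * y * m⁻¹ * y⁻¹ := by rw [hmn]; group
    rw [this]
    exact L.mul_mem (hL.conj_mem y hyL m) (L.inv_mem hyL)

theorem card_mul [Finite G] (h : FrobData H N) : Nat.card N * Nat.card H = Nat.card G :=
  h.compl.card_mul_card

end FrobData

/-- Any subgroup meeting the Frobenius kernel trivially is conjugate to a subgroup of `H`. -/
theorem FrobData.exists_conj_le [Finite G] {H N : Subgroup G} (hN : FrobData H N)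
    (H₁ : Subgroup G) (hH₁ : H₁ ⊓ N = ⊥) : ∃ g : G, MulAut.conj g • H₁ ≤ H := by
  have hH := hN.frob
  by_cases hbot : H₁ = ⊥
  · refine ⟨1, ?_⟩
    rw [hbot]
    simp
  -- every nonidentity element of `H₁` lies in a conjugate of `H`
  have hconj : ∀ x ∈ H₁, x ≠ 1 → ∃ g : G, x ∈ MulAut.conj g • H := by
    intro x hx hx1
    have hxN : x ∉ N := by
      intro hxN
      have : x ∈ H₁ ⊓ N := Subgroup.mem_inf.mpr ⟨hx, hxN⟩
      rw [hH₁, Subgroup.mem_bot] at this
      exact hx1 this
    exact (hN.not_mem_iff.mp hxN).2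
  -- the action of `H₁` on `G ⧸ H`
  have h1 : ∀ y : H₁, y ≠ 1 → ∃! ω : G ⧸ H, y • ω = ω := by
    intro y hy1
    have hy1' : (y : G) ≠ 1 := fun h => hy1 (Subtype.ext h)
    obtain ⟨g, hg⟩ := hconj y y.2 hy1'
    refine ⟨(g : G ⧸ H), ?_, ?_⟩
    · show (((y : G) * g : G) : G ⧸ H) = (g : G ⧸ H)
      rw [mem_conj_smul] at hg
      rw [QuotientGroup.eq]
      have : ((y : G) * g)⁻¹ * g = (g⁻¹ * (y : G) * g)⁻¹ := by group
      rw [this]
      exact H.inv_mem hg
    · intro ω hω
      induction ω using QuotientGroup.induction_on with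
      | H b =>
        have hb : (y : G) ∈ MulAut.conj b • H := by
          rw [mem_conj_smul]
          have h2 : (((y : G) * b : G) : G ⧸ H) = (b : G ⧸ H) := hω
          rw [QuotientGroup.eq] at h2
          have h3 : b⁻¹ * (y : G)⁻¹ * b ∈ H := by
            have : ((y : G) * b)⁻¹ * b = b⁻¹ * (y : G)⁻¹ * b := by group
            rwa [this] at h2
          have := H.inv_mem h3
          have h4 : (b⁻¹ * (y : G)⁻¹ * b)⁻¹ = b⁻¹ * (y : G) * b := by group
          rwa [h4] at this
        have := IsFrobeniusComplement.inv_mul_mem hH hy1' hg hb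
        exact (QuotientGroup.eq.mpr this).symm
  have hK : ∃ y : H₁, y ≠ 1 := by
    obtain ⟨y, hy⟩ := (Subgroup.ne_bot_iff_exists_ne_one (H := H₁)).mp hbot
    exact ⟨y, hy⟩
  obtain ⟨ω, hω⟩ := Cfsg.Agent.Lib.Helper22.exists_fixed_of_unique_fixed h1 hK
  induction ω using QuotientGroup.induction_on with
  | H g =>
    refine ⟨g⁻¹, ?_⟩
    rintro _ ⟨x, hx, rfl⟩
    have h2 : (((x : G) * g : G) : G ⧸ H) = (g : G ⧸ H) := hω ⟨x, hx⟩
    rw [QuotientGroup.eq] at h2
    have h3 : g⁻¹ * x⁻¹ * g ∈ H := by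
      have : (x * g)⁻¹ * g = g⁻¹ * x⁻¹ * g := by group
      rwa [this] at h2
    have := H.inv_mem h3
    have h4 : (g⁻¹ * x⁻¹ * g)⁻¹ = g⁻¹ * x * g := by group
    rw [h4] at this
    show (MulAut.conj g⁻¹) x ∈ H
    simpa [MulAut.conj_apply] using this

/-- The kernel of the larger Frobenius complement is contained in the kernel of the smaller. -/
theorem FrobData.kernel_le_of_card_le [Finite G] {H N H₀ N₀ : Subgroup G} (hN : FrobData H N)
    (hN₀ : FrobData H₀ N₀) (hle : Nat.card H₀ ≤ Nat.card H) : N ≤ N₀ := by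
  have hN₀n := hN₀.normal
  rcases hN.le_or_le_of_normal N₀ with h1 | h1
  · have hc1 := hN.card_mul
    have hc2 := hN₀.card_mul
    have hpos : 0 < Nat.card H₀ := Nat.card_pos
    have hge : Nat.card N ≤ Nat.card N₀ := by
      by_contra hlt
      push Not at hlt
      have : Nat.card N₀ * Nat.card H₀ < Nat.card N * Nat.card H :=
        calc Nat.card N₀ * Nat.card H₀ < Nat.card N * Nat.card H₀ :=
              Nat.mul_lt_mul_of_pos_right hlt hpos
          _ ≤ Nat.card N * Nat.card H := Nat.mul_le_mul_left _ hle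
      omega
    exact (Subgroup.eq_of_le_of_card_ge h1 hge).ge
  · exact h1

/-- A Frobenius complement of order at most `|H|` is conjugate to a subgroup of `H`. -/
theorem exists_conj_le_of_isFrobeniusComplement [Finite G] (H H₀ : Subgroup G)
    (hH : Cfsg.IsFrobeniusComplement H) (hH₀ : Cfsg.IsFrobeniusComplement H₀)
    (hle : Nat.card H₀ ≤ Nat.card H) : ∃ g : G, MulAut.conj g • H₀ ≤ H := by
  obtain ⟨N, hN⟩ := FrobData.exists_of_isFrobeniusComplement hH
  obtain ⟨N₀, hN₀⟩ := FrobData.exists_of_isFrobeniusComplement hH₀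
  have hNN₀ : N ≤ N₀ := hN.kernel_le_of_card_le hN₀ hle
  apply hN.exists_conj_le H₀
  rw [eq_bot_iff, ← hN₀.inf_eq_bot, inf_comm]
  exact inf_le_inf_right _ hNN₀

end FrobConj

end Cfsg.Agent.Lib.Helper1
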