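import Mathlib
import Cfsg.Agent.Lib.Helper1.FrobConj
import Cfsg.Agent.Lib.Helper1.FpfCyclic
import Cfsg.Agent.Lib.Helper10.FrobFpf

/-!
# Helper1 library: conjugacy of Frobenius complements

* `isFrobeniusComplement_conj`, `FrobData.fpf'`, `FrobData.coprime`,
* `FrobData.exists_invariant_sylow` (`H` normalizes a nontrivial Sylow `r`-subgroup of the kernel),
  `FrobData.exists_invariant_abelian`,
* `eq_of_le_of_isFrobeniusComplement` (a Frobenius complement is not a Frobenius group: nested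
  Frobenius complements coincide), `exists_conj_eq_of_isFrobeniusComplement` (= S0038).
-/

set_option autoImplicit false

namespace Cfsg.Agent.Lib.Helper1

open Pointwise

section FrobConj2

variable {G : Type*} [Group G]

theorem isFrobeniusComplement_conj {H : Subgroup G} (hH : Cfsg.IsFrobeniusComplement H) (g : G) :
    Cfsg.IsFrobeniusComplement (MulAut.conj g • H) := by
  obtain ⟨h1, h2, h3⟩ := hH
  refine ⟨?_, ?_, ?_⟩
  · intro h
    apply h1
    have := congrArg (fun K => MulAut.conj g⁻¹ • K) h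
    simpa [← mul_smul, ← map_mul] using this
  · intro h
    apply h2
    rw [eq_top_iff]
    intro x _
    have h5 : g * x * g⁻¹ ∈ MulAut.conj g • H := by rw [h]; trivial
    rw [mem_conj_smul] at h5
    have h6 : g⁻¹ * (g * x * g⁻¹) * g = x := by group
    rwa [h6] at h5
  · intro x hx
    rw [eq_bot_iff]
    intro y hy
    rw [Subgroup.mem_bot]
    obtain ⟨hy1, hy2⟩ := Subgroup.mem_inf.mp hy
    rw [mem_conj_smul] at hy1 hy2
    rw [mem_conj_smul] at hy2
    have hx' : g⁻¹ * x * g ∉ H := by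
      intro h
      apply hx
      rw [mem_conj_smul]
      exact h
    have h4 := h3 _ hx'
    have h5 : g⁻¹ * y * g ∈ H ⊓ MulAut.conj (g⁻¹ * x * g) • H := by
      refine Subgroup.mem_inf.mpr ⟨hy1, ?_⟩
      rw [mem_conj_smul]
      have : (g⁻¹ * x * g)⁻¹ * (g⁻¹ * y * g) * (g⁻¹ * x * g) = g⁻¹ * (x⁻¹ * y * x) * g := by group
      rw [this]
      exact hy2
    rw [h4, Subgroup.mem_bot] at h5
    have : y = g * (g⁻¹ * y * g) * g⁻¹ := by group
    rw [this, h5]; group

namespace FrobData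

variable {H N : Subgroup G}

theorem fpf' (h : FrobData H N) : ∀ a ∈ H, a ≠ 1 → N ⊓ Subgroup.centralizer {a} = ⊥ := by
  intro a ha ha1
  rw [eq_bot_iff]
  intro n hn
  obtain ⟨hn1, hn2⟩ := Subgroup.mem_inf.mp hn
  rw [Subgroup.mem_centralizer_singleton_iff] at hn2
  rw [Subgroup.mem_bot]
  exact h.fpf ha ha1 hn1 hn2.symm

theorem coprime [Finite G] (h : FrobData H N) : (Nat.card H).Coprime (Nat.card N) := by
  have := h.normal
  exact coprime_card_of_fpf H N (by rw [Subgroup.normalizer_eq_top]; exact le_top) h.fpf'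

/-- `H` normalizes some nontrivial Sylow `r`-subgroup of the kernel. -/
theorem exists_invariant_sylow [Finite G] (h : FrobData H N) (r : ℕ) [Fact r.Prime]
    (hr : r ∣ Nat.card N) :
    ∃ R : Subgroup G, R ≤ N ∧ IsPGroup r R ∧ R ≠ ⊥ ∧ H ≤ Subgroup.normalizer (R : Set G) := by
  have hNn := h.normal
  let P : Sylow r N := default
  set R₀ : Subgroup G := (P : Subgroup N).map N.subtype with hR₀
  set T : Subgroup G := Subgroup.normalizer (R₀ : Set G) with hT
  have hFr : T ⊔ N = ⊤ := Sylow.normalizer_sup_eq_top P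
  -- Schur–Zassenhaus inside `T`
  have hidx : (N.subgroupOf T).index = Nat.card H := by
    show N.relIndex T = Nat.card H
    rw [← Subgroup.relIndex_sup_right, hFr, Subgroup.relIndex_top_right]
    exact h.compl.symm.index_eq_card
  have hcard : Nat.card (N.subgroupOf T) ∣ Nat.card N := by
    rw [← Subgroup.inf_subgroupOf_right N T]
    have : Nat.card ((N ⊓ T).subgroupOf T) = Nat.card (N ⊓ T : Subgroup G) :=
      Nat.card_congr (Subgroup.subgroupOfEquivOfLe inf_le_right).toEquiv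
    rw [this]
    exact Subgroup.card_dvd_of_le inf_le_left
  have hcop : (Nat.card (N.subgroupOf T)).Coprime (N.subgroupOf T).index := by
    rw [hidx]
    exact (Nat.Coprime.coprime_dvd_left hcard h.coprime.symm)
  obtain ⟨H₁', hc⟩ := Subgroup.exists_right_complement'_of_coprime hcop
  set H₁ : Subgroup G := H₁'.map T.subtype with hH₁
  have hH₁card : Nat.card H₁ = Nat.card H := by
    rw [hH₁, Subgroup.card_subtype, ← hidx]
    exact hc.symm.index_eq_card.symm
  have hH₁N : H₁ ⊓ N = ⊥ := by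
    rw [eq_bot_iff]
    rintro x hx
    obtain ⟨⟨t, ht, rfl⟩, hxN⟩ := Subgroup.mem_inf.mp hx
    have : t ∈ N.subgroupOf T ⊓ H₁' := Subgroup.mem_inf.mpr ⟨hxN, ht⟩
    rw [hc.disjoint.eq_bot, Subgroup.mem_bot] at this
    rw [Subgroup.mem_bot, this]; rfl
  obtain ⟨g, hg⟩ := h.exists_conj_le H₁ hH₁N
  have hgeq : MulAut.conj g • H₁ = H :=
    Subgroup.eq_of_le_of_card_ge hg (by rw [card_conj_smul, hH₁card])
  refine ⟨MulAut.conj g • R₀, ?_, ?_, ?_, ?_⟩
  · rintro _ ⟨x, hx, rfl⟩
    have hxN : x ∈ N := Subgroup.map_subtype_le _ hx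
    exact hNn.conj_mem x hxN g
  · rw [conj_smul_eq_map]
    exact (P.2.map N.subtype).map _
  · intro hbot
    have h1 : R₀ = ⊥ := by
      have := congrArg (fun K => MulAut.conj g⁻¹ • K) hbot
      simpa [← mul_smul, ← map_mul] using this
    have h2 : (P : Subgroup N) = ⊥ := by
      rw [hR₀] at h1
      exact (Subgroup.map_eq_bot_iff_of_injective _ N.subtype_injective).mp h1
    exact P.ne_bot_of_dvd_card hr h2
  · rw [← hgeq]
    rintro _ ⟨t, ht, rfl⟩
    have htT : t ∈ T := by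
      obtain ⟨t', _, rfl⟩ := ht
      exact t'.2
    show g * t * g⁻¹ ∈ _
    rw [Subgroup.mem_normalizer_iff]
    intro y
    rw [hT, Subgroup.mem_normalizer_iff] at htT
    rw [mem_conj_smul, mem_conj_smul]
    rw [htT (g⁻¹ * y * g)]
    have : g⁻¹ * (g * t * g⁻¹ * y * (g * t * g⁻¹)⁻¹) * g = t * (g⁻¹ * y * g) * t⁻¹ := by group
    rw [this]

/-- `H` normalizes some nontrivial abelian subgroup of the kernel. -/
theorem exists_invariant_abelian [Finite G] (h : FrobData H N) :
    ∃ V : Subgroup G, V ≤ N ∧ IsMulCommutative V ∧ V ≠ ⊥ ∧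
      H ≤ Subgroup.normalizer (V : Set G) := by
  have hNne : N ≠ ⊥ := by
    intro hbot
    have h1 := h.card_mul
    rw [hbot, Subgroup.card_bot, one_mul] at h1
    exact h.frob.2.1 (Subgroup.eq_top_of_card_eq H h1)
  have hcard : Nat.card N ≠ 1 := fun h1 => hNne (Subgroup.card_eq_one.mp h1)
  obtain ⟨r, hr, hrN⟩ := Nat.exists_prime_and_dvd hcard
  have : Fact r.Prime := ⟨hr⟩
  obtain ⟨R, hRN, hRp, hRne, hHR⟩ := h.exists_invariant_sylow r hrN
  refine ⟨R ⊓ Subgroup.centralizer (R : Set G), inf_le_left.trans hRN, ?_, ?_, ?_⟩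
  · refine ⟨⟨?_⟩⟩
    rintro ⟨x, hx⟩ ⟨y, hy⟩
    apply Subtype.ext
    exact ((Subgroup.mem_centralizer_iff.mp (Subgroup.mem_inf.mp hy).2) x
      (Subgroup.mem_inf.mp hx).1)
  · have hnt : Nontrivial R := by
      rw [← Subgroup.nontrivial_iff_ne_bot] at hRne
      exact hRne
    have hcn : Nontrivial (Subgroup.center R) := hRp.center_nontrivial
    obtain ⟨z, hz⟩ := exists_ne (1 : Subgroup.center R)
    intro hbot
    apply hz
    have hzmem : ((z : R) : G) ∈ R ⊓ Subgroup.centralizer (R : Set G) := by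
      refine Subgroup.mem_inf.mpr ⟨(z : R).2, ?_⟩
      rw [Subgroup.mem_centralizer_iff]
      intro x hx
      have := Subgroup.mem_center_iff.mp z.2 ⟨x, hx⟩
      exact congrArg Subtype.val this
    rw [hbot, Subgroup.mem_bot] at hzmem
    exact Subtype.ext (Subtype.ext hzmem)
  · intro a ha
    have haR := hHR ha
    rw [Subgroup.mem_normalizer_iff] at haR ⊢
    have key : ∀ b : G, (∀ y, y ∈ R ↔ b * y * b⁻¹ ∈ R) → ∀ v,
        v ∈ R ⊓ Subgroup.centralizer (R : Set G) →
        b * v * b⁻¹ ∈ R ⊓ Subgroup.centralizer (R : Set G) := by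
      intro b hb v hv
      obtain ⟨hv1, hv2⟩ := Subgroup.mem_inf.mp hv
      refine Subgroup.mem_inf.mpr ⟨(hb v).mp hv1, ?_⟩
      rw [Subgroup.mem_centralizer_iff] at hv2 ⊢
      intro x hx
      have hx' : b⁻¹ * x * b ∈ R := by
        rw [hb]
        have : b * (b⁻¹ * x * b) * b⁻¹ = x := by group
        rwa [this]
      have h2 := hv2 _ hx'
      calc x * (b * v * b⁻¹) = b * ((b⁻¹ * x * b) * v) * b⁻¹ := by group
        _ = b * (v * (b⁻¹ * x * b)) * b⁻¹ := by rw [h2]
        _ = b * v * b⁻¹ * x := by group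
    intro v
    constructor
    · exact key a haR v
    · intro hv
      have hb : ∀ y, y ∈ R ↔ a⁻¹ * y * a⁻¹⁻¹ ∈ R := by
        intro y
        rw [haR (a⁻¹ * y * a⁻¹⁻¹)]
        have : a * (a⁻¹ * y * a⁻¹⁻¹) * a⁻¹ = y := by group
        rw [this]
      have := key a⁻¹ hb _ hv
      have h3 : a⁻¹ * (a * v * a⁻¹) * a⁻¹⁻¹ = v := by group
      rwa [h3] at this

end FrobData

/-- A Frobenius complement contained in another one coincides with it. -/
theorem eq_of_le_of_isFrobeniusComplement [Finite G] {H L : Subgroup G}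
    (hH : Cfsg.IsFrobeniusComplement H) (hL : Cfsg.IsFrobeniusComplement L) (hLH : L ≤ H) :
    L = H := by
  by_contra hne
  obtain ⟨N, hN⟩ := FrobData.exists_of_isFrobeniusComplement hH
  obtain ⟨M, hM⟩ := FrobData.exists_of_isFrobeniusComplement hL
  have hNn := hN.normal
  have hMn := hM.normal
  have hcardlt : Nat.card L < Nat.card H := by
    rcases (Nat.le_of_dvd Nat.card_pos (Subgroup.card_dvd_of_le hLH)).lt_or_eq with h1 | h1
    · exact h1
    · exact absurd (Subgroup.eq_of_le_of_card_ge hLH h1.ge) hne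
  have hNM : N ≤ M := hN.kernel_le_of_card_le hM hcardlt.le
  -- `K₁ = M ⊓ H` is nontrivial
  have hMN : ¬ M ≤ N := by
    intro hle
    have h1 := hN.card_mul
    have h2 := hM.card_mul
    have h3 : Nat.card M ≤ Nat.card N := Nat.le_of_dvd Nat.card_pos (Subgroup.card_dvd_of_le hle)
    have hpos : 0 < Nat.card M := Nat.card_pos
    have : Nat.card M * Nat.card L < Nat.card N * Nat.card H :=
      calc Nat.card M * Nat.card L < Nat.card M * Nat.card H :=
            Nat.mul_lt_mul_of_pos_left hcardlt hpos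
        _ ≤ Nat.card N * Nat.card H := Nat.mul_le_mul_right _ h3
    omega
  obtain ⟨x, hxM, hxN⟩ := SetLike.not_le_iff_exists.mp hMN
  obtain ⟨k, hkM, hkH, hk1⟩ : ∃ k, k ∈ M ∧ k ∈ H ∧ k ≠ 1 := by
    have hsup : N ⊔ H = ⊤ := hN.compl.sup_eq_top
    obtain ⟨n, hn, h, hh, hxnh⟩ := Cfsg.Agent.Lib.Helper22.exists_mul_of_sup_eq_top N H hsup x
    refine ⟨h, ?_, hh, ?_⟩
    · have : h = n⁻¹ * x := by rw [hxnh]; group
      rw [this]
      exact M.mul_mem (M.inv_mem (hNM hn)) hxM
    · rintro rfl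
      apply hxN
      rw [hxnh, mul_one]; exact hn
  obtain ⟨l, hlL, hl1⟩ : ∃ l, l ∈ L ∧ l ≠ 1 := by
    obtain ⟨l, hl⟩ := (Subgroup.ne_bot_iff_exists_ne_one (H := L)).mp hL.1
    exact ⟨l, l.2, fun h => hl (Subtype.ext h)⟩
  -- an `H`-invariant abelian subgroup of `N`
  obtain ⟨V, hVN, hVc, hVne, hHV⟩ := hN.exists_invariant_abelian
  have hfpfV : ∀ a ∈ H, a ≠ 1 → V ⊓ Subgroup.centralizer {a} = ⊥ := by
    intro a ha ha1
    rw [eq_bot_iff, ← hN.fpf' a ha ha1]
    exact inf_le_inf_right _ hVN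
  let ρ : H →* MulAut V := conjHomOn H V hHV
  have hρfix : ∀ (a : H), a ≠ 1 → ∀ v : V, ρ a v = v → v = 1 :=
    fun a ha v hv => eq_one_of_conjHomOn_fixed H V hHV hfpfV a ha v hv
  have key := open scoped IsMulCommutative in
    Cfsg.Agent.Lib.Helper10.pow_card_eq_one_of_frobenius_fpf (V := V) ρ
      ((M ⊓ H).subgroupOf H) (L.subgroupOf H) ?_ ?_ ?_ ?_
  · -- conclusion: `V` is trivial
    apply hVne
    rw [eq_bot_iff]
    intro v hv
    rw [Subgroup.mem_bot]
    have h1 := key ⟨v, hv⟩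
    have h2 : orderOf (⟨v, hv⟩ : V) ∣ Nat.card ((M ⊓ H).subgroupOf H) :=
      orderOf_dvd_of_pow_eq_one h1
    have h3 : orderOf (⟨v, hv⟩ : V) ∣ Nat.card N :=
      (orderOf_dvd_natCard _).trans (Subgroup.card_dvd_of_le hVN)
    have h4 : orderOf (⟨v, hv⟩ : V) ∣ Nat.card H :=
      h2.trans (Subgroup.card_subgroup_dvd_card _)
    have h5 := Nat.eq_one_of_dvd_coprimes hN.coprime h4 h3
    exact congrArg Subtype.val (orderOf_eq_one_iff.mp h5)
  · -- `L` normalizes `M ⊓ H` inside `H`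
    intro a _
    rw [Subgroup.mem_normalizer_iff]
    intro b
    simp only [Subgroup.mem_subgroupOf]
    have hiff : ∀ y : G, y ∈ H → (y ∈ M ⊓ H ↔ (a : G) * y * (a : G)⁻¹ ∈ M ⊓ H) := by
      intro y hy
      constructor
      · intro hy'
        exact Subgroup.mem_inf.mpr ⟨hMn.conj_mem y (Subgroup.mem_inf.mp hy').1 a,
          H.mul_mem (H.mul_mem a.2 hy) (H.inv_mem a.2)⟩
      · intro hy'
        refine Subgroup.mem_inf.mpr ⟨?_, hy⟩
        have := hMn.conj_mem _ (Subgroup.mem_inf.mp hy').1 (a : G)⁻¹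
        have h3 : (a : G)⁻¹ * ((a : G) * y * (a : G)⁻¹) * (a : G)⁻¹⁻¹ = y := by group
        rwa [h3] at this
    exact hiff b b.2
  · -- Frobenius condition
    intro g hg hg1 m hm hcomm
    have hgL : (g : G) ∈ L := hg
    have hmM : (m : G) ∈ M := (Subgroup.mem_inf.mp hm).1
    have hg1' : (g : G) ≠ 1 := fun h => hg1 (Subtype.ext h)
    have hc : (g : G) * m = m * g := (congrArg Subtype.val hcomm).symm
    exact Subtype.ext (hM.fpf hgL hg1' hmM hc)
  · intro v hv
    exact hρfix ⟨k, hkH⟩ (fun h => hk1 (congrArg Subtype.val h)) v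
      (hv _ (Subgroup.mem_inf.mpr ⟨hkM, hkH⟩))
  · intro v hv
    exact hρfix ⟨l, hLH hlL⟩ (fun h => hl1 (congrArg Subtype.val h)) v (hv _ hlL)

/-- Any two Frobenius complements of a finite group are conjugate. -/
theorem exists_conj_eq_of_isFrobeniusComplement [Finite G] (H H₀ : Subgroup G)
    (hH : Cfsg.IsFrobeniusComplement H) (hH₀ : Cfsg.IsFrobeniusComplement H₀) :
    ∃ g : G, MulAut.conj g • H₀ = H := by
  rcases Nat.le_total (Nat.card H₀) (Nat.card H) with hle | hle
  · obtain ⟨g, hg⟩ := exists_conj_le_of_isFrobeniusComplement H H₀ hH hH₀ hle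
    exact ⟨g, eq_of_le_of_isFrobeniusComplement hH (isFrobeniusComplement_conj hH₀ g) hg⟩
  · obtain ⟨g, hg⟩ := exists_conj_le_of_isFrobeniusComplement H₀ H hH₀ hH hle
    have h1 := eq_of_le_of_isFrobeniusComplement hH₀ (isFrobeniusComplement_conj hH g) hg
    refine ⟨g⁻¹, ?_⟩
    rw [← h1, ← mul_smul, ← map_mul, inv_mul_cancel, map_one, one_smul]

end FrobConj2

end Cfsg.Agent.Lib.Helper1
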