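import Mathlib
import Cfsg.Agent.Lib.Helper1.MaxClassTwo

/-!
Groups with an abelian normal subgroup `C` and an element `a` with `C ⊔ ⟨a⟩ = ⊤`:
`G' = [C, a]` and `|C| = |C ∩ Z(G)| |G'|`.
-/

set_option autoImplicit false

open Subgroup
open scoped commutatorElement

namespace Cfsg.Agent.Lib.Helper1.AbNormal

open Cfsg.Agent.Lib.Helper1.MaxClassTwo

variable {X : Type*} [Group X] {C : Subgroup X}

theorem commMap_range_normal' (hCn : C.Normal) (hcomm : ∀ x ∈ C, ∀ y ∈ C, Commute x y) {a : X}
    (hgen : C ⊔ Subgroup.zpowers a = ⊤) : (commMap hCn hcomm a).range.Normal := by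
  rw [← Subgroup.normalizer_eq_top_iff, eq_top_iff, ← hgen]
  apply sup_le
  · intro c' hc'
    rw [Subgroup.mem_normalizer_iff]
    intro r
    have key : ∀ r ∈ (commMap hCn hcomm a).range, c' * r * c'⁻¹ = r := by
      intro r hr
      have hrC : r ∈ C := commMap_range_le hCn hcomm a hr
      have h2 : Commute c' r := hcomm _ hc' _ hrC
      rw [h2.eq, mul_inv_cancel_right]
    constructor
    · intro hr
      rw [key r hr]; exact hr
    · intro hr
      have hrC : c' * r * c'⁻¹ ∈ C := commMap_range_le hCn hcomm a hr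
      have hrC' : r ∈ C := by
        have := C.mul_mem (C.mul_mem (C.inv_mem hc') hrC) hc'
        have e : c'⁻¹ * (c' * r * c'⁻¹) * c' = r := by group
        rwa [e] at this
      have h2 : Commute c' r := hcomm _ hc' _ hrC'
      rw [h2.eq, mul_inv_cancel_right] at hr
      exact hr
  · rw [Subgroup.zpowers_le]
    have hconj : ∀ c : C, a * (commMap hCn hcomm a c) * a⁻¹ ∈ (commMap hCn hcomm a).range := by
      intro c
      refine ⟨⟨a * (c : X) * a⁻¹, hCn.conj_mem _ c.2 a⟩, ?_⟩
      rw [commMap_apply, commMap_apply]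
      group
    have hconj' : ∀ c : C, a⁻¹ * (commMap hCn hcomm a c) * a ∈ (commMap hCn hcomm a).range := by
      intro c
      refine ⟨⟨a⁻¹ * (c : X) * a, by
        have := hCn.conj_mem _ c.2 a⁻¹
        simpa using this⟩, ?_⟩
      rw [commMap_apply, commMap_apply]
      group
    rw [Subgroup.mem_normalizer_iff]
    intro r
    constructor
    · rintro ⟨c, rfl⟩
      exact hconj c
    · intro hr
      obtain ⟨c, hc⟩ := hr
      have := hconj' c
      rw [hc] at this
      have e : a⁻¹ * (a * r * a⁻¹) * a = r := by group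
      rwa [e] at this

theorem commutator_eq_commMap_range' (hCn : C.Normal) (hcomm : ∀ x ∈ C, ∀ y ∈ C, Commute x y)
    {a : X} (hgen : C ⊔ Subgroup.zpowers a = ⊤) :
    commutator X = (commMap hCn hcomm a).range := by
  apply le_antisymm
  · have hRn := commMap_range_normal' hCn hcomm hgen
    rw [← Subgroup.Normal.quotient_commutative_iff_commutator_le]
    set R := (commMap hCn hcomm a).range with hR
    -- generating set of the quotient
    set S : Set (X ⧸ R) := (QuotientGroup.mk' R) '' ((C : Set X) ∪ {a}) with hS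
    have hScomm : ∀ x ∈ S, ∀ y ∈ S, x * y = y * x := by
      have hca : ∀ c' ∈ C, (QuotientGroup.mk' R a) * (QuotientGroup.mk' R c') =
          (QuotientGroup.mk' R c') * (QuotientGroup.mk' R a) := by
        intro c' hc'
        rw [← map_mul, ← map_mul, QuotientGroup.mk'_apply, QuotientGroup.mk'_apply,
          QuotientGroup.eq_iff_div_mem]
        refine ⟨⟨c', hc'⟩, ?_⟩
        rw [commMap_apply, div_eq_mul_inv]
        group
      rintro _ ⟨x, hx, rfl⟩ _ ⟨y, hy, rfl⟩
      rcases hx with hx | hx <;> rcases hy with hy | hy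
      · rw [← map_mul, ← map_mul, (hcomm _ hx _ hy).eq]
      · rw [Set.mem_singleton_iff] at hy; subst hy
        exact (hca x hx).symm
      · rw [Set.mem_singleton_iff] at hx; subst hx
        exact hca y hy
      · rw [Set.mem_singleton_iff] at hx hy; subst hx; subst hy; rfl
    have hcl : Subgroup.closure S = ⊤ := by
      rw [hS, ← MonoidHom.map_closure, Subgroup.closure_union, Subgroup.closure_eq,
        ← Subgroup.zpowers_eq_closure, hgen, ← MonoidHom.range_eq_map,
        MonoidHom.range_eq_top.mpr (QuotientGroup.mk'_surjective R)]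
    have hc := Subgroup.isMulCommutative_closure hScomm
    rw [hcl] at hc
    refine ⟨⟨fun x y => ?_⟩⟩
    have := hc.is_comm.comm (⟨x, mem_top x⟩ : (⊤ : Subgroup (X ⧸ R))) ⟨y, mem_top y⟩
    exact congrArg Subtype.val this
  · rintro _ ⟨c, rfl⟩
    rw [commMap_apply, _root_.commutator_def]
    have : a * (c : X) * a⁻¹ * (c : X)⁻¹ = ⁅a, (c : X)⁆ := (commutatorElement_def _ _).symm
    rw [this]
    exact Subgroup.commutator_mem_commutator (Subgroup.mem_top _) (Subgroup.mem_top _)

/-- `|C| = |C ∩ Z(X)| |X'|` for an abelian normal subgroup `C` with `X = C⟨a⟩`. -/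
theorem card_eq_card_inf_center_mul_card_commutator [Finite X] (hCn : C.Normal)
    (hcomm : ∀ x ∈ C, ∀ y ∈ C, Commute x y) {a : X} (hgen : C ⊔ Subgroup.zpowers a = ⊤) :
    Nat.card C = Nat.card (C ⊓ center X : Subgroup X) * Nat.card (commutator X) := by
  have hker : (commMap hCn hcomm a).ker = (C ⊓ center X).subgroupOf C := by
    ext c
    rw [MonoidHom.mem_ker, commMap_apply, Subgroup.mem_subgroupOf, mul_inv_eq_one,
      mul_inv_eq_iff_eq_mul]
    constructor
    · intro h
      refine Subgroup.mem_inf.mpr ⟨c.2, ?_⟩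
      -- c commutes with C and a, hence with everything
      have hle : C ⊔ Subgroup.zpowers a ≤ centralizer ({(c : X)} : Set X) := by
        apply sup_le
        · intro c' hc'
          rw [Subgroup.mem_centralizer_singleton_iff]
          exact (hcomm _ hc' _ c.2).eq
        · rw [Subgroup.zpowers_le, Subgroup.mem_centralizer_singleton_iff]
          exact h
      rw [hgen] at hle
      rw [Subgroup.mem_center_iff]
      intro g
      exact Subgroup.mem_centralizer_singleton_iff.mp (hle (mem_top g))
    · intro h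
      exact (Subgroup.mem_center_iff.mp (Subgroup.mem_inf.mp h).2 a)
  rw [commutator_eq_commMap_range' hCn hcomm hgen, ← Subgroup.index_ker, hker,
    ← Nat.card_congr (Subgroup.subgroupOfEquivOfLe (inf_le_left : C ⊓ center X ≤ C)).toEquiv]
  exact (Subgroup.card_mul_index _).symm

end Cfsg.Agent.Lib.Helper1.AbNormal
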