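import Mathlib

set_option autoImplicit false

namespace Cfsg.Agent.Lib.Helper1.NSym

open Nat

/-- 2-adic valuation of `n!`. -/
def e2 (n : ℕ) : ℕ := padicValNat 2 n.factorial

theorem e2_succ (n : ℕ) : e2 (n + 1) = e2 n + padicValNat 2 (n + 1) := by
  unfold e2
  rw [Nat.factorial_succ, padicValNat.mul (Nat.succ_ne_zero n) (Nat.factorial_ne_zero n), add_comm]

theorem e2_two_mul (k : ℕ) : e2 (2 * k) = e2 k + k := by
  unfold e2
  exact padicValNat_factorial_mul k

theorem e2_add_le (a b : ℕ) : e2 a + e2 b ≤ e2 (a + b) := by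
  unfold e2
  rw [← padicValNat.mul (Nat.factorial_ne_zero a) (Nat.factorial_ne_zero b)]
  have hd := Nat.factorial_mul_factorial_dvd_factorial_add a b
  have h1 : 2 ^ padicValNat 2 (a.factorial * b.factorial) ∣ (a + b).factorial :=
    pow_padicValNat_dvd.trans hd
  exact (padicValNat_dvd_iff_le (Nat.factorial_ne_zero _)).mp h1

theorem e2_mono {a b : ℕ} (h : a ≤ b) : e2 a ≤ e2 b := by
  obtain ⟨c, rfl⟩ := Nat.exists_eq_add_of_le h
  have := e2_add_le a c
  omega

theorem e2_two_mul_ge (k : ℕ) : k ≤ e2 (2 * k) := by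
  rw [e2_two_mul]; omega

theorem e2_four_mul (k : ℕ) : e2 (4 * k) = e2 k + 3 * k := by
  have h1 : 4 * k = 2 * (2 * k) := by ring
  rw [h1, e2_two_mul, e2_two_mul]; ring

theorem e2_eight_mul (k : ℕ) : e2 (8 * k) = e2 k + 7 * k := by
  have h1 : 8 * k = 2 * (4 * k) := by ring
  rw [h1, e2_two_mul, e2_four_mul]; ring

theorem e2_four_succ (k : ℕ) : e2 (4 * k) + 3 ≤ e2 (4 * (k + 1)) := by
  rw [e2_four_mul, e2_four_mul]
  have := e2_mono (show k ≤ k + 1 by omega)
  omega

theorem e2_four_add_one (k : ℕ) : e2 (4 * k + 1) = e2 (4 * k) := by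
  rw [e2_succ, padicValNat.eq_zero_of_not_dvd (by omega)]; rfl

theorem e2_four_add_two (k : ℕ) : e2 (4 * k + 2) = e2 (4 * k) + 1 := by
  have h : 4 * k + 2 = 2 * (2 * k + 1) := by ring
  have h' : 4 * k = 2 * (2 * k) := by ring
  rw [h, h', e2_two_mul, e2_two_mul, e2_succ, padicValNat.eq_zero_of_not_dvd (by omega)]
  ring

theorem e2_four_add_three (k : ℕ) : e2 (4 * k + 3) = e2 (4 * k) + 1 := by
  rw [e2_succ, padicValNat.eq_zero_of_not_dvd (by omega), e2_four_add_two]

/-- The coefficient `c r`. -/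
def cf (r : ℕ) : ℕ := if r = 0 then 1 else r

/-- The maximal order of a nilpotent subgroup of `S_n`. -/
def hh (n : ℕ) : ℕ := cf (n % 4) * 2 ^ e2 (4 * (n / 4))

theorem hh_eq (k r : ℕ) (hr : r < 4) : hh (4 * k + r) = cf r * 2 ^ e2 (4 * k) := by
  unfold hh
  have h1 : (4 * k + r) % 4 = r := by omega
  have h2 : (4 * k + r) / 4 = k := by omega
  rw [h1, h2]

theorem hh_of_ne_three (n : ℕ) (hn : n % 4 ≠ 3) : hh n = 2 ^ e2 n := by
  obtain ⟨k, r, hr, rfl⟩ : ∃ k r, r < 4 ∧ n = 4 * k + r := ⟨n / 4, n % 4, by omega, by omega⟩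
  rw [hh_eq k r hr]
  have : r = 0 ∨ r = 1 ∨ r = 2 := by omega
  rcases this with rfl | rfl | rfl
  · simp [cf]
  · simp [cf, e2_four_add_one]
  · rw [e2_four_add_two]; simp [cf, pow_succ, mul_comm]

theorem two_pow_e2_le_hh (n : ℕ) : 2 ^ e2 n ≤ hh n := by
  by_cases hn : n % 4 = 3
  · obtain ⟨k, rfl⟩ : ∃ k, n = 4 * k + 3 := ⟨n / 4, by omega⟩
    rw [hh_eq k 3 (by omega), e2_four_add_three, pow_succ]
    simp only [cf]
    norm_num
    omega
  · rw [hh_of_ne_three n hn]

theorem hh_pos (n : ℕ) : 0 < hh n := lt_of_lt_of_le (by positivity) (two_pow_e2_le_hh n)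

theorem hh_succ (n : ℕ) : hh n ≤ hh (n + 1) := by
  obtain ⟨k, r, hr, rfl⟩ : ∃ k r, r < 4 ∧ n = 4 * k + r := ⟨n / 4, n % 4, by omega, by omega⟩
  have : r = 0 ∨ r = 1 ∨ r = 2 ∨ r = 3 := by omega
  rcases this with rfl | rfl | rfl | rfl
  · rw [hh_eq k 0 (by omega), hh_eq k 1 (by omega)]
    simp [cf]
  · rw [hh_eq k 1 (by omega), show 4 * k + 1 + 1 = 4 * k + 2 by ring, hh_eq k 2 (by omega)]
    apply Nat.mul_le_mul_right; simp [cf]
  · rw [hh_eq k 2 (by omega), show 4 * k + 2 + 1 = 4 * k + 3 by ring, hh_eq k 3 (by omega)]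
    apply Nat.mul_le_mul_right; simp [cf]
  · rw [hh_eq k 3 (by omega), show 4 * k + 3 + 1 = 4 * (k + 1) + 0 by ring, hh_eq (k + 1) 0 (by omega)]
    have h3 := e2_four_succ k
    have : 2 ^ (e2 (4 * k) + 3) ≤ 2 ^ e2 (4 * (k + 1)) := Nat.pow_le_pow_right (by norm_num) h3
    rw [pow_add] at this
    simp only [cf]
    norm_num
    omega

theorem hh_mono {a b : ℕ} (h : a ≤ b) : hh a ≤ hh b := by
  induction b, h using Nat.le_induction with
  | base => exact le_rfl
  | succ n _ ih => exact ih.trans (hh_succ n)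

theorem hh_mul_le (a b : ℕ) : hh a * hh b ≤ hh (a + b) := by
  obtain ⟨k, r, hr, rfl⟩ : ∃ k r, r < 4 ∧ a = 4 * k + r := ⟨a / 4, a % 4, by omega, by omega⟩
  obtain ⟨l, s, hs, rfl⟩ : ∃ l s, s < 4 ∧ b = 4 * l + s := ⟨b / 4, b % 4, by omega, by omega⟩
  rw [hh_eq k r hr, hh_eq l s hs]
  have hE : 2 ^ e2 (4 * k) * 2 ^ e2 (4 * l) ≤ 2 ^ e2 (4 * (k + l)) := by
    rw [← pow_add]
    apply Nat.pow_le_pow_right (by norm_num)
    have := e2_add_le (4 * k) (4 * l)
    rwa [← mul_add] at this
  have hE' : 8 * 2 ^ e2 (4 * (k + l)) ≤ 2 ^ e2 (4 * (k + l + 1)) := by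
    have h3 := e2_four_succ (k + l)
    have : 2 ^ (e2 (4 * (k + l)) + 3) ≤ 2 ^ e2 (4 * (k + l + 1)) :=
      Nat.pow_le_pow_right (by norm_num) h3
    rw [pow_add] at this
    omega
  by_cases hrs : r + s < 4
  · rw [show 4 * k + r + (4 * l + s) = 4 * (k + l) + (r + s) by ring, hh_eq (k + l) (r + s) hrs]
    have hc : cf r * cf s ≤ cf (r + s) := by
      unfold cf
      interval_cases r <;> interval_cases s <;> simp_all
    calc cf r * 2 ^ e2 (4 * k) * (cf s * 2 ^ e2 (4 * l))
        = (cf r * cf s) * (2 ^ e2 (4 * k) * 2 ^ e2 (4 * l)) := by ring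
      _ ≤ cf (r + s) * 2 ^ e2 (4 * (k + l)) := Nat.mul_le_mul hc hE
  · rw [show 4 * k + r + (4 * l + s) = 4 * (k + l + 1) + (r + s - 4) by omega,
      hh_eq (k + l + 1) (r + s - 4) (by omega)]
    have hc : cf r * cf s ≤ 8 * cf (r + s - 4) := by
      unfold cf
      interval_cases r <;> interval_cases s <;> simp_all
    calc cf r * 2 ^ e2 (4 * k) * (cf s * 2 ^ e2 (4 * l))
        = (cf r * cf s) * (2 ^ e2 (4 * k) * 2 ^ e2 (4 * l)) := by ring
      _ ≤ (8 * cf (r + s - 4)) * 2 ^ e2 (4 * (k + l)) := Nat.mul_le_mul hc hE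
      _ = cf (r + s - 4) * (8 * 2 ^ e2 (4 * (k + l))) := by ring
      _ ≤ cf (r + s - 4) * 2 ^ e2 (4 * (k + l + 1)) := Nat.mul_le_mul_left _ hE'

theorem sq_le_two_pow (p : ℕ) (hp : 7 ≤ p) : p ^ 2 ≤ 2 ^ (p - 1) := by
  obtain ⟨k, rfl⟩ := Nat.exists_eq_add_of_le hp
  induction k with
  | zero => norm_num
  | succ k ih =>
    have ih' := ih (by omega)
    have h1 : 7 + (k + 1) - 1 = (7 + k - 1) + 1 := by omega
    have h2 : (2 : ℕ) ^ (7 + k - 1 + 1) = 2 * 2 ^ (7 + k - 1) := pow_succ' 2 _
    rw [h1, h2]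
    nlinarith

theorem three_pow_mod (a : ℕ) : 3 ^ a % 8 = 1 ∨ 3 ^ a % 8 = 3 := by
  induction a with
  | zero => left; norm_num
  | succ a ih => rw [pow_succ]; omega

theorem five_pow_mod (a : ℕ) : 5 ^ a % 4 = 1 := by
  induction a with
  | zero => norm_num
  | succ a ih => rw [pow_succ]; omega

theorem pow_val_le_hh (p a : ℕ) [hp : Fact p.Prime] :
    p ^ padicValNat p (p ^ a).factorial ≤ hh (p ^ a) := by
  have hn0 : p ^ a ≠ 0 := pow_ne_zero _ hp.out.ne_zero
  have hs := sub_one_mul_padicValNat_factorial_lt_of_ne_zero p hn0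
  set n := p ^ a with hn
  set s := padicValNat p n.factorial with hsdef
  by_cases h2 : p = 2
  · subst h2
    exact two_pow_e2_le_hh n
  by_cases h3 : p = 3
  · subst h3
    rcases three_pow_mod a with h | h
    · obtain ⟨k, hk⟩ : ∃ k, n = 8 * k + 1 := ⟨n / 8, by omega⟩
      have hsk : s ≤ 4 * k := by omega
      calc 3 ^ s ≤ 3 ^ (4 * k) := Nat.pow_le_pow_right (by norm_num) hsk
        _ = 81 ^ k := by rw [pow_mul]; norm_num
        _ ≤ 128 ^ k := Nat.pow_le_pow_left (by norm_num) k
        _ = 2 ^ (7 * k) := by rw [pow_mul]; norm_num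
        _ ≤ 2 ^ e2 (8 * k) := Nat.pow_le_pow_right (by norm_num) (by rw [e2_eight_mul]; omega)
        _ ≤ 2 ^ e2 n := Nat.pow_le_pow_right (by norm_num) (e2_mono (by omega))
        _ ≤ hh n := two_pow_e2_le_hh n
    · obtain ⟨k, hk⟩ : ∃ k, n = 8 * k + 3 := ⟨n / 8, by omega⟩
      have hsk : s ≤ 4 * k + 1 := by omega
      have hhn : hh n = 3 * 2 ^ e2 (8 * k) := by
        rw [hk, show 8 * k + 3 = 4 * (2 * k) + 3 by ring, hh_eq (2 * k) 3 (by omega),
          show 4 * (2 * k) = 8 * k by ring]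
        simp [cf]
      rw [hhn]
      calc 3 ^ s ≤ 3 ^ (4 * k + 1) := Nat.pow_le_pow_right (by norm_num) hsk
        _ = 3 * 81 ^ k := by rw [pow_succ, pow_mul]; norm_num [mul_comm]
        _ ≤ 3 * 128 ^ k := Nat.mul_le_mul_left _ (Nat.pow_le_pow_left (by norm_num) k)
        _ = 3 * 2 ^ (7 * k) := by rw [pow_mul]; norm_num
        _ ≤ 3 * 2 ^ e2 (8 * k) := Nat.mul_le_mul_left _
            (Nat.pow_le_pow_right (by norm_num) (by rw [e2_eight_mul]; omega))
  by_cases h5 : p = 5
  · subst h5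
    have h := five_pow_mod a
    obtain ⟨k, hk⟩ : ∃ k, n = 4 * k + 1 := ⟨n / 4, by omega⟩
    have hsk : s ≤ k := by omega
    calc 5 ^ s ≤ 5 ^ k := Nat.pow_le_pow_right (by norm_num) hsk
      _ ≤ 8 ^ k := Nat.pow_le_pow_left (by norm_num) k
      _ = 2 ^ (3 * k) := by rw [pow_mul]; norm_num
      _ ≤ 2 ^ e2 (4 * k) := Nat.pow_le_pow_right (by norm_num) (by rw [e2_four_mul]; omega)
      _ ≤ 2 ^ e2 n := Nat.pow_le_pow_right (by norm_num) (e2_mono (by omega))
      _ ≤ hh n := two_pow_e2_le_hh n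
  · have h7 : 7 ≤ p := by
      by_contra hlt
      have hlt' : p < 7 := by omega
      have := hp.out
      interval_cases p <;> first | omega | (exact absurd this (by norm_num))
    have hodd : Odd n := by
      rcases hp.out.eq_two_or_odd' with h | h
      · exact absurd h h2
      · exact h.pow
    obtain ⟨k, hk⟩ := hodd
    have hsk : (p - 1) * s ≤ 2 * k := by omega
    have hsq := sq_le_two_pow p h7
    have key : (p ^ s) ^ 2 ≤ (2 ^ k) ^ 2 := by
      calc (p ^ s) ^ 2 = (p ^ 2) ^ s := by rw [← pow_mul, ← pow_mul, mul_comm]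
        _ ≤ (2 ^ (p - 1)) ^ s := Nat.pow_le_pow_left hsq s
        _ = 2 ^ ((p - 1) * s) := by rw [← pow_mul]
        _ ≤ 2 ^ (2 * k) := Nat.pow_le_pow_right (by norm_num) hsk
        _ = (2 ^ k) ^ 2 := by rw [← pow_mul, mul_comm]
    have key' : p ^ s ≤ 2 ^ k := (Nat.pow_le_pow_iff_left (by norm_num)).mp key
    calc p ^ s ≤ 2 ^ k := key'
      _ ≤ 2 ^ e2 (2 * k) := Nat.pow_le_pow_right (by norm_num) (e2_two_mul_ge k)
      _ ≤ 2 ^ e2 n := Nat.pow_le_pow_right (by norm_num) (e2_mono (by omega))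
      _ ≤ hh n := two_pow_e2_le_hh n

/-- The bound for transitive nilpotent groups of degree `n`. -/
def ff (n : ℕ) : ℕ :=
  ∏ p ∈ n.primeFactors, p ^ padicValNat p (p ^ padicValNat p n).factorial

theorem ff_pos (n : ℕ) : 0 < ff n := by
  unfold ff
  apply Finset.prod_pos
  intro p hp
  exact pow_pos (Nat.pos_of_mem_primeFactors hp) _

theorem ff_prime_pow (p k : ℕ) (hp : p.Prime) (hk : 0 < k) :
    ff (p ^ k) = p ^ padicValNat p (p ^ k).factorial := by
  have := Fact.mk hp
  unfold ff
  rw [Nat.primeFactors_prime_pow hk.ne' hp, Finset.prod_singleton, padicValNat.prime_pow]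

theorem ff_mul (a b : ℕ) (ha : 1 < a) (hb : 1 < b) (hab : Nat.Coprime a b) :
    ff (a * b) = ff a * ff b := by
  unfold ff
  rw [hab.primeFactors_mul, Finset.prod_union hab.disjoint_primeFactors]
  congr 1
  · apply Finset.prod_congr rfl
    intro p hp
    have hpp := Nat.prime_of_mem_primeFactors hp
    have := Fact.mk hpp
    have hpa := Nat.dvd_of_mem_primeFactors hp
    have hpb : ¬ p ∣ b := fun h => by
      have := Nat.eq_one_of_dvd_coprimes hab hpa h
      exact hpp.one_lt.ne' this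
    rw [padicValNat.mul (by omega) (by omega), padicValNat.eq_zero_of_not_dvd hpb, add_zero]
  · apply Finset.prod_congr rfl
    intro p hp
    have hpp := Nat.prime_of_mem_primeFactors hp
    have := Fact.mk hpp
    have hpb := Nat.dvd_of_mem_primeFactors hp
    have hpa : ¬ p ∣ a := fun h => by
      have := Nat.eq_one_of_dvd_coprimes hab h hpb
      exact hpp.one_lt.ne' this
    rw [padicValNat.mul (by omega) (by omega), padicValNat.eq_zero_of_not_dvd hpa, zero_add]

theorem ff_le_hh (n : ℕ) : ff n ≤ hh n := by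
  induction n using Nat.recOnPosPrimePosCoprime with
  | prime_pow p k hp hk =>
    have := Fact.mk hp
    rw [ff_prime_pow p k hp hk]
    exact pow_val_le_hh p k
  | zero => simp [ff]; exact hh_pos 0
  | one => simp [ff]; exact hh_pos 1
  | coprime a b ha hb hab iha ihb =>
    rw [ff_mul a b ha hb hab]
    calc ff a * ff b ≤ hh a * hh b := Nat.mul_le_mul iha ihb
      _ ≤ hh (a + b) := hh_mul_le a b
      _ ≤ hh (a * b) := hh_mono (by nlinarith)

theorem le_hh_of_forall_dvd (n m : ℕ) (hm : m ≠ 0)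
    (h : ∀ p, p.Prime → p ^ padicValNat p m ∣ (p ^ padicValNat p n).factorial) :
    m ≤ hh n := by
  by_cases hn : n = 0
  · subst hn
    -- all valuations vanish
    have hm1 : m = 1 := by
      by_contra hne
      obtain ⟨p, hp, hpm⟩ := Nat.exists_prime_and_dvd hne
      have := Fact.mk hp
      have h1 := h p hp
      rw [padicValNat_zero_right, pow_zero, Nat.factorial_one, Nat.dvd_one, Nat.pow_eq_one] at h1
      have := (dvd_iff_padicValNat_ne_zero hm).mp hpm
      rcases h1 with h1 | h1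
      · exact hp.one_lt.ne' h1
      · exact this h1
    rw [hm1]; exact hh_pos 0
  refine le_trans ?_ (ff_le_hh n)
  apply Nat.le_of_dvd (ff_pos n)
  rw [Nat.dvd_iff_prime_pow_dvd_dvd]
  intro p k hp hpk
  have := Fact.mk hp
  have hk : k ≤ padicValNat p m := (padicValNat_dvd_iff_le hm).mp hpk
  have h1 := h p hp
  have hg : padicValNat p m ≤ padicValNat p (p ^ padicValNat p n).factorial :=
    (padicValNat_dvd_iff_le (Nat.factorial_ne_zero _)).mp h1
  by_cases hpn : p ∣ n
  · have hmem : p ∈ n.primeFactors := Nat.mem_primeFactors.mpr ⟨hp, hpn, hn⟩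
    have h2 : p ^ padicValNat p (p ^ padicValNat p n).factorial ∣ ff n :=
      Finset.dvd_prod_of_mem (fun q => q ^ padicValNat q (q ^ padicValNat q n).factorial) hmem
    exact (pow_dvd_pow p (hk.trans hg)).trans h2
  · rw [padicValNat.eq_zero_of_not_dvd hpn, pow_zero, Nat.factorial_one, padicValNat_one_right] at hg
    have : k = 0 := by omega
    subst this
    simp

theorem sylow_sup_centralizer {N : Type*} [Group N] [Finite N] [Group.IsNilpotent N]
    (p : ℕ) [Fact p.Prime] (A : Sylow p N) :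
    Subgroup.centralizer ((A : Subgroup N) : Set N) ⊔ (A : Subgroup N) = ⊤ := by
  rw [← Subgroup.index_eq_one]
  by_contra hne
  obtain ⟨q, hq, hqd⟩ := Nat.exists_prime_and_dvd hne
  have := Fact.mk hq
  obtain ⟨Q, hQ⟩ : ∃ Q : Sylow q N,
      (Q : Subgroup N) ≤ Subgroup.centralizer ((A : Subgroup N) : Set N) ⊔ (A : Subgroup N) := by
    by_cases hqp : q = p
    · subst hqp; exact ⟨A, le_sup_right⟩
    · let Q : Sylow q N := default
      refine ⟨Q, le_trans ?_ le_sup_left⟩
      intro x hx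
      rw [Subgroup.mem_centralizer_iff]
      intro a ha
      have hdis : Disjoint (Q : Subgroup N) (A : Subgroup N) :=
        IsPGroup.disjoint_of_ne q p hqp _ _ Q.isPGroup' A.isPGroup'
      exact (Subgroup.commute_of_normal_of_disjoint _ _ inferInstance inferInstance hdis x a hx
        ha).eq.symm
  have h1 := Subgroup.index_dvd_of_le hQ
  exact Q.not_dvd_index (hqd.trans h1)

theorem sylow_dvd {N Ω : Type*} [Group N] [Finite N] [Group.IsNilpotent N] [Finite Ω]
    [MulAction N Ω] [FaithfulSMul N Ω] [MulAction.IsPretransitive N Ω] (ω : Ω)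
    (p : ℕ) [hp : Fact p.Prime] :
    p ^ padicValNat p (Nat.card N) ∣ (p ^ padicValNat p (Nat.card Ω)).factorial := by
  classical
  let A : Sylow p N := default
  let B : Subgroup N := (A : Subgroup N)
  have hBn : B.Normal := inferInstanceAs ((A : Subgroup N).Normal)
  have hcardB : Nat.card B = p ^ padicValNat p (Nat.card N) := by
    have := A.card_eq_multiplicity
    rwa [Nat.factorization_def _ hp.out] at this
  have hsup := sylow_sup_centralizer p A
  let f : B →* Equiv.Perm (MulAction.orbit B ω) := MulAction.toPermHom B (MulAction.orbit B ω)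
  have hinj : Function.Injective f := by
    rw [injective_iff_map_eq_one]
    intro a ha
    have hfix : ∀ b : N, b ∈ B → (a : N) • (b • ω) = b • ω := by
      intro b hb
      have hy : b • ω ∈ MulAction.orbit B ω := ⟨⟨b, hb⟩, rfl⟩
      have h1 := congrArg (fun σ => ((σ ⟨b • ω, hy⟩ : MulAction.orbit B ω) : Ω)) ha
      have h2 : a • (b • ω) = b • ω := by simpa [f] using h1
      exact h2
    apply Subtype.ext
    apply FaithfulSMul.eq_of_smul_eq_smul (α := Ω)
    intro x
    obtain ⟨g, rfl⟩ := MulAction.exists_smul_eq N ω x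
    have hg : g ∈ Subgroup.centralizer ((A : Subgroup N) : Set N) ⊔ (A : Subgroup N) := by
      rw [hsup]; trivial
    obtain ⟨c, hc, b, hb, rfl⟩ := Subgroup.mem_sup_of_normal_right.mp hg
    rw [Subgroup.mem_centralizer_iff] at hc
    have hca := hc (a : N) a.2
    rw [Subgroup.coe_one, one_smul]
    calc (a : N) • (c * b) • ω = ((a : N) * c * b) • ω := by rw [← mul_smul, mul_assoc]
      _ = (c * (a : N) * b) • ω := by rw [hca]
      _ = c • ((a : N) • (b • ω)) := by rw [mul_assoc, mul_smul, mul_smul]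
      _ = c • (b • ω) := by rw [hfix b hb]
      _ = (c * b) • ω := by rw [mul_smul]
  have hd1 : Nat.card B ∣ Nat.card (Equiv.Perm (MulAction.orbit B ω)) :=
    Subgroup.card_dvd_of_injective f hinj
  rw [Nat.card_perm] at hd1
  obtain ⟨k, hk⟩ := (A.isPGroup').card_orbit (α := Ω) ω
  have hblock : MulAction.IsBlock N (MulAction.orbit B ω) := MulAction.IsBlock.orbit_of_normal ω
  have hd2 := hblock.ncard_dvd_card ⟨ω, MulAction.mem_orbit_self ω⟩
  rw [← Nat.card_coe_set_eq] at hd2
  have hk' : Nat.card (MulAction.orbit B ω) = p ^ k := hk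
  rw [hk'] at hd2 hd1
  have hΩ : Nat.card Ω ≠ 0 := by
    have : Nonempty Ω := ⟨ω⟩
    exact Nat.card_pos.ne'
  have hkle : k ≤ padicValNat p (Nat.card Ω) := (padicValNat_dvd_iff_le hΩ).mp hd2
  rw [← hcardB]
  exact hd1.trans (Nat.factorial_dvd_factorial (Nat.pow_le_pow_right hp.out.pos hkle))

/-- The orbit as a sub-action. -/
def orbitSub (N : Type*) {Ω : Type*} [Group N] [MulAction N Ω] (ω : Ω) : SubMulAction N Ω where
  carrier := MulAction.orbit N ω
  smul_mem' := fun g x hx => by
    have h1 : MulAction.orbit N x = MulAction.orbit N ω := MulAction.orbit_eq_iff.mpr hx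
    rw [← h1]
    exact MulAction.mem_orbit x g

/-- The complement of an orbit as a sub-action. -/
def orbitComplSub (N : Type*) {Ω : Type*} [Group N] [MulAction N Ω] (ω : Ω) : SubMulAction N Ω where
  carrier := (MulAction.orbit N ω)ᶜ
  smul_mem' := fun g x hx h => by
    apply hx
    have h1 : MulAction.orbit N (g • x) = MulAction.orbit N ω := MulAction.orbit_eq_iff.mpr h
    rw [MulAction.orbit_smul] at h1
    rw [← h1]
    exact MulAction.mem_orbit_self x

theorem card_le_of_cover {N Ω : Type*} [Group N] [Finite N] [MulAction N Ω] [FaithfulSMul N Ω]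
    (S T : SubMulAction N Ω) (hST : ∀ x, x ∈ S ∨ x ∈ T) :
    Nat.card N ≤ Nat.card (MulAction.toPermHom N S).range *
      Nat.card (MulAction.toPermHom N T).range := by
  rw [← Nat.card_prod]
  let emb : N → (MulAction.toPermHom N S).range × (MulAction.toPermHom N T).range :=
    fun g => ((MulAction.toPermHom N S).rangeRestrict g, (MulAction.toPermHom N T).rangeRestrict g)
  have : Finite ((MulAction.toPermHom N S).range × (MulAction.toPermHom N T).range) := by
    have h1 : Finite (MulAction.toPermHom N S).range :=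
      Finite.of_surjective _ (MulAction.toPermHom N S).rangeRestrict_surjective
    have h2 : Finite (MulAction.toPermHom N T).range :=
      Finite.of_surjective _ (MulAction.toPermHom N T).rangeRestrict_surjective
    infer_instance
  apply Nat.card_le_card_of_injective emb
  intro g g' hgg
  apply FaithfulSMul.eq_of_smul_eq_smul (α := Ω)
  intro x
  have h1 : (MulAction.toPermHom N S) g = (MulAction.toPermHom N S) g' :=
    congrArg Subtype.val (congrArg Prod.fst hgg)
  have h2 : (MulAction.toPermHom N T) g = (MulAction.toPermHom N T) g' :=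
    congrArg Subtype.val (congrArg Prod.snd hgg)
  rcases hST x with hx | hx
  · have := congrArg (fun σ => ((σ ⟨x, hx⟩ : S) : Ω)) h1
    simpa using this
  · have := congrArg (fun σ => ((σ ⟨x, hx⟩ : T) : Ω)) h2
    simpa using this

theorem card_le_hh : ∀ (n : ℕ) (N Ω : Type) [Group N] [Finite N] [Group.IsNilpotent N] [Finite Ω]
    [MulAction N Ω] [FaithfulSMul N Ω], Nat.card Ω = n → Nat.card N ≤ hh n := by
  intro n
  induction n using Nat.strong_induction_on with
  | _ n ih =>
  intro N Ω _ _ _ _ _ _ hcard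
  by_cases hemp : IsEmpty Ω
  · have hsub : Subsingleton N := ⟨fun a b => FaithfulSMul.eq_of_smul_eq_smul (α := Ω)
      (fun x => (hemp.false x).elim)⟩
    rw [Nat.card_unique]
    exact hh_pos n
  rw [not_isEmpty_iff] at hemp
  obtain ⟨ω⟩ := hemp
  by_cases htr : MulAction.IsPretransitive N Ω
  · apply le_hh_of_forall_dvd n (Nat.card N) Nat.card_pos.ne'
    intro p hp
    have := Fact.mk hp
    rw [← hcard]
    exact sylow_dvd ω p
  · -- intransitive
    have hx : ∃ x, x ∉ MulAction.orbit N ω := by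
      by_contra hall
      push Not at hall
      exact htr ((MulAction.isPretransitive_iff_base ω).mpr (fun x => hall x))
    obtain ⟨x, hx⟩ := hx
    let S := orbitSub N ω
    let T := orbitComplSub N ω
    have hST : ∀ y, y ∈ S ∨ y ∈ T := fun y => by
      by_cases hy : y ∈ MulAction.orbit N ω
      · exact Or.inl hy
      · exact Or.inr hy
    have hle := card_le_of_cover S T hST
    have hcS : Nat.card S = (MulAction.orbit N ω).ncard := Nat.card_coe_set_eq _
    have hcT : Nat.card T = (MulAction.orbit N ω)ᶜ.ncard := Nat.card_coe_set_eq _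
    have hsum : Nat.card S + Nat.card T = n := by
      rw [hcS, hcT, Set.ncard_add_ncard_compl, hcard]
    have hSpos : 0 < Nat.card S := by
      have : Nonempty S := ⟨⟨ω, MulAction.mem_orbit_self ω⟩⟩
      exact Nat.card_pos
    have hTpos : 0 < Nat.card T := by
      have : Nonempty T := ⟨⟨x, hx⟩⟩
      exact Nat.card_pos
    have hnS : Group.IsNilpotent (MulAction.toPermHom N S).range :=
      Group.nilpotent_of_surjective _ (MulAction.toPermHom N S).rangeRestrict_surjective
    have hnT : Group.IsNilpotent (MulAction.toPermHom N T).range :=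
      Group.nilpotent_of_surjective _ (MulAction.toPermHom N T).rangeRestrict_surjective
    have hfS : Finite (MulAction.toPermHom N S).range :=
      Finite.of_surjective _ (MulAction.toPermHom N S).rangeRestrict_surjective
    have hfT : Finite (MulAction.toPermHom N T).range :=
      Finite.of_surjective _ (MulAction.toPermHom N T).rangeRestrict_surjective
    have h1 := ih (Nat.card S) (by omega) (MulAction.toPermHom N S).range S rfl
    have h2 := ih (Nat.card T) (by omega) (MulAction.toPermHom N T).range T rfl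
    calc Nat.card N ≤ _ := hle
      _ ≤ hh (Nat.card S) * hh (Nat.card T) := Nat.mul_le_mul h1 h2
      _ ≤ hh (Nat.card S + Nat.card T) := hh_mul_le _ _
      _ = hh n := by rw [hsum]

end Cfsg.Agent.Lib.Helper1.NSym
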