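import Mathlib
import Cfsg.Agent.Lib.Helper1.NilpotentSym

set_option autoImplicit false

namespace Cfsg.Agent.Lib.Helper1.NAlt

open Cfsg.Agent.Lib.Helper1.NSym

theorem e2_zero : e2 0 = 0 := by simp [e2]
theorem e2_one : e2 1 = 0 := by simp [e2]
theorem e2_two : e2 2 = 1 := by
  have := e2_two_mul 1
  rw [e2_one] at this
  simpa using this
theorem e2_three : e2 3 = 1 := by
  have := e2_succ 2
  rw [e2_two, padicValNat.eq_zero_of_not_dvd (by norm_num)] at this
  simpa using this
theorem e2_four : e2 4 = 3 := by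
  have := e2_four_mul 1
  rw [e2_one] at this
  simpa using this
theorem e2_eight : e2 8 = 7 := by
  have := e2_eight_mul 1
  rw [e2_one] at this
  simpa using this
theorem e2_twelve : e2 12 = 10 := by
  have := e2_four_mul 3
  rw [e2_three] at this
  simpa using this
theorem e2_sixteen : e2 16 = 15 := by
  have := e2_four_mul 4
  rw [e2_four] at this
  simpa using this

theorem hh_vals : hh 0 = 1 ∧ hh 1 = 1 ∧ hh 2 = 2 ∧ hh 3 = 3 ∧ hh 4 = 8 ∧ hh 5 = 8 ∧ hh 6 = 16 ∧
    hh 7 = 24 ∧ hh 8 = 128 ∧ hh 9 = 128 ∧ hh 10 = 256 ∧ hh 11 = 384 ∧ hh 12 = 1024 ∧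
    hh 14 = 2048 ∧ hh 15 = 3072 ∧ hh 18 = 65536 := by
  have h0 : e2 (4 * 0) = 0 := e2_zero
  have h1 : e2 (4 * 1) = 3 := e2_four
  have h2 : e2 (4 * 2) = 7 := e2_eight
  have h3 : e2 (4 * 3) = 10 := e2_twelve
  have h4 : e2 (4 * 4) = 15 := e2_sixteen
  refine ⟨?_, ?_, ?_, ?_, ?_, ?_, ?_, ?_, ?_, ?_, ?_, ?_, ?_, ?_, ?_, ?_⟩
  · rw [show (0 : ℕ) = 4 * 0 + 0 by norm_num, hh_eq 0 0 (by norm_num), h0]; simp [cf]
  · rw [show (1 : ℕ) = 4 * 0 + 1 by norm_num, hh_eq 0 1 (by norm_num), h0]; simp [cf]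
  · rw [show (2 : ℕ) = 4 * 0 + 2 by norm_num, hh_eq 0 2 (by norm_num), h0]; simp [cf]
  · rw [show (3 : ℕ) = 4 * 0 + 3 by norm_num, hh_eq 0 3 (by norm_num), h0]; simp [cf]
  · rw [show (4 : ℕ) = 4 * 1 + 0 by norm_num, hh_eq 1 0 (by norm_num), h1]; simp [cf]
  · rw [show (5 : ℕ) = 4 * 1 + 1 by norm_num, hh_eq 1 1 (by norm_num), h1]; simp [cf]
  · rw [show (6 : ℕ) = 4 * 1 + 2 by norm_num, hh_eq 1 2 (by norm_num), h1]; simp [cf]
  · rw [show (7 : ℕ) = 4 * 1 + 3 by norm_num, hh_eq 1 3 (by norm_num), h1]; simp [cf]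
  · rw [show (8 : ℕ) = 4 * 2 + 0 by norm_num, hh_eq 2 0 (by norm_num), h2]; simp [cf]
  · rw [show (9 : ℕ) = 4 * 2 + 1 by norm_num, hh_eq 2 1 (by norm_num), h2]; simp [cf]
  · rw [show (10 : ℕ) = 4 * 2 + 2 by norm_num, hh_eq 2 2 (by norm_num), h2]; simp [cf]
  · rw [show (11 : ℕ) = 4 * 2 + 3 by norm_num, hh_eq 2 3 (by norm_num), h2]; simp [cf]
  · rw [show (12 : ℕ) = 4 * 3 + 0 by norm_num, hh_eq 3 0 (by norm_num), h3]; simp [cf]
  · rw [show (14 : ℕ) = 4 * 3 + 2 by norm_num, hh_eq 3 2 (by norm_num), h3]; simp [cf]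
  · rw [show (15 : ℕ) = 4 * 3 + 3 by norm_num, hh_eq 3 3 (by norm_num), h3]; simp [cf]
  · rw [show (18 : ℕ) = 4 * 4 + 2 by norm_num, hh_eq 4 2 (by norm_num), h4]; simp [cf]

/-- The maximal order of a nilpotent subgroup of `A_n`. -/
def hA (n : ℕ) : ℕ :=
  if n = 3 then 3 else if n = 5 then 5 else if n = 6 then 9 else if n = 9 then 81
  else if n ≤ 1 then 1 else hh n / 2

/-- generic degrees -/
def Generic (n : ℕ) : Prop := 2 ≤ n ∧ n ≠ 3 ∧ n ≠ 5 ∧ n ≠ 6 ∧ n ≠ 9

theorem hh_even (n : ℕ) (h2 : 2 ≤ n) (h3 : n ≠ 3) : 2 ∣ hh n := by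
  obtain ⟨k, r, hr, rfl⟩ : ∃ k r, r < 4 ∧ n = 4 * k + r := ⟨n / 4, n % 4, by omega, by omega⟩
  rw [hh_eq k r hr]
  by_cases hk : k = 0
  · subst hk
    have : r = 2 := by omega
    subst this
    simp [cf]
  · have h1 : 3 ≤ e2 (4 * k) := by
      rw [e2_four_mul]; omega
    have : (2 : ℕ) ∣ 2 ^ e2 (4 * k) := dvd_pow_self 2 (by omega)
    exact Dvd.dvd.mul_left this _

theorem two_mul_hA (n : ℕ) (hn : Generic n) : 2 * hA n = hh n := by
  obtain ⟨h2, h3, h5, h6, h9⟩ := hn
  unfold hA
  rw [if_neg h3, if_neg h5, if_neg h6, if_neg h9, if_neg (by omega)]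
  exact Nat.mul_div_cancel' (hh_even n h2 h3)

theorem hA_exc : hA 0 = 1 ∧ hA 1 = 1 ∧ hA 3 = 3 ∧ hA 5 = 5 ∧ hA 6 = 9 ∧ hA 9 = 81 := by
  refine ⟨?_, ?_, ?_, ?_, ?_, ?_⟩ <;> simp [hA]

theorem generic_or (n : ℕ) : Generic n ∨ n = 0 ∨ n = 1 ∨ n = 3 ∨ n = 5 ∨ n = 6 ∨ n = 9 := by
  unfold Generic; omega

theorem hh_le_two_mul_hA (n : ℕ) (h2 : 2 ≤ n) : hh n ≤ 2 * hA n := by
  obtain ⟨_, _, _, h3, _, h5, h6, _, _, h9, _⟩ := hh_vals
  obtain ⟨_, _, a3, a5, a6, a9⟩ := hA_exc
  rcases generic_or n with h | rfl | rfl | rfl | rfl | rfl | rfl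
  · rw [two_mul_hA n h]
  · omega
  · omega
  · rw [h3, a3]; norm_num
  · rw [h5, a5]; norm_num
  · rw [h6, a6]; norm_num
  · rw [h9, a9]; norm_num

theorem hA_le_hh (n : ℕ) : hA n ≤ hh n := by
  obtain ⟨v0, v1, _, h3, _, h5, h6, _, _, h9, _⟩ := hh_vals
  obtain ⟨a0, a1, a3, a5, a6, a9⟩ := hA_exc
  rcases generic_or n with h | rfl | rfl | rfl | rfl | rfl | rfl
  · have := two_mul_hA n h; omega
  · rw [a0, v0]
  · rw [a1, v1]
  · rw [h3, a3]
  · rw [h5, a5]; norm_num
  · rw [h6, a6]; norm_num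
  · rw [h9, a9]; norm_num

theorem hA_pos (n : ℕ) : 0 < hA n := by
  obtain ⟨a0, a1, a3, a5, a6, a9⟩ := hA_exc
  rcases generic_or n with h | rfl | rfl | rfl | rfl | rfl | rfl
  · have := two_mul_hA n h
    have := hh_pos n
    omega
  all_goals simp [*]

theorem hA_mul_le (a b : ℕ) (ha : 1 ≤ a) (hb : 1 ≤ b) : hA a * hA b ≤ hA (a + b) := by
  have key : ∀ a b : ℕ, Generic b → 1 ≤ a → hA a * hA b ≤ hA (a + b) := by
    intro a b hb ha
    have h1 := two_mul_hA b hb
    have h2 := hA_le_hh a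
    have h3 := hh_mul_le a b
    have h4 := hh_le_two_mul_hA (a + b) (by have := hb.1; omega)
    have h5 : hA a * (2 * hA b) ≤ hh a * hh b := by
      rw [h1]; exact Nat.mul_le_mul_right _ h2
    nlinarith
  rcases generic_or b with h | rfl | rfl | rfl | rfl | rfl | rfl
  · exact key a b h ha
  · omega
  all_goals
    rcases generic_or a with h' | rfl | rfl | rfl | rfl | rfl | rfl
    · rw [mul_comm, add_comm]; exact key _ a h' (by norm_num)
    all_goals first | omega | skip
  all_goals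
    obtain ⟨v0, v1, v2, v3, v4, v5, v6, v7, v8, v9, v10, v11, v12, v14, v15, v18⟩ := hh_vals
    obtain ⟨a0, a1, a3, a5, a6, a9⟩ := hA_exc
    simp only [a1, a3, a5, a6, a9]
    first
      | (norm_num; done)
      | (norm_num
         first
          | (have := two_mul_hA 2 (by unfold Generic; omega); omega)
          | (have := two_mul_hA 4 (by unfold Generic; omega); omega)
          | (have := two_mul_hA 7 (by unfold Generic; omega); omega)
          | (have := two_mul_hA 8 (by unfold Generic; omega); omega)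
          | (have := two_mul_hA 10 (by unfold Generic; omega); omega)
          | (have := two_mul_hA 11 (by unfold Generic; omega); omega)
          | (have := two_mul_hA 12 (by unfold Generic; omega); omega)
          | (have := two_mul_hA 14 (by unfold Generic; omega); omega)
          | (have := two_mul_hA 15 (by unfold Generic; omega); omega)
          | (have := two_mul_hA 18 (by unfold Generic; omega); omega)
          | omega)

theorem two_mul_81_pow_le (j : ℕ) (hj : 2 ≤ j) : 2 * 81 ^ j ≤ 128 ^ j := by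
  induction j, hj using Nat.le_induction with
  | base => norm_num
  | succ j _ ih => rw [pow_succ, pow_succ]; nlinarith [Nat.pow_pos (n := j) (show 0 < 128 by norm_num)]

theorem two_mul_5_pow_le (j : ℕ) (hj : 2 ≤ j) : 2 * 5 ^ j ≤ 8 ^ j := by
  induction j, hj using Nat.le_induction with
  | base => norm_num
  | succ j _ ih => rw [pow_succ, pow_succ]; nlinarith [Nat.pow_pos (n := j) (show 0 < 8 by norm_num)]

theorem two_mul_pow_val_le_hh (p k : ℕ) [hp : Fact p.Prime] (hp2 : p ≠ 2) (hk : 0 < k)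
    (h3 : p ^ k ≠ 3) (h5 : p ^ k ≠ 5) (h9 : p ^ k ≠ 9) :
    2 * p ^ padicValNat p (p ^ k).factorial ≤ hh (p ^ k) := by
  have hn0 : p ^ k ≠ 0 := pow_ne_zero _ hp.out.ne_zero
  have hs := sub_one_mul_padicValNat_factorial_lt_of_ne_zero p hn0
  have hnp : p ≤ p ^ k := by
    calc p = p ^ 1 := (pow_one p).symm
      _ ≤ p ^ k := Nat.pow_le_pow_right hp.out.pos hk
  set n := p ^ k with hn
  set s := padicValNat p n.factorial with hsdef
  by_cases h3' : p = 3
  · subst h3'
    rcases three_pow_mod k with h | h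
    · obtain ⟨j, hj⟩ : ∃ j, n = 8 * j + 1 := ⟨n / 8, by omega⟩
      have hj2 : 2 ≤ j := by omega
      have hsk : s ≤ 4 * j := by omega
      calc 2 * 3 ^ s ≤ 2 * 3 ^ (4 * j) :=
            Nat.mul_le_mul_left _ (Nat.pow_le_pow_right (by norm_num) hsk)
        _ = 2 * 81 ^ j := by rw [pow_mul]; norm_num
        _ ≤ 128 ^ j := two_mul_81_pow_le j hj2
        _ = 2 ^ (7 * j) := by rw [pow_mul]; norm_num
        _ ≤ 2 ^ e2 (8 * j) := Nat.pow_le_pow_right (by norm_num) (by rw [e2_eight_mul]; omega)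
        _ ≤ 2 ^ e2 n := Nat.pow_le_pow_right (by norm_num) (e2_mono (by omega))
        _ ≤ hh n := two_pow_e2_le_hh n
    · obtain ⟨j, hj⟩ : ∃ j, n = 8 * j + 3 := ⟨n / 8, by omega⟩
      have hj1 : j ≠ 1 := by
        intro h1
        subst h1
        have h11 : 3 ^ k = 11 := by omega
        have hk3 : k < 3 := by
          by_contra hge
          have : 3 ^ 3 ≤ 3 ^ k := Nat.pow_le_pow_right (by norm_num) (by omega)
          omega
        interval_cases k <;> omega
      have hj2 : 2 ≤ j := by omega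
      have hsk : s ≤ 4 * j + 1 := by omega
      have hhn : hh n = 3 * 2 ^ e2 (8 * j) := by
        rw [hj, show 8 * j + 3 = 4 * (2 * j) + 3 by ring, hh_eq (2 * j) 3 (by omega),
          show 4 * (2 * j) = 8 * j by ring]
        simp [cf]
      rw [hhn]
      calc 2 * 3 ^ s ≤ 2 * 3 ^ (4 * j + 1) :=
            Nat.mul_le_mul_left _ (Nat.pow_le_pow_right (by norm_num) hsk)
        _ = 3 * (2 * 81 ^ j) := by rw [pow_succ, pow_mul]; norm_num; ring
        _ ≤ 3 * 128 ^ j := Nat.mul_le_mul_left _ (two_mul_81_pow_le j hj2)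
        _ = 3 * 2 ^ (7 * j) := by rw [pow_mul]; norm_num
        _ ≤ 3 * 2 ^ e2 (8 * j) := Nat.mul_le_mul_left _
            (Nat.pow_le_pow_right (by norm_num) (by rw [e2_eight_mul]; omega))
  by_cases h5' : p = 5
  · subst h5'
    have h := five_pow_mod k
    obtain ⟨j, hj⟩ : ∃ j, n = 4 * j + 1 := ⟨n / 4, by omega⟩
    have hj2 : 2 ≤ j := by omega
    have hsk : s ≤ j := by omega
    calc 2 * 5 ^ s ≤ 2 * 5 ^ j :=
          Nat.mul_le_mul_left _ (Nat.pow_le_pow_right (by norm_num) hsk)
      _ ≤ 8 ^ j := two_mul_5_pow_le j hj2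
      _ = 2 ^ (3 * j) := by rw [pow_mul]; norm_num
      _ ≤ 2 ^ e2 (4 * j) := Nat.pow_le_pow_right (by norm_num) (by rw [e2_four_mul]; omega)
      _ ≤ 2 ^ e2 n := Nat.pow_le_pow_right (by norm_num) (e2_mono (by omega))
      _ ≤ hh n := two_pow_e2_le_hh n
  · have h7 : 7 ≤ p := by
      by_contra hlt
      have hlt' : p < 7 := by omega
      have := hp.out
      interval_cases p <;> first | omega | (exact absurd this (by norm_num))
    have hodd : Odd n := by
      rcases hp.out.eq_two_or_odd' with h | h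
      · exact absurd h hp2
      · exact h.pow
    obtain ⟨j, hj⟩ := hodd
    have hj3 : 3 ≤ j := by omega
    have hsk : (p - 1) * s ≤ 2 * j := by omega
    have hsq := sq_le_two_pow p h7
    have key : (p ^ s) ^ 2 ≤ (2 ^ j) ^ 2 := by
      calc (p ^ s) ^ 2 = (p ^ 2) ^ s := by rw [← pow_mul, ← pow_mul, mul_comm]
        _ ≤ (2 ^ (p - 1)) ^ s := Nat.pow_le_pow_left hsq s
        _ = 2 ^ ((p - 1) * s) := by rw [← pow_mul]
        _ ≤ 2 ^ (2 * j) := Nat.pow_le_pow_right (by norm_num) hsk
        _ = (2 ^ j) ^ 2 := by rw [← pow_mul, mul_comm]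
    have key' : p ^ s ≤ 2 ^ j := (Nat.pow_le_pow_iff_left (by norm_num)).mp key
    have he : j + 1 ≤ e2 (2 * j) := by
      rw [e2_two_mul]
      have := e2_mono (show 2 ≤ j by omega)
      rw [e2_two] at this
      omega
    calc 2 * p ^ s ≤ 2 * 2 ^ j := Nat.mul_le_mul_left _ key'
      _ = 2 ^ (j + 1) := by rw [pow_succ]; ring
      _ ≤ 2 ^ e2 (2 * j) := Nat.pow_le_pow_right (by norm_num) he
      _ ≤ 2 ^ e2 n := Nat.pow_le_pow_right (by norm_num) (e2_mono (by omega))
      _ ≤ hh n := two_pow_e2_le_hh n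

theorem hh_add_two (x : ℕ) : 2 * hh x ≤ hh (x + 2) := by
  obtain ⟨k, r, hr, rfl⟩ : ∃ k r, r < 4 ∧ x = 4 * k + r := ⟨x / 4, x % 4, by omega, by omega⟩
  have h3 := e2_four_succ k
  have hE : 8 * 2 ^ e2 (4 * k) ≤ 2 ^ e2 (4 * (k + 1)) := by
    have : 2 ^ (e2 (4 * k) + 3) ≤ 2 ^ e2 (4 * (k + 1)) := Nat.pow_le_pow_right (by norm_num) h3
    rw [pow_add] at this
    omega
  have : r = 0 ∨ r = 1 ∨ r = 2 ∨ r = 3 := by omega
  rcases this with rfl | rfl | rfl | rfl
  · rw [hh_eq k 0 (by omega), show 4 * k + 0 + 2 = 4 * k + 2 by ring, hh_eq k 2 (by omega)]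
    simp [cf]
  · rw [hh_eq k 1 (by omega), show 4 * k + 1 + 2 = 4 * k + 3 by ring, hh_eq k 3 (by omega)]
    simp only [cf]; norm_num
  · rw [hh_eq k 2 (by omega), show 4 * k + 2 + 2 = 4 * (k + 1) + 0 by ring,
      hh_eq (k + 1) 0 (by omega)]
    simp only [cf]; norm_num; omega
  · rw [hh_eq k 3 (by omega), show 4 * k + 3 + 2 = 4 * (k + 1) + 1 by ring,
      hh_eq (k + 1) 1 (by omega)]
    simp only [cf]; norm_num; omega

theorem val_prime_one (p : ℕ) [hp : Fact p.Prime] : padicValNat p (p ^ 1).factorial = 1 := by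
  have := padicValNat_factorial_mul (p := p) 1
  rw [mul_one] at this
  rw [pow_one, this]
  simp

theorem ff_prime (p : ℕ) (hp : p.Prime) : ff p = p := by
  have := Fact.mk hp
  have h := ff_prime_pow p 1 hp (by norm_num)
  rw [val_prime_one] at h
  simpa using h

theorem ff_nine : ff 9 = 81 := by
  have := Fact.mk Nat.prime_three
  have h := ff_prime_pow 3 2 Nat.prime_three (by norm_num)
  have h1 : padicValNat 3 (3 ^ 2).factorial = 4 := by
    have h2 := padicValNat_factorial_mul (p := 3) 3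
    have h3 := padicValNat_factorial_mul (p := 3) 1
    rw [mul_one] at h3
    rw [show (3 : ℕ) ^ 2 = 3 * 3 by norm_num, h2, h3]
    simp
  rw [h1] at h
  norm_num at h
  exact h

theorem ff_six : ff 6 = 6 := by
  have h := ff_mul 2 3 (by norm_num) (by norm_num) (by norm_num)
  rw [ff_prime 2 Nat.prime_two, ff_prime 3 Nat.prime_three] at h
  exact h

theorem ff_le_hA (n : ℕ) : (¬ ∃ a, 0 < a ∧ n = 2 ^ a) → ff n ≤ hA n := by
  obtain ⟨a0, a1, a3, a5, a6, a9⟩ := hA_exc
  induction n using Nat.recOnPosPrimePosCoprime with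
  | prime_pow p k hp hk =>
    intro h2p
    have := Fact.mk hp
    have hp2 : p ≠ 2 := fun h => h2p ⟨k, hk, by rw [h]⟩
    by_cases h3 : p ^ k = 3
    · rw [h3, ff_prime 3 Nat.prime_three, a3]
    by_cases h5 : p ^ k = 5
    · rw [h5, ff_prime 5 (by norm_num), a5]
    by_cases h9 : p ^ k = 9
    · rw [h9, ff_nine, a9]
    have h1 := two_mul_pow_val_le_hh p k hp2 hk h3 h5 h9
    rw [← ff_prime_pow p k hp hk] at h1
    have hge : 2 ≤ p ^ k := by
      calc 2 ≤ p := hp.two_le
        _ = p ^ 1 := (pow_one p).symm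
        _ ≤ p ^ k := Nat.pow_le_pow_right hp.pos hk
    have h2 := hh_le_two_mul_hA (p ^ k) hge
    omega
  | zero => intro _; rw [a0]; simp [ff]
  | one => intro _; rw [a1]; simp [ff]
  | coprime a b ha hb hab _ _ =>
    intro _
    by_cases h6 : a * b = 6
    · rw [h6, ff_six, a6]; norm_num
    rw [ff_mul a b ha hb hab]
    have hab2 : a + b + 2 ≤ a * b := by
      have h2a : ¬ (a = 2 ∧ 2 ∣ b) := fun ⟨h, hd⟩ => by
        subst h
        have := Nat.eq_one_of_dvd_coprimes hab (dvd_refl 2) hd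
        omega
      have h2b : ¬ (b = 2 ∧ 2 ∣ a) := fun ⟨h, hd⟩ => by
        subst h
        have := Nat.eq_one_of_dvd_coprimes hab hd (dvd_refl 2)
        omega
      have h33 : ¬ (a = 3 ∧ b = 3) := fun ⟨h, h'⟩ => by
        subst h; subst h'
        exact absurd hab (by norm_num)
      by_cases ha2 : a = 2
      · subst ha2
        have : ¬ 2 ∣ b := fun hd => h2a ⟨rfl, hd⟩
        omega
      by_cases hb2 : b = 2
      · subst hb2
        have : ¬ 2 ∣ a := fun hd => h2b ⟨rfl, hd⟩
        omega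
      by_cases ha3 : a = 3
      · subst ha3
        have : b ≠ 3 := fun h => h33 ⟨rfl, h⟩
        omega
      by_cases hb3 : b = 3
      · subst hb3
        omega
      · have ha4 : 4 ≤ a := by omega
        have hb4 : 4 ≤ b := by omega
        nlinarith
    have h1 : ff a * ff b ≤ hh a * hh b := Nat.mul_le_mul (ff_le_hh a) (ff_le_hh b)
    have h2 := hh_mul_le a b
    have h3 := hh_add_two (a + b)
    have h4 := hh_mono hab2
    have h5 := hh_le_two_mul_hA (a * b) (by nlinarith)
    omega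

theorem dvd_ff_of_forall_dvd (n m : ℕ) (hn : n ≠ 0) (hm : m ≠ 0)
    (h : ∀ p, p.Prime → p ^ padicValNat p m ∣ (p ^ padicValNat p n).factorial) :
    m ∣ ff n := by
  rw [Nat.dvd_iff_prime_pow_dvd_dvd]
  intro p k hp hpk
  have := Fact.mk hp
  have hk : k ≤ padicValNat p m := (padicValNat_dvd_iff_le hm).mp hpk
  have h1 := h p hp
  have hg : padicValNat p m ≤ padicValNat p (p ^ padicValNat p n).factorial :=
    (padicValNat_dvd_iff_le (Nat.factorial_ne_zero _)).mp h1
  by_cases hpn : p ∣ n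
  · have hmem : p ∈ n.primeFactors := Nat.mem_primeFactors.mpr ⟨hp, hpn, hn⟩
    have h2 : p ^ padicValNat p (p ^ padicValNat p n).factorial ∣ ff n :=
      Finset.dvd_prod_of_mem (fun q => q ^ padicValNat q (q ^ padicValNat q n).factorial) hmem
    exact (pow_dvd_pow p (hk.trans hg)).trans h2
  · rw [padicValNat.eq_zero_of_not_dvd hpn, pow_zero, Nat.factorial_one, padicValNat_one_right]
      at hg
    have : k = 0 := by omega
    subst this
    simp

theorem le_hA_of_dvd (n m : ℕ) (hn : 1 ≤ n) (hm : m ≠ 0)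
    (h1 : ∀ p, p.Prime → p ^ padicValNat p m ∣ (p ^ padicValNat p n).factorial)
    (h2 : 2 ≤ n → 2 * m ∣ n.factorial) : m ≤ hA n := by
  by_cases h2p : ∃ a, 0 < a ∧ n = 2 ^ a
  · obtain ⟨a, ha, rfl⟩ := h2p
    have hn2 : 2 ≤ 2 ^ a := by
      calc 2 = 2 ^ 1 := (pow_one 2).symm
        _ ≤ 2 ^ a := Nat.pow_le_pow_right (by norm_num) ha
    -- m is a power of two
    have hmdvd : m ∣ 2 ^ padicValNat 2 m := by
      rw [Nat.dvd_iff_prime_pow_dvd_dvd]
      intro p k hp hpk
      have := Fact.mk hp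
      have hk : k ≤ padicValNat p m := (padicValNat_dvd_iff_le hm).mp hpk
      by_cases hp2 : p = 2
      · subst hp2; exact pow_dvd_pow 2 hk
      · have h3 := h1 p hp
        have hpn : ¬ p ∣ 2 ^ a := fun hd => by
          have := (Nat.prime_dvd_prime_iff_eq hp Nat.prime_two).mp (hp.dvd_of_dvd_pow hd)
          exact hp2 this
        rw [padicValNat.eq_zero_of_not_dvd hpn, pow_zero, Nat.factorial_one, Nat.dvd_one,
          Nat.pow_eq_one] at h3
        rcases h3 with h3 | h3
        · exact absurd h3 hp.one_lt.ne'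
        · have : k = 0 := by omega
          subst this; simp
    have hmle : m ≤ 2 ^ padicValNat 2 m := Nat.le_of_dvd (by positivity) hmdvd
    have h4 := h2 hn2
    have h5 : 2 ^ (padicValNat 2 m + 1) ∣ (2 ^ a).factorial := by
      refine dvd_trans ?_ h4
      rw [pow_succ, mul_comm]
      exact Nat.mul_dvd_mul_left 2 pow_padicValNat_dvd
    have h6 : padicValNat 2 m + 1 ≤ e2 (2 ^ a) :=
      (padicValNat_dvd_iff_le (Nat.factorial_ne_zero _)).mp h5
    have h7 : 2 ^ (padicValNat 2 m + 1) ≤ 2 ^ e2 (2 ^ a) :=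
      Nat.pow_le_pow_right (by norm_num) h6
    have h8 := two_pow_e2_le_hh (2 ^ a)
    have h9 := hh_le_two_mul_hA (2 ^ a) hn2
    rw [pow_succ] at h7
    omega
  · have hd := dvd_ff_of_forall_dvd n m (by omega) hm h1
    exact (Nat.le_of_dvd (ff_pos n) hd).trans (ff_le_hA n h2p)

/-- instance-free sign -/
noncomputable def sgnHom (α : Type*) [Finite α] : Equiv.Perm α →* ℤˣ :=
  @Equiv.Perm.sign α (Classical.decEq α) (Fintype.ofFinite α)

theorem sgnHom_eq {α : Type*} [DecidableEq α] [Fintype α] (σ : Equiv.Perm α) :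
    sgnHom α σ = Equiv.Perm.sign σ := by
  unfold sgnHom
  congr!

/-- the action is by even permutations -/
def EvenAct (N Ω : Type*) [Group N] [Finite Ω] [MulAction N Ω] : Prop :=
  ∀ g : N, sgnHom Ω (MulAction.toPerm g) = 1

theorem sgn_split {N Ω : Type*} [Group N] [Finite Ω] [MulAction N Ω]
    (S T : SubMulAction N Ω) (hT : ∀ x, x ∈ T ↔ x ∉ S) (g : N) :
    sgnHom Ω (MulAction.toPerm g) =
      sgnHom S (MulAction.toPerm g) * sgnHom T (MulAction.toPerm g) := by
  classical
  have : Fintype Ω := Fintype.ofFinite Ω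
  rw [sgnHom_eq, sgnHom_eq, sgnHom_eq]
  let eT : {x // ¬ (x ∈ S)} ≃ T := Equiv.subtypeEquivRight (fun x => (hT x).symm)
  let σS : Equiv.Perm {x // x ∈ S} := (MulAction.toPerm g : Equiv.Perm S)
  let σT : Equiv.Perm {x // ¬ (x ∈ S)} := eT.symm.permCongr (MulAction.toPerm g : Equiv.Perm T)
  have key : (MulAction.toPerm g : Equiv.Perm Ω) = σS.subtypeCongr σT := by
    ext x
    by_cases hx : x ∈ S
    · rw [Equiv.Perm.subtypeCongr.left_apply _ _ hx]
      rfl
    · rw [Equiv.Perm.subtypeCongr.right_apply _ _ hx]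
      rfl
  rw [key, Equiv.Perm.sign_subtypeCongr, Equiv.Perm.sign_permCongr]

theorem toPerm_range_eq {α : Type*} (H : Subgroup (Equiv.Perm α)) (x : H) :
    (MulAction.toPerm x : Equiv.Perm α) = (x : Equiv.Perm α) := by
  ext a
  rfl

theorem card_le_hA : ∀ (n : ℕ) (N Ω : Type) [Group N] [Finite N] [Group.IsNilpotent N]
    [Finite Ω] [MulAction N Ω] [FaithfulSMul N Ω], EvenAct N Ω → Nat.card Ω = n →
    Nat.card N ≤ hA n := by
  intro n
  induction n using Nat.strong_induction_on with
  | _ n ih =>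
  intro N Ω _ _ _ _ _ _ heven hcard
  by_cases hemp : IsEmpty Ω
  · have hsub : Subsingleton N := ⟨fun a b => FaithfulSMul.eq_of_smul_eq_smul (α := Ω)
      (fun x => (hemp.false x).elim)⟩
    rw [Nat.card_unique]
    exact hA_pos n
  rw [not_isEmpty_iff] at hemp
  have hn1 : 1 ≤ n := by rw [← hcard]; exact Nat.card_pos
  obtain ⟨ω⟩ := hemp
  by_cases htr : MulAction.IsPretransitive N Ω
  · apply le_hA_of_dvd n (Nat.card N) hn1 Nat.card_pos.ne'
    · intro p hp
      have := Fact.mk hp
      rw [← hcard]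
      exact sylow_dvd ω p
    · intro hn2
      classical
      have : Fintype Ω := Fintype.ofFinite Ω
      have hnt : Nontrivial Ω := by
        rw [← Finite.one_lt_card_iff_nontrivial, hcard]; omega
      let f : N →* alternatingGroup Ω :=
        (MulAction.toPermHom N Ω).codRestrict _ (fun g => by
          rw [Equiv.Perm.mem_alternatingGroup, ← sgnHom_eq]
          exact heven g)
      have hf : Function.Injective f := by
        intro a b hab
        have := congrArg Subtype.val hab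
        exact MulAction.toPerm_injective this
      have h1 := Subgroup.card_dvd_of_injective f hf
      have h2 := two_mul_nat_card_alternatingGroup (α := Ω)
      rw [Nat.card_perm, hcard] at h2
      rw [← h2]
      exact Nat.mul_dvd_mul_left 2 h1
  · have hx : ∃ x, x ∉ MulAction.orbit N ω := by
      by_contra hall
      push Not at hall
      exact htr ((MulAction.isPretransitive_iff_base ω).mpr (fun x => hall x))
    obtain ⟨x, hx⟩ := hx
    let S := orbitSub N ω
    let T := orbitComplSub N ω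
    have hTS : ∀ y, y ∈ T ↔ y ∉ S := fun y => Iff.rfl
    have hST : ∀ y, y ∈ S ∨ y ∈ T := fun y => by
      by_cases hy : y ∈ MulAction.orbit N ω
      · exact Or.inl hy
      · exact Or.inr hy
    have hcS : Nat.card S = (MulAction.orbit N ω).ncard := Nat.card_coe_set_eq _
    have hcT : Nat.card T = (MulAction.orbit N ω)ᶜ.ncard := Nat.card_coe_set_eq _
    have hsum : Nat.card S + Nat.card T = n := by
      rw [hcS, hcT, Set.ncard_add_ncard_compl, hcard]
    have hSpos : 0 < Nat.card S := by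
      have : Nonempty S := ⟨⟨ω, MulAction.mem_orbit_self ω⟩⟩
      exact Nat.card_pos
    have hTpos : 0 < Nat.card T := by
      have : Nonempty T := ⟨⟨x, hx⟩⟩
      exact Nat.card_pos
    have hnS : Group.IsNilpotent (MulAction.toPermHom N S).range :=
      Group.nilpotent_of_surjective _ (MulAction.toPermHom N S).rangeRestrict_surjective
    have hnT : Group.IsNilpotent (MulAction.toPermHom N T).range :=
      Group.nilpotent_of_surjective _ (MulAction.toPermHom N T).rangeRestrict_surjective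
    have hfS : Finite (MulAction.toPermHom N S).range :=
      Finite.of_surjective _ (MulAction.toPermHom N S).rangeRestrict_surjective
    have hfT : Finite (MulAction.toPermHom N T).range :=
      Finite.of_surjective _ (MulAction.toPermHom N T).rangeRestrict_surjective
    have hsplit := sgn_split S T hTS
    by_cases hcase : ∀ g : N, sgnHom S (MulAction.toPerm g) = 1
    · -- both constituents are even
      have hcaseT : ∀ g : N, sgnHom T (MulAction.toPerm g) = 1 := by
        intro g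
        have := hsplit g
        rw [heven g, hcase g, one_mul] at this
        exact this.symm
      have hevS : EvenAct (MulAction.toPermHom N S).range S := by
        rintro ⟨σ, g, rfl⟩
        rw [toPerm_range_eq]
        exact hcase g
      have hevT : EvenAct (MulAction.toPermHom N T).range T := by
        rintro ⟨σ, g, rfl⟩
        rw [toPerm_range_eq]
        exact hcaseT g
      have h1 := ih (Nat.card S) (by omega) (MulAction.toPermHom N S).range S hevS rfl
      have h2 := ih (Nat.card T) (by omega) (MulAction.toPermHom N T).range T hevT rfl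
      calc Nat.card N ≤ _ := card_le_of_cover S T hST
        _ ≤ hA (Nat.card S) * hA (Nat.card T) := Nat.mul_le_mul h1 h2
        _ ≤ hA (Nat.card S + Nat.card T) := hA_mul_le _ _ hSpos hTpos
        _ = hA n := by rw [hsum]
    · push Not at hcase
      obtain ⟨g₀, hg₀⟩ := hcase
      let N₁ := (MulAction.toPermHom N S).range
      let N₂ := (MulAction.toPermHom N T).range
      let χ : N₁ × N₂ →* ℤˣ :=
        ((sgnHom S).comp N₁.subtype).coprod ((sgnHom T).comp N₂.subtype)
      have hfin : Finite (N₁ × N₂) := inferInstance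
      let emb : N → χ.ker := fun g =>
        ⟨((MulAction.toPermHom N S).rangeRestrict g, (MulAction.toPermHom N T).rangeRestrict g), by
          rw [MonoidHom.mem_ker]
          change sgnHom S (MulAction.toPerm g) * sgnHom T (MulAction.toPerm g) = 1
          rw [← hsplit g]
          exact heven g⟩
      have hemb : Function.Injective emb := by
        intro g g' hgg
        apply FaithfulSMul.eq_of_smul_eq_smul (α := Ω)
        intro y
        have hgg' := congrArg Subtype.val hgg
        have h1 : (MulAction.toPermHom N S) g = (MulAction.toPermHom N S) g' :=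
          congrArg Subtype.val (congrArg Prod.fst hgg')
        have h2 : (MulAction.toPermHom N T) g = (MulAction.toPermHom N T) g' :=
          congrArg Subtype.val (congrArg Prod.snd hgg')
        rcases hST y with hy | hy
        · have := congrArg (fun σ => ((σ ⟨y, hy⟩ : S) : Ω)) h1
          simpa using this
        · have := congrArg (fun σ => ((σ ⟨y, hy⟩ : T) : Ω)) h2
          simpa using this
      have hle1 : Nat.card N ≤ Nat.card χ.ker := Nat.card_le_card_of_injective emb hemb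
      have hne : χ.ker ≠ ⊤ := by
        intro htop
        have hmem : (((MulAction.toPermHom N S).rangeRestrict g₀, 1) : N₁ × N₂) ∈ χ.ker := by
          rw [htop]; trivial
        rw [MonoidHom.mem_ker] at hmem
        apply hg₀
        have : sgnHom S (MulAction.toPerm g₀) * sgnHom T (1 : Equiv.Perm T) = 1 := hmem
        rwa [map_one, mul_one] at this
      have hidx : 2 ≤ χ.ker.index := by
        have h1 : χ.ker.index ≠ 1 := fun h => hne (Subgroup.index_eq_one.mp h)
        have h0 : χ.ker.index ≠ 0 := Subgroup.index_ne_zero_of_finite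
        omega
      have hmul := Subgroup.card_mul_index χ.ker
      rw [Nat.card_prod] at hmul
      have hb1 := card_le_hh (Nat.card S) N₁ S rfl
      have hb2 := card_le_hh (Nat.card T) N₂ T rfl
      have hb3 := hh_mul_le (Nat.card S) (Nat.card T)
      rw [hsum] at hb3
      have hb4 := hh_le_two_mul_hA n (by omega)
      have hb5 : Nat.card N₁ * Nat.card N₂ ≤ hh (Nat.card S) * hh (Nat.card T) :=
        Nat.mul_le_mul hb1 hb2
      have hb6 : Nat.card χ.ker * 2 ≤ Nat.card N₁ * Nat.card N₂ := by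
        rw [← hmul]; exact Nat.mul_le_mul_left _ hidx
      omega

theorem evenAct_of_alt (n : ℕ) (N : Subgroup (alternatingGroup (Fin n))) : EvenAct N (Fin n) := by
  intro g
  have h1 : (MulAction.toPerm g : Equiv.Perm (Fin n)) = ((g : alternatingGroup (Fin n)) : Equiv.Perm (Fin n)) := by
    ext a; rfl
  rw [h1, sgnHom_eq]
  exact Equiv.Perm.mem_alternatingGroup.mp (g : alternatingGroup (Fin n)).2

theorem card_le_hA_alt (n : ℕ) (N : Subgroup (alternatingGroup (Fin n)))
    (hN : Group.IsNilpotent N) : Nat.card N ≤ hA n :=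
  card_le_hA n N (Fin n) (evenAct_of_alt n N) (by simp)

theorem card_sylow_two_alt (n : ℕ) (hn : 2 ≤ n) (P : Sylow 2 (alternatingGroup (Fin n))) :
    Nat.card P = 2 ^ (e2 n - 1) := by
  have hnt : Nontrivial (Fin n) := Fin.nontrivial_iff_two_le.mpr hn
  rw [P.card_eq_multiplicity, nat_card_alternatingGroup, Nat.card_eq_fintype_card,
    Fintype.card_fin, Nat.factorization_def _ Nat.prime_two]
  have hd : 2 ∣ n.factorial := Nat.dvd_factorial (by norm_num) hn
  rw [padicValNat.div hd]
  rfl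

theorem hA_generic (n : ℕ) (hg : Generic n) (hn : n % 4 ≠ 3) : hA n = 2 ^ (e2 n - 1) := by
  have h1 := two_mul_hA n hg
  rw [hh_of_ne_three n hn] at h1
  have h2 : 1 ≤ e2 n := by
    have := e2_mono hg.1
    rw [e2_two] at this
    exact this
  have h3 : 2 ^ e2 n = 2 * 2 ^ (e2 n - 1) := by
    rw [← pow_succ']
    congr 1
    omega
  omega

end Cfsg.Agent.Lib.Helper1.NAlt
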