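import Mathlib
import Cfsg.Agent.Lib.Helper1.NilpotentSym

set_option autoImplicit false

namespace Cfsg.Agent.Lib.Helper1.NSymMax

open Cfsg.Agent.Lib.Helper1.NSym

theorem cycleType_of_orderOf_three {α : Type*} [Fintype α] [DecidableEq α] (t : Equiv.Perm α)
    (ht : orderOf t = 3) :
    ∃ j, 0 < j ∧ t.cycleType = Multiset.replicate j 3 := by
  refine ⟨Multiset.card t.cycleType, ?_, ?_⟩
  · rw [Multiset.card_pos]
    intro h
    rw [Equiv.Perm.cycleType_eq_zero] at h
    subst h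
    simp at ht
  · rw [Multiset.eq_replicate]
    refine ⟨rfl, fun b hb => ?_⟩
    have h1 := Equiv.Perm.dvd_of_mem_cycleType hb
    have h2 := Equiv.Perm.two_le_of_mem_cycleType hb
    rw [ht] at h1
    have := (Nat.dvd_prime Nat.prime_three).mp h1
    omega

theorem card_centralizer_replicate {n : ℕ} (t : Equiv.Perm (Fin n)) (j : ℕ) (hj : 0 < j)
    (h : t.cycleType = Multiset.replicate j 3) :
    Nat.card (Subgroup.centralizer {t}) = (n - 3 * j).factorial * 3 ^ j * j.factorial := by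
  rw [Equiv.Perm.nat_card_centralizer, h]
  simp [Multiset.toFinset_replicate, hj.ne', mul_comm]

theorem e2_four_mul_pred_lt (k : ℕ) (hk : 0 < k) : e2 (4 * k - 1) < e2 (4 * k) := by
  have h1 : 4 * k = (4 * k - 1) + 1 := by omega
  have h2 := e2_succ (4 * k - 1)
  rw [← h1] at h2
  have h3 : 1 ≤ padicValNat 2 (4 * k) :=
    one_le_padicValNat_of_dvd (by omega) ⟨2 * k, by ring⟩
  omega

theorem padic_two_three_pow (j : ℕ) : padicValNat 2 (3 ^ j) = 0 := by
  apply padicValNat.eq_zero_of_not_dvd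
  intro h
  have := (Nat.Prime.dvd_of_dvd_pow Nat.prime_two h)
  omega

/-- number of three-cycles is one -/
theorem j_eq_one {n k j : ℕ} (hn : n = 4 * k + 3) (hj : 0 < j) (hj3 : 3 * j ≤ n)
    (hdvd : 2 ^ e2 (4 * k) ∣ (n - 3 * j).factorial * 3 ^ j * j.factorial) : j = 1 := by
  by_contra hne
  have hj2 : 2 ≤ j := by omega
  have hk : 0 < k := by omega
  have hne0 : (n - 3 * j).factorial * 3 ^ j * j.factorial ≠ 0 := by positivity
  have h1 := (padicValNat_dvd_iff_le hne0).mp hdvd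
  rw [padicValNat.mul (by positivity) (by positivity), padicValNat.mul (by positivity)
    (by positivity), padic_two_three_pow, add_zero] at h1
  change e2 (4 * k) ≤ e2 (n - 3 * j) + e2 j at h1
  have h2 := e2_add_le (n - 3 * j) j
  have h3 : e2 (n - 3 * j + j) ≤ e2 (4 * k - 1) := e2_mono (by omega)
  have h4 := e2_four_mul_pred_lt k hk
  omega

theorem structure_of_max {n k : ℕ} (hn : n = 4 * k + 3) (N : Subgroup (Equiv.Perm (Fin n)))
    (hN : Group.IsNilpotent N) (hcard : Nat.card N = 3 * 2 ^ e2 (4 * k)) :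
    ∃ (t : Equiv.Perm (Fin n)) (Q : Subgroup (Equiv.Perm (Fin n))), t.IsThreeCycle ∧
      Nat.card Q = 2 ^ e2 (4 * k) ∧ Q ≤ Subgroup.centralizer {t} ∧
      N = Subgroup.zpowers t ⊔ Q := by
  classical
  have hp3 : Fact (Nat.Prime 3) := ⟨Nat.prime_three⟩
  let T : Sylow 3 N := default
  let Q0 : Sylow 2 N := default
  have h32 : ¬ 3 ∣ 2 ^ e2 (4 * k) := fun h => by
    have := Nat.Prime.dvd_of_dvd_pow Nat.prime_three h
    omega
  have hT : Nat.card T = 3 := by
    rw [T.card_eq_multiplicity, hcard, Nat.factorization_def _ Nat.prime_three,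
      padicValNat.mul (by norm_num) (by positivity), padicValNat_self,
      padicValNat.eq_zero_of_not_dvd h32]
    norm_num
  have hQ0 : Nat.card Q0 = 2 ^ e2 (4 * k) := by
    rw [Q0.card_eq_multiplicity, hcard, Nat.factorization_def _ Nat.prime_two,
      padicValNat.mul (by norm_num) (by positivity), padicValNat.prime_pow,
      padicValNat.eq_zero_of_not_dvd (by norm_num), zero_add]
  have hTnt : Nontrivial (T : Subgroup N) := by
    rw [← Finite.one_lt_card_iff_nontrivial, hT]; norm_num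
  obtain ⟨t0, ht0⟩ := exists_ne (1 : (T : Subgroup N))
  have hord0 : orderOf t0 = 3 := by
    have h1 : orderOf t0 ∣ 3 := by
      have := orderOf_dvd_natCard t0
      rwa [hT] at this
    have h2 : orderOf t0 ≠ 1 := fun h => ht0 (orderOf_eq_one_iff.mp h)
    have := (Nat.dvd_prime Nat.prime_three).mp h1
    omega
  let t : Equiv.Perm (Fin n) := ((t0 : N) : Equiv.Perm (Fin n))
  have hord : orderOf t = 3 := by
    rw [← hord0]
    change orderOf (((t0 : N) : Equiv.Perm (Fin n))) = orderOf t0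
    rw [Subgroup.orderOf_coe, Subgroup.orderOf_coe]
  let Q : Subgroup (Equiv.Perm (Fin n)) := (Q0 : Subgroup N).map N.subtype
  have hQcard : Nat.card Q = 2 ^ e2 (4 * k) := by
    rw [← hQ0]
    exact Subgroup.card_map_of_injective N.subtype_injective
  have hQle : Q ≤ Subgroup.centralizer {t} := by
    rintro x ⟨q, hq, rfl⟩
    rw [Subgroup.mem_centralizer_singleton_iff]
    have hdis : Disjoint (Q0 : Subgroup N) (T : Subgroup N) :=
      IsPGroup.disjoint_of_ne 2 3 (by norm_num) _ _ Q0.isPGroup' T.isPGroup'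
    have hc := Subgroup.commute_of_normal_of_disjoint _ _ inferInstance inferInstance hdis q
      (t0 : N) hq t0.2
    exact congrArg N.subtype hc.eq
  obtain ⟨j, hj, hct⟩ := cycleType_of_orderOf_three t hord
  have hj3 : 3 * j ≤ n := by
    have := t.sum_cycleType_le
    rw [hct, Multiset.sum_replicate, Fintype.card_fin] at this
    simpa [mul_comm] using this
  have hdvd : 2 ^ e2 (4 * k) ∣ (n - 3 * j).factorial * 3 ^ j * j.factorial := by
    rw [← hQcard, ← card_centralizer_replicate t j hj hct]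
    exact Subgroup.card_dvd_of_le hQle
  have hj1 := j_eq_one hn hj hj3 hdvd
  subst hj1
  refine ⟨t, Q, ?_, hQcard, hQle, ?_⟩
  · change t.cycleType = {3}
    rw [hct]; rfl
  · symm
    apply Subgroup.eq_of_le_of_card_ge
    · apply sup_le
      · rw [Subgroup.zpowers_le]; exact (t0 : N).2
      · rintro x ⟨q, _, rfl⟩; exact q.2
    · rw [hcard]
      apply Nat.le_of_dvd Nat.card_pos
      apply Nat.Coprime.mul_dvd_of_dvd_of_dvd
      · exact (Nat.Prime.coprime_iff_not_dvd Nat.prime_three).mpr h32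
      · have h1 : Nat.card (Subgroup.zpowers t) = 3 := by rw [Nat.card_zpowers, hord]
        rw [← h1]
        exact Subgroup.card_dvd_of_le le_sup_left
      · rw [← hQcard]
        exact Subgroup.card_dvd_of_le le_sup_right

lemma mem_sylow_smul_iff' {G : Type*} [Group G] {p : ℕ} {g x : G} {P : Sylow p G} :
    x ∈ g • P ↔ g⁻¹ * x * g ∈ P := by
  change x ∈ ((g • P : Sylow p G) : Subgroup G) ↔ _
  rw [Sylow.coe_subgroup_smul, Subgroup.mem_pointwise_smul_iff_inv_smul_mem,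
    MulAut.smul_def, ← map_inv, MulAut.conj_apply, inv_inv]
  rfl

theorem conj_of_data {n k : ℕ} (hn : n = 4 * k + 3)
    (t₁ t₂ : Equiv.Perm (Fin n)) (Q₁ Q₂ : Subgroup (Equiv.Perm (Fin n)))
    (h1 : t₁.IsThreeCycle) (h2 : t₂.IsThreeCycle)
    (hc1 : Nat.card Q₁ = 2 ^ e2 (4 * k)) (hc2 : Nat.card Q₂ = 2 ^ e2 (4 * k))
    (hl1 : Q₁ ≤ Subgroup.centralizer {t₁}) (hl2 : Q₂ ≤ Subgroup.centralizer {t₂}) :
    ∃ g : Equiv.Perm (Fin n),
      Subgroup.zpowers t₂ ⊔ Q₂ =
        (Subgroup.zpowers t₁ ⊔ Q₁).map (MulAut.conj g).toMonoidHom := by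
  classical
  obtain ⟨g₀, hg₀⟩ : ∃ g₀, g₀ * t₁ * g₀⁻¹ = t₂ :=
    isConj_iff.mp (Equiv.Perm.isConj_iff_cycleType_eq.mpr (h1.cycleType.trans h2.cycleType.symm))
  let C : Subgroup (Equiv.Perm (Fin n)) := Subgroup.centralizer {t₂}
  have hCcard : Nat.card C = (n - 3 * 1).factorial * 3 ^ 1 * (1).factorial :=
    card_centralizer_replicate t₂ 1 (by norm_num) (by rw [h2.cycleType]; rfl)
  have hv : (Nat.card C).factorization 2 = e2 (4 * k) := by
    rw [hCcard, Nat.factorization_def _ Nat.prime_two,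
      padicValNat.mul (by positivity) (by positivity),
      padicValNat.mul (by positivity) (by positivity), padic_two_three_pow]
    have : n - 3 * 1 = 4 * k := by omega
    rw [this]
    simp [e2]
  let κ₀ : Equiv.Perm (Fin n) →* Equiv.Perm (Fin n) := (MulAut.conj g₀).toMonoidHom
  have hκ₀ : Function.Injective κ₀ := (MulAut.conj g₀).injective
  let Q₁' := Q₁.map κ₀
  have hc1' : Nat.card Q₁' = 2 ^ e2 (4 * k) := by
    rw [← hc1]; exact Subgroup.card_map_of_injective hκ₀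
  have hl1' : Q₁' ≤ C := by
    rintro x ⟨q, hq, rfl⟩
    have hq' := Subgroup.mem_centralizer_singleton_iff.mp (hl1 hq)
    rw [Subgroup.mem_centralizer_singleton_iff, ← hg₀]
    change g₀ * q * g₀⁻¹ * (g₀ * t₁ * g₀⁻¹) = g₀ * t₁ * g₀⁻¹ * (g₀ * q * g₀⁻¹)
    calc g₀ * q * g₀⁻¹ * (g₀ * t₁ * g₀⁻¹) = g₀ * (q * t₁) * g₀⁻¹ := by group
      _ = g₀ * (t₁ * q) * g₀⁻¹ := by rw [hq']
      _ = g₀ * t₁ * g₀⁻¹ * (g₀ * q * g₀⁻¹) := by group
  have hcs1 : Nat.card (Q₁'.subgroupOf C) = 2 ^ (Nat.card C).factorization 2 := by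
    rw [hv, ← hc1']
    exact Nat.card_congr (Subgroup.subgroupOfEquivOfLe hl1').toEquiv
  have hcs2 : Nat.card (Q₂.subgroupOf C) = 2 ^ (Nat.card C).factorization 2 := by
    rw [hv, ← hc2]
    exact Nat.card_congr (Subgroup.subgroupOfEquivOfLe hl2).toEquiv
  let S₁ : Sylow 2 C := Sylow.ofCard (Q₁'.subgroupOf C) hcs1
  let S₂ : Sylow 2 C := Sylow.ofCard (Q₂.subgroupOf C) hcs2
  obtain ⟨c, hc⟩ := MulAction.exists_smul_eq C S₁ S₂
  refine ⟨(c : Equiv.Perm (Fin n)) * g₀, ?_⟩
  rw [Subgroup.map_sup, MonoidHom.map_zpowers]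
  have hct : (c : Equiv.Perm (Fin n)) * t₂ = t₂ * c :=
    Subgroup.mem_centralizer_singleton_iff.mp c.2
  have e1 : (MulAut.conj ((c : Equiv.Perm (Fin n)) * g₀)).toMonoidHom t₁ = t₂ := by
    change (c : Equiv.Perm (Fin n)) * g₀ * t₁ * ((c : Equiv.Perm (Fin n)) * g₀)⁻¹ = t₂
    calc (c : Equiv.Perm (Fin n)) * g₀ * t₁ * ((c : Equiv.Perm (Fin n)) * g₀)⁻¹
        = c * (g₀ * t₁ * g₀⁻¹) * (c : Equiv.Perm (Fin n))⁻¹ := by group
      _ = c * t₂ * (c : Equiv.Perm (Fin n))⁻¹ := by rw [hg₀]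
      _ = t₂ := by rw [hct]; group
  have e2' : Q₂ = Q₁.map (MulAut.conj ((c : Equiv.Perm (Fin n)) * g₀)).toMonoidHom := by
    apply Subgroup.eq_of_le_of_card_ge
    · intro x hx
      have hxC : x ∈ C := hl2 hx
      have hxS : (⟨x, hxC⟩ : C) ∈ S₂ := by
        change (⟨x, hxC⟩ : C) ∈ Q₂.subgroupOf C
        rw [Subgroup.mem_subgroupOf]; exact hx
      rw [← hc, mem_sylow_smul_iff'] at hxS
      have hxS' : (c⁻¹ * ⟨x, hxC⟩ * c : C) ∈ Q₁'.subgroupOf C := hxS
      rw [Subgroup.mem_subgroupOf] at hxS'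
      obtain ⟨q, hq, hqe⟩ := hxS'
      refine ⟨q, hq, ?_⟩
      change (c : Equiv.Perm (Fin n)) * g₀ * q * ((c : Equiv.Perm (Fin n)) * g₀)⁻¹ = x
      have hqe' : g₀ * q * g₀⁻¹ = (c : Equiv.Perm (Fin n))⁻¹ * x * c := hqe
      calc (c : Equiv.Perm (Fin n)) * g₀ * q * ((c : Equiv.Perm (Fin n)) * g₀)⁻¹
          = c * (g₀ * q * g₀⁻¹) * (c : Equiv.Perm (Fin n))⁻¹ := by group
        _ = x := by rw [hqe']; group
    · rw [Subgroup.card_map_of_injective (MulAut.conj _).injective, hc1, hc2]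
  rw [e1, ← e2']

/-- the translation action of `ZMod 3` on itself -/
noncomputable def phi3 : Multiplicative (ZMod 3) →* Equiv.Perm (ZMod 3) :=
  MulAction.toPermHom (Multiplicative (ZMod 3)) (ZMod 3)

theorem phi3_injective : Function.Injective phi3 := by
  intro a b hab
  have h1 := congrArg (fun σ : Equiv.Perm (ZMod 3) => σ 0) hab
  simp only [phi3, MulAction.toPermHom_apply, MulAction.toPerm_apply] at h1
  have h2 : Multiplicative.toAdd a + 0 = Multiplicative.toAdd b + 0 := h1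
  simpa using h2

theorem exists_max (n : ℕ) (h3 : 3 ≤ n) (P : Subgroup (Equiv.Perm (Fin (n - 3))))
    (hP : IsPGroup 2 P) :
    ∃ M : Subgroup (Equiv.Perm (Fin n)), Group.IsNilpotent M ∧ Nat.card M = 3 * Nat.card P ∧
      Nonempty (M ≃* (↥P × Multiplicative (ZMod 3))) := by
  classical
  let e : Fin (n - 3) ⊕ ZMod 3 ≃ Fin n :=
    ((Equiv.sumCongr (Equiv.refl _) (ZMod.finEquiv 3).toEquiv.symm).trans finSumFinEquiv).trans
      (finCongr (by omega))
  let F : ↥P × Multiplicative (ZMod 3) →* Equiv.Perm (Fin n) :=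
    (e.permCongrHom.toMonoidHom).comp
      ((Equiv.Perm.sumCongrHom (Fin (n - 3)) (ZMod 3)).comp (MonoidHom.prodMap P.subtype phi3))
  have hF : Function.Injective F := by
    apply e.permCongrHom.injective.comp
    apply Equiv.Perm.sumCongrHom_injective.comp
    rw [MonoidHom.coe_prodMap]
    exact Function.Injective.prodMap P.subtype_injective phi3_injective
  let iso : (↥P × Multiplicative (ZMod 3)) ≃* F.range := MonoidHom.ofInjective hF
  have hnP : Group.IsNilpotent P := hP.isNilpotent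
  refine ⟨F.range, Group.nilpotent_of_mulEquiv iso, ?_, ⟨iso.symm⟩⟩
  rw [← Nat.card_congr iso.toEquiv, Nat.card_prod, mul_comm]
  congr 1
  rw [Nat.card_congr Multiplicative.toAdd, Nat.card_zmod]

end Cfsg.Agent.Lib.Helper1.NSymMax
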