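import Mathlib
import Cfsg.Agent.Lib.Helper1.NilpotentAlt
import Cfsg.Agent.Lib.Helper1.NilpotentSymMax

set_option autoImplicit false

namespace Cfsg.Agent.Lib.Helper1.NAltMax

open Cfsg.Agent.Lib.Helper1.NSym Cfsg.Agent.Lib.Helper1.NSymMax Cfsg.Agent.Lib.Helper1.NAlt

theorem sylow_conj_in {G : Type*} [Group G] [Finite G] (p : ℕ) [Fact p.Prime]
    (D Q₁ Q₂ : Subgroup G) (h1 : Q₁ ≤ D) (h2 : Q₂ ≤ D)
    (hc1 : Nat.card Q₁ = p ^ (Nat.card D).factorization p)
    (hc2 : Nat.card Q₂ = p ^ (Nat.card D).factorization p) :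
    ∃ d ∈ D, Q₂ = Q₁.map (MulAut.conj d).toMonoidHom := by
  have hcs1 : Nat.card (Q₁.subgroupOf D) = p ^ (Nat.card D).factorization p := by
    rw [← hc1]
    exact Nat.card_congr (Subgroup.subgroupOfEquivOfLe h1).toEquiv
  have hcs2 : Nat.card (Q₂.subgroupOf D) = p ^ (Nat.card D).factorization p := by
    rw [← hc2]
    exact Nat.card_congr (Subgroup.subgroupOfEquivOfLe h2).toEquiv
  let S₁ : Sylow p D := Sylow.ofCard (Q₁.subgroupOf D) hcs1
  let S₂ : Sylow p D := Sylow.ofCard (Q₂.subgroupOf D) hcs2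
  obtain ⟨c, hc⟩ := MulAction.exists_smul_eq D S₁ S₂
  refine ⟨(c : G), c.2, ?_⟩
  apply Subgroup.eq_of_le_of_card_ge
  · intro x hx
    have hxD : x ∈ D := h2 hx
    have hxS : (⟨x, hxD⟩ : D) ∈ S₂ := by
      change (⟨x, hxD⟩ : D) ∈ Q₂.subgroupOf D
      rw [Subgroup.mem_subgroupOf]; exact hx
    rw [← hc, mem_sylow_smul_iff'] at hxS
    have hxS' : (c⁻¹ * ⟨x, hxD⟩ * c : D) ∈ Q₁.subgroupOf D := hxS
    rw [Subgroup.mem_subgroupOf] at hxS'
    refine ⟨_, hxS', ?_⟩
    change (c : G) * ((c⁻¹ * ⟨x, hxD⟩ * c : D) : G) * (c : G)⁻¹ = x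
    push_cast
    group
  · rw [Subgroup.card_map_of_injective (MulAut.conj _).injective, hc1, hc2]

theorem exists_odd_commute {n : ℕ} (t : Equiv.Perm (Fin n)) (h3 : t.IsThreeCycle) (hn : 5 ≤ n) :
    ∃ s : Equiv.Perm (Fin n), Equiv.Perm.sign s = -1 ∧ s * t = t * s := by
  classical
  have hcard : (Finset.univ \ t.support).card = n - 3 := by
    rw [Finset.card_sdiff_of_subset (Finset.subset_univ _), Finset.card_univ, Fintype.card_fin,
      h3.card_support]
  have h1 : 1 < (Finset.univ \ t.support).card := by omega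
  obtain ⟨a, ha, b, hb, hab⟩ := Finset.one_lt_card.mp h1
  simp only [Finset.mem_sdiff, Finset.mem_univ, true_and, Equiv.Perm.notMem_support] at ha hb
  refine ⟨Equiv.swap a b, Equiv.Perm.sign_swap hab, ?_⟩
  have hdis : Equiv.Perm.Disjoint (Equiv.swap a b) t := by
    intro x
    by_cases hxa : x = a
    · right; rw [hxa]; exact ha
    by_cases hxb : x = b
    · right; rw [hxb]; exact hb
    · left; exact Equiv.swap_apply_of_ne_of_ne hxa hxb
  exact hdis.commute.eq

theorem two_mul_card_inf_alt {n : ℕ} (H : Subgroup (Equiv.Perm (Fin n)))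
    (s : Equiv.Perm (Fin n)) (hs : s ∈ H) (hodd : Equiv.Perm.sign s = -1) :
    Nat.card (H ⊓ alternatingGroup (Fin n) : Subgroup (Equiv.Perm (Fin n))) * 2 = Nat.card H := by
  have hnt : Nontrivial (Fin n) := by
    by_contra hnt
    rw [not_nontrivial_iff_subsingleton] at hnt
    have : s = 1 := Subsingleton.elim _ _
    rw [this] at hodd
    simp at hodd
  have h1 : (alternatingGroup (Fin n)).relIndex H ∣ 2 := by
    have := Subgroup.relIndex_dvd_index_of_normal (alternatingGroup (Fin n)) H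
    rwa [alternatingGroup.index_eq_two] at this
  have h2 : (alternatingGroup (Fin n)).relIndex H ≠ 1 := by
    intro h
    rw [Subgroup.relIndex_eq_one] at h
    have := Equiv.Perm.mem_alternatingGroup.mp (h hs)
    rw [this] at hodd
    exact absurd hodd (by decide)
  have h3 : (alternatingGroup (Fin n)).relIndex H = 2 := by
    rcases (Nat.dvd_prime Nat.prime_two).mp h1 with h | h
    · exact absurd h h2
    · exact h
  have h4 := Subgroup.card_mul_index ((alternatingGroup (Fin n)).subgroupOf H)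
  rw [← Subgroup.relIndex, h3] at h4
  rw [← h4]
  congr 1
  rw [inf_comm, ← Subgroup.inf_subgroupOf_right]
  exact (Nat.card_congr (Subgroup.subgroupOfEquivOfLe inf_le_right).toEquiv).symm

theorem e2_four_mul_pred_add_two (k : ℕ) (hk : 0 < k) : e2 (4 * k - 1) + 2 ≤ e2 (4 * k) := by
  have h1 : 4 * k = (4 * k - 1) + 1 := by omega
  have h2 := e2_succ (4 * k - 1)
  rw [← h1] at h2
  have h3 : 2 ≤ padicValNat 2 (4 * k) := by
    have := Fact.mk Nat.prime_two
    exact (padicValNat_dvd_iff_le (by omega)).mp ⟨k, by ring⟩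
  omega

theorem j_eq_one_gen {n k j m : ℕ} (hn : n = 4 * k + 3) (hm : e2 (4 * k) ≤ m + 1)
    (hj : 0 < j) (hj3 : 3 * j ≤ n)
    (hdvd : 2 ^ m ∣ (n - 3 * j).factorial * 3 ^ j * j.factorial) : j = 1 := by
  by_contra hne
  have hj2 : 2 ≤ j := by omega
  have hk : 0 < k := by omega
  have hne0 : (n - 3 * j).factorial * 3 ^ j * j.factorial ≠ 0 := by positivity
  have h1 := (padicValNat_dvd_iff_le hne0).mp hdvd
  rw [padicValNat.mul (by positivity) (by positivity), padicValNat.mul (by positivity)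
    (by positivity), padic_two_three_pow, add_zero] at h1
  change m ≤ e2 (n - 3 * j) + e2 j at h1
  have h2 := e2_add_le (n - 3 * j) j
  have h3 : e2 (n - 3 * j + j) ≤ e2 (4 * k - 1) := e2_mono (by omega)
  have h4 := e2_four_mul_pred_add_two k hk
  omega

theorem structure_of_max_gen {n k m : ℕ} (hn : n = 4 * k + 3) (hm : e2 (4 * k) ≤ m + 1)
    (N : Subgroup (Equiv.Perm (Fin n)))
    (hN : Group.IsNilpotent N) (hcard : Nat.card N = 3 * 2 ^ m) :
    ∃ (t : Equiv.Perm (Fin n)) (Q : Subgroup (Equiv.Perm (Fin n))), t.IsThreeCycle ∧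
      Nat.card Q = 2 ^ m ∧ Q ≤ Subgroup.centralizer {t} ∧ Q ≤ N ∧
      N = Subgroup.zpowers t ⊔ Q := by
  classical
  have hp3 : Fact (Nat.Prime 3) := ⟨Nat.prime_three⟩
  let T : Sylow 3 N := default
  let Q0 : Sylow 2 N := default
  have h32 : ¬ 3 ∣ 2 ^ m := fun h => by
    have := Nat.Prime.dvd_of_dvd_pow Nat.prime_three h
    omega
  have hT : Nat.card T = 3 := by
    rw [T.card_eq_multiplicity, hcard, Nat.factorization_def _ Nat.prime_three,
      padicValNat.mul (by norm_num) (by positivity), padicValNat_self,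
      padicValNat.eq_zero_of_not_dvd h32]
    norm_num
  have hQ0 : Nat.card Q0 = 2 ^ m := by
    rw [Q0.card_eq_multiplicity, hcard, Nat.factorization_def _ Nat.prime_two,
      padicValNat.mul (by norm_num) (by positivity), padicValNat.prime_pow,
      padicValNat.eq_zero_of_not_dvd (by norm_num), zero_add]
  have hTnt : Nontrivial (T : Subgroup N) := by
    rw [← Finite.one_lt_card_iff_nontrivial, hT]; norm_num
  obtain ⟨t0, ht0⟩ := exists_ne (1 : (T : Subgroup N))
  have hord0 : orderOf t0 = 3 := by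
    have h1 : orderOf t0 ∣ 3 := by
      have := orderOf_dvd_natCard t0
      rwa [hT] at this
    have h2 : orderOf t0 ≠ 1 := fun h => ht0 (orderOf_eq_one_iff.mp h)
    have := (Nat.dvd_prime Nat.prime_three).mp h1
    omega
  let t : Equiv.Perm (Fin n) := ((t0 : N) : Equiv.Perm (Fin n))
  have hord : orderOf t = 3 := by
    rw [← hord0]
    change orderOf (((t0 : N) : Equiv.Perm (Fin n))) = orderOf t0
    rw [Subgroup.orderOf_coe, Subgroup.orderOf_coe]
  let Q : Subgroup (Equiv.Perm (Fin n)) := (Q0 : Subgroup N).map N.subtype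
  have hQcard : Nat.card Q = 2 ^ m := by
    rw [← hQ0]
    exact Subgroup.card_map_of_injective N.subtype_injective
  have hQle : Q ≤ Subgroup.centralizer {t} := by
    rintro x ⟨q, hq, rfl⟩
    rw [Subgroup.mem_centralizer_singleton_iff]
    have hdis : Disjoint (Q0 : Subgroup N) (T : Subgroup N) :=
      IsPGroup.disjoint_of_ne 2 3 (by norm_num) _ _ Q0.isPGroup' T.isPGroup'
    have hc := Subgroup.commute_of_normal_of_disjoint _ _ inferInstance inferInstance hdis q
      (t0 : N) hq t0.2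
    exact congrArg N.subtype hc.eq
  have hQN : Q ≤ N := by
    rintro x ⟨q, _, rfl⟩; exact q.2
  obtain ⟨j, hj, hct⟩ := cycleType_of_orderOf_three t hord
  have hj3 : 3 * j ≤ n := by
    have := t.sum_cycleType_le
    rw [hct, Multiset.sum_replicate, Fintype.card_fin] at this
    simpa [mul_comm] using this
  have hdvd : 2 ^ m ∣ (n - 3 * j).factorial * 3 ^ j * j.factorial := by
    rw [← hQcard, ← card_centralizer_replicate t j hj hct]
    exact Subgroup.card_dvd_of_le hQle
  have hj1 := j_eq_one_gen hn hm hj hj3 hdvd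
  subst hj1
  refine ⟨t, Q, ?_, hQcard, hQle, hQN, ?_⟩
  · change t.cycleType = {3}
    rw [hct]; rfl
  · symm
    apply Subgroup.eq_of_le_of_card_ge
    · apply sup_le
      · rw [Subgroup.zpowers_le]; exact (t0 : N).2
      · exact hQN
    · rw [hcard]
      apply Nat.le_of_dvd Nat.card_pos
      apply Nat.Coprime.mul_dvd_of_dvd_of_dvd
      · exact (Nat.Prime.coprime_iff_not_dvd Nat.prime_three).mpr h32
      · have h1 : Nat.card (Subgroup.zpowers t) = 3 := by rw [Nat.card_zpowers, hord]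
        rw [← h1]
        exact Subgroup.card_dvd_of_le le_sup_left
      · rw [← hQcard]
        exact Subgroup.card_dvd_of_le le_sup_right

theorem conj_of_data_alt {n k : ℕ} (hn : n = 4 * k + 3) (hk : 1 ≤ k)
    (t₁ t₂ : Equiv.Perm (Fin n)) (Q₁ Q₂ : Subgroup (Equiv.Perm (Fin n)))
    (h1 : t₁.IsThreeCycle) (h2 : t₂.IsThreeCycle)
    (hc1 : Nat.card Q₁ = 2 ^ (e2 (4 * k) - 1)) (hc2 : Nat.card Q₂ = 2 ^ (e2 (4 * k) - 1))
    (hl1 : Q₁ ≤ Subgroup.centralizer {t₁}) (hl2 : Q₂ ≤ Subgroup.centralizer {t₂})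
    (ha1 : Q₁ ≤ alternatingGroup (Fin n)) (ha2 : Q₂ ≤ alternatingGroup (Fin n)) :
    ∃ g : Equiv.Perm (Fin n), Equiv.Perm.sign g = 1 ∧
      Subgroup.zpowers t₂ ⊔ Q₂ =
        (Subgroup.zpowers t₁ ⊔ Q₁).map (MulAut.conj g).toMonoidHom := by
  classical
  obtain ⟨g₀, hsg₀, hg₀⟩ : ∃ g₀, Equiv.Perm.sign g₀ = 1 ∧ g₀ * t₁ * g₀⁻¹ = t₂ := by
    obtain ⟨g, hg⟩ : ∃ g, g * t₁ * g⁻¹ = t₂ :=
      isConj_iff.mp (Equiv.Perm.isConj_iff_cycleType_eq.mpr
        (h1.cycleType.trans h2.cycleType.symm))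
    rcases Int.units_eq_one_or (Equiv.Perm.sign g) with hs | hs
    · exact ⟨g, hs, hg⟩
    · obtain ⟨s, hss, hst⟩ := exists_odd_commute t₁ h1 (by omega)
      refine ⟨g * s, by rw [map_mul, hs, hss]; norm_num, ?_⟩
      rw [← hg]
      calc g * s * t₁ * (g * s)⁻¹ = g * (s * t₁) * s⁻¹ * g⁻¹ := by group
        _ = g * (t₁ * s) * s⁻¹ * g⁻¹ := by rw [hst]
        _ = g * t₁ * g⁻¹ := by group
  let C : Subgroup (Equiv.Perm (Fin n)) := Subgroup.centralizer {t₂}
  let D : Subgroup (Equiv.Perm (Fin n)) := C ⊓ alternatingGroup (Fin n)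
  have hCcard : Nat.card C = (n - 3 * 1).factorial * 3 ^ 1 * (1).factorial :=
    card_centralizer_replicate t₂ 1 (by norm_num) (by rw [h2.cycleType]; rfl)
  obtain ⟨s, hss, hst⟩ := exists_odd_commute t₂ h2 (by omega)
  have hsC : s ∈ C := Subgroup.mem_centralizer_singleton_iff.mpr hst
  have hDcard := two_mul_card_inf_alt C s hsC hss
  have hE1 : 1 ≤ e2 (4 * k) := by rw [e2_four_mul]; omega
  have hv : (Nat.card D).factorization 2 = e2 (4 * k) - 1 := by
    have hvC : padicValNat 2 (Nat.card C) = e2 (4 * k) := by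
      rw [hCcard, padicValNat.mul (by positivity) (by positivity),
        padicValNat.mul (by positivity) (by positivity), padic_two_three_pow]
      have : n - 3 * 1 = 4 * k := by omega
      rw [this]
      simp [e2]
    rw [Nat.factorization_def _ Nat.prime_two]
    have hD0 : Nat.card D ≠ 0 := Nat.card_pos.ne'
    have : padicValNat 2 (Nat.card D * 2) = padicValNat 2 (Nat.card D) + 1 := by
      rw [padicValNat.mul hD0 (by norm_num)]
      simp
    rw [hDcard, hvC] at this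
    omega
  let κ₀ : Equiv.Perm (Fin n) →* Equiv.Perm (Fin n) := (MulAut.conj g₀).toMonoidHom
  have hκ₀ : Function.Injective κ₀ := (MulAut.conj g₀).injective
  let Q₁' := Q₁.map κ₀
  have hc1' : Nat.card Q₁' = 2 ^ (e2 (4 * k) - 1) := by
    rw [← hc1]; exact Subgroup.card_map_of_injective hκ₀
  have hl1' : Q₁' ≤ D := by
    rintro x ⟨q, hq, rfl⟩
    refine ⟨?_, ?_⟩
    · have hq' := Subgroup.mem_centralizer_singleton_iff.mp (hl1 hq)
      change κ₀ q ∈ Subgroup.centralizer {t₂}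
      rw [Subgroup.mem_centralizer_singleton_iff, ← hg₀]
      change g₀ * q * g₀⁻¹ * (g₀ * t₁ * g₀⁻¹) = g₀ * t₁ * g₀⁻¹ * (g₀ * q * g₀⁻¹)
      calc g₀ * q * g₀⁻¹ * (g₀ * t₁ * g₀⁻¹) = g₀ * (q * t₁) * g₀⁻¹ := by group
        _ = g₀ * (t₁ * q) * g₀⁻¹ := by rw [hq']
        _ = g₀ * t₁ * g₀⁻¹ * (g₀ * q * g₀⁻¹) := by group
    · change κ₀ q ∈ alternatingGroup (Fin n)
      rw [Equiv.Perm.mem_alternatingGroup]
      change Equiv.Perm.sign (g₀ * q * g₀⁻¹) = 1
      rw [map_mul, map_mul, map_inv, hsg₀, Equiv.Perm.mem_alternatingGroup.mp (ha1 hq)]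
      simp
  have hl2' : Q₂ ≤ D := fun x hx => ⟨hl2 hx, ha2 hx⟩
  obtain ⟨c, hcD, hcQ⟩ := sylow_conj_in 2 D Q₁' Q₂ hl1' hl2' (by rw [hv, hc1']) (by rw [hv, hc2])
  have hct : c * t₂ = t₂ * c := Subgroup.mem_centralizer_singleton_iff.mp hcD.1
  have hsc : Equiv.Perm.sign c = 1 := Equiv.Perm.mem_alternatingGroup.mp hcD.2
  refine ⟨c * g₀, by rw [map_mul, hsc, hsg₀]; simp, ?_⟩
  rw [Subgroup.map_sup, MonoidHom.map_zpowers]
  have e1 : (MulAut.conj (c * g₀)).toMonoidHom t₁ = t₂ := by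
    change c * g₀ * t₁ * (c * g₀)⁻¹ = t₂
    calc c * g₀ * t₁ * (c * g₀)⁻¹ = c * (g₀ * t₁ * g₀⁻¹) * c⁻¹ := by group
      _ = c * t₂ * c⁻¹ := by rw [hg₀]
      _ = t₂ := by rw [hct]; group
  have e2' : Q₂ = Q₁.map (MulAut.conj (c * g₀)).toMonoidHom := by
    rw [hcQ, Subgroup.map_map]
    congr 1
  rw [e1, ← e2']

theorem sign_phi3 (z : Multiplicative (ZMod 3)) : Equiv.Perm.sign (phi3 z) = 1 := by
  have hz : z ^ 3 = 1 := by
    have h : (3 : ℕ) • Multiplicative.toAdd z = 0 := by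
      rw [nsmul_eq_mul]
      have : ((3 : ℕ) : ZMod 3) = 0 := by decide
      rw [this, zero_mul]
    exact congrArg Multiplicative.ofAdd h
  have h1 : (Equiv.Perm.sign (phi3 z)) ^ 3 = 1 := by
    rw [← map_pow, ← map_pow, hz, map_one, map_one]
  rcases Int.units_eq_one_or (Equiv.Perm.sign (phi3 z)) with h | h
  · exact h
  · rw [h] at h1
    exact absurd h1 (by decide)

theorem exists_max_alt (n : ℕ) (h3 : 3 ≤ n) (P : Subgroup (alternatingGroup (Fin (n - 3))))
    (hP : IsPGroup 2 P) :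
    ∃ M : Subgroup (alternatingGroup (Fin n)), Group.IsNilpotent M ∧
      Nat.card M = 3 * Nat.card P ∧ Nonempty (M ≃* (↥P × Multiplicative (ZMod 3))) := by
  classical
  let e : Fin (n - 3) ⊕ ZMod 3 ≃ Fin n :=
    ((Equiv.sumCongr (Equiv.refl _) (ZMod.finEquiv 3).toEquiv.symm).trans finSumFinEquiv).trans
      (finCongr (by omega))
  let ι : ↥P →* Equiv.Perm (Fin (n - 3)) := (alternatingGroup (Fin (n - 3))).subtype.comp P.subtype
  have hι : Function.Injective ι :=
    (alternatingGroup (Fin (n - 3))).subtype_injective.comp P.subtype_injective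
  let F₀ : ↥P × Multiplicative (ZMod 3) →* Equiv.Perm (Fin n) :=
    (e.permCongrHom.toMonoidHom).comp
      ((Equiv.Perm.sumCongrHom (Fin (n - 3)) (ZMod 3)).comp (MonoidHom.prodMap ι phi3))
  have hF₀ : Function.Injective F₀ := by
    apply e.permCongrHom.injective.comp
    apply Equiv.Perm.sumCongrHom_injective.comp
    rw [MonoidHom.coe_prodMap]
    exact Function.Injective.prodMap hι phi3_injective
  have hmem : ∀ x, F₀ x ∈ alternatingGroup (Fin n) := by
    rintro ⟨x, z⟩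
    rw [Equiv.Perm.mem_alternatingGroup]
    change Equiv.Perm.sign (e.permCongr (Equiv.Perm.sumCongr (ι x) (phi3 z))) = 1
    rw [Equiv.Perm.sign_permCongr, Equiv.Perm.sign_sumCongr, sign_phi3, mul_one]
    exact Equiv.Perm.mem_alternatingGroup.mp (x : alternatingGroup (Fin (n - 3))).2
  let F : ↥P × Multiplicative (ZMod 3) →* alternatingGroup (Fin n) :=
    F₀.codRestrict (alternatingGroup (Fin n)) hmem
  have hF : Function.Injective F := by
    intro a b hab
    exact hF₀ (congrArg Subtype.val hab)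
  let iso : (↥P × Multiplicative (ZMod 3)) ≃* F.range := MonoidHom.ofInjective hF
  have : Finite ↥P := inferInstance
  have hnP : Group.IsNilpotent P := hP.isNilpotent
  refine ⟨F.range, Group.nilpotent_of_mulEquiv iso, ?_, ⟨iso.symm⟩⟩
  rw [← Nat.card_congr iso.toEquiv, Nat.card_prod, mul_comm]
  congr 1
  rw [Nat.card_congr Multiplicative.toAdd, Nat.card_zmod]

theorem lift_conj {n : ℕ} (N₁ N₂ : Subgroup (alternatingGroup (Fin n)))
    (g : Equiv.Perm (Fin n)) (hg : Equiv.Perm.sign g = 1)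
    (h : N₂.map (alternatingGroup (Fin n)).subtype =
      (N₁.map (alternatingGroup (Fin n)).subtype).map (MulAut.conj g).toMonoidHom) :
    ∃ g' : alternatingGroup (Fin n), N₂ = N₁.map (MulAut.conj g').toMonoidHom := by
  refine ⟨⟨g, Equiv.Perm.mem_alternatingGroup.mpr hg⟩, ?_⟩
  apply Subgroup.map_injective (alternatingGroup (Fin n)).subtype_injective
  rw [h, Subgroup.map_map, Subgroup.map_map]
  congr 1

end Cfsg.Agent.Lib.Helper1.NAltMax
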