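import Mathlib
import Cfsg.Agent.Lib.Helper1.NilpotentAlt
import Cfsg.Agent.Lib.Helper1.NilpotentAltMax

set_option autoImplicit false


namespace Cfsg.Agent.Lib.Helper1.AbAlt

open Cfsg.Agent.Lib.Helper1.NSym Cfsg.Agent.Lib.Helper1.NAlt

/-- maximal order of an abelian subgroup of `S_n` -/
def G : ℕ → ℕ
  | 0 => 1 | 1 => 1 | 2 => 2 | 3 => 3 | 4 => 4
  | (n+5) => 3 * G (n+2)

/-- maximal order of an abelian subgroup of `A_n` -/
def F : ℕ → ℕ
  | 0 => 1 | 1 => 1 | 2 => 1 | 3 => 3 | 4 => 4 | 5 => 5 | 6 => 9 | 7 => 12 | 8 => 16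
  | (n+9) => 3 * F (n+6)

theorem G_add (n : ℕ) : G (n + 5) = 3 * G (n + 2) := by
  rw [G]

theorem F_add (n : ℕ) : F (n + 9) = 3 * F (n + 6) := by
  rw [F]

theorem G_add_three (n : ℕ) (hn : 2 ≤ n) : G (n + 3) = 3 * G n := by
  obtain ⟨k, rfl⟩ := Nat.exists_eq_add_of_le hn
  rw [show 2 + k + 3 = k + 5 by ring, G_add, add_comm]

theorem F_add_three (n : ℕ) (hn : 6 ≤ n) : F (n + 3) = 3 * F n := by
  obtain ⟨k, rfl⟩ := Nat.exists_eq_add_of_le hn
  rw [show 6 + k + 3 = k + 9 by ring, F_add, add_comm]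

theorem G_add_three_ge (n : ℕ) : 3 * G n ≤ G (n + 3) := by
  by_cases hn : 2 ≤ n
  · rw [G_add_three n hn]
  · have : n = 0 ∨ n = 1 := by omega
    rcases this with rfl | rfl <;> decide

theorem F_add_three_ge (n : ℕ) : 3 * F n ≤ F (n + 3) := by
  by_cases hn : 6 ≤ n
  · rw [F_add_three n hn]
  · have : n < 6 := by omega
    interval_cases n <;> decide

theorem G_pos (n : ℕ) : 0 < G n := by
  induction n using Nat.strong_induction_on with
  | _ n ih =>
    by_cases hn : n < 5
    · interval_cases n <;> decide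
    · obtain ⟨k, rfl⟩ := Nat.exists_eq_add_of_le (show 5 ≤ n by omega)
      rw [add_comm, G_add]
      have := ih (k + 2) (by omega)
      omega

theorem F_pos (n : ℕ) : 0 < F n := by
  induction n using Nat.strong_induction_on with
  | _ n ih =>
    by_cases hn : n < 9
    · interval_cases n <;> decide
    · obtain ⟨k, rfl⟩ := Nat.exists_eq_add_of_le (show 9 ≤ n by omega)
      rw [add_comm, F_add]
      have := ih (k + 6) (by omega)
      omega

theorem G_mul_le (a b : ℕ) : G a * G b ≤ G (a + b) := by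
  induction' h : a + b using Nat.strong_induction_on with s ih generalizing a b
  by_cases ha : 5 ≤ a
  · obtain ⟨k, rfl⟩ := Nat.exists_eq_add_of_le ha
    have h1 := ih (2 + k + b) (by omega) (2 + k) b rfl
    have h2 : G (5 + k) = 3 * G (2 + k) := by rw [add_comm, G_add, add_comm]
    have h3 := G_add_three_ge (2 + k + b)
    rw [← h, show 5 + k + b = 2 + k + b + 3 by ring, show 5 + k = 5 + k from rfl, h2]
    calc 3 * G (2 + k) * G b = 3 * (G (2 + k) * G b) := by ring
      _ ≤ 3 * G (2 + k + b) := Nat.mul_le_mul_left _ h1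
      _ ≤ _ := h3
  by_cases hb : 5 ≤ b
  · obtain ⟨k, rfl⟩ := Nat.exists_eq_add_of_le hb
    have h1 := ih (a + (2 + k)) (by omega) a (2 + k) rfl
    have h2 : G (5 + k) = 3 * G (2 + k) := by rw [add_comm, G_add, add_comm]
    have h3 := G_add_three_ge (a + (2 + k))
    rw [← h, show a + (5 + k) = a + (2 + k) + 3 by ring, h2]
    calc G a * (3 * G (2 + k)) = 3 * (G a * G (2 + k)) := by ring
      _ ≤ 3 * G (a + (2 + k)) := Nat.mul_le_mul_left _ h1
      _ ≤ _ := h3
  · have ha' : a < 5 := by omega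
    have hb' : b < 5 := by omega
    rw [← h]
    interval_cases a <;> interval_cases b <;> decide

theorem F_mul_le (a b : ℕ) : F a * F b ≤ F (a + b) := by
  induction' h : a + b using Nat.strong_induction_on with s ih generalizing a b
  by_cases ha : 9 ≤ a
  · obtain ⟨k, rfl⟩ := Nat.exists_eq_add_of_le ha
    have h1 := ih (6 + k + b) (by omega) (6 + k) b rfl
    have h2 : F (9 + k) = 3 * F (6 + k) := by rw [add_comm, F_add, add_comm]
    have h3 := F_add_three_ge (6 + k + b)
    rw [← h, show 9 + k + b = 6 + k + b + 3 by ring, h2]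
    calc 3 * F (6 + k) * F b = 3 * (F (6 + k) * F b) := by ring
      _ ≤ 3 * F (6 + k + b) := Nat.mul_le_mul_left _ h1
      _ ≤ _ := h3
  by_cases hb : 9 ≤ b
  · obtain ⟨k, rfl⟩ := Nat.exists_eq_add_of_le hb
    have h1 := ih (a + (6 + k)) (by omega) a (6 + k) rfl
    have h2 : F (9 + k) = 3 * F (6 + k) := by rw [add_comm, F_add, add_comm]
    have h3 := F_add_three_ge (a + (6 + k))
    rw [← h, show a + (9 + k) = a + (6 + k) + 3 by ring, h2]
    calc F a * (3 * F (6 + k)) = 3 * (F a * F (6 + k)) := by ring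
      _ ≤ 3 * F (a + (6 + k)) := Nat.mul_le_mul_left _ h1
      _ ≤ _ := h3
  · have ha' : a < 9 := by omega
    have hb' : b < 9 := by omega
    rw [← h]
    interval_cases a <;> interval_cases b <;> decide

theorem le_G (n : ℕ) : n ≤ G n := by
  induction n using Nat.strong_induction_on with
  | _ n ih =>
    by_cases hn : n < 5
    · interval_cases n <;> decide
    · obtain ⟨k, rfl⟩ := Nat.exists_eq_add_of_le (show 5 ≤ n by omega)
      rw [add_comm, G_add]
      have := ih (k + 2) (by omega)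
      omega

theorem lt_F (n : ℕ) (hn : 6 ≤ n) : n < F n := by
  induction n using Nat.strong_induction_on with
  | _ n ih =>
    by_cases hn9 : n < 9
    · interval_cases n <;> decide
    · obtain ⟨k, rfl⟩ := Nat.exists_eq_add_of_le (show 9 ≤ n by omega)
      rw [add_comm, F_add]
      have := ih (k + 6) (by omega) (by omega)
      omega

theorem le_F (n : ℕ) (hn : n ≠ 2) : n ≤ F n := by
  by_cases h6 : 6 ≤ n
  · exact (lt_F n h6).le
  · have : n < 6 := by omega
    interval_cases n <;> first | decide | exact absurd rfl hn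

theorem G_lt (n : ℕ) (hn : n ≠ 2) : G n < 2 * F n := by
  induction n using Nat.strong_induction_on with
  | _ n ih =>
    by_cases hn6 : n < 6
    · interval_cases n <;> first | decide | exact absurd rfl hn
    · obtain ⟨k, rfl⟩ := Nat.exists_eq_add_of_le (show 3 + 3 ≤ n by omega)
      have h1 := ih (3 + k) (by omega) (by omega)
      have h2 := G_add_three (3 + k) (by omega)
      have h3 := F_add_three_ge (3 + k)
      rw [show 3 + 3 + k = 3 + k + 3 by ring, h2]
      omega

theorem G_le (n : ℕ) : G n ≤ 2 * F n := by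
  by_cases hn : n = 2
  · subst hn; decide
  · exact (G_lt n hn).le

theorem F_lt_succ (n : ℕ) (hn : 2 ≤ n) : F n < F (n + 1) := by
  induction n using Nat.strong_induction_on with
  | _ n ih =>
    by_cases hn9 : n < 9
    · interval_cases n <;> decide
    · obtain ⟨k, rfl⟩ := Nat.exists_eq_add_of_le (show 9 ≤ n by omega)
      have h1 := ih (6 + k) (by omega) (by omega)
      have h2 := F_add_three (6 + k) (by omega)
      have h3 := F_add_three (6 + k + 1) (by omega)
      rw [show 9 + k = 6 + k + 3 by ring, h2, show 6 + k + 3 + 1 = 6 + k + 1 + 3 by ring, h3]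
      omega

theorem five_F (j : ℕ) (hj : 1 ≤ j) : 5 * F j < F (j + 5) := by
  induction j using Nat.strong_induction_on with
  | _ j ih =>
    by_cases hj9 : j < 9
    · interval_cases j <;> decide
    · obtain ⟨k, rfl⟩ := Nat.exists_eq_add_of_le (show 9 ≤ j by omega)
      have h1 := ih (6 + k) (by omega) (by omega)
      have h2 := F_add_three (6 + k) (by omega)
      have h3 := F_add_three (6 + k + 5) (by omega)
      rw [show 9 + k = 6 + k + 3 by ring, h2, show 6 + k + 3 + 5 = 6 + k + 5 + 3 by ring, h3]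
      omega

/-- the degrees for which the orbits of an abelian group of maximal order have size 3 or 4 -/
def Good (n : ℕ) : Prop := n ≠ 1 ∧ n ≠ 2 ∧ n ≠ 5

theorem tight (n m : ℕ) (hn : Good n) (hm1 : 1 ≤ m) (hmn : m ≤ n) (hmF : m ≤ F m)
    (h : F n = m * F (n - m)) : (m = 3 ∨ m = 4) ∧ Good (n - m) := by
  obtain ⟨hn1, hn2, hn5⟩ := hn
  have hpos := F_pos (n - m)
  by_cases hm6 : 6 ≤ m
  · exfalso
    have h1 := lt_F m hm6
    have h2 := F_mul_le m (n - m)
    rw [show m + (n - m) = n by omega] at h2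
    have h3 : m * F (n - m) < F m * F (n - m) := Nat.mul_lt_mul_of_pos_right h1 hpos
    omega
  · have hm' : m < 6 := by omega
    interval_cases m
    · exfalso
      have := F_lt_succ (n - 1) (by omega)
      rw [show n - 1 + 1 = n by omega] at this
      omega
    · exfalso; revert hmF; decide
    · refine ⟨Or.inl rfl, ?_, ?_, ?_⟩
      · intro h'
        have : n = 4 := by omega
        subst this; revert h; decide
      · intro h'
        have : n = 5 := by omega
        exact hn5 this
      · intro h'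
        have : n = 8 := by omega
        subst this; revert h; decide
    · refine ⟨Or.inr rfl, ?_, ?_, ?_⟩
      · intro h'
        have : n = 5 := by omega
        exact hn5 this
      · intro h'
        have : n = 6 := by omega
        subst this; revert h; decide
      · intro h'
        have : n = 9 := by omega
        subst this; revert h; decide
    · exfalso
      have h6 : 6 ≤ n := by omega
      have := five_F (n - 5) (by omega)
      rw [show n - 5 + 5 = n by omega] at this
      omega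

theorem tight_four (n : ℕ) (h4 : 4 ≤ n) (hn4 : n ≠ 4) (hn8 : n ≠ 8)
    (h : F n = 4 * F (n - 4)) : 3 ≤ n - 4 ∧ n - 4 ≠ 4 ∧ n - 4 ≠ 8 := by
  have h5 : n ≠ 5 := by rintro rfl; revert h; decide
  have h6 : n ≠ 6 := by rintro rfl; revert h; decide
  have h12 : n ≠ 12 := by rintro rfl; revert h; decide
  omega

theorem not_tight_three (n : ℕ) (hn : n = 4 ∨ n = 8) : F n ≠ 3 * F (n - 3) := by
  rcases hn with rfl | rfl <;> decide

open Cfsg.Agent.Lib.Helper1.NSym Cfsg.Agent.Lib.Helper1.NAlt

/-- In a transitive faithful action of an abelian group, point stabilizers are trivial. -/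
theorem eq_one_of_fixed {N Ω : Type} [Group N] [MulAction N Ω] [FaithfulSMul N Ω]
    (hc : ∀ a b : N, a * b = b * a) [MulAction.IsPretransitive N Ω] (g : N) (ω : Ω)
    (h : g • ω = ω) : g = 1 := by
  apply FaithfulSMul.eq_of_smul_eq_smul (α := Ω)
  intro x
  obtain ⟨k, rfl⟩ := MulAction.exists_smul_eq N ω x
  rw [one_smul, ← mul_smul, hc g k, mul_smul, h]

theorem card_eq_of_transitive {N Ω : Type} [Group N] [MulAction N Ω] [FaithfulSMul N Ω]
    (hc : ∀ a b : N, a * b = b * a) [MulAction.IsPretransitive N Ω] (ω : Ω) :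
    Nat.card N = Nat.card Ω := by
  apply Nat.card_eq_of_bijective (fun g : N => g • ω)
  constructor
  · intro a b hab
    have h1 : (b⁻¹ * a) • ω = ω := by
      rw [mul_smul]
      change b⁻¹ • (a • ω) = ω
      have : a • ω = b • ω := hab
      rw [this, inv_smul_smul]
    have h2 := eq_one_of_fixed hc (b⁻¹ * a) ω h1
    calc a = b * (b⁻¹ * a) := by group
      _ = b := by rw [h2, mul_one]
  · intro x
    exact MulAction.exists_smul_eq N ω x

theorem range_comm {N Ω : Type} [Group N] [MulAction N Ω] (hc : ∀ a b : N, a * b = b * a)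
    (S : SubMulAction N Ω) : ∀ a b : (MulAction.toPermHom N S).range, a * b = b * a := by
  rintro ⟨_, a, rfl⟩ ⟨_, b, rfl⟩
  apply Subtype.ext
  change (MulAction.toPermHom N S) a * (MulAction.toPermHom N S) b =
    (MulAction.toPermHom N S) b * (MulAction.toPermHom N S) a
  rw [← map_mul, ← map_mul, hc]

theorem range_finite {N Ω : Type} [Group N] [Finite N] [MulAction N Ω] (S : SubMulAction N Ω) :
    Finite (MulAction.toPermHom N S).range :=
  Finite.of_surjective _ (MulAction.toPermHom N S).rangeRestrict_surjective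

theorem range_smul {N Ω : Type} [Group N] [MulAction N Ω] (S : SubMulAction N Ω) (g : N) (s : S) :
    ((MulAction.toPermHom N S).rangeRestrict g) • s = g • s := rfl

theorem orbit_pretransitive {N Ω : Type} [Group N] [MulAction N Ω] (ω : Ω) :
    MulAction.IsPretransitive (MulAction.toPermHom N (orbitSub N ω)).range (orbitSub N ω) := by
  constructor
  rintro ⟨x, hx⟩ ⟨y, hy⟩
  obtain ⟨a, ha⟩ := hx
  obtain ⟨b, hb⟩ := hy
  refine ⟨(MulAction.toPermHom N (orbitSub N ω)).rangeRestrict (b * a⁻¹), ?_⟩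
  rw [range_smul]
  apply Subtype.ext
  change (b * a⁻¹) • x = y
  rw [← ha, ← hb]
  simp [mul_smul]

theorem card_range_orbit {N Ω : Type} [Group N] [MulAction N Ω]
    (hc : ∀ a b : N, a * b = b * a) (ω : Ω) :
    Nat.card (MulAction.toPermHom N (orbitSub N ω)).range = Nat.card (orbitSub N ω) := by
  have := orbit_pretransitive (N := N) ω
  exact card_eq_of_transitive (range_comm hc _) ⟨ω, MulAction.mem_orbit_self ω⟩

theorem card_le_G : ∀ (n : ℕ) (N Ω : Type) [Group N] [Finite N] [Finite Ω]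
    [MulAction N Ω] [FaithfulSMul N Ω], (∀ a b : N, a * b = b * a) → Nat.card Ω = n →
    Nat.card N ≤ G n := by
  intro n
  induction n using Nat.strong_induction_on with
  | _ n ih =>
  intro N Ω _ _ _ _ _ hc hcard
  by_cases hemp : IsEmpty Ω
  · have hsub : Subsingleton N := ⟨fun a b => FaithfulSMul.eq_of_smul_eq_smul (α := Ω)
      (fun x => (hemp.false x).elim)⟩
    rw [Nat.card_unique]
    exact G_pos n
  rw [not_isEmpty_iff] at hemp
  obtain ⟨ω⟩ := hemp
  by_cases htr : MulAction.IsPretransitive N Ω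
  · rw [card_eq_of_transitive hc ω, hcard]
    exact le_G n
  · have hx : ∃ x, x ∉ MulAction.orbit N ω := by
      by_contra hall
      push Not at hall
      exact htr ((MulAction.isPretransitive_iff_base ω).mpr (fun x => hall x))
    obtain ⟨x, hx⟩ := hx
    let S := orbitSub N ω
    let T := orbitComplSub N ω
    have hST : ∀ y, y ∈ S ∨ y ∈ T := fun y => by
      by_cases hy : y ∈ MulAction.orbit N ω
      · exact Or.inl hy
      · exact Or.inr hy
    have hle := card_le_of_cover S T hST
    have hcS : Nat.card S = (MulAction.orbit N ω).ncard := Nat.card_coe_set_eq _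
    have hcT : Nat.card T = (MulAction.orbit N ω)ᶜ.ncard := Nat.card_coe_set_eq _
    have hsum : Nat.card S + Nat.card T = n := by
      rw [hcS, hcT, Set.ncard_add_ncard_compl, hcard]
    have hSpos : 0 < Nat.card S := by
      have : Nonempty S := ⟨⟨ω, MulAction.mem_orbit_self ω⟩⟩
      exact Nat.card_pos
    have hTpos : 0 < Nat.card T := by
      have : Nonempty T := ⟨⟨x, hx⟩⟩
      exact Nat.card_pos
    have hfS := range_finite (N := N) S
    have hfT := range_finite (N := N) T
    have h1 := ih (Nat.card S) (by omega) (MulAction.toPermHom N S).range S (range_comm hc S) rfl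
    have h2 := ih (Nat.card T) (by omega) (MulAction.toPermHom N T).range T (range_comm hc T) rfl
    calc Nat.card N ≤ _ := hle
      _ ≤ G (Nat.card S) * G (Nat.card T) := Nat.mul_le_mul h1 h2
      _ ≤ G (Nat.card S + Nat.card T) := G_mul_le _ _
      _ = G n := by rw [hsum]

open Cfsg.Agent.Lib.Helper1.NSym Cfsg.Agent.Lib.Helper1.NAlt

/-- the embedding of a faithful group into the product of its two constituents -/
def emb {N Ω : Type} [Group N] [MulAction N Ω] (S T : SubMulAction N Ω) :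
    N → (MulAction.toPermHom N S).range × (MulAction.toPermHom N T).range :=
  fun g => ((MulAction.toPermHom N S).rangeRestrict g, (MulAction.toPermHom N T).rangeRestrict g)

theorem emb_injective {N Ω : Type} [Group N] [MulAction N Ω] [FaithfulSMul N Ω]
    (S T : SubMulAction N Ω) (hST : ∀ x, x ∈ S ∨ x ∈ T) : Function.Injective (emb S T) := by
  intro g g' hgg
  apply FaithfulSMul.eq_of_smul_eq_smul (α := Ω)
  intro x
  have h1 : (MulAction.toPermHom N S) g = (MulAction.toPermHom N S) g' :=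
    congrArg Subtype.val (congrArg Prod.fst hgg)
  have h2 : (MulAction.toPermHom N T) g = (MulAction.toPermHom N T) g' :=
    congrArg Subtype.val (congrArg Prod.snd hgg)
  rcases hST x with hx | hx
  · have := congrArg (fun σ => ((σ ⟨x, hx⟩ : S) : Ω)) h1
    simpa using this
  · have := congrArg (fun σ => ((σ ⟨x, hx⟩ : T) : Ω)) h2
    simpa using this

theorem two_mul_card_le {N Ω : Type} [Group N] [Finite N] [Finite Ω] [MulAction N Ω]
    [FaithfulSMul N Ω] (heven : EvenAct N Ω) (S T : SubMulAction N Ω)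
    (hTS : ∀ y, y ∈ T ↔ y ∉ S) (g₀ : N) (hg₀ : sgnHom S (MulAction.toPerm g₀) ≠ 1) :
    2 * Nat.card N ≤ Nat.card (MulAction.toPermHom N S).range *
      Nat.card (MulAction.toPermHom N T).range := by
  have hST : ∀ y, y ∈ S ∨ y ∈ T := fun y => by
    by_cases hy : y ∈ S
    · exact Or.inl hy
    · exact Or.inr ((hTS y).mpr hy)
  have hfS := range_finite (N := N) S
  have hfT := range_finite (N := N) T
  have hsplit := sgn_split S T hTS
  let N₁ := (MulAction.toPermHom N S).range
  let N₂ := (MulAction.toPermHom N T).range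
  let χ : N₁ × N₂ →* ℤˣ :=
    ((sgnHom S).comp N₁.subtype).coprod ((sgnHom T).comp N₂.subtype)
  have hfin : Finite (N₁ × N₂) := inferInstance
  let emb' : N → χ.ker := fun g =>
    ⟨emb S T g, by
      rw [MonoidHom.mem_ker]
      change sgnHom S (MulAction.toPerm g) * sgnHom T (MulAction.toPerm g) = 1
      rw [← hsplit g]
      exact heven g⟩
  have hemb : Function.Injective emb' := by
    intro g g' hgg
    exact emb_injective S T hST (congrArg Subtype.val hgg)
  have hle1 : Nat.card N ≤ Nat.card χ.ker := Nat.card_le_card_of_injective emb' hemb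
  have hne : χ.ker ≠ ⊤ := by
    intro htop
    have hmem : (((MulAction.toPermHom N S).rangeRestrict g₀, 1) : N₁ × N₂) ∈ χ.ker := by
      rw [htop]; trivial
    rw [MonoidHom.mem_ker] at hmem
    apply hg₀
    have : sgnHom S (MulAction.toPerm g₀) * sgnHom T (1 : Equiv.Perm T) = 1 := hmem
    rwa [map_one, mul_one] at this
  have hidx : 2 ≤ χ.ker.index := by
    have h1 : χ.ker.index ≠ 1 := fun h => hne (Subgroup.index_eq_one.mp h)
    have h0 : χ.ker.index ≠ 0 := Subgroup.index_ne_zero_of_finite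
    omega
  have hmul := Subgroup.card_mul_index χ.ker
  rw [Nat.card_prod] at hmul
  have hb6 : Nat.card χ.ker * 2 ≤ Nat.card N₁ * Nat.card N₂ := by
    rw [← hmul]; exact Nat.mul_le_mul_left _ hidx
  change 2 * Nat.card N ≤ Nat.card N₁ * Nat.card N₂
  omega

theorem evenAct_range {N Ω : Type} [Group N] [Finite Ω] [MulAction N Ω] (S : SubMulAction N Ω)
    (h : ∀ g : N, sgnHom S (MulAction.toPerm g) = 1) :
    EvenAct (MulAction.toPermHom N S).range S := by
  rintro ⟨σ, g, rfl⟩
  rw [toPerm_range_eq]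
  exact h g

theorem card_sum_orbit {N Ω : Type} [Group N] [Finite Ω] [MulAction N Ω] (ω : Ω) :
    Nat.card (orbitSub N ω) + Nat.card (orbitComplSub N ω) = Nat.card Ω := by
  have hcS : Nat.card (orbitSub N ω) = (MulAction.orbit N ω).ncard := Nat.card_coe_set_eq _
  have hcT : Nat.card (orbitComplSub N ω) = (MulAction.orbit N ω)ᶜ.ncard := Nat.card_coe_set_eq _
  rw [hcS, hcT, Set.ncard_add_ncard_compl]

theorem card_le_F : ∀ (n : ℕ) (N Ω : Type) [Group N] [Finite N] [Finite Ω]
    [MulAction N Ω] [FaithfulSMul N Ω], (∀ a b : N, a * b = b * a) → EvenAct N Ω →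
    Nat.card Ω = n → Nat.card N ≤ F n := by
  intro n
  induction n using Nat.strong_induction_on with
  | _ n ih =>
  intro N Ω _ _ _ _ _ hc heven hcard
  by_cases hemp : IsEmpty Ω
  · have hsub : Subsingleton N := ⟨fun a b => FaithfulSMul.eq_of_smul_eq_smul (α := Ω)
      (fun x => (hemp.false x).elim)⟩
    rw [Nat.card_unique]
    exact F_pos n
  rw [not_isEmpty_iff] at hemp
  obtain ⟨ω⟩ := hemp
  by_cases htr : MulAction.IsPretransitive N Ω
  · by_cases hn2 : n = 2
    · classical
      have : Fintype Ω := Fintype.ofFinite Ω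
      have hnt : Nontrivial Ω := by
        rw [← Finite.one_lt_card_iff_nontrivial, hcard]; omega
      let f : N →* alternatingGroup Ω :=
        (MulAction.toPermHom N Ω).codRestrict _ (fun g => by
          rw [Equiv.Perm.mem_alternatingGroup, ← sgnHom_eq]
          exact heven g)
      have hf : Function.Injective f := by
        intro a b hab
        have := congrArg Subtype.val hab
        exact MulAction.toPerm_injective this
      have h1 := Nat.card_le_card_of_injective f hf
      have h2 := two_mul_nat_card_alternatingGroup (α := Ω)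
      rw [Nat.card_perm, hcard, hn2] at h2
      have h3 : Nat.card (alternatingGroup Ω) = 1 := by
        have : (2 : ℕ).factorial = 2 := rfl
        omega
      rw [h3] at h1
      exact h1.trans (F_pos n)
    · rw [card_eq_of_transitive hc ω, hcard]
      exact le_F n hn2
  · have hx : ∃ x, x ∉ MulAction.orbit N ω := by
      by_contra hall
      push Not at hall
      exact htr ((MulAction.isPretransitive_iff_base ω).mpr (fun x => hall x))
    obtain ⟨x, hx⟩ := hx
    let S := orbitSub N ω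
    let T := orbitComplSub N ω
    have hTS : ∀ y, y ∈ T ↔ y ∉ S := fun y => Iff.rfl
    have hST : ∀ y, y ∈ S ∨ y ∈ T := fun y => by
      by_cases hy : y ∈ MulAction.orbit N ω
      · exact Or.inl hy
      · exact Or.inr hy
    have hsum : Nat.card S + Nat.card T = n := by
      rw [← hcard]; exact card_sum_orbit ω
    have hSpos : 0 < Nat.card S := by
      have : Nonempty S := ⟨⟨ω, MulAction.mem_orbit_self ω⟩⟩
      exact Nat.card_pos
    have hTpos : 0 < Nat.card T := by
      have : Nonempty T := ⟨⟨x, hx⟩⟩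
      exact Nat.card_pos
    have hfS := range_finite (N := N) S
    have hfT := range_finite (N := N) T
    have hsplit := sgn_split S T hTS
    by_cases hcase : ∀ g : N, sgnHom S (MulAction.toPerm g) = 1
    · have hcaseT : ∀ g : N, sgnHom T (MulAction.toPerm g) = 1 := by
        intro g
        have := hsplit g
        rw [heven g, hcase g, one_mul] at this
        exact this.symm
      have h1 := ih (Nat.card S) (by omega) (MulAction.toPermHom N S).range S (range_comm hc S)
        (evenAct_range S hcase) rfl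
      have h2 := ih (Nat.card T) (by omega) (MulAction.toPermHom N T).range T (range_comm hc T)
        (evenAct_range T hcaseT) rfl
      calc Nat.card N ≤ _ := card_le_of_cover S T hST
        _ ≤ F (Nat.card S) * F (Nat.card T) := Nat.mul_le_mul h1 h2
        _ ≤ F (Nat.card S + Nat.card T) := F_mul_le _ _
        _ = F n := by rw [hsum]
    · push Not at hcase
      obtain ⟨g₀, hg₀⟩ := hcase
      have h0 := two_mul_card_le heven S T hTS g₀ hg₀
      have hb1 := card_le_G (Nat.card S) (MulAction.toPermHom N S).range S (range_comm hc S) rfl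
      have hb2 := card_le_G (Nat.card T) (MulAction.toPermHom N T).range T (range_comm hc T) rfl
      have hb3 := G_mul_le (Nat.card S) (Nat.card T)
      rw [hsum] at hb3
      have hb4 := G_le n
      have hb5 := Nat.mul_le_mul hb1 hb2
      omega

open Cfsg.Agent.Lib.Helper1.NSym Cfsg.Agent.Lib.Helper1.NAlt

theorem orbit_data {N Ω : Type} [Group N] [Finite N] [Finite Ω] [MulAction N Ω] [FaithfulSMul N Ω]
    (hc : ∀ a b : N, a * b = b * a) (heven : EvenAct N Ω) (n : ℕ) (hcard : Nat.card Ω = n)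
    (hmax : Nat.card N = F n) (hn : Good n) (ω : Ω) :
    (∀ g : N, sgnHom (orbitSub N ω) (MulAction.toPerm g) = 1) ∧
    (∀ g : N, sgnHom (orbitComplSub N ω) (MulAction.toPerm g) = 1) ∧
    (Nat.card (orbitSub N ω) = 3 ∨ Nat.card (orbitSub N ω) = 4) ∧
    Nat.card (MulAction.toPermHom N (orbitSub N ω)).range = Nat.card (orbitSub N ω) ∧
    Nat.card (MulAction.toPermHom N (orbitComplSub N ω)).range = F (n - Nat.card (orbitSub N ω)) ∧
    Nat.card (orbitComplSub N ω) = n - Nat.card (orbitSub N ω) ∧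
    Good (n - Nat.card (orbitSub N ω)) ∧
    F n = Nat.card (orbitSub N ω) * F (n - Nat.card (orbitSub N ω)) ∧
    Function.Bijective (emb (orbitSub N ω) (orbitComplSub N ω)) := by
  set S := orbitSub N ω with hS
  set T := orbitComplSub N ω with hT
  have hTS : ∀ y, y ∈ T ↔ y ∉ S := fun y => Iff.rfl
  have hST : ∀ y, y ∈ S ∨ y ∈ T := fun y => by
    by_cases hy : y ∈ MulAction.orbit N ω
    · exact Or.inl hy
    · exact Or.inr hy
  have hsum : Nat.card S + Nat.card T = n := by
    rw [← hcard]; exact card_sum_orbit ω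
  have hSpos : 0 < Nat.card S := by
    have : Nonempty S := ⟨⟨ω, MulAction.mem_orbit_self ω⟩⟩
    exact Nat.card_pos
  have hfS := range_finite (N := N) S
  have hfT := range_finite (N := N) T
  have hsplit := sgn_split S T hTS
  have hcase : ∀ g : N, sgnHom S (MulAction.toPerm g) = 1 := by
    by_contra hcase
    push Not at hcase
    obtain ⟨g₀, hg₀⟩ := hcase
    have h0 := two_mul_card_le heven S T hTS g₀ hg₀
    have hb1 := card_le_G (Nat.card S) (MulAction.toPermHom N S).range S (range_comm hc S) rfl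
    have hb2 := card_le_G (Nat.card T) (MulAction.toPermHom N T).range T (range_comm hc T) rfl
    have hb3 := G_mul_le (Nat.card S) (Nat.card T)
    rw [hsum] at hb3
    have hb4 := G_lt n hn.2.1
    have hb5 := Nat.mul_le_mul hb1 hb2
    omega
  have hcaseT : ∀ g : N, sgnHom T (MulAction.toPerm g) = 1 := by
    intro g
    have := hsplit g
    rw [heven g, hcase g, one_mul] at this
    exact this.symm
  have hNS : Nat.card (MulAction.toPermHom N S).range = Nat.card S := card_range_orbit hc ω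
  have h1 := card_le_F (Nat.card S) (MulAction.toPermHom N S).range S (range_comm hc S)
    (evenAct_range S hcase) rfl
  have h2 := card_le_F (Nat.card T) (MulAction.toPermHom N T).range T (range_comm hc T)
    (evenAct_range T hcaseT) rfl
  have hTn : Nat.card T = n - Nat.card S := by omega
  rw [hTn] at h2
  rw [hNS] at h1
  have h3 := card_le_of_cover S T hST
  rw [hmax, hNS] at h3
  have h4 := F_mul_le (Nat.card S) (n - Nat.card S)
  rw [show Nat.card S + (n - Nat.card S) = n by omega] at h4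
  have h5 : Nat.card S * Nat.card (MulAction.toPermHom N T).range ≤
      Nat.card S * F (n - Nat.card S) := Nat.mul_le_mul_left _ h2
  have h6 : Nat.card S * F (n - Nat.card S) ≤ F (Nat.card S) * F (n - Nat.card S) :=
    Nat.mul_le_mul_right _ h1
  have h7 : F n = Nat.card S * F (n - Nat.card S) := by omega
  have h8 : Nat.card S * Nat.card (MulAction.toPermHom N T).range =
      Nat.card S * F (n - Nat.card S) := by omega
  have h9 : Nat.card (MulAction.toPermHom N T).range = F (n - Nat.card S) :=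
    Nat.eq_of_mul_eq_mul_left hSpos h8
  have h10 := tight n (Nat.card S) hn hSpos (by omega) h1 h7
  refine ⟨hcase, hcaseT, h10.1, hNS, h9, hTn, h10.2, h7, ?_⟩
  apply Function.Injective.bijective_of_nat_card_le (emb_injective S T hST)
  rw [Nat.card_prod, hNS, h9, ← h7, hmax]

open Cfsg.Agent.Lib.Helper1.NSym Cfsg.Agent.Lib.Helper1.NAlt

theorem orbit_range_card {N Ω : Type} [Group N] [MulAction N Ω] (T : SubMulAction N Ω) (t : T) :
    Nat.card (orbitSub (MulAction.toPermHom N T).range t) = Nat.card (orbitSub N (t : Ω)) := by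
  have h1 : Nat.card (orbitSub (MulAction.toPermHom N T).range t) =
      (MulAction.orbit (MulAction.toPermHom N T).range t).ncard := Nat.card_coe_set_eq _
  have h2 : Nat.card (orbitSub N (t : Ω)) = (MulAction.orbit N (t : Ω)).ncard :=
    Nat.card_coe_set_eq _
  have h3 : MulAction.orbit N (t : Ω) =
      Subtype.val '' (MulAction.orbit (MulAction.toPermHom N T).range t) := by
    ext z
    constructor
    · rintro ⟨g, rfl⟩
      refine ⟨g • t, ⟨(MulAction.toPermHom N T).rangeRestrict g, rfl⟩, rfl⟩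
    · rintro ⟨y, ⟨⟨_, g, rfl⟩, rfl⟩, rfl⟩
      exact ⟨g, rfl⟩
  rw [h1, h2, h3, Set.ncard_image_of_injective _ Subtype.val_injective]

/-- the size of the orbit we split off in degree `n` -/
def msize (n : ℕ) : ℕ := if n = 4 ∨ n = 8 then 4 else 3

theorem exists_orbit : ∀ (n : ℕ) (N Ω : Type) [Group N] [Finite N] [Finite Ω]
    [MulAction N Ω] [FaithfulSMul N Ω], (∀ a b : N, a * b = b * a) → EvenAct N Ω →
    Nat.card Ω = n → Nat.card N = F n → Good n → 3 ≤ n →
    ∃ x : Ω, Nat.card (orbitSub N x) = msize n := by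
  intro n
  induction n using Nat.strong_induction_on with
  | _ n ih =>
  intro N Ω _ _ _ _ _ hc heven hcard hmax hn h3
  have hne : Nonempty Ω := by
    rw [← Finite.card_pos_iff, hcard]; omega
  obtain ⟨ω⟩ := hne
  obtain ⟨hcase, hcaseT, hm, hNS, hNT, hTn, hgood, htight, -⟩ :=
    orbit_data hc heven n hcard hmax hn ω
  by_cases h48 : n = 4 ∨ n = 8
  · refine ⟨ω, ?_⟩
    rw [msize, if_pos h48]
    rcases hm with hm | hm
    · exfalso
      rw [hm] at htight
      exact not_tight_three n h48 htight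
    · exact hm
  · rcases hm with hm | hm
    · exact ⟨ω, by rw [msize, if_neg h48]; exact hm⟩
    · push Not at h48
      rw [hm] at htight hTn hNT hgood
      have h4n : 4 ≤ n := by
        have := card_sum_orbit (N := N) ω
        omega
      obtain ⟨ha, hb, hc'⟩ := tight_four n h4n h48.1 h48.2 htight
      have hfT := range_finite (N := N) (orbitComplSub N ω)
      obtain ⟨t, ht⟩ := ih (n - 4) (by omega) (MulAction.toPermHom N (orbitComplSub N ω)).range
        (orbitComplSub N ω) (range_comm hc _) (evenAct_range _ hcaseT) hTn hNT hgood ha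
      refine ⟨(t : Ω), ?_⟩
      have e1 : msize n = 3 := by
        rw [msize, if_neg]; push Not; exact h48
      have e2 : msize (n - 4) = 3 := by
        rw [msize, if_neg]; push Not; exact ⟨hb, hc'⟩
      rw [← orbit_range_card, ht, e1, e2]
      

open Cfsg.Agent.Lib.Helper1.NSym Cfsg.Agent.Lib.Helper1.NAlt

theorem card_V_fin3 : (Finset.univ.filter (fun τ : Equiv.Perm (Fin 3) =>
    Equiv.Perm.sign τ = 1 ∧ (τ = 1 ∨ ∀ x, τ x ≠ x))).card = 3 := by decide

theorem card_V_fin4 : (Finset.univ.filter (fun τ : Equiv.Perm (Fin 4) =>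
    Equiv.Perm.sign τ = 1 ∧ (τ = 1 ∨ ∀ x, τ x ≠ x))).card = 4 := by decide

/-- even permutations which are trivial or fixed-point-free -/
def VV (X : Type) [Finite X] : Set (Equiv.Perm X) :=
  {τ | sgnHom X τ = 1 ∧ (τ = 1 ∨ ∀ x, τ x ≠ x)}

theorem permCongr_mem_VV {X Y : Type} [Finite X] [Finite Y] (f : X ≃ Y) (τ : Equiv.Perm X)
    (h : τ ∈ VV X) : f.permCongr τ ∈ VV Y := by
  classical
  have : Fintype X := Fintype.ofFinite X
  have : Fintype Y := Fintype.ofFinite Y
  obtain ⟨h1, h2⟩ := h
  rw [sgnHom_eq] at h1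
  refine ⟨?_, ?_⟩
  · rw [sgnHom_eq, Equiv.Perm.sign_permCongr, h1]
  · rcases h2 with rfl | h2
    · left
      ext y
      simp
    · right
      intro y hy
      rw [Equiv.permCongr_apply] at hy
      apply h2 (f.symm y)
      exact f.injective (by rw [hy, Equiv.apply_symm_apply])

theorem ncard_VV_le {X : Type} [Finite X] (hX : Nat.card X = 3 ∨ Nat.card X = 4) :
    (VV X).ncard ≤ Nat.card X := by
  classical
  have key : ∀ k : ℕ, Nat.card X = k → (Finset.univ.filter (fun τ : Equiv.Perm (Fin k) =>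
      Equiv.Perm.sign τ = 1 ∧ (τ = 1 ∨ ∀ x, τ x ≠ x))).card = k → (VV X).ncard ≤ k := by
    intro k hk hcard
    let f : X ≃ Fin k := Finite.equivFinOfCardEq hk
    have h1 : (f.permCongr '' VV X).ncard = (VV X).ncard :=
      Set.ncard_image_of_injective _ f.permCongr.injective
    have h2 : f.permCongr '' VV X ⊆ ((Finset.univ.filter (fun τ : Equiv.Perm (Fin k) =>
        Equiv.Perm.sign τ = 1 ∧ (τ = 1 ∨ ∀ x, τ x ≠ x)) : Finset _) : Set (Equiv.Perm (Fin k))) := by
      rintro _ ⟨τ, hτ, rfl⟩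
      have := permCongr_mem_VV f τ hτ
      obtain ⟨h3, h4⟩ := this
      rw [sgnHom_eq] at h3
      simp only [Finset.coe_filter, Finset.mem_univ, true_and, Set.mem_ofPred_eq]
      exact ⟨h3, h4⟩
    have h3 := Set.ncard_le_ncard h2 (Finset.finite_toSet _)
    rw [Set.ncard_coe_finset, hcard, h1] at h3
    exact h3
  rcases hX with h | h
  · rw [h]; exact key 3 h card_V_fin3
  · rw [h]; exact key 4 h card_V_fin4

theorem mem_of_VV {X : Type} [Finite X] (hX : Nat.card X = 3 ∨ Nat.card X = 4)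
    (H : Subgroup (Equiv.Perm X)) (hH : Nat.card H = Nat.card X)
    (hHV : ∀ h ∈ H, h ∈ VV X) (τ : Equiv.Perm X) (hτ : τ ∈ VV X) : τ ∈ H := by
  have h1 : (H : Set (Equiv.Perm X)) ⊆ VV X := hHV
  have h2 : (VV X).ncard ≤ (H : Set (Equiv.Perm X)).ncard := by
    have : (H : Set (Equiv.Perm X)).ncard = Nat.card H := (Nat.card_coe_set_eq _).symm
    rw [this, hH]
    exact ncard_VV_le hX
  have h3 := Set.eq_of_subset_of_ncard_le h1 h2 (Set.toFinite _)
  have : τ ∈ (H : Set (Equiv.Perm X)) := by rw [h3]; exact hτ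
  exact this

open Cfsg.Agent.Lib.Helper1.NSym Cfsg.Agent.Lib.Helper1.NAlt

/-- the constituent of an abelian group on an orbit consists of even permutations which are
trivial or fixed-point-free -/
theorem toPermHom_mem_VV {N Ω : Type} [Group N] [Finite Ω] [MulAction N Ω]
    (hc : ∀ a b : N, a * b = b * a) (ω : Ω)
    (hcase : ∀ g : N, sgnHom (orbitSub N ω) (MulAction.toPerm g) = 1) (g : N) :
    MulAction.toPermHom N (orbitSub N ω) g ∈ VV (orbitSub N ω) := by
  refine ⟨hcase g, ?_⟩
  by_cases h : ∃ s : orbitSub N ω, MulAction.toPermHom N (orbitSub N ω) g s = s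
  · left
    obtain ⟨s, hs⟩ := h
    have := orbit_pretransitive (N := N) ω
    have h1 := eq_one_of_fixed (range_comm hc (orbitSub N ω))
      ((MulAction.toPermHom N (orbitSub N ω)).rangeRestrict g) s hs
    exact congrArg Subtype.val h1
  · right
    push Not at h
    exact h

theorem range_mem_VV {N Ω : Type} [Group N] [Finite Ω] [MulAction N Ω]
    (hc : ∀ a b : N, a * b = b * a) (ω : Ω)
    (hcase : ∀ g : N, sgnHom (orbitSub N ω) (MulAction.toPerm g) = 1) :
    ∀ h ∈ (MulAction.toPermHom N (orbitSub N ω)).range, h ∈ VV (orbitSub N ω) := by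
  rintro _ ⟨g, rfl⟩
  exact toPermHom_mem_VV hc ω hcase g

/-- `e` conjugates the action of `N` into that of `N'` -/
def Conj (N Ω N' Ω' : Type) [Group N] [MulAction N Ω] [Group N'] [MulAction N' Ω']
    (e : Ω ≃ Ω') : Prop :=
  ∀ g : N, ∃ g' : N', ∀ x, e (g • x) = g' • e x

/-- glue bijections on two complementary invariant subsets -/
noncomputable def glue {N Ω N' Ω' : Type} [Group N] [MulAction N Ω] [Group N'] [MulAction N' Ω']
    (S T : SubMulAction N Ω) (S' T' : SubMulAction N' Ω')
    (hTS : ∀ y, y ∈ T ↔ y ∉ S) (hTS' : ∀ y, y ∈ T' ↔ y ∉ S')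
    (eS : S ≃ S') (eT : T ≃ T') : Ω ≃ Ω' := by
  classical
  exact
  { toFun := fun x => if h : x ∈ S then (eS ⟨x, h⟩ : Ω') else (eT ⟨x, (hTS x).mpr h⟩ : Ω')
    invFun := fun y => if h : y ∈ S' then (eS.symm ⟨y, h⟩ : Ω) else (eT.symm ⟨y, (hTS' y).mpr h⟩ : Ω)
    left_inv := by
      intro x
      by_cases h : x ∈ S
      · simp only [dif_pos h]
        rw [dif_pos (eS ⟨x, h⟩).2]
        simp
      · simp only [dif_neg h]
        have h' : ((eT ⟨x, (hTS x).mpr h⟩ : T') : Ω') ∉ S' :=
          (hTS' _).mp (eT ⟨x, (hTS x).mpr h⟩).2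
        rw [dif_neg h']
        simp
    right_inv := by
      intro y
      by_cases h : y ∈ S'
      · simp only [dif_pos h]
        rw [dif_pos (eS.symm ⟨y, h⟩).2]
        simp
      · simp only [dif_neg h]
        have h' : ((eT.symm ⟨y, (hTS' y).mpr h⟩ : T) : Ω) ∉ S :=
          (hTS _).mp (eT.symm ⟨y, (hTS' y).mpr h⟩).2
        rw [dif_neg h']
        simp }

theorem glue_S {N Ω N' Ω' : Type} [Group N] [MulAction N Ω] [Group N'] [MulAction N' Ω']
    (S T : SubMulAction N Ω) (S' T' : SubMulAction N' Ω')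
    (hTS : ∀ y, y ∈ T ↔ y ∉ S) (hTS' : ∀ y, y ∈ T' ↔ y ∉ S')
    (eS : S ≃ S') (eT : T ≃ T') (x : S) :
    glue S T S' T' hTS hTS' eS eT (x : Ω) = (eS x : Ω') := by
  classical
  change (if h : (x : Ω) ∈ S then (eS ⟨x, h⟩ : Ω') else (eT ⟨x, (hTS x).mpr h⟩ : Ω')) = _
  rw [dif_pos x.2]

theorem glue_T {N Ω N' Ω' : Type} [Group N] [MulAction N Ω] [Group N'] [MulAction N' Ω']
    (S T : SubMulAction N Ω) (S' T' : SubMulAction N' Ω')
    (hTS : ∀ y, y ∈ T ↔ y ∉ S) (hTS' : ∀ y, y ∈ T' ↔ y ∉ S')
    (eS : S ≃ S') (eT : T ≃ T') (x : T) :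
    glue S T S' T' hTS hTS' eS eT (x : Ω) = (eT x : Ω') := by
  classical
  change (if h : (x : Ω) ∈ S then (eS ⟨x, h⟩ : Ω') else (eT ⟨x, (hTS x).mpr h⟩ : Ω')) = _
  rw [dif_neg ((hTS _).mp x.2)]

theorem orbit_hTS {N Ω : Type} [Group N] [MulAction N Ω] (ω : Ω) :
    ∀ y, y ∈ orbitComplSub N ω ↔ y ∉ orbitSub N ω := fun _ => Iff.rfl

theorem glue_conj {N Ω N' Ω' : Type} [Group N] [Finite N] [Finite Ω] [MulAction N Ω]
    [FaithfulSMul N Ω] [Group N'] [Finite N'] [Finite Ω'] [MulAction N' Ω'] [FaithfulSMul N' Ω']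
    (hc : ∀ a b : N, a * b = b * a) (hc' : ∀ a b : N', a * b = b * a)
    (heven : EvenAct N Ω) (heven' : EvenAct N' Ω') (n : ℕ)
    (hcard : Nat.card Ω = n) (hcard' : Nat.card Ω' = n)
    (hmax : Nat.card N = F n) (hmax' : Nat.card N' = F n) (hn : Good n) (ω : Ω) (ω' : Ω')
    (eS : orbitSub N ω ≃ orbitSub N' ω') (eT : orbitComplSub N ω ≃ orbitComplSub N' ω')
    (hT : Conj (MulAction.toPermHom N (orbitComplSub N ω)).range (orbitComplSub N ω)
      (MulAction.toPermHom N' (orbitComplSub N' ω')).range (orbitComplSub N' ω') eT) :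
    Conj N Ω N' Ω' (glue (orbitSub N ω) (orbitComplSub N ω) (orbitSub N' ω') (orbitComplSub N' ω')
      (orbit_hTS ω) (orbit_hTS ω') eS eT) := by
  obtain ⟨hcase, -, -, -, -, -, -, -, -⟩ := orbit_data hc heven n hcard hmax hn ω
  obtain ⟨hcase', -, hm', hNS', -, -, -, -, hbij'⟩ := orbit_data hc' heven' n hcard' hmax' hn ω'
  intro g
  -- the S-part
  have h1 := toPermHom_mem_VV hc ω hcase g
  have h2 := permCongr_mem_VV eS _ h1
  have h3 := mem_of_VV hm' _ hNS' (range_mem_VV hc' ω' hcase') _ h2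
  -- the T-part
  obtain ⟨h', hh'⟩ := hT ((MulAction.toPermHom N (orbitComplSub N ω)).rangeRestrict g)
  obtain ⟨g', hg'⟩ := hbij'.2 (⟨_, h3⟩, h')
  have e1 : MulAction.toPermHom N' (orbitSub N' ω') g' =
      eS.permCongr (MulAction.toPermHom N (orbitSub N ω) g) :=
    congrArg Subtype.val (congrArg Prod.fst hg')
  have e2 : (MulAction.toPermHom N' (orbitComplSub N' ω')).rangeRestrict g' = h' :=
    congrArg Prod.snd hg'
  refine ⟨g', ?_⟩
  intro x
  by_cases hx : x ∈ orbitSub N ω
  · have hgx : g • x ∈ orbitSub N ω := (orbitSub N ω).smul_mem g hx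
    have a1 := glue_S (orbitSub N ω) (orbitComplSub N ω) (orbitSub N' ω') (orbitComplSub N' ω')
      (orbit_hTS ω) (orbit_hTS ω') eS eT ⟨g • x, hgx⟩
    have a2 := glue_S (orbitSub N ω) (orbitComplSub N ω) (orbitSub N' ω') (orbitComplSub N' ω')
      (orbit_hTS ω) (orbit_hTS ω') eS eT ⟨x, hx⟩
    change glue _ _ _ _ _ _ eS eT (g • x) = _ at a1
    change glue _ _ _ _ _ _ eS eT x = _ at a2
    rw [a1, a2]
    have a3 := congrArg (fun σ => ((σ (eS ⟨x, hx⟩) : orbitSub N' ω') : Ω')) e1
    simp only [Equiv.permCongr_apply, Equiv.symm_apply_apply] at a3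
    exact a3.symm
  · have hxT : x ∈ orbitComplSub N ω := hx
    have hgx : g • x ∈ orbitComplSub N ω := (orbitComplSub N ω).smul_mem g hxT
    have a1 := glue_T (orbitSub N ω) (orbitComplSub N ω) (orbitSub N' ω') (orbitComplSub N' ω')
      (orbit_hTS ω) (orbit_hTS ω') eS eT ⟨g • x, hgx⟩
    have a2 := glue_T (orbitSub N ω) (orbitComplSub N ω) (orbitSub N' ω') (orbitComplSub N' ω')
      (orbit_hTS ω) (orbit_hTS ω') eS eT ⟨x, hxT⟩
    change glue _ _ _ _ _ _ eS eT (g • x) = _ at a1
    change glue _ _ _ _ _ _ eS eT x = _ at a2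
    rw [a1, a2]
    have a3 := hh' ⟨x, hxT⟩
    rw [← e2] at a3
    exact congrArg Subtype.val a3

open Cfsg.Agent.Lib.Helper1.NSym Cfsg.Agent.Lib.Helper1.NAlt

/-- the conjugacy statement in degree `n` -/
def ConjStmt (n : ℕ) : Prop :=
  ∀ (N Ω N' Ω' : Type) [Group N] [Finite N] [Finite Ω] [MulAction N Ω]
    [FaithfulSMul N Ω] [Group N'] [Finite N'] [Finite Ω'] [MulAction N' Ω'] [FaithfulSMul N' Ω'],
    (∀ a b : N, a * b = b * a) → (∀ a b : N', a * b = b * a) →
    EvenAct N Ω → EvenAct N' Ω' → Nat.card Ω = n → Nat.card Ω' = n →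
    Nat.card N = F n → Nat.card N' = F n → Good n → ∃ e : Ω ≃ Ω', Conj N Ω N' Ω' e

theorem conj_data {N Ω N' Ω' : Type} [Group N] [Finite N] [Finite Ω] [MulAction N Ω]
    [FaithfulSMul N Ω] [Group N'] [Finite N'] [Finite Ω'] [MulAction N' Ω'] [FaithfulSMul N' Ω']
    (hc : ∀ a b : N, a * b = b * a) (hc' : ∀ a b : N', a * b = b * a)
    (heven : EvenAct N Ω) (heven' : EvenAct N' Ω') (n : ℕ)
    (hcard : Nat.card Ω = n) (hcard' : Nat.card Ω' = n)
    (hmax : Nat.card N = F n) (hmax' : Nat.card N' = F n) (hn : Good n) (h3 : 3 ≤ n)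
    (ih : ∀ k < n, ConjStmt k) :
    ∃ (ω : Ω) (ω' : Ω') (eT : orbitComplSub N ω ≃ orbitComplSub N' ω'),
      Nat.card (orbitSub N ω) = Nat.card (orbitSub N' ω') ∧ 3 ≤ Nat.card (orbitSub N ω) ∧
      Conj (MulAction.toPermHom N (orbitComplSub N ω)).range (orbitComplSub N ω)
        (MulAction.toPermHom N' (orbitComplSub N' ω')).range (orbitComplSub N' ω') eT := by
  obtain ⟨ω, hω⟩ := exists_orbit n N Ω hc heven hcard hmax hn h3
  obtain ⟨ω', hω'⟩ := exists_orbit n N' Ω' hc' heven' hcard' hmax' hn h3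
  obtain ⟨-, hcaseT, hm, -, hNT, hTn, hgood, -, -⟩ := orbit_data hc heven n hcard hmax hn ω
  obtain ⟨-, hcaseT', -, -, hNT', hTn', -, -, -⟩ := orbit_data hc' heven' n hcard' hmax' hn ω'
  rw [hω] at hNT hTn hgood
  rw [hω'] at hNT' hTn'
  have hm3 : 3 ≤ msize n := by
    unfold msize; split_ifs <;> omega
  have hfT := range_finite (N := N) (orbitComplSub N ω)
  have hfT' := range_finite (N := N') (orbitComplSub N' ω')
  obtain ⟨eT, heT⟩ := ih (n - msize n) (by omega)
    (MulAction.toPermHom N (orbitComplSub N ω)).range (orbitComplSub N ω)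
    (MulAction.toPermHom N' (orbitComplSub N' ω')).range (orbitComplSub N' ω')
    (range_comm hc _) (range_comm hc' _) (evenAct_range _ hcaseT) (evenAct_range _ hcaseT')
    hTn hTn' hNT hNT' hgood
  exact ⟨ω, ω', eT, by rw [hω, hω'], by rw [hω]; exact hm3, heT⟩

theorem exists_conj (n : ℕ) : ConjStmt n := by
  induction n using Nat.strong_induction_on with
  | _ n ih =>
  intro N Ω N' Ω' _ _ _ _ _ _ _ _ _ _ hc hc' heven heven' hcard hcard' hmax hmax' hn
  by_cases h0 : n = 0
  · subst h0
    have h1 : IsEmpty Ω := by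
      rw [← not_nonempty_iff, ← Finite.card_pos_iff, hcard]; omega
    have h2 : IsEmpty Ω' := by
      rw [← not_nonempty_iff, ← Finite.card_pos_iff, hcard']; omega
    exact ⟨Equiv.equivOfIsEmpty Ω Ω', fun g => ⟨1, fun x => (h1.false x).elim⟩⟩
  · have h3 : 3 ≤ n := by
      obtain ⟨h1, h2, -⟩ := hn
      omega
    obtain ⟨ω, ω', eT, hSS, -, heT⟩ :=
      conj_data hc hc' heven heven' n hcard hcard' hmax hmax' hn h3 ih
    obtain ⟨eS⟩ := Finite.card_eq.mp hSS
    exact ⟨_, glue_conj hc hc' heven heven' n hcard hcard' hmax hmax' hn ω ω' eS eT heT⟩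

open Cfsg.Agent.Lib.Helper1.NSym Cfsg.Agent.Lib.Helper1.NAlt

/-- there is an abelian group of even permutations of degree `n` and order `c` -/
def Ach (n c : ℕ) : Prop :=
  ∃ (Ω : Type) (_ : Fintype Ω) (_ : DecidableEq Ω) (H : Subgroup (Equiv.Perm Ω)),
    Fintype.card Ω = n ∧ (∀ a ∈ H, ∀ b ∈ H, a * b = b * a) ∧
    (∀ a ∈ H, Equiv.Perm.sign a = 1) ∧ Nat.card H = c

theorem ach_add {n₁ c₁ n₂ c₂ : ℕ} (h1 : Ach n₁ c₁) (h2 : Ach n₂ c₂) :
    Ach (n₁ + n₂) (c₁ * c₂) := by
  obtain ⟨Ω₁, _, _, H₁, hn1, hc1, hs1, hcard1⟩ := h1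
  obtain ⟨Ω₂, _, _, H₂, hn2, hc2, hs2, hcard2⟩ := h2
  refine ⟨Ω₁ ⊕ Ω₂, inferInstance, inferInstance,
    (H₁.prod H₂).map (Equiv.Perm.sumCongrHom Ω₁ Ω₂), ?_, ?_, ?_, ?_⟩
  · rw [Fintype.card_sum, hn1, hn2]
  · rintro _ ⟨⟨a₁, a₂⟩, ha, rfl⟩ _ ⟨⟨b₁, b₂⟩, hb, rfl⟩
    have ha : (a₁, a₂) ∈ H₁.prod H₂ := ha
    have hb : (b₁, b₂) ∈ H₁.prod H₂ := hb
    rw [Subgroup.mem_prod] at ha hb
    rw [← map_mul, ← map_mul]
    congr 1
    exact Prod.ext (hc1 _ ha.1 _ hb.1) (hc2 _ ha.2 _ hb.2)
  · rintro _ ⟨⟨a₁, a₂⟩, ha, rfl⟩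
    have ha : (a₁, a₂) ∈ H₁.prod H₂ := ha
    rw [Subgroup.mem_prod] at ha
    change Equiv.Perm.sign (Equiv.Perm.sumCongr a₁ a₂) = 1
    rw [Equiv.Perm.sign_sumCongr, hs1 _ ha.1, hs2 _ ha.2, one_mul]
  · rw [Subgroup.card_map_of_injective Equiv.Perm.sumCongrHom_injective,
      Nat.card_congr (Subgroup.prodEquiv H₁ H₂).toEquiv, Nat.card_prod, hcard1, hcard2]

theorem ach_bot (Ω : Type) [Fintype Ω] [DecidableEq Ω] : Ach (Fintype.card Ω) 1 := by
  refine ⟨Ω, inferInstance, inferInstance, ⊥, rfl, ?_, ?_, ?_⟩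
  · intro a ha b hb
    rw [Subgroup.mem_bot] at ha hb
    rw [ha, hb]
  · intro a ha
    rw [Subgroup.mem_bot] at ha
    rw [ha, map_one]
  · exact Subgroup.card_bot

theorem ach_regular (K : Type) [AddCommGroup K] [Fintype K] [DecidableEq K]
    (hs : ∀ v : K, Equiv.Perm.sign (Equiv.addLeft v) = 1) :
    Ach (Fintype.card K) (Fintype.card K) := by
  let H : Subgroup (Equiv.Perm K) :=
    { carrier := Set.range (Equiv.addLeft : K → Equiv.Perm K)
      one_mem' := ⟨0, by ext x; simp⟩
      mul_mem' := by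
        rintro _ _ ⟨a, rfl⟩ ⟨b, rfl⟩
        exact ⟨a + b, by ext x; simp⟩
      inv_mem' := by
        rintro _ ⟨a, rfl⟩
        exact ⟨-a, by ext x; simp⟩ }
  refine ⟨K, inferInstance, inferInstance, H, rfl, ?_, ?_, ?_⟩
  · rintro _ ⟨a, rfl⟩ _ ⟨b, rfl⟩
    ext x
    simp [add_left_comm]
  · rintro _ ⟨a, rfl⟩
    exact hs a
  · have hinj : Function.Injective (Equiv.addLeft : K → Equiv.Perm K) := by
      intro a b hab
      have := congrArg (fun σ : Equiv.Perm K => σ 0) hab
      simpa using this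
    change Nat.card (Set.range (Equiv.addLeft : K → Equiv.Perm K)) = _
    rw [Nat.card_range_of_injective hinj, Nat.card_eq_fintype_card]

theorem ach_three : Ach 3 3 := by
  have := ach_regular (ZMod 3) (by decide)
  simpa using this

theorem ach_four : Ach 4 4 := by
  have := ach_regular (ZMod 2 × ZMod 2) (by decide)
  simpa using this

theorem ach_five : Ach 5 5 := by
  have := ach_regular (ZMod 5) (by decide)
  simpa using this

theorem ach_F (n : ℕ) : Ach n (F n) := by
  induction n using Nat.strong_induction_on with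
  | _ n ih =>
    by_cases hn : n < 9
    · have h0 : Ach 0 1 := by simpa using ach_bot (Fin 0)
      have h1 : Ach 1 1 := by simpa using ach_bot (Fin 1)
      interval_cases n
      · exact h0
      · exact h1
      · exact ach_add h1 h1
      · exact ach_three
      · exact ach_four
      · exact ach_five
      · exact ach_add ach_three ach_three
      · exact ach_add ach_three ach_four
      · exact ach_add ach_four ach_four
    · obtain ⟨k, rfl⟩ := Nat.exists_eq_add_of_le (show 9 ≤ n by omega)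
      have h1 := ih (6 + k) (by omega)
      have h2 := ach_add ach_three h1
      have e1 : 3 + (6 + k) = 9 + k := by ring
      have e2 : 3 * F (6 + k) = F (9 + k) := by
        rw [add_comm 9 k, F_add, add_comm]
      rw [e1, e2] at h2
      exact h2

theorem exists_of_ach {n c : ℕ} (h : Ach n c) :
    ∃ C : Subgroup (alternatingGroup (Fin n)), IsMulCommutative C ∧ Nat.card C = c := by
  obtain ⟨Ω, _, _, H, hn, hc, hs, hcard⟩ := h
  let e : Ω ≃ Fin n := Fintype.equivFinOfCardEq hn
  let H' : Subgroup (Equiv.Perm (Fin n)) := H.map e.permCongrHom.toMonoidHom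
  have hle : H' ≤ alternatingGroup (Fin n) := by
    rintro _ ⟨a, ha, rfl⟩
    rw [Equiv.Perm.mem_alternatingGroup]
    change Equiv.Perm.sign (e.permCongr a) = 1
    rw [Equiv.Perm.sign_permCongr, hs a ha]
  refine ⟨H'.subgroupOf (alternatingGroup (Fin n)), ⟨⟨?_⟩⟩, ?_⟩
  · rintro ⟨⟨x, hx⟩, hx'⟩ ⟨⟨y, hy⟩, hy'⟩
    rw [Subgroup.mem_subgroupOf] at hx' hy'
    obtain ⟨a, ha, rfl⟩ := hx'
    obtain ⟨b, hb, rfl⟩ := hy'
    apply Subtype.ext
    apply Subtype.ext
    change e.permCongrHom.toMonoidHom a * e.permCongrHom.toMonoidHom b =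
      e.permCongrHom.toMonoidHom b * e.permCongrHom.toMonoidHom a
    rw [← map_mul, ← map_mul, hc a ha b hb]
  · rw [Nat.card_congr (Subgroup.subgroupOfEquivOfLe hle).toEquiv,
      Subgroup.card_map_of_injective e.permCongrHom.injective, hcard]

theorem exists_abelian_alt (n : ℕ) :
    ∃ C : Subgroup (alternatingGroup (Fin n)), IsMulCommutative C ∧ Nat.card C = F n :=
  exists_of_ach (ach_F n)

open Cfsg.Agent.Lib.Helper1.NSym Cfsg.Agent.Lib.Helper1.NAlt
open scoped Pointwise

theorem card_eq_F (n : ℕ) (A : Subgroup (alternatingGroup (Fin n))) (hA : IsMulCommutative A)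
    (hAmax : ∀ C : Subgroup (alternatingGroup (Fin n)), IsMulCommutative C →
      Nat.card C ≤ Nat.card A) : Nat.card A = F n := by
  apply le_antisymm
  · exact card_le_F n A (Fin n) (fun a b => hA.is_comm.comm a b) (evenAct_of_alt n A) (by simp)
  · obtain ⟨C, hC, hcard⟩ := exists_abelian_alt n
    rw [← hcard]
    exact hAmax C hC

theorem smul_eq_map {G : Type*} [Group G] (g : G) (A : Subgroup G) :
    MulAut.conj g • A = A.map (MulAut.conj g).toMonoidHom := rfl

theorem conj_of_conj (n : ℕ) (A B : Subgroup (alternatingGroup (Fin n)))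
    (hcard : Nat.card A = Nat.card B) (e : Equiv.Perm (Fin n)) (he : Equiv.Perm.sign e = 1)
    (hconj : Conj A (Fin n) B (Fin n) e) :
    ∃ g : alternatingGroup (Fin n), B = MulAut.conj g • A := by
  refine ⟨⟨e, Equiv.Perm.mem_alternatingGroup.mpr he⟩, ?_⟩
  symm
  apply Subgroup.eq_of_le_of_card_ge
  · rw [smul_eq_map]
    rintro _ ⟨a, ha, rfl⟩
    obtain ⟨b, hb⟩ := hconj ⟨a, ha⟩
    have : (MulAut.conj (⟨e, Equiv.Perm.mem_alternatingGroup.mpr he⟩ : alternatingGroup (Fin n))).toMonoidHom a
        = (b : alternatingGroup (Fin n)) := by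
      apply Subtype.ext
      ext y
      have h1 := hb (e⁻¹ y)
      change e ((a : Equiv.Perm (Fin n)) (e⁻¹ y)) = (b : alternatingGroup (Fin n)).1 (e (e⁻¹ y)) at h1
      change ((e * (a : Equiv.Perm (Fin n)) * e⁻¹) y : ℕ) = _
      rw [Equiv.Perm.mul_apply, Equiv.Perm.mul_apply, h1]
      simp
    rw [this]
    exact b.2
  · rw [smul_eq_map, Subgroup.card_map_of_injective (MulAut.conj _).injective, hcard]

theorem glue_swap {N Ω N' Ω' : Type} [Group N] [MulAction N Ω] [Group N'] [MulAction N' Ω']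
    [DecidableEq Ω] (S T : SubMulAction N Ω) (S' T' : SubMulAction N' Ω')
    (hTS : ∀ y, y ∈ T ↔ y ∉ S) (hTS' : ∀ y, y ∈ T' ↔ y ∉ S')
    (eS : S ≃ S') (eT : T ≃ T') (a b : S) (x : Ω) :
    glue S T S' T' hTS hTS' ((Equiv.swap a b).trans eS) eT x =
      glue S T S' T' hTS hTS' eS eT (Equiv.swap (a : Ω) (b : Ω) x) := by
  by_cases hx : x ∈ S
  · have h1 := glue_S S T S' T' hTS hTS' ((Equiv.swap a b).trans eS) eT ⟨x, hx⟩
    change glue S T S' T' hTS hTS' ((Equiv.swap a b).trans eS) eT x = _ at h1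
    rw [h1]
    have h2 : Equiv.swap (a : Ω) (b : Ω) x = ((Equiv.swap a b ⟨x, hx⟩ : S) : Ω) := by
      by_cases ha : (⟨x, hx⟩ : S) = a
      · have : x = (a : Ω) := congrArg Subtype.val ha
        rw [ha, Equiv.swap_apply_left, this, Equiv.swap_apply_left]
      by_cases hb : (⟨x, hx⟩ : S) = b
      · have : x = (b : Ω) := congrArg Subtype.val hb
        rw [hb, Equiv.swap_apply_right, this, Equiv.swap_apply_right]
      · have ha' : x ≠ (a : Ω) := fun h => ha (Subtype.ext h)
        have hb' : x ≠ (b : Ω) := fun h => hb (Subtype.ext h)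
        rw [Equiv.swap_apply_of_ne_of_ne ha hb, Equiv.swap_apply_of_ne_of_ne ha' hb']
    rw [h2, glue_S]
    rfl
  · have ha' : x ≠ (a : Ω) := fun h => hx (h ▸ a.2)
    have hb' : x ≠ (b : Ω) := fun h => hx (h ▸ b.2)
    rw [Equiv.swap_apply_of_ne_of_ne ha' hb']
    have h1 := glue_T S T S' T' hTS hTS' ((Equiv.swap a b).trans eS) eT ⟨x, (hTS x).mpr hx⟩
    have h2 := glue_T S T S' T' hTS hTS' eS eT ⟨x, (hTS x).mpr hx⟩
    change glue S T S' T' hTS hTS' ((Equiv.swap a b).trans eS) eT x = _ at h1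
    change glue S T S' T' hTS hTS' eS eT x = _ at h2
    rw [h1, h2]

theorem main (n : ℕ)
    (A B : Subgroup (alternatingGroup (Fin n))) (hA : IsMulCommutative A) (hB : IsMulCommutative B)
    (hAmax : ∀ C : Subgroup (alternatingGroup (Fin n)), IsMulCommutative C →
      Nat.card C ≤ Nat.card A)
    (hBmax : ∀ C : Subgroup (alternatingGroup (Fin n)), IsMulCommutative C →
      Nat.card C ≤ Nat.card B) :
    ∃ g : alternatingGroup (Fin n), B = MulAut.conj g • A := by
  have hcA := card_eq_F n A hA hAmax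
  have hcB := card_eq_F n B hB hBmax
  by_cases hgood : Good n
  · by_cases h0 : n = 0
    · subst h0
      have h1 : A = ⊥ := Subgroup.card_eq_one.mp (by rw [hcA]; rfl)
      have h2 : B = ⊥ := Subgroup.card_eq_one.mp (by rw [hcB]; rfl)
      refine ⟨1, ?_⟩
      rw [h1, h2, smul_eq_map, Subgroup.map_bot]
    have h3 : 3 ≤ n := by
      obtain ⟨h1, h2, -⟩ := hgood
      omega
    have hcA' : ∀ a b : A, a * b = b * a := fun a b => hA.is_comm.comm a b
    have hcB' : ∀ a b : B, a * b = b * a := fun a b => hB.is_comm.comm a b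
    have hcardΩ : Nat.card (Fin n) = n := by simp
    obtain ⟨ω, ω', eT, hSS, h3S, heT⟩ :=
      conj_data hcA' hcB' (evenAct_of_alt n A) (evenAct_of_alt n B) n hcardΩ hcardΩ hcA hcB hgood h3
        (fun k _ => exists_conj k)
    obtain ⟨eS⟩ := Finite.card_eq.mp hSS
    have hnt : Nontrivial (orbitSub A ω) := by
      rw [← Finite.one_lt_card_iff_nontrivial]; omega
    obtain ⟨a, b, hab⟩ := exists_pair_ne (orbitSub A ω)
    have hab' : (a : Fin n) ≠ (b : Fin n) := fun h => hab (Subtype.ext h)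
    have c1 := glue_conj hcA' hcB' (evenAct_of_alt n A) (evenAct_of_alt n B) n hcardΩ hcardΩ hcA hcB
      hgood ω ω' eS eT heT
    have c2 := glue_conj hcA' hcB' (evenAct_of_alt n A) (evenAct_of_alt n B) n hcardΩ hcardΩ hcA hcB
      hgood ω ω' ((Equiv.swap a b).trans eS) eT heT
    set e₁ : Equiv.Perm (Fin n) := glue (orbitSub A ω) (orbitComplSub A ω) (orbitSub B ω')
      (orbitComplSub B ω') (orbit_hTS ω) (orbit_hTS ω') eS eT with he₁
    set e₂ : Equiv.Perm (Fin n) := glue (orbitSub A ω) (orbitComplSub A ω) (orbitSub B ω')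
      (orbitComplSub B ω') (orbit_hTS ω) (orbit_hTS ω') ((Equiv.swap a b).trans eS) eT with he₂
    have h12 : e₂ = e₁ * Equiv.swap (a : Fin n) (b : Fin n) := by
      ext x
      rw [Equiv.Perm.mul_apply, he₁, he₂, glue_swap]
    have hs : Equiv.Perm.sign e₂ = - Equiv.Perm.sign e₁ := by
      rw [h12, map_mul, Equiv.Perm.sign_swap hab']
      simp
    rcases Int.units_eq_one_or (Equiv.Perm.sign e₁) with h | h
    · exact conj_of_conj n A B (by rw [hcA, hcB]) e₁ h c1
    · rw [h, neg_neg] at hs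
      exact conj_of_conj n A B (by rw [hcA, hcB]) e₂ hs c2
  · have hn : n = 1 ∨ n = 2 ∨ n = 5 := by
      unfold Good at hgood
      omega
    rcases hn with rfl | rfl | rfl
    · have h1 : A = ⊥ := Subgroup.card_eq_one.mp (by rw [hcA]; rfl)
      have h2 : B = ⊥ := Subgroup.card_eq_one.mp (by rw [hcB]; rfl)
      refine ⟨1, ?_⟩
      rw [h1, h2, smul_eq_map, Subgroup.map_bot]
    · have h1 : A = ⊥ := Subgroup.card_eq_one.mp (by rw [hcA]; rfl)
      have h2 : B = ⊥ := Subgroup.card_eq_one.mp (by rw [hcB]; rfl)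
      refine ⟨1, ?_⟩
      rw [h1, h2, smul_eq_map, Subgroup.map_bot]
    · have hp : Fact (Nat.Prime 5) := ⟨by norm_num⟩
      have hF5 : F 5 = 5 := rfl
      have hcardtop : Nat.card (⊤ : Subgroup (alternatingGroup (Fin 5))) = 60 := by
        rw [Subgroup.card_top, nat_card_alternatingGroup]
        simp
        rfl
      have hfac : (Nat.card (⊤ : Subgroup (alternatingGroup (Fin 5)))).factorization 5 = 1 := by
        rw [hcardtop, show (60 : ℕ) = 5 * 12 by norm_num,
          Nat.factorization_mul (by norm_num) (by norm_num)]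
        simp [Nat.Prime.factorization_self (show Nat.Prime 5 by norm_num),
          Nat.factorization_eq_zero_of_not_dvd (show ¬ 5 ∣ 12 by norm_num)]
      obtain ⟨d, -, hd⟩ := NAltMax.sylow_conj_in 5 (⊤ : Subgroup (alternatingGroup (Fin 5))) A B
        le_top le_top (by rw [hfac, hcA, hF5, pow_one]) (by rw [hfac, hcB, hF5, pow_one])
      exact ⟨d, by rw [smul_eq_map]; exact hd⟩

end Cfsg.Agent.Lib.Helper1.AbAlt
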