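import Mathlib
import Cfsg.Agent.Lib.Helper1.Frattini

/-!
Abelian Sylow subgroups: the transfer onto P ∩ Z(N_G(P)).
-/

set_option autoImplicit false

open Subgroup
open scoped IsMulCommutative

namespace Cfsg.Agent.Lib.Helper1

universe u

variable {G : Type u} [Group G] {p : ℕ} (P : Sylow p G) [IsMulCommutative P]

/-- Conjugation of the abelian Sylow subgroup `P` by a coset of `P` in `N_G(P)`. -/
def cosetConj
    (q : ↥(normalizer ((P : Subgroup G) : Set G)) ⧸
      (P : Subgroup G).subgroupOf (normalizer ((P : Subgroup G) : Set G)))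
    (x : (P : Subgroup G)) : (P : Subgroup G) :=
  Quotient.liftOn' q (fun n => conjNormalizer (P : Subgroup G) (n : G) n.2 x) (by
    intro n1 n2 h
    rw [QuotientGroup.leftRel_apply, Subgroup.mem_subgroupOf] at h
    apply Subtype.ext
    show (n1 : G) * x * (n1 : G)⁻¹ = (n2 : G) * x * (n2 : G)⁻¹
    have hc : (⟨_, h⟩ : (P : Subgroup G)) * x = x * ⟨_, h⟩ := mul_comm _ _
    have hc' : ((n1⁻¹ * n2 : normalizer ((P : Subgroup G) : Set G)) : G) * (x : G) =
        (x : G) * ((n1⁻¹ * n2 : normalizer ((P : Subgroup G) : Set G)) : G) :=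
      congrArg Subtype.val hc
    simp only [Subgroup.coe_mul, Subgroup.coe_inv] at hc'
    calc (n1 : G) * x * (n1 : G)⁻¹
        = (n1 : G) * (x * ((n1 : G)⁻¹ * n2)) * (n2 : G)⁻¹ := by group
      _ = (n1 : G) * (((n1 : G)⁻¹ * n2) * x) * (n2 : G)⁻¹ := by rw [hc']
      _ = _ := by group)

theorem cosetConj_mk (n : normalizer ((P : Subgroup G) : Set G)) (x : (P : Subgroup G)) :
    cosetConj P (QuotientGroup.mk n) x = conjNormalizer (P : Subgroup G) (n : G) n.2 x := rfl

theorem cosetConj_mul (q) (x y : (P : Subgroup G)) :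
    cosetConj P q (x * y) = cosetConj P q x * cosetConj P q y := by
  induction q using QuotientGroup.induction_on with | _ n => ?_
  simp only [cosetConj_mk, map_mul]

theorem cosetConj_one (q) : cosetConj P q (1 : (P : Subgroup G)) = 1 := by
  induction q using QuotientGroup.induction_on with | _ n => ?_
  simp only [cosetConj_mk, map_one]

theorem conj_cosetConj (n : normalizer ((P : Subgroup G) : Set G)) (q) (x : (P : Subgroup G)) :
    conjNormalizer (P : Subgroup G) (n : G) n.2 (cosetConj P q x) = cosetConj P (n • q) x := by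
  induction q using QuotientGroup.induction_on with | _ m => ?_
  show _ = cosetConj P (QuotientGroup.mk (n * m)) x
  rw [cosetConj_mk, cosetConj_mk]
  apply Subtype.ext
  simp [conjNormalizer, mul_assoc]

theorem cosetConj_of_mem_centralizer (q) (x : (P : Subgroup G))
    (hx : (x : G) ∈ centralizer (normalizer ((P : Subgroup G) : Set G) : Set G)) :
    cosetConj P q x = x := by
  induction q using QuotientGroup.induction_on with | _ n => ?_
  rw [cosetConj_mk]
  apply Subtype.ext
  show (n : G) * x * (n : G)⁻¹ = x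
  rw [(Subgroup.mem_centralizer_iff.mp hx) n n.2]; group


instance instIsMulCommutativeInfCentralizerNormalizer :
    IsMulCommutative ↥((P : Subgroup G) ⊓
      centralizer (normalizer ((P : Subgroup G) : Set G) : Set G)) :=
  ⟨⟨fun a b => Subtype.ext (by
    have := mul_comm (⟨a.1, a.2.1⟩ : (P : Subgroup G)) ⟨b.1, b.2.1⟩
    have h2 : (a : G) * (b : G) = (b : G) * (a : G) := congrArg Subtype.val this
    exact h2)⟩⟩

variable [Finite G]

/-- The norm map from an abelian Sylow subgroup `P` to `P ∩ Z(N_G(P))`. -/
noncomputable def sylowNorm :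
    (P : Subgroup G) →* ↥((P : Subgroup G) ⊓
      centralizer (normalizer ((P : Subgroup G) : Set G) : Set G)) :=
  letI : Fintype (↥(normalizer ((P : Subgroup G) : Set G)) ⧸
      (P : Subgroup G).subgroupOf (normalizer ((P : Subgroup G) : Set G))) := Fintype.ofFinite _
  { toFun := fun x => ⟨((∏ q, cosetConj P q x : (P : Subgroup G)) : G), by
      refine Subgroup.mem_inf.mpr ⟨(∏ q, cosetConj P q x : (P : Subgroup G)).2, ?_⟩
      rw [Subgroup.mem_centralizer_iff]
      intro n hn
      have h1 : conjNormalizer (P : Subgroup G) n hn (∏ q, cosetConj P q x) =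
          ∏ q, cosetConj P q x := by
        rw [map_prod]
        simp_rw [conj_cosetConj P ⟨n, hn⟩]
        exact Fintype.prod_equiv (MulAction.toPerm (⟨n, hn⟩ : normalizer ((P : Subgroup G) : Set G)))
          _ _ (fun q => rfl)
      have h2 := congrArg Subtype.val h1
      have h3 : n * ((∏ q, cosetConj P q x : (P : Subgroup G)) : G) * n⁻¹ =
          ((∏ q, cosetConj P q x : (P : Subgroup G)) : G) := h2
      calc n * ((∏ q, cosetConj P q x : (P : Subgroup G)) : G)
          = (n * ((∏ q, cosetConj P q x : (P : Subgroup G)) : G) * n⁻¹) * n := by group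
        _ = _ := by rw [h3]⟩
    map_one' := by
      apply Subtype.ext
      simp [cosetConj_one]
    map_mul' := fun x y => by
      apply Subtype.ext
      simp [cosetConj_mul, Finset.prod_mul_distrib] }

theorem sylowNorm_of_mem (x : (P : Subgroup G))
    (hx : (x : G) ∈ centralizer (normalizer ((P : Subgroup G) : Set G) : Set G)) :
    ((sylowNorm P x : ↥((P : Subgroup G) ⊓
      centralizer (normalizer ((P : Subgroup G) : Set G) : Set G))) : G) =
      (x : G) ^ ((P : Subgroup G).relIndex (normalizer ((P : Subgroup G) : Set G))) := by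
  let _ : Fintype (↥(normalizer ((P : Subgroup G) : Set G)) ⧸
      (P : Subgroup G).subgroupOf (normalizer ((P : Subgroup G) : Set G))) := Fintype.ofFinite _
  show ((∏ q, cosetConj P q x : (P : Subgroup G)) : G) = _
  simp_rw [cosetConj_of_mem_centralizer P _ x hx]
  rw [Finset.prod_const, Finset.card_univ, ← Nat.card_eq_fintype_card]
  rfl


/-- With an abelian Sylow `p`-subgroup `P`, the group `P ∩ Z(N_G(P))` is a quotient of `G`. -/
theorem exists_quotient_equiv_inf_centralizer_normalizer [Fact p.Prime] :
    ∃ (N : Subgroup G) (_ : N.Normal), Nonempty (G ⧸ N ≃* ((P : Subgroup G) ⊓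
      centralizer (normalizer ((P : Subgroup G) : Set G) : Set G) : Subgroup G)) := by
  have hpp : p.Prime := Fact.out
  have hsurj : Function.Surjective (MonoidHom.transfer (sylowNorm P)) := by
    intro b
    -- exponent
    have hA : IsPGroup p ↥((P : Subgroup G) ⊓
        centralizer (normalizer ((P : Subgroup G) : Set G) : Set G)) :=
      P.2.to_le inf_le_left
    obtain ⟨k, hk⟩ := IsPGroup.iff_card.mp hA
    have hidx : ¬ p ∣ (P : Subgroup G).index := P.not_dvd_index
    have hrel : (P : Subgroup G).relIndex (normalizer ((P : Subgroup G) : Set G)) ∣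
        (P : Subgroup G).index :=
      Dvd.intro _ (Subgroup.relIndex_mul_index (Subgroup.le_normalizer))
    have hcop : (Nat.card ↥((P : Subgroup G) ⊓
        centralizer (normalizer ((P : Subgroup G) : Set G) : Set G))).Coprime
        ((P : Subgroup G).index *
          (P : Subgroup G).relIndex (normalizer ((P : Subgroup G) : Set G))) := by
      rw [hk]
      apply Nat.Coprime.pow_left
      rw [Nat.Prime.coprime_iff_not_dvd hpp, Nat.Prime.dvd_mul hpp]
      rintro (h | h)
      · exact hidx h
      · exact hidx (h.trans hrel)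
    obtain ⟨a, ha⟩ := (powCoprime hcop).surjective b
    have ha' : a ^ ((P : Subgroup G).index *
        (P : Subgroup G).relIndex (normalizer ((P : Subgroup G) : Set G))) = b := ha
    refine ⟨(a : G), ?_⟩
    have key : ∀ (k : ℕ) (g₀ : G), g₀⁻¹ * (a : G) ^ k * g₀ ∈ (P : Subgroup G) →
        g₀⁻¹ * (a : G) ^ k * g₀ = (a : G) ^ k := by
      intro k g₀ h
      have hak : (a : G) ^ k ∈ (P : Subgroup G) := pow_mem a.2.1 k
      obtain ⟨n, hn, hn'⟩ := P.conj_eq_normalizer_conj_of_mem ((a : G) ^ k) g₀ hak h
      rw [hn']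
      have hc : (a : G) ^ k ∈ centralizer (normalizer ((P : Subgroup G) : Set G) : Set G) :=
        pow_mem a.2.2 k
      rw [mul_assoc, ← (Subgroup.mem_centralizer_iff.mp hc) n hn]; group
    rw [MonoidHom.transfer_eq_pow (sylowNorm P) (a : G) key]
    apply Subtype.ext
    rw [sylowNorm_of_mem P _ (pow_mem a.2.2 _), ← ha']
    simp only [Subgroup.coe_pow]
    rw [← pow_mul]
  exact ⟨(MonoidHom.transfer (sylowNorm P)).ker, inferInstance,
    ⟨QuotientGroup.quotientKerEquivOfSurjective _ hsurj⟩⟩

end Cfsg.Agent.Lib.Helper1
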