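import Mathlib
import Cfsg.Agent.Lib.Helper1.NilpotentSym
import Cfsg.Agent.Lib.Helper1.NilpotentAlt

/-!
# Abelian Sylow subgroups of alternating groups (helper1)

* `autIdx H = |N(H) : C(H)|`, invariant under isomorphism and equal for all Sylow `p`-subgroups;
* `ActsOrd q H w`, `dvd_autIdx`: an element of `N(H)` of order `q` modulo `C(H)` gives `q ∣ autIdx H`;
* `card_le_pow_of_comm`: an abelian `p`-group acting faithfully on `n` points has order `≤ p^(n/p)`;
* `exists_model`: the standard abelian `p`-subgroup of order `p^(n/p)` of `A_n` (`p` odd), inverted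
  on two blocks by an even involution when `n/p ≥ 2`;
* `odd_case`, `two_case`, `five_case`: the three cases of S2269.
-/

set_option autoImplicit false
set_option linter.unusedSectionVars false

namespace Cfsg.Agent.Lib.Helper1.AAS

open Subgroup Equiv
open scoped Pointwise
open Cfsg.Agent.Lib.Helper1.NSym

/-- The automizer index `|N(H) : C(H)|`. -/
noncomputable def autIdx {G : Type*} [Group G] (H : Subgroup G) : ℕ :=
  ((centralizer (H : Set G)).subgroupOf (normalizer (H : Set G))).index

/-- An element of `N(H)` whose `q`-th power centralizes `H` but which does not itself. -/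
def ActsOrd {G : Type*} [Group G] (q : ℕ) (H : Subgroup G) (w : G) : Prop :=
  w ∈ normalizer (H : Set G) ∧ w ∉ centralizer (H : Set G) ∧ w ^ q ∈ centralizer (H : Set G)

theorem dvd_autIdx {G : Type*} [Group G] [Finite G] (q : ℕ) [hq : Fact q.Prime]
    (H : Subgroup G) (w : G) (hw : ActsOrd q H w) : q ∣ autIdx H := by
  obtain ⟨hN, hC, hq'⟩ := hw
  unfold autIdx
  set N := normalizer (H : Set G) with hNdef
  set C := (centralizer (H : Set G)).subgroupOf N with hCdef
  have hCn : C.Normal := normal_subgroupOf_centralizer_normalizer _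
  let wb : N ⧸ C := QuotientGroup.mk ⟨w, hN⟩
  have h1 : wb ^ q = 1 := by
    rw [← QuotientGroup.mk_pow, QuotientGroup.eq_one_iff, hCdef, mem_subgroupOf]
    simpa using hq'
  have h2 : wb ≠ 1 := by
    intro h
    rw [QuotientGroup.eq_one_iff, hCdef, mem_subgroupOf] at h
    exact hC h
  have h3 : orderOf wb = q := orderOf_eq_prime h1 h2
  rw [index_eq_card, ← h3]
  exact orderOf_dvd_natCard wb

theorem actsOrd_map {A B : Type*} [Group A] [Group B] (f : A →* B) (hf : Function.Injective f)
    (q : ℕ) (H : Subgroup A) (w : A) (hw : ActsOrd q H w) : ActsOrd q (H.map f) (f w) := by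
  obtain ⟨hN, hC, hq'⟩ := hw
  refine ⟨?_, ?_, ?_⟩
  · exact le_normalizer_map f (mem_map_of_mem f hN)
  · intro h
    apply hC
    rw [mem_centralizer_iff] at h ⊢
    intro x hx
    apply hf
    rw [map_mul, map_mul]
    exact h (f x) (mem_map_of_mem f hx)
  · rw [← map_pow]
    have := map_centralizer_le_centralizer_image (H : Set A) f (mem_map_of_mem f hq')
    rwa [← coe_map] at this

theorem comm_of_sylow_comm {G : Type*} [Group G] [Finite G] {p : ℕ} [Fact p.Prime]
    (P : Sylow p G) (hP : ∀ x ∈ (P : Subgroup G), ∀ y ∈ (P : Subgroup G), x * y = y * x)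
    (H : Subgroup G) (hH : IsPGroup p H) :
    ∀ x ∈ H, ∀ y ∈ H, x * y = y * x := by
  obtain ⟨Q, hQ⟩ := hH.exists_le_sylow
  obtain ⟨g, rfl⟩ := MulAction.exists_smul_eq G P Q
  intro x hx y hy
  have hx' := hQ hx
  have hy' := hQ hy
  rw [Sylow.coe_subgroup_smul] at hx' hy'
  rw [Subgroup.mem_pointwise_smul_iff_inv_smul_mem] at hx' hy'
  have := hP _ hx' _ hy'
  simp only [MulAut.smul_def, MulAut.conj_inv_apply] at this
  have h2 : g * (g⁻¹ * x * g * (g⁻¹ * y * g)) * g⁻¹ = g * (g⁻¹ * y * g * (g⁻¹ * x * g)) * g⁻¹ := by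
    rw [this]
  simpa [mul_assoc] using h2

theorem centralizer_map_equiv {G G' : Type*} [Group G] [Group G'] (H : Subgroup G) (f : G ≃* G') :
    (centralizer (H : Set G)).map f.toMonoidHom =
      centralizer ((H.map f.toMonoidHom : Subgroup G') : Set G') := by
  ext x
  simp only [mem_map_equiv, mem_centralizer_iff]
  constructor
  · intro h y hy
    rw [SetLike.mem_coe, mem_map_equiv] at hy
    have := h _ hy
    have h2 := congrArg f this
    simpa using h2
  · intro h y hy
    have hy' : f y ∈ ((H.map f.toMonoidHom : Subgroup G') : Set G') := by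
      rw [SetLike.mem_coe, mem_map_equiv]; simpa using hy
    have := h _ hy'
    have h2 := congrArg f.symm this
    simpa using h2

theorem autIdx_map_equiv {G G' : Type*} [Group G] [Group G'] (H : Subgroup G) (f : G ≃* G') :
    autIdx (H.map f.toMonoidHom) = autIdx H := by
  unfold autIdx
  rw [← centralizer_map_equiv, ← map_equiv_normalizer_eq]
  exact relIndex_map_map_of_injective _ _ f.injective

theorem autIdx_sylow_eq {G : Type*} [Group G] [Finite G] {p : ℕ} [Fact p.Prime]
    (P Q : Sylow p G) : autIdx (P : Subgroup G) = autIdx (Q : Subgroup G) := by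
  obtain ⟨g, rfl⟩ := MulAction.exists_smul_eq G P Q
  rw [Sylow.coe_subgroup_smul]
  have : (MulAut.conj g • (P : Subgroup G)) = (P : Subgroup G).map (MulAut.conj g).toMonoidHom := by
    rfl
  rw [this, autIdx_map_equiv]

theorem card_le_pow_of_comm (p : ℕ) [hp : Fact p.Prime] :
    ∀ (n : ℕ) (N Ω : Type) [Group N] [Finite N] [Finite Ω]
    [MulAction N Ω] [FaithfulSMul N Ω], (∀ a b : N, a * b = b * a) → IsPGroup p N →
      Nat.card Ω = n → Nat.card N ≤ p ^ (n / p) := by
  intro n
  induction n using Nat.strong_induction_on with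
  | _ n ih =>
  intro N Ω _ _ _ _ _ hcomm hpg hcard
  by_cases hemp : IsEmpty Ω
  · have hsub : Subsingleton N := ⟨fun a b => FaithfulSMul.eq_of_smul_eq_smul (α := Ω)
      (fun x => (hemp.false x).elim)⟩
    rw [Nat.card_unique]
    exact Nat.pow_pos hp.out.pos
  rw [not_isEmpty_iff] at hemp
  obtain ⟨ω⟩ := hemp
  by_cases htr : MulAction.IsPretransitive N Ω
  · -- regular
    have hstab : MulAction.stabilizer N ω = ⊥ := by
      rw [eq_bot_iff]
      intro g hg
      rw [MulAction.mem_stabilizer_iff] at hg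
      rw [mem_bot]
      apply FaithfulSMul.eq_of_smul_eq_smul (α := Ω)
      intro x
      obtain ⟨h, rfl⟩ := MulAction.exists_smul_eq N ω x
      rw [one_smul, ← mul_smul, hcomm g h, mul_smul, hg]
    have h1 := MulAction.index_stabilizer_of_transitive N ω
    rw [hstab, Subgroup.index_bot, hcard] at h1
    obtain ⟨a, ha⟩ := hpg.exists_card_eq
    rw [← h1]
    rw [ha] at h1
    rw [ha]
    apply Nat.pow_le_pow_right hp.out.pos
    rcases a with _ | k
    · exact Nat.zero_le _
    · rw [pow_succ, Nat.mul_div_cancel _ hp.out.pos]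
      exact Nat.lt_pow_self hp.out.one_lt
  · -- intransitive
    have hx : ∃ x, x ∉ MulAction.orbit N ω := by
      by_contra hall
      push Not at hall
      exact htr ((MulAction.isPretransitive_iff_base ω).mpr (fun x => hall x))
    obtain ⟨x, hx⟩ := hx
    let S := orbitSub N ω
    let T := orbitComplSub N ω
    have hST : ∀ y, y ∈ S ∨ y ∈ T := fun y => by
      by_cases hy : y ∈ MulAction.orbit N ω
      · exact Or.inl hy
      · exact Or.inr hy
    have hle := card_le_of_cover S T hST
    have hcS : Nat.card S = (MulAction.orbit N ω).ncard := Nat.card_coe_set_eq _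
    have hcT : Nat.card T = (MulAction.orbit N ω)ᶜ.ncard := Nat.card_coe_set_eq _
    have hsum : Nat.card S + Nat.card T = n := by
      rw [hcS, hcT, Set.ncard_add_ncard_compl, hcard]
    have hSpos : 0 < Nat.card S := by
      have : Nonempty S := ⟨⟨ω, MulAction.mem_orbit_self ω⟩⟩
      exact Nat.card_pos
    have hTpos : 0 < Nat.card T := by
      have : Nonempty T := ⟨⟨x, hx⟩⟩
      exact Nat.card_pos
    have hcS' : ∀ a b : (MulAction.toPermHom N S).range, a * b = b * a := by
      rintro ⟨_, a, rfl⟩ ⟨_, b, rfl⟩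
      apply Subtype.ext
      simp only [Subgroup.coe_mul, ← map_mul, hcomm a b]
    have hcT' : ∀ a b : (MulAction.toPermHom N T).range, a * b = b * a := by
      rintro ⟨_, a, rfl⟩ ⟨_, b, rfl⟩
      apply Subtype.ext
      simp only [Subgroup.coe_mul, ← map_mul, hcomm a b]
    have hpS : IsPGroup p (MulAction.toPermHom N S).range :=
      hpg.of_surjective _ (MulAction.toPermHom N S).rangeRestrict_surjective
    have hpT : IsPGroup p (MulAction.toPermHom N T).range :=
      hpg.of_surjective _ (MulAction.toPermHom N T).rangeRestrict_surjective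
    have hfS : Finite (MulAction.toPermHom N S).range :=
      Finite.of_surjective _ (MulAction.toPermHom N S).rangeRestrict_surjective
    have hfT : Finite (MulAction.toPermHom N T).range :=
      Finite.of_surjective _ (MulAction.toPermHom N T).rangeRestrict_surjective
    have h1 := ih (Nat.card S) (by omega) (MulAction.toPermHom N S).range S hcS' hpS rfl
    have h2 := ih (Nat.card T) (by omega) (MulAction.toPermHom N T).range T hcT' hpT rfl
    calc Nat.card N ≤ _ := hle
      _ ≤ p ^ (Nat.card S / p) * p ^ (Nat.card T / p) := Nat.mul_le_mul h1 h2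
      _ = p ^ (Nat.card S / p + Nat.card T / p) := (pow_add _ _ _).symm
      _ ≤ p ^ ((Nat.card S + Nat.card T) / p) :=
          Nat.pow_le_pow_right hp.out.pos (Nat.div_add_div_le_add_div)
      _ = p ^ (n / p) := by rw [hsum]

theorem sign_eq_one_of_pow_odd {α : Type*} [Fintype α] [DecidableEq α] (σ : Perm α) (m : ℕ)
    (hm : Odd m) (h : σ ^ m = 1) : Perm.sign σ = 1 := by
  have h1 : Perm.sign σ ^ m = 1 := by rw [← map_pow, h, map_one]
  rcases Int.units_eq_one_or (Perm.sign σ) with h2 | h2
  · exact h2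
  · rw [h2, hm.neg_one_pow] at h1
    exact absurd h1 (by decide)

section Model
variable {ι : Type} [Fintype ι] [DecidableEq ι] (p : ℕ) [hp : Fact p.Prime]

/-- translation by `f i` on block `i`. -/
def shift (f : ι → ZMod p) : Perm (ι × ZMod p) :=
  Equiv.prodCongrRight (fun i => Equiv.addRight (f i))

theorem shift_apply (f : ι → ZMod p) (a : ι × ZMod p) :
    shift p f a = (a.1, a.2 + f a.1) := rfl

/-- The translation subgroup as a homomorphism. -/
def shiftHom : Multiplicative (ι → ZMod p) →* Perm (ι × ZMod p) where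
  toFun f := shift p (Multiplicative.toAdd f)
  map_one' := by
    ext a
    · simp [shift_apply]
    · simp [shift_apply]
  map_mul' f g := by
    ext a
    · simp [shift_apply]
    · simp [shift_apply, add_comm, add_left_comm]

theorem shiftHom_apply (f : Multiplicative (ι → ZMod p)) (a : ι × ZMod p) :
    shiftHom p f a = (a.1, a.2 + Multiplicative.toAdd f a.1) := rfl

theorem shiftHom_injective : Function.Injective (shiftHom (ι := ι) p) := by
  rw [injective_iff_map_eq_one]
  intro f hf
  ext i
  have h1 := congrArg (fun σ : Perm (ι × ZMod p) => (σ (i, 0)).2) hf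
  simpa [shiftHom_apply] using h1

theorem shiftHom_pow (f : Multiplicative (ι → ZMod p)) : shiftHom p f ^ p = 1 := by
  rw [← map_pow]
  have : f ^ p = 1 := by
    ext i
    change (p • Multiplicative.toAdd f) i = 0
    simp
  rw [this, map_one]

/-- negation on the blocks in `S`. -/
def negOn (S : Finset ι) : Perm (ι × ZMod p) :=
  Equiv.prodCongrRight (fun i => if i ∈ S then Equiv.neg (ZMod p) else Equiv.refl _)

theorem negOn_apply (S : Finset ι) (a : ι × ZMod p) :
    negOn p S a = (a.1, if a.1 ∈ S then -a.2 else a.2) := by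
  unfold negOn
  rw [Equiv.prodCongrRight_apply]
  split_ifs <;> rfl

theorem negOn_mul_self (S : Finset ι) : negOn p S * negOn p S = 1 := by
  ext a
  · simp [negOn_apply]
  · simp only [Perm.mul_apply, negOn_apply, Perm.one_apply]
    split_ifs <;> simp

theorem negOn_mul_shift (S : Finset ι) (f : ι → ZMod p) :
    negOn p S * shift p f = shift p (fun i => if i ∈ S then - f i else f i) * negOn p S := by
  ext a
  · simp [negOn_apply, shift_apply]
  · simp only [Perm.mul_apply, negOn_apply, shift_apply]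
    split_ifs
    · ring
    · rfl

theorem sign_negOn (S : Finset ι) :
    Perm.sign (negOn p S) = Perm.sign (Equiv.neg (ZMod p)) ^ S.card := by
  unfold negOn
  rw [Perm.sign_prodCongrRight]
  have : ∀ i, Perm.sign (if i ∈ S then Equiv.neg (ZMod p) else Equiv.refl _) =
      if i ∈ S then Perm.sign (Equiv.neg (ZMod p)) else 1 := by
    intro i; split_ifs <;> simp
  simp_rw [this]
  rw [Finset.prod_ite_mem, Finset.univ_inter, Finset.prod_const]

end Model

section Model2
variable {ι : Type} [Fintype ι] [DecidableEq ι] (p : ℕ) [hp : Fact p.Prime]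

theorem actsOrd_negOn (hp2 : p ≠ 2) (S : Finset ι) (i₀ : ι) (hi : i₀ ∈ S) :
    ActsOrd 2 (shiftHom (ι := ι) p).range (negOn p S) := by
  have hinv : (negOn p S)⁻¹ = negOn p S := by
    rw [inv_eq_iff_mul_eq_one]; exact negOn_mul_self p S
  have hconj : ∀ h ∈ (shiftHom (ι := ι) p).range, negOn p S * h * (negOn p S)⁻¹ ∈
      (shiftHom (ι := ι) p).range := by
    rintro _ ⟨f, rfl⟩
    refine ⟨Multiplicative.ofAdd (fun i => if i ∈ S then - Multiplicative.toAdd f i
      else Multiplicative.toAdd f i), ?_⟩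
    have h1 := negOn_mul_shift p S (Multiplicative.toAdd f)
    rw [eq_mul_inv_iff_mul_eq]
    exact h1.symm
  refine ⟨?_, ?_, ?_⟩
  · rw [mem_normalizer_iff]
    intro h
    constructor
    · exact hconj h
    · intro hh
      have := hconj _ hh
      rw [hinv] at this
      have h2 : negOn p S * (negOn p S * h * negOn p S) * negOn p S =
          (negOn p S * negOn p S) * h * (negOn p S * negOn p S) := by
        simp only [mul_assoc]
      rw [h2, negOn_mul_self, one_mul, mul_one] at this
      exact this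
  · intro hc
    rw [mem_centralizer_iff] at hc
    have h1 := hc (shiftHom p (Multiplicative.ofAdd (Pi.single i₀ 1))) ⟨_, rfl⟩
    have h2 := congrArg (fun σ : Perm (ι × ZMod p) => (σ (i₀, 0)).2) h1
    simp only [Perm.mul_apply, negOn_apply, shiftHom_apply, toAdd_ofAdd, Pi.single_eq_same,
      if_pos hi, neg_zero, zero_add] at h2
    have h3 : (2 : ZMod p) = 0 := by
      have : (1 : ZMod p) + 1 = 0 := by
        nth_rewrite 1 [h2]; simp
      rw [← this]; norm_num
    have h4 : ((2 : ℕ) : ZMod p) = 0 := by exact_mod_cast h3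
    rw [ZMod.natCast_eq_zero_iff] at h4
    exact hp2 ((Nat.prime_dvd_prime_iff_eq hp.out Nat.prime_two).mp h4)
  · rw [pow_two, negOn_mul_self]
    exact one_mem _

theorem sign_negOn_pair (i₀ i₁ : ι) (h : i₀ ≠ i₁) : Perm.sign (negOn p {i₀, i₁}) = 1 := by
  rw [sign_negOn, Finset.card_pair h]
  exact Int.units_sq _

theorem sign_shiftHom (hp2 : p ≠ 2) (f : Multiplicative (ι → ZMod p)) :
    Perm.sign (shiftHom p f) = 1 :=
  sign_eq_one_of_pow_odd _ p (hp.out.odd_of_ne_two hp2) (shiftHom_pow p f)

theorem card_shiftHom_range :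
    Nat.card (shiftHom (ι := ι) p).range = p ^ Fintype.card ι := by
  rw [Nat.card_congr (MonoidHom.ofInjective (shiftHom_injective p)).symm.toEquiv]
  rw [Nat.card_eq_fintype_card]
  rw [Fintype.card_multiplicative, Fintype.card_fun, ZMod.card]

end Model2

theorem actsOrd_subgroupOf {B : Type*} [Group B] (q : ℕ) (K H : Subgroup B) (hHK : H ≤ K) (w : B)
    (hw : w ∈ K) (h : ActsOrd q H w) : ActsOrd q (H.subgroupOf K) ⟨w, hw⟩ := by
  obtain ⟨hN, hC, hq⟩ := h
  refine ⟨?_, ?_, ?_⟩
  · rw [mem_normalizer_iff] at hN ⊢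
    intro x
    rw [mem_subgroupOf, mem_subgroupOf]
    exact hN x
  · intro hc
    apply hC
    rw [mem_centralizer_iff] at hc ⊢
    intro x hx
    have := hc ⟨x, hHK hx⟩ (by rw [SetLike.mem_coe, mem_subgroupOf]; exact hx)
    exact congrArg Subtype.val this
  · rw [mem_centralizer_iff] at hq ⊢
    intro x hx
    rw [SetLike.mem_coe, mem_subgroupOf] at hx
    apply Subtype.ext
    simpa using hq _ hx

/-- An injective sign-preserving homomorphism `Perm α →* Perm (Fin n)` when `|α| ≤ n`. -/
theorem exists_signHom (α : Type) [Fintype α] [DecidableEq α] (n : ℕ)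
    (h : Fintype.card α ≤ n) :
    ∃ Φ : Perm α →* Perm (Fin n), Function.Injective Φ ∧ ∀ g, Perm.sign (Φ g) = Perm.sign g := by
  classical
  have h' : Fintype.card α ≤ Fintype.card (Fin n) := by rwa [Fintype.card_fin]
  obtain ⟨emb⟩ := Function.Embedding.nonempty_of_card_le h'
  let e : α ≃ {x // x ∈ Set.range emb} := Equiv.ofInjective emb emb.injective
  refine ⟨Perm.extendDomainHom e, Perm.extendDomainHom_injective e, ?_⟩
  intro g
  exact Perm.sign_extendDomain g e

/-- Restrict a subgroup of even permutations to the alternating group. -/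
theorem exists_alt_of_actsOrd (n : ℕ) (q : ℕ) (H : Subgroup (Perm (Fin n)))
    (hH : ∀ x ∈ H, Perm.sign x = 1) :
    ∃ H' : Subgroup (alternatingGroup (Fin n)), Nat.card H' = Nat.card H ∧
      ∀ w, Perm.sign w = 1 → ActsOrd q H w → ∃ w', ActsOrd q H' w' := by
  have hle : H ≤ alternatingGroup (Fin n) := fun x hx => Perm.mem_alternatingGroup.mpr (hH x hx)
  refine ⟨H.subgroupOf (alternatingGroup (Fin n)),
    Nat.card_congr (subgroupOfEquivOfLe hle).toEquiv, ?_⟩
  intro w hw h
  exact ⟨⟨w, Perm.mem_alternatingGroup.mpr hw⟩, actsOrd_subgroupOf q _ H hle w _ h⟩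

theorem exists_model (n p : ℕ) [hp : Fact p.Prime] (hp2 : p ≠ 2) :
    ∃ H : Subgroup (alternatingGroup (Fin n)), Nat.card H = p ^ (n / p) ∧
      (2 ≤ n / p → ∃ w, ActsOrd 2 H w) := by
  classical
  have hcard : Fintype.card (Fin (n / p) × ZMod p) ≤ n := by
    rw [Fintype.card_prod, Fintype.card_fin, ZMod.card]
    exact Nat.div_mul_le_self n p
  obtain ⟨Φ, hΦ, hsign⟩ := exists_signHom (Fin (n / p) × ZMod p) n hcard
  let H₁ : Subgroup (Perm (Fin n)) := (shiftHom (ι := Fin (n / p)) p).range.map Φ
  have hH₁ : ∀ x ∈ H₁, Perm.sign x = 1 := by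
    rintro _ ⟨_, ⟨f, rfl⟩, rfl⟩
    rw [hsign]
    exact sign_shiftHom p hp2 f
  obtain ⟨H', hc, hw⟩ := exists_alt_of_actsOrd n 2 H₁ hH₁
  refine ⟨H', ?_, ?_⟩
  · rw [hc, card_map_of_injective hΦ, card_shiftHom_range, Fintype.card_fin]
  · intro hr
    let i₀ : Fin (n / p) := ⟨0, by omega⟩
    let i₁ : Fin (n / p) := ⟨1, by omega⟩
    have hne : i₀ ≠ i₁ := by
      intro h; have := congrArg Fin.val h; simp [i₀, i₁] at this
    have h1 := actsOrd_negOn p hp2 {i₀, i₁} i₀ (Finset.mem_insert_self _ _)
    have h2 := actsOrd_map Φ hΦ 2 _ _ h1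
    exact hw (Φ (negOn p {i₀, i₁})) (by rw [hsign]; exact sign_negOn_pair p i₀ i₁ hne) h2

theorem odd_case (n p : ℕ) [hp : Fact p.Prime] (hp2 : p ≠ 2)
    (P : Sylow p (alternatingGroup (Fin n)))
    (hP : ∀ x ∈ (P : Subgroup (alternatingGroup (Fin n))),
      ∀ y ∈ (P : Subgroup (alternatingGroup (Fin n))), x * y = y * x) :
    2 ∣ autIdx (P : Subgroup (alternatingGroup (Fin n))) ∨
      IsCyclic (P : Subgroup (alternatingGroup (Fin n))) := by
  obtain ⟨H, hcH, hwH⟩ := exists_model n p hp2
  have hpH : IsPGroup p H := IsPGroup.of_card hcH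
  obtain ⟨Q, hQ⟩ := hpH.exists_le_sylow
  have hQP : Nat.card Q = Nat.card P := by
    rw [Q.card_eq_multiplicity, P.card_eq_multiplicity]
  have hcomm : ∀ a b : (P : Subgroup (alternatingGroup (Fin n))), a * b = b * a := by
    rintro ⟨a, ha⟩ ⟨b, hb⟩
    exact Subtype.ext (hP a ha b hb)
  have hle : Nat.card (P : Subgroup (alternatingGroup (Fin n))) ≤ p ^ (n / p) :=
    card_le_pow_of_comm p n (P : Subgroup (alternatingGroup (Fin n))) (Fin n) hcomm P.isPGroup'
      (by simp)
  have hHQ : H = (Q : Subgroup (alternatingGroup (Fin n))) := by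
    apply Subgroup.eq_of_le_of_card_ge hQ
    rw [hcH]
    exact hQP.le.trans hle
  have hcP : Nat.card (P : Subgroup (alternatingGroup (Fin n))) = p ^ (n / p) := by
    have : Nat.card (Q : Subgroup (alternatingGroup (Fin n))) = p ^ (n / p) := by
      rw [← hHQ, hcH]
    exact hQP.symm.trans this
  by_cases hr : 2 ≤ n / p
  · left
    obtain ⟨w, hw⟩ := hwH hr
    rw [autIdx_sylow_eq P Q, ← hHQ]
    exact dvd_autIdx 2 H w hw
  · right
    push Not at hr
    interval_cases h : n / p
    · rw [pow_zero] at hcP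
      have : Subsingleton (P : Subgroup (alternatingGroup (Fin n))) :=
        (Nat.card_eq_one_iff_unique.mp hcP).1
      exact isCyclic_of_subsingleton
    · rw [pow_one] at hcP
      exact isCyclic_of_prime_card hcP

/-- the involution `(0 1)(2 3)` of `Fin 6`. -/
def z6 : Perm (Fin 6) := swap 0 1 * swap 2 3

set_option maxRecDepth 100000 in
theorem z6_key : ∀ g : Perm (Fin 6), g * z6 = z6 * g → Perm.sign g = 1 → g ^ 4 = 1 := by
  decide

/-- `(0 1)(4 5)` -/
def a6 : Perm (Fin 6) := swap 0 1 * swap 4 5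
/-- `(0 2)(1 3)` -/
def b6 : Perm (Fin 6) := swap 0 2 * swap 1 3

theorem a6_b6 : a6 * z6 = z6 * a6 ∧ Perm.sign a6 = 1 ∧ b6 * z6 = z6 * b6 ∧ Perm.sign b6 = 1 ∧
    a6 * b6 ≠ b6 * a6 := by
  decide

/-- `D₈` inside `A₆`. -/
def D6 : Subgroup (Perm (Fin 6)) := centralizer {z6} ⊓ alternatingGroup (Fin 6)

theorem mem_D6 (g : Perm (Fin 6)) : g ∈ D6 ↔ g * z6 = z6 * g ∧ Perm.sign g = 1 := by
  unfold D6
  rw [mem_inf, mem_centralizer_iff, Perm.mem_alternatingGroup]
  constructor
  · rintro ⟨h1, h2⟩
    exact ⟨(h1 z6 rfl).symm, h2⟩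
  · rintro ⟨h1, h2⟩
    refine ⟨?_, h2⟩
    intro y hy
    rw [Set.mem_singleton_iff] at hy
    subst hy
    exact h1.symm

theorem isPGroup_D6 : IsPGroup 2 D6 := by
  rintro ⟨g, hg⟩
  rw [mem_D6] at hg
  refine ⟨2, ?_⟩
  apply Subtype.ext
  simpa using z6_key g hg.1 hg.2

theorem two_case (n : ℕ) (hn : 6 ≤ n) (P : Sylow 2 (alternatingGroup (Fin n)))
    (hP : ∀ x ∈ (P : Subgroup (alternatingGroup (Fin n))),
      ∀ y ∈ (P : Subgroup (alternatingGroup (Fin n))), x * y = y * x) : False := by
  obtain ⟨Φ, hΦ, hsign⟩ := exists_signHom (Fin 6) n (by simpa using hn)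
  let H₁ : Subgroup (Perm (Fin n)) := D6.map Φ
  have hle : H₁ ≤ alternatingGroup (Fin n) := by
    rintro _ ⟨g, hg, rfl⟩
    rw [Perm.mem_alternatingGroup, hsign]
    exact ((mem_D6 g).mp hg).2
  have hp1 : IsPGroup 2 H₁ := isPGroup_D6.map Φ
  let H' : Subgroup (alternatingGroup (Fin n)) := H₁.subgroupOf (alternatingGroup (Fin n))
  have hp' : IsPGroup 2 H' := hp1.of_equiv (subgroupOfEquivOfLe hle).symm
  have hcomm := comm_of_sylow_comm P hP H' hp'
  obtain ⟨ha1, ha2, hb1, hb2, hab⟩ := a6_b6
  have haD : a6 ∈ D6 := (mem_D6 _).mpr ⟨ha1, ha2⟩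
  have hbD : b6 ∈ D6 := (mem_D6 _).mpr ⟨hb1, hb2⟩
  have haH : Φ a6 ∈ H₁ := mem_map_of_mem Φ haD
  have hbH : Φ b6 ∈ H₁ := mem_map_of_mem Φ hbD
  have h1 := hcomm ⟨Φ a6, hle haH⟩ (by rw [mem_subgroupOf]; exact haH)
    ⟨Φ b6, hle hbH⟩ (by rw [mem_subgroupOf]; exact hbH)
  have h2 := congrArg Subtype.val h1
  simp only [Subgroup.coe_mul, ← map_mul] at h2
  exact hab (hΦ h2)

/-- the involution `(0 1)(2 3)` of `A₅`. -/
def a5 : alternatingGroup (Fin 5) := ⟨swap 0 1 * swap 2 3, Perm.mem_alternatingGroup.mpr (by decide)⟩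

set_option maxRecDepth 100000 in
theorem a5_exp : ∀ g : alternatingGroup (Fin 5), g ^ 4 = 1 → g ^ 2 = 1 := by
  decide

set_option maxRecDepth 100000 in
theorem a5_cardV : Fintype.card {g : alternatingGroup (Fin 5) // g * a5 = a5 * g} = 4 := by
  decide

set_option maxRecDepth 100000 in
theorem a5_cardC : Fintype.card {g : alternatingGroup (Fin 5) //
    ∀ h : alternatingGroup (Fin 5), h * a5 = a5 * h → h * g = g * h} = 4 := by
  decide

set_option maxRecDepth 100000 in
theorem a5_cardN : Fintype.card {g : alternatingGroup (Fin 5) //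
    ∀ h : alternatingGroup (Fin 5), h * a5 = a5 * h ↔ (g * h * g⁻¹) * a5 = a5 * (g * h * g⁻¹)} = 12 := by
  decide


/-- the four-group `C(a5)` in `A₅`. -/
def V5 : Subgroup (alternatingGroup (Fin 5)) := centralizer {a5}

theorem mem_V5 (g : alternatingGroup (Fin 5)) : g ∈ V5 ↔ g * a5 = a5 * g := by
  unfold V5
  rw [mem_centralizer_iff]
  constructor
  · intro h; exact (h a5 rfl).symm
  · intro h y hy
    rw [Set.mem_singleton_iff] at hy
    subst hy
    exact h.symm

theorem card_V5 : Nat.card V5 = 4 := by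
  rw [← a5_cardV, ← Nat.card_eq_fintype_card]
  exact Nat.card_congr (Equiv.subtypeEquivRight mem_V5)

theorem card_centralizer_V5 : Nat.card (centralizer (V5 : Set (alternatingGroup (Fin 5)))) = 4 := by
  rw [← a5_cardC, ← Nat.card_eq_fintype_card]
  refine Nat.card_congr (Equiv.subtypeEquivRight fun g => ?_)
  rw [mem_centralizer_iff]
  constructor
  · intro h y hy
    exact h y ((mem_V5 y).mpr hy)
  · intro h y hy
    exact h y ((mem_V5 y).mp hy)

theorem card_normalizer_V5 : Nat.card (normalizer (V5 : Set (alternatingGroup (Fin 5)))) = 12 := by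
  rw [← a5_cardN, ← Nat.card_eq_fintype_card]
  refine Nat.card_congr (Equiv.subtypeEquivRight fun g => ?_)
  rw [mem_normalizer_iff]
  constructor
  · intro h y
    rw [← mem_V5, ← mem_V5]
    exact h y
  · intro h y
    rw [mem_V5, mem_V5]
    exact h y

theorem autIdx_V5 : autIdx V5 = 3 := by
  unfold autIdx
  have h1 := relIndex_mul_relIndex (⊥ : Subgroup (alternatingGroup (Fin 5)))
    (centralizer (V5 : Set (alternatingGroup (Fin 5))))
    (normalizer (V5 : Set (alternatingGroup (Fin 5)))) bot_le (centralizer_le_normalizer _)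
  rw [relIndex_bot_left, relIndex_bot_left, card_centralizer_V5, card_normalizer_V5] at h1
  change relIndex _ _ = 3
  omega

theorem five_case (P : Sylow 2 (alternatingGroup (Fin 5))) :
    autIdx (P : Subgroup (alternatingGroup (Fin 5))) = 3 ∧
      IsKleinFour (P : Subgroup (alternatingGroup (Fin 5))) := by
  have hcP : Nat.card (P : Subgroup (alternatingGroup (Fin 5))) = 4 := by
    have := Cfsg.Agent.Lib.Helper1.NAlt.card_sylow_two_alt 5 (by norm_num) P
    have he : Cfsg.Agent.Lib.Helper1.NSym.e2 5 = 3 := by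
      have := Cfsg.Agent.Lib.Helper1.NSym.e2_four_add_one 1
      rw [show 4 * 1 + 1 = 5 from rfl, show 4 * 1 = 4 from rfl,
        Cfsg.Agent.Lib.Helper1.NAlt.e2_four] at this
      exact this
    rw [he] at this
    exact this
  constructor
  · have hV : Nat.card V5 = 2 ^ (Nat.card (alternatingGroup (Fin 5))).factorization 2 := by
      rw [card_V5, ← hcP, P.card_eq_multiplicity]
    rw [autIdx_sylow_eq P (Sylow.ofCard V5 hV), Sylow.coe_ofCard]
    exact autIdx_V5
  · refine ⟨hcP, ?_⟩
    have h2 : ∀ g : (P : Subgroup (alternatingGroup (Fin 5))), g ^ 2 = 1 := by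
      intro g
      have h4 : g ^ 4 = 1 := by rw [← hcP]; exact pow_card_eq_one'
      have h4' : (g : alternatingGroup (Fin 5)) ^ 4 = 1 := by
        have := congrArg Subtype.val h4
        simpa using this
      apply Subtype.ext
      simpa using a5_exp _ h4'
    have hd : Monoid.exponent (P : Subgroup (alternatingGroup (Fin 5))) ∣ 2 :=
      Monoid.exponent_dvd_of_forall_pow_eq_one h2
    rcases (Nat.dvd_prime Nat.prime_two).mp hd with h | h
    · exfalso
      rw [Monoid.exp_eq_one_iff] at h
      have := Nat.card_unique (α := (P : Subgroup (alternatingGroup (Fin 5))))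
      omega
    · exact h

end Cfsg.Agent.Lib.Helper1.AAS
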