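import Mathlib

set_option autoImplicit false

/-! Three small pieces for helper15's S2474 (farm-out FO-1, FO-2, FO-3). -/

namespace Cfsg.Agent.Lib.Helper1.BCFO

open Module

/-- powers of `1 + N` when `N * N = 0` -/
theorem one_add_pow_of_sq_zero {R : Type*} [Ring R] (N : R) (hNN : N * N = 0) (k : ℕ) :
    (1 + N) ^ k = 1 + (k : R) * N := by
  induction k with
  | zero => simp
  | succ k ih =>
    rw [pow_succ, ih]
    push_cast
    have : (1 + (k : R) * N) * (1 + N) = 1 + N + (k : R) * N + (k : R) * (N * N) := by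
      noncomm_ring
    rw [this, hNN]
    noncomm_ring

/-- FO-3: a transvection of order `p` on any nonzero nondegenerate alternating space. -/
theorem exists_transvection_alt {F V : Type*} [Field F] [AddCommGroup V] [Module F V] (p : ℕ)
    [Fact p.Prime] [CharP F p] (B : V →ₗ[F] V →ₗ[F] F) (halt : ∀ x, B x x = 0)
    (hnd : ∀ x, (∀ y, B x y = 0) → x = 0) (hV : ∃ x : V, x ≠ 0) :
    ∃ u : Module.End F V, (∀ x y, B (u x) (u y) = B x y) ∧ u ^ p = 1 ∧ u ≠ 1 := by
  obtain ⟨e, he⟩ := hV
  have hskew : ∀ x y, B x y = -B y x := by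
    intro x y
    have h := halt (x + y)
    simp only [map_add, LinearMap.add_apply, halt, zero_add, add_zero] at h
    linear_combination h
  -- u v = v + B(v,e) e
  let N : Module.End F V := (B.flip e).smulRight e
  have hN : ∀ v, N v = B v e • e := fun v => by
    simp [N, LinearMap.smulRight_apply, LinearMap.flip_apply]
  have hNN : N * N = 0 := by
    apply LinearMap.ext
    intro v
    rw [Module.End.mul_apply, hN, hN, map_smul, LinearMap.smul_apply, halt, smul_zero, zero_smul]
    rfl
  refine ⟨1 + N, ?_, ?_, ?_⟩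
  · intro x y
    simp only [LinearMap.add_apply, Module.End.one_apply, hN, map_add, map_smul,
      LinearMap.smul_apply, halt, smul_eq_mul]
    rw [hskew e y]
    ring
  · rw [one_add_pow_of_sq_zero N hNN p]
    have : ((p : ℕ) : Module.End F V) = 0 := by
      apply LinearMap.ext
      intro v
      rw [Module.End.natCast_apply, LinearMap.zero_apply, ← Nat.cast_smul_eq_nsmul F,
        CharP.cast_eq_zero, zero_smul]
    rw [this, zero_mul, add_zero]
  · intro h
    have hN0 : N = 0 := by
      have := congrArg (fun f => f - 1) h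
      simpa using this
    have : ∀ y, B e y = 0 := by
      intro y
      have h1 : N y = 0 := by rw [hN0]; rfl
      rw [hN] at h1
      rcases smul_eq_zero.mp h1 with h2 | h2
      · rw [hskew, h2, neg_zero]
      · exact absurd h2 he
    exact he (hnd e this)

open Matrix in
/-- FO-2: a unipotent isometry of order `p` on a 3-dimensional nondegenerate symmetric space. -/
theorem exists_unipotent_three {F : Type*} [Field F] (p : ℕ) [Fact p.Prime] [CharP F p]
    (hp2 : p ≠ 2) :
    ∃ (B : (Fin 3 → F) →ₗ[F] (Fin 3 → F) →ₗ[F] F) (u : Module.End F (Fin 3 → F)),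
      (∀ x y, B x y = B y x) ∧ (∀ x, (∀ y, B x y = 0) → x = 0) ∧
      (∀ x y, B (u x) (u y) = B x y) ∧ u ^ p = 1 ∧ u ≠ 1 := by
  have h2 : (2 : F) ≠ 0 := by
    intro h
    have h' : ((2 : ℕ) : F) = 0 := by exact_mod_cast h
    have := (CharP.cast_eq_zero_iff F p 2).mp h'
    have hp := (Fact.out : p.Prime)
    have := (Nat.prime_dvd_prime_iff_eq hp Nat.prime_two).mp this
    exact hp2 this
  let M : Matrix (Fin 3) (Fin 3) F := !![0, 0, 1; 0, 2, 0; 1, 0, 0]
  let U : Matrix (Fin 3) (Fin 3) F := !![1, -2, -1; 0, 1, 1; 0, 0, 1]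
  let Nn : Matrix (Fin 3) (Fin 3) F := !![0, -2, -1; 0, 0, 1; 0, 0, 0]
  have hB : ∀ x y : Fin 3 → F, Matrix.toLinearMap₂' F M x y
      = x 0 * y 2 + 2 * x 1 * y 1 + x 2 * y 0 := by
    intro x y
    simp [Matrix.toLinearMap₂'_apply, Fin.sum_univ_three, M]
    ring
  have hu : ∀ x : Fin 3 → F, Matrix.toLin' U x = ![x 0 - 2 * x 1 - x 2, x 1 + x 2, x 2] := by
    intro x
    ext i
    fin_cases i <;> simp [Matrix.toLin'_apply, Matrix.mulVec, dotProduct, Fin.sum_univ_three, U]
      <;> ring
  refine ⟨Matrix.toLinearMap₂' F M, Matrix.toLin' U, ?_, ?_, ?_, ?_, ?_⟩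
  · intro x y
    rw [hB, hB]; ring
  · intro x hx
    have e0 := hx ![0, 0, 1]
    have e1 := hx ![0, 1, 0]
    have e2 := hx ![1, 0, 0]
    rw [hB] at e0 e1 e2
    simp at e0 e1 e2
    ext i
    fin_cases i
    · exact e0
    · simpa [h2] using e1
    · exact e2
  · intro x y
    rw [hB, hB, hu, hu]
    simp
    ring
  · have hUN : U = 1 + Nn := by
      ext i j
      fin_cases i <;> fin_cases j <;> simp [U, Nn]
    have hN3 : Nn ^ 3 = 0 := by
      ext i j
      fin_cases i <;> fin_cases j <;>
        simp [Nn, pow_succ, Matrix.mul_apply, Fin.sum_univ_three]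
    have hp3 : 3 ≤ p := by
      have hp := (Fact.out : p.Prime)
      have := hp.two_le
      omega
    have hNp : Nn ^ p = 0 := by
      obtain ⟨k, rfl⟩ : ∃ k, p = 3 + k := ⟨p - 3, by omega⟩
      rw [pow_add, hN3, zero_mul]
    have hUp : U ^ p = 1 := by
      rw [hUN, add_pow_char_of_commute p (Commute.one_left Nn), one_pow, hNp, add_zero]
    rw [← Matrix.toLin'_pow, hUp, Matrix.toLin'_one]
    rfl
  · intro h
    have := congrArg (fun f => f ![0, 0, 1] 1) h
    simp only [hu] at this
    simp at this

/-- FO-1: no nontrivial unipotent isometry of a nondegenerate symmetric space of dimension at most 2. -/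
theorem eq_one_of_unipotent_of_finrank_le_two {F V : Type*} [Field F] [AddCommGroup V]
    [Module F V] [FiniteDimensional F V] (h2 : (2 : F) ≠ 0) (B : V →ₗ[F] V →ₗ[F] F)
    (hsym : ∀ x y, B x y = B y x) (hnd : ∀ x, (∀ y, B x y = 0) → x = 0)
    (hV : Module.finrank F V ≤ 2) (u : Module.End F V)
    (hiso : ∀ x y, B (u x) (u y) = B x y) (k : ℕ) (hu : (u - 1) ^ k = 0) : u = 1 := by
  by_contra hne
  set N : Module.End F V := u - 1 with hN
  have hN0 : N ≠ 0 := fun h => hne (sub_eq_zero.mp h)
  have huN : ∀ x, u x = x + N x := fun x => by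
    rw [hN, LinearMap.sub_apply, Module.End.one_apply]; abel
  -- Step 1
  have step1 : ∀ x, N x = 0 → ∀ y, B x (N y) = 0 := by
    intro x hx y
    have h := hiso x y
    rw [huN x, hx, add_zero, huN y, map_add] at h
    linear_combination h
  -- minimal exponent
  have hex : ∃ j, N ^ j = 0 := ⟨k, hu⟩
  classical
  let m := Nat.find hex
  have hm : N ^ m = 0 := Nat.find_spec hex
  have hm1 : m ≠ 0 := by
    intro h0
    rw [h0, pow_zero] at hm
    -- 1 = 0 in End means V trivial, so N = 0
    apply hN0
    have : ∀ x : V, x = 0 := fun x => by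
      have := congrArg (fun f => f x) hm
      simpa using this
    apply LinearMap.ext
    intro x
    rw [this (N x)]; rfl
  have hm2 : m ≠ 1 := by
    intro h1
    rw [h1, pow_one] at hm
    exact hN0 hm
  obtain ⟨j, hj⟩ : ∃ j, m = j + 2 := ⟨m - 2, by omega⟩
  have hmin : N ^ (j + 1) ≠ 0 := by
    have := Nat.find_min hex (m := j + 1) (by omega)
    exact this
  obtain ⟨w, hw⟩ : ∃ w, (N ^ (j + 1)) w ≠ 0 := by
    by_contra hcon
    push Not at hcon
    exact hmin (LinearMap.ext hcon)
  set v := (N ^ (j + 1)) w with hv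
  have hNv : N v = 0 := by
    rw [hv, ← Module.End.mul_apply, ← pow_succ', ← hj]
    rw [hm]; rfl
  have hvr : v = N ((N ^ j) w) := by
    rw [hv, pow_succ', Module.End.mul_apply]
  have hBvv : B v v = 0 := by
    conv_lhs => rw [hvr]
    rw [← hvr]
    have := step1 v hNv ((N ^ j) w)
    rw [← hvr] at this
    exact this
  obtain ⟨y, hy⟩ : ∃ y, B v y ≠ 0 := by
    by_contra hcon
    push Not at hcon
    exact hw (hnd v hcon)
  -- v, y linearly independent
  have hli : LinearIndependent F ![v, y] := by
    rw [LinearIndependent.pair_iff]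
    intro a b hab
    have h1 : B v (a • v + b • y) = 0 := by rw [hab, map_zero]
    rw [map_add, map_smul, map_smul, hBvv, smul_zero, zero_add, smul_eq_mul] at h1
    have hb : b = 0 := by
      rcases mul_eq_zero.mp h1 with h | h
      · exact h
      · exact absurd h hy
    rw [hb, zero_smul, add_zero] at hab
    rcases smul_eq_zero.mp hab with h | h
    · exact ⟨h, hb⟩
    · exact absurd h hw
  have hcard : Fintype.card (Fin 2) = finrank F V := by
    have := hli.fintype_card_le_finrank
    simp at this ⊢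
    omega
  have hspan : Submodule.span F (Set.range ![v, y]) = ⊤ :=
    hli.span_eq_top_of_card_eq_finrank' hcard
  have hall : ∀ x : V, ∃ a b : F, x = a • v + b • y := by
    intro x
    have hx : x ∈ Submodule.span F (Set.range ![v, y]) := by rw [hspan]; trivial
    rw [Matrix.range_cons, Matrix.range_cons, Matrix.range_empty, Set.union_empty] at hx
    rw [Set.singleton_union] at hx
    obtain ⟨a, b, hab⟩ := Submodule.mem_span_pair.mp hx
    exact ⟨a, b, hab.symm⟩
  -- N y = α v
  obtain ⟨α, β, hαβ⟩ := hall (N y)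
  have hβ : β = 0 := by
    have h1 := step1 v hNv y
    rw [hαβ, map_add, map_smul, map_smul, hBvv, smul_zero, zero_add, smul_eq_mul] at h1
    rcases mul_eq_zero.mp h1 with h | h
    · exact h
    · exact absurd h hy
  rw [hβ, zero_smul, add_zero] at hαβ
  have hα : α = 0 := by
    have h := hiso y y
    rw [huN y, hαβ, map_add, map_add, LinearMap.add_apply, LinearMap.add_apply, map_smul,
      map_smul, LinearMap.smul_apply, LinearMap.smul_apply, map_smul, hBvv, hsym y v] at h
    simp only [smul_eq_mul, mul_zero, add_zero] at h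
    have h3 : 2 * α * B v y = 0 := by linear_combination h
    rcases mul_eq_zero.mp h3 with h4 | h4
    · rcases mul_eq_zero.mp h4 with h5 | h5
      · exact absurd h5 h2
      · exact h5
    · exact absurd h4 hy
  rw [hα, zero_smul] at hαβ
  apply hN0
  apply LinearMap.ext
  intro x
  obtain ⟨a, b, rfl⟩ := hall x
  rw [map_add, map_smul, map_smul, hNv, hαβ, smul_zero, smul_zero, add_zero]
  rfl

end Cfsg.Agent.Lib.Helper1.BCFO
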