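import Mathlib
import Cfsg.Agent.Lib.Helper10.FrobAction

/-!
# Helper1 library: a Frobenius-like group `D R` acting on a `q`-group with `R` acting in a prime
manner and `|C_Q(R)| ≤ q` (the heart of B&G Theorem 15.2).

Abstract-action form (framework of `Cfsg.Agent.Lib.Helper10.FrobAction`): `ψ : L →* MulAut Q`,
`D ⊴ L` nilpotent, `R ≤ L` acting freely on `D`.
-/

set_option autoImplicit false

namespace Cfsg.Agent.Lib.Helper1.BGFrobAct

open Cfsg.Agent.Lib.Helper10.FrobAction
open scoped commutatorElement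

universe u v

section Prime

variable {L : Type v} [Group L] {Q : Type u} [Group Q] (ψ : L →* MulAut Q)

/-- `R` acts in a prime manner: a fixed point of a non-identity element of `R` is fixed by `R`. -/
def PrimeAct (R : Subgroup L) : Prop :=
  ∀ r ∈ R, r ≠ 1 → ∀ m : Q, ψ r m = m → m ∈ fixedSub ψ R

/-- the stabilizer of a point. -/
def stab (m : Q) : Subgroup L where
  carrier := {s | ψ s m = m}
  mul_mem' := by
    intro a b ha hb
    show ψ (a * b) m = m
    rw [map_mul, MulAut.mul_apply, hb, ha]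
  one_mem' := by
    show ψ 1 m = m
    rw [map_one, MulAut.one_apply]
  inv_mem' := by
    intro a ha
    show ψ a⁻¹ m = m
    have h : ψ a m = m := ha
    calc ψ a⁻¹ m = ψ a⁻¹ (ψ a m) := by rw [h]
      _ = m := psi_inv_apply ψ a m

theorem mem_stab {m : Q} {s : L} : s ∈ stab ψ m ↔ ψ s m = m := Iff.rfl

theorem fixed_zpowers {r : L} {m : Q} (h : ψ r m = m) : ∀ s ∈ Subgroup.zpowers r, ψ s m = m := by
  intro s hs
  have h1 : Subgroup.zpowers r ≤ stab ψ m := Subgroup.zpowers_le.mpr h
  exact h1 hs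

theorem mem_fixedSub_zpowers {r : L} {m : Q} :
    m ∈ fixedSub ψ (Subgroup.zpowers r) ↔ ψ r m = m :=
  ⟨fun h => h r (Subgroup.mem_zpowers r), fun h => fixed_zpowers ψ h⟩

theorem primeAct_res {R : Subgroup L} (h : PrimeAct ψ R) (N : Subgroup Q) (hN : Invariant ψ N) :
    PrimeAct (resHom ψ N hN) R := by
  intro r hr hr1 n hn s hs
  apply Subtype.ext
  have h1 : ψ r (n : Q) = n := congrArg Subtype.val hn
  exact h r hr hr1 n h1 s hs

theorem ker_res_of_fixed (N : Subgroup Q) (hN : Invariant ψ N) {g : L}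
    (h : ∀ n ∈ N, ψ g n = n) : resHom ψ N hN g = 1 := by
  ext n
  exact h n n.2

end Prime

section Quot

variable {L : Type v} [Group L] [Finite L] {Q : Type u} [Group Q] [Finite Q] (ψ : L →* MulAut Q)

theorem primeAct_quo {R : Subgroup L} (h : PrimeAct ψ R) (N : Subgroup Q) [N.Normal]
    (hNab : ∀ x ∈ N, ∀ y ∈ N, x * y = y * x) (hN : Invariant ψ N)
    (hcop : (Nat.card L).Coprime (Nat.card N)) :
    PrimeAct (quoHom ψ N hN) R := by
  intro r hr hr1 x hx s hs
  have hcop' : (Nat.card (Subgroup.zpowers r)).Coprime (Nat.card N) :=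
    Nat.Coprime.coprime_dvd_left (Subgroup.card_subgroup_dvd_card _) hcop
  have hx' : x ∈ fixedSub (quoHom ψ N hN) (Subgroup.zpowers r) :=
    (mem_fixedSub_zpowers _).mpr hx
  obtain ⟨m, hm⟩ := fixedMap_surjective ψ N hNab hN (Subgroup.zpowers r) hcop' ⟨x, hx'⟩
  have h1 : (((m : Q)) : Q ⧸ N) = x := congrArg Subtype.val hm
  have h2 : ψ r (m : Q) = m := m.2 r (Subgroup.mem_zpowers r)
  have h3 := h r hr hr1 (m : Q) h2 s hs
  rw [← h1, quoHom_mk, h3]

/-- an element acting trivially on `N` and on `Q ⧸ N` acts trivially (coprime case). -/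
theorem eq_one_of_res_quo (N : Subgroup Q) [N.Normal] (hN : Invariant ψ N) (g : L)
    (hcop : (Nat.card L).Coprime (Nat.card N))
    (h1 : resHom ψ N hN g = 1) (h2 : quoHom ψ N hN g = 1) : ψ g = 1 := by
  apply eq_one_of_stabilizes ψ N g hcop
  · intro n hn
    have := DFunLike.congr_fun h1 ⟨n, hn⟩
    exact congrArg Subtype.val this
  · intro m
    have := DFunLike.congr_fun h2 (m : Q ⧸ N)
    rw [quoHom_mk, MulAut.one_apply] at this
    rw [← QuotientGroup.eq]
    exact this.symm

end Quot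

end Cfsg.Agent.Lib.Helper1.BGFrobAct
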