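import Mathlib
import Cfsg.Agent.Lib.Helper1.BGFrobActA
import Cfsg.Agent.Lib.Helper10.FrobSub

set_option autoImplicit false

/-!
# Helper1 library: Frobenius-like group acting on a `q`-group with prime action (B&G 15.2 core)

`main` (abstract action `ψ : L →* MulAut Q`) and `main_sub` (subgroups of an ambient group):
`D` nilpotent normalized by `K ≠ 1`, `K` free on `D`, `DK` acting coprimely on the `q`-group `Q`,
`K` in a prime manner with `|C_Q(K)| ≤ q`, `[Q, D] ≠ 1`.  Then `|K|` is prime, `|C_Q(K)| = q`,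
`Φ(Q) ≤ Q₀ = C_Q(D)`, `|Q : Q₀| = q ^ |K|`, `Q / Q₀` is `DK`-irreducible, `[D, D]` centralizes `Q`.
-/


namespace Cfsg.Agent.Lib.Helper1.BGFrobAct

open Cfsg.Agent.Lib.Helper10.FrobAction
open scoped commutatorElement

universe u v

/-- the conclusions of the main lemma. -/
structure Concl {L : Type v} [Group L] {Q : Type u} [Group Q] (ψ : L →* MulAut Q)
    (D R : Subgroup L) (q : ℕ) : Prop where
  card_R : (Nat.card R).Prime
  card_fix : Nat.card (fixedSub ψ R) = q
  frat : ∀ x y : Q, x ^ q ∈ fixedSub ψ D ∧ ⁅x, y⁆ ∈ fixedSub ψ D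
  index : (fixedSub ψ D).index = q ^ Nat.card R
  irred : ∀ N : Subgroup Q, Invariant ψ N → fixedSub ψ D ≤ N → N = fixedSub ψ D ∨ N = ⊤
  comm : ∀ x ∈ D, ∀ y ∈ D, ψ ⁅x, y⁆ = 1

section CaseB

variable {L : Type v} [Group L] [Finite L] {Q : Type u} [Group Q] [Finite Q] (ψ : L →* MulAut Q)

/-- Case B: `D` acts trivially on the abelian normal invariant subgroup `N`; lift the conclusions
from `Q ⧸ N`. -/
theorem concl_of_quo (D R : Subgroup L) (q : ℕ) (N : Subgroup Q) [N.Normal]
    (hNab : ∀ x ∈ N, ∀ y ∈ N, x * y = y * x) (hN : Invariant ψ N)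
    (hcop : (Nat.card L).Coprime (Nat.card N))
    (hfix : Nat.card (fixedSub ψ R) ≤ q)
    (hDN : ∀ d ∈ D, ∀ n ∈ N, ψ d n = n)
    (h : Concl (quoHom ψ N hN) D R q) : Concl ψ D R q := by
  have hcopD : (Nat.card D).Coprime (Nat.card N) :=
    Nat.Coprime.coprime_dvd_left (Subgroup.card_subgroup_dvd_card _) hcop
  have hcopR : (Nat.card R).Coprime (Nat.card N) :=
    Nat.Coprime.coprime_dvd_left (Subgroup.card_subgroup_dvd_card _) hcop
  have hNQ0 : N ≤ fixedSub ψ D := fun n hn d hd => hDN d hd n hn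
  -- membership in `Q₀` via the quotient
  have hmem : ∀ x : Q, x ∈ fixedSub ψ D ↔ (x : Q ⧸ N) ∈ fixedSub (quoHom ψ N hN) D := by
    intro x
    constructor
    · intro hx d hd
      rw [quoHom_mk, hx d hd]
    · intro hx
      obtain ⟨m, hm⟩ := fixedMap_surjective ψ N hNab hN D hcopD ⟨(x : Q ⧸ N), hx⟩
      have h1 : (((m : Q)) : Q ⧸ N) = (x : Q ⧸ N) := congrArg Subtype.val hm
      have h2 : (m : Q)⁻¹ * x ∈ N := QuotientGroup.eq.mp h1
      have h3 : x = (m : Q) * ((m : Q)⁻¹ * x) := by group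
      rw [h3]
      exact (fixedSub ψ D).mul_mem m.2 (hNQ0 h2)
  refine ⟨h.card_R, ?_, ?_, ?_, ?_, ?_⟩
  · have h1 := card_fixedSub_eq ψ N hNab hN R hcopR
    rw [h.card_fix] at h1
    have h2 : 0 < Nat.card (fixedSub (resHom ψ N hN) R) := Nat.card_pos
    have h4 : 0 < q := by
      rw [← h.card_fix]
      exact Nat.card_pos
    rw [h1] at hfix ⊢
    have h5 : Nat.card (fixedSub (resHom ψ N hN) R) = 1 := by
      by_contra hne
      have h6 : 2 ≤ Nat.card (fixedSub (resHom ψ N hN) R) := by omega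
      nlinarith
    rw [h5, one_mul]
  · intro x y
    have := h.frat (x : Q ⧸ N) (y : Q ⧸ N)
    constructor
    · rw [hmem]
      exact this.1
    · rw [hmem]
      exact this.2
  · have h1 : fixedSub ψ D = (fixedSub (quoHom ψ N hN) D).comap (QuotientGroup.mk' N) := by
      ext x
      rw [hmem, Subgroup.mem_comap]
      rfl
    rw [h1, Subgroup.index_comap_of_surjective _ (QuotientGroup.mk'_surjective N)]
    exact h.index
  · intro N' hN' hQN'
    have hinv : Invariant (quoHom ψ N hN) (N'.map (QuotientGroup.mk' N)) := by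
      rintro g _ ⟨y, hy, rfl⟩
      exact ⟨ψ g y, hN' g y hy, rfl⟩
    have hle : fixedSub (quoHom ψ N hN) D ≤ N'.map (QuotientGroup.mk' N) := by
      intro x hx
      obtain ⟨y, rfl⟩ := QuotientGroup.mk_surjective x
      exact ⟨y, hQN' ((hmem y).mpr hx), rfl⟩
    rcases h.irred _ hinv hle with h1 | h1
    · left
      apply le_antisymm _ hQN'
      intro y hy
      rw [hmem]
      rw [← h1]
      exact ⟨y, hy, rfl⟩
    · right
      rw [eq_top_iff]
      intro x _
      have h2 : (x : Q ⧸ N) ∈ N'.map (QuotientGroup.mk' N) := h1 ▸ Subgroup.mem_top _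
      obtain ⟨y, hy, hyx⟩ := h2
      have h3 : y⁻¹ * x ∈ N := QuotientGroup.eq.mp hyx
      have h4 : x = y * (y⁻¹ * x) := by group
      rw [h4]
      exact N'.mul_mem hy (hQN' (hNQ0 h3))
  · intro x hx y hy
    apply eq_one_of_res_quo ψ N hN _ hcop
    · apply ker_res_of_fixed
      intro n hn
      have hc : ⁅x, y⁆ ∈ D := by
        rw [commutatorElement_def]
        exact D.mul_mem (D.mul_mem (D.mul_mem hx hy) (D.inv_mem hx)) (D.inv_mem hy)
      exact hDN _ hc n hn
    · exact h.comm x hx y hy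

end CaseB



theorem comm_mul_central {Q : Type u} [Group Q] (a b z w : Q) (hz : ∀ y : Q, z * y = y * z)
    (hw : ∀ y : Q, w * y = y * w) : ⁅a * z, b * w⁆ = ⁅a, b⁆ := by
  rw [commutatorElement_def, commutatorElement_def]
  calc a * z * (b * w) * (a * z)⁻¹ * (b * w)⁻¹
      = a * (z * (b * w)) * (z⁻¹ * a⁻¹) * (w⁻¹ * b⁻¹) := by group
    _ = a * ((b * w) * z) * (z⁻¹ * a⁻¹) * (w⁻¹ * b⁻¹) := by rw [hz (b * w)]
    _ = a * b * (w * a⁻¹) * w⁻¹ * b⁻¹ := by group
    _ = a * b * (a⁻¹ * w) * w⁻¹ * b⁻¹ := by rw [hw a⁻¹]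
    _ = a * b * a⁻¹ * b⁻¹ := by group

section CaseA

variable {L : Type v} [Group L] [Finite L] {Q : Type u} [Group Q] [Finite Q] (ψ : L →* MulAut Q)

/-- Case A: `D` acts nontrivially on a minimal invariant central subgroup `N`. -/
theorem concl_of_min (D R : Subgroup L) [D.Normal] (hDnil : Group.IsNilpotent D)
    (hfpf : ∀ r ∈ R, r ≠ 1 → ∀ d ∈ D, r * d = d * r → d = 1) (hR1 : R ≠ ⊥)
    (q : ℕ) (hq : q.Prime) (hQ : IsPGroup q Q)
    (hcop : (Nat.card L).Coprime (Nat.card Q)) (hpr : PrimeAct ψ R)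
    (hfix : Nat.card (fixedSub ψ R) ≤ q)
    (N : Subgroup Q) [N.Normal] (hNZ : N ≤ Subgroup.center Q) (hN1 : N ≠ ⊥) (hN : Invariant ψ N)
    (hmin : ∀ N' : Subgroup Q, N' ≤ N → N' ≠ ⊥ → Invariant ψ N' → N' = N)
    (hDN : ¬ ∀ d ∈ D, ∀ n ∈ N, ψ d n = n)
    (hquo : (¬ D ≤ (quoHom ψ N hN).ker) → Nat.card (fixedSub (quoHom ψ N hN) R) = q) :
    Concl ψ D R q := by
  classical
  haveI : Fact q.Prime := ⟨hq⟩
  have hNab : ∀ x ∈ N, ∀ y ∈ N, x * y = y * x := fun x hx y _ =>
    (Subgroup.mem_center_iff.mp (hNZ hx) y).symm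
  have hcen : ∀ z ∈ N, ∀ y : Q, z * y = y * z := fun z hz y =>
    (Subgroup.mem_center_iff.mp (hNZ hz) y).symm
  have hcopN : (Nat.card L).Coprime (Nat.card N) :=
    Nat.Coprime.coprime_dvd_right (Subgroup.card_subgroup_dvd_card N) hcop
  have hcopD : (Nat.card D).Coprime (Nat.card N) :=
    Nat.Coprime.coprime_dvd_left (Subgroup.card_subgroup_dvd_card _) hcopN
  have hcopR : (Nat.card R).Coprime (Nat.card N) :=
    Nat.Coprime.coprime_dvd_left (Subgroup.card_subgroup_dvd_card _) hcopN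
  have hQ0inv : Invariant ψ (fixedSub ψ D) := invariant_fixedSub ψ D
  -- A1: `C_N(D) = 1`
  have hA1 : fixedSub ψ D ⊓ N = ⊥ := by
    by_contra hne
    have h1 : fixedSub ψ D ⊓ N = N := by
      apply hmin _ inf_le_right hne
      intro g n hn
      exact Subgroup.mem_inf.mpr ⟨hQ0inv g n (Subgroup.mem_inf.mp hn).1,
        hN g n (Subgroup.mem_inf.mp hn).2⟩
    apply hDN
    intro d hd n hn
    have h2 : n ∈ fixedSub ψ D ⊓ N := by rw [h1]; exact hn
    exact (Subgroup.mem_inf.mp h2).1 d hd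
  have hCK : ∀ n : N, (∀ d ∈ D, resHom ψ N hN d n = n) → n = 1 := by
    intro n hn
    have h1 : (n : Q) ∈ fixedSub ψ D ⊓ N := by
      refine Subgroup.mem_inf.mpr ⟨?_, n.2⟩
      intro d hd
      exact congrArg Subtype.val (hn d hd)
    rw [hA1, Subgroup.mem_bot] at h1
    exact Subtype.ext h1
  have hNnil : Group.IsNilpotent N := (hQ.to_subgroup N).isNilpotent
  have hDsolv : Group.IsSolvable D := inferInstance
  -- A2: Theorem B for `R` and for a subgroup of prime order
  have hB := card_eq_card_fixedSub_pow D R hDsolv hfpf N (resHom ψ N hN) hNnil hcopN hCK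
  have hR1' : Nat.card R ≠ 1 := fun h => hR1 (Subgroup.eq_bot_of_card_eq R h)
  obtain ⟨p, hp, hpdvd⟩ := Nat.exists_prime_and_dvd hR1'
  haveI : Fact p.Prime := ⟨hp⟩
  obtain ⟨r, hr⟩ := exists_prime_orderOf_dvd_card' p hpdvd
  have hr1 : (r : L) ≠ 1 := by
    intro h
    have h1 : r = 1 := Subtype.ext h
    rw [h1, orderOf_one] at hr
    exact hp.one_lt.ne hr
  have hrord : orderOf (r : L) = p := by rw [Subgroup.orderOf_coe, hr]
  have hR₀ : Subgroup.zpowers (r : L) ≤ R := Subgroup.zpowers_le.mpr r.2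
  have hcardR₀ : Nat.card (Subgroup.zpowers (r : L)) = p := by
    rw [Nat.card_zpowers, hrord]
  have hB₀ := card_eq_card_fixedSub_pow D (Subgroup.zpowers (r : L)) hDsolv
    (fun s hs hs1 d hd => hfpf s (hR₀ hs) hs1 d hd) N (resHom ψ N hN) hNnil hcopN hCK
  have hprN := primeAct_res ψ hpr N hN
  have hfixeq : fixedSub (resHom ψ N hN) (Subgroup.zpowers (r : L))
      = fixedSub (resHom ψ N hN) R := by
    apply le_antisymm
    · intro n hn
      exact hprN r r.2 hr1 n (hn r (Subgroup.mem_zpowers _))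
    · intro n hn s hs
      exact hn s (hR₀ hs)
  rw [hfixeq, hcardR₀] at hB₀
  have hN2 : 1 < Nat.card N := (Subgroup.one_lt_card_iff_ne_bot N).mpr hN1
  set c := Nat.card (fixedSub (resHom ψ N hN) R) with hc
  have hc2 : 2 ≤ c := by
    by_contra hlt
    have h1 : c = 0 ∨ c = 1 := by omega
    rcases h1 with h1 | h1
    · have : 0 < c := Nat.card_pos
      omega
    · rw [h1, one_pow] at hB
      omega
  have hRp : Nat.card R = p := by
    have h1 : c ^ Nat.card R = c ^ p := by rw [← hB, ← hB₀]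
    exact Nat.pow_right_injective hc2 h1
  -- A3: `c = q`
  have hcle : c ≤ Nat.card (fixedSub ψ R) := by
    let f : fixedSub (resHom ψ N hN) R → fixedSub ψ R := fun n =>
      ⟨((n : N) : Q), fun s hs => congrArg Subtype.val (n.2 s hs)⟩
    have hf : Function.Injective f := by
      intro a b hab
      apply Subtype.ext
      apply Subtype.ext
      exact congrArg (fun z : fixedSub ψ R => (z : Q)) hab
    exact Nat.card_le_card_of_injective f hf
  have hcq : c = q := by
    have h1 : IsPGroup q (fixedSub (resHom ψ N hN) R) := (hQ.to_subgroup N).to_subgroup _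
    haveI : Fact q.Prime := ⟨hq⟩
    obtain ⟨k, hk⟩ := IsPGroup.iff_card.mp h1
    rw [← hc] at hk
    rcases k with _ | k
    · rw [pow_zero] at hk
      omega
    · have h2 : q ∣ c := hk ▸ dvd_pow_self q (Nat.succ_ne_zero k)
      have h3 : q ≤ c := Nat.le_of_dvd (by omega) h2
      omega
  have hfixeq2 := card_fixedSub_eq ψ N hNab hN R hcopR
  rw [← hc, hcq] at hfixeq2
  have hquo1 : Nat.card (fixedSub (quoHom ψ N hN) R) = 1 := by
    have h2 : 0 < Nat.card (fixedSub (quoHom ψ N hN) R) := Nat.card_pos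
    rw [hfixeq2] at hfix
    by_contra hne
    have h6 : 2 ≤ Nat.card (fixedSub (quoHom ψ N hN) R) := by omega
    have : 0 < q := hq.pos
    nlinarith
  have hfixq : Nat.card (fixedSub ψ R) = q := by rw [hfixeq2, hquo1, mul_one]
  -- A4: `D` acts trivially on `Q ⧸ N`
  have hA4 : D ≤ (quoHom ψ N hN).ker := by
    by_contra hne
    have := hquo hne
    rw [hquo1] at this
    exact hq.one_lt.ne this
  -- A5: `Q = Q₀ N`
  have hA5 : ∀ x : Q, ∃ u ∈ N, x * u ∈ fixedSub ψ D := by
    intro x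
    have hx : ∀ d ∈ D, x⁻¹ * ψ d x ∈ N := by
      intro d hd
      have h1 := DFunLike.congr_fun (MonoidHom.mem_ker.mp (hA4 hd)) (x : Q ⧸ N)
      rw [quoHom_mk, MulAut.one_apply] at h1
      exact QuotientGroup.eq.mp h1.symm
    obtain ⟨u, hu, hfixu⟩ := exists_fixed_in_coset ψ D N hNab hN hcopD x hx
    exact ⟨u, hu, hfixu⟩
  -- A6: `N` is elementary abelian
  have hA6 : ∀ n ∈ N, n ^ q = 1 := by
    let Nq : Subgroup Q :=
      { carrier := {n | n ∈ N ∧ n ^ q = 1}
        mul_mem' := by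
          rintro a b ⟨ha, ha'⟩ ⟨hb, hb'⟩
          refine ⟨N.mul_mem ha hb, ?_⟩
          rw [(show Commute a b from hNab a ha b hb).mul_pow, ha', hb', one_mul]
        one_mem' := ⟨N.one_mem, one_pow q⟩
        inv_mem' := by
          rintro a ⟨ha, ha'⟩
          exact ⟨N.inv_mem ha, by rw [inv_pow, ha', inv_one]⟩ }
    have hNq : Nq = N := by
      apply hmin Nq (fun n hn => hn.1)
      · haveI : Fact q.Prime := ⟨hq⟩
        have hqd : q ∣ Nat.card N := by
          obtain ⟨k, hk⟩ := IsPGroup.iff_card.mp (hQ.to_subgroup N)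
          rcases k with _ | k
          · rw [pow_zero] at hk
            omega
          · exact hk ▸ dvd_pow_self q (Nat.succ_ne_zero k)
        obtain ⟨x, hx⟩ := exists_prime_orderOf_dvd_card' q hqd
        intro hbot
        have h1 : (x : Q) ∈ Nq := by
          refine ⟨x.2, ?_⟩
          rw [← Subgroup.coe_pow, ← hx, pow_orderOf_eq_one]
          rfl
        rw [hbot, Subgroup.mem_bot] at h1
        have h2 : x = 1 := Subtype.ext h1
        rw [h2, orderOf_one] at hx
        exact hq.one_lt.ne hx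
      · rintro g n ⟨hn, hn'⟩
        exact ⟨hN g n hn, by rw [← map_pow, hn', map_one]⟩
    intro n hn
    have : n ∈ Nq := hNq ▸ hn
    exact this.2
  refine ⟨hRp ▸ hp, hfixq, ?_, ?_, ?_, ?_⟩
  · -- (c)
    intro x y
    obtain ⟨u, hu, hxu⟩ := hA5 x
    obtain ⟨w, hw, hyw⟩ := hA5 y
    have hu' : u⁻¹ ∈ N := N.inv_mem hu
    have hw' : w⁻¹ ∈ N := N.inv_mem hw
    have hx : x = (x * u) * u⁻¹ := by group
    have hy : y = (y * w) * w⁻¹ := by group
    constructor
    · have h1 : x ^ q = (x * u) ^ q := by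
        conv_lhs => rw [hx]
        rw [(show Commute (x * u) u⁻¹ from (hcen _ hu' _).symm).mul_pow, hA6 _ hu', mul_one]
      rw [h1]
      exact (fixedSub ψ D).pow_mem hxu q
    · have h1 : ⁅x, y⁆ = ⁅x * u, y * w⁆ := by
        conv_lhs => rw [hx, hy]
        rw [comm_mul_central _ _ _ _ (hcen _ hu') (hcen _ hw')]
      rw [h1]
      rw [commutatorElement_def]
      exact (fixedSub ψ D).mul_mem ((fixedSub ψ D).mul_mem ((fixedSub ψ D).mul_mem hxu hyw)
        ((fixedSub ψ D).inv_mem hxu)) ((fixedSub ψ D).inv_mem hyw)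
  · -- (d)
    have hcompl : N.IsComplement' (fixedSub ψ D) := by
      apply Subgroup.isComplement'_of_disjoint_and_mul_eq_univ
      · rw [disjoint_iff, inf_comm]
        exact hA1
      · rw [Set.eq_univ_iff_forall]
        intro x
        obtain ⟨u, hu, hxu⟩ := hA5 x
        refine ⟨u⁻¹, N.inv_mem hu, x * u, hxu, ?_⟩
        show u⁻¹ * (x * u) = x
        rw [hcen _ (N.inv_mem hu)]
        group
    rw [hcompl.index_eq_card, hB, hcq]
  · -- (e)
    intro N' hN' hQN'
    by_cases hbot : N' ⊓ N = ⊥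
    · left
      apply le_antisymm _ hQN'
      intro y hy
      obtain ⟨w, hw, hyw⟩ := hA5 y
      have h1 : w ∈ N' ⊓ N := by
        refine Subgroup.mem_inf.mpr ⟨?_, hw⟩
        have : w = y⁻¹ * (y * w) := by group
        rw [this]
        exact N'.mul_mem (N'.inv_mem hy) (hQN' hyw)
      rw [hbot, Subgroup.mem_bot] at h1
      rw [h1, mul_one] at hyw
      exact hyw
    · right
      have h1 : N' ⊓ N = N := by
        apply hmin _ inf_le_right hbot
        intro g n hn
        exact Subgroup.mem_inf.mpr ⟨hN' g n (Subgroup.mem_inf.mp hn).1,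
          hN g n (Subgroup.mem_inf.mp hn).2⟩
      have h2 : N ≤ N' := by
        rw [← h1]
        exact inf_le_left
      rw [eq_top_iff]
      intro x _
      obtain ⟨u, hu, hxu⟩ := hA5 x
      have : x = (x * u) * u⁻¹ := by group
      rw [this]
      exact N'.mul_mem (hQN' hxu) (h2 (N.inv_mem hu))
  · -- (f)
    intro x hx y hy
    have hcyc : IsCyclic (fixedSub (resHom ψ N hN) R) := by
      have : Nat.card (fixedSub (resHom ψ N hN) R) = q := by rw [← hc, hcq]
      exact isCyclic_of_prime_card this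
    have hC := commute_of_isCyclic_fixedSub D R hDnil hfpf N (resHom ψ N hN) hNnil hcopN hcyc
      x hx y hy
    have hres : resHom ψ N hN ⁅x, y⁆ = 1 := by
      rw [map_commutatorElement, commutatorElement_eq_one_iff_commute]
      exact hC
    have hcD : ⁅x, y⁆ ∈ D := by
      rw [commutatorElement_def]
      exact D.mul_mem (D.mul_mem (D.mul_mem hx hy) (D.inv_mem hx)) (D.inv_mem hy)
    ext m
    rw [MulAut.one_apply]
    obtain ⟨u, hu, hmu⟩ := hA5 m
    have hm : m = (m * u) * u⁻¹ := by group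
    have h1 : ψ ⁅x, y⁆ (m * u) = m * u := hmu _ hcD
    have h2 : ψ ⁅x, y⁆ u⁻¹ = u⁻¹ := by
      have := DFunLike.congr_fun hres ⟨u⁻¹, N.inv_mem hu⟩
      exact congrArg Subtype.val this
    conv_lhs => rw [hm]
    rw [map_mul, h1, h2]
    group

end CaseA



section Main

variable {L : Type v} [Group L] [Finite L]

/-- **Main lemma** (abstract form).  `D ⊴ L` nilpotent, `R ≤ L` nontrivial acting freely on `D`;
`L` acts coprimely on the `q`-group `Q`, `R` in a prime manner with `|C_Q(R)| ≤ q`, and `D` acts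
nontrivially.  Then `|R|` is prime, `|C_Q(R)| = q`, `Φ(Q) ≤ Q₀ := C_Q(D)`, `|Q : Q₀| = q ^ |R|`,
no invariant subgroup lies strictly between `Q₀` and `Q`, and `[D, D]` acts trivially. -/
theorem main (D R : Subgroup L) [D.Normal] (hDnil : Group.IsNilpotent D)
    (hfpf : ∀ r ∈ R, r ≠ 1 → ∀ d ∈ D, r * d = d * r → d = 1) (hR1 : R ≠ ⊥)
    (q : ℕ) (hq : q.Prime) (Q : Type u) [Group Q] [Finite Q] (ψ : L →* MulAut Q)
    (hQ : IsPGroup q Q) (hcop : (Nat.card L).Coprime (Nat.card Q)) (hpr : PrimeAct ψ R)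
    (hfix : Nat.card (fixedSub ψ R) ≤ q) (hD : ¬ D ≤ ψ.ker) : Concl ψ D R q := by
  classical
  suffices h : ∀ n : ℕ, ∀ (Q : Type u) [Group Q] [Finite Q] (ψ : L →* MulAut Q),
      Nat.card Q = n → IsPGroup q Q → (Nat.card L).Coprime (Nat.card Q) → PrimeAct ψ R →
      Nat.card (fixedSub ψ R) ≤ q → ¬ D ≤ ψ.ker → Concl ψ D R q from
    h _ Q ψ rfl hQ hcop hpr hfix hD
  intro n
  induction n using Nat.strong_induction_on with
  | _ n ih =>
    intro Q _ _ ψ hn hQ hcop hpr hfix hD
    haveI : Fact q.Prime := ⟨hq⟩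
    have hQnt : Nontrivial Q := by
      by_contra hnt
      rw [not_nontrivial_iff_subsingleton] at hnt
      apply hD
      intro d _
      rw [MonoidHom.mem_ker]
      ext m
      exact Subsingleton.elim _ _
    have hZ : Subgroup.center Q ≠ ⊥ := by
      haveI := hQ.center_nontrivial
      exact (Subgroup.nontrivial_iff_ne_bot _).mp inferInstance
    -- a minimal invariant subgroup of the center
    let 𝒩 : Set (Subgroup Q) := {N | N ≤ Subgroup.center Q ∧ N ≠ ⊥ ∧ Invariant ψ N}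
    obtain ⟨N, hNmem, hNmin⟩ := Set.exists_min_image 𝒩 (fun N => Nat.card N) (Set.toFinite _)
      ⟨Subgroup.center Q, le_rfl, hZ, invariant_center ψ⟩
    obtain ⟨hNZ, hN1, hN⟩ := hNmem
    have hmin : ∀ N' : Subgroup Q, N' ≤ N → N' ≠ ⊥ → Invariant ψ N' → N' = N := by
      intro N' hle hne hinv
      exact Subgroup.eq_of_le_of_card_ge hle (hNmin N' ⟨hle.trans hNZ, hne, hinv⟩)
    haveI hNn : N.Normal := by
      constructor
      intro n hn g
      have h1 := Subgroup.mem_center_iff.mp (hNZ hn) g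
      rw [h1, mul_inv_cancel_right]
      exact hn
    have hNab : ∀ x ∈ N, ∀ y ∈ N, x * y = y * x := fun x hx y _ =>
      (Subgroup.mem_center_iff.mp (hNZ hx) y).symm
    have hcopN : (Nat.card L).Coprime (Nat.card N) :=
      Nat.Coprime.coprime_dvd_right (Subgroup.card_subgroup_dvd_card N) hcop
    have hcopQ : (Nat.card L).Coprime (Nat.card (Q ⧸ N)) :=
      Nat.Coprime.coprime_dvd_right (Subgroup.card_quotient_dvd_card N) hcop
    have hcopR : (Nat.card R).Coprime (Nat.card N) :=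
      Nat.Coprime.coprime_dvd_left (Subgroup.card_subgroup_dvd_card _) hcopN
    have hlt : Nat.card (Q ⧸ N) < n := by
      rw [← hn, Subgroup.card_eq_card_quotient_mul_card_subgroup N]
      have h1 : 1 < Nat.card N := (Subgroup.one_lt_card_iff_ne_bot N).mpr hN1
      have h2 : 0 < Nat.card (Q ⧸ N) := Nat.card_pos
      nlinarith
    have hprQ := primeAct_quo ψ hpr N hNab hN hcopN
    have hfixQ : Nat.card (fixedSub (quoHom ψ N hN) R) ≤ q := by
      have h1 := card_fixedSub_eq ψ N hNab hN R hcopR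
      have h2 : 0 < Nat.card (fixedSub (resHom ψ N hN) R) := Nat.card_pos
      calc Nat.card (fixedSub (quoHom ψ N hN) R)
          ≤ Nat.card (fixedSub (resHom ψ N hN) R) * Nat.card (fixedSub (quoHom ψ N hN) R) :=
            Nat.le_mul_of_pos_left _ h2
        _ = Nat.card (fixedSub ψ R) := h1.symm
        _ ≤ q := hfix
    have hIH : ¬ D ≤ (quoHom ψ N hN).ker → Concl (quoHom ψ N hN) D R q := fun hne =>
      ih _ hlt (Q ⧸ N) (quoHom ψ N hN) rfl (hQ.to_quotient N) hcopQ hprQ hfixQ hne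
    by_cases hDN : ∀ d ∈ D, ∀ n ∈ N, ψ d n = n
    · -- case B
      have hne : ¬ D ≤ (quoHom ψ N hN).ker := by
        intro hle
        apply hD
        intro d hd
        rw [MonoidHom.mem_ker]
        apply eq_one_of_res_quo ψ N hN d hcopN
        · exact ker_res_of_fixed ψ N hN (fun n hn => hDN d hd n hn)
        · exact MonoidHom.mem_ker.mp (hle hd)
      exact concl_of_quo ψ D R q N hNab hN hcopN hfix hDN (hIH hne)
    · -- case A
      exact concl_of_min ψ D R hDnil hfpf hR1 q hq hQ hcop hpr hfix N hNZ hN1 hN hmin hDN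
        (fun hne => (hIH hne).card_fix)

end Main


section Sub

variable {X : Type*} [Group X] [Finite X]

/-- **Main lemma**, subgroup form.  `D K` a Frobenius-like group (`D` nilpotent, normalized by
`K ≠ 1`, no non-identity element of `K` centralizing a non-identity element of `D`) normalizing
the `q`-subgroup `Q`, of order prime to `q`; `K` acts in a prime manner on `Q` with
`|C_Q(K)| ≤ q`; `D` does not centralize `Q`.  Then `|K|` is prime, `|C_Q(K)| = q`,
`Φ(Q) ≤ Q₀ := C_Q(D)`, `|Q : Q₀| = q ^ |K|`, no `DK`-invariant subgroup lies strictly between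
`Q₀` and `Q`, and `[D, D]` centralizes `Q`. -/
theorem main_sub (Q D K : Subgroup X) (q : ℕ) (hq : q.Prime) (hQ : IsPGroup q Q)
    (hDnil : Group.IsNilpotent D) (hK1 : K ≠ ⊥)
    (hKD : K ≤ Subgroup.normalizer (D : Set X))
    (hDQ : D ≤ Subgroup.normalizer (Q : Set X)) (hKQ : K ≤ Subgroup.normalizer (Q : Set X))
    (hfrob : ∀ k ∈ K, k ≠ 1 → D ⊓ Subgroup.centralizer ({k} : Set X) = ⊥)
    (hcop : (Nat.card ↥(D ⊔ K)).Coprime (Nat.card Q))
    (hpr : ∀ k ∈ K, k ≠ 1 → Q ⊓ Subgroup.centralizer ({k} : Set X)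
      ≤ Q ⊓ Subgroup.centralizer (K : Set X))
    (hfix : Nat.card ↥(Q ⊓ Subgroup.centralizer (K : Set X)) ≤ q)
    (hD : ¬ D ≤ Subgroup.centralizer (Q : Set X)) :
    (Nat.card K).Prime ∧ Nat.card ↥(Q ⊓ Subgroup.centralizer (K : Set X)) = q ∧
      (∀ x ∈ Q, ∀ y ∈ Q, x ^ q ∈ Q ⊓ Subgroup.centralizer (D : Set X) ∧
        x * y * x⁻¹ * y⁻¹ ∈ Q ⊓ Subgroup.centralizer (D : Set X)) ∧
      (Q ⊓ Subgroup.centralizer (D : Set X)).relIndex Q = q ^ Nat.card K ∧
      (∀ N : Subgroup X, N ≤ Q → D ≤ Subgroup.normalizer (N : Set X) →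
        K ≤ Subgroup.normalizer (N : Set X) → Q ⊓ Subgroup.centralizer (D : Set X) ≤ N →
        N = Q ⊓ Subgroup.centralizer (D : Set X) ∨ N = Q) ∧
      ⁅D, D⁆ ≤ Subgroup.centralizer (Q : Set X) := by
  classical
  set J : Subgroup X := D ⊔ K with hJ
  have hDJ : D ≤ J := le_sup_left
  have hKJ : K ≤ J := le_sup_right
  have hJQ : J ≤ Subgroup.normalizer (Q : Set X) := sup_le hDQ hKQ
  have hJD : J ≤ Subgroup.normalizer (D : Set X) := sup_le Subgroup.le_normalizer hKD
  haveI hDn : (D.subgroupOf J).Normal := Subgroup.normal_subgroupOf_of_le_normalizer hJD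
  have hmapD : (D.subgroupOf J).map J.subtype = D := Subgroup.map_subgroupOf_eq_of_le hDJ
  have hmapK : (K.subgroupOf J).map J.subtype = K := Subgroup.map_subgroupOf_eq_of_le hKJ
  let ψ := conjHom Q J hJQ
  have hDnil' : Group.IsNilpotent (D.subgroupOf J) :=
    (Group.isNilpotent_congr (Subgroup.subgroupOfEquivOfLe hDJ)).mpr hDnil
  have hfpf : ∀ r ∈ K.subgroupOf J, r ≠ 1 → ∀ d ∈ D.subgroupOf J, r * d = d * r → d = 1 := by
    intro r hr hr1 d hd hrd
    have h1 : (r : X) ∈ K := Subgroup.mem_subgroupOf.mp hr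
    have h2 : (r : X) ≠ 1 := fun h => hr1 (Subtype.ext h)
    have h3 : (d : X) ∈ D ⊓ Subgroup.centralizer ({(r : X)} : Set X) := by
      refine Subgroup.mem_inf.mpr ⟨Subgroup.mem_subgroupOf.mp hd, ?_⟩
      rw [Subgroup.mem_centralizer_iff]
      intro h hh
      rw [Set.mem_singleton_iff] at hh
      rw [hh]
      exact congrArg Subtype.val hrd
    rw [hfrob _ h1 h2, Subgroup.mem_bot] at h3
    exact Subtype.ext h3
  have hK1' : K.subgroupOf J ≠ ⊥ := by
    intro h
    apply hK1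
    rw [← hmapK, h, Subgroup.map_bot]
  -- membership in fixed subgroups
  have hmemfix : ∀ (S : Subgroup J) (m : Q), m ∈ fixedSub ψ S ↔
      (m : X) ∈ Q ⊓ Subgroup.centralizer ((S.map J.subtype : Subgroup X) : Set X) := by
    intro S m
    constructor
    · intro hm
      exact (fixedSubEquiv Q J hJQ S ⟨m, hm⟩).2
    · intro hm
      exact ((fixedSubEquiv Q J hJQ S).symm ⟨(m : X), hm⟩).2
  have hprime : PrimeAct ψ (K.subgroupOf J) := by
    intro r hr hr1 m hm
    have h1 : (r : X) ∈ K := Subgroup.mem_subgroupOf.mp hr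
    have h2 : (r : X) ≠ 1 := fun h => hr1 (Subtype.ext h)
    have h3 : (m : X) ∈ Q ⊓ Subgroup.centralizer ({(r : X)} : Set X) := by
      refine Subgroup.mem_inf.mpr ⟨m.2, ?_⟩
      rw [Subgroup.mem_centralizer_iff]
      intro h hh
      rw [Set.mem_singleton_iff] at hh
      rw [hh]
      have h4 := congrArg (fun z : Q => (z : X)) hm
      simp only [ψ, conjHom_apply] at h4
      calc (r : X) * (m : X) = ((r : X) * m * (r : X)⁻¹) * r := by group
        _ = (m : X) * (r : X) := by rw [h4]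
    rw [hmemfix, hmapK]
    exact hpr _ h1 h2 h3
  have hcardfix : Nat.card (fixedSub ψ (K.subgroupOf J))
      = Nat.card ↥(Q ⊓ Subgroup.centralizer (K : Set X)) := by
    rw [Nat.card_congr (fixedSubEquiv Q J hJQ (K.subgroupOf J)).toEquiv, hmapK]
  have hker : ¬ D.subgroupOf J ≤ ψ.ker := by
    intro hle
    apply hD
    intro d hd
    rw [Subgroup.mem_centralizer_iff]
    intro m hm
    have h1 : (⟨d, hDJ hd⟩ : J) ∈ ψ.ker := hle (Subgroup.mem_subgroupOf.mpr hd)
    have h2 := DFunLike.congr_fun (MonoidHom.mem_ker.mp h1) ⟨m, hm⟩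
    have h3 := congrArg (fun z : Q => (z : X)) h2
    simp only [ψ, conjHom_apply, MulAut.one_apply] at h3
    calc m * d = (d * m * d⁻¹) * d := by rw [h3]
      _ = d * m := by group
  have hmain := main (D.subgroupOf J) (K.subgroupOf J) hDnil' hfpf hK1' q hq Q ψ hQ hcop hprime
    (hcardfix ▸ hfix) hker
  have hcardK : Nat.card (K.subgroupOf J) = Nat.card K :=
    Nat.card_congr (Subgroup.subgroupOfEquivOfLe hKJ).toEquiv
  have hQ0 : ∀ x : X, ∀ hx : x ∈ Q, (⟨x, hx⟩ : Q) ∈ fixedSub ψ (D.subgroupOf J) ↔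
      x ∈ Q ⊓ Subgroup.centralizer (D : Set X) := by
    intro x hx
    rw [hmemfix, hmapD]
  refine ⟨hcardK ▸ hmain.card_R, hcardfix ▸ hmain.card_fix, ?_, ?_, ?_, ?_⟩
  · intro x hx y hy
    have := hmain.frat ⟨x, hx⟩ ⟨y, hy⟩
    constructor
    · have h1 := this.1
      rw [← hQ0 (x ^ q) (Q.pow_mem hx q)]
      exact h1
    · have h1 := this.2
      rw [commutatorElement_def] at h1
      rw [← hQ0 (x * y * x⁻¹ * y⁻¹)
        (Q.mul_mem (Q.mul_mem (Q.mul_mem hx hy) (Q.inv_mem hx)) (Q.inv_mem hy))]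
      exact h1
  · have h1 := hmain.index
    rw [hcardK] at h1
    rw [← h1]
    have h2 : (Q ⊓ Subgroup.centralizer (D : Set X)).subgroupOf Q
        = fixedSub ψ (D.subgroupOf J) := by
      ext m
      rw [Subgroup.mem_subgroupOf, ← hQ0 (m : X) m.2]
    rw [Subgroup.relIndex, h2]
  · intro N hNQ hDN hKN hQ0N
    have hinv : Invariant ψ (N.subgroupOf Q) := by
      intro g n hn
      rw [Subgroup.mem_subgroupOf] at hn ⊢
      have hg : (g : X) ∈ Subgroup.normalizer (N : Set X) := (sup_le hDN hKN) g.2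
      simp only [ψ, conjHom_apply]
      exact (Subgroup.mem_normalizer_iff.mp hg _).mp hn
    have hle : fixedSub ψ (D.subgroupOf J) ≤ N.subgroupOf Q := by
      intro m hm
      rw [Subgroup.mem_subgroupOf]
      exact hQ0N ((hQ0 (m : X) m.2).mp hm)
    rcases hmain.irred _ hinv hle with h1 | h1
    · left
      apply le_antisymm _ hQ0N
      intro n hn
      have h2 : (⟨n, hNQ hn⟩ : Q) ∈ N.subgroupOf Q := Subgroup.mem_subgroupOf.mpr hn
      rw [h1] at h2
      exact (hQ0 n (hNQ hn)).mp h2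
    · right
      apply le_antisymm hNQ
      intro x hx
      have h2 : (⟨x, hx⟩ : Q) ∈ N.subgroupOf Q := h1 ▸ Subgroup.mem_top _
      exact Subgroup.mem_subgroupOf.mp h2
  · rw [Subgroup.commutator_le]
    intro x hx y hy
    have h1 := hmain.comm ⟨x, hDJ hx⟩ (Subgroup.mem_subgroupOf.mpr hx) ⟨y, hDJ hy⟩
      (Subgroup.mem_subgroupOf.mpr hy)
    rw [Subgroup.mem_centralizer_iff]
    intro m hm
    have h2 := DFunLike.congr_fun h1 ⟨m, hm⟩
    have h3 := congrArg (fun z : Q => (z : X)) h2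
    simp only [ψ, conjHom_apply, MulAut.one_apply] at h3
    have h4 : ((⁅(⟨x, hDJ hx⟩ : J), ⟨y, hDJ hy⟩⁆ : J) : X) = ⁅x, y⁆ := by
      rw [commutatorElement_def, commutatorElement_def]
      rfl
    rw [h4] at h3
    calc m * ⁅x, y⁆ = (⁅x, y⁆ * m * ⁅x, y⁆⁻¹) * ⁅x, y⁆ := by rw [h3]
      _ = ⁅x, y⁆ * m := by group

end Sub

end Cfsg.Agent.Lib.Helper1.BGFrobAct
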