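import Mathlib
import Cfsg.Agent.S1445
import Cfsg.Agent.Lib.Helper9.BenderLeads2
import Cfsg.Agent.Lib.Helper10.CNGroup
import Cfsg.Agent.Lib.Helper1.Coprime
import Cfsg.Agent.Lib.Helper1.BGFrobActB
import Cfsg.Agent.Lib.Helper19.NilCover
import Cfsg.Agent.Lib.Helper1.Hall

set_option autoImplicit false

namespace Cfsg.Agent.Lib.Helper1.BGFcore

open Cfsg
open scoped commutatorElement

/-- The configuration of B&G Theorem 15.2 inside `X = S ⋊ K`: `S` a normal Hall subgroup, not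
nilpotent, `K ≠ 1` a complement acting in a prime manner on `S` with `|C_S(K)| = q` prime, and
`[S, K] = S`. -/
structure Cfg (X : Type*) [Group X] (S K : Subgroup X) (q : ℕ) : Prop where
  solv : Group.IsSolvable X
  odd : Odd (Nat.card X)
  normal : S.Normal
  sup : S ⊔ K = ⊤
  cop : (Nat.card S).Coprime (Nat.card K)
  K_ne : K ≠ ⊥
  prime : ∀ k ∈ K, k ≠ 1 →
    S ⊓ Subgroup.centralizer ({k} : Set X) = S ⊓ Subgroup.centralizer (K : Set X)
  card_fix : Nat.card ↥(S ⊓ Subgroup.centralizer (K : Set X)) = q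
  q_prime : q.Prime
  comm : ⁅S, K⁆ = S
  not_nil : ¬ Group.IsNilpotent S

variable {X : Type*} [Group X] [Finite X] {S K : Subgroup X} {q : ℕ}

/-- the `q`-core of `S`, as a subgroup of `X`. -/
def coreQ (S : Subgroup X) (q : ℕ) : Subgroup X := (pCore q ↥S).map S.subtype

theorem coreQ_le : coreQ S q ≤ S := Subgroup.map_subtype_le _

theorem coreQ_isPGroup : IsPGroup q (coreQ S q) :=
  (Cfsg.Agent.Lib.Helper1.pCore_isPGroup q).map _

theorem coreQ_normal (hS : S.Normal) : (coreQ S q).Normal := by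
  haveI := hS
  haveI : (pCore q ↥S).Characteristic := Cfsg.Agent.Lib.Helper1.pCore_characteristic q
  unfold coreQ
  infer_instance

/-- a normal `q`-subgroup of `S` lies in `coreQ`. -/
theorem le_coreQ {N : Subgroup X} (hNS : N ≤ S) (hN : S ≤ Subgroup.normalizer (N : Set X))
    (hq : IsPGroup q N) : N ≤ coreQ S q := by
  have h1 : (N.subgroupOf S).Normal := Subgroup.normal_subgroupOf_of_le_normalizer hN
  have h2 : IsPGroup q (N.subgroupOf S) :=
    hq.comap_of_injective S.subtype S.subtype_injective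
  have h3 := Cfsg.Agent.Lib.Helper1.le_pCore h1 h2
  intro n hn
  exact ⟨⟨n, hNS hn⟩, h3 (Subgroup.mem_subgroupOf.mpr hn), rfl⟩

namespace Cfg

/-- `C_S(K)` meets `F(S)`. -/
theorem exists_fix_fitting (h : Cfg X S K q) :
    ∃ z : X, z ≠ 1 ∧ z ∈ fittingOf S ∧ z ∈ Subgroup.centralizer (K : Set X) := by
  by_contra hne
  push Not at hne
  haveI := h.solv
  haveI := h.normal
  have hF : fittingOf S ⊓ Subgroup.centralizer (K : Set X) = ⊥ := by
    rw [eq_bot_iff]
    intro z hz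
    rw [Subgroup.mem_bot]
    by_contra hz1
    exact hne z hz1 (Subgroup.mem_inf.mp hz).1 (Subgroup.mem_inf.mp hz).2
  have h1 := Cfsg.Agent.S1445.result h.odd S K h.sup h.cop h.prime hF
  rw [h.comm] at h1
  apply h.not_nil
  have h2 : fittingSubgroup ↥S = ⊤ := by
    rw [eq_top_iff]
    intro s _
    obtain ⟨y, hy, hys⟩ := h1 s.2
    have : y = s := Subtype.ext hys
    exact this ▸ hy
  have h3 : Group.IsNilpotent (fittingSubgroup ↥S) :=
    Cfsg.Agent.Lib.Helper1.fittingSubgroup_isNilpotent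
  rw [h2] at h3
  exact (Group.isNilpotent_congr Subgroup.topEquiv).mp h3

/-- `C_S(K) ≤ O_q(S)`. -/
theorem fix_le_coreQ (h : Cfg X S K q) :
    S ⊓ Subgroup.centralizer (K : Set X) ≤ coreQ S q := by
  haveI : Fact q.Prime := ⟨h.q_prime⟩
  obtain ⟨z, hz1, hzF, hzK⟩ := h.exists_fix_fitting
  obtain ⟨z', hz'F, rfl⟩ := hzF
  have hzmem : (z' : X) ∈ S ⊓ Subgroup.centralizer (K : Set X) :=
    Subgroup.mem_inf.mpr ⟨z'.2, hzK⟩
  -- `C_S(K) = ⟨z⟩`
  have hgen : ∀ y ∈ S ⊓ Subgroup.centralizer (K : Set X), y ∈ Subgroup.zpowers (z' : X) := by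
    intro y hy
    have hC : Nat.card ↥(S ⊓ Subgroup.centralizer (K : Set X)) = q := h.card_fix
    haveI : Fact (Nat.card ↥(S ⊓ Subgroup.centralizer (K : Set X))).Prime := ⟨hC ▸ h.q_prime⟩
    have h1 : (⟨(z' : X), hzmem⟩ : ↥(S ⊓ Subgroup.centralizer (K : Set X))) ≠ 1 := by
      intro h2
      exact hz1 (congrArg Subtype.val h2)
    have h2 := mem_zpowers_of_prime_card (g := (⟨(z' : X), hzmem⟩ :
      ↥(S ⊓ Subgroup.centralizer (K : Set X)))) (g' := ⟨y, hy⟩) rfl h1
    obtain ⟨j, hj⟩ := Subgroup.mem_zpowers_iff.mp h2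
    rw [Subgroup.mem_zpowers_iff]
    exact ⟨j, by simpa using congrArg Subtype.val hj⟩
  -- `z'` is a `q`-element of `F(S)`
  have hord : (z' : X) ^ q = 1 := by
    have hC : Nat.card ↥(S ⊓ Subgroup.centralizer (K : Set X)) = q := h.card_fix
    have := pow_card_eq_one' (G := ↥(S ⊓ Subgroup.centralizer (K : Set X)))
      (x := ⟨(z' : X), hzmem⟩)
    rw [hC] at this
    exact congrArg Subtype.val this
  have hz'q : IsPGroup q (Subgroup.zpowers (⟨z', hz'F⟩ : ↥(fittingSubgroup ↥S))) := by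
    apply Cfsg.Agent.Lib.Helper19.NilCover.isPGroup_zpowers_of_pow_eq_one _ 1
    rw [pow_one]
    apply Subtype.ext
    apply Subtype.ext
    exact hord
  obtain ⟨R, hR⟩ := hz'q.exists_le_sylow
  have h3 := Cfsg.Agent.Lib.Helper9.BenderLeads.sylow_fitting_map_le_pCore R
  have hzQ : (z' : X) ∈ coreQ S q := by
    refine ⟨z', h3 ⟨⟨z', hz'F⟩, hR (Subgroup.mem_zpowers _), rfl⟩, rfl⟩
  intro y hy
  exact (Subgroup.zpowers_le.mpr hzQ) (hgen y hy)

end Cfg

namespace Cfg

theorem K_inf_S (h : Cfg X S K q) : S ⊓ K = ⊥ :=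
  disjoint_iff.mp (Subgroup.disjoint_of_coprime_natCard h.cop)

/-- an element of `S` commuting with `k ∈ K - 1` modulo `O_q(S)` lies in `O_q(S)`. -/
theorem mem_coreQ_of_commute_mod (h : Cfg X S K q) {k : X} (hk : k ∈ K) (hk1 : k ≠ 1)
    {s : X} (hs : s ∈ S) (hsk : s⁻¹ * (k * s * k⁻¹) ∈ coreQ S q) : s ∈ coreQ S q := by
  haveI := h.solv
  haveI := h.normal
  haveI : (coreQ S q).Normal := coreQ_normal h.normal
  have hcop : (orderOf k).Coprime (Nat.card S) := by
    have h1 : orderOf k ∣ Nat.card K := by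
      have := orderOf_dvd_natCard (⟨k, hk⟩ : K)
      rwa [Subgroup.orderOf_mk] at this
    exact (h.cop.coprime_dvd_right h1).symm
  obtain ⟨v, hv, hc⟩ := Cfsg.Agent.S1445.fixed_coset k S (coreQ S q) coreQ_le hcop s hs hsk
  have h1 : s * v ∈ S ⊓ Subgroup.centralizer ({k} : Set X) := by
    refine Subgroup.mem_inf.mpr ⟨S.mul_mem hs (coreQ_le hv), ?_⟩
    rw [Subgroup.mem_centralizer_iff]
    intro y hy
    rw [Set.mem_singleton_iff] at hy
    rw [hy]
    exact hc
  rw [h.prime k hk hk1] at h1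
  have h2 := h.fix_le_coreQ h1
  have h3 : s = (s * v) * v⁻¹ := by group
  rw [h3]
  exact (coreQ S q).mul_mem h2 ((coreQ S q).inv_mem hv)

/-- `S / O_q(S)` is nilpotent. -/
theorem isNilpotent_map_mk (h : Cfg X S K q) (hQn : (coreQ S q).Normal) :
    Group.IsNilpotent ↥(S.map (QuotientGroup.mk' (coreQ S q))) := by
  classical
  haveI := h.solv
  haveI := h.normal
  set π := QuotientGroup.mk' (coreQ S q) with hπ
  have hπs : Function.Surjective π := QuotientGroup.mk'_surjective _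
  haveI hSn : (S.map π).Normal := Subgroup.Normal.map h.normal π hπs
  have hodd : Odd (Nat.card (X ⧸ coreQ S q)) := by
    have h1 : Nat.card (X ⧸ coreQ S q) ∣ Nat.card X := Subgroup.card_quotient_dvd_card _
    exact Odd.of_dvd_nat h.odd h1
  have hsup : S.map π ⊔ K.map π = ⊤ := by
    rw [← Subgroup.map_sup, h.sup, ← MonoidHom.range_eq_map, MonoidHom.range_eq_top.mpr hπs]
  have hcop : (Nat.card (S.map π)).Coprime (Nat.card (K.map π)) :=
    (h.cop.coprime_dvd_left (Subgroup.card_map_dvd S π)).coprime_dvd_right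
      (Subgroup.card_map_dvd K π)
  -- key: `S/Q ∩ C(k̄) = 1`
  have key : ∀ k ∈ K, k ≠ 1 → ∀ y ∈ S.map π, π k * y = y * π k → y = 1 := by
    rintro k hk hk1 _ ⟨s, hs, rfl⟩ hy
    have h1 : s⁻¹ * (k * s * k⁻¹) ∈ coreQ S q := by
      rw [← QuotientGroup.eq_one_iff]
      show π (s⁻¹ * (k * s * k⁻¹)) = 1
      rw [map_mul, map_mul, map_mul, map_inv, map_inv, hy]
      group
    have h2 := h.mem_coreQ_of_commute_mod hk hk1 hs h1
    exact (QuotientGroup.eq_one_iff s).mpr h2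
  have hKQ : ∀ k ∈ K, k ≠ 1 → π k ≠ 1 := by
    intro k hk hk1 hπk
    have h1 : k ∈ coreQ S q := (QuotientGroup.eq_one_iff k).mp hπk
    have h2 : k ∈ S ⊓ K := Subgroup.mem_inf.mpr ⟨coreQ_le h1, hk⟩
    rw [h.K_inf_S, Subgroup.mem_bot] at h2
    exact hk1 h2
  obtain ⟨k₀, hk₀, hk₀1⟩ : ∃ k ∈ K, k ≠ 1 := by
    by_contra hne
    push Not at hne
    apply h.K_ne
    rw [eq_bot_iff]
    intro k hk
    rw [Subgroup.mem_bot]
    exact hne k hk
  have hbot : S.map π ⊓ Subgroup.centralizer ((K.map π : Subgroup (X ⧸ coreQ S q)) : Set _) = ⊥ := by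
    rw [eq_bot_iff]
    intro y hy
    rw [Subgroup.mem_bot]
    apply key k₀ hk₀ hk₀1 y (Subgroup.mem_inf.mp hy).1
    exact (Subgroup.mem_centralizer_iff.mp (Subgroup.mem_inf.mp hy).2) _ ⟨k₀, hk₀, rfl⟩
  have hprime : ∀ x ∈ K.map π, x ≠ 1 → S.map π ⊓ Subgroup.centralizer ({x} : Set _)
      = S.map π ⊓ Subgroup.centralizer ((K.map π : Subgroup (X ⧸ coreQ S q)) : Set _) := by
    rintro _ ⟨k, hk, rfl⟩ hx1
    have hk1 : k ≠ 1 := by
      rintro rfl
      exact hx1 (map_one π)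
    rw [hbot, eq_bot_iff]
    intro y hy
    rw [Subgroup.mem_bot]
    apply key k hk hk1 y (Subgroup.mem_inf.mp hy).1
    exact (Subgroup.mem_centralizer_iff.mp (Subgroup.mem_inf.mp hy).2) _ (Set.mem_singleton _)
  have hF : fittingOf (S.map π)
      ⊓ Subgroup.centralizer ((K.map π : Subgroup (X ⧸ coreQ S q)) : Set _) = ⊥ := by
    rw [eq_bot_iff, ← hbot]
    exact inf_le_inf_right _ (Subgroup.map_subtype_le _)
  have h1 := Cfsg.Agent.S1445.result hodd (S.map π) (K.map π) hsup hcop hprime hF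
  rw [← Subgroup.map_commutator, h.comm] at h1
  have h2 : fittingSubgroup ↥(S.map π) = ⊤ := by
    rw [eq_top_iff]
    intro s _
    obtain ⟨y, hy, hys⟩ := h1 s.2
    have : y = s := Subtype.ext hys
    exact this ▸ hy
  have h3 : Group.IsNilpotent (fittingSubgroup ↥(S.map π)) :=
    Cfsg.Agent.Lib.Helper1.fittingSubgroup_isNilpotent
  rw [h2] at h3
  exact (Group.isNilpotent_congr Subgroup.topEquiv).mp h3

end Cfg

namespace Cfg

/-- `O_q(S)` is a Sylow `q`-subgroup of `S`. -/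
theorem not_dvd_relIndex (h : Cfg X S K q) : ¬ q ∣ (coreQ S q).relIndex S := by
  classical
  haveI : Fact q.Prime := ⟨h.q_prime⟩
  haveI hQn : (coreQ S q).Normal := coreQ_normal h.normal
  have hnil := h.isNilpotent_map_mk hQn
  set π := QuotientGroup.mk' (coreQ S q) with hπ
  set B := S.map π with hB
  have hcardB : Nat.card B = (coreQ S q).relIndex S := by
    have h1 := Cfsg.Agent.Lib.Helper1.card_map_mk_of_le (coreQ S q) (coreQ_le (S := S) (q := q))
    have h2 := Cfsg.Agent.Lib.Helper1.card_mul_relIndex_of_le (coreQ_le (S := S) (q := q))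
    have h3 : Nat.card B * Nat.card (coreQ S q)
        = (coreQ S q).relIndex S * Nat.card (coreQ S q) := by
      rw [h1, mul_comm, h2]
    exact Nat.eq_of_mul_eq_mul_right Nat.card_pos h3
  intro hdvd
  rw [← hcardB] at hdvd
  obtain ⟨P⟩ := (inferInstance : Nonempty (Sylow q ↥B))
  have hPn : (P : Subgroup ↥B).Normal :=
    Cfsg.Agent.Lib.Helper19.NilCover.sylow_normal_of_nilpotent hnil q P
  have hP1 : (P : Subgroup ↥B) ≠ ⊥ := by
    intro hbot
    have h1 := P.card_eq_multiplicity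
    rw [hbot, Subgroup.card_bot] at h1
    have h2 : (Nat.card ↥B).factorization q = 0 := by
      by_contra hne
      have : 1 < q ^ (Nat.card ↥B).factorization q := Nat.one_lt_pow hne h.q_prime.one_lt
      omega
    have h3 := (Nat.factorization_eq_zero_iff _ _).mp h2
    rcases h3 with h3 | h3 | h3
    · exact h3 h.q_prime
    · exact h3 hdvd
    · have : 0 < Nat.card ↥B := Nat.card_pos
      omega
  set P' : Subgroup (X ⧸ coreQ S q) := (P : Subgroup ↥B).map B.subtype with hP'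
  have hP'B : P' ≤ B := Subgroup.map_subtype_le _
  set N : Subgroup X := P'.comap π with hN
  have hNS : N ≤ S := by
    intro n hn
    have h1 : π n ∈ B := hP'B hn
    obtain ⟨s, hs, hsn⟩ := h1
    have h2 : s⁻¹ * n ∈ coreQ S q := QuotientGroup.eq.mp hsn
    have h3 : n = s * (s⁻¹ * n) := by group
    rw [h3]
    exact S.mul_mem hs (coreQ_le h2)
  have hSN : S ≤ Subgroup.normalizer (N : Set X) := by
    apply Cfsg.Agent.Lib.Helper1.le_normalizer_of_forall_conj_mem
    intro s hs n hn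
    show π (s * n * s⁻¹) ∈ P'
    rw [map_mul, map_mul, map_inv]
    obtain ⟨y, hy, hyn⟩ := hn
    have hs' : π s ∈ B := ⟨s, hs, rfl⟩
    have h1 := hPn.conj_mem y hy ⟨π s, hs'⟩
    refine ⟨_, h1, ?_⟩
    simp only [Subgroup.coe_subtype, Subgroup.coe_mul, Subgroup.coe_inv]
    rw [show ((y : ↥B) : X ⧸ coreQ S q) = π n from hyn]
  have hNq : IsPGroup q N := by
    intro n
    have h1 : π (n : X) ∈ P' := n.2
    obtain ⟨y, hy, hyn⟩ := h1
    obtain ⟨k, hk⟩ := P.isPGroup' ⟨y, hy⟩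
    have h2 : (π (n : X)) ^ (q ^ k) = 1 := by
      rw [← hyn]
      have := congrArg (fun z : (P : Subgroup ↥B) => ((z : ↥B) : X ⧸ coreQ S q)) hk
      simpa using this
    rw [← map_pow] at h2
    have h3 : (n : X) ^ (q ^ k) ∈ coreQ S q := (QuotientGroup.eq_one_iff _).mp h2
    obtain ⟨j, hj⟩ := (coreQ_isPGroup (S := S) (q := q)) ⟨_, h3⟩
    refine ⟨k + j, ?_⟩
    apply Subtype.ext
    have h4 : ((n : X) ^ (q ^ k)) ^ (q ^ j) = 1 := by
      have := congrArg Subtype.val hj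
      simpa using this
    rw [Subgroup.coe_pow, pow_add, pow_mul]
    exact h4
  have hNQ : N ≤ coreQ S q := le_coreQ hNS hSN hNq
  apply hP1
  rw [eq_bot_iff]
  intro y hy
  rw [Subgroup.mem_bot]
  have h1 : ((y : ↥B) : X ⧸ coreQ S q) ∈ P' := ⟨y, hy, rfl⟩
  obtain ⟨x, hx⟩ := QuotientGroup.mk'_surjective (coreQ S q) ((y : ↥B) : X ⧸ coreQ S q)
  have h2 : x ∈ N := by
    show π x ∈ P'
    rw [hπ, hx]
    exact h1
  have h3 : π x = 1 := (QuotientGroup.eq_one_iff x).mpr (hNQ h2)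
  apply Subtype.ext
  rw [← hx]
  exact h3

end Cfg

/-- a product of two commuting nilpotent subgroups, one of them normal, is nilpotent. -/
theorem isNilpotent_of_sup_commute {Q D T : Subgroup X} (hQT : Q ≤ T) (hDT : D ≤ T)
    (hT : T ≤ Q ⊔ D) (hTQ : T ≤ Subgroup.normalizer (Q : Set X))
    (hDQ : D ≤ Subgroup.centralizer (Q : Set X))
    (hQ : Group.IsNilpotent Q) (hD : Group.IsNilpotent D) : Group.IsNilpotent T := by
  have hQn : (Q.subgroupOf T).Normal := Subgroup.normal_subgroupOf_of_le_normalizer hTQ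
  have hTD : T ≤ Subgroup.normalizer (D : Set X) := by
    refine hT.trans (sup_le ?_ Subgroup.le_normalizer)
    apply Cfsg.Agent.Lib.Helper1.le_normalizer_of_forall_conj_mem
    intro x hx d hd
    have h0 := (Subgroup.mem_centralizer_iff.mp (hDQ hd)) x hx
    have : x * d * x⁻¹ = d := by
      rw [h0]; group
    rw [this]; exact hd
  have hDn : (D.subgroupOf T).Normal := Subgroup.normal_subgroupOf_of_le_normalizer hTD
  have hQnil : Group.IsNilpotent (Q.subgroupOf T) :=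
    (Group.isNilpotent_congr (Subgroup.subgroupOfEquivOfLe hQT)).mpr hQ
  have hDnil : Group.IsNilpotent (D.subgroupOf T) :=
    (Group.isNilpotent_congr (Subgroup.subgroupOfEquivOfLe hDT)).mpr hD
  have h1 := Cfsg.Agent.Lib.Helper1.le_fittingSubgroup hQn hQnil
  have h2 := Cfsg.Agent.Lib.Helper1.le_fittingSubgroup hDn hDnil
  have h3 : fittingSubgroup ↥T = ⊤ := by
    rw [eq_top_iff]
    calc (⊤ : Subgroup ↥T) = (Q ⊔ D).subgroupOf T := by
          rw [Subgroup.subgroupOf_eq_top.mpr hT]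
      _ = Q.subgroupOf T ⊔ D.subgroupOf T := Subgroup.subgroupOf_sup hQT hDT
      _ ≤ fittingSubgroup ↥T := sup_le h1 h2
  have h4 : Group.IsNilpotent (fittingSubgroup ↥T) :=
    Cfsg.Agent.Lib.Helper1.fittingSubgroup_isNilpotent
  rw [h3] at h4
  exact (Group.isNilpotent_congr Subgroup.topEquiv).mp h4

namespace Cfg

/-- every complement of `O_q(S)` in `S` is nilpotent. -/
theorem isNilpotent_of_compl (h : Cfg X S K q) {D : Subgroup X} (hDS : D ≤ S)
    (hDQ : coreQ S q ⊓ D = ⊥) : Group.IsNilpotent D := by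
  haveI hQn : (coreQ S q).Normal := coreQ_normal h.normal
  have hnil := h.isNilpotent_map_mk hQn
  set π := QuotientGroup.mk' (coreQ S q) with hπ
  let f : ↥D →* ↥(S.map π) :=
    { toFun := fun d => ⟨π d, ⟨d, hDS d.2, rfl⟩⟩
      map_one' := by apply Subtype.ext; simp
      map_mul' := fun a b => by apply Subtype.ext; simp }
  apply Cfsg.Agent.Lib.Helper10.isNilpotent_of_injective_hom f _ hnil
  rw [injective_iff_map_eq_one]
  intro d hd
  have h1 : π (d : X) = 1 := congrArg Subtype.val hd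
  have h2 : (d : X) ∈ coreQ S q := (QuotientGroup.eq_one_iff _).mp h1
  have h3 : (d : X) ∈ coreQ S q ⊓ D := Subgroup.mem_inf.mpr ⟨h2, d.2⟩
  rw [hDQ, Subgroup.mem_bot] at h3
  exact Subtype.ext h3

theorem card_X (h : Cfg X S K q) : Nat.card X = Nat.card S * Nat.card K := by
  haveI := h.normal
  have h1 := Cfsg.Agent.Lib.Helper1.card_sup_mul_card_inf K S
  rw [sup_comm, h.sup, inf_comm, h.K_inf_S, Subgroup.card_bot, mul_one, Subgroup.card_top] at h1
  rw [h1, mul_comm]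

end Cfg

namespace Cfg

/-- a `K`-invariant complement of `O_q(S)` in `S`. -/
theorem exists_invariant_compl (h : Cfg X S K q) :
    ∃ D : Subgroup X, D ≤ S ∧ coreQ S q ⊓ D = ⊥ ∧ S ≤ coreQ S q ⊔ D ∧
      K ≤ Subgroup.normalizer (D : Set X) ∧
      (Nat.card ↥(D ⊔ K)).Coprime (Nat.card (coreQ S q)) := by
  classical
  haveI := h.solv
  haveI := h.normal
  haveI : Fact q.Prime := ⟨h.q_prime⟩
  haveI hQn : (coreQ S q).Normal := coreQ_normal h.normal
  set Q := coreQ S q with hQ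
  have hQS : Q ≤ S := coreQ_le
  set r := Q.relIndex S with hr
  have hQr : Nat.card Q * r = Nat.card S := Cfsg.Agent.Lib.Helper1.card_mul_relIndex_of_le hQS
  obtain ⟨a, ha⟩ := IsPGroup.iff_card.mp (coreQ_isPGroup (S := S) (q := q))
  have hqr : ¬ q ∣ r := h.not_dvd_relIndex
  have hcop1 : r.Coprime (Nat.card Q) := by
    rw [ha]
    exact Nat.Coprime.pow_right _ ((Nat.Prime.coprime_iff_not_dvd h.q_prime).mpr hqr).symm
  have hcop2 : (Nat.card K).Coprime (Nat.card Q) :=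
    (h.cop.coprime_dvd_left (Subgroup.card_dvd_of_le hQS)).symm
  have hmn : (r * Nat.card K).Coprime (Nat.card Q) := Nat.Coprime.mul_left hcop1 hcop2
  have hX : Nat.card X = (r * Nat.card K) * Nat.card Q := by
    rw [h.card_X, ← hQr]; ring
  obtain ⟨H, hHcard, hKH⟩ :=
    Cfsg.Agent.Lib.Helper1.hall_dominance (r * Nat.card K) (Nat.card Q) hX hmn K hcop2
  have hHS : H ⊔ S = ⊤ := by
    rw [eq_top_iff, ← h.sup, sup_comm]
    exact sup_le_sup_right hKH S
  have hDcard : Nat.card ↥(H ⊓ S) = r := by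
    have h1 := Cfsg.Agent.Lib.Helper1.card_sup_mul_card_inf H S
    rw [hHS, Subgroup.card_top, h.card_X, hHcard] at h1
    have hS0 : 0 < Nat.card S := Nat.card_pos
    have hK0 : 0 < Nat.card K := Nat.card_pos
    have h2 : (Nat.card S * Nat.card K) * Nat.card ↥(H ⊓ S) = (Nat.card S * Nat.card K) * r := by
      rw [h1]; ring
    exact Nat.eq_of_mul_eq_mul_left (Nat.mul_pos hS0 hK0) h2
  have hDQ : Q ⊓ (H ⊓ S) = ⊥ := by
    apply disjoint_iff.mp
    apply Subgroup.disjoint_of_coprime_natCard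
    rw [hDcard]
    exact hcop1.symm
  refine ⟨H ⊓ S, inf_le_right, hDQ, ?_, ?_, ?_⟩
  · have h1 := Cfsg.Agent.Lib.Helper1.card_sup_mul_card_inf (H ⊓ S) Q
    rw [inf_comm (H ⊓ S) Q, hDQ, Subgroup.card_bot, mul_one, hDcard, mul_comm, hQr] at h1
    have h2 : Q ⊔ (H ⊓ S) ≤ S := sup_le hQS inf_le_right
    have h3 : Q ⊔ (H ⊓ S) = S := by
      apply Subgroup.eq_of_le_of_card_ge h2
      rw [sup_comm, h1]
    exact h3.ge
  · apply Cfsg.Agent.Lib.Helper1.le_normalizer_of_forall_conj_mem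
    intro k hk d hd
    refine Subgroup.mem_inf.mpr ⟨?_, ?_⟩
    · exact H.mul_mem (H.mul_mem (hKH hk) (Subgroup.mem_inf.mp hd).1) (H.inv_mem (hKH hk))
    · exact h.normal.conj_mem d (Subgroup.mem_inf.mp hd).2 k
  · have h1 : (H ⊓ S) ⊔ K ≤ H := sup_le inf_le_left hKH
    have h2 := Subgroup.card_dvd_of_le h1
    rw [hHcard] at h2
    exact hmn.coprime_dvd_left h2

end Cfg

namespace Cfg

/-- the output of `BGFrobAct.main_sub` for a `K`-invariant complement. -/
theorem core (h : Cfg X S K q) :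
    ∃ D : Subgroup X, D ≤ S ∧ coreQ S q ⊓ D = ⊥ ∧ S ≤ coreQ S q ⊔ D ∧
      K ≤ Subgroup.normalizer (D : Set X) ∧ (Nat.card D).Coprime (Nat.card (coreQ S q)) ∧
      (Nat.card K).Prime ∧
      (∀ x ∈ coreQ S q, ∀ y ∈ coreQ S q,
        x ^ q ∈ coreQ S q ⊓ Subgroup.centralizer (D : Set X) ∧
        x * y * x⁻¹ * y⁻¹ ∈ coreQ S q ⊓ Subgroup.centralizer (D : Set X)) ∧
      (coreQ S q ⊓ Subgroup.centralizer (D : Set X)).relIndex (coreQ S q) = q ^ Nat.card K ∧
      (∀ N : Subgroup X, N ≤ coreQ S q → D ≤ Subgroup.normalizer (N : Set X) →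
        K ≤ Subgroup.normalizer (N : Set X) →
        coreQ S q ⊓ Subgroup.centralizer (D : Set X) ≤ N →
        N = coreQ S q ⊓ Subgroup.centralizer (D : Set X) ∨ N = coreQ S q) ∧
      ⁅D, D⁆ ≤ Subgroup.centralizer (coreQ S q : Set X) := by
  classical
  haveI := h.solv
  haveI := h.normal
  haveI : Fact q.Prime := ⟨h.q_prime⟩
  haveI hQn : (coreQ S q).Normal := coreQ_normal h.normal
  obtain ⟨D, hDS, hDQ, hSQD, hKD, hcop⟩ := h.exists_invariant_compl
  have hDnil : Group.IsNilpotent D := h.isNilpotent_of_compl hDS hDQ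
  have hQnorm : ∀ A : Subgroup X, A ≤ Subgroup.normalizer ((coreQ S q : Subgroup X) : Set X) := by
    intro A
    rw [Subgroup.normalizer_eq_top]
    exact le_top
  have hfrob : ∀ k ∈ K, k ≠ 1 → D ⊓ Subgroup.centralizer ({k} : Set X) = ⊥ := by
    intro k hk hk1
    rw [eq_bot_iff]
    intro d hd
    have h1 : d ∈ S ⊓ Subgroup.centralizer ({k} : Set X) :=
      Subgroup.mem_inf.mpr ⟨hDS (Subgroup.mem_inf.mp hd).1, (Subgroup.mem_inf.mp hd).2⟩
    rw [h.prime k hk hk1] at h1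
    have h2 := h.fix_le_coreQ h1
    rw [← hDQ]
    exact Subgroup.mem_inf.mpr ⟨h2, (Subgroup.mem_inf.mp hd).1⟩
  have hpr : ∀ k ∈ K, k ≠ 1 → coreQ S q ⊓ Subgroup.centralizer ({k} : Set X)
      ≤ coreQ S q ⊓ Subgroup.centralizer (K : Set X) := by
    intro k hk hk1 x hx
    have h1 : x ∈ S ⊓ Subgroup.centralizer ({k} : Set X) :=
      Subgroup.mem_inf.mpr ⟨coreQ_le (Subgroup.mem_inf.mp hx).1, (Subgroup.mem_inf.mp hx).2⟩
    rw [h.prime k hk hk1] at h1
    exact Subgroup.mem_inf.mpr ⟨(Subgroup.mem_inf.mp hx).1, (Subgroup.mem_inf.mp h1).2⟩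
  have hfixeq : coreQ S q ⊓ Subgroup.centralizer (K : Set X)
      = S ⊓ Subgroup.centralizer (K : Set X) := by
    apply le_antisymm
    · exact inf_le_inf_right _ coreQ_le
    · exact le_inf h.fix_le_coreQ inf_le_right
  have hfix : Nat.card ↥(coreQ S q ⊓ Subgroup.centralizer (K : Set X)) ≤ q := by
    rw [hfixeq, h.card_fix]
  have hD : ¬ D ≤ Subgroup.centralizer ((coreQ S q : Subgroup X) : Set X) := by
    intro hDc
    apply h.not_nil
    exact isNilpotent_of_sup_commute coreQ_le hDS hSQD (hQnorm S) hDc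
      (coreQ_isPGroup (S := S) (q := q)).isNilpotent hDnil
  obtain ⟨r1, -, r3, r4, r5, r6⟩ := Cfsg.Agent.Lib.Helper1.BGFrobAct.main_sub (coreQ S q) D K q
    h.q_prime coreQ_isPGroup hDnil h.K_ne hKD (hQnorm D) (hQnorm K) hfrob hcop hpr hfix hD
  have hcop' : (Nat.card D).Coprime (Nat.card (coreQ S q)) :=
    hcop.coprime_dvd_left (Subgroup.card_dvd_of_le le_sup_left)
  exact ⟨D, hDS, hDQ, hSQD, hKD, hcop', r1, r3, r4, r5, r6⟩

end Cfg

namespace Cfg

/-- B&G Theorem 15.2, type-level core. -/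
theorem main (h : Cfg X S K q) :
    (Nat.card K).Prime ∧
    ∀ D : Subgroup X, D ≤ S → coreQ S q ⊓ D = ⊥ → S ≤ coreQ S q ⊔ D →
      Group.IsNilpotent D ∧
      (coreQ S q ⊓ Subgroup.centralizer (D : Set X)).Normal ∧
      coreQ S q ⊓ Subgroup.centralizer (D : Set X) < coreQ S q ∧
      Nat.card (coreQ S q)
        = Nat.card ↥(coreQ S q ⊓ Subgroup.centralizer (D : Set X)) * q ^ Nat.card K ∧
      (∀ a ∈ coreQ S q, ∀ b ∈ coreQ S q,
        a ^ q ∈ coreQ S q ⊓ Subgroup.centralizer (D : Set X) ∧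
        a * b * a⁻¹ * b⁻¹ ∈ coreQ S q ⊓ Subgroup.centralizer (D : Set X)) ∧
      (∀ N : Subgroup X, coreQ S q ⊓ Subgroup.centralizer (D : Set X) < N → N < coreQ S q →
        ¬ N.Normal) ∧
      ⁅D, D⁆ ≤ Subgroup.centralizer (coreQ S q : Set X) := by
  classical
  haveI := h.solv
  haveI := h.normal
  haveI : Fact q.Prime := ⟨h.q_prime⟩
  haveI hQn : (coreQ S q).Normal := coreQ_normal h.normal
  obtain ⟨D₀, hD₀S, hD₀Q, hSQD₀, hKD₀, hcop, hKp, hpc, hidx, hirr, hcomm⟩ := h.core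
  refine ⟨hKp, ?_⟩
  set Q := coreQ S q with hQ
  set Q₀ := Q ⊓ Subgroup.centralizer (D₀ : Set X) with hQ₀
  have hQ₀Q : Q₀ ≤ Q := inf_le_left
  -- `Q₀` is normal
  have hQ₀n : Q₀.Normal := by
    have hQN : Q ≤ Subgroup.normalizer (Q₀ : Set X) := by
      apply Cfsg.Agent.Lib.Helper1.le_normalizer_of_forall_conj_mem
      intro x hx n hn
      have h1 := (hpc x hx n (hQ₀Q hn)).2
      have h2 : x * n * x⁻¹ = (x * n * x⁻¹ * n⁻¹) * n := by group
      rw [h2]
      exact Q₀.mul_mem h1 hn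
    have hDN : D₀ ≤ Subgroup.normalizer (Q₀ : Set X) := by
      apply Cfsg.Agent.Lib.Helper1.le_normalizer_of_forall_conj_mem
      intro d hd n hn
      have h1 := (Subgroup.mem_centralizer_iff.mp (Subgroup.mem_inf.mp hn).2) d hd
      have h2 : d * n * d⁻¹ = n := by rw [h1]; group
      rw [h2]; exact hn
    have hKN : K ≤ Subgroup.normalizer (Q₀ : Set X) := by
      apply Cfsg.Agent.Lib.Helper1.le_normalizer_of_forall_conj_mem
      intro k hk n hn
      refine Subgroup.mem_inf.mpr ⟨hQn.conj_mem n (hQ₀Q hn) k, ?_⟩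
      rw [Subgroup.mem_centralizer_iff]
      intro d hd
      have h1 : k⁻¹ * d * k ∈ D₀ := by
        have := (Subgroup.mem_normalizer_iff.mp (hKD₀ (K.inv_mem hk)) d).mp hd
        simpa using this
      have h2 := (Subgroup.mem_centralizer_iff.mp (Subgroup.mem_inf.mp hn).2) _ h1
      calc d * (k * n * k⁻¹) = k * ((k⁻¹ * d * k) * n) * k⁻¹ := by group
        _ = k * (n * (k⁻¹ * d * k)) * k⁻¹ := by rw [h2]
        _ = k * n * k⁻¹ * d := by group
    have h1 : (⊤ : Subgroup X) ≤ Subgroup.normalizer (Q₀ : Set X) := by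
      rw [← h.sup]
      exact sup_le (hSQD₀.trans (sup_le hQN hDN)) hKN
    exact Subgroup.normalizer_eq_top_iff.mp (top_le_iff.mp h1)
  have hcardS : ∀ D : Subgroup X, D ≤ S → Q ⊓ D = ⊥ → S ≤ Q ⊔ D →
      Nat.card Q * Nat.card D = Nat.card S := by
    intro D hDS hDQ hSQD
    have h1 := Cfsg.Agent.Lib.Helper1.card_sup_mul_card_inf D Q
    rw [inf_comm, hDQ, Subgroup.card_bot, mul_one, sup_comm] at h1
    have h2 : Q ⊔ D = S := le_antisymm (sup_le coreQ_le hDS) hSQD
    rw [h2] at h1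
    rw [h1, mul_comm]
  intro D hDS hDQ hSQD
  -- `D` is conjugate to `D₀` by an element of `Q`
  have hact : Cfsg.Agent.Lib.Helper1.CoprimeAct D₀ Q :=
    { norm := by
        rw [Subgroup.normalizer_eq_top]
        exact le_top
      cop := hcop
      solv := Or.inl inferInstance }
  have hcard : Nat.card D = Nat.card D₀ := by
    have h1 := hcardS D hDS hDQ hSQD
    have h2 := hcardS D₀ hD₀S hD₀Q hSQD₀
    have h3 : Nat.card Q * Nat.card D = Nat.card Q * Nat.card D₀ := by rw [h1, h2]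
    exact Nat.eq_of_mul_eq_mul_left Nat.card_pos h3
  have hDle : D ≤ D₀ ⊔ Q := by
    rw [sup_comm]
    exact hDS.trans hSQD₀
  obtain ⟨u, hu, huD⟩ := hact.exists_conj_eq D hDle hcard
  have hmemD : ∀ x, x ∈ D ↔ u⁻¹ * x * u ∈ D₀ := by
    intro x
    rw [← huD, Subgroup.mem_pointwise_smul_iff_inv_smul_mem]
    simp [MulAut.smul_def]
  have hQ₀eq : Q ⊓ Subgroup.centralizer (D : Set X) = Q₀ := by
    ext g
    constructor
    · intro hg
      have hgQ := (Subgroup.mem_inf.mp hg).1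
      have hgC := (Subgroup.mem_inf.mp hg).2
      have h1 : u⁻¹ * g * u ∈ Q₀ := by
        refine Subgroup.mem_inf.mpr ⟨?_, ?_⟩
        · have := hQn.conj_mem g hgQ u⁻¹
          simpa using this
        · rw [Subgroup.mem_centralizer_iff]
          intro d hd
          have h2 : u * d * u⁻¹ ∈ D := by
            rw [hmemD]
            have : u⁻¹ * (u * d * u⁻¹) * u = d := by group
            rw [this]; exact hd
          have h3 := (Subgroup.mem_centralizer_iff.mp hgC) _ h2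
          calc d * (u⁻¹ * g * u) = u⁻¹ * ((u * d * u⁻¹) * g) * u := by group
            _ = u⁻¹ * (g * (u * d * u⁻¹)) * u := by rw [h3]
            _ = u⁻¹ * g * u * d := by group
      have h4 := hQ₀n.conj_mem _ h1 u
      have h5 : u * (u⁻¹ * g * u) * u⁻¹ = g := by group
      rwa [h5] at h4
    · intro hg
      refine Subgroup.mem_inf.mpr ⟨hQ₀Q hg, ?_⟩
      have h1 : u⁻¹ * g * u ∈ Q₀ := by
        have := hQ₀n.conj_mem g hg u⁻¹
        simpa using this
      rw [Subgroup.mem_centralizer_iff]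
      intro d hd
      have h2 := (hmemD d).mp hd
      have h3 := (Subgroup.mem_centralizer_iff.mp (Subgroup.mem_inf.mp h1).2) _ h2
      calc d * g = u * ((u⁻¹ * d * u) * (u⁻¹ * g * u)) * u⁻¹ := by group
        _ = u * ((u⁻¹ * g * u) * (u⁻¹ * d * u)) * u⁻¹ := by rw [h3]
        _ = g * d := by group
  rw [hQ₀eq]
  have hq2 : 2 ≤ q := h.q_prime.two_le
  have hK0 : 0 < Nat.card K := Nat.card_pos
  have hlt : Q₀ < Q := by
    refine lt_of_le_of_ne hQ₀Q ?_
    intro heq
    have h1 : Q₀.relIndex Q = 1 := by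
      rw [heq]; exact Subgroup.relIndex_self Q
    rw [hidx] at h1
    have : 1 < q ^ Nat.card K := Nat.one_lt_pow hK0.ne' h.q_prime.one_lt
    omega
  refine ⟨h.isNilpotent_of_compl hDS hDQ, hQ₀n, hlt, ?_, hpc, ?_, ?_⟩
  · have := Cfsg.Agent.Lib.Helper1.card_mul_relIndex_of_le hQ₀Q
    rw [hidx] at this
    exact this.symm
  · intro N hN1 hN2 hNn
    have hN := hirr N hN2.le (by rw [Subgroup.normalizer_eq_top]; exact le_top)
      (by rw [Subgroup.normalizer_eq_top]; exact le_top) hN1.le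
    rcases hN with hN | hN
    · exact hN1.ne' hN
    · exact hN2.ne hN
  · rw [Subgroup.commutator_le]
    intro d₁ hd₁ d₂ hd₂
    have h1 := (hmemD d₁).mp hd₁
    have h2 := (hmemD d₂).mp hd₂
    have h3 : ⁅u⁻¹ * d₁ * u, u⁻¹ * d₂ * u⁆ ∈ Subgroup.centralizer (Q : Set X) :=
      hcomm (Subgroup.commutator_mem_commutator h1 h2)
    have h4 : ⁅d₁, d₂⁆ = u * ⁅u⁻¹ * d₁ * u, u⁻¹ * d₂ * u⁆ * u⁻¹ := by
      simp only [commutatorElement_def]; group
    rw [h4]
    exact (inferInstance : (Subgroup.centralizer (Q : Set X)).Normal).conj_mem _ h3 u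

end Cfg

end Cfsg.Agent.Lib.Helper1.BGFcore
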