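import Mathlib
import Cfsg.Agent.Lib.Helper1.Coprime

/-!
Ito's theorem: a product of two abelian subgroups is metabelian, hence solvable.
-/

set_option autoImplicit false

open scoped commutatorElement
open Subgroup

namespace Cfsg.Agent.Lib.Helper1

variable {G : Type*} [Group G]

theorem commutatorElement_mul_left_of_commute {x y z : G} (h : y * z = z * y) :
    ⁅x * y, z⁆ = ⁅x, z⁆ := by
  rw [commutatorElement_def, commutatorElement_def]
  have : x * y * z * (x * y)⁻¹ * z⁻¹ = x * (y * z) * y⁻¹ * x⁻¹ * z⁻¹ := by group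
  rw [this, h]; group

theorem commutatorElement_mul_right_of_commute {x y z : G} (h : z * x = x * z) :
    ⁅x, y * z⁆ = ⁅x, y⁆ := by
  rw [commutatorElement_def, commutatorElement_def]
  have : x * (y * z) * x⁻¹ * (y * z)⁻¹ = x * y * (z * x⁻¹) * z⁻¹ * y⁻¹ := by group
  have h2 : z * x⁻¹ = x⁻¹ * z := by
    have : x⁻¹ * (z * x) * x⁻¹ = x⁻¹ * (x * z) * x⁻¹ := by rw [h]
    have e1 : x⁻¹ * (z * x) * x⁻¹ = x⁻¹ * z := by group
    have e2 : x⁻¹ * (x * z) * x⁻¹ = z * x⁻¹ := by group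
    rw [e1, e2] at this; exact this.symm
  rw [this, h2]; group

/-- Itô: key identity. -/
theorem ito_key (A B : Subgroup G) (hA : ∀ x ∈ A, ∀ y ∈ A, x * y = y * x)
    (hB : ∀ x ∈ B, ∀ y ∈ B, x * y = y * x)
    (hAB : ∀ g : G, ∃ a ∈ A, ∃ b ∈ B, g = a * b)
    {a a1 b b1 : G} (ha : a ∈ A) (ha1 : a1 ∈ A) (hb : b ∈ B) (hb1 : b1 ∈ B) :
    MulAut.conj (a1 * b1) ⁅a, b⁆ = MulAut.conj (b1 * a1) ⁅a, b⁆ := by
  have hBA : ∀ g : G, ∃ b ∈ B, ∃ a ∈ A, g = b * a := by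
    intro g
    obtain ⟨a, ha, b, hb, h⟩ := hAB g⁻¹
    refine ⟨b⁻¹, B.inv_mem hb, a⁻¹, A.inv_mem ha, ?_⟩
    rw [← mul_inv_rev, ← h, inv_inv]
  obtain ⟨a3, ha3, b3, hb3, h1⟩ := hAB (MulAut.conj b1 a)
  obtain ⟨b2, hb2, a2, ha2, h2⟩ := hBA (MulAut.conj a1 b)
  have e1 : MulAut.conj b1 b = b := by
    rw [MulAut.conj_apply, hB b1 hb1 b hb]; group
  have e2 : MulAut.conj a1 a = a := by
    rw [MulAut.conj_apply, hA a1 ha1 a ha]; group
  have e3 : MulAut.conj a1 a3 = a3 := by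
    rw [MulAut.conj_apply, hA a1 ha1 a3 ha3]; group
  have e4 : MulAut.conj b1 b2 = b2 := by
    rw [MulAut.conj_apply, hB b1 hb1 b2 hb2]; group
  have L : MulAut.conj (a1 * b1) ⁅a, b⁆ = ⁅a3, b2⁆ := by
    rw [map_mul, MulAut.mul_apply, map_commutatorElement, e1, h1,
      commutatorElement_mul_left_of_commute (hB b3 hb3 b hb), map_commutatorElement, e3, h2,
      commutatorElement_mul_right_of_commute (hA a2 ha2 a3 ha3)]
  have R : MulAut.conj (b1 * a1) ⁅a, b⁆ = ⁅a3, b2⁆ := by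
    rw [map_mul, MulAut.mul_apply, map_commutatorElement, e2, h2,
      commutatorElement_mul_right_of_commute (hA a2 ha2 a ha), map_commutatorElement, e4, h1,
      commutatorElement_mul_left_of_commute (hB b3 hb3 b2 hb2)]
  rw [L, R]


theorem ito (A B : Subgroup G)
    [IsMulCommutative A] [IsMulCommutative B] (hAB : ∀ g : G, ∃ a ∈ A, ∃ b ∈ B, g = a * b) :
    Group.IsSolvable G := by
  have hA : ∀ x ∈ A, ∀ y ∈ A, x * y = y * x := fun x hx y hy => by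
    have := IsMulCommutative.is_comm.comm (⟨x, hx⟩ : A) ⟨y, hy⟩
    exact congrArg Subtype.val this
  have hB : ∀ x ∈ B, ∀ y ∈ B, x * y = y * x := fun x hx y hy => by
    have := IsMulCommutative.is_comm.comm (⟨x, hx⟩ : B) ⟨y, hy⟩
    exact congrArg Subtype.val this
  -- generators commute
  have hgen : ∀ x ∈ {g | ∃ a ∈ A, ∃ b ∈ B, ⁅a, b⁆ = g}, ∀ y ∈ {g | ∃ a ∈ A, ∃ b ∈ B, ⁅a, b⁆ = g},
      x * y = y * x := by
    rintro x ⟨a1, ha1, b1, hb1, rfl⟩ y ⟨a, ha, b, hb, rfl⟩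
    have key := ito_key A B hA hB hAB ha (A.inv_mem ha1) hb (B.inv_mem hb1)
    have h3 : MulAut.conj ((b1⁻¹ * a1⁻¹)⁻¹ * (a1⁻¹ * b1⁻¹)) ⁅a, b⁆ = ⁅a, b⁆ := by
      rw [map_mul, MulAut.mul_apply, key, ← MulAut.mul_apply, ← map_mul, inv_mul_cancel, map_one,
        MulAut.one_apply]
    have h4 : (b1⁻¹ * a1⁻¹)⁻¹ * (a1⁻¹ * b1⁻¹) = ⁅a1, b1⁆ := by
      rw [commutatorElement_def]; group
    rw [h4, MulAut.conj_apply] at h3
    calc ⁅a1, b1⁆ * ⁅a, b⁆ = (⁅a1, b1⁆ * ⁅a, b⁆ * ⁅a1, b1⁆⁻¹) * ⁅a1, b1⁆ := by group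
      _ = ⁅a, b⁆ * ⁅a1, b1⁆ := by rw [h3]
  have hNcomm : IsMulCommutative (⁅A, B⁆ : Subgroup G) := by
    rw [Subgroup.commutator_def]
    exact Subgroup.isMulCommutative_closure hgen
  have hNnormal : (⁅A, B⁆ : Subgroup G).Normal := by
    rw [← Subgroup.normalizer_eq_top_iff, eq_top_iff]
    intro g _
    obtain ⟨a, ha, b, hb, rfl⟩ := hAB g
    exact Subgroup.mul_mem _ (le_normalizer_commutator_left ha) (le_normalizer_commutator_right hb)
  have hQ : ∀ x y : G ⧸ (⁅A, B⁆ : Subgroup G), x * y = y * x := by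
    have hab : ∀ a ∈ A, ∀ b ∈ B, (QuotientGroup.mk a : G ⧸ (⁅A, B⁆ : Subgroup G)) * QuotientGroup.mk b
        = QuotientGroup.mk b * QuotientGroup.mk a := by
      intro a ha b hb
      rw [← QuotientGroup.mk_mul, ← QuotientGroup.mk_mul, QuotientGroup.eq]
      have : (a * b)⁻¹ * (b * a) = ⁅b⁻¹, a⁻¹⁆ := by rw [commutatorElement_def]; group
      rw [this, Subgroup.commutator_comm]
      exact Subgroup.commutator_mem_commutator (B.inv_mem hb) (A.inv_mem ha)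
    have haa : ∀ a ∈ A, ∀ b ∈ A, (QuotientGroup.mk a : G ⧸ (⁅A, B⁆ : Subgroup G)) * QuotientGroup.mk b
        = QuotientGroup.mk b * QuotientGroup.mk a := by
      intro a ha b hb
      rw [← QuotientGroup.mk_mul, ← QuotientGroup.mk_mul, hA a ha b hb]
    have hbb : ∀ a ∈ B, ∀ b ∈ B, (QuotientGroup.mk a : G ⧸ (⁅A, B⁆ : Subgroup G)) * QuotientGroup.mk b
        = QuotientGroup.mk b * QuotientGroup.mk a := by
      intro a ha b hb
      rw [← QuotientGroup.mk_mul, ← QuotientGroup.mk_mul, hB a ha b hb]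
    intro x y
    induction x using QuotientGroup.induction_on with | _ x => ?_
    induction y using QuotientGroup.induction_on with | _ y => ?_
    obtain ⟨a1, ha1, b1, hb1, rfl⟩ := hAB x
    obtain ⟨a2, ha2, b2, hb2, rfl⟩ := hAB y
    simp only [QuotientGroup.mk_mul]
    have c1 := hab a1 ha1 b2 hb2
    have c2 := hab a2 ha2 b1 hb1
    have c3 := haa a1 ha1 a2 ha2
    have c4 := hbb b1 hb1 b2 hb2
    generalize (QuotientGroup.mk a1 : G ⧸ (⁅A, B⁆ : Subgroup G)) = u1 at *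
    generalize (QuotientGroup.mk a2 : G ⧸ (⁅A, B⁆ : Subgroup G)) = u2 at *
    generalize (QuotientGroup.mk b1 : G ⧸ (⁅A, B⁆ : Subgroup G)) = v1 at *
    generalize (QuotientGroup.mk b2 : G ⧸ (⁅A, B⁆ : Subgroup G)) = v2 at *
    calc u1 * v1 * (u2 * v2) = u1 * (v1 * u2) * v2 := by group
      _ = u1 * (u2 * v1) * v2 := by rw [c2]
      _ = (u1 * u2) * (v1 * v2) := by group
      _ = (u2 * u1) * (v2 * v1) := by rw [c3, c4]
      _ = u2 * (u1 * v2) * v1 := by group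
      _ = u2 * (v2 * u1) * v1 := by rw [c1]
      _ = u2 * v2 * (u1 * v1) := by group
  have hQs : Group.IsSolvable (G ⧸ (⁅A, B⁆ : Subgroup G)) := Group.isSolvable_of_comm hQ
  have hNs : Group.IsSolvable (⁅A, B⁆ : Subgroup G) := Group.isSolvable_of_comm (fun a b => IsMulCommutative.is_comm.comm a b)
  exact Group.isSolvable_of_ker_le_range (⁅A, B⁆ : Subgroup G).subtype
    (QuotientGroup.mk' (⁅A, B⁆ : Subgroup G)) (by
    rw [QuotientGroup.ker_mk', Subgroup.range_subtype])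

end Cfsg.Agent.Lib.Helper1
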