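import Mathlib
import Cfsg.Agent.Lib.Helper1.Ito
import Cfsg.Agent.Lib.Helper1.Nilpotent

/-!
Itô: a nontrivial finite product of two abelian subgroups has a nontrivial normal subgroup
contained in one of the factors.
-/

set_option autoImplicit false

open scoped commutatorElement
open Subgroup

namespace Cfsg.Agent.Lib.Helper1.ItoFactor

universe u

variable {G : Type u} [Group G]

/-- `G = AB` with `A`, `B` abelian (elementwise form). -/
structure Setup (A B : Subgroup G) : Prop where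
  commA : ∀ x ∈ A, ∀ y ∈ A, x * y = y * x
  commB : ∀ x ∈ B, ∀ y ∈ B, x * y = y * x
  prod : ∀ g : G, ∃ a ∈ A, ∃ b ∈ B, g = a * b

/-- no nontrivial normal subgroup inside a factor. -/
def Bad (A B : Subgroup G) : Prop :=
  ∀ N : Subgroup G, N.Normal → (N ≤ A ∨ N ≤ B) → N = ⊥

theorem Setup.prod' {A B : Subgroup G} (h : Setup A B) : ∀ g : G, ∃ b ∈ B, ∃ a ∈ A, g = b * a := by
  intro g
  obtain ⟨a, ha, b, hb, hg⟩ := h.prod g⁻¹
  refine ⟨b⁻¹, B.inv_mem hb, a⁻¹, A.inv_mem ha, ?_⟩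
  rw [← mul_inv_rev, ← hg, inv_inv]

theorem Setup.symm {A B : Subgroup G} (h : Setup A B) : Setup B A :=
  ⟨h.commB, h.commA, h.prod'⟩

theorem Bad.symm {A B : Subgroup G} (h : Bad A B) : Bad B A :=
  fun N hN hle => h N hN hle.symm

theorem normal_of_le_center'' {N : Subgroup G} (h : N ≤ center G) : N.Normal := by
  refine ⟨fun n hn g => ?_⟩
  have := Subgroup.mem_center_iff.mp (h hn) g
  have e : g * n * g⁻¹ = n := by rw [this]; group
  rw [e]; exact hn

theorem normal_of_commutator_le {H : Subgroup G} (h : commutator G ≤ H) : H.Normal := by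
  refine ⟨fun n hn g => ?_⟩
  have h1 : ⁅g, n⁆ ∈ H := h (Subgroup.commutator_mem_commutator (mem_top g) (mem_top n))
  have e : g * n * g⁻¹ = ⁅g, n⁆ * n := by rw [commutatorElement_def]; group
  rw [e]; exact H.mul_mem h1 hn

/-- Itô: the derived subgroup of `AB` is abelian. -/
theorem Setup.commutator_comm {A B : Subgroup G} (h : Setup A B) :
    ∀ x ∈ commutator G, ∀ y ∈ commutator G, x * y = y * x := by
  have hA := h.commA
  have hB := h.commB
  have hAB := h.prod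
  have hgen : ∀ x ∈ {g | ∃ a ∈ A, ∃ b ∈ B, ⁅a, b⁆ = g}, ∀ y ∈ {g | ∃ a ∈ A, ∃ b ∈ B, ⁅a, b⁆ = g},
      x * y = y * x := by
    rintro x ⟨a1, ha1, b1, hb1, rfl⟩ y ⟨a, ha, b, hb, rfl⟩
    have key := ito_key A B hA hB hAB ha (A.inv_mem ha1) hb (B.inv_mem hb1)
    have h3 : MulAut.conj ((b1⁻¹ * a1⁻¹)⁻¹ * (a1⁻¹ * b1⁻¹)) ⁅a, b⁆ = ⁅a, b⁆ := by
      rw [map_mul, MulAut.mul_apply, key, ← MulAut.mul_apply, ← map_mul, inv_mul_cancel, map_one,
        MulAut.one_apply]
    have h4 : (b1⁻¹ * a1⁻¹)⁻¹ * (a1⁻¹ * b1⁻¹) = ⁅a1, b1⁆ := by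
      rw [commutatorElement_def]; group
    rw [h4, MulAut.conj_apply] at h3
    calc ⁅a1, b1⁆ * ⁅a, b⁆ = (⁅a1, b1⁆ * ⁅a, b⁆ * ⁅a1, b1⁆⁻¹) * ⁅a1, b1⁆ := by group
      _ = ⁅a, b⁆ * ⁅a1, b1⁆ := by rw [h3]
  have hNcomm : IsMulCommutative (⁅A, B⁆ : Subgroup G) := by
    rw [Subgroup.commutator_def]
    exact Subgroup.isMulCommutative_closure hgen
  have hNnormal : (⁅A, B⁆ : Subgroup G).Normal := by
    rw [← Subgroup.normalizer_eq_top_iff, eq_top_iff]
    intro g _
    obtain ⟨a, ha, b, hb, rfl⟩ := hAB g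
    exact Subgroup.mul_mem _ (le_normalizer_commutator_left ha) (le_normalizer_commutator_right hb)
  have hQ : ∀ x y : G ⧸ (⁅A, B⁆ : Subgroup G), x * y = y * x := by
    have hab : ∀ a ∈ A, ∀ b ∈ B, (QuotientGroup.mk a : G ⧸ (⁅A, B⁆ : Subgroup G)) * QuotientGroup.mk b
        = QuotientGroup.mk b * QuotientGroup.mk a := by
      intro a ha b hb
      rw [← QuotientGroup.mk_mul, ← QuotientGroup.mk_mul, QuotientGroup.eq]
      have : (a * b)⁻¹ * (b * a) = ⁅b⁻¹, a⁻¹⁆ := by rw [commutatorElement_def]; group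
      rw [this, Subgroup.commutator_comm]
      exact Subgroup.commutator_mem_commutator (B.inv_mem hb) (A.inv_mem ha)
    have haa : ∀ a ∈ A, ∀ b ∈ A, (QuotientGroup.mk a : G ⧸ (⁅A, B⁆ : Subgroup G)) * QuotientGroup.mk b
        = QuotientGroup.mk b * QuotientGroup.mk a := by
      intro a ha b hb
      rw [← QuotientGroup.mk_mul, ← QuotientGroup.mk_mul, hA a ha b hb]
    have hbb : ∀ a ∈ B, ∀ b ∈ B, (QuotientGroup.mk a : G ⧸ (⁅A, B⁆ : Subgroup G)) * QuotientGroup.mk b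
        = QuotientGroup.mk b * QuotientGroup.mk a := by
      intro a ha b hb
      rw [← QuotientGroup.mk_mul, ← QuotientGroup.mk_mul, hB a ha b hb]
    intro x y
    induction x using QuotientGroup.induction_on with | _ x => ?_
    induction y using QuotientGroup.induction_on with | _ y => ?_
    obtain ⟨a1, ha1, b1, hb1, rfl⟩ := hAB x
    obtain ⟨a2, ha2, b2, hb2, rfl⟩ := hAB y
    simp only [QuotientGroup.mk_mul]
    have c1 := hab a1 ha1 b2 hb2
    have c2 := hab a2 ha2 b1 hb1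
    have c3 := haa a1 ha1 a2 ha2
    have c4 := hbb b1 hb1 b2 hb2
    generalize (QuotientGroup.mk a1 : G ⧸ (⁅A, B⁆ : Subgroup G)) = u1 at *
    generalize (QuotientGroup.mk a2 : G ⧸ (⁅A, B⁆ : Subgroup G)) = u2 at *
    generalize (QuotientGroup.mk b1 : G ⧸ (⁅A, B⁆ : Subgroup G)) = v1 at *
    generalize (QuotientGroup.mk b2 : G ⧸ (⁅A, B⁆ : Subgroup G)) = v2 at *
    calc u1 * v1 * (u2 * v2) = u1 * (v1 * u2) * v2 := by group
      _ = u1 * (u2 * v1) * v2 := by rw [c2]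
      _ = (u1 * u2) * (v1 * v2) := by group
      _ = (u2 * u1) * (v2 * v1) := by rw [c3, c4]
      _ = u2 * (u1 * v2) * v1 := by group
      _ = u2 * (v2 * u1) * v1 := by rw [c1]
      _ = u2 * v2 * (u1 * v1) := by group
  have hle : commutator G ≤ ⁅A, B⁆ := by
    let _ : CommGroup (G ⧸ (⁅A, B⁆ : Subgroup G)) :=
      { (inferInstance : Group (G ⧸ (⁅A, B⁆ : Subgroup G))) with mul_comm := hQ }
    have := Abelianization.commutator_subset_ker (QuotientGroup.mk' (⁅A, B⁆ : Subgroup G))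
    rwa [QuotientGroup.ker_mk'] at this
  intro x hx y hy
  have := IsMulCommutative.is_comm.comm (⟨x, hle hx⟩ : (⁅A, B⁆ : Subgroup G)) ⟨y, hle hy⟩
  exact congrArg Subtype.val this


section steps

variable {A B : Subgroup G}

/-- a subgroup of the centre lying in a factor is trivial -/
theorem Bad.central (hbad : Bad A B) {N : Subgroup G} (hN : N ≤ center G) (hle : N ≤ A ∨ N ≤ B) :
    N = ⊥ := hbad N (normal_of_le_center'' hN) hle

theorem Setup.mem_center_of_commutes (h : Setup A B) {x : G} (hA : ∀ a ∈ A, a * x = x * a)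
    (hB : ∀ b ∈ B, b * x = x * b) : x ∈ center G := by
  rw [Subgroup.mem_center_iff]
  intro g
  obtain ⟨a, ha, b, hb, rfl⟩ := h.prod g
  rw [mul_assoc, hB b hb, ← mul_assoc, hA a ha, mul_assoc]

theorem Setup.center_eq_bot (h : Setup A B) (hbad : Bad A B) : center G = ⊥ := by
  rw [eq_bot_iff]
  intro z hz
  rw [Subgroup.mem_bot]
  obtain ⟨a, ha, b, hb, hzab⟩ := h.prod z
  have hzc : ∀ g : G, g * z = z * g := fun g => Subgroup.mem_center_iff.mp hz g
  -- b is central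
  have hb_eq : b = a⁻¹ * z := by rw [hzab]; group
  have hbc : b ∈ center G := by
    apply h.mem_center_of_commutes
    · intro x hx
      rw [hb_eq, ← mul_assoc, h.commA x hx a⁻¹ (A.inv_mem ha), mul_assoc, hzc x, ← mul_assoc]
    · intro y hy
      exact h.commB y hy b hb
  have hb1 : b = 1 := by
    have h1 : Subgroup.zpowers b = ⊥ :=
      hbad.central ((Subgroup.zpowers_le).mpr hbc) (Or.inr ((Subgroup.zpowers_le).mpr hb))
    exact (Subgroup.zpowers_eq_bot).mp h1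
  have hza : z = a := by rw [hzab, hb1, mul_one]
  have h2 : Subgroup.zpowers z = ⊥ :=
    hbad.central ((Subgroup.zpowers_le).mpr hz) (Or.inl ((Subgroup.zpowers_le).mpr (hza ▸ ha)))
  exact (Subgroup.zpowers_eq_bot).mp h2

theorem Setup.inf_eq_bot (h : Setup A B) (hbad : Bad A B) : A ⊓ B = ⊥ := by
  apply hbad.central _ (Or.inl inf_le_left)
  intro x hx
  obtain ⟨hxA, hxB⟩ := Subgroup.mem_inf.mp hx
  exact h.mem_center_of_commutes (fun a ha => h.commA a ha x hxA) (fun b hb => h.commB b hb x hxB)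

/-- `A` is self-centralizing. -/
theorem Setup.mem_of_commutes (h : Setup A B) (hbad : Bad A B) {x : G}
    (hx : ∀ a ∈ A, a * x = x * a) : x ∈ A := by
  obtain ⟨a, ha, b, hb, hxab⟩ := h.prod x
  have hb_eq : b = a⁻¹ * x := by rw [hxab]; group
  have hbc : b ∈ center G := by
    apply h.mem_center_of_commutes
    · intro y hy
      rw [hb_eq, ← mul_assoc, h.commA y hy a⁻¹ (A.inv_mem ha), mul_assoc, hx y hy, ← mul_assoc]
    · intro y hy
      exact h.commB y hy b hb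
  rw [h.center_eq_bot hbad, Subgroup.mem_bot] at hbc
  rw [hxab, hbc, mul_one]; exact ha

theorem Setup.commutator_ne_bot [Nontrivial G] (h : Setup A B) (hbad : Bad A B) :
    commutator G ≠ ⊥ := by
  intro hbot
  have hc : center G = ⊤ := by
    rw [eq_top_iff]
    intro x _
    rw [Subgroup.mem_center_iff]
    intro g
    have h1 : ⁅g, x⁆ ∈ commutator G := Subgroup.commutator_mem_commutator (mem_top g) (mem_top x)
    rw [hbot, Subgroup.mem_bot, commutatorElement_def] at h1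
    have e : g * x = g * x * g⁻¹ * x⁻¹ * (x * g) := by group
    rw [e, h1, one_mul]
  rw [h.center_eq_bot hbad] at hc
  exact bot_ne_top hc

/-- `A ∩ C_G(G') = 1`. -/
theorem Setup.inf_centralizer_commutator (h : Setup A B) (hbad : Bad A B) {x : G} (hxA : x ∈ A)
    (hx : ∀ w ∈ commutator G, w * x = x * w) : x = 1 := by
  set H : Subgroup G := A ⊔ commutator G with hH
  have hHn : H.Normal := normal_of_commutator_le le_sup_right
  have hNn : (centralizer (H : Set G) ⊓ H).Normal := Subgroup.normal_inf_normal _ _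
  have hNA : centralizer (H : Set G) ⊓ H ≤ A := by
    intro y hy
    obtain ⟨hy1, -⟩ := Subgroup.mem_inf.mp hy
    apply h.mem_of_commutes hbad
    intro a ha
    exact Subgroup.mem_centralizer_iff.mp hy1 a (show a ∈ H from (le_sup_left : A ≤ H) ha)
  have hbot := hbad _ hNn (Or.inl hNA)
  have hxH : x ∈ centralizer (H : Set G) ⊓ H := by
    refine Subgroup.mem_inf.mpr ⟨?_, (le_sup_left : A ≤ H) hxA⟩
    have hle : H ≤ centralizer ({x} : Set G) := by
      apply sup_le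
      · intro a ha
        rw [Subgroup.mem_centralizer_iff]
        intro y hy
        rw [Set.mem_singleton_iff] at hy
        subst hy
        exact h.commA y hxA a ha
      · intro w hw
        rw [Subgroup.mem_centralizer_iff]
        intro y hy
        rw [Set.mem_singleton_iff] at hy
        subst hy
        exact (hx w hw).symm
    rw [Subgroup.mem_centralizer_iff]
    intro y hy
    have := Subgroup.mem_centralizer_iff.mp (hle hy) x (Set.mem_singleton x)
    exact this.symm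
  rw [hbot, Subgroup.mem_bot] at hxH
  exact hxH

theorem Setup.inf_commutator (h : Setup A B) (hbad : Bad A B) {x : G} (hxA : x ∈ A)
    (hx : x ∈ commutator G) : x = 1 :=
  h.inf_centralizer_commutator hbad hxA (fun w hw => h.commutator_comm w hw x hx)


/-- Induction step: `A G' = G`. -/
theorem Setup.sup_commutator_eq_top [Finite G] [Nontrivial G] (h : Setup A B) (hbad : Bad A B)
    (ih : ∀ (H : Type u) [Group H] [Finite H] [Nontrivial H], Nat.card H < Nat.card G →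
      ∀ A B : Subgroup H, Setup A B → ¬ Bad A B) : A ⊔ commutator G = ⊤ := by
  by_contra hne
  set H : Subgroup G := A ⊔ commutator G with hH
  have hAH : A ≤ H := le_sup_left
  have hKH : commutator G ≤ H := le_sup_right
  have hcard : Nat.card H < Nat.card G :=
    lt_of_le_of_ne (Subgroup.card_le_card_group H) (fun e => hne (Subgroup.eq_top_of_card_eq H e))
  have hnt : Nontrivial H := by
    obtain ⟨⟨x, hx⟩, hx1⟩ := (Subgroup.ne_bot_iff_exists_ne_one).mp (h.commutator_ne_bot hbad)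
    refine ⟨⟨⟨x, hKH hx⟩, 1, ?_⟩⟩
    intro e
    have e' : x = 1 := congrArg (fun z : H => (z : G)) e
    exact hx1 (Subtype.ext e')
  have hS : Setup (A.subgroupOf H) (B.subgroupOf H) := by
    refine ⟨?_, ?_, ?_⟩
    · intro x hx y hy
      exact Subtype.ext (h.commA _ (Subgroup.mem_subgroupOf.mp hx) _ (Subgroup.mem_subgroupOf.mp hy))
    · intro x hx y hy
      exact Subtype.ext (h.commB _ (Subgroup.mem_subgroupOf.mp hx) _ (Subgroup.mem_subgroupOf.mp hy))
    · rintro ⟨g, hg⟩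
      obtain ⟨a, ha, b, hb, hgab⟩ := h.prod g
      have hbH : b ∈ H := by
        have : b = a⁻¹ * g := by rw [hgab]; group
        rw [this]; exact H.mul_mem (H.inv_mem (hAH ha)) hg
      exact ⟨⟨a, hAH ha⟩, Subgroup.mem_subgroupOf.mpr ha, ⟨b, hbH⟩, Subgroup.mem_subgroupOf.mpr hb,
        Subtype.ext hgab⟩
  have hnb := ih H hcard _ _ hS
  unfold Bad at hnb
  push Not at hnb
  obtain ⟨L, hLn, hLle, hLbot⟩ := hnb
  apply hLbot
  rw [← Subgroup.map_eq_bot_iff_of_injective L H.subtype_injective]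
  rcases hLle with hLA | hLB
  · -- L ≤ A
    have hL0A : L.map H.subtype ≤ A := by
      rintro _ ⟨l, hl, rfl⟩
      exact Subgroup.mem_subgroupOf.mp (hLA hl)
    rw [eq_bot_iff]
    intro x hx
    rw [Subgroup.mem_bot]
    apply h.inf_centralizer_commutator hbad (hL0A hx)
    intro w hw
    obtain ⟨l, hl, rfl⟩ := hx
    have h1 : (⟨w, hKH hw⟩ : H) * l * (⟨w, hKH hw⟩ : H)⁻¹ ∈ L := hLn.conj_mem l hl _
    have h2 : ⁅w, (l : G)⁆ ∈ L.map H.subtype := by
      refine ⟨(⟨w, hKH hw⟩ : H) * l * (⟨w, hKH hw⟩ : H)⁻¹ * l⁻¹, L.mul_mem h1 (L.inv_mem hl), ?_⟩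
      rw [commutatorElement_def]; rfl
    have h3 : ⁅w, (l : G)⁆ ∈ commutator G :=
      Subgroup.commutator_mem_commutator (mem_top _) (mem_top _)
    have h4 := h.inf_commutator hbad (hL0A h2) h3
    rw [commutatorElement_def] at h4
    have e : w * H.subtype l = w * (l : G) * w⁻¹ * (l : G)⁻¹ * ((l : G) * w) := by
      simp only [Subgroup.coe_subtype]; group
    rw [e, h4, one_mul]; rfl
  · -- L ≤ B
    have hL0B : L.map H.subtype ≤ B := by
      rintro _ ⟨l, hl, rfl⟩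
      exact Subgroup.mem_subgroupOf.mp (hLB hl)
    apply hbad _ _ (Or.inr hL0B)
    refine ⟨fun n hn g => ?_⟩
    obtain ⟨a, ha, b, hb, rfl⟩ := h.prod g
    have hnB := hL0B hn
    obtain ⟨l, hl, rfl⟩ := hn
    have h1 : (⟨a, hAH ha⟩ : H) * l * (⟨a, hAH ha⟩ : H)⁻¹ ∈ L := hLn.conj_mem l hl _
    refine ⟨(⟨a, hAH ha⟩ : H) * l * (⟨a, hAH ha⟩ : H)⁻¹, h1, ?_⟩
    have hc : b * H.subtype l = H.subtype l * b := h.commB b hb _ hnB
    have e : a * b * H.subtype l * (a * b)⁻¹ = a * (b * H.subtype l) * b⁻¹ * a⁻¹ := by group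
    rw [e, hc]
    simp only [Subgroup.coe_subtype, Subgroup.coe_mul, Subgroup.coe_inv]
    group

end steps


section final

/-- elements of an abelian subgroup `K` killed by `d` -/
def tors (K : Subgroup G) (hK : ∀ x ∈ K, ∀ y ∈ K, x * y = y * x) (d : ℕ) : Subgroup G where
  carrier := {x | x ∈ K ∧ x ^ d = 1}
  one_mem' := ⟨K.one_mem, one_pow d⟩
  mul_mem' := by
    rintro x y ⟨hx, hx'⟩ ⟨hy, hy'⟩
    have hc : Commute x y := hK x hx y hy
    exact ⟨K.mul_mem hx hy, by rw [hc.mul_pow, hx', hy', one_mul]⟩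
  inv_mem' := by
    rintro x ⟨hx, hx'⟩
    exact ⟨K.inv_mem hx, by rw [inv_pow, hx', inv_one]⟩

theorem mem_tors {K : Subgroup G} {hK : ∀ x ∈ K, ∀ y ∈ K, x * y = y * x} {d : ℕ} {x : G} :
    x ∈ tors K hK d ↔ x ∈ K ∧ x ^ d = 1 := Iff.rfl

theorem tors_le {K : Subgroup G} {hK : ∀ x ∈ K, ∀ y ∈ K, x * y = y * x} {d : ℕ} :
    tors K hK d ≤ K := fun _ hx => hx.1

theorem tors_normal {K : Subgroup G} [hKn : K.Normal] {hK : ∀ x ∈ K, ∀ y ∈ K, x * y = y * x}
    {d : ℕ} : (tors K hK d).Normal := by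
  refine ⟨fun n hn g => ?_⟩
  refine ⟨hKn.conj_mem n hn.1 g, ?_⟩
  rw [conj_pow, hn.2, mul_one, mul_inv_cancel]

theorem mem_sup_normal_iff {N H : Subgroup G} [N.Normal] {x : G} :
    x ∈ N ⊔ H ↔ ∃ n ∈ N, n * x ∈ H := by
  constructor
  · intro hx
    have : x ∈ ((N ⊔ H : Subgroup G) : Set G) := hx
    rw [Subgroup.normal_mul] at this
    obtain ⟨n, hn, y, hy, rfl⟩ := Set.mem_mul.mp this
    exact ⟨n⁻¹, N.inv_mem hn, by rw [inv_mul_cancel_left]; exact hy⟩
  · rintro ⟨n, hn, hy⟩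
    have : x = n⁻¹ * (n * x) := by group
    rw [this]
    exact Subgroup.mul_mem _ ((le_sup_left : N ≤ N ⊔ H) (N.inv_mem hn)) ((le_sup_right : H ≤ N ⊔ H) hy)

/-- splitting an abelian group of order `c * d` with `c`, `d` coprime -/
theorem exists_mul_of_coprime {K : Subgroup G} [Finite G]
    (hK : ∀ x ∈ K, ∀ y ∈ K, x * y = y * x) {c d : ℕ} (hcd : Nat.Coprime c d)
    (hn : Nat.card K = c * d) {g : G} (hg : g ∈ K) :
    ∃ w ∈ tors K hK c, ∃ v ∈ tors K hK d, g = w * v := by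
  have hgn : g ^ (c * d) = 1 := by
    have := pow_card_eq_one' (G := K) (x := ⟨g, hg⟩)
    rw [hn] at this
    exact congrArg Subtype.val this
  have hbez : (1 : ℤ) = (c : ℤ) * Nat.gcdA c d + (d : ℤ) * Nat.gcdB c d := by
    have := Nat.gcd_eq_gcd_ab c d
    rw [hcd] at this
    exact_mod_cast this
  refine ⟨g ^ ((d : ℤ) * Nat.gcdB c d), ⟨K.zpow_mem hg _, ?_⟩, g ^ ((c : ℤ) * Nat.gcdA c d),
    ⟨K.zpow_mem hg _, ?_⟩, ?_⟩
  · rw [← zpow_natCast, ← zpow_mul]
    have : (d : ℤ) * Nat.gcdB c d * (c : ℤ) = ((c * d : ℕ) : ℤ) * Nat.gcdB c d := by push_cast; ring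
    rw [this, zpow_mul, zpow_natCast, hgn, one_zpow]
  · rw [← zpow_natCast, ← zpow_mul]
    have : (c : ℤ) * Nat.gcdA c d * (d : ℤ) = ((c * d : ℕ) : ℤ) * Nat.gcdA c d := by push_cast; ring
    rw [this, zpow_mul, zpow_natCast, hgn, one_zpow]
  · rw [← zpow_add, add_comm, ← hbez, zpow_one]

theorem tors_inf_tors {K : Subgroup G} (hK : ∀ x ∈ K, ∀ y ∈ K, x * y = y * x) {c d : ℕ}
    (hcd : Nat.Coprime c d) {x : G} (h1 : x ∈ tors K hK c) (h2 : x ∈ tors K hK d) : x = 1 := by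
  have e1 := orderOf_dvd_of_pow_eq_one h1.2
  have e2 := orderOf_dvd_of_pow_eq_one h2.2
  have := Nat.dvd_gcd e1 e2
  rw [hcd.gcd_eq_one, Nat.dvd_one] at this
  exact orderOf_eq_one_iff.mp this


theorem Setup.final [Finite G] [Nontrivial G] {A B : Subgroup G} (h : Setup A B) (hbad : Bad A B)
    (hB : B ⊔ commutator G = ⊤) : False := by
  have hK := h.commutator_comm
  have hKn : (commutator G).Normal := inferInstance
  have hKbot : commutator G ≠ ⊥ := h.commutator_ne_bot hbad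
  have hn1 : Nat.card (commutator G) ≠ 1 := fun e => hKbot (Subgroup.card_eq_one.mp e)
  have hn0 : Nat.card (commutator G) ≠ 0 := Nat.card_pos.ne'
  obtain ⟨n, hndef⟩ : ∃ n, n = Nat.card (commutator G) := ⟨_, rfl⟩
  rw [← hndef] at hn1 hn0
  obtain ⟨p, hpdef⟩ : ∃ p, p = n.minFac := ⟨_, rfl⟩
  have hp : p.Prime := hpdef ▸ Nat.minFac_prime hn1
  have : Fact p.Prime := ⟨hp⟩
  have hpn : p ∣ n := hpdef ▸ Nat.minFac_dvd n
  obtain ⟨c, hcdef⟩ : ∃ c, c = p ^ n.factorization p := ⟨_, rfl⟩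
  obtain ⟨d, hddef⟩ : ∃ d, d = n / p ^ n.factorization p := ⟨_, rfl⟩
  have hcd : Nat.Coprime c d := by
    rw [hcdef, hddef]; exact (Nat.coprime_ordCompl hp hn0).pow_left _
  have hn : Nat.card (commutator G) = c * d := by
    rw [← hndef, hcdef, hddef]; exact (Nat.ordProj_mul_ordCompl_eq_self n p).symm
  obtain ⟨W, hWdef⟩ : ∃ W, W = tors (commutator G) hK c := ⟨_, rfl⟩
  obtain ⟨V, hVdef⟩ : ∃ V, V = tors (commutator G) hK d := ⟨_, rfl⟩
  have hWn : W.Normal := hWdef ▸ tors_normal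
  have hVn : V.Normal := hVdef ▸ tors_normal
  have hWK : W ≤ commutator G := hWdef ▸ tors_le
  have hVK : V ≤ commutator G := hVdef ▸ tors_le
  have hAK : ∀ x ∈ A, x ∈ commutator G → x = 1 := fun x hx hxK => h.inf_commutator hbad hx hxK
  have hBK : ∀ x ∈ B, x ∈ commutator G → x = 1 :=
    fun x hx hxK => h.symm.inf_commutator hbad.symm hx hxK
  have hABi : ∀ x ∈ A, x ∈ B → x = 1 := by
    intro x hxA hxB
    have := (h.inf_eq_bot hbad).le (Subgroup.mem_inf.mpr ⟨hxA, hxB⟩)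
    exact Subgroup.mem_bot.mp this
  have F1 : ∀ g : G, ∃ a ∈ A, g * a ∈ B := by
    intro g
    obtain ⟨b, hb, a, ha, hg⟩ := h.prod' g
    exact ⟨a⁻¹, A.inv_mem ha, by rw [hg, mul_inv_cancel_right]; exact hb⟩
  have F2 : ∀ a : G, ∃ w ∈ commutator G, w * a ∈ B := by
    intro a
    have : a ∈ commutator G ⊔ B := by rw [sup_comm, hB]; exact mem_top a
    exact mem_sup_normal_iff.mp this
  obtain ⟨T, hTdef⟩ : ∃ T, T = A ⊓ (W ⊔ B) := ⟨_, rfl⟩
  obtain ⟨U, hUdef⟩ : ∃ U, U = A ⊓ (V ⊔ B) := ⟨_, rfl⟩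
  have hTA : T ≤ A := hTdef ▸ inf_le_left
  have hUA : U ≤ A := hUdef ▸ inf_le_left
  have K1 : ∀ w ∈ W, ∃ a ∈ T, w * a ∈ B := by
    intro w hw
    obtain ⟨a, ha, hwa⟩ := F1 w
    refine ⟨a, ?_, hwa⟩
    rw [hTdef]
    exact Subgroup.mem_inf.mpr ⟨ha, mem_sup_normal_iff.mpr ⟨w, hw, hwa⟩⟩
  have K2 : ∀ a ∈ T, ∃ w ∈ W, w * a ∈ B := by
    intro a ha
    rw [hTdef] at ha
    exact mem_sup_normal_iff.mp (Subgroup.mem_inf.mp ha).2
  have K3 : ∀ a ∈ U, ∃ v ∈ V, v * a ∈ B := by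
    intro a ha
    rw [hUdef] at ha
    exact mem_sup_normal_iff.mp (Subgroup.mem_inf.mp ha).2
  have hWV : ∀ x, x ∈ W → x ∈ V → x = 1 := by
    intro x h1 h2
    rw [hWdef] at h1
    rw [hVdef] at h2
    exact tors_inf_tors hK hcd h1 h2
  have K4 : ∀ a' ∈ U, ∀ w ∈ W, a' * w = w * a' := by
    intro a' ha' w hw
    obtain ⟨a, haT, hwa⟩ := K1 w hw
    obtain ⟨v, hv, hva'⟩ := K3 a' ha'
    have haA : a ∈ A := hTA haT
    have ha'A : a' ∈ A := hUA ha'
    have hcomm := h.commB _ hwa _ hva'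
    have haa' := h.commA a haA a' ha'A
    have e1 : w * (a * v * a⁻¹) = v * (a' * w * a'⁻¹) := by
      have l : w * a * (v * a') = w * (a * v * a⁻¹) * (a * a') := by group
      have r : v * a' * (w * a) = v * (a' * w * a'⁻¹) * (a' * a) := by group
      rw [l, r, haa'] at hcomm
      exact mul_right_cancel hcomm
    have hv2 : a * v * a⁻¹ ∈ V := hVn.conj_mem v hv a
    have hw2 : a' * w * a'⁻¹ ∈ W := hWn.conj_mem w hw a'
    have hx : (a' * w * a'⁻¹)⁻¹ * w = v * (a * v * a⁻¹)⁻¹ := by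
      have c1 : v * (a' * w * a'⁻¹) = (a' * w * a'⁻¹) * v := hK _ (hVK hv) _ (hWK hw2)
      rw [c1] at e1
      calc (a' * w * a'⁻¹)⁻¹ * w
          = (a' * w * a'⁻¹)⁻¹ * (w * (a * v * a⁻¹)) * (a * v * a⁻¹)⁻¹ := by group
        _ = (a' * w * a'⁻¹)⁻¹ * ((a' * w * a'⁻¹) * v) * (a * v * a⁻¹)⁻¹ := by rw [e1]
        _ = v * (a * v * a⁻¹)⁻¹ := by group
    have hxW : (a' * w * a'⁻¹)⁻¹ * w ∈ W := W.mul_mem (W.inv_mem hw2) hw
    have hxV : (a' * w * a'⁻¹)⁻¹ * w ∈ V := by rw [hx]; exact V.mul_mem hv (V.inv_mem hv2)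
    have h1 := hWV _ hxW hxV
    have e2 : w = a' * w * a'⁻¹ := (inv_mul_eq_one.mp h1).symm
    calc a' * w = a' * w * a'⁻¹ * a' := by group
      _ = w * a' := by rw [← e2]
  have K5 : ∀ a ∈ A, ∃ t ∈ T, ∃ u ∈ U, a = t * u := by
    intro a ha
    obtain ⟨g, hg, hga⟩ := F2 a
    obtain ⟨w, hw, v, hv, rfl⟩ := exists_mul_of_coprime hK hcd hn hg
    rw [← hWdef] at hw
    rw [← hVdef] at hv
    obtain ⟨t, htT, hwt⟩ := K1 w hw
    have htA : t ∈ A := hTA htT
    refine ⟨t, htT, t⁻¹ * a, ?_, by group⟩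
    rw [hUdef]
    refine Subgroup.mem_inf.mpr ⟨A.mul_mem (A.inv_mem htA) ha, ?_⟩
    rw [mem_sup_normal_iff]
    refine ⟨t⁻¹ * v * t, ?_, ?_⟩
    · have := hVn.conj_mem v hv t⁻¹
      simpa using this
    · have : t⁻¹ * v * t * (t⁻¹ * a) = (w * t)⁻¹ * (w * v * a) := by group
      rw [this]; exact B.mul_mem (B.inv_mem hwt) hga
  have K6 : Nat.card T = Nat.card W := by
    have hex : ∀ w : W, ∃ a : T, (w : G) * (a : G) ∈ B := by
      rintro ⟨w, hw⟩
      obtain ⟨a, ha, hwa⟩ := K1 w hw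
      exact ⟨⟨a, ha⟩, hwa⟩
    choose f hf using hex
    have hinj : Function.Injective f := by
      intro w w' hww
      have h1 := hf w
      have h2 := hf w'
      rw [hww] at h1
      have h3 : (w : G) * (w' : G)⁻¹ ∈ B := by
        have : (w : G) * (w' : G)⁻¹ = ((w : G) * (f w' : G)) * ((w' : G) * (f w' : G))⁻¹ := by
          group
        rw [this]; exact B.mul_mem h1 (B.inv_mem h2)
      have h4 : (w : G) * (w' : G)⁻¹ ∈ commutator G :=
        (commutator G).mul_mem (hWK w.2) ((commutator G).inv_mem (hWK w'.2))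
      have := hBK _ h3 h4
      exact Subtype.ext (mul_inv_eq_one.mp this)
    have hsurj : Function.Surjective f := by
      rintro ⟨a, ha⟩
      obtain ⟨w, hw, hwa⟩ := K2 a ha
      refine ⟨⟨w, hw⟩, ?_⟩
      have h1 := hf ⟨w, hw⟩
      have h3 : a⁻¹ * (f ⟨w, hw⟩ : G) ∈ B := by
        have : a⁻¹ * (f ⟨w, hw⟩ : G) = (w * a)⁻¹ * (w * (f ⟨w, hw⟩ : G)) := by group
        rw [this]; exact B.mul_mem (B.inv_mem hwa) h1
      have h4 : a⁻¹ * (f ⟨w, hw⟩ : G) ∈ A :=
        A.mul_mem (A.inv_mem (hTA ha)) (hTA (f ⟨w, hw⟩).2)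
      have := hABi _ h4 h3
      exact Subtype.ext (inv_mul_eq_one.mp this).symm
    exact (Nat.card_eq_of_bijective f ⟨hinj, hsurj⟩).symm
  have hWp : IsPGroup p W := by
    rintro ⟨x, hx⟩
    refine ⟨n.factorization p, Subtype.ext ?_⟩
    rw [hWdef] at hx
    have := hx.2
    rw [hcdef] at this
    simpa using this
  have hTp : IsPGroup p T := by
    obtain ⟨j, hj⟩ := IsPGroup.iff_card.mp hWp
    exact IsPGroup.of_card (K6.trans hj)
  have hWbot : W ≠ ⊥ := by
    obtain ⟨x, hx⟩ := exists_prime_orderOf_dvd_card' (G := commutator G) p (hndef ▸ hpn)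
    have hx1 : (x : G) ≠ 1 := by
      intro e
      have : x = 1 := Subtype.ext e
      rw [this, orderOf_one] at hx
      exact hp.one_lt.ne hx
    have hxW : (x : G) ∈ W := by
      rw [hWdef]
      refine ⟨x.2, ?_⟩
      have hk : 0 < n.factorization p := hp.factorization_pos_of_dvd hn0 hpn
      have : orderOf (x : G) ∣ c := by
        rw [Subgroup.orderOf_coe, hx, hcdef]
        exact dvd_pow_self p hk.ne'
      exact orderOf_dvd_iff_pow_eq_one.mp this
    intro e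
    rw [e, Subgroup.mem_bot] at hxW
    exact hx1 hxW
  have hPp : IsPGroup p (T ⊔ W : Subgroup G) := IsPGroup.to_sup_of_normal_right hTp hWp
  have : Group.IsNilpotent (T ⊔ W : Subgroup G) := hPp.isNilpotent
  have hWP : W ≤ T ⊔ W := le_sup_right
  have hTP : T ≤ T ⊔ W := le_sup_left
  have : (W.subgroupOf (T ⊔ W)).Normal := hWn.subgroupOf (T ⊔ W)
  have hNbot : W.subgroupOf (T ⊔ W) ≠ ⊥ := by
    intro e
    apply hWbot
    rw [eq_bot_iff]; intro x hx
    have : (⟨x, hWP hx⟩ : (T ⊔ W : Subgroup G)) ∈ W.subgroupOf (T ⊔ W) :=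
      Subgroup.mem_subgroupOf.mpr hx
    rw [e, Subgroup.mem_bot] at this
    exact Subgroup.mem_bot.mpr (congrArg Subtype.val this)
  obtain ⟨⟨x, hx⟩, hx1⟩ := (Subgroup.ne_bot_iff_exists_ne_one).mp
    (inf_center_ne_bot_of_normal (W.subgroupOf (T ⊔ W)) hNbot)
  obtain ⟨hxW, hxc⟩ := Subgroup.mem_inf.mp hx
  have hw : (x : G) ∈ W := Subgroup.mem_subgroupOf.mp hxW
  have hcommT : ∀ t ∈ T, t * (x : G) = (x : G) * t := by
    intro t ht
    have := Subgroup.mem_center_iff.mp hxc ⟨t, hTP ht⟩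
    exact congrArg Subtype.val this
  have hcommA : ∀ a ∈ A, a * (x : G) = (x : G) * a := by
    intro a ha
    obtain ⟨t, ht, u, hu, rfl⟩ := K5 a ha
    rw [mul_assoc, K4 u hu _ hw, ← mul_assoc, hcommT t ht, mul_assoc]
  have hxA : (x : G) ∈ A := h.mem_of_commutes hbad hcommA
  have h1 := hAK _ hxA (hWK hw)
  exact hx1 (Subtype.ext (Subtype.ext h1))

/-- **Itô**: a nontrivial finite product of two abelian subgroups has a nontrivial normal
subgroup contained in one of the factors. -/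
theorem not_bad : ∀ (n : ℕ) (G : Type u) [Group G] [Finite G] [Nontrivial G], Nat.card G = n →
    ∀ A B : Subgroup G, Setup A B → ¬ Bad A B := by
  intro n
  induction n using Nat.strong_induction_on with
  | _ n ih =>
    intro G _ _ _ hcard A B h hbad
    have ih' : ∀ (H : Type u) [Group H] [Finite H] [Nontrivial H], Nat.card H < Nat.card G →
        ∀ A B : Subgroup H, Setup A B → ¬ Bad A B := by
      intro H _ _ _ hlt A' B' h'
      exact ih (Nat.card H) (hcard ▸ hlt) H rfl A' B' h'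
    have hB : B ⊔ commutator G = ⊤ := h.symm.sup_commutator_eq_top hbad.symm ih'
    exact h.final hbad hB

theorem exists_normal_le_factor [Finite G] [Nontrivial G] (A B : Subgroup G)
    [IsMulCommutative A] [IsMulCommutative B] (hAB : ∀ g : G, ∃ a ∈ A, ∃ b ∈ B, g = a * b) :
    ∃ N : Subgroup G, N.Normal ∧ N ≠ ⊥ ∧ (N ≤ A ∨ N ≤ B) := by
  have hA : ∀ x ∈ A, ∀ y ∈ A, x * y = y * x := fun x hx y hy => by
    have := IsMulCommutative.is_comm.comm (⟨x, hx⟩ : A) ⟨y, hy⟩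
    exact congrArg Subtype.val this
  have hB : ∀ x ∈ B, ∀ y ∈ B, x * y = y * x := fun x hx y hy => by
    have := IsMulCommutative.is_comm.comm (⟨x, hx⟩ : B) ⟨y, hy⟩
    exact congrArg Subtype.val this
  have := not_bad _ G rfl A B ⟨hA, hB, hAB⟩
  unfold Bad at this
  push Not at this
  obtain ⟨N, h1, h2, h3⟩ := this
  exact ⟨N, h1, h3, h2⟩

end final

end Cfsg.Agent.Lib.Helper1.ItoFactor
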