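import Mathlib
import Cfsg.Prelude.Def_Solvable
import Cfsg.Agent.Lib.Helper1.Frobenius
import Cfsg.Agent.Lib.Helper1.BaerSuzuki
import Cfsg.Agent.Lib.Helper1.MaxSolvable

/-!
Schmidt: finite groups with all maximal subgroups nilpotent are solvable.
-/

set_option autoImplicit false

open Subgroup Cfsg
open Pointwise

namespace Cfsg.Agent.Lib.Helper1

universe u

variable {G : Type u} [Group G]

/-- The preimage of a coatom under a quotient map is a coatom. -/
theorem isCoatom_comap_mk (N : Subgroup G) [N.Normal] (M : Subgroup (G ⧸ N)) (hM : IsCoatom M) :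
    IsCoatom (M.comap (QuotientGroup.mk' N)) := by
  have hsurj := QuotientGroup.mk'_surjective N
  constructor
  · intro h
    have := Subgroup.map_comap_eq_self_of_surjective hsurj M
    rw [h, Subgroup.map_top_of_surjective _ hsurj] at this
    exact hM.1 this.symm
  · intro L hL
    have hNL : N ≤ L := by
      refine le_trans ?_ hL.le
      conv_lhs => rw [← QuotientGroup.ker_mk' N]
      exact MonoidHom.ker_le_comap _ _
    have hLc : (L.map (QuotientGroup.mk' N)).comap (QuotientGroup.mk' N) = L := by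
      rw [Subgroup.comap_map_eq, QuotientGroup.ker_mk', sup_eq_left.mpr hNL]
    have h1 : M ≤ L.map (QuotientGroup.mk' N) := by
      rw [← Subgroup.map_comap_eq_self_of_surjective hsurj M]
      exact Subgroup.map_mono hL.le
    have h2 : M ≠ L.map (QuotientGroup.mk' N) := by
      intro h
      rw [h, hLc] at hL
      exact lt_irrefl _ hL
    have h3 := hM.2 _ (lt_of_le_of_ne h1 h2)
    rw [← hLc, h3, Subgroup.comap_top]


theorem isNilpotent_of_le {N M : Subgroup G} (hNM : N ≤ M) (hM : Group.IsNilpotent M) :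
    Group.IsNilpotent N := by
  have : Group.IsNilpotent (N.subgroupOf M) := inferInstance
  exact Group.nilpotent_of_surjective (Subgroup.subgroupOfEquivOfLe hNM).toMonoidHom
    (Subgroup.subgroupOfEquivOfLe hNM).surjective

/-- **Schmidt**: a finite group all of whose maximal subgroups are nilpotent is solvable. -/
theorem schmidt_aux : ∀ (n : ℕ) (G : Type u) [Group G] [Finite G], Nat.card G = n →
    (∀ M : Subgroup G, IsCoatom M → Group.IsNilpotent M) → Group.IsSolvable G := by
  intro n
  induction n using Nat.strong_induction_on with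
  | _ n ih =>
  intro G _ _ hn h
  classical
  by_cases hcomm : ∀ a b : G, a * b = b * a
  · exact Group.isSolvable_of_comm hcomm
  by_cases hnorm : ∃ N : Subgroup G, N.Normal ∧ N ≠ ⊥ ∧ N ≠ ⊤
  · obtain ⟨N, hN, hNbot, hNtop⟩ := hnorm
    have hQ : Group.IsSolvable (G ⧸ N) := by
      apply ih _ (by rw [← hn]; exact card_quotient_lt_of_ne_bot hNbot) (G ⧸ N) rfl
      intro M hM
      have hc := isCoatom_comap_mk N M hM
      have hnil := h _ hc
      have hnil' : Group.IsNilpotent
          ((M.comap (QuotientGroup.mk' N)).map (QuotientGroup.mk' N)) :=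
        Group.nilpotent_of_surjective ((QuotientGroup.mk' N).subgroupMap _)
          ((QuotientGroup.mk' N).subgroupMap_surjective _)
      rwa [Subgroup.map_comap_eq_self_of_surjective (QuotientGroup.mk'_surjective N)] at hnil'
    obtain ⟨M, hM, hNM⟩ := (eq_top_or_exists_le_coatom N).resolve_left hNtop
    have hNnil : Group.IsNilpotent N := isNilpotent_of_le hNM (h M hM)
    have hNs : Group.IsSolvable N := inferInstance
    exact Group.isSolvable_of_ker_le_range N.subtype (QuotientGroup.mk' N)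
      (by rw [QuotientGroup.ker_mk', Subgroup.range_subtype])
  push Not at hnorm
  exfalso
  -- G is not cyclic
  have hnotcyc : ∀ x : G, zpowers x ≠ ⊤ := by
    intro x hx
    apply hcomm
    intro a b
    have ha : a ∈ zpowers x := hx ▸ Subgroup.mem_top a
    have hb : b ∈ zpowers x := hx ▸ Subgroup.mem_top b
    obtain ⟨i, rfl⟩ := Subgroup.mem_zpowers_iff.mp ha
    obtain ⟨j, rfl⟩ := Subgroup.mem_zpowers_iff.mp hb
    exact (Commute.zpow_zpow_self x i j).eq
  -- coatoms are nontrivial, self-normalizing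
  have hcoatom_ne_bot : ∀ M : Subgroup G, IsCoatom M → M ≠ ⊥ := by
    intro M hM hbot
    obtain ⟨x, hx⟩ : ∃ x : G, x ≠ 1 := by
      by_contra hall
      push Not at hall
      exact hcomm (fun a b => by rw [hall a, hall b])
    apply hnotcyc x
    apply hM.2
    rw [hbot, bot_lt_iff_ne_bot, Ne, Subgroup.zpowers_eq_bot]
    exact hx
  have hcoatom_conj : ∀ M : Subgroup G, IsCoatom M → ∀ g : G, IsCoatom (MulAut.conj g • M) := by
    intro M hM g
    exact (OrderIso.isCoatom_iff (MulEquiv.mapSubgroup (MulAut.conj g)) M).mpr hM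
  have hself : ∀ M : Subgroup G, IsCoatom M → ∀ g : G, g ∉ M → MulAut.conj g • M ≠ M := by
    intro M hM g hg heq
    rw [conj_smul_eq_self_iff_mem_normalizer] at heq
    have hle : M ≤ normalizer (M : Set G) := Subgroup.le_normalizer
    rcases eq_or_lt_of_le hle with h1 | h1
    · rw [← h1] at heq; exact hg heq
    · have h2 := hM.2 _ h1
      have h3 : M.Normal := Subgroup.normalizer_eq_top_iff.mp h2
      exact hM.1 (hnorm M h3 (hcoatom_ne_bot M hM))
  -- Step 4 first: no two distinct coatoms meet nontrivially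
  have hTI : ∀ M₁ M₂ : Subgroup G, IsCoatom M₁ → IsCoatom M₂ → M₁ ≠ M₂ → M₁ ⊓ M₂ = ⊥ := by
    by_contra hex
    push Not at hex
    obtain ⟨A₁, A₂, hA₁, hA₂, hA12, hAI⟩ := hex
    have : Nonempty {pr : Subgroup G × Subgroup G //
        IsCoatom pr.1 ∧ IsCoatom pr.2 ∧ pr.1 ≠ pr.2 ∧ pr.1 ⊓ pr.2 ≠ ⊥} :=
      ⟨⟨(A₁, A₂), hA₁, hA₂, hA12, hAI⟩⟩
    obtain ⟨⟨⟨M₁, M₂⟩, hM₁, hM₂, hM12, hI⟩, hmax⟩ := Finite.exists_max
      (fun pr : {pr : Subgroup G × Subgroup G //
        IsCoatom pr.1 ∧ IsCoatom pr.2 ∧ pr.1 ≠ pr.2 ∧ pr.1 ⊓ pr.2 ≠ ⊥} =>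
        Nat.card (pr.1.1 ⊓ pr.1.2 : Subgroup G))
    simp only at hM₁ hM₂ hM12 hI hmax
    -- the normalizer of I is proper
    have hIntop : M₁ ⊓ M₂ ≠ ⊤ := fun htop => hM₁.1 (eq_top_iff.mpr (htop ▸ inf_le_left))
    have hNtop : normalizer ((M₁ ⊓ M₂ : Subgroup G) : Set G) ≠ ⊤ := by
      intro htop
      have h3 : (M₁ ⊓ M₂).Normal := Subgroup.normalizer_eq_top_iff.mp htop
      exact hIntop (hnorm _ h3 hI)
    obtain ⟨M, hM, hNM⟩ := (eq_top_or_exists_le_coatom _).resolve_left hNtop
    have key : ∀ L L' : Subgroup G, IsCoatom L → IsCoatom L' → L ≠ L' → L ⊓ L' = M₁ ⊓ M₂ →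
        L = M := by
      intro L L' hL hL' hLL' hLI
      by_contra hLM
      have hlt : L ⊓ L' < L := by
        apply lt_of_le_of_ne inf_le_left
        intro heq
        have h1 : L ≤ L' := heq ▸ inf_le_right
        rcases eq_or_lt_of_le h1 with h2 | h2
        · exact hLL' h2
        · exact hL'.1 (hL.2 _ h2)
      obtain ⟨u, huL, huN, hunot⟩ := exists_mem_normalizer_notMem_of_lt (h L hL) hlt
      rw [hLI] at huN hunot
      have hle : M₁ ⊓ M₂ ≤ L ⊓ M :=
        le_inf (hLI ▸ inf_le_left) (Subgroup.le_normalizer.trans hNM)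
      have hlt2 : M₁ ⊓ M₂ < L ⊓ M := by
        apply lt_of_le_of_ne hle
        intro heq
        apply hunot
        rw [heq]
        exact Subgroup.mem_inf.mpr ⟨huL, hNM huN⟩
      have hne : L ⊓ M ≠ ⊥ := by
        intro hbot
        rw [hbot] at hlt2
        exact not_lt_bot hlt2
      have h1 := hmax ⟨(L, M), hL, hM, hLM, hne⟩
      simp only at h1
      have h2 := card_lt_of_lt hlt2
      omega
    have h1 := key M₁ M₂ hM₁ hM₂ hM12 rfl
    have h2 := key M₂ M₁ hM₂ hM₁ (Ne.symm hM12) (inf_comm _ _)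
    exact hM12 (h1.trans h2.symm)
  -- Step 3: counting
  obtain ⟨x₁, hx₁⟩ : ∃ x : G, x ≠ 1 := by
    by_contra hall
    push Not at hall
    exact hcomm (fun a b => by rw [hall a, hall b])
  obtain ⟨M, hM, -⟩ := (eq_top_or_exists_le_coatom (zpowers x₁)).resolve_left (hnotcyc x₁)
  have hfrob : ∀ L : Subgroup G, IsCoatom L → Cfsg.IsFrobeniusComplement L := by
    intro L hL
    refine ⟨hcoatom_ne_bot L hL, hL.1, fun g hg => ?_⟩
    exact hTI L _ hL (hcoatom_conj L hL g) (Ne.symm (hself L hL g hg))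
  have hcount : ∀ L : Subgroup G, IsCoatom L →
      Nat.card G ≤ 2 * Nat.card ((Cfsg.frobeniusKernel L)ᶜ : Set G) := by
    intro L hL
    rw [IsFrobeniusComplement.card_compl_kernel (hfrob L hL), ← Subgroup.index_mul_card L]
    have h2 : 2 ≤ Nat.card L := by
      have hpos : 0 < Nat.card L := Nat.card_pos
      have hne : Nat.card L ≠ 1 := fun h1 => hcoatom_ne_bot L hL (Subgroup.card_eq_one.mp h1)
      omega
    have h3 : L.index * Nat.card L = L.index * (Nat.card L - 1) + L.index := by
      conv_lhs => rw [show Nat.card L = (Nat.card L - 1) + 1 by omega]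
      ring
    have h4 : L.index ≤ L.index * (Nat.card L - 1) :=
      Nat.le_mul_of_pos_right _ (by omega)
    omega
  -- an element outside all conjugates of M
  have hkcard := IsFrobeniusComplement.card_kernel (hfrob M hM)
  have hidx2 : 2 ≤ M.index := by
    have hpos : 0 < M.index := Nat.pos_of_ne_zero Subgroup.index_ne_zero_of_finite
    have hne : M.index ≠ 1 := fun h1 => hM.1 (Subgroup.index_eq_one.mp h1)
    omega
  obtain ⟨y, hyK, hy1⟩ : ∃ y ∈ Cfsg.frobeniusKernel M, y ≠ 1 := by
    by_contra hall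
    push Not at hall
    have hsub : Cfsg.frobeniusKernel M ⊆ {1} := fun z hz => hall z hz
    have := Set.ncard_le_ncard hsub (Set.toFinite _)
    rw [Set.ncard_singleton, ← Nat.card_coe_set_eq, hkcard] at this
    omega
  obtain ⟨L, hL, hyL⟩ := (eq_top_or_exists_le_coatom (zpowers y)).resolve_left (hnotcyc y)
  have hyL' : y ∈ L := hyL (Subgroup.mem_zpowers y)
  have hynot : ∀ g : G, y ∉ MulAut.conj g • M := by
    rcases hyK with h | h
    · exact absurd h hy1
    · exact h
  -- the two sets of nonidentity elements are disjoint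
  have hdisj : Disjoint ((Cfsg.frobeniusKernel M)ᶜ : Set G) ((Cfsg.frobeniusKernel L)ᶜ : Set G) := by
    rw [Set.disjoint_left]
    intro z hzM hzL
    simp only [Set.mem_compl_iff, Cfsg.frobeniusKernel, Set.mem_ofPred_eq, not_or, not_forall,
      not_not] at hzM hzL
    obtain ⟨hz1, a, ha⟩ := hzM
    obtain ⟨-, b, hb⟩ := hzL
    have hne : MulAut.conj a • M ≠ MulAut.conj b • L := by
      intro heq
      apply hynot (b⁻¹ * a)
      rw [map_mul, mul_smul, heq, smul_smul, ← map_mul, inv_mul_cancel, map_one, one_smul]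
      exact hyL'
    have h1 := hTI _ _ (hcoatom_conj M hM a) (hcoatom_conj L hL b) hne
    have h2 : z ∈ MulAut.conj a • M ⊓ MulAut.conj b • L := Subgroup.mem_inf.mpr ⟨ha, hb⟩
    rw [h1, Subgroup.mem_bot] at h2
    exact hz1 h2
  have hsub : ((Cfsg.frobeniusKernel M)ᶜ : Set G) ∪ ((Cfsg.frobeniusKernel L)ᶜ : Set G) ⊆ {1}ᶜ := by
    intro z hz
    simp only [Set.mem_compl_iff, Set.mem_singleton_iff]
    rintro rfl
    rcases hz with hz | hz
    · exact hz (one_mem_frobeniusKernel M)
    · exact hz (one_mem_frobeniusKernel L)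
  have hc1 := Set.ncard_le_ncard hsub (Set.toFinite _)
  rw [Set.ncard_union_eq hdisj (Set.toFinite _) (Set.toFinite _)] at hc1
  have hone : ({1}ᶜ : Set G).ncard = Nat.card G - 1 := by
    rw [Set.ncard_compl, Set.ncard_singleton]
  rw [hone] at hc1
  have hc2 := hcount M hM
  have hc3 := hcount L hL
  rw [Nat.card_coe_set_eq] at hc2 hc3
  have hpos : 0 < Nat.card G := Nat.card_pos
  omega

end Cfsg.Agent.Lib.Helper1
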