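import Mathlib
import Cfsg.Agent.Lib.Helper1.Schmidt
import Cfsg.Agent.Lib.Helper1.Carter
import Cfsg.Agent.Lib.Helper1.Gaschutz
import Cfsg.Agent.Lib.Helper1.Frattini
import Cfsg.Agent.Lib.Helper1.Nilpotent
import Cfsg.Agent.Lib.Helper1.ItoFactor

/-!
Huppert's theorem, part 1: reductions.
-/

set_option autoImplicit false

open Subgroup
open scoped commutatorElement

namespace Cfsg.Agent.Lib.Helper1.Huppert

universe u

variable {G : Type u} [Group G]

/-- every maximal subgroup has prime index -/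
def Hyp (G : Type u) [Group G] : Prop := ∀ M : Subgroup G, IsCoatom M → M.index.Prime

theorem Hyp.quotient (h : Hyp G) (N : Subgroup G) [N.Normal] : Hyp (G ⧸ N) := by
  intro M hM
  have := h _ (isCoatom_comap_mk N M hM)
  rwa [Subgroup.index_comap_of_surjective _ (QuotientGroup.mk'_surjective N)] at this

theorem index_modEq_one {p : ℕ} [Fact p.Prime] [Finite G] (P : Sylow p G) {M : Subgroup G}
    (hM : normalizer (P : Set G) ≤ M) : M.index ≡ 1 [MOD p] := by
  have hPM : (P : Subgroup G) ≤ M := le_normalizer.trans hM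
  have h1 : Nat.card (Sylow p G) ≡ 1 [MOD p] := card_sylow_modEq_one p G
  have h2 : Nat.card (Sylow p M) ≡ 1 [MOD p] := card_sylow_modEq_one p M
  rw [P.card_eq_index_normalizer] at h1
  rw [(P.subtype hPM).card_eq_index_normalizer] at h2
  have e : normalizer ((P.subtype hPM : Sylow p M) : Set M) =
      (normalizer (P : Set G)).subgroupOf M := by
    exact (subgroupOf_normalizer_eq hPM).symm
  rw [e] at h2
  have h3 : (normalizer (P : Set G)).relIndex M * M.index = (normalizer (P : Set G)).index :=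
    relIndex_mul_index hM
  rw [← h3] at h1
  have h4 : (normalizer (P : Set G)).relIndex M * M.index ≡ 1 * M.index [MOD p] :=
    Nat.ModEq.mul_right _ h2
  rw [one_mul] at h4
  exact h4.symm.trans h1

theorem sylow_normal_of_largest [Finite G] (h : Hyp G) {p : ℕ} [hp : Fact p.Prime]
    (hmax : ∀ q : ℕ, q.Prime → q ∣ Nat.card G → q ≤ p) (P : Sylow p G) :
    (P : Subgroup G).Normal := by
  rw [← Subgroup.normalizer_eq_top_iff]
  by_contra hne
  obtain ⟨M, hM, hle⟩ := (eq_top_or_exists_le_coatom _).resolve_left hne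
  have hq := h M hM
  have hmod := index_modEq_one P hle
  have hdvd : M.index ∣ Nat.card G := Subgroup.index_dvd_card M
  have hle' := hmax _ hq hdvd
  have h2 := hq.two_le
  have hp2 := hp.out.two_le
  rcases lt_or_eq_of_le hle' with hlt | heq
  · have : M.index % p = 1 % p := hmod
    rw [Nat.mod_eq_of_lt hlt, Nat.mod_eq_of_lt (by omega)] at this
    omega
  · have : M.index % p = 1 % p := hmod
    rw [heq, Nat.mod_self, Nat.mod_eq_of_lt (by omega)] at this
    omega


/-- a minimal normal subgroup inside a nontrivial normal subgroup -/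
theorem exists_minimal_normal_le [Finite G] (P : Subgroup G) [P.Normal] (hP : P ≠ ⊥) :
    ∃ N : Subgroup G, N.Normal ∧ N ≠ ⊥ ∧ N ≤ P ∧
      ∀ B : Subgroup G, B.Normal → B ≤ N → B = ⊥ ∨ B = N := by
  obtain ⟨A, ⟨hAn, hAne, hAle⟩, hmin⟩ :=
    (Set.toFinite {A : Subgroup G | A.Normal ∧ A ≠ ⊥ ∧ A ≤ P}).exists_minimal
      ⟨P, inferInstance, hP, le_rfl⟩
  refine ⟨A, hAn, hAne, hAle, ?_⟩
  intro B hB hBA
  by_cases hb : B = ⊥
  · exact Or.inl hb
  · right
    exact le_antisymm hBA (hmin ⟨hB, hb, hBA.trans hAle⟩ hBA)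

/-- a minimal normal subgroup inside a normal `p`-subgroup is centralized by it -/
theorem le_centralizer_of_minimal {p : ℕ} [Fact p.Prime] [Finite G] {P N : Subgroup G}
    [hPn : P.Normal] [hNn : N.Normal] (hP : IsPGroup p P) (hNP : N ≤ P) (hN : N ≠ ⊥)
    (hmin : ∀ B : Subgroup G, B.Normal → B ≤ N → B = ⊥ ∨ B = N) :
    N ≤ centralizer (P : Set G) := by
  have hBn : (N ⊓ centralizer (P : Set G)).Normal := Subgroup.normal_inf_normal _ _
  have : Group.IsNilpotent P := hP.isNilpotent
  have hNPn : (N.subgroupOf P).Normal := hNn.subgroupOf P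
  have hNPbot : N.subgroupOf P ≠ ⊥ := by
    intro e
    apply hN
    rw [eq_bot_iff]; intro x hx
    have : (⟨x, hNP hx⟩ : P) ∈ N.subgroupOf P := Subgroup.mem_subgroupOf.mpr hx
    rw [e, Subgroup.mem_bot] at this
    exact Subgroup.mem_bot.mpr (congrArg Subtype.val this)
  obtain ⟨⟨x, hx⟩, hx1⟩ := (Subgroup.ne_bot_iff_exists_ne_one).mp
    (inf_center_ne_bot_of_normal (N.subgroupOf P) hNPbot)
  obtain ⟨hxN, hxc⟩ := Subgroup.mem_inf.mp hx
  have hxN' : (x : G) ∈ N := Subgroup.mem_subgroupOf.mp hxN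
  have hxC : (x : G) ∈ centralizer (P : Set G) := by
    rw [Subgroup.mem_centralizer_iff]
    intro y hy
    have := Subgroup.mem_center_iff.mp hxc ⟨y, hy⟩
    exact congrArg Subtype.val this
  rcases hmin _ hBn inf_le_left with h | h
  · exfalso
    have : (x : G) ∈ N ⊓ centralizer (P : Set G) := Subgroup.mem_inf.mpr ⟨hxN', hxC⟩
    rw [h, Subgroup.mem_bot] at this
    exact hx1 (Subtype.ext (Subtype.ext this))
  · rw [← h]; exact inf_le_right

/-- a minimal normal subgroup inside a normal `p`-subgroup has exponent `p` -/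
theorem pow_eq_one_of_minimal {p : ℕ} [hp : Fact p.Prime] [Finite G] {P N : Subgroup G}
    [hNn : N.Normal] (hP : IsPGroup p P) (hNP : N ≤ P) (hN : N ≠ ⊥)
    (hcomm : ∀ x ∈ N, ∀ y ∈ N, x * y = y * x)
    (hmin : ∀ B : Subgroup G, B.Normal → B ≤ N → B = ⊥ ∨ B = N) :
    ∀ x ∈ N, x ^ p = 1 := by
  have hNp : IsPGroup p N := hP.to_le hNP
  have hnt : Nontrivial N := (Subgroup.nontrivial_iff_ne_bot N).mpr hN
  obtain ⟨n, hn⟩ := hNp.exists_card_eq
  have hn0 : n ≠ 0 := by
    intro e
    rw [e, pow_zero] at hn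
    have := Finite.one_lt_card (α := N)
    omega
  have hdvd : p ∣ Nat.card N := by rw [hn]; exact dvd_pow_self p hn0
  obtain ⟨x, hx⟩ := exists_prime_orderOf_dvd_card' (G := N) p hdvd
  have hTn : (ItoFactor.tors N hcomm p).Normal := ItoFactor.tors_normal
  have hxT : (x : G) ∈ ItoFactor.tors N hcomm p := by
    refine ⟨x.2, ?_⟩
    have := pow_orderOf_eq_one x
    rw [hx] at this
    exact congrArg Subtype.val this
  rcases hmin _ hTn ItoFactor.tors_le with h | h
  · exfalso
    rw [h, Subgroup.mem_bot] at hxT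
    have : x = 1 := Subtype.ext hxT
    rw [this, orderOf_one] at hx
    exact hp.out.one_lt.ne hx
  · intro y hy
    rw [← h] at hy
    exact hy.2


/-- Case A: a minimal normal abelian subgroup not contained in some maximal subgroup of prime
index has prime order. -/
theorem card_prime_of_not_le_coatom [Finite G] (h : Hyp G) {N : Subgroup G} [hNn : N.Normal]
    (hcomm : ∀ x ∈ N, ∀ y ∈ N, x * y = y * x)
    (hmin : ∀ B : Subgroup G, B.Normal → B ≤ N → B = ⊥ ∨ B = N)
    {M : Subgroup G} (hM : IsCoatom M) (hNM : ¬ N ≤ M) : (Nat.card N).Prime := by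
  have hNc : IsMulCommutative N := ⟨⟨fun a b => Subtype.ext (hcomm a a.2 b b.2)⟩⟩
  have hsup : M ⊔ N = ⊤ := by
    apply hM.2
    refine lt_of_le_of_ne le_sup_left ?_
    intro e
    apply hNM
    rw [e]; exact le_sup_right
  have hn := Carter.inf_normal_of_sup_eq_top hNc hsup
  have hbot : M ⊓ N = ⊥ := by
    rcases hmin _ hn inf_le_right with h1 | h1
    · exact h1
    · exfalso; apply hNM; rw [← h1]; exact inf_le_left
  have hcompl : IsComplement' N M := by
    apply isComplement'_of_disjoint_of_sup_eq_top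
    · rw [disjoint_iff, inf_comm]; exact hbot
    · rw [sup_comm]; exact hsup
  rw [← hcompl.index_eq_card]
  exact h M hM

/-- In a finite abelian group of exponent `p`, every subgroup has a complement. -/
theorem exists_complement_of_exponent {P : Type*} [CommGroup P] [Finite P] {p : ℕ}
    [hp : Fact p.Prime] (hexp : ∀ x : P, x ^ p = 1) (N : Subgroup P) :
    ∃ A : Subgroup P, A ⊓ N = ⊥ ∧ N ⊔ A = ⊤ := by
  obtain ⟨A, hA, hmax⟩ :=
    (Set.toFinite {A : Subgroup P | A ⊓ N = ⊥}).exists_maximal ⟨⊥, bot_inf_eq N⟩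
  refine ⟨A, hA, ?_⟩
  by_contra hne
  obtain ⟨x, hx⟩ : ∃ x : P, x ∉ N ⊔ A := by
    by_contra hall
    push Not at hall
    exact hne (eq_top_iff.mpr fun x _ => hall x)
  have hx1 : x ≠ 1 := fun e => hx (e ▸ Subgroup.one_mem _)
  have hord : orderOf x = p := by
    have := orderOf_dvd_of_pow_eq_one (hexp x)
    rcases (Nat.dvd_prime hp.out).mp this with h1 | h1
    · exact absurd (orderOf_eq_one_iff.mp h1) hx1
    · exact h1
  have hA' : (A ⊔ Subgroup.zpowers x) ⊓ N = ⊥ := by
    rw [eq_bot_iff]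
    intro y hy
    obtain ⟨hy1, hyN⟩ := Subgroup.mem_inf.mp hy
    obtain ⟨a, ha, z, hz, rfl⟩ := Subgroup.mem_sup.mp hy1
    rw [Subgroup.mem_bot]
    by_cases hz1 : z = 1
    · rw [hz1, mul_one] at hyN ⊢
      have := hA.le (Subgroup.mem_inf.mpr ⟨ha, hyN⟩)
      exact Subgroup.mem_bot.mp this
    · exfalso
      apply hx
      -- zpowers z = zpowers x
      have hle : Subgroup.zpowers z ≤ Subgroup.zpowers x := (Subgroup.zpowers_le).mpr hz
      have hcz : Nat.card (Subgroup.zpowers z) = p := by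
        have h1 : Nat.card (Subgroup.zpowers z) ∣ Nat.card (Subgroup.zpowers x) :=
          Subgroup.card_dvd_of_le hle
        rw [Nat.card_zpowers x, hord] at h1
        rcases (Nat.dvd_prime hp.out).mp h1 with h2 | h2
        · exfalso
          rw [Nat.card_zpowers, orderOf_eq_one_iff] at h2
          exact hz1 h2
        · exact h2
      have heq : Subgroup.zpowers z = Subgroup.zpowers x := by
        apply Subgroup.eq_of_le_of_card_ge hle
        rw [hcz, Nat.card_zpowers, hord]
      have hxz : x ∈ Subgroup.zpowers z := heq ▸ Subgroup.mem_zpowers x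
      have hzNA : z ∈ N ⊔ A := by
        have : z = a⁻¹ * (a * z) := by group
        rw [this]
        exact Subgroup.mul_mem _ ((le_sup_right : A ≤ N ⊔ A) (A.inv_mem ha))
          ((le_sup_left : N ≤ N ⊔ A) hyN)
      exact ((Subgroup.zpowers_le).mpr hzNA) hxz
  have hle : A ≤ A ⊔ Subgroup.zpowers x := le_sup_left
  have := hmax hA' hle
  apply hx
  exact (le_sup_right : A ≤ N ⊔ A) (this ((le_sup_right : Subgroup.zpowers x ≤ _)
    (Subgroup.mem_zpowers x)))

/-- Case B forces `Φ(P) ≠ 1`. -/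
theorem frattini_sylow_ne_bot [Finite G] {p : ℕ} [hp : Fact p.Prime] (P : Sylow p G)
    {N : Subgroup G} [hNn : N.Normal] (hNP : N ≤ P) (hN : N ≠ ⊥)
    (hcomm : ∀ x ∈ N, ∀ y ∈ N, x * y = y * x)
    (hmin : ∀ B : Subgroup G, B.Normal → B ≤ N → B = ⊥ ∨ B = N)
    (hfr : N ≤ frattini G) : frattini (P : Subgroup G) ≠ ⊥ := by
  intro hbot
  have hNc : IsMulCommutative N := ⟨⟨fun a b => Subtype.ext (hcomm a a.2 b b.2)⟩⟩
  have hPp : IsPGroup p (P : Subgroup G) := P.2
  have hPcomm : ∀ a b : (P : Subgroup G), a * b = b * a := by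
    intro a b
    have h1 := IsPGroup.commutator_le_frattini hPp
    rw [hbot] at h1
    have h2 : ⁅a, b⁆ ∈ commutator (P : Subgroup G) :=
      Subgroup.commutator_mem_commutator (mem_top a) (mem_top b)
    have h3 := Subgroup.mem_bot.mp (h1 h2)
    rw [commutatorElement_def] at h3
    have : a * b = a * b * a⁻¹ * b⁻¹ * (b * a) := by group
    rw [this, h3, one_mul]
  have hPexp : ∀ a : (P : Subgroup G), a ^ p = 1 := by
    intro a
    have := IsPGroup.pow_mem_frattini hPp a
    rw [hbot] at this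
    exact Subgroup.mem_bot.mp this
  let _ : CommGroup (P : Subgroup G) :=
    { (inferInstance : Group (P : Subgroup G)) with mul_comm := hPcomm }
  obtain ⟨A', hA'1, hA'2⟩ := exists_complement_of_exponent hPexp (N.subgroupOf (P : Subgroup G))
  set A : Subgroup G := A'.map (P : Subgroup G).subtype with hAdef
  have hinj : Function.Injective (P : Subgroup G).subtype := Subgroup.subtype_injective _
  have hNmap : (N.subgroupOf (P : Subgroup G)).map (P : Subgroup G).subtype = N :=
    Subgroup.map_subgroupOf_eq_of_le hNP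
  have hAN : A ⊓ N = ⊥ := by
    rw [hAdef, ← hNmap, ← Subgroup.map_inf _ _ _ hinj, hA'1, Subgroup.map_bot]
  have hNA : N ⊔ A = (P : Subgroup G) := by
    rw [hAdef, ← hNmap, ← Subgroup.map_sup, hA'2, ← MonoidHom.range_eq_map, Subgroup.range_subtype]
  have hcop : (Nat.card N).Coprime (P : Subgroup G).index := by
    have h1 : (Nat.card (P : Subgroup G)).Coprime (P : Subgroup G).index := P.card_coprime_index
    exact Nat.Coprime.coprime_dvd_left (Subgroup.card_dvd_of_le hNP) h1
  obtain ⟨H, hH⟩ := Gaschutz.exists_isComplement' N (P : Subgroup G) hNP hcop A hAN hNA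
  exact ((exists_complement_iff_not_le_frattini N hN hmin).mp ⟨H, hH⟩) hfr

end Cfsg.Agent.Lib.Helper1.Huppert
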