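import Mathlib
import Cfsg.Agent.Lib.Helper9.BGExc7
import Cfsg.Agent.Lib.Helper10.BGTen2
import Cfsg.Agent.Lib.Helper19.BGCompl

/-!
# Helper1 library: basic facts on the standard factorisation `M = K U M_σ`

For `hKU : IsSigmaDecomposition M K U` in a minimal simple group of odd order:
* `card_eq` : `|M| = |U| * |K| * |M_σ|`;
* `not_mem_sigma_of_dvd_card_U`, `not_mem_kappa_of_dvd_card_U` : `U` is a `σ(M)'`- and `κ(M)'`-group;
* `K_inf_sigmaCore` : `K ∩ M_σ = 1`;
* `isComplIn_UK` : `E = U K` is a complement of `M_σ` in `M`.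
-/

set_option autoImplicit false
set_option linter.unusedSectionVars false
open Cfsg

namespace Cfsg.Agent.Lib.Helper1.BGSigmaDecomp

open Cfsg.Agent.Lib.Helper10.BG Cfsg.Agent.Lib.Helper10 Cfsg.Agent.Lib.Helper9.BGExc

variable {G : Type*} [Group G] [Finite G]

/-- the primes of `κ(M)` are not in `σ(M)`. -/
theorem not_mem_sigma_of_mem_kappa {M : Subgroup G} {q : ℕ} (h : q ∈ Cfsg.kappa M) :
    q ∉ Cfsg.sigma M := h.2.2.1

/-- In the standard factorisation, no prime of `σ(M)` divides `|K|`. -/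
theorem not_mem_sigma_of_dvd_card_K {M K U : Subgroup G} (hKU : Cfsg.IsSigmaDecomposition M K U)
    {q : ℕ} (hq : q.Prime) (hd : q ∣ Nat.card K) : q ∉ Cfsg.sigma M :=
  not_mem_sigma_of_mem_kappa (hKU.hall.2.1 q hq hd)

/-- `K ∩ M_σ = 1`. -/
theorem K_inf_sigmaCore (hG : Cfsg.IsMinSimpleOddOrder G) {M : Subgroup G} (hM : IsCoatom M)
    {K U : Subgroup G} (hKU : Cfsg.IsSigmaDecomposition M K U) : K ⊓ Cfsg.sigmaCore M = ⊥ := by
  apply inf_eq_bot_of_coprime
  apply Nat.Coprime.symm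
  apply Nat.coprime_of_dvd
  intro q hq hd1 hd2
  exact not_mem_sigma_of_dvd_card_K hKU hq hd2 (mem_sigma_of_dvd_card_sigmaCore hG hM hq hd1)

/-- `|K M_σ| = |K| |M_σ|`. -/
theorem card_K_sup_sigmaCore (hG : Cfsg.IsMinSimpleOddOrder G) {M : Subgroup G} (hM : IsCoatom M)
    {K U : Subgroup G} (hKU : Cfsg.IsSigmaDecomposition M K U) :
    Nat.card ↥(K ⊔ Cfsg.sigmaCore M) = Nat.card K * Nat.card (Cfsg.sigmaCore M) := by
  have hKM : K ≤ M := hKU.hall.1
  have h1 := Cfsg.H5.card_sup_mul_card_inf (hKM.trans (le_normalizer_sigmaCore M))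
  rwa [K_inf_sigmaCore hG hM hKU, Subgroup.card_bot, mul_one] at h1

/-- `|M| = |U| |K| |M_σ|`. -/
theorem card_eq (hG : Cfsg.IsMinSimpleOddOrder G) {M : Subgroup G} (hM : IsCoatom M)
    {K U : Subgroup G} (hKU : Cfsg.IsSigmaDecomposition M K U) :
    Nat.card M = Nat.card U * Nat.card K * Nat.card (Cfsg.sigmaCore M) := by
  rw [Cfsg.Agent.Lib.Helper10.IsComplIn.card_eq hKU.compl, card_K_sup_sigmaCore hG hM hKU, mul_assoc]

/-- In the standard factorisation, no prime of `σ(M)` divides `|U|`. -/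
theorem not_mem_sigma_of_dvd_card_U (hG : Cfsg.IsMinSimpleOddOrder G) {M : Subgroup G}
    (hM : IsCoatom M) {K U : Subgroup G} (hKU : Cfsg.IsSigmaDecomposition M K U)
    {q : ℕ} (hq : q.Prime) (hd : q ∣ Nat.card U) : q ∉ Cfsg.sigma M := by
  intro hqσ
  have h1 := Cfsg.Agent.Lib.Helper12.card_mul_relIndex_eq (sigmaCore_le M)
  have h3 : (Cfsg.sigmaCore M).relIndex M = Nat.card U * Nat.card K := by
    have : Nat.card (Cfsg.sigmaCore M) * (Cfsg.sigmaCore M).relIndex M =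
        Nat.card (Cfsg.sigmaCore M) * (Nat.card U * Nat.card K) := by
      rw [h1, card_eq hG hM hKU]; ring
    exact Nat.eq_of_mul_eq_mul_left Nat.card_pos this
  apply not_dvd_relIndex_sigmaCore hG hM hq hqσ
  rw [h3]
  exact Dvd.dvd.mul_right hd _

/-- In the standard factorisation, no prime of `κ(M)` divides `|U|`. -/
theorem not_mem_kappa_of_dvd_card_U (hG : Cfsg.IsMinSimpleOddOrder G) {M : Subgroup G}
    (hM : IsCoatom M) {K U : Subgroup G} (hKU : Cfsg.IsSigmaDecomposition M K U)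
    {q : ℕ} (hq : q.Prime) (hd : q ∣ Nat.card U) : q ∉ Cfsg.kappa M := by
  intro hqκ
  have h1 := Cfsg.Agent.Lib.Helper12.card_mul_relIndex_eq hKU.hall.1
  have h3 : K.relIndex M = Nat.card U * Nat.card (Cfsg.sigmaCore M) := by
    have : Nat.card K * K.relIndex M =
        Nat.card K * (Nat.card U * Nat.card (Cfsg.sigmaCore M)) := by
      rw [h1, card_eq hG hM hKU]; ring
    exact Nat.eq_of_mul_eq_mul_left Nat.card_pos this
  apply hKU.hall.2.2 q hq hqκ
  rw [h3]
  exact Dvd.dvd.mul_right hd _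

/-- `U ∩ K = 1`. -/
theorem U_inf_K {M K U : Subgroup G} (hKU : Cfsg.IsSigmaDecomposition M K U) : U ⊓ K = ⊥ := by
  have h := hKU.compl.2.2.1
  rw [eq_bot_iff] at h ⊢
  exact le_trans (inf_le_inf_left U le_sup_left) h

/-- `|U K| = |U| |K|`. -/
theorem card_U_sup_K {M K U : Subgroup G} (hKU : Cfsg.IsSigmaDecomposition M K U) :
    Nat.card ↥(U ⊔ K) = Nat.card U * Nat.card K := by
  have h1 := Cfsg.H5.card_sup_mul_card_inf hKU.normal
  rw [inf_comm, U_inf_K hKU, Subgroup.card_bot, mul_one, sup_comm, mul_comm] at h1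
  exact h1

/-- `E = U K` is a complement of `M_σ` in `M`. -/
theorem isComplIn_UK (hG : Cfsg.IsMinSimpleOddOrder G) {M : Subgroup G} (hM : IsCoatom M)
    {K U : Subgroup G} (hKU : Cfsg.IsSigmaDecomposition M K U) :
    Cfsg.IsComplIn (U ⊔ K) (Cfsg.sigmaCore M) M := by
  have hUM : U ≤ M := hKU.compl.1
  have hKM : K ≤ M := hKU.hall.1
  have hEM : U ⊔ K ≤ M := sup_le hUM hKM
  apply isComplIn_of_card hEM (sigmaCore_le M) (hEM.trans (le_normalizer_sigmaCore M))
  · rw [card_U_sup_K hKU]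
    apply Nat.Coprime.symm
    apply Nat.coprime_of_dvd
    intro q hq hd1 hd2
    have hqσ := mem_sigma_of_dvd_card_sigmaCore hG hM hq hd1
    rcases (Nat.Prime.dvd_mul hq).mp hd2 with h | h
    · exact not_mem_sigma_of_dvd_card_U hG hM hKU hq h hqσ
    · exact not_mem_sigma_of_dvd_card_K hKU hq h hqσ
  · rw [card_U_sup_K hKU, card_eq hG hM hKU]

end Cfsg.Agent.Lib.Helper1.BGSigmaDecomp
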