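import Mathlib
import Cfsg.Agent.Lib.Helper1.BGFcore
import Cfsg.Agent.Lib.Helper1.BGSigmaDecomp
import Cfsg.Agent.Lib.Helper10.FittingHall
import Cfsg.Agent.Lib.Helper10.BGEleven
import Cfsg.Agent.Lib.Helper9.BGExc15
import Cfsg.Agent.S1429
import Cfsg.Agent.S1426
import Cfsg.Agent.S1414

/-!
# B&G Theorem 15.2 (frozen row S1437) from the first conclusion of S1430 and from S1373

`s1437_ext_of`, `s1437_of`; auxiliary: `fittingHallOf_le_sigmaCore`, `fittingHallOf_eq_of_nilpotent`,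
`U_eq_bot`, `K_ne_bot`, `sigmaCore_eq_commutator`, `cfg`, `structure_of`, `mem_beta_of`.
-/

set_option autoImplicit false
set_option linter.unusedSectionVars false

namespace Cfsg.Agent.Lib.Helper1.BGFthm

open Cfsg
open scoped commutatorElement
open Cfsg.Agent.Lib.Helper10.BG Cfsg.Agent.Lib.Helper10 Cfsg.Agent.Lib.Helper9.BGExc

section Part1

variable {G : Type*} [Group G]

/-- transfer of `A ∩ C(T)` from `↥M` to `G`. -/
theorem map_inf_centralizer {M : Subgroup G} (A : Subgroup ↥M) (T : Set ↥M) :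
    (A ⊓ Subgroup.centralizer T).map M.subtype
      = A.map M.subtype ⊓ Subgroup.centralizer (M.subtype '' T) := by
  ext g
  constructor
  · rintro ⟨x, hx, rfl⟩
    refine Subgroup.mem_inf.mpr ⟨⟨x, (Subgroup.mem_inf.mp hx).1, rfl⟩, ?_⟩
    rw [Subgroup.mem_centralizer_iff]
    rintro _ ⟨t, ht, rfl⟩
    have := (Subgroup.mem_centralizer_iff.mp (Subgroup.mem_inf.mp hx).2) t ht
    exact congrArg Subtype.val this
  · intro hg
    obtain ⟨x, hxA, rfl⟩ := (Subgroup.mem_inf.mp hg).1
    refine ⟨x, Subgroup.mem_inf.mpr ⟨hxA, ?_⟩, rfl⟩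
    rw [Subgroup.mem_centralizer_iff]
    intro t ht
    have := (Subgroup.mem_centralizer_iff.mp (Subgroup.mem_inf.mp hg).2) _ ⟨t, ht, rfl⟩
    exact Subtype.ext this

theorem map_inf_centralizer_subgroup {M : Subgroup G} (A B : Subgroup ↥M) :
    (A ⊓ Subgroup.centralizer (B : Set ↥M)).map M.subtype
      = A.map M.subtype ⊓ Subgroup.centralizer ((B.map M.subtype : Subgroup G) : Set G) := by
  rw [map_inf_centralizer, Subgroup.coe_map]

theorem map_inf_centralizer_singleton {M : Subgroup G} (A : Subgroup ↥M) (k : ↥M) :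
    (A ⊓ Subgroup.centralizer ({k} : Set ↥M)).map M.subtype
      = A.map M.subtype ⊓ Subgroup.centralizer ({(k : G)} : Set G) := by
  rw [map_inf_centralizer, Set.image_singleton]
  rfl

variable [Finite G]

/-- `M_F ≤ O_σ(M)` at the level of `↥M`. -/
theorem fittingHall_le_piCore (hG : IsMinSimpleOddOrder G) {M : Subgroup G} (hM : IsCoatom M) :
    fittingHall ↥M ≤ piCore (sigma M) ↥M := by
  classical
  set F := fittingHall ↥M with hF
  have hFn : F.Normal := inferInstance
  have hFnil : Group.IsNilpotent F := fittingHall_isNilpotent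
  have hFcop : (Nat.card F).Coprime F.index := fittingHall_coprime
  apply le_sSup
  refine ⟨hFn, fun p hp hd => ?_⟩
  haveI : Fact p.Prime := ⟨hp⟩
  have hpM : p ∣ Nat.card M := hd.trans (Subgroup.card_subgroup_dvd_card F)
  obtain ⟨P₀⟩ := (inferInstance : Nonempty (Sylow p ↥F))
  haveI hP₀n : (P₀ : Subgroup ↥F).Normal :=
    Cfsg.Agent.Lib.Helper19.NilCover.sylow_normal_of_nilpotent hFnil p P₀
  haveI hP₀c : (P₀ : Subgroup ↥F).Characteristic := Sylow.characteristic_of_normal P₀ hP₀n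
  set P₁ : Subgroup ↥M := (P₀ : Subgroup ↥F).map F.subtype with hP₁
  haveI hP₁n : P₁.Normal := by
    rw [hP₁]; infer_instance
  have hidx : ¬ p ∣ F.index := by
    intro h1
    have := Nat.Coprime.eq_one_of_dvd (hFcop.coprime_dvd_left hd) h1
    exact hp.one_lt.ne' this
  have hfac : (Nat.card ↥M).factorization p = (Nat.card F).factorization p := by
    rw [← Subgroup.card_mul_index F, Nat.factorization_mul Nat.card_pos.ne'
      (Subgroup.index_ne_zero_of_finite), Finsupp.add_apply,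
      Nat.factorization_eq_zero_of_not_dvd hidx, add_zero]
  have hcard : Nat.card P₁ = p ^ (Nat.card ↥M).factorization p := by
    rw [hP₁, Subgroup.card_map_of_injective (Subgroup.subtype_injective _), hfac]
    exact P₀.card_eq_multiplicity
  have hP₁ne : P₁ ≠ ⊥ := by
    intro hbot
    rw [hbot, Subgroup.card_bot] at hcard
    have h0 : (Nat.card ↥M).factorization p ≠ 0 := by
      rw [hfac]
      intro h0
      rcases (Nat.factorization_eq_zero_iff _ _).mp h0 with h1 | h1 | h1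
      · exact h1 hp
      · exact h1 hd
      · exact Nat.card_pos.ne' h1
    have : 1 < p ^ (Nat.card ↥M).factorization p := Nat.one_lt_pow h0 hp.one_lt
    omega
  refine ⟨hp, hpM, Sylow.ofCard P₁ hcard, ?_⟩
  rw [Sylow.coe_ofCard]
  have hne : (P₁.map M.subtype : Subgroup G) ≠ ⊥ := by
    intro h1
    exact hP₁ne ((Subgroup.map_eq_bot_iff_of_injective _ (Subgroup.subtype_injective _)).mp h1)
  exact (normalizer_eq_of_isCoatom' hG hM hne (Subgroup.map_subtype_le _)
    (le_normalizer_map_subtype_of_normal P₁)).le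

/-- `M_F ≤ M_σ`. -/
theorem fittingHallOf_le_sigmaCore (hG : IsMinSimpleOddOrder G) {M : Subgroup G}
    (hM : IsCoatom M) : fittingHallOf M ≤ sigmaCore M :=
  Subgroup.map_mono (fittingHall_le_piCore hG hM)

end Part1

section Part2

variable {G : Type*} [Group G]

theorem subgroupOf_map_subtype' {M : Subgroup G} (A : Subgroup ↥M) :
    (A.map M.subtype).subgroupOf M = A :=
  Subgroup.comap_map_eq_self_of_injective (Subgroup.subtype_injective M) A

theorem relIndex_map_subtype {M : Subgroup G} (A : Subgroup ↥M) :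
    (A.map M.subtype).relIndex M = A.index := by
  rw [Subgroup.relIndex, subgroupOf_map_subtype']

theorem relIndex_map_map_subtype {M : Subgroup G} (A B : Subgroup ↥M) :
    (A.map M.subtype).relIndex (B.map M.subtype) = A.relIndex B := by
  have := Subgroup.relIndex_map_map_of_injective A B (f := M.subtype) (Subgroup.subtype_injective M)
  exact this

variable [Finite G]

/-- `M_σ` is a Hall subgroup of `M`. -/
theorem coprime_card_index_piCore (hG : IsMinSimpleOddOrder G) {M : Subgroup G}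
    (hM : IsCoatom M) :
    (Nat.card (piCore (sigma M) ↥M)).Coprime (piCore (sigma M) ↥M).index := by
  apply Nat.coprime_of_dvd
  intro p hp hd1 hd2
  have h1 : Nat.card (sigmaCore M) = Nat.card (piCore (sigma M) ↥M) := by
    unfold sigmaCore
    exact Subgroup.card_map_of_injective (Subgroup.subtype_injective _)
  have h2 : p ∈ sigma M := mem_sigma_of_dvd_card_sigmaCore hG hM hp (h1 ▸ hd1)
  have h3 := not_dvd_relIndex_sigmaCore hG hM hp h2
  apply h3
  unfold sigmaCore
  rw [relIndex_map_subtype]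
  exact hd2

/-- if `M_σ` is nilpotent then `M_F = M_σ`. -/
theorem fittingHallOf_eq_of_nilpotent (hG : IsMinSimpleOddOrder G) {M : Subgroup G}
    (hM : IsCoatom M) (hnil : Group.IsNilpotent (sigmaCore M)) :
    fittingHallOf M = sigmaCore M := by
  apply le_antisymm (fittingHallOf_le_sigmaCore hG hM)
  apply Subgroup.map_mono
  apply le_fittingHall inferInstance _ (coprime_card_index_piCore hG hM)
  have e : ↥(piCore (sigma M) ↥M) ≃* ↥(sigmaCore M) :=
    Subgroup.equivMapOfInjective _ _ (Subgroup.subtype_injective M)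
  exact (Group.isNilpotent_congr e).mpr hnil

theorem not_isNilpotent_sigmaCore (hG : IsMinSimpleOddOrder G) {M : Subgroup G}
    (hM : IsCoatom M) (hne : fittingHallOf M ≠ sigmaCore M) :
    ¬ Group.IsNilpotent (sigmaCore M) :=
  fun h => hne (fittingHallOf_eq_of_nilpotent hG hM h)

/-- `U = 1` when `M_σ` is not nilpotent (from `S1429`). -/
theorem U_eq_bot (hG : IsMinSimpleOddOrder G) {M : Subgroup G} (hM : IsCoatom M)
    {K U : Subgroup G} (hKU : IsSigmaDecomposition M K U)
    (hnn : ¬ Group.IsNilpotent (sigmaCore M)) : U = ⊥ := by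
  by_contra hU
  have h1 : Nat.card U ≠ 1 := by
    intro h
    exact hU (Subgroup.card_eq_one.mp h)
  obtain ⟨p, hp, hpU⟩ := Nat.exists_prime_and_dvd h1
  haveI : Fact p.Prime := ⟨hp⟩
  have hpM : p ∣ Nat.card M := hpU.trans (Subgroup.card_dvd_of_le hKU.compl.1)
  have hpσ := Cfsg.Agent.Lib.Helper1.BGSigmaDecomp.not_mem_sigma_of_dvd_card_U hG hM hKU hp hpU
  have hpκ := Cfsg.Agent.Lib.Helper1.BGSigmaDecomp.not_mem_kappa_of_dvd_card_U hG hM hKU hp hpU
  obtain ⟨S⟩ := (inferInstance : Nonempty (Sylow p ↥M))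
  have hP1 : ¬ (∀ q : ℕ, q.Prime → q ∣ Nat.card M → q ∉ sigma M → q ∈ kappa M) :=
    fun h => hpκ (h p hp hpM hpσ)
  have hmem : p ∉ sigma M ∪ kappa M := by
    intro h
    rcases h with h | h
    · exact hpσ h
    · exact hpκ h
  exact hnn (Cfsg.Agent.S1429.result hG M hM hP1 p hpM hmem S).2.2

end Part2

section Part3

/-- stands for the first conclusion of the frozen row `S1430`. -/
def H1430 (G : Type*) [Group G] : Prop :=
  ∀ M : Subgroup G, IsCoatom M → ∀ K : Subgroup G, IsPiHallOf (kappa M) K M → K ≠ ⊥ →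
    ∀ k ∈ K, k ≠ 1 → sigmaCore M ⊓ Subgroup.centralizer ({k} : Set G)
      = sigmaCore M ⊓ Subgroup.centralizer (K : Set G)

/-- stands for the frozen row `S1373`. -/
def H1373 (G : Type*) [Group G] : Prop :=
  ∀ M : Subgroup G, IsCoatom M → ∀ K U : Subgroup G, IsSigmaDecomposition M K U → K ≠ ⊥ →
    U = ⊥ → (Nat.card ↥(sigmaCore M ⊓ Subgroup.centralizer (K : Set G))).Prime

variable {G : Type*} [Group G] [Finite G]

theorem K_sup_sigmaCore {M K U : Subgroup G} (hKU : IsSigmaDecomposition M K U) (hU : U = ⊥) :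
    K ⊔ sigmaCore M = M := by
  apply le_antisymm hKU.compl.2.1
  intro m hm
  obtain ⟨a, ha, b, hb, rfl⟩ := hKU.compl.2.2.2 m hm
  rw [hU, Subgroup.mem_bot] at ha
  rw [ha, one_mul]
  exact hb

theorem comm_eq (hG : IsMinSimpleOddOrder G) {M : Subgroup G} (hM : IsCoatom M)
    {K U : Subgroup G} (hKU : IsSigmaDecomposition M K U) (hU : U = ⊥) :
    ⁅sigmaCore M, K⁆ = sigmaCore M := by
  have h1 := Cfsg.Agent.Lib.Helper1.BGSigmaDecomp.isComplIn_UK hG hM hKU
  have h2 := (Cfsg.Agent.S1426.result hG M hM (U ⊔ K) h1).2.1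
  rwa [hU, bot_sup_eq] at h2

theorem K_ne_bot (hG : IsMinSimpleOddOrder G) {M : Subgroup G} (hM : IsCoatom M)
    {K U : Subgroup G} (hKU : IsSigmaDecomposition M K U) (hU : U = ⊥) : K ≠ ⊥ := by
  intro hK
  have h1 := comm_eq hG hM hKU hU
  rw [hK, Subgroup.commutator_bot_right] at h1
  exact sigmaCore_ne_bot hG hM h1.symm

theorem sigmaCore_eq_commutator (hG : IsMinSimpleOddOrder G) {M : Subgroup G} (hM : IsCoatom M)
    {K U : Subgroup G} (hKU : IsSigmaDecomposition M K U) (hU : U = ⊥) :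
    sigmaCore M = ⁅M, M⁆ := by
  apply le_antisymm (sigmaCore_le_commutator hG hM)
  have hKM : K ≤ M := hKU.hall.1
  haveI : IsMulCommutative (K.subgroupOf M) := by
    haveI := hKU.cyclic
    haveI : IsCyclic (K.subgroupOf M) :=
      isCyclic_of_surjective (Subgroup.subgroupOfEquivOfLe hKM).symm
        (Subgroup.subgroupOfEquivOfLe hKM).symm.surjective
    exact ⟨⟨IsCyclic.commGroup.mul_comm⟩⟩
  have hsup : piCore (sigma M) ↥M ⊔ K.subgroupOf M = ⊤ := by
    have h1 : (K ⊔ sigmaCore M).subgroupOf M = ⊤ :=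
      Subgroup.subgroupOf_eq_top.mpr (K_sup_sigmaCore hKU hU).ge
    rw [Subgroup.subgroupOf_sup hKM (sigmaCore_le M)] at h1
    unfold sigmaCore at h1
    rw [subgroupOf_map_subtype'] at h1
    rw [sup_comm]; exact h1
  have h2 := Subgroup.Normal.commutator_le_of_self_sup_commutative_eq_top hsup inferInstance
  rw [← Subgroup.map_subtype_commutator]
  exact Subgroup.map_mono h2

end Part3

section Part4

variable {G : Type*} [Group G] [Finite G]

/-- the configuration of `BGFcore` inside `↥M`. -/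
theorem cfg (hG : IsMinSimpleOddOrder G) {M : Subgroup G} (hM : IsCoatom M)
    {K U : Subgroup G} (hKU : IsSigmaDecomposition M K U)
    (hne : fittingHallOf M ≠ sigmaCore M) (h1430 : H1430 G) (h1373 : H1373 G) :
    Cfsg.Agent.Lib.Helper1.BGFcore.Cfg ↥M (piCore (sigma M) ↥M) (K.subgroupOf M)
      (Nat.card ↥(sigmaCore M ⊓ Subgroup.centralizer (K : Set G))) := by
  have hnn := not_isNilpotent_sigmaCore hG hM hne
  have hU := U_eq_bot hG hM hKU hnn
  have hK1 := K_ne_bot hG hM hKU hU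
  have hKM : K ≤ M := hKU.hall.1
  have hinj := Subgroup.subtype_injective M
  have hmapK : (K.subgroupOf M).map M.subtype = K := Subgroup.map_subgroupOf_eq_of_le hKM
  have hmapS : (piCore (sigma M) ↥M).map M.subtype = sigmaCore M := rfl
  have hfixmap : ((piCore (sigma M) ↥M) ⊓ Subgroup.centralizer ((K.subgroupOf M : Subgroup ↥M) :
      Set ↥M)).map M.subtype = sigmaCore M ⊓ Subgroup.centralizer (K : Set G) := by
    rw [map_inf_centralizer_subgroup, hmapK, hmapS]
  refine
    { solv := isSolvable_of_ne_top hG hM.1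
      odd := odd_card_subgroup hG M
      normal := inferInstance
      sup := ?_
      cop := ?_
      K_ne := ?_
      prime := ?_
      card_fix := ?_
      q_prime := h1373 M hM K U hKU hK1 hU
      comm := ?_
      not_nil := ?_ }
  · have h1 : (K ⊔ sigmaCore M).subgroupOf M = ⊤ :=
      Subgroup.subgroupOf_eq_top.mpr (K_sup_sigmaCore hKU hU).ge
    rw [Subgroup.subgroupOf_sup hKM (sigmaCore_le M)] at h1
    unfold sigmaCore at h1
    rw [subgroupOf_map_subtype'] at h1
    rw [sup_comm]; exact h1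
  · have h1 : Nat.card (piCore (sigma M) ↥M) = Nat.card (sigmaCore M) :=
      (Subgroup.card_map_of_injective hinj).symm
    have h2 : Nat.card (K.subgroupOf M) = Nat.card K :=
      Nat.card_congr (Subgroup.subgroupOfEquivOfLe hKM).toEquiv
    rw [h1, h2]
    apply Nat.coprime_of_dvd
    intro p hp hd1 hd2
    exact Cfsg.Agent.Lib.Helper1.BGSigmaDecomp.not_mem_sigma_of_dvd_card_K hKU hp hd2
      (mem_sigma_of_dvd_card_sigmaCore hG hM hp hd1)
  · intro h
    apply hK1
    rw [← hmapK, h, Subgroup.map_bot]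
  · intro k hk hk1
    apply Subgroup.map_injective hinj
    rw [map_inf_centralizer_singleton, hfixmap]
    exact h1430 M hM K hKU.hall hK1 (k : G) (Subgroup.mem_subgroupOf.mp hk)
      (fun h => hk1 (Subtype.ext h))
  · rw [← hfixmap, Subgroup.card_map_of_injective hinj]
  · apply Subgroup.map_injective hinj
    rw [Subgroup.map_commutator, hmapK]
    exact comm_eq hG hM hKU hU
  · intro hnil
    apply hnn
    have e : ↥(piCore (sigma M) ↥M) ≃* ↥(sigmaCore M) :=
      Subgroup.equivMapOfInjective _ _ hinj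
    exact (Group.isNilpotent_congr e).mp hnil

end Part4

section Part5

variable {G : Type*} [Group G] [Finite G]

/-- B&G Theorem 15.2 except for `q ∈ β(M)`; with the extra facts `K* ≤ Q` and
`[D, D] ≤ C(Q)`. -/
theorem structure_of (hG : IsMinSimpleOddOrder G) {M : Subgroup G} (hM : IsCoatom M)
    {K U : Subgroup G} (hKU : IsSigmaDecomposition M K U)
    (hne : fittingHallOf M ≠ sigmaCore M) (h1430 : H1430 G) (h1373 : H1373 G) :
    (Nat.card K).Prime ∧
    ∃ Q : Subgroup G, Q ≤ fittingHallOf M ∧ M ≤ Subgroup.normalizer (Q : Set G) ∧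
      IsPGroup (Nat.card ↥(sigmaCore M ⊓ Subgroup.centralizer (K : Set G))) Q ∧
      ¬ Nat.card ↥(sigmaCore M ⊓ Subgroup.centralizer (K : Set G)) ∣ Q.relIndex (sigmaCore M) ∧
      sigmaCore M ⊓ Subgroup.centralizer (K : Set G) ≤ Q ∧
      ∀ D : Subgroup G, IsComplIn Q D (sigmaCore M) →
        Group.IsNilpotent D ∧
        M ≤ Subgroup.normalizer ((Q ⊓ Subgroup.centralizer (D : Set G) : Subgroup G) : Set G) ∧
        Q ⊓ Subgroup.centralizer (D : Set G) < Q ∧
        Nat.card Q = Nat.card ↥(Q ⊓ Subgroup.centralizer (D : Set G)) *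
          Nat.card ↥(sigmaCore M ⊓ Subgroup.centralizer (K : Set G)) ^ Nat.card K ∧
        (∀ a ∈ Q, ∀ b ∈ Q,
          a ^ Nat.card ↥(sigmaCore M ⊓ Subgroup.centralizer (K : Set G))
            ∈ Q ⊓ Subgroup.centralizer (D : Set G) ∧
          a * b * a⁻¹ * b⁻¹ ∈ Q ⊓ Subgroup.centralizer (D : Set G)) ∧
        (∀ N : Subgroup G, Q ⊓ Subgroup.centralizer (D : Set G) < N → N < Q →
          ¬ M ≤ Subgroup.normalizer (N : Set G)) ∧
        ⁅D, D⁆ ≤ Subgroup.centralizer (Q : Set G) := by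
  classical
  have hcfg := cfg hG hM hKU hne h1430 h1373
  set q := Nat.card ↥(sigmaCore M ⊓ Subgroup.centralizer (K : Set G)) with hq
  set S := piCore (sigma M) ↥M with hS
  have hKM : K ≤ M := hKU.hall.1
  have hinj := Subgroup.subtype_injective M
  have hmapK : (K.subgroupOf M).map M.subtype = K := Subgroup.map_subgroupOf_eq_of_le hKM
  have hmapS : S.map M.subtype = sigmaCore M := rfl
  have hcardK : Nat.card (K.subgroupOf M) = Nat.card K :=
    Nat.card_congr (Subgroup.subgroupOfEquivOfLe hKM).toEquiv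
  haveI : Fact q.Prime := ⟨hcfg.q_prime⟩
  obtain ⟨hKp, hmain⟩ := hcfg.main
  rw [hcardK] at hKp
  set Q' := Cfsg.Agent.Lib.Helper1.BGFcore.coreQ S q with hQ'
  haveI hQ'n : Q'.Normal := Cfsg.Agent.Lib.Helper1.BGFcore.coreQ_normal hcfg.normal
  have hQ'S : Q' ≤ S := Cfsg.Agent.Lib.Helper1.BGFcore.coreQ_le
  have hQ'p : IsPGroup q Q' := Cfsg.Agent.Lib.Helper1.BGFcore.coreQ_isPGroup
  have hfixmap : (S ⊓ Subgroup.centralizer ((K.subgroupOf M : Subgroup ↥M) :
      Set ↥M)).map M.subtype = sigmaCore M ⊓ Subgroup.centralizer (K : Set G) := by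
    rw [map_inf_centralizer_subgroup, hmapK, hmapS]
  have hqS : q ∣ Nat.card (sigmaCore M) := Subgroup.card_dvd_of_le inf_le_left
  have hqσ : q ∈ sigma M := mem_sigma_of_dvd_card_sigmaCore hG hM hcfg.q_prime hqS
  refine ⟨hKp, Q'.map M.subtype, ?_, le_normalizer_map_subtype_of_normal Q', hQ'p.map _, ?_, ?_, ?_⟩
  · -- `Q ≤ M_F`
    apply Subgroup.map_mono
    apply le_fittingHall hQ'n hQ'p.isNilpotent
    obtain ⟨a, ha⟩ := IsPGroup.iff_card.mp hQ'p
    rw [ha]
    apply Nat.Coprime.pow_left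
    rw [Nat.Prime.coprime_iff_not_dvd hcfg.q_prime, ← Subgroup.relIndex_mul_index hQ'S]
    intro hd
    rcases (Nat.Prime.dvd_mul hcfg.q_prime).mp hd with h1 | h1
    · exact hcfg.not_dvd_relIndex h1
    · apply not_dvd_relIndex_sigmaCore hG hM hcfg.q_prime hqσ
      rw [← hmapS, relIndex_map_subtype]
      exact h1
  · rw [← hmapS, relIndex_map_map_subtype]
    exact hcfg.not_dvd_relIndex
  · rw [← hfixmap]
    exact Subgroup.map_mono hcfg.fix_le_coreQ
  · intro D hD
    obtain ⟨hD1, hD2, hD3, hD4⟩ := hD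
    have hDM : D ≤ M := hD2.trans (sigmaCore_le M)
    have hmapD : (D.subgroupOf M).map M.subtype = D := Subgroup.map_subgroupOf_eq_of_le hDM
    have hD'S : D.subgroupOf M ≤ S := by
      rw [← Subgroup.map_le_map_iff_of_injective hinj, hmapD]
      exact hD2
    have hD'Q : Q' ⊓ D.subgroupOf M = ⊥ := by
      apply Subgroup.map_injective hinj
      rw [Subgroup.map_inf _ _ _ hinj, hmapD, hD3, Subgroup.map_bot]
    have hSQD : S ≤ Q' ⊔ D.subgroupOf M := by
      intro x hx
      have h1 : (x : G) ∈ sigmaCore M := ⟨x, hx, rfl⟩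
      obtain ⟨a, ha, b, hb, hab⟩ := hD4 _ h1
      obtain ⟨a', ha', rfl⟩ := ha
      have h2 : x = a' * ⟨b, hDM hb⟩ := Subtype.ext hab
      rw [h2]
      exact Subgroup.mul_mem_sup ha' (Subgroup.mem_subgroupOf.mpr hb)
    obtain ⟨r1, r2, r3, r4, r5, r6, r7⟩ := hmain (D.subgroupOf M) hD'S hD'Q hSQD
    have hQ₀map : (Q' ⊓ Subgroup.centralizer ((D.subgroupOf M : Subgroup ↥M) : Set ↥M)).map
        M.subtype = Q'.map M.subtype ⊓ Subgroup.centralizer (D : Set G) := by
      rw [map_inf_centralizer_subgroup, hmapD]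
    refine ⟨?_, ?_, ?_, ?_, ?_, ?_, ?_⟩
    · exact (Group.isNilpotent_congr (Subgroup.subgroupOfEquivOfLe hDM)).mp r1
    · rw [← hQ₀map]
      haveI := r2
      exact le_normalizer_map_subtype_of_normal _
    · rw [← hQ₀map]
      exact (Subgroup.map_lt_map_iff_of_injective hinj).mpr r3
    · rw [← hQ₀map, Subgroup.card_map_of_injective hinj, Subgroup.card_map_of_injective hinj,
        r4, hcardK]
    · rintro _ ⟨a, ha, rfl⟩ _ ⟨b, hb, rfl⟩
      rw [← hQ₀map]
      obtain ⟨h1, h2⟩ := r5 a ha b hb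
      exact ⟨⟨_, h1, rfl⟩, ⟨_, h2, rfl⟩⟩
    · intro N hN1 hN2 hMN
      have hNM : N ≤ M := hN2.le.trans (Subgroup.map_subtype_le _)
      have hmapN : (N.subgroupOf M).map M.subtype = N := Subgroup.map_subgroupOf_eq_of_le hNM
      rw [← hQ₀map, ← hmapN, Subgroup.map_lt_map_iff_of_injective hinj] at hN1
      rw [← hmapN, Subgroup.map_lt_map_iff_of_injective hinj] at hN2
      exact r6 _ hN1 hN2 (Subgroup.normal_subgroupOf_of_le_normalizer hMN)
    · rw [Subgroup.commutator_le]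
      intro d₁ hd₁ d₂ hd₂
      have h1 : ⁅(⟨d₁, hDM hd₁⟩ : ↥M), ⟨d₂, hDM hd₂⟩⁆
          ∈ Subgroup.centralizer ((Q' : Subgroup ↥M) : Set ↥M) :=
        r7 (Subgroup.commutator_mem_commutator (Subgroup.mem_subgroupOf.mpr hd₁)
          (Subgroup.mem_subgroupOf.mpr hd₂))
      rw [Subgroup.mem_centralizer_iff]
      rintro _ ⟨y, hy, rfl⟩
      have h2 := (Subgroup.mem_centralizer_iff.mp h1) y hy
      have h3 := congrArg Subtype.val h2
      simpa [commutatorElement_def] using h3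

end Part5

section Part6

variable {G : Type*} [Group G] [Finite G]

/-- a product of two nilpotent subgroups normalized by the product is nilpotent. -/
theorem isNilpotent_of_sup_normal {Q D T : Subgroup G} (hQT : Q ≤ T) (hDT : D ≤ T)
    (hT : T ≤ Q ⊔ D) (hTQ : T ≤ Subgroup.normalizer (Q : Set G))
    (hTD : T ≤ Subgroup.normalizer (D : Set G))
    (hQ : Group.IsNilpotent Q) (hD : Group.IsNilpotent D) : Group.IsNilpotent T := by
  have hQn : (Q.subgroupOf T).Normal := Subgroup.normal_subgroupOf_of_le_normalizer hTQ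
  have hDn : (D.subgroupOf T).Normal := Subgroup.normal_subgroupOf_of_le_normalizer hTD
  have hQnil : Group.IsNilpotent (Q.subgroupOf T) :=
    (Group.isNilpotent_congr (Subgroup.subgroupOfEquivOfLe hQT)).mpr hQ
  have hDnil : Group.IsNilpotent (D.subgroupOf T) :=
    (Group.isNilpotent_congr (Subgroup.subgroupOfEquivOfLe hDT)).mpr hD
  have h1 := Cfsg.Agent.Lib.Helper1.le_fittingSubgroup hQn hQnil
  have h2 := Cfsg.Agent.Lib.Helper1.le_fittingSubgroup hDn hDnil
  have h3 : fittingSubgroup ↥T = ⊤ := by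
    rw [eq_top_iff]
    calc (⊤ : Subgroup ↥T) = (Q ⊔ D).subgroupOf T := by
          rw [Subgroup.subgroupOf_eq_top.mpr hT]
      _ = Q.subgroupOf T ⊔ D.subgroupOf T := Subgroup.subgroupOf_sup hQT hDT
      _ ≤ fittingSubgroup ↥T := sup_le h1 h2
  have h4 : Group.IsNilpotent (fittingSubgroup ↥T) :=
    Cfsg.Agent.Lib.Helper1.fittingSubgroup_isNilpotent
  rw [h3] at h4
  exact (Group.isNilpotent_congr Subgroup.topEquiv).mp h4

/-- a normal Sylow `q`-subgroup `Q` of `M_σ` whose complements are all nilpotent, `M_σ` not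
nilpotent: then `q ∈ β(M)`. -/
theorem mem_beta_of (hG : IsMinSimpleOddOrder G) {M : Subgroup G} (hM : IsCoatom M)
    (hnn : ¬ Group.IsNilpotent (sigmaCore M)) {q : ℕ} (hq : q.Prime) {Q : Subgroup G}
    (hQS : Q ≤ sigmaCore M) (hMQ : M ≤ Subgroup.normalizer (Q : Set G)) (hQp : IsPGroup q Q)
    (hidx : ¬ q ∣ Q.relIndex (sigmaCore M)) (hqM : q ∣ Nat.card M)
    (hnil : ∀ D : Subgroup G, IsComplIn Q D (sigmaCore M) → Group.IsNilpotent D) :
    q ∈ beta M := by
  classical
  by_contra hqβ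
  haveI : Fact q.Prime := ⟨hq⟩
  obtain ⟨P, N, hNn, hNP⟩ := ((Cfsg.Agent.S1414.result hG M hM).2.2.2.2 q hq hqM hqβ).2.1
  haveI := hNn
  have hDS : N.map (sigmaCore M).subtype ≤ sigmaCore M := Subgroup.map_subtype_le _
  have hDcard : Nat.card (N.map (sigmaCore M).subtype) = Nat.card N :=
    Subgroup.card_map_of_injective (Subgroup.subtype_injective _)
  have hcard1 : Nat.card N * Nat.card P = Nat.card ↥(sigmaCore M) := hNP.card_mul_card
  have hPcard : Nat.card P = q ^ (Nat.card ↥(sigmaCore M)).factorization q :=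
    P.card_eq_multiplicity
  have hQr : Nat.card Q * Q.relIndex (sigmaCore M) = Nat.card (sigmaCore M) :=
    Cfsg.Agent.Lib.Helper1.card_mul_relIndex_of_le hQS
  obtain ⟨a, ha⟩ := IsPGroup.iff_card.mp hQp
  have hfac : (Nat.card ↥(sigmaCore M)).factorization q = a := by
    have hr0 : Q.relIndex (sigmaCore M) ≠ 0 := by
      intro h0
      rw [h0, mul_zero] at hQr
      exact Nat.card_pos.ne' hQr.symm
    rw [← hQr, Nat.factorization_mul Nat.card_pos.ne' hr0, Finsupp.add_apply,
      Nat.factorization_eq_zero_of_not_dvd hidx, add_zero, ha, Nat.Prime.factorization_pow hq]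
    simp
  have hQP : Nat.card Q = Nat.card P := by rw [ha, hPcard, hfac]
  have hcopN : (Nat.card Q).Coprime (Nat.card (N.map (sigmaCore M).subtype)) := by
    rw [ha, hDcard]
    apply Nat.Coprime.pow_left
    rw [Nat.Prime.coprime_iff_not_dvd hq]
    intro hd
    have h1 : q ^ ((Nat.card ↥(sigmaCore M)).factorization q + 1) ∣ Nat.card ↥(sigmaCore M) := by
      have h2 : q * Nat.card P ∣ Nat.card N * Nat.card P := Nat.mul_dvd_mul_right hd _
      rw [hcard1, hPcard] at h2
      rw [pow_succ, mul_comm]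
      exact h2
    exact Nat.pow_succ_factorization_not_dvd Nat.card_pos.ne' hq h1
  have hnormD : sigmaCore M ≤ Subgroup.normalizer
      ((N.map (sigmaCore M).subtype : Subgroup G) : Set G) :=
    le_normalizer_map_subtype_of_normal N
  have hcompl : IsComplIn Q (N.map (sigmaCore M).subtype) (sigmaCore M) := by
    apply isComplIn_of_card hQS hDS _ hcopN
    · rw [hDcard, hQP, mul_comm]; exact hcard1
    · exact hQS.trans hnormD
  have hDnil := hnil _ hcompl
  apply hnn
  exact isNilpotent_of_sup_normal hQS hDS (IsComplIn.sup_eq hcompl).ge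
    ((sigmaCore_le M).trans hMQ) hnormD hQp.isNilpotent hDnil

end Part6

section Part7

variable {G : Type*} [Group G] [Finite G]

/-- B&G Theorem 15.2 (frozen row `S1437`), from the first conclusion of `S1430` and `S1373`;
with the extra facts `K ≠ 1`, `K* ≤ Q` and `[D, D] ≤ C(Q)`. -/
theorem s1437_ext_of (hG : IsMinSimpleOddOrder G) (M : Subgroup G) (hM : IsCoatom M)
    (K U : Subgroup G) (hKU : IsSigmaDecomposition M K U)
    (hne : fittingHallOf M ≠ sigmaCore M) (h1430 : H1430 G) (h1373 : H1373 G) :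
    U = ⊥ ∧ K ≠ ⊥ ∧ ¬ Group.IsNilpotent (sigmaCore M) ∧ sigmaCore M = ⁅M, M⁆ ∧ (Nat.card K).Prime ∧
      (Nat.card ↥(sigmaCore M ⊓ Subgroup.centralizer (K : Set G))).Prime ∧
      Nat.card ↥(sigmaCore M ⊓ Subgroup.centralizer (K : Set G)) ∣ Nat.card (fittingHallOf M) ∧
      Nat.card ↥(sigmaCore M ⊓ Subgroup.centralizer (K : Set G)) ∈ beta M ∧
      ∃ Q : Subgroup G, Q ≤ fittingHallOf M ∧ M ≤ Subgroup.normalizer (Q : Set G) ∧
        IsPGroup (Nat.card ↥(sigmaCore M ⊓ Subgroup.centralizer (K : Set G))) Q ∧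
        ¬ Nat.card ↥(sigmaCore M ⊓ Subgroup.centralizer (K : Set G)) ∣ Q.relIndex (sigmaCore M) ∧
        sigmaCore M ⊓ Subgroup.centralizer (K : Set G) ≤ Q ∧
        ∀ D : Subgroup G, IsComplIn Q D (sigmaCore M) →
          Group.IsNilpotent D ∧
          M ≤ Subgroup.normalizer ((Q ⊓ Subgroup.centralizer (D : Set G) : Subgroup G) : Set G) ∧
          Q ⊓ Subgroup.centralizer (D : Set G) < Q ∧
          Nat.card Q = Nat.card ↥(Q ⊓ Subgroup.centralizer (D : Set G)) *
            Nat.card ↥(sigmaCore M ⊓ Subgroup.centralizer (K : Set G)) ^ Nat.card K ∧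
          (∀ a ∈ Q, ∀ b ∈ Q,
            a ^ Nat.card ↥(sigmaCore M ⊓ Subgroup.centralizer (K : Set G))
              ∈ Q ⊓ Subgroup.centralizer (D : Set G) ∧
            a * b * a⁻¹ * b⁻¹ ∈ Q ⊓ Subgroup.centralizer (D : Set G)) ∧
          (∀ N : Subgroup G, Q ⊓ Subgroup.centralizer (D : Set G) < N → N < Q →
            ¬ M ≤ Subgroup.normalizer (N : Set G)) ∧
          ⁅D, D⁆ ≤ Subgroup.centralizer (Q : Set G) := by
  have hnn := not_isNilpotent_sigmaCore hG hM hne
  have hU := U_eq_bot hG hM hKU hnn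
  have hK1 := K_ne_bot hG hM hKU hU
  have hqp := h1373 M hM K U hKU hK1 hU
  obtain ⟨hKp, Q, hQF, hMQ, hQp, hidx, hfixQ, hD⟩ := structure_of hG hM hKU hne h1430 h1373
  have hQS : Q ≤ sigmaCore M := hQF.trans (fittingHallOf_le_sigmaCore hG hM)
  have hqQ : Nat.card ↥(sigmaCore M ⊓ Subgroup.centralizer (K : Set G)) ∣ Nat.card Q :=
    Subgroup.card_dvd_of_le hfixQ
  have hqM : Nat.card ↥(sigmaCore M ⊓ Subgroup.centralizer (K : Set G)) ∣ Nat.card M :=
    hqQ.trans (Subgroup.card_dvd_of_le (hQS.trans (sigmaCore_le M)))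
  refine ⟨hU, hK1, hnn, sigmaCore_eq_commutator hG hM hKU hU, hKp, hqp,
    hqQ.trans (Subgroup.card_dvd_of_le hQF), ?_, Q, hQF, hMQ, hQp, hidx, hfixQ, hD⟩
  exact mem_beta_of hG hM hnn hqp hQS hMQ hQp hidx hqM (fun D hDc => (hD D hDc).1)

/-- the frozen statement `S1437`, from the first conclusion of `S1430` and `S1373`. -/
theorem s1437_of (hG : IsMinSimpleOddOrder G) (M : Subgroup G) (hM : IsCoatom M)
    (K U : Subgroup G) (hKU : IsSigmaDecomposition M K U)
    (hne : fittingHallOf M ≠ sigmaCore M) (h1430 : H1430 G) (h1373 : H1373 G) :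
    U = ⊥ ∧ Cfsg.sigmaCore M = ⁅M, M⁆ ∧ (Nat.card K).Prime ∧ (Nat.card ↥(Cfsg.sigmaCore M ⊓ Subgroup.centralizer (K : Set G))).Prime ∧
      Nat.card ↥(Cfsg.sigmaCore M ⊓ Subgroup.centralizer (K : Set G)) ∣ Nat.card (Cfsg.fittingHallOf M) ∧ Nat.card ↥(Cfsg.sigmaCore M ⊓ Subgroup.centralizer (K : Set G)) ∈ Cfsg.beta M ∧
      ∃ Q : Subgroup G, Q ≤ Cfsg.fittingHallOf M ∧ M ≤ Subgroup.normalizer (Q : Set G) ∧ IsPGroup (Nat.card ↥(Cfsg.sigmaCore M ⊓ Subgroup.centralizer (K : Set G))) Q ∧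
        ¬ Nat.card ↥(Cfsg.sigmaCore M ⊓ Subgroup.centralizer (K : Set G)) ∣ Q.relIndex (Cfsg.sigmaCore M) ∧
        ∀ D : Subgroup G, Cfsg.IsComplIn Q D (Cfsg.sigmaCore M) →
          Group.IsNilpotent D ∧ M ≤ Subgroup.normalizer ((Q ⊓ Subgroup.centralizer (D : Set G) : Subgroup G) : Set G) ∧
          Q ⊓ Subgroup.centralizer (D : Set G) < Q ∧
          Nat.card Q = Nat.card ↥(Q ⊓ Subgroup.centralizer (D : Set G)) * Nat.card ↥(Cfsg.sigmaCore M ⊓ Subgroup.centralizer (K : Set G)) ^ Nat.card K ∧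
          (∀ a ∈ Q, ∀ b ∈ Q, a ^ Nat.card ↥(Cfsg.sigmaCore M ⊓ Subgroup.centralizer (K : Set G)) ∈ Q ⊓ Subgroup.centralizer (D : Set G) ∧
            a * b * a⁻¹ * b⁻¹ ∈ Q ⊓ Subgroup.centralizer (D : Set G)) ∧
          ∀ N : Subgroup G, Q ⊓ Subgroup.centralizer (D : Set G) < N → N < Q → ¬ M ≤ Subgroup.normalizer (N : Set G) := by
  obtain ⟨h1, -, -, h2, h3, h4, h5, h6, Q, q1, q2, q3, q4, -, hD⟩ :=
    s1437_ext_of hG M hM K U hKU hne h1430 h1373
  refine ⟨h1, h2, h3, h4, h5, h6, Q, q1, q2, q3, q4, fun D hDc => ?_⟩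
  obtain ⟨d1, d2, d3, d4, d5, d6, -⟩ := hD D hDc
  exact ⟨d1, d2, d3, d4, d5, d6⟩

end Part7

end Cfsg.Agent.Lib.Helper1.BGFthm
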