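import Mathlib
import Cfsg.Agent.Lib.Helper1.BGFthm
import Cfsg.Agent.Lib.Helper10.BGTwelve
import Cfsg.Agent.S1423
import Cfsg.Agent.S1420

/-!
# Consequences of B&G Theorem 15.2: frozen rows S1357 and S1355 modulo unlanded rows

`isTISubset_fittingOf`, `s1357_of`, `isNilpotent_commutator_map_of_eq`, `coreQ_le_fittingHall`,
`isNilpotent_commutator_map_of_ne`, `s1355_of`.
-/

set_option autoImplicit false
set_option linter.unusedSectionVars false

namespace Cfsg.Agent.Lib.Helper1.BGFcons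

open Cfsg
open scoped commutatorElement
open Cfsg.Agent.Lib.Helper10.BG Cfsg.Agent.Lib.Helper10 Cfsg.Agent.Lib.Helper9.BGExc
open Cfsg.Agent.Lib.Helper1.BGFthm

section Part1

variable {G : Type*} [Group G] [Finite G]

/-- a normal `q`-subgroup of index prime to `q` is a maximal `q`-subgroup. -/
theorem isSylowIn_of_normal {q : ℕ} [Fact q.Prime] {Q X : Subgroup G} (hQX : Q ≤ X)
    (hn : X ≤ Subgroup.normalizer (Q : Set G)) (hQp : IsPGroup q Q)
    (hidx : ¬ q ∣ Q.relIndex X) : IsSylowIn q Q X :=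
  ⟨hQX, hQp, fun Q' hQ'X hQ' hle =>
    le_antisymm (pgroup_le_of_not_dvd_relIndex hn hidx hQ' hQ'X) hle⟩

/-- elements of coprime orders in a nilpotent subgroup commute. -/
theorem commute_of_coprime_of_nilpotent {F : Subgroup G} (hF : Group.IsNilpotent F) {x y : G}
    (hx : x ∈ F) (hy : y ∈ F) (hxy : (orderOf x).Coprime (orderOf y)) : x * y = y * x := by
  haveI := hF
  have h1 := commute_of_coprime_orderOf ↥F ⟨x, hx⟩ ⟨y, hy⟩
    (by rwa [Subgroup.orderOf_mk, Subgroup.orderOf_mk])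
  exact congrArg Subtype.val h1.eq

/-- B&G: if `M_σ` has a normal Sylow `q`-subgroup `Q ≠ 1` with `q ∈ β(M)`, then `F(M)` is a
TI-subset of `G`. -/
theorem isTISubset_fittingOf (hG : IsMinSimpleOddOrder G) {M : Subgroup G} (hM : IsCoatom M)
    {q : ℕ} (hq : q.Prime) (hqβ : q ∈ beta M) {Q : Subgroup G} (hQ1 : Q ≠ ⊥)
    (hQS : Q ≤ sigmaCore M) (hMQ : M ≤ Subgroup.normalizer (Q : Set G)) (hQp : IsPGroup q Q)
    (hidx : ¬ q ∣ Q.relIndex (sigmaCore M)) : IsTISubset (fittingOf M : Set G) := by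
  classical
  haveI : Fact q.Prime := ⟨hq⟩
  have hqσ : q ∈ sigma M := alpha_subset_sigma hG hM hqβ.1
  have hQM : Q ≤ M := hQS.trans (sigmaCore_le M)
  have hSyl : IsSylowIn q Q (sigmaCore M) :=
    isSylowIn_of_normal hQS ((sigmaCore_le M).trans hMQ) hQp hidx
  -- a subgroup of order `q`
  obtain ⟨x₀, hx₀⟩ : ∃ x₀ : Q, orderOf x₀ = q := by
    apply exists_prime_orderOf_dvd_card' q
    obtain ⟨n, hn⟩ := IsPGroup.iff_card.mp hQp
    rcases Nat.eq_zero_or_pos n with h0 | h0
    · exfalso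
      apply hQ1
      rw [h0, pow_zero] at hn
      exact Subgroup.card_eq_one.mp hn
    · rw [hn]
      exact dvd_pow_self q h0.ne'
  have hX₀card : Nat.card (Subgroup.zpowers (x₀ : G)) = q := by
    rw [Nat.card_zpowers, Subgroup.orderOf_coe, hx₀]
  have hX₀M : Subgroup.zpowers (x₀ : G) ≤ M := Subgroup.zpowers_le.mpr (hQM x₀.2)
  have h23 := (Cfsg.Agent.S1423.result hG M hM q hqσ (Subgroup.zpowers (x₀ : G)) hX₀M hX₀card
    hSyl.toSylow (Or.inl hqβ)).2.1
  rw [hSyl.coe_toSylow, Subgroup.map_subgroupOf_eq_of_le hQS] at h23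
  have hQuniq : ∀ L : Subgroup G, IsCoatom L → Q ≤ L → L = M := by
    intro L hL hQL
    exact h23.unique ⟨hL, hQL⟩ ⟨hM, hQM⟩
  have hNQ : Subgroup.normalizer (Q : Set G) = M := normalizer_eq_of_isCoatom' hG hM hQ1 hQM hMQ
  have hFM : fittingOf M ≤ M := fittingOf_le M
  have hFnil : Group.IsNilpotent (fittingOf M) := isNilpotent_fittingOf M
  have hQF : Q ≤ fittingOf M := le_fittingOf hQM hMQ hQp.isNilpotent
  obtain ⟨E, hE, -⟩ := exists_isComplIn_sigmaCore_ge hG hM (X := ⊥) bot_le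
    (by rw [Subgroup.card_bot]; exact Nat.coprime_one_left _)
  intro g hg x hx hy
  by_contra hx1
  have hgM : g ∉ M := fun h => hg (le_normalizer_fittingOf M h)
  -- reduce to prime order
  have hox : orderOf x ≠ 1 := fun h => hx1 (orderOf_eq_one_iff.mp h)
  obtain ⟨r, hr, hrx⟩ := Nat.exists_prime_and_dvd hox
  have hox0 : orderOf x ≠ 0 := (orderOf_pos x).ne'
  set x' := x ^ (orderOf x / r) with hx'
  have hx'o : orderOf x' = r := orderOf_pow_orderOf_div hox0 hrx
  have hx'F : x' ∈ fittingOf M := (fittingOf M).pow_mem hx _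
  have hy'F : g * x' * g⁻¹ ∈ fittingOf M := by
    have : g * x' * g⁻¹ = (g * x * g⁻¹) ^ (orderOf x / r) := by rw [hx', conj_pow]
    rw [this]
    exact (fittingOf M).pow_mem hy _
  have hy'o : orderOf (g * x' * g⁻¹) = r := by
    have : g * x' * g⁻¹ = MulAut.conj g x' := by simp [MulAut.conj_apply]
    rw [this, MulEquiv.orderOf_eq, hx'o]
  have hx'1 : x' ≠ 1 := by
    intro h
    rw [h, orderOf_one] at hx'o
    exact hr.one_lt.ne hx'o
  have hy'1 : g * x' * g⁻¹ ≠ 1 := by
    intro h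
    rw [h, orderOf_one] at hy'o
    exact hr.one_lt.ne hy'o
  by_cases hrq : r = q
  · -- a `q`-element of `M_σ ∩ M^g`
    have hyp : IsPGroup q (Subgroup.zpowers (g * x' * g⁻¹)) := by
      apply Cfsg.Agent.Lib.Helper19.NilCover.isPGroup_zpowers_of_pow_eq_one _ 1
      rw [pow_one, ← hrq, ← hy'o]
      exact pow_orderOf_eq_one _
    have hyS : g * x' * g⁻¹ ∈ sigmaCore M :=
      pgroup_le_sigmaCore hG hM hqσ hyp (Subgroup.zpowers_le.mpr (hFM hy'F))
        (Subgroup.mem_zpowers _)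
    have hyI : g * x' * g⁻¹ ∈ sigmaCore M ⊓ M.map (MulAut.conj g).toMonoidHom :=
      Subgroup.mem_inf.mpr ⟨hyS, ⟨x', hFM hx'F, by simp [MulAut.conj_apply]⟩⟩
    have h26 := ((Cfsg.Agent.S1426.result hG M hM E hE).2.2 g hgM).2.1 q hq
    apply h26 _ hqβ
    have h1 := orderOf_dvd_natCard (⟨g * x' * g⁻¹, hyI⟩ :
      ↥(sigmaCore M ⊓ M.map (MulAut.conj g).toMonoidHom))
    rwa [Subgroup.orderOf_mk, hy'o, hrq] at h1
  · -- `Q` and `Q^g` centralize `y'`
    have hcop : ∀ u ∈ Q, ∀ z : G, orderOf z = r → (orderOf u).Coprime (orderOf z) := by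
      intro u hu z hz
      obtain ⟨k, hk⟩ := (IsPGroup.iff_orderOf.mp hQp) ⟨u, hu⟩
      rw [Subgroup.orderOf_mk] at hk
      rw [hk, hz]
      exact Nat.Coprime.pow_left _ ((Nat.coprime_primes hq hr).mpr (Ne.symm hrq))
    have hQx : ∀ u ∈ Q, u * x' = x' * u := fun u hu =>
      commute_of_coprime_of_nilpotent hFnil (hQF hu) hx'F (hcop u hu x' hx'o)
    have hQy : ∀ u ∈ Q, u * (g * x' * g⁻¹) = (g * x' * g⁻¹) * u := fun u hu =>
      commute_of_coprime_of_nilpotent hFnil (hQF hu) hy'F (hcop u hu _ hy'o)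
    have hne := Cfsg.Agent.Lib.Lead.BGTrans.centralizer_singleton_ne_top hG.2 hy'1
    obtain ⟨L, hL, hCL⟩ := exists_isCoatom_ge hne
    have hQC : Q ≤ Subgroup.centralizer ({g * x' * g⁻¹} : Set G) := by
      intro u hu
      rw [Subgroup.mem_centralizer_iff]
      intro z hz
      rw [Set.mem_singleton_iff] at hz
      rw [hz]
      exact (hQy u hu).symm
    have hLM : L = M := hQuniq L hL (hQC.trans hCL)
    have hQgC : Q.map (MulAut.conj g).toMonoidHom
        ≤ Subgroup.centralizer ({g * x' * g⁻¹} : Set G) := by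
      rintro _ ⟨u, hu, rfl⟩
      rw [Subgroup.mem_centralizer_iff]
      intro z hz
      rw [Set.mem_singleton_iff] at hz
      rw [hz]
      have h1 := hQx u hu
      simp only [MulEquiv.coe_toMonoidHom, MulAut.conj_apply]
      calc g * x' * g⁻¹ * (g * u * g⁻¹) = g * (x' * u) * g⁻¹ := by group
        _ = g * (u * x') * g⁻¹ := by rw [h1]
        _ = g * u * g⁻¹ * (g * x' * g⁻¹) := by group
    have hQgM : Q.map (MulAut.conj g).toMonoidHom ≤ M := by
      rw [← hLM]
      exact hQgC.trans hCL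
    have hQgp : IsPGroup q (Q.map (MulAut.conj g).toMonoidHom) := hQp.map _
    have hQgS : Q.map (MulAut.conj g).toMonoidHom ≤ sigmaCore M :=
      pgroup_le_sigmaCore hG hM hqσ hQgp hQgM
    have hQgQ : Q.map (MulAut.conj g).toMonoidHom ≤ Q :=
      pgroup_le_of_not_dvd_relIndex ((sigmaCore_le M).trans hMQ) hidx hQgp hQgS
    have heq : Q.map (MulAut.conj g).toMonoidHom = Q := by
      apply Subgroup.eq_of_le_of_card_ge hQgQ
      rw [Subgroup.card_map_of_injective (MulAut.conj g).injective]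
    have := mem_normalizer_of_map_conj_eq heq
    rw [hNQ] at this
    exact hgM this

end Part1

section Part2

variable {G : Type*} [Group G] [Finite G]

/-- the frozen statement `S1357`, from the first conclusion of `S1430` and `S1373`. -/
theorem s1357_of (hG : IsMinSimpleOddOrder G) (M : Subgroup G) (hM : IsCoatom M)
    (K U : Subgroup G) (hKU : IsSigmaDecomposition M K U)
    (hne : fittingHallOf M ≠ sigmaCore M) (h1430 : H1430 G) (h1373 : H1373 G) :
    U = ⊥ ∧ IsTISubset (fittingOf M : Set G) ∧ (Nat.card K).Prime := by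
  obtain ⟨hU, -, -, -, hKp, hqp, -, hqβ, Q, hQF, hMQ, hQp, hidx, hfixQ, -⟩ :=
    s1437_ext_of hG M hM K U hKU hne h1430 h1373
  refine ⟨hU, ?_, hKp⟩
  have hQS : Q ≤ sigmaCore M := hQF.trans (fittingHallOf_le_sigmaCore hG hM)
  have hQ1 : Q ≠ ⊥ := by
    intro hbot
    rw [hbot, le_bot_iff] at hfixQ
    rw [hfixQ, Subgroup.card_bot] at hqp
    exact Nat.not_prime_one hqp
  exact isTISubset_fittingOf hG hM hqp hqβ hQ1 hQS hMQ hQp hidx

end Part2

section Part3

variable {G : Type*} [Group G] [Finite G]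

/-- a subgroup all of whose elements commute is nilpotent. -/
theorem isNilpotent_of_forall_comm {X : Type*} [Group X] (H : Subgroup X)
    (h : ∀ a ∈ H, ∀ b ∈ H, a * b = b * a) : Group.IsNilpotent ↥H := by
  letI : CommGroup ↥H :=
    { (inferInstance : Group ↥H) with
      mul_comm := fun a b => Subtype.ext (h a a.2 b b.2) }
  exact CommGroup.isNilpotent

/-- `M'/M_σ` is abelian: the image of `M'` modulo a normal subgroup `F` of `↥M` with
`F.map = M_σ`. -/
theorem isNilpotent_commutator_map_of_eq (hG : IsMinSimpleOddOrder G) {M : Subgroup G}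
    (hM : IsCoatom M) (F : Subgroup ↥M) [F.Normal] (hF : F.map M.subtype = sigmaCore M) :
    Group.IsNilpotent ↥((commutator ↥M).map (QuotientGroup.mk' F)) := by
  obtain ⟨E, hE, -⟩ := exists_isComplIn_sigmaCore_ge hG hM (X := ⊥) bot_le
    (by rw [Subgroup.card_bot]; exact Nat.coprime_one_left _)
  have hEM : E ≤ M := hE.1
  have hEab := (Cfsg.Agent.S1420.result hG M hM E hE).2.1
  have hinj := Subgroup.subtype_injective M
  have hmapE : (E.subgroupOf M).map M.subtype = E := Subgroup.map_subgroupOf_eq_of_le hEM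
  have hsup : E.subgroupOf M ⊔ F = ⊤ := by
    have h1 : (E ⊔ sigmaCore M).subgroupOf M = ⊤ :=
      Subgroup.subgroupOf_eq_top.mpr (IsComplIn.sup_eq hE).ge
    rw [Subgroup.subgroupOf_sup hEM (sigmaCore_le M), ← hF, subgroupOf_map_subtype'] at h1
    exact h1
  set π := QuotientGroup.mk' F with hπ
  have h1 : (commutator ↥M).map π = (⁅E.subgroupOf M, E.subgroupOf M⁆).map π := by
    rw [commutator_def, Subgroup.map_commutator, Subgroup.map_commutator]
    have h2 : (⊤ : Subgroup ↥M).map π = (E.subgroupOf M).map π := by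
      rw [← hsup, Subgroup.map_sup, QuotientGroup.map_mk'_self, sup_bot_eq]
    rw [h2]
  rw [h1]
  have hcomm : ∀ a ∈ ⁅E.subgroupOf M, E.subgroupOf M⁆, ∀ b ∈ ⁅E.subgroupOf M, E.subgroupOf M⁆,
      a * b = b * a := by
    intro a ha b hb
    have hmapc : (⁅E.subgroupOf M, E.subgroupOf M⁆).map M.subtype = ⁅E, E⁆ := by
      rw [Subgroup.map_commutator, hmapE]
    have ha' : (a : G) ∈ ⁅E, E⁆ := hmapc ▸ ⟨a, ha, rfl⟩
    have hb' : (b : G) ∈ ⁅E, E⁆ := hmapc ▸ ⟨b, hb, rfl⟩
    have h2 := hEab.is_comm.comm (⟨(a : G), ha'⟩ : ↥⁅E, E⁆) ⟨(b : G), hb'⟩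
    apply Subtype.ext
    have h3 : (a : G) * (b : G) = (b : G) * (a : G) := congrArg Subtype.val h2
    exact h3
  apply isNilpotent_of_forall_comm
  rintro _ ⟨a, ha, rfl⟩ _ ⟨b, hb, rfl⟩
  rw [← map_mul, ← map_mul, hcomm a ha b hb]

end Part3

section Part4

variable {G : Type*} [Group G] [Finite G]

/-- `O_q(M_σ) ≤ M_F` in the situation of Theorem 15.2. -/
theorem coreQ_le_fittingHall (hG : IsMinSimpleOddOrder G) {M : Subgroup G} (hM : IsCoatom M)
    {K U : Subgroup G} (hKU : IsSigmaDecomposition M K U)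
    (hne : fittingHallOf M ≠ sigmaCore M) (h1430 : H1430 G) (h1373 : H1373 G) :
    Cfsg.Agent.Lib.Helper1.BGFcore.coreQ (piCore (sigma M) ↥M)
      (Nat.card ↥(sigmaCore M ⊓ Subgroup.centralizer (K : Set G))) ≤ fittingHall ↥M := by
  classical
  have hcfg := cfg hG hM hKU hne h1430 h1373
  set q := Nat.card ↥(sigmaCore M ⊓ Subgroup.centralizer (K : Set G)) with hq
  set S := piCore (sigma M) ↥M with hS
  have hmapS : S.map M.subtype = sigmaCore M := rfl
  haveI : Fact q.Prime := ⟨hcfg.q_prime⟩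
  set Q' := Cfsg.Agent.Lib.Helper1.BGFcore.coreQ S q with hQ'
  haveI hQ'n : Q'.Normal := Cfsg.Agent.Lib.Helper1.BGFcore.coreQ_normal hcfg.normal
  have hQ'S : Q' ≤ S := Cfsg.Agent.Lib.Helper1.BGFcore.coreQ_le
  have hQ'p : IsPGroup q Q' := Cfsg.Agent.Lib.Helper1.BGFcore.coreQ_isPGroup
  have hqS : q ∣ Nat.card (sigmaCore M) := Subgroup.card_dvd_of_le inf_le_left
  have hqσ : q ∈ sigma M := mem_sigma_of_dvd_card_sigmaCore hG hM hcfg.q_prime hqS
  apply le_fittingHall hQ'n hQ'p.isNilpotent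
  obtain ⟨a, ha⟩ := IsPGroup.iff_card.mp hQ'p
  rw [ha]
  apply Nat.Coprime.pow_left
  rw [Nat.Prime.coprime_iff_not_dvd hcfg.q_prime, ← Subgroup.relIndex_mul_index hQ'S]
  intro hd
  rcases (Nat.Prime.dvd_mul hcfg.q_prime).mp hd with h1 | h1
  · exact hcfg.not_dvd_relIndex h1
  · apply not_dvd_relIndex_sigmaCore hG hM hcfg.q_prime hqσ
    rw [← hmapS, relIndex_map_subtype]
    exact h1

/-- `M'/M_F` is nilpotent when `M_F ≠ M_σ`. -/
theorem isNilpotent_commutator_map_of_ne (hG : IsMinSimpleOddOrder G) {M : Subgroup G}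
    (hM : IsCoatom M) {K U : Subgroup G} (hKU : IsSigmaDecomposition M K U)
    (hne : fittingHallOf M ≠ sigmaCore M) (h1430 : H1430 G) (h1373 : H1373 G) :
    Group.IsNilpotent ↥((commutator ↥M).map (QuotientGroup.mk' (fittingHall ↥M))) := by
  classical
  have hcfg := cfg hG hM hKU hne h1430 h1373
  have hle := coreQ_le_fittingHall hG hM hKU hne h1430 h1373
  set q := Nat.card ↥(sigmaCore M ⊓ Subgroup.centralizer (K : Set G)) with hq
  set S := piCore (sigma M) ↥M with hS
  set Q' := Cfsg.Agent.Lib.Helper1.BGFcore.coreQ S q with hQ'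
  haveI hQ'n : Q'.Normal := Cfsg.Agent.Lib.Helper1.BGFcore.coreQ_normal hcfg.normal
  have hnn := not_isNilpotent_sigmaCore hG hM hne
  have hU := U_eq_bot hG hM hKU hnn
  have hSc : commutator ↥M = S := by
    apply Subgroup.map_injective (Subgroup.subtype_injective M)
    rw [Subgroup.map_subtype_commutator]
    exact (sigmaCore_eq_commutator hG hM hKU hU).symm
  rw [hSc]
  have hnil := hcfg.isNilpotent_map_mk hQ'n
  let φ : (↥M ⧸ Q') →* (↥M ⧸ fittingHall ↥M) :=
    QuotientGroup.map Q' (fittingHall ↥M) (MonoidHom.id ↥M) (by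
      intro x hx
      exact hle hx)
  have hφ : φ.comp (QuotientGroup.mk' Q') = QuotientGroup.mk' (fittingHall ↥M) := by
    ext x
    rfl
  have h1 : S.map (QuotientGroup.mk' (fittingHall ↥M))
      = (S.map (QuotientGroup.mk' Q')).map φ := by
    rw [Subgroup.map_map, hφ]
  rw [h1]
  exact isNilpotent_map φ _ hnil

end Part4

section Part5

variable {G : Type*} [Group G] [Finite G]

/-- the frozen statement `S1355`, from the first conclusion of `S1430`, from `S1373` and the
existence of a standard factorisation (`S1351` + `S1352`). -/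
theorem s1355_of (hG : IsMinSimpleOddOrder G) (M : Subgroup G) (hM : IsCoatom M)
    (h1430 : H1430 G) (h1373 : H1373 G)
    (hdec : ∃ K U : Subgroup G, IsSigmaDecomposition M K U) :
    fittingHallOf M ≠ ⊥ ∧ fittingHallOf M ≤ sigmaCore M ∧ sigmaCore M ≤ ⁅M, M⁆ ∧ ⁅M, M⁆ < M ∧
      Group.IsNilpotent ↥((commutator ↥M).map (QuotientGroup.mk' (fittingHall ↥M))) := by
  classical
  obtain ⟨K, U, hKU⟩ := hdec
  have hlt : ⁅M, M⁆ < M := by
    haveI : Group.IsSolvable ↥M := isSolvable_of_ne_top hG hM.1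
    haveI : Nontrivial ↥M := (Subgroup.nontrivial_iff_ne_bot M).mpr (ne_bot_of_isCoatom hG hM)
    have h1 : commutator ↥M < ⊤ := Group.IsSolvable.commutator_lt_top_of_nontrivial ↥M
    have h2 := (Subgroup.map_lt_map_iff_of_injective (Subgroup.subtype_injective M)).mpr h1
    rw [Subgroup.map_subtype_commutator, ← MonoidHom.range_eq_map, Subgroup.range_subtype] at h2
    exact h2
  refine ⟨?_, fittingHallOf_le_sigmaCore hG hM, sigmaCore_le_commutator hG hM, hlt, ?_⟩
  · by_cases hne : fittingHallOf M = sigmaCore M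
    · rw [hne]
      exact sigmaCore_ne_bot hG hM
    · obtain ⟨-, -, -, -, -, hqp, -, -, Q, hQF, -, -, -, hfixQ, -⟩ :=
        s1437_ext_of hG M hM K U hKU hne h1430 h1373
      intro hbot
      rw [hbot, le_bot_iff] at hQF
      rw [hQF, le_bot_iff] at hfixQ
      rw [hfixQ, Subgroup.card_bot] at hqp
      exact Nat.not_prime_one hqp
  · by_cases hne : fittingHallOf M = sigmaCore M
    · exact isNilpotent_commutator_map_of_eq hG hM (fittingHall ↥M) hne
    · exact isNilpotent_commutator_map_of_ne hG hM hKU hne h1430 h1373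

end Part5

end Cfsg.Agent.Lib.Helper1.BGFcons
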