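import Mathlib
import Cfsg.Prelude
import Cfsg.Agent.Lib.Helper12.PiCore
import Cfsg.Agent.Lib.Helper10.BGTwelveB
import Cfsg.Agent.Lib.Helper9.BGExc0
import Cfsg.Agent.Lib.Helper1.BGStubs2
import Cfsg.Agent.Lib.Helper9.BGExc15
import Cfsg.Agent.S1378

/-!
# Conjugation equivariance of the B&G invariants: sigma_cj, sigmaCore_cj, fittingHallOf_cj, supportR_cj, tildeOf_cj; tilde_disjoint (first part of the frozen row S1379 from S1433 and S1378)
-/

set_option autoImplicit false
set_option linter.unusedSectionVars false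
set_option linter.unusedVariables false

namespace Cfsg.Agent.Lib.Helper1.BGConjEq

open Cfsg
open Cfsg.Agent.Lib.Helper10.BG Cfsg.Agent.Lib.Helper10 Cfsg.Agent.Lib.Helper9.BGExc
open Cfsg.Agent.Lib.Helper1.BGStubs2

section Part1

variable {G : Type*} [Group G]

/-- the fitting-Hall subgroup is mapped onto the fitting-Hall subgroup by an isomorphism (one
inclusion). -/
theorem fittingHall_map_equiv_le {A B : Type*} [Group A] [Group B] (f : A ≃* B) :
    (fittingHall A).map f.toMonoidHom ≤ fittingHall B := by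
  unfold fittingHall
  rw [sSup_eq_iSup', Subgroup.map_iSup, iSup_le_iff]
  rintro ⟨N, hN1, hN2, hN3⟩
  refine le_sSup ⟨Subgroup.Normal.map hN1 _ f.surjective, ?_, ?_⟩
  · have e : ↥N ≃* ↥(N.map f.toMonoidHom) :=
      N.equivMapOfInjective f.toMonoidHom f.injective
    exact (Group.isNilpotent_congr e).mp hN2
  · have h1 : Nat.card ↥(N.map f.toMonoidHom) = Nat.card N :=
      Subgroup.card_map_of_injective f.injective
    have h2 : (N.map f.toMonoidHom).index = N.index := Subgroup.index_map_equiv N f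
    show (Nat.card ↥(N.map f.toMonoidHom)).Coprime (N.map f.toMonoidHom).index
    rw [h1, h2]
    exact hN3

theorem fittingHall_map_equiv {A B : Type*} [Group A] [Group B] (e : A ≃* B) :
    (fittingHall A).map e.toMonoidHom = fittingHall B := by
  apply le_antisymm (fittingHall_map_equiv_le e)
  have h2 := fittingHall_map_equiv_le e.symm
  intro x hx
  have h3 := h2 (Subgroup.mem_map_of_mem e.symm.toMonoidHom hx)
  refine ⟨e.symm x, h3, ?_⟩
  simp

/-- the isomorphism `M ≃ cj g M`. -/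
noncomputable def cjEquiv (g : G) (M : Subgroup G) : ↥M ≃* ↥(cj g M) :=
  M.equivMapOfInjective (MulAut.conj g).toMonoidHom (MulAut.conj g).injective

theorem map_cjEquiv (g : G) (M : Subgroup G) (N : Subgroup ↥M) :
    (N.map (cjEquiv g M).toMonoidHom).map (cj g M).subtype = cj g (N.map M.subtype) := by
  unfold cj
  rw [Subgroup.map_map, Subgroup.map_map]
  congr 1

theorem sigma_cj [Finite G] {M : Subgroup G} (hM : IsCoatom M) (g : G) :
    sigma (cj g M) = sigma M := by
  ext p
  constructor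
  · intro hp
    haveI : Fact p.Prime := ⟨hp.1⟩
    have := mem_sigma_cj (isCoatom_map_conj g hM) hp g⁻¹
    rwa [cj_inv_cj] at this
  · intro hp
    haveI : Fact p.Prime := ⟨hp.1⟩
    exact mem_sigma_cj hM hp g

theorem sigmaCore_cj [Finite G] {M : Subgroup G} (hM : IsCoatom M) (g : G) :
    sigmaCore (cj g M) = cj g (sigmaCore M) := by
  unfold sigmaCore
  rw [sigma_cj hM g, ← map_cjEquiv, Cfsg.Agent.Lib.Helper12.piCore_map_equiv]

theorem fittingHallOf_cj (M : Subgroup G) (g : G) :
    fittingHallOf (cj g M) = cj g (fittingHallOf M) := by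
  unfold fittingHallOf
  rw [← map_cjEquiv, fittingHall_map_equiv]

end Part1

section Part2

variable {G : Type*} [Group G]

theorem centralizer_singleton_cj (c z : G) :
    Subgroup.centralizer ({c * z * c⁻¹} : Set G) = cj c (Subgroup.centralizer ({z} : Set G)) := by
  ext a
  rw [mem_cj, Subgroup.mem_centralizer_iff, Subgroup.mem_centralizer_iff]
  simp only [Set.mem_singleton_iff, forall_eq]
  constructor
  · intro h
    have : z * (c⁻¹ * a * c) = c⁻¹ * ((c * z * c⁻¹) * a) * c := by group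
    rw [this, h]
    group
  · intro h
    have : c * z * c⁻¹ * a = c * (z * (c⁻¹ * a * c)) * c⁻¹ := by group
    rw [this, h]
    group

/-- the condition in the definition of `supportR`. -/
abbrev SuppCond (M : Subgroup G) (x : G) : Prop :=
  ¬ Subgroup.centralizer ({x} : Set G) ≤ M ∧
    ∃! L : Subgroup G, IsCoatom L ∧ Subgroup.centralizer ({x} : Set G) ≤ L

theorem supportR_of_not {M : Subgroup G} {x : G} (h : ¬ SuppCond M x) : supportR M x = ⊥ := by
  unfold supportR
  rw [dif_neg h]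

theorem supportR_of_le {M : Subgroup G} {x : G}
    (h : Subgroup.centralizer ({x} : Set G) ≤ M) : supportR M x = ⊥ :=
  supportR_of_not (fun hc => hc.1 h)

theorem supportR_eq {M : Subgroup G} {x : G} (h1 : ¬ Subgroup.centralizer ({x} : Set G) ≤ M)
    {L : Subgroup G} (hL : IsCoatom L) (hxL : Subgroup.centralizer ({x} : Set G) ≤ L)
    (huniq : ∀ L' : Subgroup G, IsCoatom L' → Subgroup.centralizer ({x} : Set G) ≤ L' → L' = L) :
    supportR M x = fittingHallOf L ⊓ Subgroup.centralizer ({x} : Set G) := by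
  have h : SuppCond M x := ⟨h1, L, ⟨hL, hxL⟩, fun L' hL' => huniq L' hL'.1 hL'.2⟩
  unfold supportR
  rw [dif_pos h]
  have hc := Classical.choose_spec h.2.exists
  rw [huniq _ hc.1 hc.2]

theorem supportR_le_centralizer (M : Subgroup G) (x : G) :
    supportR M x ≤ Subgroup.centralizer ({x} : Set G) := by
  by_cases h : SuppCond M x
  · unfold supportR
    rw [dif_pos h]
    exact inf_le_right
  · rw [supportR_of_not h]
    exact bot_le

theorem suppCond_cj {M : Subgroup G} {x : G} (c : G) (h : SuppCond M x) :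
    SuppCond (cj c M) (c * x * c⁻¹) := by
  obtain ⟨h1, L, ⟨hL, hxL⟩, huniq⟩ := h
  refine ⟨?_, cj c L, ⟨isCoatom_map_conj c hL, ?_⟩, ?_⟩
  · intro hle
    apply h1
    rw [centralizer_singleton_cj] at hle
    have := cj_mono c⁻¹ hle
    rwa [cj_inv_cj, cj_inv_cj] at this
  · rw [centralizer_singleton_cj]
    exact cj_mono c hxL
  · rintro L' ⟨hL', hxL'⟩
    have h2 : cj c⁻¹ L' = L := by
      apply huniq
      refine ⟨isCoatom_map_conj c⁻¹ hL', ?_⟩
      rw [centralizer_singleton_cj] at hxL'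
      have := cj_mono c⁻¹ hxL'
      rwa [cj_inv_cj] at this
    rw [← h2, cj_cj_inv]

theorem supportR_cj (M : Subgroup G) (c x : G) :
    supportR (cj c M) (c * x * c⁻¹) = cj c (supportR M x) := by
  by_cases h : SuppCond M x
  · obtain ⟨h1, L, ⟨hL, hxL⟩, huniq⟩ := h
    have huniq' : ∀ L' : Subgroup G, IsCoatom L' →
        Subgroup.centralizer ({x} : Set G) ≤ L' → L' = L := fun L' hL' hxL' => huniq L' ⟨hL', hxL'⟩
    rw [supportR_eq h1 hL hxL huniq']
    obtain ⟨h1', -, -, -⟩ := suppCond_cj c ⟨h1, L, ⟨hL, hxL⟩, huniq⟩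
    have hxL' : Subgroup.centralizer ({c * x * c⁻¹} : Set G) ≤ cj c L := by
      rw [centralizer_singleton_cj]
      exact cj_mono c hxL
    have huniq'' : ∀ L' : Subgroup G, IsCoatom L' →
        Subgroup.centralizer ({c * x * c⁻¹} : Set G) ≤ L' → L' = cj c L := by
      intro L' hL' hxL''
      have h2 : cj c⁻¹ L' = L := by
        apply huniq'
        · exact isCoatom_map_conj c⁻¹ hL'
        · rw [centralizer_singleton_cj] at hxL''
          have := cj_mono c⁻¹ hxL''
          rwa [cj_inv_cj] at this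
      rw [← h2, cj_cj_inv]
    rw [supportR_eq h1' (isCoatom_map_conj c hL) hxL' huniq'', fittingHallOf_cj,
      centralizer_singleton_cj, cj_inf]
  · have h' : ¬ SuppCond (cj c M) (c * x * c⁻¹) := by
      intro hc
      apply h
      have := suppCond_cj c⁻¹ hc
      rw [cj_inv_cj] at this
      have e : c⁻¹ * (c * x * c⁻¹) * c⁻¹⁻¹ = x := by group
      rwa [e] at this
    rw [supportR_of_not h, supportR_of_not h', cj_bot]

/-- `M̃` is invariant under conjugation of `M`. -/
theorem tildeOf_cj [Finite G] {M : Subgroup G} (hM : IsCoatom M) (c : G) :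
    tildeOf (cj c M) ((sigmaCore (cj c M) : Set G) \ {1}) =
      tildeOf M ((sigmaCore M : Set G) \ {1}) := by
  have key : ∀ (M : Subgroup G), IsCoatom M → ∀ c : G,
      tildeOf M ((sigmaCore M : Set G) \ {1}) ⊆
        tildeOf (cj c M) ((sigmaCore (cj c M) : Set G) \ {1}) := by
    intro M hM c g hg
    obtain ⟨a, ⟨haσ, ha1⟩, r, hr, y, rfl⟩ := hg
    refine ⟨c * a * c⁻¹, ⟨?_, ?_⟩, c * r * c⁻¹, ?_, y * c⁻¹, ?_⟩
    · rw [sigmaCore_cj hM c]
      exact conj_mem_cj haσ
    · intro h
      apply ha1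
      have h' : c * a * c⁻¹ = 1 := h
      have : a = c⁻¹ * (c * a * c⁻¹) * c := by group
      rw [Set.mem_singleton_iff, this, h']
      group
    · rw [supportR_cj]
      exact conj_mem_cj hr
    · group
  apply Set.Subset.antisymm
  · have := key (cj c M) (isCoatom_map_conj c hM) c⁻¹
    rwa [cj_inv_cj] at this
  · exact key M hM c

end Part2

section Part3

variable {G : Type*} [Group G] [Finite G]

/-- nonconjugate maximal subgroups have disjoint `σ`. -/
theorem sigma_disjoint (hG : IsMinSimpleOddOrder G) {M N : Subgroup G} (hM : IsCoatom M)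
    (hN : IsCoatom N) (hconj : ∀ g : G, N ≠ cj g M) {p : ℕ} (hpM : p ∈ sigma M)
    (hpN : p ∈ sigma N) : False := by
  obtain ⟨g, hg⟩ := (Cfsg.Agent.S1378.result hG).2 M N hM hN ⟨p, hpM, hpN⟩
  exact hconj g hg

/-- a nonidentity element common to `M_σ` and `N_σ` forces `N` conjugate to `M`. -/
theorem conj_of_mem_sigmaCore_inf (hG : IsMinSimpleOddOrder G) {M N : Subgroup G}
    (hM : IsCoatom M) (hN : IsCoatom N) {x : G} (hxM : x ∈ sigmaCore M) (hxN : x ∈ sigmaCore N)
    (hx1 : x ≠ 1) : ∃ g : G, N = cj g M := by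
  have ho : orderOf x ≠ 1 := fun h => hx1 (orderOf_eq_one_iff.mp h)
  obtain ⟨p, hp, hpx⟩ := Nat.exists_prime_and_dvd ho
  have h1 : p ∣ Nat.card (sigmaCore M) := by
    have := orderOf_dvd_natCard (⟨x, hxM⟩ : ↥(sigmaCore M))
    rw [Subgroup.orderOf_mk] at this
    exact hpx.trans this
  have h2 : p ∣ Nat.card (sigmaCore N) := by
    have := orderOf_dvd_natCard (⟨x, hxN⟩ : ↥(sigmaCore N))
    rw [Subgroup.orderOf_mk] at this
    exact hpx.trans this
  exact (Cfsg.Agent.S1378.result hG).2 M N hM hN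
    ⟨p, mem_sigma_of_dvd_card_sigmaCore hG hM hp h1, mem_sigma_of_dvd_card_sigmaCore hG hN hp h2⟩

/-- `S1379`, first part, from `S1433` and `S1378`. -/
theorem tilde_disjoint (hG : IsMinSimpleOddOrder G) (h33 : P1433 G) {M N : Subgroup G}
    (hM : IsCoatom M) (hN : IsCoatom N) (hconj : ∀ g : G, N ≠ cj g M) :
    tildeOf M ((sigmaCore M : Set G) \ {1}) ∩ tildeOf N ((sigmaCore N : Set G) \ {1}) = ∅ := by
  rw [Set.eq_empty_iff_forall_notMem]
  rintro g ⟨⟨a, ⟨haσ, ha1⟩, r, hr, y, hg⟩, ⟨a', ⟨haσ', ha1'⟩, r', hr', y', hg'⟩⟩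
  have hM' := isCoatom_map_conj y hM
  have hN' := isCoatom_map_conj y' hN
  have hx : y * a * y⁻¹ ∈ sigmaCore (cj y M) := by
    rw [sigmaCore_cj hM y]; exact conj_mem_cj haσ
  have hx' : y' * a' * y'⁻¹ ∈ sigmaCore (cj y' N) := by
    rw [sigmaCore_cj hN y']; exact conj_mem_cj haσ'
  have hx1 : y * a * y⁻¹ ≠ 1 := by
    intro h
    apply ha1
    have : a = y⁻¹ * (y * a * y⁻¹) * y := by group
    rw [Set.mem_singleton_iff, this, h]; group
  have hx1' : y' * a' * y'⁻¹ ≠ 1 := by
    intro h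
    apply ha1'
    have : a' = y'⁻¹ * (y' * a' * y'⁻¹) * y' := by group
    rw [Set.mem_singleton_iff, this, h]; group
  have hrr : y * r * y⁻¹ ∈ supportR (cj y M) (y * a * y⁻¹) := by
    rw [supportR_cj]; exact conj_mem_cj hr
  have hrr' : y' * r' * y'⁻¹ ∈ supportR (cj y' N) (y' * a' * y'⁻¹) := by
    rw [supportR_cj]; exact conj_mem_cj hr'
  have e1 : g = (y * a * y⁻¹) * (y * r * y⁻¹) := by rw [hg]; group
  have e2 : g = (y' * a' * y'⁻¹) * (y' * r' * y'⁻¹) := by rw [hg']; group
  by_cases hne : y * a * y⁻¹ = y' * a' * y'⁻¹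
  · rw [← hne] at hx'
    obtain ⟨c, hc⟩ := conj_of_mem_sigmaCore_inf hG hM' hN' hx hx' hx1
    apply hconj (y'⁻¹ * c * y)
    have h1 : N = cj y'⁻¹ (cj y' N) := (cj_inv_cj y' N).symm
    have hc' : cj y' N = cj c (cj y M) := hc
    rw [h1, hc', cj_cj, cj_cj, mul_assoc]
  · exact h33 (cj y M) (cj y' N) hM' hN' _ _ hx hx' hx1 hx1' hne _ hrr _ hrr' (e1.symm.trans e2)

end Part3

end Cfsg.Agent.Lib.Helper1.BGConjEq
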