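import Mathlib
import Cfsg.Agent.Lib.Helper1.BGStubs2
import Cfsg.Agent.Lib.Helper1.BGSigmaDecomp
import Cfsg.Agent.Lib.Helper1.BGFthm
import Cfsg.Agent.Lib.Helper10.BGEleven
import Cfsg.Agent.Lib.Helper10.BGTwelve
import Cfsg.Agent.Lib.Helper10.BGTwelveB
import Cfsg.Agent.Lib.Helper10.BGNine2
import Cfsg.Agent.Lib.Helper9.BGExc15
import Cfsg.Agent.S1446
import Cfsg.Agent.S1429

/-!
# B&G Theorem 14.7(e),(f): the counting argument (frozen rows S1369, S1373) modulo unlanded rows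

`s1369_part1`, `s1369_part2`, `s1369_of`, `card_K_prime_of_U_ne_bot`, `s1373_of`.
-/

set_option autoImplicit false
set_option linter.unusedSectionVars false
set_option linter.unusedVariables false

namespace Cfsg.Agent.Lib.Helper1.BGCount

open Cfsg
open scoped commutatorElement
open Cfsg.Agent.Lib.Helper10.BG Cfsg.Agent.Lib.Helper10 Cfsg.Agent.Lib.Helper9.BGExc
open Cfsg.Agent.Lib.Helper1.BGStubs2 Cfsg.Agent.Lib.Helper1.BGFthm

section Part1

variable {G : Type*} [Group G] [Finite G]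

/-- `K* = C_{M_σ}(K)`. -/
abbrev Ks (M K : Subgroup G) : Subgroup G := sigmaCore M ⊓ Subgroup.centralizer (K : Set G)

/-- `Ẑ = K K* - (K ∪ K*)`. -/
abbrev Zhat (M K : Subgroup G) : Set G :=
  (↑(K ⊔ Ks M K) : Set G) \ ((K : Set G) ∪ ↑(Ks M K))

/-- the union of the conjugates of `Ẑ`. -/
abbrev TT (M K : Subgroup G) : Set G := {a : G | ∃ g : G, ∃ z ∈ Zhat M K, a = g * z * g⁻¹}

theorem K_inf_Ks (hG : IsMinSimpleOddOrder G) {M : Subgroup G} (hM : IsCoatom M)
    {K U : Subgroup G} (hKU : IsSigmaDecomposition M K U) : K ⊓ Ks M K = ⊥ := by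
  rw [eq_bot_iff, ← Cfsg.Agent.Lib.Helper1.BGSigmaDecomp.K_inf_sigmaCore hG hM hKU]
  exact inf_le_inf_left K inf_le_left

theorem card_Z (hG : IsMinSimpleOddOrder G) {M : Subgroup G} (hM : IsCoatom M)
    {K U : Subgroup G} (hKU : IsSigmaDecomposition M K U) :
    Nat.card ↥(K ⊔ Ks M K) = Nat.card K * Nat.card (Ks M K) := by
  have hn : Ks M K ≤ Subgroup.normalizer (K : Set G) :=
    inf_le_right.trans (Subgroup.centralizer_le_normalizer _)
  have h1 := Cfsg.H5.card_sup_mul_card_inf hn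
  rw [inf_comm, K_inf_Ks hG hM hKU, Subgroup.card_bot, mul_one, sup_comm, mul_comm] at h1
  exact h1

/-- a coatom is not commutative. -/
theorem not_comm_of_isCoatom (hG : IsMinSimpleOddOrder G) {M : Subgroup G} (hM : IsCoatom M) :
    ¬ (∀ a ∈ M, ∀ b ∈ M, a * b = b * a) := by
  intro h
  have h1 : ⁅M, M⁆ = ⊥ := by
    rw [eq_bot_iff, Subgroup.commutator_le]
    intro a ha b hb
    rw [Subgroup.mem_bot, commutatorElement_eq_one_iff_mul_comm]
    exact h a ha b hb
  have h2 := sigmaCore_le_commutator hG hM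
  rw [h1, le_bot_iff] at h2
  exact sigmaCore_ne_bot hG hM h2

/-- a cyclic subgroup `Z ≤ M` has `3 |Z| ≤ |M|`. -/
theorem three_mul_card_le (hG : IsMinSimpleOddOrder G) {M : Subgroup G} (hM : IsCoatom M)
    {Z : Subgroup G} (hZM : Z ≤ M) (hZc : IsCyclic Z) : 3 * Nat.card Z ≤ Nat.card M := by
  obtain ⟨a, ha⟩ := Subgroup.card_dvd_of_le hZM
  have hodd : Odd (Nat.card M) := odd_card_subgroup hG M
  have hMpos : 0 < Nat.card M := Nat.card_pos
  have ha1 : a ≠ 1 := by
    intro h1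
    rw [h1, mul_one] at ha
    have hZeq : Z = M := Subgroup.eq_of_le_of_card_ge hZM ha.le
    apply not_comm_of_isCoatom hG hM
    intro x hx y hy
    haveI := hZc
    have hc := (IsCyclic.commGroup (α := ↥Z)).mul_comm ⟨x, hZeq ▸ hx⟩ ⟨y, hZeq ▸ hy⟩
    exact congrArg Subtype.val hc
  have ha0 : a ≠ 0 := by
    intro h0
    rw [h0, mul_zero] at ha
    omega
  have ha2 : a ≠ 2 := by
    intro h2
    rw [h2] at ha
    rw [ha] at hodd
    exact (Nat.not_odd_iff_even.mpr (even_two.mul_left _)) hodd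
  have ha3 : 3 ≤ a := by omega
  rw [ha]
  calc 3 * Nat.card Z = Nat.card Z * 3 := by ring
    _ ≤ Nat.card Z * a := Nat.mul_le_mul_left _ ha3

end Part1

section Part2

theorem count_arith {g m ms k ks i is cA cB cT cM cMs : ℕ}
    (hg : 0 < g) (hm : 1 ≤ m) (hms : 1 ≤ ms) (hk : 2 ≤ k) (hks : 2 ≤ ks)
    (hA : cA = (m - 1) * i) (hB : cB = (ms - 1) * is)
    (hT : k * ks * cT = (k * ks - k - ks + 1) * g)
    (hM : cM = k * m) (hMi : cM * i = g) (hMs : cMs = ks * ms) (hMsi : cMs * is = g)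
    (hZ : 3 * (k * ks) ≤ cM) (hZs : 3 * (k * ks) ≤ cMs)
    (hsum : cA + cB + cT ≤ g) : False := by
  obtain ⟨m', rfl⟩ : ∃ m', m = m' + 1 := ⟨m - 1, by omega⟩
  obtain ⟨ms', rfl⟩ : ∃ ms', ms = ms' + 1 := ⟨ms - 1, by omega⟩
  obtain ⟨k', rfl⟩ : ∃ k', k = k' + 2 := ⟨k - 2, by omega⟩
  obtain ⟨ks', rfl⟩ : ∃ ks', ks = ks' + 2 := ⟨ks - 2, by omega⟩
  have e : (k' + 2) * (ks' + 2) - (k' + 2) - (ks' + 2) + 1 = (k' + 1) * (ks' + 1) := by
    have h1 : (k' + 2) * (ks' + 2) = k' * ks' + 2 * k' + 2 * ks' + 4 := by ring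
    have h2 : (k' + 1) * (ks' + 1) = k' * ks' + k' + ks' + 1 := by ring
    rw [h1, h2]
    omega
  rw [e] at hT
  simp only [Nat.add_sub_cancel] at hA hB
  subst hA hB hM hMs
  have F4 : 3 * ((k' + 2) * (ks' + 2)) * i ≤ g := by
    rw [← hMi]
    exact Nat.mul_le_mul_right _ hZ
  have F5 : 3 * ((k' + 2) * (ks' + 2)) * is ≤ g := by
    rw [← hMsi]
    exact Nat.mul_le_mul_right _ hZs
  have F6 : (k' + 2) * (ks' + 2) * (m' * i + ms' * is + cT) ≤ (k' + 2) * (ks' + 2) * g :=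
    Nat.mul_le_mul_left _ hsum
  nlinarith [F4, F5, F6, hT, hMi, hMsi, hg]

variable {G : Type*} [Group G] [Finite G]

theorem two_le_card_of_ne_bot {H : Subgroup G} (h : H ≠ ⊥) : 2 ≤ Nat.card H := by
  have h1 : Nat.card H ≠ 1 := fun h1 => h (Subgroup.card_eq_one.mp h1)
  have h0 : 0 < Nat.card H := Nat.card_pos
  omega

/-- the partner `M*` is not conjugate to `M`. -/
theorem not_conj_partner (hG : IsMinSimpleOddOrder G) {M : Subgroup G} (hM : IsCoatom M)
    {K U : Subgroup G} (hKU : IsSigmaDecomposition M K U) (hK1 : K ≠ ⊥)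
    {Mstar : Subgroup G} (hMstar : IsCoatom Mstar) (hKle : K ≤ sigmaCore Mstar) :
    ∀ g : G, Mstar ≠ M.map (MulAut.conj g).toMonoidHom := by
  intro g hg
  obtain ⟨p, hp, hpK⟩ := Nat.exists_prime_and_dvd
    (fun h1 : Nat.card K = 1 => hK1 (Subgroup.card_eq_one.mp h1))
  haveI : Fact p.Prime := ⟨hp⟩
  have hpσ : p ∉ sigma M :=
    Cfsg.Agent.Lib.Helper1.BGSigmaDecomp.not_mem_sigma_of_dvd_card_K hKU hp hpK
  have hpσs : p ∈ sigma Mstar :=
    mem_sigma_of_dvd_card_sigmaCore hG hMstar hp (hpK.trans (Subgroup.card_dvd_of_le hKle))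
  have h1 := mem_sigma_cj hMstar hpσs g⁻¹
  rw [hg] at h1
  have h2 : cj g⁻¹ (M.map (MulAut.conj g).toMonoidHom) = M := cj_inv_cj g M
  rw [h2] at h1
  exact hpσ h1

end Part2

section Part3

variable {G : Type*} [Group G] [Finite G]

/-- B&G 14.7(e), first half: `M` or its partner `M*` has `U ≠ 1`. -/
theorem s1369_part1 (hG : IsMinSimpleOddOrder G) (h34 : P1434 G) (h77 : P1377 G)
    (h79 : P1379 G) (h68 : P1368 G) (h54 : P1354 G)
    (M : Subgroup G) (hM : IsCoatom M) (K U : Subgroup G) (hKU : IsSigmaDecomposition M K U)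
    (hK1 : K ≠ ⊥) (Mstar : Subgroup G) (hMstar : IsCoatom Mstar)
    (hKst : K = sigmaCore Mstar ⊓ Subgroup.centralizer ((Ks M K : Subgroup G) : Set G))
    (hKstH : IsPiHallOf (kappa Mstar) (Ks M K) Mstar) :
    U ≠ ⊥ ∨ ∀ Ustar : Subgroup G, IsSigmaDecomposition Mstar (Ks M K) Ustar → Ustar ≠ ⊥ := by
  classical
  by_contra hcon
  push Not at hcon
  obtain ⟨hU, Ustar, hdec, hUs⟩ := hcon
  have hKM : K ≤ M := hKU.hall.1
  have hKsS : Ks M K ≤ sigmaCore M := inf_le_left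
  have hKsM : Ks M K ≤ M := hKsS.trans (sigmaCore_le M)
  have hKle : K ≤ sigmaCore Mstar := by
    rw [hKst]; exact inf_le_left
  have hKMs : K ≤ Mstar := hKle.trans (sigmaCore_le Mstar)
  have hKsMs : Ks M K ≤ Mstar := hKstH.1
  have hKs1 : Ks M K ≠ ⊥ := (h54 M hM K hKU.cyclic hKU.hall).1
  have hnc := not_conj_partner hG hM hKU hK1 hMstar hKle
  obtain ⟨-, hZc⟩ := h68 M hM K U hKU hK1 Mstar hMstar hKst hKstH
  -- the three sets
  set A := tildeOf M ((sigmaCore M : Set G) \ {1}) with hA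
  set B := tildeOf Mstar ((sigmaCore Mstar : Set G) \ {1}) with hB
  have hAB : Disjoint A B := Set.disjoint_iff_inter_eq_empty.mpr (h79.1 M Mstar hM hMstar hnc)
  have hT := (h79.2.2 M K U hM hKU hK1).2
  have hAT : Disjoint A (TT M K) := by
    rw [Set.disjoint_left]
    rintro a haA ⟨y, z, hz, rfl⟩
    exact hT M hM y z hz haA
  have hBT : Disjoint B (TT M K) := by
    rw [Set.disjoint_left]
    rintro a haB ⟨y, z, hz, rfl⟩
    exact hT Mstar hMstar y z hz haB
  have hsum : A.ncard + B.ncard + (TT M K).ncard ≤ Nat.card G := by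
    have h1 : (A ∪ B ∪ TT M K).ncard = A.ncard + B.ncard + (TT M K).ncard := by
      rw [Set.ncard_union_eq (Set.disjoint_union_left.mpr ⟨hAT, hBT⟩) (Set.toFinite _)
        (Set.toFinite _), Set.ncard_union_eq hAB (Set.toFinite _) (Set.toFinite _)]
    rw [← h1]
    exact Set.ncard_le_card _
  have hcA := h77 M hM
  have hcB := h77 Mstar hMstar
  have hcT := (h34 M hM K U hKU hK1 Mstar hMstar hKst hKstH).2.2.2.2.1
  have hcM : Nat.card M = Nat.card K * Nat.card (sigmaCore M) := by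
    have := Cfsg.Agent.Lib.Helper1.BGSigmaDecomp.card_eq hG hM hKU
    rw [hU, Subgroup.card_bot, one_mul] at this
    exact this
  have hcMs : Nat.card Mstar = Nat.card (Ks M K) * Nat.card (sigmaCore Mstar) := by
    have := Cfsg.Agent.Lib.Helper1.BGSigmaDecomp.card_eq hG hMstar hdec
    rw [hUs, Subgroup.card_bot, one_mul] at this
    exact this
  have hZ := three_mul_card_le hG hM (sup_le hKM hKsM) hZc
  have hZs := three_mul_card_le hG hMstar (sup_le hKMs hKsMs) hZc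
  rw [card_Z hG hM hKU] at hZ hZs
  exact count_arith (g := Nat.card G) Nat.card_pos (Nat.card_pos (α := ↥(sigmaCore M)))
    (Nat.card_pos (α := ↥(sigmaCore Mstar))) (two_le_card_of_ne_bot hK1)
    (two_le_card_of_ne_bot hKs1) hcA hcB hcT hcM M.card_mul_index hcMs Mstar.card_mul_index
    hZ hZs hsum

end Part3

section Part4

variable {G : Type*} [Group G] [Finite G]

/-- an element of prime order of `K K*` lies in `K` or in `K*`. -/
theorem mem_or_mem_of_prime_order (hG : IsMinSimpleOddOrder G) {M : Subgroup G} (hM : IsCoatom M)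
    {K U : Subgroup G} (hKU : IsSigmaDecomposition M K U) {u : G} (hu : u ∈ K ⊔ Ks M K)
    {r : ℕ} (hr : r.Prime) (hur : orderOf u = r) : u ∈ K ∨ u ∈ Ks M K := by
  have hn : Ks M K ≤ Subgroup.normalizer (K : Set G) :=
    inf_le_right.trans (Subgroup.centralizer_le_normalizer _)
  obtain ⟨a, ha, b, hb, rfl⟩ := exists_mul_of_mem_sup_of_le_normalizer hn hu
  have hab : a * b = b * a :=
    ((Subgroup.mem_centralizer_iff.mp (Subgroup.mem_inf.mp hb).2) a ha)
  have hpow : a ^ r * b ^ r = 1 := by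
    rw [← (Commute.mul_pow hab), ← hur, pow_orderOf_eq_one]
  have hmem : a ^ r ∈ K ⊓ Ks M K := by
    refine Subgroup.mem_inf.mpr ⟨K.pow_mem ha r, ?_⟩
    have : a ^ r = (b ^ r)⁻¹ := eq_inv_of_mul_eq_one_left hpow
    rw [this]
    exact (Ks M K).inv_mem ((Ks M K).pow_mem hb r)
  rw [K_inf_Ks hG hM hKU, Subgroup.mem_bot] at hmem
  have hbr : b ^ r = 1 := by rwa [hmem, one_mul] at hpow
  by_cases ha1 : a = 1
  · right
    rw [ha1, one_mul]; exact hb
  by_cases hb1 : b = 1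
  · left
    rw [hb1, mul_one]; exact ha
  exfalso
  have hoa : orderOf a = r := by
    rcases (Nat.dvd_prime hr).mp (orderOf_dvd_of_pow_eq_one hmem) with h | h
    · exact absurd (orderOf_eq_one_iff.mp h) ha1
    · exact h
  have hob : orderOf b = r := by
    rcases (Nat.dvd_prime hr).mp (orderOf_dvd_of_pow_eq_one hbr) with h | h
    · exact absurd (orderOf_eq_one_iff.mp h) hb1
    · exact h
  have hrK : r ∣ Nat.card K := by
    rw [← hoa]
    have := orderOf_dvd_natCard (⟨a, ha⟩ : K)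
    rwa [Subgroup.orderOf_mk] at this
  have hrS : r ∣ Nat.card (sigmaCore M) := by
    rw [← hob]
    have := orderOf_dvd_natCard (⟨b, (Subgroup.mem_inf.mp hb).1⟩ : ↥(sigmaCore M))
    rwa [Subgroup.orderOf_mk] at this
  exact Cfsg.Agent.Lib.Helper1.BGSigmaDecomp.not_mem_sigma_of_dvd_card_K hKU hr hrK
    (mem_sigma_of_dvd_card_sigmaCore hG hM hr hrS)

/-- transport of "the unique maximal subgroup containing `C(X)`" under conjugation. -/
theorem eq_cj_of_unique {X M₁ M₂ : Subgroup G} (c : G)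
    (huniq : ∀ L : Subgroup G, IsCoatom L → Subgroup.centralizer (X : Set G) ≤ L → L = M₁)
    (hM₂ : IsCoatom M₂)
    (hle : Subgroup.centralizer ((cj c X : Subgroup G) : Set G) ≤ M₂) : M₂ = cj c M₁ := by
  rw [centralizer_cj, cj_le_iff] at hle
  have h1 := huniq _ (isCoatom_map_conj c⁻¹ hM₂) hle
  rw [← h1]
  exact (cj_cj_inv c M₂).symm

/-- a nontrivial subgroup contains an element of prime order. -/
theorem exists_prime_orderOf {H : Subgroup G} (h : H ≠ ⊥) :
    ∃ u ∈ H, ∃ r : ℕ, r.Prime ∧ orderOf u = r := by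
  obtain ⟨r, hr, hrH⟩ := Nat.exists_prime_and_dvd
    (fun h1 : Nat.card H = 1 => h (Subgroup.card_eq_one.mp h1))
  haveI : Fact r.Prime := ⟨hr⟩
  obtain ⟨u, hu⟩ := exists_prime_orderOf_dvd_card' r hrH
  exact ⟨u, u.2, r, hr, by rw [← hu, Subgroup.orderOf_coe]⟩

end Part4

section Part5

variable {G : Type*} [Group G] [Finite G]

/-- one step: an element `u` of prime order of `Z_M` whose centralizer lies in the unique
maximal subgroup `M₁`, conjugated into `Z_H`. -/
theorem step_conj (hG : IsMinSimpleOddOrder G) (h67 : P1367 G)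
    {H KH UH Hstar : Subgroup G} (hH : IsCoatom H) (hKUH : IsSigmaDecomposition H KH UH)
    (hKH1 : KH ≠ ⊥) (hHstar : IsCoatom Hstar)
    (hKHst : KH = sigmaCore Hstar ⊓ Subgroup.centralizer ((Ks H KH : Subgroup G) : Set G))
    (hKHstH : IsPiHallOf (kappa Hstar) (Ks H KH) Hstar)
    {M₁ : Subgroup G} {u : G} {r : ℕ} (hr : r.Prime) (hur : orderOf u = r)
    (huniq : ∀ L : Subgroup G, IsCoatom L →
      Subgroup.centralizer ((Subgroup.zpowers u : Subgroup G) : Set G) ≤ L → L = M₁)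
    (c : G) (hmem : c * u * c⁻¹ ∈ KH ⊔ Ks H KH) : H = cj c M₁ ∨ Hstar = cj c M₁ := by
  obtain ⟨hX_H, hY_H⟩ := h67 H hH KH UH hKUH hKH1 Hstar hHstar hKHst hKHstH
  have hcj : cj c (Subgroup.zpowers u) = Subgroup.zpowers (c * u * c⁻¹) := by
    show (Subgroup.zpowers u).map (MulAut.conj c).toMonoidHom = _
    rw [MonoidHom.map_zpowers]
    simp [MulAut.conj_apply]
  have hor : orderOf (c * u * c⁻¹) = r := by
    have : c * u * c⁻¹ = MulAut.conj c u := by simp [MulAut.conj_apply]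
    rw [this, MulEquiv.orderOf_eq, hur]
  have hcard : (Nat.card (Subgroup.zpowers (c * u * c⁻¹))).Prime := by
    rw [Nat.card_zpowers, hor]; exact hr
  rcases mem_or_mem_of_prime_order hG hH hKUH hmem hr hor with h1 | h1
  · right
    have h2 := (hY_H (Subgroup.zpowers (c * u * c⁻¹)) (Subgroup.zpowers_le.mpr h1) hcard).1
    rw [← hcj] at h2
    exact eq_cj_of_unique c huniq hHstar h2
  · left
    have h2 := (hX_H (Subgroup.zpowers (c * u * c⁻¹)) (Subgroup.zpowers_le.mpr h1) hcard).1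
    rw [← hcj] at h2
    exact eq_cj_of_unique c huniq hH h2

/-- if `Z_H` is a conjugate of `Z_M` then `H` is conjugate to `M` or to `M*`. -/
theorem conj_of_Z_conj (hG : IsMinSimpleOddOrder G) (h67 : P1367 G)
    {M K U Mstar : Subgroup G} (hM : IsCoatom M) (hKU : IsSigmaDecomposition M K U)
    (hK1 : K ≠ ⊥) (hMstar : IsCoatom Mstar)
    (hKst : K = sigmaCore Mstar ⊓ Subgroup.centralizer ((Ks M K : Subgroup G) : Set G))
    (hKstH : IsPiHallOf (kappa Mstar) (Ks M K) Mstar) (hKs1 : Ks M K ≠ ⊥) (hne : Mstar ≠ M)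
    {H KH UH Hstar : Subgroup G} (hH : IsCoatom H) (hKUH : IsSigmaDecomposition H KH UH)
    (hKH1 : KH ≠ ⊥) (hHstar : IsCoatom Hstar)
    (hKHst : KH = sigmaCore Hstar ⊓ Subgroup.centralizer ((Ks H KH : Subgroup G) : Set G))
    (hKHstH : IsPiHallOf (kappa Hstar) (Ks H KH) Hstar)
    (c : G) (hZ : cj c (K ⊔ Ks M K) = KH ⊔ Ks H KH) : H = cj c M ∨ H = cj c Mstar := by
  obtain ⟨hX_M, hY_M⟩ := h67 M hM K U hKU hK1 Mstar hMstar hKst hKstH
  obtain ⟨u, hu, r, hr, hur⟩ := exists_prime_orderOf hKs1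
  obtain ⟨v, hv, s, hs, hvs⟩ := exists_prime_orderOf hK1
  have hucard : (Nat.card (Subgroup.zpowers u)).Prime := by
    rw [Nat.card_zpowers, hur]; exact hr
  have hvcard : (Nat.card (Subgroup.zpowers v)).Prime := by
    rw [Nat.card_zpowers, hvs]; exact hs
  have hu' : c * u * c⁻¹ ∈ KH ⊔ Ks H KH := by
    rw [← hZ]
    exact conj_mem_cj (Subgroup.mem_sup_right hu)
  have hv' : c * v * c⁻¹ ∈ KH ⊔ Ks H KH := by
    rw [← hZ]
    exact conj_mem_cj (Subgroup.mem_sup_left hv)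
  have r1 := step_conj hG h67 hH hKUH hKH1 hHstar hKHst hKHstH hr hur
    (hX_M _ (Subgroup.zpowers_le.mpr hu) hucard).2 c hu'
  have r2 := step_conj hG h67 hH hKUH hKH1 hHstar hKHst hKHstH hs hvs
    (hY_M _ (Subgroup.zpowers_le.mpr hv) hvcard).2 c hv'
  rcases r1 with h1 | h1
  · exact Or.inl h1
  rcases r2 with h2 | h2
  · exact Or.inr h2
  exfalso
  apply hne
  have h3 : cj c M = cj c Mstar := by rw [← h1, ← h2]
  have h4 := congrArg (cj c⁻¹) h3
  rw [cj_inv_cj, cj_inv_cj] at h4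
  exact h4.symm

end Part5

section Part6

variable {G : Type*} [Group G] [Finite G]

theorem centralizer_singleton_conj (c z : G) :
    Subgroup.centralizer ({c * z * c⁻¹} : Set G) = cj c (Subgroup.centralizer ({z} : Set G)) := by
  rw [← centralizer_zpowers, ← centralizer_zpowers, ← centralizer_cj]
  congr 2
  show _ = (Subgroup.zpowers z).map (MulAut.conj c).toMonoidHom
  rw [MonoidHom.map_zpowers]
  simp [MulAut.conj_apply]

/-- the centralizer of an element of `Ẑ` is `Z = K K*`. -/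
theorem centralizer_of_mem_Zhat (h34 : P1434 G)
    {M K U Mstar : Subgroup G} (hM : IsCoatom M) (hKU : IsSigmaDecomposition M K U)
    (hK1 : K ≠ ⊥) (hMstar : IsCoatom Mstar)
    (hKst : K = sigmaCore Mstar ⊓ Subgroup.centralizer ((Ks M K : Subgroup G) : Set G))
    (hKstH : IsPiHallOf (kappa Mstar) (Ks M K) Mstar) {z : G} (hz : z ∈ Zhat M K) :
    Subgroup.centralizer ({z} : Set G) = K ⊔ Ks M K := by
  have hn : Ks M K ≤ Subgroup.normalizer (K : Set G) :=
    inf_le_right.trans (Subgroup.centralizer_le_normalizer _)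
  obtain ⟨hzZ, hznot⟩ := hz
  obtain ⟨x, hx, y, hy, rfl⟩ := exists_mul_of_mem_sup_of_le_normalizer hn hzZ
  have hx1 : x ≠ 1 := by
    rintro rfl
    apply hznot
    right
    rw [one_mul]; exact hy
  have hy1 : y ≠ 1 := by
    rintro rfl
    apply hznot
    left
    rw [mul_one]; exact hx
  exact ((h34 M hM K U hKU hK1 Mstar hMstar hKst hKstH).2.2.1 x hx hx1 y hy hy1).2.2

/-- B&G 14.7(f): every maximal subgroup with `κ ≠ ∅` is conjugate to `M` or `M*`. -/
theorem s1369_part2 (hG : IsMinSimpleOddOrder G) (h34 : P1434 G) (h66 : P1366 G)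
    (h67 : P1367 G) (h54 : P1354 G)
    (hdec : ∀ H : Subgroup G, IsCoatom H → ∃ K U : Subgroup G, IsSigmaDecomposition H K U)
    (M : Subgroup G) (hM : IsCoatom M) (K U : Subgroup G) (hKU : IsSigmaDecomposition M K U)
    (hK1 : K ≠ ⊥) (Mstar : Subgroup G) (hMstar : IsCoatom Mstar)
    (hKst : K = sigmaCore Mstar ⊓ Subgroup.centralizer ((Ks M K : Subgroup G) : Set G))
    (hKstH : IsPiHallOf (kappa Mstar) (Ks M K) Mstar) :
    ∀ H : Subgroup G, IsCoatom H → (kappa H).Nonempty →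
      ∃ g : G, H = M.map (MulAut.conj g).toMonoidHom ∨
        H = Mstar.map (MulAut.conj g).toMonoidHom := by
  classical
  intro H hH hκ
  obtain ⟨p, hp⟩ := hκ
  obtain ⟨KH, UH, hKUH⟩ := hdec H hH
  have hKH1 : KH ≠ ⊥ := by
    intro hbot
    have h1 := hKUH.hall.2.2 p hp.1 hp
    have h2 := Cfsg.Agent.Lib.Helper12.card_mul_relIndex_eq hKUH.hall.1
    rw [hbot, Subgroup.card_bot, one_mul] at h2
    rw [hbot, h2] at h1
    exact h1 hp.2.1
  obtain ⟨Hstar, ⟨hHstar, hKHst, hKHstH⟩, -⟩ := h66 H hH KH UH hKUH hKH1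
  have hKle : K ≤ sigmaCore Mstar := by
    rw [hKst]; exact inf_le_left
  have hne : Mstar ≠ M := by
    have := not_conj_partner hG hM hKU hK1 hMstar hKle 1
    rwa [map_conj_one] at this
  have hKs1 : Ks M K ≠ ⊥ := (h54 M hM K hKU.cyclic hKU.hall).1
  have hc1 : Nat.card G < 2 * (TT M K).ncard :=
    (h34 M hM K U hKU hK1 Mstar hMstar hKst hKstH).2.2.2.2.2
  have hc2 : Nat.card G < 2 * (TT H KH).ncard :=
    (h34 H hH KH UH hKUH hKH1 Hstar hHstar hKHst hKHstH).2.2.2.2.2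
  -- the two big sets meet
  have hmeet : ¬ Disjoint (TT M K) (TT H KH) := by
    intro hd
    have h1 : (TT M K ∪ TT H KH).ncard = (TT M K).ncard + (TT H KH).ncard :=
      Set.ncard_union_eq hd (Set.toFinite _) (Set.toFinite _)
    have h2 : (TT M K ∪ TT H KH).ncard ≤ Nat.card G := Set.ncard_le_card _
    omega
  rw [Set.not_disjoint_iff] at hmeet
  obtain ⟨a, ⟨g, z, hz, rfl⟩, ⟨h, w, hw, hgw⟩⟩ := hmeet
  have hw' : w = (h⁻¹ * g) * z * (h⁻¹ * g)⁻¹ := by
    have : w = h⁻¹ * (h * w * h⁻¹) * h := by group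
    rw [this, ← hgw]; group
  have hZ : cj (h⁻¹ * g) (K ⊔ Ks M K) = KH ⊔ Ks H KH := by
    rw [← centralizer_of_mem_Zhat h34 hM hKU hK1 hMstar hKst hKstH hz,
      ← centralizer_of_mem_Zhat h34 hH hKUH hKH1 hHstar hKHst hKHstH hw, hw',
      centralizer_singleton_conj]
  rcases conj_of_Z_conj hG h67 hM hKU hK1 hMstar hKst hKstH hKs1 hne hH hKUH hKH1 hHstar
    hKHst hKHstH (h⁻¹ * g) hZ with h1 | h1
  · exact ⟨h⁻¹ * g, Or.inl h1⟩
  · exact ⟨h⁻¹ * g, Or.inr h1⟩

/-- the frozen statement `S1369`, from `S1434`, `S1377`, `S1379`, `S1366`, `S1367`, `S1368`,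
`S1354` and the existence of standard factorisations. -/
theorem s1369_of (hG : IsMinSimpleOddOrder G) (h34 : P1434 G) (h77 : P1377 G)
    (h79 : P1379 G) (h66 : P1366 G) (h67 : P1367 G) (h68 : P1368 G) (h54 : P1354 G)
    (hdec : ∀ H : Subgroup G, IsCoatom H → ∃ K U : Subgroup G, IsSigmaDecomposition H K U)
    (M : Subgroup G) (hM : IsCoatom M) (K U : Subgroup G) (hKU : Cfsg.IsSigmaDecomposition M K U) (hK1 : K ≠ ⊥) (Mstar : Subgroup G) (hMstar : IsCoatom Mstar)
    (hKst : K = Cfsg.sigmaCore Mstar ⊓ Subgroup.centralizer ((Cfsg.sigmaCore M ⊓ Subgroup.centralizer (K : Set G)) : Set G))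
    (hKstH : Cfsg.IsPiHallOf (Cfsg.kappa Mstar) (Cfsg.sigmaCore M ⊓ Subgroup.centralizer (K : Set G)) Mstar) :
    (U ≠ ⊥ ∨ ∀ Ustar : Subgroup G, Cfsg.IsSigmaDecomposition Mstar (Cfsg.sigmaCore M ⊓ Subgroup.centralizer (K : Set G)) Ustar → Ustar ≠ ⊥) ∧
      ∀ H : Subgroup G, IsCoatom H → (Cfsg.kappa H).Nonempty →
        ∃ g : G, H = M.map (MulAut.conj g).toMonoidHom ∨ H = Mstar.map (MulAut.conj g).toMonoidHom :=
  ⟨s1369_part1 hG h34 h77 h79 h68 h54 M hM K U hKU hK1 Mstar hMstar hKst hKstH,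
    s1369_part2 hG h34 h66 h67 h54 hdec M hM K U hKU hK1 Mstar hMstar hKst hKstH⟩

end Part6

section Part7

variable {G : Type*} [Group G] [Finite G]

/-- B&G 14.7(e)/Theorem 15.? : if `U ≠ 1` and `K ≠ 1` then `K` has prime order
(from the prime action of `K` on `M_σ`, `C_U(k) = 1`, `S1429` and `S1446`). -/
theorem card_K_prime_of_U_ne_bot (hG : IsMinSimpleOddOrder G) (h1430 : H1430 G)
    {M : Subgroup G} (hM : IsCoatom M) {K U : Subgroup G} (hKU : IsSigmaDecomposition M K U)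
    (hfree : ∀ k ∈ K, k ≠ 1 → U ⊓ Subgroup.centralizer ({k} : Set G) = ⊥)
    (hK1 : K ≠ ⊥) (hU1 : U ≠ ⊥) : (Nat.card K).Prime := by
  classical
  have hUM : U ≤ M := hKU.compl.1
  have hKM : K ≤ M := hKU.hall.1
  obtain ⟨r, hr, hrU⟩ := Nat.exists_prime_and_dvd
    (fun h1 : Nat.card U = 1 => hU1 (Subgroup.card_eq_one.mp h1))
  haveI : Fact r.Prime := ⟨hr⟩
  have hrσ := Cfsg.Agent.Lib.Helper1.BGSigmaDecomp.not_mem_sigma_of_dvd_card_U hG hM hKU hr hrU
  have hrκ := Cfsg.Agent.Lib.Helper1.BGSigmaDecomp.not_mem_kappa_of_dvd_card_U hG hM hKU hr hrU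
  have hrM : r ∣ Nat.card M := hrU.trans (Subgroup.card_dvd_of_le hUM)
  -- coprime action of `K` on `U`
  have hcopKU : (Nat.card K).Coprime (Nat.card U) := by
    apply Nat.coprime_of_dvd
    intro p hp hpK hpU
    exact Cfsg.Agent.Lib.Helper1.BGSigmaDecomp.not_mem_kappa_of_dvd_card_U hG hM hKU hp hpU
      (hKU.hall.2.1 p hp hpK)
  have hact : Cfsg.Agent.Lib.Helper1.CoprimeAct K U :=
    { norm := hKU.normal
      cop := hcopKU
      solv := Or.inl (by
        haveI := hKU.cyclic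
        haveI : CommGroup ↥K := IsCyclic.commGroup
        infer_instance) }
  obtain ⟨R, hRU, hKR⟩ := coprime_exists_isSylowIn hact r
  -- `R` is a Sylow `r`-subgroup of `M`
  have hidx : ¬ r ∣ U.relIndex M := by
    have h1 := Cfsg.Agent.Lib.Helper12.card_mul_relIndex_eq hUM
    have h2 := Cfsg.Agent.Lib.Helper1.BGSigmaDecomp.card_eq hG hM hKU
    have h3 : U.relIndex M = Nat.card K * Nat.card (sigmaCore M) := by
      have : Nat.card U * U.relIndex M = Nat.card U * (Nat.card K * Nat.card (sigmaCore M)) := by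
        rw [h1, h2]; ring
      exact Nat.eq_of_mul_eq_mul_left Nat.card_pos this
    rw [h3]
    intro hd
    rcases (Nat.Prime.dvd_mul hr).mp hd with h | h
    · exact hrκ (hKU.hall.2.1 r hr h)
    · exact hrσ (mem_sigma_of_dvd_card_sigmaCore hG hM hr h)
  have hRM : IsSylowIn r R M := hRU.of_not_dvd_relIndex hUM hidx
  have hmapS : ((hRM.toSylow : Sylow r ↥M) : Subgroup ↥M).map M.subtype = R := by
    rw [hRM.coe_toSylow, Subgroup.map_subgroupOf_eq_of_le hRM.le]
  have hP1 : ¬ (∀ q : ℕ, q.Prime → q ∣ Nat.card M → q ∉ sigma M → q ∈ kappa M) :=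
    fun h => hrκ (h r hr hrM hrσ)
  have hmem : r ∉ sigma M ∪ kappa M := by
    rintro (h | h)
    · exact hrσ h
    · exact hrκ h
  obtain ⟨-, hCA, hnil⟩ := Cfsg.Agent.S1429.result hG M hM hP1 r hrM hmem hRM.toSylow
  rw [hmapS] at hCA
  set A : Subgroup G := Subgroup.closure {x : G | x ∈ R ∧ x ^ r = 1} with hA
  have hAR : A ≤ R := by
    rw [hA, Subgroup.closure_le]
    intro x hx
    exact hx.1
  have hAU : A ≤ U := hAR.trans hRU.le
  have hAM : A ≤ M := hAU.trans hUM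
  -- `A ≠ 1`
  have hA1 : A ≠ ⊥ := by
    have hR1 : R ≠ ⊥ := by
      intro hbot
      have h1 := hRU.card_eq
      rw [hbot, Subgroup.card_bot] at h1
      have h2 : (Nat.card U).factorization r ≠ 0 := by
        intro h0
        rcases (Nat.factorization_eq_zero_iff _ _).mp h0 with h | h | h
        · exact h hr
        · exact h hrU
        · exact Nat.card_pos.ne' h
      have : 1 < r ^ (Nat.card U).factorization r := Nat.one_lt_pow h2 hr.one_lt
      omega
    have hrR : r ∣ Nat.card R := by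
      obtain ⟨n, hn⟩ := IsPGroup.iff_card.mp hRU.isPGroup
      rcases Nat.eq_zero_or_pos n with h0 | h0
      · exfalso
        apply hR1
        rw [h0, pow_zero] at hn
        exact Subgroup.card_eq_one.mp hn
      · rw [hn]
        exact dvd_pow_self r h0.ne'
    obtain ⟨x, hx⟩ := exists_prime_orderOf_dvd_card' r hrR
    intro hbot
    have hxA : (x : G) ∈ A := by
      apply Subgroup.subset_closure
      refine ⟨x.2, ?_⟩
      rw [← hx, ← Subgroup.orderOf_coe]
      exact pow_orderOf_eq_one _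
    rw [hbot, Subgroup.mem_bot] at hxA
    have : orderOf (x : G) = 1 := by rw [hxA, orderOf_one]
    rw [Subgroup.orderOf_coe, hx] at this
    exact hr.one_lt.ne' this
  -- `K` normalizes `A`
  have hKA : K ≤ Subgroup.normalizer (A : Set G) := by
    apply Cfsg.Agent.Lib.Helper1.le_normalizer_of_forall_conj_mem
    intro k hk n hn
    rw [hA] at hn
    induction hn using Subgroup.closure_induction with
    | mem x hx =>
      apply Subgroup.subset_closure
      refine ⟨?_, ?_⟩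
      · exact conj_mem_of_mem_normalizer (hKR hk) hx.1
      · rw [conj_pow, hx.2]; group
    | one => simp
    | mul x y _ _ hx hy =>
      have : k * (x * y) * k⁻¹ = (k * x * k⁻¹) * (k * y * k⁻¹) := by group
      rw [this]
      exact A.mul_mem hx hy
    | inv x _ hx =>
      have : k * x⁻¹ * k⁻¹ = (k * x * k⁻¹)⁻¹ := by group
      rw [this]
      exact A.inv_mem hx
  have hAK : A ⊓ K = ⊥ := by
    rw [eq_bot_iff, ← Cfsg.Agent.Lib.Helper1.BGSigmaDecomp.U_inf_K hKU]
    exact inf_le_inf_right K hAU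
  have hfrob : ∀ k ∈ K, k ≠ 1 → A ⊓ Subgroup.centralizer ({k} : Set G) = ⊥ := by
    intro k hk hk1
    rw [eq_bot_iff, ← hfree k hk hk1]
    exact inf_le_inf_right _ hAU
  have hAKM : A ⊔ K ≤ M := sup_le hAM hKM
  have hsolv : Group.IsSolvable ↥(A ⊔ K) :=
    isSolvable_of_ne_top hG (ne_top_of_le_isCoatom hM hAKM)
  have hcop : (Nat.card ↥(A ⊔ K)).Coprime (Nat.card (sigmaCore M)) := by
    have h1 : A ⊔ K ≤ U ⊔ K := sup_le_sup_right hAU K
    have h2 := Subgroup.card_dvd_of_le h1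
    rw [Cfsg.Agent.Lib.Helper1.BGSigmaDecomp.card_U_sup_K hKU] at h2
    apply Nat.Coprime.coprime_dvd_left h2
    apply Nat.coprime_of_dvd
    intro p hp hd1 hd2
    have hpσ := mem_sigma_of_dvd_card_sigmaCore hG hM hp hd2
    rcases (Nat.Prime.dvd_mul hp).mp hd1 with h | h
    · exact Cfsg.Agent.Lib.Helper1.BGSigmaDecomp.not_mem_sigma_of_dvd_card_U hG hM hKU hp h hpσ
    · exact Cfsg.Agent.Lib.Helper1.BGSigmaDecomp.not_mem_sigma_of_dvd_card_K hKU hp h hpσ
  exact (Cfsg.Agent.S1446.result A K (sigmaCore M) hA1 hK1 hAK hKA hfrob hsolv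
    (odd_card_subgroup hG _) (sigmaCore_ne_bot hG hM) hnil
    (hAM.trans (le_normalizer_sigmaCore M)) (hKM.trans (le_normalizer_sigmaCore M)) hcop hCA
    (h1430 M hM K hKU.hall hK1)).1

end Part7

section Part8

variable {G : Type*} [Group G] [Finite G]

/-- the frozen statement `S1373` (B&G 14.7(e), second half). -/
theorem s1373_of (hG : IsMinSimpleOddOrder G) (h1430 : H1430 G) (h34 : P1434 G) (h77 : P1377 G)
    (h79 : P1379 G) (h66 : P1366 G) (h68 : P1368 G) (h54 : P1354 G) (h52 : P1352 G)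
    (h53 : P1353 G)
    (M : Subgroup G) (hM : IsCoatom M) (K U : Subgroup G) (hKU : Cfsg.IsSigmaDecomposition M K U) (hK1 : K ≠ ⊥) (hU : U = ⊥) :
    (Nat.card ↥(Cfsg.sigmaCore M ⊓ Subgroup.centralizer (K : Set G))).Prime := by
  obtain ⟨Mstar, ⟨hMstar, hKst, hKstH⟩, -⟩ := h66 M hM K U hKU hK1
  have hp1 := s1369_part1 hG h34 h77 h79 h68 h54 M hM K U hKU hK1 Mstar hMstar hKst hKstH
  have hUs : ∀ Ustar : Subgroup G, IsSigmaDecomposition Mstar (Ks M K) Ustar → Ustar ≠ ⊥ := by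
    rcases hp1 with h | h
    · exact absurd hU h
    · exact h
  obtain ⟨-, hZc⟩ := h68 M hM K U hKU hK1 Mstar hMstar hKst hKstH
  have hKsc : IsCyclic ↥(Ks M K) := by
    haveI := hZc
    exact isCyclic_of_injective (Subgroup.inclusion (le_sup_right : Ks M K ≤ K ⊔ Ks M K))
      (Subgroup.inclusion_injective _)
  obtain ⟨⟨Ustar, hdec⟩, -⟩ := h52 Mstar hMstar (Ks M K) hKsc hKstH
  have hKs1 : Ks M K ≠ ⊥ := (h54 M hM K hKU.cyclic hKU.hall).1
  exact card_K_prime_of_U_ne_bot hG h1430 hMstar hdec (h53 Mstar hMstar (Ks M K) Ustar hdec)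
    hKs1 (hUs Ustar hdec)

end Part8

end Cfsg.Agent.Lib.Helper1.BGCount
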