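import Mathlib
import Cfsg.Prelude
import Cfsg.Agent.Lib.Helper1.BGConjEq
import Cfsg.Agent.Lib.Helper19.BG14A
import Cfsg.Agent.Lib.Helper11.BGFourteenB
import Cfsg.Agent.Lib.Helper3.BGStubs
import Cfsg.Agent.S1420
import Cfsg.Agent.S3745
import Cfsg.Agent.Lib.Helper1.BGCount
import Cfsg.Agent.S1350
import Cfsg.Agent.Lib.Helper29.BG13K2

/-!
# B&G Theorem 14.7 in general form (relative to the frozen rows S1430, S1431, S1377, S1433): the family of Z-pairs, closure under partners, the counting argument over the whole family (exists_not_P1), existence of the partner M* (partner, s1366_of) and cyclicity of Hall kappa-subgroups (isCyclic_hall, s1351_of).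
-/

set_option autoImplicit false
set_option linter.unusedSectionVars false
set_option linter.unusedVariables false

namespace Cfsg.Agent.Lib.Helper1.BG147

open Cfsg
open scoped commutatorElement
open Cfsg.Agent.Lib.Helper10.BG Cfsg.Agent.Lib.Helper10 Cfsg.Agent.Lib.Helper9.BGExc
open Cfsg.Agent.Lib.Helper3.BGStubs Cfsg.Agent.Lib.Helper19.BG14 Cfsg.Agent.Lib.Helper11.BG14
open Cfsg.Agent.Lib.Helper1.BGConjEq

section Part1

variable {G : Type*} [Group G] [Finite G]

/-- the data of Lemma 14.2 for a pair `(M, K)`, from the frozen rows `S1430`, `S1431`. -/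
theorem kdata_of (h30 : P1430 G) (h31 : P1431 G) {M K : Subgroup G} (hM : IsCoatom M)
    (hK : IsPiHallOf (kappa M) K M) (hK1 : K ≠ ⊥) : KData M K where
  coatom := hM
  hall := hK
  ne_bot := hK1
  prime := (h30 M hM K hK hK1).1
  fus1 := (h31 M hM K hK hK1).1
  fus2 := (h31 M hM K hK hK1).2.1

/-- `Z`-pairs: `(M, K)` with `K ≠ 1` a Hall `κ(M)`-subgroup of the maximal subgroup `M` and
`K K* = Z`. -/
structure PP (Z M K : Subgroup G) : Prop where
  coatom : IsCoatom M
  hall : IsPiHallOf (kappa M) K M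
  ne_bot : K ≠ ⊥
  eq : K ⊔ kstar M K = Z

theorem PP.kdata (h30 : P1430 G) (h31 : P1431 G) {Z M K : Subgroup G} (h : PP Z M K) :
    KData M K := kdata_of h30 h31 h.coatom h.hall h.ne_bot

/-- **Closure of the set of `Z`-pairs** (the partner analysis): if `(M, K)` is a `Z`-pair,
`X ≤ K` has prime order and `H` is a maximal subgroup containing `N_G(X)`, then `H` belongs to a
`Z`-pair `(H, Kt)` with `K* ≤ Kt`, `X ≤ C_{H_σ}(Kt) ≤ K`, and `H` is not conjugate to `M`. -/
theorem closure (hG : IsMinSimpleOddOrder G) (h30 : P1430 G) (h31 : P1431 G)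
    {M K X H : Subgroup G} (hM : IsCoatom M) (hK : IsPiHallOf (kappa M) K M) (hK1 : K ≠ ⊥)
    (hXK : X ≤ K) (hX : (Nat.card X).Prime) (hH : IsCoatom H)
    (hNH : Subgroup.normalizer (X : Set G) ≤ H) :
    ∃ Kt : Subgroup G, IsPiHallOf (kappa H) Kt H ∧ Kt ≠ ⊥ ∧
      Kt ⊔ kstar H Kt = K ⊔ kstar M K ∧ X ≤ kstar H Kt ∧ kstar M K ≤ Kt ∧ kstar H Kt ≤ K ∧
      ∀ g : G, H ≠ cj g M := by
  classical
  obtain ⟨hHM, hXσ, hZH, key, Kt, hKt, hKsKt, hKtZ⟩ :=
    partner_hall hG h30 h31 hM hK hK1 hXK hX hH hNH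
  have hD := kdata_of h30 h31 hM hK hK1
  have hKs1 : kstar M K ≠ ⊥ := hD.kstar_ne_bot hG
  have hKt1 : Kt ≠ ⊥ := by
    intro hb
    rw [hb] at hKsKt
    exact hKs1 (le_bot_iff.mp hKsKt)
  have hDt := kdata_of h30 h31 hH hKt hKt1
  -- `H` is not conjugate to `M`
  have hp : (Nat.card X).Prime := hX
  have hpσH : Nat.card X ∈ sigma H :=
    mem_sigma_of_dvd_card_sigmaCore hG hH hX (Subgroup.card_dvd_of_le hXσ)
  have hpκ : Nat.card X ∈ kappa M := hK.2.1 _ hX (Subgroup.card_dvd_of_le hXK)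
  have hnc : ∀ g : G, H ≠ cj g M := by
    intro g hg
    rw [hg, sigma_cj hM g] at hpσH
    exact hpκ.2.2.1 hpσH
  have hdisj : ∀ p : ℕ, p ∈ sigma M → p ∈ sigma H → False :=
    fun p h1 h2 => sigma_disjoint hG hM hH hnc h1 h2
  -- an element `y₀` of prime order of `K*`
  obtain ⟨Y, hYKs, hYp⟩ := Cfsg.Agent.Lib.Helper3.BG14.exists_prime_card_le hKs1
  obtain ⟨y₀, hy₀Y, hy₀1⟩ : ∃ y₀ ∈ Y, y₀ ≠ 1 := by
    rcases Subgroup.bot_or_exists_ne_one Y with hb | h
    · rw [hb, Subgroup.card_bot] at hYp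
      exact absurd hYp Nat.not_prime_one
    · exact h
  have hy₀Ks : y₀ ∈ kstar M K := hYKs hy₀Y
  have hy₀Kt : y₀ ∈ Kt := hKsKt hy₀Ks
  have hY1 : Y ≠ ⊥ := by
    intro hb
    rw [hb, Subgroup.mem_bot] at hy₀Y
    exact hy₀1 hy₀Y
  -- `X ≤ Kt*`
  have hXKts : X ≤ kstar H Kt := by
    intro x hx
    rw [← hDt.prime y₀ hy₀Kt hy₀1]
    refine Subgroup.mem_inf.mpr ⟨hXσ hx, ?_⟩
    rw [Subgroup.mem_centralizer_iff]
    intro z hz
    rw [Set.mem_singleton_iff] at hz
    rw [hz]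
    exact (hD.commute (hXK hx) hy₀Ks).symm
  -- `N_H(Y) = Kt Kt*`
  obtain ⟨hNHY, -, -⟩ := (h30 H hH Kt hKt hKt1).2.2 Y (hYKs.trans hKsKt) hYp
  have hZle : K ⊔ kstar M K ≤ Kt ⊔ kstar H Kt := by
    rw [← hNHY]
    refine le_inf hZH (sup_le ?_ ?_)
    · intro k hk
      rw [Subgroup.mem_normalizer_iff]
      intro y
      have hc : ∀ y ∈ Y, k * y * k⁻¹ = y := by
        intro y hy
        have := hD.commute hk (hYKs hy)
        rw [this]; group
      constructor
      · intro hy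
        rw [hc y hy]; exact hy
      · intro hy
        have h2 : k⁻¹ * (k * y * k⁻¹) * k⁻¹⁻¹ = y := by group
        have h3 := hD.commute (K.inv_mem hk) (hYKs hy)
        have h4 : k⁻¹ * (k * y * k⁻¹) * k⁻¹⁻¹ = k * y * k⁻¹ := by
          rw [h3]; group
        rw [← h2, h4]; exact hy
    · have : Kt ≤ H ⊓ Subgroup.normalizer (Y : Set G) := by
        rw [hNHY]; exact le_sup_left
      exact hKsKt.trans (this.trans inf_le_right)
  -- `Kt* ≤ M`
  have hKtsM : kstar H Kt ≤ M := by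
    have h1 : kstar H Kt ≤ H ⊓ Subgroup.normalizer (Y : Set G) := by
      rw [hNHY]; exact le_sup_right
    exact (h1.trans inf_le_right).trans (normalizer_le_of_le_kstar h31 hM hK hK1 hYKs hY1)
  -- `Kt*` is a `κ(M)`-group
  have hKtsκ : ∀ p : ℕ, p.Prime → p ∣ Nat.card (kstar H Kt) → p ∈ kappa M := by
    intro p hp hpd
    haveI : Fact p.Prime := ⟨hp⟩
    obtain ⟨x', hx'⟩ := exists_prime_orderOf_dvd_card' (G := ↥(kstar H Kt)) p hpd
    have hx'Kts : (x' : G) ∈ kstar H Kt := x'.2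
    have hx'o : orderOf (x' : G) = p := by rw [Subgroup.orderOf_coe, hx']
    have hx'1 : (x' : G) ≠ 1 := by
      intro h
      rw [h, orderOf_one] at hx'o
      exact hp.one_lt.ne hx'o
    have hpσH' : p ∈ sigma H :=
      mem_sigma_of_dvd_card_sigmaCore hG hH hp (hpd.trans (Subgroup.card_dvd_of_le inf_le_left))
    have hpσM : p ∉ sigma M := fun h => hdisj p h hpσH'
    have hcomm : (x' : G) * y₀ = y₀ * (x' : G) :=
      ((Subgroup.mem_centralizer_iff.mp hx'Kts.2) y₀ hy₀Kt).symm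
    rcases mem_kappa_or_tau2 hG hM hy₀Ks.1 hy₀1 (hKtsM hx'Kts) hx'o hpσM hcomm with h | h
    · exact h
    · exfalso
      obtain ⟨E, hE, -⟩ := exists_isComplIn_sigmaCore_ge hG hM (X := ⊥) bot_le (by
        rw [Subgroup.card_bot]; exact Nat.coprime_one_left _)
      have h204 := (Cfsg.Agent.S1420.result hG M hM E hE).2.2.2 (x' : G) (hKtsM hx'Kts) hx'1 (by
        intro s hs hsd
        rw [hx'o] at hsd
        rw [(Nat.prime_dvd_prime_iff_eq hs hp).mp hsd]
        exact h) ⟨hKtsM hx'Kts, y₀, hy₀Ks.1, hy₀1, hcomm⟩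
      have hCH := centralizer_le_of_mem_kstar h31 hH hKt hKt1 hx'Kts hx'1
      exact hHM (h204.2 H hH hCH)
  -- `Kt* ≤ K`
  have hKtsK : kstar H Kt ≤ K := by
    obtain ⟨K', hK', hKtsK'⟩ := exists_kappa_hall_ge hG hM hKtsM hKtsκ
    have hsolv : Group.IsSolvable ↥M := isSolvable_of_ne_top hG hM.1
    have hcop : (Nat.card (⊥ : Subgroup G)).Coprime (Nat.card M) := by
      rw [Subgroup.card_bot]; exact Nat.coprime_one_left _
    obtain ⟨c, hc, hcK⟩ := (Cfsg.Agent.S3745.result (⊥ : Subgroup G) M bot_le hcop hsolv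
      (kappa M)).2.1 K K' hK bot_le hK' bot_le
    have hcM : c ∈ M := hc.1
    have hK'eq : K' = cj c K := hcK
    -- `X ≤ K ⊓ cj c K`
    obtain ⟨x₀, hx₀X, hx₀1⟩ : ∃ x₀ ∈ X, x₀ ≠ 1 := by
      rcases Subgroup.bot_or_exists_ne_one X with hb | h
      · rw [hb, Subgroup.card_bot] at hX
        exact absurd hX Nat.not_prime_one
      · exact h
    have hcZ : c ∈ K ⊔ kstar M K := by
      by_contra hcZ
      have h1 := hD.fus2 c hcM hcZ
      have h2 : x₀ ∈ K ⊓ cj c K := by
        refine Subgroup.mem_inf.mpr ⟨hXK hx₀X, ?_⟩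
        rw [← hK'eq]
        exact hKtsK' (hXKts hx₀X)
      rw [h1, Subgroup.mem_bot] at h2
      exact hx₀1 h2
    obtain ⟨-, hNK, -⟩ := (h30 M hM K hK hK1).2.2 X hXK hX
    have hcN : c ∈ Subgroup.normalizer (K : Set G) := by
      have : c ∈ M ⊓ Subgroup.normalizer (K : Set G) := by rw [hNK]; exact hcZ
      exact this.2
    rw [hK'eq, cj_eq_self_of_mem_normalizer hcN] at hKtsK'
    exact hKtsK'
  refine ⟨Kt, hKt, hKt1, le_antisymm (sup_le hKtZ (hKtsK.trans le_sup_left)) hZle, hXKts, hKsKt,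
    hKtsK, hnc⟩

end Part1

section Part2

variable {G : Type*} [Group G] [Finite G]

/-- in a product `A B` of elementwise commuting subgroups of coprime orders, an element of order
prime to `|A|` lies in `B`. -/
theorem mem_right_of_coprime {A B : Subgroup G} (hcomm : ∀ a ∈ A, ∀ b ∈ B, a * b = b * a)
    (hcop : (Nat.card A).Coprime (Nat.card B)) {z : G} (hz : z ∈ A ⊔ B)
    (hzA : (orderOf z).Coprime (Nat.card A)) : z ∈ B := by
  obtain ⟨a, ha, b, hb, rfl⟩ := mem_sup_of_commute' hcomm hz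
  have hpow : (a * b) ^ Nat.card B = a ^ Nat.card B := by
    rw [(show Commute a b from hcomm a ha b hb).mul_pow, KData.pow_card_of_mem hb, mul_one]
  have h1 : orderOf (a ^ Nat.card B) ∣ orderOf (a * b) := by
    rw [← hpow]; exact orderOf_pow_dvd _
  have h2 : orderOf (a ^ Nat.card B) ∣ Nat.card A := by
    have := orderOf_dvd_natCard (⟨a ^ Nat.card B, A.pow_mem ha _⟩ : ↥A)
    rwa [Subgroup.orderOf_mk] at this
  have h3 : orderOf (a ^ Nat.card B) = 1 := Nat.eq_one_of_dvd_coprimes hzA h1 h2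
  have h4 : a ^ Nat.card B = 1 := orderOf_eq_one_iff.mp h3
  have h5 : a = 1 := by
    by_contra hne
    exact KData.pow_ne_one_of_coprime ha hne hcop.symm h4
  rw [h5, one_mul]
  exact hb

theorem mem_left_of_coprime {A B : Subgroup G} (hcomm : ∀ a ∈ A, ∀ b ∈ B, a * b = b * a)
    (hcop : (Nat.card A).Coprime (Nat.card B)) {z : G} (hz : z ∈ A ⊔ B)
    (hzB : (orderOf z).Coprime (Nat.card B)) : z ∈ A := by
  rw [sup_comm] at hz
  exact mem_right_of_coprime (fun b hb a ha => (hcomm a ha b hb).symm) hcop.symm hz hzB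

/-- a Hall `κ(M)`-subgroup has order prime to `|M_σ|`. -/
theorem coprime_card_sigmaCore (hG : IsMinSimpleOddOrder G) {M K : Subgroup G} (hM : IsCoatom M)
    (hK : IsPiHallOf (kappa M) K M) : (Nat.card K).Coprime (Nat.card (sigmaCore M)) := by
  apply Nat.coprime_of_dvd
  intro q hq hd1 hd2
  exact (hK.2.1 q hq hd1).2.2.1 (mem_sigma_of_dvd_card_sigmaCore hG hM hq hd2)

/-- an element of `Z` whose order involves only primes of `σ(M)` lies in `K*`. -/
theorem PP.mem_kstar (hG : IsMinSimpleOddOrder G) (h30 : P1430 G) (h31 : P1431 G)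
    {Z M K : Subgroup G} (h : PP Z M K) {z : G} (hz : z ∈ Z)
    (hzσ : ∀ p : ℕ, p.Prime → p ∣ orderOf z → p ∈ sigma M) : z ∈ kstar M K := by
  have hD := h.kdata h30 h31
  rw [← h.eq] at hz
  apply mem_right_of_coprime (fun a ha b hb => hD.commute ha hb) (hD.coprime hG) hz
  apply Nat.coprime_of_dvd
  intro q hq hd1 hd2
  exact (h.hall.2.1 q hq hd2).2.2.1 (hzσ q hq hd1)

/-- an element of `Z` whose order is prime to `|K*|` lies in `K`. -/
theorem PP.mem_K (hG : IsMinSimpleOddOrder G) (h30 : P1430 G) (h31 : P1431 G)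
    {Z M K : Subgroup G} (h : PP Z M K) {z : G} (hz : z ∈ Z)
    (hzσ : (orderOf z).Coprime (Nat.card (kstar M K))) : z ∈ K := by
  have hD := h.kdata h30 h31
  rw [← h.eq] at hz
  exact mem_left_of_coprime (fun a ha b hb => hD.commute ha hb) (hD.coprime hG) hz hzσ

theorem PP.kstar_eq (hG : IsMinSimpleOddOrder G) (h30 : P1430 G) (h31 : P1431 G)
    {Z M K : Subgroup G} (h : PP Z M K) : kstar M K = Z ⊓ sigmaCore M := by
  apply le_antisymm
  · refine le_inf ?_ inf_le_left
    rw [← h.eq]; exact le_sup_right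
  · intro z hz
    apply h.mem_kstar hG h30 h31 hz.1
    intro p hp hpd
    apply mem_sigma_of_dvd_card_sigmaCore hG h.coatom hp
    have := orderOf_dvd_natCard (⟨z, hz.2⟩ : ↥(sigmaCore M))
    rw [Subgroup.orderOf_mk] at this
    exact hpd.trans this

theorem PP.le (hG : IsMinSimpleOddOrder G) {Z M K : Subgroup G} (h : PP Z M K) : Z ≤ M := by
  rw [← h.eq]
  exact sup_le h.hall.1 (inf_le_left.trans (sigmaCore_le M))

theorem PP.card_eq (hG : IsMinSimpleOddOrder G) (h30 : P1430 G) (h31 : P1431 G)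
    {Z M K : Subgroup G} (h : PP Z M K) :
    Nat.card Z = Nat.card K * Nat.card (kstar M K) := by
  have hD := h.kdata h30 h31
  have hn : kstar M K ≤ Subgroup.normalizer (K : Set G) :=
    inf_le_right.trans (Subgroup.centralizer_le_normalizer _)
  have h1 := Cfsg.H5.card_sup_mul_card_inf hn
  rw [inf_comm, hD.inf_eq_bot hG, Subgroup.card_bot, mul_one, sup_comm, mul_comm, h.eq] at h1
  exact h1

/-- distinct members of the family of `Z`-pairs are not conjugate. -/
theorem PP.eq_of_conj (hG : IsMinSimpleOddOrder G) (h30 : P1430 G) (h31 : P1431 G)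
    {Z L K L' K' : Subgroup G} (h : PP Z L K) (h' : PP Z L' K') {g : G} (hg : L' = cj g L) :
    L' = L := by
  have hD := h.kdata h30 h31
  obtain ⟨z, hz, hz1⟩ := exists_ne_one_of_ne_bot (hD.kstar_ne_bot hG)
  have hzZ : z ∈ Z := by rw [← h.eq]; exact Subgroup.mem_sup_right hz
  have hz' : z ∈ kstar L' K' := by
    apply h'.mem_kstar hG h30 h31 hzZ
    intro p hp hpd
    rw [hg, sigma_cj h.coatom g]
    apply mem_sigma_of_dvd_card_sigmaCore hG h.coatom hp
    have := orderOf_dvd_natCard (⟨z, hz.1⟩ : ↥(sigmaCore L))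
    rw [Subgroup.orderOf_mk] at this
    exact hpd.trans this
  have hzL' : z ∈ L' := sigmaCore_le L' hz'.1
  by_cases hgL : g ∈ L
  · rw [hg, cj_eq_self_of_mem hgL]
  · exfalso
    have h1 := hD.fus1 g hgL
    have h2 : z ∈ kstar L K ⊓ cj g L := Subgroup.mem_inf.mpr ⟨hz, hg ▸ hzL'⟩
    rw [h1, Subgroup.mem_bot] at h2
    exact hz1 h2

/-- members of the family sharing a prime of `σ` coincide. -/
theorem PP.eq_of_sigma (hG : IsMinSimpleOddOrder G) (h30 : P1430 G) (h31 : P1431 G)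
    {Z L K L' K' : Subgroup G} (h : PP Z L K) (h' : PP Z L' K') {p : ℕ} (hp : p ∈ sigma L)
    (hp' : p ∈ sigma L') : L' = L := by
  obtain ⟨g, hg⟩ := (Cfsg.Agent.S1378.result hG).2 L L' h.coatom h'.coatom ⟨p, hp, hp'⟩
  exact h.eq_of_conj hG h30 h31 h' hg

/-- the normalizer of a nontrivial subgroup is proper. -/
theorem normalizer_ne_top' (hG : IsMinSimpleOddOrder G) {X : Subgroup G} (hX1 : X ≠ ⊥)
    (hXt : X ≠ ⊤) : Subgroup.normalizer (X : Set G) ≠ ⊤ := by
  intro h
  have hn : X.Normal := Subgroup.normalizer_eq_top_iff.mp h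
  rcases hG.2.1.eq_bot_or_eq_top_of_normal X hn with h1 | h1
  · exact hX1 h1
  · exact hXt h1

end Part2

section Part3

variable {G : Type*} [Group G] [Finite G]

/-- every prime of `|Z|` lies in `σ(L)` for a member `L` of the family. -/
theorem PP.exists_of_prime (hG : IsMinSimpleOddOrder G) (h30 : P1430 G) (h31 : P1431 G)
    {Z M K : Subgroup G} (h : PP Z M K) {p : ℕ} (hp : p.Prime) (hpZ : p ∣ Nat.card Z) :
    ∃ L K' : Subgroup G, PP Z L K' ∧ p ∈ sigma L ∧ p ∣ Nat.card (kstar L K') := by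
  haveI : Fact p.Prime := ⟨hp⟩
  rw [h.card_eq hG h30 h31] at hpZ
  rcases (Nat.Prime.dvd_mul hp).mp hpZ with hd | hd
  · obtain ⟨x, hx⟩ := exists_prime_orderOf_dvd_card' (G := ↥K) p hd
    have hxK : (x : G) ∈ K := x.2
    have hxo : orderOf (x : G) = p := by rw [Subgroup.orderOf_coe, hx]
    have hXK : Subgroup.zpowers (x : G) ≤ K := Subgroup.zpowers_le.mpr hxK
    have hXc : Nat.card (Subgroup.zpowers (x : G)) = p := by rw [Nat.card_zpowers, hxo]
    have hX1 : Subgroup.zpowers (x : G) ≠ ⊥ := by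
      intro hb
      rw [hb, Subgroup.card_bot] at hXc
      exact hp.one_lt.ne hXc
    have hXt : Subgroup.zpowers (x : G) ≠ ⊤ :=
      ne_top_of_le_isCoatom h.coatom (hXK.trans h.hall.1)
    obtain ⟨H, hH, hNH⟩ := exists_isCoatom_ge (normalizer_ne_top' hG hX1 hXt)
    obtain ⟨Kt, hKt, hKt1, hZeq, hXKts, -, -, -⟩ :=
      closure hG h30 h31 h.coatom h.hall h.ne_bot hXK (by rw [hXc]; exact hp) hH hNH
    refine ⟨H, Kt, ⟨hH, hKt, hKt1, hZeq.trans h.eq⟩, ?_, ?_⟩
    · apply mem_sigma_of_dvd_card_sigmaCore hG hH hp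
      rw [← hXc]
      exact Subgroup.card_dvd_of_le (hXKts.trans inf_le_left)
    · rw [← hXc]
      exact Subgroup.card_dvd_of_le hXKts
  · exact ⟨M, K, h, mem_sigma_of_dvd_card_sigmaCore hG h.coatom hp
      (hd.trans (Subgroup.card_dvd_of_le inf_le_left)), hd⟩

/-- `W`: the elements of `Z` lying in no `L_σ`, `L` in the family. -/
def WW (Z : Subgroup G) : Set G :=
  {z | z ∈ Z ∧ ∀ L K : Subgroup G, PP Z L K → z ∉ sigmaCore L}

theorem orderOf_dvd_card_of_mem {H : Subgroup G} {z : G} (hz : z ∈ H) :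
    orderOf z ∣ Nat.card H := by
  have := orderOf_dvd_natCard (⟨z, hz⟩ : ↥H)
  rwa [Subgroup.orderOf_mk] at this

theorem orderOf_conj' (g z : G) : orderOf (g * z * g⁻¹) = orderOf z := by
  have : g * z * g⁻¹ = MulAut.conj g z := by simp [MulAut.conj_apply]
  rw [this]
  exact MulEquiv.orderOf_eq (MulAut.conj g) z

/-- an element of `W` lies in `Ẑ(L, K')` for the member `L` attached to any prime of its order. -/
theorem exists_zhat (hG : IsMinSimpleOddOrder G) (h30 : P1430 G) (h31 : P1431 G)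
    {Z M K : Subgroup G} (h : PP Z M K) {z : G} (hz : z ∈ WW Z) :
    ∃ L K' : Subgroup G, PP Z L K' ∧ z ∈ zhat L K' ∧
      ∃ p : ℕ, p.Prime ∧ p ∣ orderOf z ∧ p ∈ sigma L := by
  have hz1 : z ≠ 1 := by
    rintro rfl
    exact hz.2 M K h (Subgroup.one_mem _)
  have ho : orderOf z ≠ 1 := fun ho => hz1 (orderOf_eq_one_iff.mp ho)
  obtain ⟨p, hp, hpz⟩ := Nat.exists_prime_and_dvd ho
  obtain ⟨L, K', hL, hpσ, -⟩ :=
    h.exists_of_prime hG h30 h31 hp (hpz.trans (orderOf_dvd_card_of_mem hz.1))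
  refine ⟨L, K', hL, ⟨?_, ?_⟩, p, hp, hpz, hpσ⟩
  · rw [hL.eq]; exact hz.1
  · rintro (hzK | hzK)
    · have : p ∣ Nat.card K' := hpz.trans (orderOf_dvd_card_of_mem hzK)
      exact (hL.hall.2.1 p hp this).2.2.1 hpσ
    · exact hz.2 L K' hL hzK.1

/-- fusion of elements of `W` is controlled by `Z`. -/
theorem mem_of_fuses_WW (hG : IsMinSimpleOddOrder G) (h30 : P1430 G) (h31 : P1431 G)
    {Z M K : Subgroup G} (h : PP Z M K) {g z : G} (hz : z ∈ WW Z)
    (hgz : g * z * g⁻¹ ∈ WW Z) : g ∈ Z := by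
  obtain ⟨L, K', hL, hzh, p, hp, hpz, hpσ⟩ := exists_zhat hG h30 h31 h hz
  have hD := hL.kdata h30 h31
  rw [← hL.eq]
  apply hD.mem_of_fuses hG hzh
  refine ⟨?_, ?_⟩
  · rw [hL.eq]; exact hgz.1
  · rintro (hzK | hzK)
    · have : p ∣ Nat.card K' := by
        have := orderOf_dvd_card_of_mem hzK
        rw [orderOf_conj'] at this
        exact hpz.trans this
      exact (hL.hall.2.1 p hp this).2.2.1 hpσ
    · exact hgz.2 L K' hL hzK.1

/-- `Z` normalizes `W`. -/
theorem conj_mem_WW (hG : IsMinSimpleOddOrder G) {Z : Subgroup G} {g z : G} (hg : g ∈ Z)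
    (hz : z ∈ WW Z) : g * z * g⁻¹ ∈ WW Z := by
  refine ⟨Z.mul_mem (Z.mul_mem hg hz.1) (Z.inv_mem hg), ?_⟩
  intro L K hL hc
  apply hz.2 L K hL
  have hgL : g ∈ L := hL.le hG hg
  have hn := le_normalizer_sigmaCore L (L.inv_mem hgL)
  have := conj_mem_of_mem_normalizer hn hc
  have e : g⁻¹ * (g * z * g⁻¹) * g⁻¹⁻¹ = z := by group
  rwa [e] at this

/-- the centralizer of an element of `W` lies in `Z`. -/
theorem centralizer_le_of_mem_WW (hG : IsMinSimpleOddOrder G) (h30 : P1430 G) (h31 : P1431 G)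
    {Z M K : Subgroup G} (h : PP Z M K) {z : G} (hz : z ∈ WW Z) :
    Subgroup.centralizer ({z} : Set G) ≤ Z := by
  obtain ⟨L, K', hL, hzh, -⟩ := exists_zhat hG h30 h31 h hz
  have hD := hL.kdata h30 h31
  obtain ⟨k, hk, y, hy, hk1, hy1, rfl⟩ := (hD.mem_zhat_iff hG).mp hzh
  have hcop := hD.coprime hG
  have hcomm : Commute k y := hD.commute hk hy
  intro c hc
  have hcz : c * (k * y) = (k * y) * c :=
    ((Subgroup.mem_centralizer_iff.mp hc) (k * y) (Set.mem_singleton _)).symm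
  have hcpow : ∀ n : ℕ, c * (k * y) ^ n = (k * y) ^ n * c := fun n =>
    ((show Commute c (k * y) from hcz).pow_right n)
  -- `c ∈ L`
  have hcL : c ∈ L := by
    have h1 : (k * y) ^ Nat.card K' = y ^ Nat.card K' := by
      rw [hcomm.mul_pow, KData.pow_card_of_mem hk, one_mul]
    have h2 : y ^ Nat.card K' ≠ 1 := KData.pow_ne_one_of_coprime hy hy1 hcop
    have h3 : y ^ Nat.card K' ∈ kstar L K' := Subgroup.pow_mem _ hy _
    apply centralizer_le_of_mem_kstar h31 hL.coatom hL.hall hL.ne_bot h3 h2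
    rw [Subgroup.mem_centralizer_iff]
    intro w hw
    rw [Set.mem_singleton_iff] at hw
    rw [hw, ← h1]
    exact (hcpow _).symm
  -- a power of prime order in `K'`
  have h1 : (k * y) ^ Nat.card (kstar L K') = k ^ Nat.card (kstar L K') := by
    rw [hcomm.mul_pow, KData.pow_card_of_mem hy, mul_one]
  have h2 : k ^ Nat.card (kstar L K') ≠ 1 := KData.pow_ne_one_of_coprime hk hk1 hcop.symm
  set k' := k ^ Nat.card (kstar L K') with hk'
  have hk'K : k' ∈ K' := Subgroup.pow_mem _ hk _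
  have ho : orderOf k' ≠ 1 := fun ho => h2 (orderOf_eq_one_iff.mp ho)
  obtain ⟨q, hq, hqd⟩ := Nat.exists_prime_and_dvd ho
  have hwo := Cfsg.Agent.Lib.Helper11.BG14.orderOf_pow_div hqd
  set w := k' ^ (orderOf k' / q) with hw
  have hwK : w ∈ K' := Subgroup.pow_mem _ hk'K _
  have hXK : Subgroup.zpowers w ≤ K' := Subgroup.zpowers_le.mpr hwK
  have hXc : (Nat.card (Subgroup.zpowers w)).Prime := by rw [Nat.card_zpowers, hwo]; exact hq
  obtain ⟨hNX, -, -⟩ := (h30 L hL.coatom K' hL.hall hL.ne_bot).2.2 _ hXK hXc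
  have hcw : c ∈ Subgroup.centralizer ({w} : Set G) := by
    rw [Subgroup.mem_centralizer_iff]
    intro v hv
    rw [Set.mem_singleton_iff] at hv
    rw [hv, hw, ← h1, ← pow_mul]
    exact (hcpow _).symm
  have hcN := Cfsg.Agent.Lib.Helper11.BG12.centralizer_singleton_le_normalizer_zpowers w hcw
  have : c ∈ L ⊓ Subgroup.normalizer (Subgroup.zpowers w : Set G) := ⟨hcL, hcN⟩
  rw [hNX, hL.eq] at this
  exact this

/-- an element of `W` does not lie in `L̃` for `L` in the family. -/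
theorem not_mem_tilde_of_mem_WW (hG : IsMinSimpleOddOrder G) (h30 : P1430 G) (h31 : P1431 G)
    {Z M K L K' : Subgroup G} (h : PP Z M K) (hL : PP Z L K') {z : G} (hz : z ∈ WW Z) :
    z ∉ tildeOf L ((sigmaCore L : Set G) \ {1}) := by
  rintro ⟨a, ⟨haσ, ha1⟩, r, hr, y, hzy⟩
  have hD := hL.kdata h30 h31
  have hra : r * a = a * r := by
    have := supportR_le_centralizer L a hr
    exact (Subgroup.mem_centralizer_iff.mp this) a (Set.mem_singleton _) |>.symm
  -- `a' = y a y⁻¹` centralizes `z`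
  have ha'c : y * a * y⁻¹ ∈ Subgroup.centralizer ({z} : Set G) := by
    rw [Subgroup.mem_centralizer_iff]
    intro v hv
    rw [Set.mem_singleton_iff] at hv
    rw [hv, hzy]
    have e1 : y * (a * r) * y⁻¹ * (y * a * y⁻¹) = y * (a * (r * a)) * y⁻¹ := by group
    have e2 : y * a * y⁻¹ * (y * (a * r) * y⁻¹) = y * (a * (a * r)) * y⁻¹ := by group
    rw [e1, e2, hra]
  have ha'Z : y * a * y⁻¹ ∈ Z := centralizer_le_of_mem_WW hG h30 h31 h hz ha'c
  have ha'Ks : y * a * y⁻¹ ∈ kstar L K' := by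
    apply hL.mem_kstar hG h30 h31 ha'Z
    intro p hp hpd
    rw [orderOf_conj'] at hpd
    exact mem_sigma_of_dvd_card_sigmaCore hG hL.coatom hp
      (hpd.trans (orderOf_dvd_card_of_mem haσ))
  have ha'1 : y * a * y⁻¹ ≠ 1 := by
    intro h1
    apply ha1
    have : a = y⁻¹ * (y * a * y⁻¹) * y := by group
    rw [Set.mem_singleton_iff, this, h1]; group
  have hyL : y ∈ L := by
    by_contra hyL
    have h1 := hD.fus1 y hyL
    have h2 : y * a * y⁻¹ ∈ kstar L K' ⊓ cj y L :=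
      Subgroup.mem_inf.mpr ⟨ha'Ks, conj_mem_cj (sigmaCore_le L haσ)⟩
    rw [h1, Subgroup.mem_bot] at h2
    exact ha'1 h2
  have hCa' := centralizer_le_of_mem_kstar h31 hL.coatom hL.hall hL.ne_bot ha'Ks ha'1
  have hCa : Subgroup.centralizer ({a} : Set G) ≤ L := by
    rw [centralizer_singleton_cj] at hCa'
    have := cj_mono y⁻¹ hCa'
    rw [cj_inv_cj, cj_eq_self_of_mem (L.inv_mem hyL)] at this
    exact this
  rw [supportR_of_le hCa, Subgroup.mem_bot] at hr
  rw [hr, mul_one] at hzy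
  apply hz.2 L K' hL
  rw [hzy]
  exact ha'Ks.1

end Part3

section Part4

variable {G : Type*} [Group G] [Finite G]

/-- the union of the conjugates of a set. -/
def conjSet (W : Set G) : Set G := {a : G | ∃ g : G, ∃ z ∈ W, a = g * z * g⁻¹}

/-- counting the conjugates of a subset `W` normalized by a subgroup `Z` controlling its
fusion: `|𝒞(W)| |Z| = |W| |G|`. -/
theorem ncard_conjSet_mul (Z : Subgroup G) (W : Set G)
    (hnorm : ∀ g ∈ Z, ∀ z ∈ W, g * z * g⁻¹ ∈ W)
    (hfus : ∀ g z : G, z ∈ W → g * z * g⁻¹ ∈ W → g ∈ Z) :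
    Set.ncard (conjSet W) * Nat.card Z = Set.ncard W * Nat.card G := by
  classical
  have hch : ∀ a : ↥(conjSet W), ∃ p : G × G, p.2 ∈ W ∧ (a : G) = p.1 * p.2 * p.1⁻¹ := by
    rintro ⟨a, g, z, hz, rfl⟩
    exact ⟨(g, z), hz, rfl⟩
  choose rep hrepW hrep using hch
  let Φ : ↥(conjSet W) × ↥Z → G × ↥W := fun x =>
    ((rep x.1).1 * (x.2 : G)⁻¹,
      ⟨(x.2 : G) * (rep x.1).2 * (x.2 : G)⁻¹, hnorm _ x.2.2 _ (hrepW x.1)⟩)
  have hΦ1 : ∀ x, (Φ x).1 * ((Φ x).2 : G) * (Φ x).1⁻¹ = (x.1 : G) := by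
    intro x
    rw [hrep x.1]
    show (rep x.1).1 * (x.2 : G)⁻¹ * ((x.2 : G) * (rep x.1).2 * (x.2 : G)⁻¹) *
      ((rep x.1).1 * (x.2 : G)⁻¹)⁻¹ = _
    group
  have hinj : Function.Injective Φ := by
    intro x x' hxx'
    have h1 : (x.1 : G) = (x'.1 : G) := by rw [← hΦ1 x, ← hΦ1 x', hxx']
    have h1' : x.1 = x'.1 := Subtype.ext h1
    have h2 : (rep x.1).1 * (x.2 : G)⁻¹ = (rep x'.1).1 * (x'.2 : G)⁻¹ :=
      congrArg Prod.fst hxx'
    rw [h1'] at h2
    have h3 : (x.2 : G) = (x'.2 : G) := by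
      have := mul_left_cancel h2
      exact inv_injective this
    exact Prod.ext h1' (Subtype.ext h3)
  have hsurj : Function.Surjective Φ := by
    rintro ⟨g, ⟨z, hz⟩⟩
    have ha : g * z * g⁻¹ ∈ conjSet W := ⟨g, z, hz, rfl⟩
    set a : ↥(conjSet W) := ⟨g * z * g⁻¹, ha⟩ with hadef
    have hra : g * z * g⁻¹ = (rep a).1 * (rep a).2 * (rep a).1⁻¹ := hrep a
    have hz' : g⁻¹ * (rep a).1 * (rep a).2 * (g⁻¹ * (rep a).1)⁻¹ = z := by
      have : g⁻¹ * (rep a).1 * (rep a).2 * (g⁻¹ * (rep a).1)⁻¹ =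
          g⁻¹ * ((rep a).1 * (rep a).2 * (rep a).1⁻¹) * g := by group
      rw [this, ← hra]
      group
    have hh : g⁻¹ * (rep a).1 ∈ Z := by
      apply hfus _ _ (hrepW a)
      rw [hz']
      exact hz
    refine ⟨(a, ⟨g⁻¹ * (rep a).1, hh⟩), ?_⟩
    apply Prod.ext
    · show (rep a).1 * (g⁻¹ * (rep a).1)⁻¹ = g
      group
    · apply Subtype.ext
      show g⁻¹ * (rep a).1 * (rep a).2 * (g⁻¹ * (rep a).1)⁻¹ = z
      exact hz'
  have hcard := Nat.card_congr (Equiv.ofBijective Φ ⟨hinj, hsurj⟩)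
  rw [Nat.card_prod, Nat.card_prod, Nat.card_coe_set_eq, Nat.card_coe_set_eq] at hcard
  rw [hcard, mul_comm]

end Part4

section Part5

variable {G : Type*} [Group G] [Finite G]

theorem ncard_biUnion_le {ι : Type*} [DecidableEq ι] (s : Finset ι) (f : ι → Set G) :
    (⋃ i ∈ s, f i).ncard ≤ ∑ i ∈ s, (f i).ncard := by
  induction s using Finset.induction_on with
  | empty => simp
  | insert a s ha ih =>
    rw [Finset.set_biUnion_insert, Finset.sum_insert ha]
    exact (Set.ncard_union_le _ _).trans (Nat.add_le_add_left ih _)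

theorem ncard_biUnion_eq {ι : Type*} [DecidableEq ι] (s : Finset ι) (f : ι → Set G)
    (hd : ∀ i ∈ s, ∀ j ∈ s, i ≠ j → f i ∩ f j = ∅) :
    (⋃ i ∈ s, f i).ncard = ∑ i ∈ s, (f i).ncard := by
  induction s using Finset.induction_on with
  | empty => simp
  | insert a s ha ih =>
    rw [Finset.set_biUnion_insert, Finset.sum_insert ha]
    have hdis : Disjoint (f a) (⋃ i ∈ s, f i) := by
      rw [Set.disjoint_left]
      intro x hxa hxs
      simp only [Set.mem_iUnion] at hxs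
      obtain ⟨i, hi, hxi⟩ := hxs
      have hne : a ≠ i := by
        rintro rfl
        exact ha hi
      have := hd a (Finset.mem_insert_self a s) i (Finset.mem_insert_of_mem hi) hne
      have hx : x ∈ f a ∩ f i := ⟨hxa, hxi⟩
      rw [this] at hx
      exact hx
    rw [Set.ncard_union_eq hdis (Set.toFinite _) (Set.toFinite _), ih]
    intro i hi j hj hij
    exact hd i (Finset.mem_insert_of_mem hi) j (Finset.mem_insert_of_mem hj) hij

/-- `Z` is a proper subgroup of `L`, of index at least `3`. -/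
theorem PP.three_mul_card_le (hG : IsMinSimpleOddOrder G) (h30 : P1430 G) (h31 : P1431 G)
    {Z L K : Subgroup G} (h : PP Z L K) : 3 * Nat.card Z ≤ Nat.card L := by
  have hZL : Z ≤ L := h.le hG
  obtain ⟨a, ha⟩ := Subgroup.card_dvd_of_le hZL
  have hodd : Odd (Nat.card L) := odd_card_subgroup hG L
  have hLpos : 0 < Nat.card L := Nat.card_pos
  have hD := h.kdata h30 h31
  have ha1 : a ≠ 1 := by
    intro h1
    rw [h1, mul_one] at ha
    have hZeq : Z = L := Subgroup.eq_of_le_of_card_ge hZL ha.le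
    have hKs1 := hD.kstar_ne_bot hG
    obtain ⟨p, hp, hpd⟩ := Nat.exists_prime_and_dvd
      (fun h1 : Nat.card (kstar L K) = 1 => hKs1 (Subgroup.card_eq_one.mp h1))
    haveI : Fact p.Prime := ⟨hp⟩
    obtain ⟨S⟩ := (inferInstance : Nonempty (Sylow p ↥(sigmaCore L)))
    have h3 := ((h31 L h.coatom K h.hall h.ne_bot).2.2.1 p hp hpd S).2.2
    apply h3
    have hks : sigmaCore L ⊓ Subgroup.centralizer (K : Set G) = Z ⊓ sigmaCore L :=
      h.kstar_eq hG h30 h31
    rw [hks, hZeq]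
    refine le_inf ((Subgroup.map_subtype_le _).trans (sigmaCore_le L)) (Subgroup.map_subtype_le _)
  have ha0 : a ≠ 0 := by
    intro h0
    rw [h0, mul_zero] at ha
    omega
  have ha2 : a ≠ 2 := by
    intro h2
    rw [h2] at ha
    rw [ha] at hodd
    exact (Nat.not_odd_iff_even.mpr (even_two.mul_left _)) hodd
  have ha3 : 3 ≤ a := by omega
  rw [ha]
  calc 3 * Nat.card Z = Nat.card Z * 3 := by ring
    _ ≤ Nat.card Z * a := Nat.mul_le_mul_left _ ha3

/-- the per-member inequality of the count. -/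
theorem PP.count_ineq (hG : IsMinSimpleOddOrder G) (h30 : P1430 G) (h31 : P1431 G)
    (h77 : BGStubs2.P1377 G) {Z L K : Subgroup G} (h : PP Z L K)
    (hP1 : Nat.card L = Nat.card K * Nat.card (sigmaCore L)) :
    3 * Nat.card (Z ⊓ sigmaCore L : Subgroup G) * Nat.card G ≤
      3 * Nat.card Z * Set.ncard (tildeOf L ((sigmaCore L : Set G) \ {1})) + Nat.card G := by
  rw [h77 L h.coatom, ← h.kstar_eq hG h30 h31]
  have h1 := h.card_eq hG h30 h31
  have h2 := h.three_mul_card_le hG h30 h31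
  have h3 : Nat.card L * L.index = Nat.card G := Subgroup.card_mul_index L
  have hs : 1 ≤ Nat.card (sigmaCore L) := Nat.card_pos
  obtain ⟨s, hs'⟩ : ∃ s, Nat.card (sigmaCore L) = s + 1 := ⟨_, (Nat.sub_add_cancel hs).symm⟩
  rw [hs'] at hP1 ⊢
  simp only [Nat.add_sub_cancel]
  set k := Nat.card K
  set a := Nat.card (kstar L K)
  set z := Nat.card Z
  set i := L.index
  set g := Nat.card G
  rw [hP1] at h3 h2
  rw [h1] at h2 ⊢
  have h4 : 3 * (k * a) * i ≤ g := by
    rw [← h3]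
    exact Nat.mul_le_mul_right _ h2
  have h5 : 3 * a * g = 3 * (k * a) * (s * i) + 3 * (k * a) * i := by
    rw [← h3]; ring
  rw [h5]
  omega

/-- **The count**: not all members of the family are of type `𝒫₁`. -/
theorem exists_not_P1 (hG : IsMinSimpleOddOrder G) (h30 : P1430 G) (h31 : P1431 G)
    (h77 : BGStubs2.P1377 G) (h33 : BGStubs2.P1433 G) {Z M K : Subgroup G} (h : PP Z M K) :
    ∃ L K' : Subgroup G, PP Z L K' ∧ Nat.card L ≠ Nat.card K' * Nat.card (sigmaCore L) := by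
  classical
  by_contra hcon
  push_neg at hcon
  -- the family
  set F : Finset (Subgroup G) := (Set.toFinite {L : Subgroup G | ∃ K', PP Z L K'}).toFinset with hF
  have hmemF : ∀ L, L ∈ F ↔ ∃ K', PP Z L K' := by
    intro L
    rw [hF, Set.Finite.mem_toFinset, Set.mem_setOf_eq]
  set t : Subgroup G → Set G := fun L => tildeOf L ((sigmaCore L : Set G) \ {1}) with ht
  set A : Subgroup G → Set G := fun L => ((Z ⊓ sigmaCore L : Subgroup G) : Set G) \ {1} with hA
  set W := WW Z with hW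
  set CW := conjSet W with hCW
  -- (v) at least two members
  have hn : 2 ≤ F.card := by
    obtain ⟨X, hXK, hXp⟩ := Cfsg.Agent.Lib.Helper3.BG14.exists_prime_card_le h.ne_bot
    have hX1 : X ≠ ⊥ := by
      intro hb
      rw [hb, Subgroup.card_bot] at hXp
      exact Nat.not_prime_one hXp
    have hXt : X ≠ ⊤ := ne_top_of_le_isCoatom h.coatom (hXK.trans h.hall.1)
    obtain ⟨H, hH, hNH⟩ := exists_isCoatom_ge (normalizer_ne_top' hG hX1 hXt)
    obtain ⟨Kt, hKt, hKt1, hZeq, -, -, -, hnc⟩ :=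
      closure hG h30 h31 h.coatom h.hall h.ne_bot hXK hXp hH hNH
    have hHF : H ∈ F := (hmemF H).mpr ⟨Kt, hH, hKt, hKt1, hZeq.trans h.eq⟩
    have hMF : M ∈ F := (hmemF M).mpr ⟨K, h⟩
    have hHM : H ≠ M := by
      intro e
      apply hnc 1
      rw [cj_one]
      exact e
    have hsub : ({H, M} : Finset (Subgroup G)) ⊆ F := by
      intro x hx
      rcases Finset.mem_insert.mp hx with rfl | hx
      · exact hHF
      · rw [Finset.mem_singleton.mp hx]; exact hMF
    calc 2 = ({H, M} : Finset (Subgroup G)).card := (Finset.card_pair hHM).symm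
      _ ≤ F.card := Finset.card_le_card hsub
  -- (i) summed
  have hi : 3 * (∑ L ∈ F, Nat.card (Z ⊓ sigmaCore L : Subgroup G)) * Nat.card G ≤
      3 * Nat.card Z * (∑ L ∈ F, (t L).ncard) + F.card * Nat.card G := by
    have hterm : ∀ L ∈ F, 3 * Nat.card (Z ⊓ sigmaCore L : Subgroup G) * Nat.card G ≤
        3 * Nat.card Z * (t L).ncard + Nat.card G := by
      intro L hL
      obtain ⟨K', hK'⟩ := (hmemF L).mp hL
      exact hK'.count_ineq hG h30 h31 h77 (hcon L K' hK')
    have := Finset.sum_le_sum hterm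
    rw [Finset.sum_add_distrib, Finset.sum_const, smul_eq_mul, ← Finset.mul_sum,
      ← Finset.sum_mul, ← Finset.mul_sum] at this
    exact this
  -- (ii)
  have hii : Nat.card Z + F.card ≤ W.ncard + 1 +
      ∑ L ∈ F, Nat.card (Z ⊓ sigmaCore L : Subgroup G) := by
    have hsub : (Z : Set G) ⊆ W ∪ {1} ∪ ⋃ L ∈ F, A L := by
      intro z hz
      by_cases hzW : z ∈ W
      · exact Or.inl (Or.inl hzW)
      · by_cases hz1 : z = 1
        · exact Or.inl (Or.inr hz1)
        · right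
          have : ¬ ∀ L K' : Subgroup G, PP Z L K' → z ∉ sigmaCore L := fun hall => hzW ⟨hz, hall⟩
          push_neg at this
          obtain ⟨L, K', hL, hzL⟩ := this
          simp only [Set.mem_iUnion]
          exact ⟨L, (hmemF L).mpr ⟨K', hL⟩, ⟨hz, hzL⟩, hz1⟩
    have h1 : (Z : Set G).ncard ≤ (W ∪ {1} ∪ ⋃ L ∈ F, A L).ncard :=
      Set.ncard_le_ncard hsub (Set.toFinite _)
    have h2 : (W ∪ {1} ∪ ⋃ L ∈ F, A L).ncard ≤ W.ncard + 1 + ∑ L ∈ F, (A L).ncard := by
      refine (Set.ncard_union_le _ _).trans (Nat.add_le_add ?_ (ncard_biUnion_le F A))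
      refine (Set.ncard_union_le _ _).trans ?_
      rw [Set.ncard_singleton]
    have h3 : ∀ L ∈ F, (A L).ncard + 1 = Nat.card (Z ⊓ sigmaCore L : Subgroup G) := by
      intro L hL
      have h1mem : (1 : G) ∈ ((Z ⊓ sigmaCore L : Subgroup G) : Set G) := Subgroup.one_mem _
      have := Set.ncard_diff_singleton_add_one h1mem (Set.toFinite _)
      rw [hA]
      simp only
      rw [this]
      exact (Nat.card_coe_set_eq _).symm
    have h4 : ∑ L ∈ F, (A L).ncard + F.card =
        ∑ L ∈ F, Nat.card (Z ⊓ sigmaCore L : Subgroup G) := by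
      rw [← Finset.sum_congr rfl h3, Finset.sum_add_distrib, Finset.sum_const, smul_eq_mul,
        mul_one]
    have h5 : (Z : Set G).ncard = Nat.card Z := (Nat.card_coe_set_eq _).symm
    rw [h5] at h1
    omega
  -- (iii)
  have hiii : CW.ncard * Nat.card Z = W.ncard * Nat.card G := by
    apply ncard_conjSet_mul Z W
    · intro g hg z hz
      exact conj_mem_WW hG hg hz
    · intro g z hz hgz
      exact mem_of_fuses_WW hG h30 h31 h hz hgz
  -- (iv)
  have hiv : ∑ L ∈ F, (t L).ncard + CW.ncard ≤ Nat.card G := by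
    have hd : ∀ L ∈ F, ∀ L' ∈ F, L ≠ L' → t L ∩ t L' = ∅ := by
      intro L hL L' hL' hne
      obtain ⟨K₁, hK₁⟩ := (hmemF L).mp hL
      obtain ⟨K₂, hK₂⟩ := (hmemF L').mp hL'
      apply tilde_disjoint hG h33 hK₁.coatom hK₂.coatom
      intro g hg
      exact hne (hK₁.eq_of_conj hG h30 h31 hK₂ hg).symm
    have hdis : Disjoint (⋃ L ∈ F, t L) CW := by
      rw [Set.disjoint_left]
      intro x hx hxc
      simp only [Set.mem_iUnion] at hx
      obtain ⟨L, hL, hxL⟩ := hx
      obtain ⟨K₁, hK₁⟩ := (hmemF L).mp hL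
      obtain ⟨g, z, hz, rfl⟩ := hxc
      apply not_mem_tilde_of_mem_WW hG h30 h31 h hK₁ hz
      obtain ⟨a, ha, r, hr, y, hy⟩ := hxL
      refine ⟨a, ha, r, hr, g⁻¹ * y, ?_⟩
      have : z = g⁻¹ * (g * z * g⁻¹) * g := by group
      rw [this, hy]
      group
    have h1 := Set.ncard_union_eq hdis (Set.toFinite _) (Set.toFinite _)
    rw [ncard_biUnion_eq F t hd] at h1
    rw [← h1]
    calc ((⋃ L ∈ F, t L) ∪ CW).ncard ≤ (Set.univ : Set G).ncard :=
          Set.ncard_le_ncard (Set.subset_univ _) (Set.toFinite _)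
      _ = Nat.card G := Set.ncard_univ G
  -- arithmetic
  have hg : 0 < Nat.card G := Nat.card_pos
  set n := F.card
  set S := ∑ L ∈ F, (t L).ncard
  set AA := ∑ L ∈ F, Nat.card (Z ⊓ sigmaCore L : Subgroup G)
  set z := Nat.card Z
  set g := Nat.card G
  set w := W.ncard
  set c := CW.ncard
  have e1 : 3 * z * S + 3 * z * c ≤ 3 * z * g := by
    have := Nat.mul_le_mul_left (3 * z) hiv
    rwa [mul_add] at this
  have e2 : 3 * z * c = 3 * w * g := by
    have : 3 * z * c = 3 * (c * z) := by ring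
    rw [this, hiii]; ring
  have e3 : 3 * (z + n) * g ≤ 3 * (w + 1 + AA) * g :=
    Nat.mul_le_mul_right _ (Nat.mul_le_mul_left _ hii)
  have e4 : 2 * n * g ≤ 3 * g := by nlinarith
  have e5 : 2 * n ≤ 3 := by
    by_contra hlt
    push_neg at hlt
    have : 3 * g < 2 * n * g := Nat.mul_lt_mul_of_pos_right hlt hg
    omega
  omega

end Part5

section Part6

variable {G : Type*} [Group G] [Finite G]

/-- if `|L| ≠ |K| |L_σ|` then some prime of `|L|` lies outside `σ(L) ∪ κ(L)`. -/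
theorem exists_prime_not_mem (hG : IsMinSimpleOddOrder G) {L K : Subgroup G} (hL : IsCoatom L)
    (hK : IsPiHallOf (kappa L) K L)
    (hne : Nat.card L ≠ Nat.card K * Nat.card (sigmaCore L)) :
    ∃ r : ℕ, r.Prime ∧ r ∣ Nat.card L ∧ r ∉ sigma L ∧ r ∉ kappa L := by
  by_contra hcon
  push_neg at hcon
  apply hne
  have hKL : K ≤ L := hK.1
  have hσL : sigmaCore L ≤ L := sigmaCore_le L
  have hcop := coprime_card_sigmaCore hG hL hK
  have hn : K ≤ Subgroup.normalizer (sigmaCore L : Set G) := hKL.trans (le_normalizer_sigmaCore L)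
  have h1 := Cfsg.H5.card_sup_mul_card_inf hn
  rw [Subgroup.inf_eq_bot_of_coprime hcop, Subgroup.card_bot, mul_one] at h1
  have hJL : K ⊔ sigmaCore L ≤ L := sup_le hKL hσL
  have h2 := Cfsg.Agent.Lib.Helper12.card_mul_relIndex_eq hJL
  have hj : (K ⊔ sigmaCore L).relIndex L = 1 := by
    by_contra hj1
    obtain ⟨q, hq, hqj⟩ := Nat.exists_prime_and_dvd hj1
    have hqL : q ∣ Nat.card L := by rw [← h2]; exact hqj.trans (Dvd.intro_left _ rfl)
    by_cases hqσ : q ∈ sigma L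
    · have h3 := (Cfsg.Agent.S1350.result hG L hL).1.2.2 q hq hqσ
      apply h3
      rw [← Subgroup.relIndex_mul_relIndex _ _ _ (le_sup_right : sigmaCore L ≤ K ⊔ sigmaCore L) hJL]
      exact hqj.trans (Dvd.intro_left _ rfl)
    · have hqκ := hcon q hq hqL hqσ
      apply hK.2.2 q hq hqκ
      rw [← Subgroup.relIndex_mul_relIndex _ _ _ (le_sup_left : K ≤ K ⊔ sigmaCore L) hJL]
      exact hqj.trans (Dvd.intro_left _ rfl)
  rw [hj, mul_one] at h2
  rw [← h2, h1]

/-- `U ≠ 1` forces `|K|` prime (general form, `K` not assumed cyclic). -/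
theorem card_prime_of_not_P1 (hG : IsMinSimpleOddOrder G) (h30 : P1430 G) {L K : Subgroup G}
    (hL : IsCoatom L) (hK : IsPiHallOf (kappa L) K L) (hK1 : K ≠ ⊥)
    (hne : Nat.card L ≠ Nat.card K * Nat.card (sigmaCore L)) : (Nat.card K).Prime := by
  classical
  obtain ⟨r, hr, hrL, hrσ, hrκ⟩ := exists_prime_not_mem hG hL hK hne
  haveI : Fact r.Prime := ⟨hr⟩
  obtain ⟨hprime, ⟨U, -, hUH, hKU, hfree⟩, -⟩ := h30 L hL K hK hK1
  have hUL : U ≤ L := hUH.1
  have hKL : K ≤ L := hK.1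
  have hrπ : r ∈ {q : ℕ | q.Prime ∧ q ∉ kappa L ∧ q ∉ sigma L} := ⟨hr, hrκ, hrσ⟩
  have hidx : ¬ r ∣ U.relIndex L := hUH.2.2 r hr hrπ
  have hrU : r ∣ Nat.card U := by
    have h1 := Cfsg.Agent.Lib.Helper12.card_mul_relIndex_eq hUL
    rw [← h1] at hrL
    rcases (Nat.Prime.dvd_mul hr).mp hrL with h | h
    · exact h
    · exact absurd h hidx
  have hUσ : ∀ p : ℕ, p.Prime → p ∣ Nat.card U → p ∉ sigma L := fun p hp hpU => (hUH.2.1 p hp hpU).2.2
  have hUκ : ∀ p : ℕ, p.Prime → p ∣ Nat.card U → p ∉ kappa L := fun p hp hpU => (hUH.2.1 p hp hpU).2.1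
  have hcopKU : (Nat.card K).Coprime (Nat.card U) := by
    apply Nat.coprime_of_dvd
    intro p hp hpK hpU
    exact hUκ p hp hpU (hK.2.1 p hp hpK)
  have hKsolv : Group.IsSolvable ↥K := isSolvable_of_ne_top hG (ne_top_of_le_isCoatom hL hKL)
  have hact : Cfsg.Agent.Lib.Helper1.CoprimeAct K U :=
    { norm := hKU
      cop := hcopKU
      solv := Or.inl hKsolv }
  obtain ⟨R, hRU, hKR⟩ := coprime_exists_isSylowIn hact r
  have hRM : IsSylowIn r R L := hRU.of_not_dvd_relIndex hUL hidx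
  have hmapS : ((hRM.toSylow : Sylow r ↥L) : Subgroup ↥L).map L.subtype = R := by
    rw [hRM.coe_toSylow, Subgroup.map_subgroupOf_eq_of_le hRM.le]
  have hP1 : ¬ (∀ q : ℕ, q.Prime → q ∣ Nat.card L → q ∉ sigma L → q ∈ kappa L) :=
    fun h => hrκ (h r hr hrL hrσ)
  have hmem : r ∉ sigma L ∪ kappa L := by
    rintro (h | h)
    · exact hrσ h
    · exact hrκ h
  obtain ⟨-, hCA, hnil⟩ := Cfsg.Agent.S1429.result hG L hL hP1 r hrL hmem hRM.toSylow
  rw [hmapS] at hCA
  set A : Subgroup G := Subgroup.closure {x : G | x ∈ R ∧ x ^ r = 1} with hA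
  have hAR : A ≤ R := by
    rw [hA, Subgroup.closure_le]
    intro x hx
    exact hx.1
  have hAU : A ≤ U := hAR.trans hRU.le
  have hAM : A ≤ L := hAU.trans hUL
  have hA1 : A ≠ ⊥ := by
    have hR1 : R ≠ ⊥ := by
      intro hbot
      have h1 := hRU.card_eq
      rw [hbot, Subgroup.card_bot] at h1
      have h2 : (Nat.card U).factorization r ≠ 0 := by
        intro h0
        rcases (Nat.factorization_eq_zero_iff _ _).mp h0 with h | h | h
        · exact h hr
        · exact h hrU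
        · exact Nat.card_pos.ne' h
      have : 1 < r ^ (Nat.card U).factorization r := Nat.one_lt_pow h2 hr.one_lt
      omega
    have hrR : r ∣ Nat.card R := by
      obtain ⟨n, hn⟩ := IsPGroup.iff_card.mp hRU.isPGroup
      rcases Nat.eq_zero_or_pos n with h0 | h0
      · exfalso
        apply hR1
        rw [h0, pow_zero] at hn
        exact Subgroup.card_eq_one.mp hn
      · rw [hn]
        exact dvd_pow_self r h0.ne'
    obtain ⟨x, hx⟩ := exists_prime_orderOf_dvd_card' r hrR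
    intro hbot
    have hxA : (x : G) ∈ A := by
      apply Subgroup.subset_closure
      refine ⟨x.2, ?_⟩
      rw [← hx, ← Subgroup.orderOf_coe]
      exact pow_orderOf_eq_one _
    rw [hbot, Subgroup.mem_bot] at hxA
    have : orderOf (x : G) = 1 := by rw [hxA, orderOf_one]
    rw [Subgroup.orderOf_coe, hx] at this
    exact hr.one_lt.ne' this
  have hKA : K ≤ Subgroup.normalizer (A : Set G) := by
    apply Cfsg.Agent.Lib.Helper1.le_normalizer_of_forall_conj_mem
    intro k hk n hn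
    rw [hA] at hn
    induction hn using Subgroup.closure_induction with
    | mem x hx =>
      apply Subgroup.subset_closure
      refine ⟨?_, ?_⟩
      · exact conj_mem_of_mem_normalizer (hKR hk) hx.1
      · rw [conj_pow, hx.2]; group
    | one => simp
    | mul x y _ _ hx hy =>
      have : k * (x * y) * k⁻¹ = (k * x * k⁻¹) * (k * y * k⁻¹) := by group
      rw [this]
      exact A.mul_mem hx hy
    | inv x _ hx =>
      have : k * x⁻¹ * k⁻¹ = (k * x * k⁻¹)⁻¹ := by group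
      rw [this]
      exact A.inv_mem hx
  have hUK : U ⊓ K = ⊥ := Subgroup.inf_eq_bot_of_coprime hcopKU.symm
  have hAK : A ⊓ K = ⊥ := by
    rw [eq_bot_iff, ← hUK]
    exact inf_le_inf_right K hAU
  have hfrob : ∀ k ∈ K, k ≠ 1 → A ⊓ Subgroup.centralizer ({k} : Set G) = ⊥ := by
    intro k hk hk1
    rw [eq_bot_iff, ← hfree k hk hk1]
    exact inf_le_inf_right _ hAU
  have hAKM : A ⊔ K ≤ L := sup_le hAM hKL
  have hsolv : Group.IsSolvable ↥(A ⊔ K) :=
    isSolvable_of_ne_top hG (ne_top_of_le_isCoatom hL hAKM)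
  have hcop : (Nat.card ↥(A ⊔ K)).Coprime (Nat.card (sigmaCore L)) := by
    have h1 : A ⊔ K ≤ U ⊔ K := sup_le_sup_right hAU K
    have h2 := Subgroup.card_dvd_of_le h1
    have h3 := Cfsg.H5.card_sup_mul_card_inf hKU
    rw [inf_comm, hUK, Subgroup.card_bot, mul_one, sup_comm] at h3
    rw [h3] at h2
    apply Nat.Coprime.coprime_dvd_left h2
    apply Nat.coprime_of_dvd
    intro p hp hd1 hd2
    have hpσ := mem_sigma_of_dvd_card_sigmaCore hG hL hp hd2
    rcases (Nat.Prime.dvd_mul hp).mp hd1 with h | h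
    · exact (hK.2.1 p hp h).2.2.1 hpσ
    · exact hUσ p hp h hpσ
  exact (Cfsg.Agent.S1446.result A K (sigmaCore L) hA1 hK1 hAK hKA hfrob hsolv
    (odd_card_subgroup hG _) (sigmaCore_ne_bot hG hL) hnil
    (hAM.trans (le_normalizer_sigmaCore L)) (hKL.trans (le_normalizer_sigmaCore L)) hcop hCA
    hprime).1

end Part6

section Part7

variable {G : Type*} [Group G] [Finite G]

theorem eq_of_le_of_card_prime {A B : Subgroup G} (hAB : A ≤ B) (hA1 : A ≠ ⊥)
    (hB : (Nat.card B).Prime) : A = B := by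
  apply Subgroup.eq_of_le_of_card_ge hAB
  rcases (Nat.dvd_prime hB).mp (Subgroup.card_dvd_of_le hAB) with h | h
  · exact absurd (Subgroup.card_eq_one.mp h) hA1
  · exact h.ge

/-- **B&G Theorem 14.7, existence of the partner** (relative to the frozen rows S1430, S1431,
S1377, S1433): a maximal subgroup `M` with a nontrivial Hall `κ(M)`-subgroup `K` (not assumed
cyclic) has a partner `M*` with `K = C_{M*_σ}(K*)`, `K*` a Hall `κ(M*)`-subgroup of `M*`, and `M`
or `M*` is of type `𝒫₂` (with `K`, resp. `K*`, of prime order). -/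
theorem partner (hG : IsMinSimpleOddOrder G) (h30 : P1430 G) (h31 : P1431 G)
    (h77 : BGStubs2.P1377 G) (h33 : BGStubs2.P1433 G) {M K : Subgroup G} (hM : IsCoatom M)
    (hK : IsPiHallOf (kappa M) K M) (hK1 : K ≠ ⊥) :
    ∃ Mstar : Subgroup G, IsCoatom Mstar ∧ K = kstar Mstar (kstar M K) ∧
      IsPiHallOf (kappa Mstar) (kstar M K) Mstar ∧ (∀ g : G, Mstar ≠ cj g M) ∧
      K ⊔ kstar M K ≤ Mstar ∧
      (((Nat.card K).Prime ∧ Nat.card M ≠ Nat.card K * Nat.card (sigmaCore M)) ∨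
        ((Nat.card (kstar M K)).Prime ∧
          Nat.card Mstar ≠ Nat.card (kstar M K) * Nat.card (sigmaCore Mstar))) := by
  classical
  have h : PP (K ⊔ kstar M K) M K := ⟨hM, hK, hK1, rfl⟩
  have hD := h.kdata h30 h31
  have hKs1 : kstar M K ≠ ⊥ := hD.kstar_ne_bot hG
  obtain ⟨L, K', hL, hne⟩ := exists_not_P1 hG h30 h31 h77 h33 h
  have hK'p := card_prime_of_not_P1 hG h30 hL.coatom hL.hall hL.ne_bot hne
  have hc1 := h.card_eq hG h30 h31
  have hc2 := hL.card_eq hG h30 h31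
  by_cases hLM : L = M
  · subst hLM
    -- `|K| = |K'|`
    have hks : kstar L K' = kstar L K :=
      (hL.kstar_eq hG h30 h31).trans (h.kstar_eq hG h30 h31).symm
    rw [hks] at hc2
    have hKK' : Nat.card K = Nat.card K' := by
      have : Nat.card K * Nat.card (kstar L K) = Nat.card K' * Nat.card (kstar L K) := by
        rw [← hc1, ← hc2]
      exact Nat.eq_of_mul_eq_mul_right Nat.card_pos this
    rw [← hKK'] at hK'p hne
    -- the partner
    have hKt : K ≠ ⊤ := ne_top_of_le_isCoatom hM hK.1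
    obtain ⟨H, hH, hNH⟩ := exists_isCoatom_ge (normalizer_ne_top' hG hK1 hKt)
    obtain ⟨Kt, hKtH, hKt1, hZeq, hXKts, hKsKt, hKtsK, hnc⟩ :=
      closure hG h30 h31 hM hK hK1 le_rfl hK'p hH hNH
    have hKts : kstar H Kt = K := le_antisymm hKtsK hXKts
    have hH' : PP (K ⊔ kstar L K) H Kt := ⟨hH, hKtH, hKt1, hZeq⟩
    have hc3 := hH'.card_eq hG h30 h31
    rw [hKts] at hc3
    have hKteq : kstar L K = Kt := by
      apply Subgroup.eq_of_le_of_card_ge hKsKt
      have : Nat.card Kt * Nat.card K = Nat.card (kstar L K) * Nat.card K := by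
        rw [← hc3, hc1, mul_comm]
      exact (Nat.eq_of_mul_eq_mul_right Nat.card_pos this).le
    refine ⟨H, hH, ?_, ?_, hnc, hH'.le hG, Or.inl ⟨hK'p, hne⟩⟩
    · rw [hKteq, hKts]
    · rw [hKteq]; exact hKtH
  · -- `L ≠ M`
    have hnc : ∀ g : G, L ≠ cj g M := by
      intro g hg
      exact hLM (h.eq_of_conj hG h30 h31 hL hg)
    have hKsK' : kstar M K ≤ K' := by
      intro y hy
      have hyZ : y ∈ K ⊔ kstar M K := Subgroup.mem_sup_right hy
      apply hL.mem_K hG h30 h31 hyZ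
      apply Nat.coprime_of_dvd
      intro p hp hd1 hd2
      have h1 : p ∈ sigma M := mem_sigma_of_dvd_card_sigmaCore hG hM hp
        (hd1.trans (orderOf_dvd_card_of_mem hy.1))
      have h2 : p ∈ sigma L := mem_sigma_of_dvd_card_sigmaCore hG hL.coatom hp
        (hd2.trans (Subgroup.card_dvd_of_le inf_le_left))
      exact sigma_disjoint hG hM hL.coatom hnc h1 h2
    have hKsK'eq : kstar M K = K' := eq_of_le_of_card_prime hKsK' hKs1 hK'p
    have hKle : K ≤ kstar L K' := by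
      intro k hk
      have hkZ : k ∈ K' ⊔ kstar L K' := by
        rw [hL.eq]; exact Subgroup.mem_sup_left hk
      have hDL := hL.kdata h30 h31
      apply mem_right_of_coprime (fun a ha b hb => hDL.commute ha hb) (hDL.coprime hG) hkZ
      rw [← hKsK'eq]
      exact Nat.Coprime.coprime_dvd_left (orderOf_dvd_card_of_mem hk) (hD.coprime hG)
    have hKeq : K = kstar L K' := by
      apply Subgroup.eq_of_le_of_card_ge hKle
      have : Nat.card K * Nat.card (kstar M K) = Nat.card (kstar L K') * Nat.card (kstar M K) := by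
        rw [← hc1, hc2, hKsK'eq, mul_comm]
      exact (Nat.eq_of_mul_eq_mul_right Nat.card_pos this).ge
    refine ⟨L, hL.coatom, ?_, ?_, hnc, hL.le hG, Or.inr ⟨?_, ?_⟩⟩
    · rw [hKsK'eq]; exact hKeq
    · rw [hKsK'eq]; exact hL.hall
    · rw [hKsK'eq]; exact hK'p
    · rw [hKsK'eq]; exact hne

/-- a Hall `κ(M)`-subgroup is a `Z`-group. -/
theorem isZGroup_of_hall {M K : Subgroup G} (hK : IsPiHallOf (kappa M) K M) : IsZGroup ↥K := by
  constructor
  intro p hp P
  haveI : Fact p.Prime := ⟨hp⟩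
  by_cases hpK : p ∣ Nat.card K
  · have hpκ : p ∈ kappa M := hK.2.1 p hp hpK
    have hT : IsSylowIn p ((P : Subgroup ↥K).map K.subtype) K := isSylowIn_of_sylow P
    have hc := (Cfsg.Agent.Lib.Helper29.BG13K.kappa_sylow_cyclic hK hpκ hT).2
    exact (MulEquiv.isCyclic
      ((P : Subgroup ↥K).equivMapOfInjective K.subtype K.subtype_injective)).mpr hc
  · have h1 : Nat.card (P : Subgroup ↥K) = 1 := by
      obtain ⟨n, hn⟩ := IsPGroup.iff_card.mp P.2
      rcases Nat.eq_zero_or_pos n with h0 | h0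
      · rw [hn, h0, pow_zero]
      · exfalso
        apply hpK
        have h2 : p ∣ Nat.card (P : Subgroup ↥K) := by rw [hn]; exact dvd_pow_self p h0.ne'
        exact h2.trans (Subgroup.card_subgroup_dvd_card _)
    haveI : Subsingleton ↥(P : Subgroup ↥K) := (Nat.card_eq_one_iff_unique.mp h1).1
    infer_instance

/-- **every Hall `κ(M)`-subgroup is cyclic** (relative to S1430, S1431, S1377, S1433). -/
theorem isCyclic_hall (hG : IsMinSimpleOddOrder G) (h30 : P1430 G) (h31 : P1431 G)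
    (h77 : BGStubs2.P1377 G) (h33 : BGStubs2.P1433 G) {M K : Subgroup G} (hM : IsCoatom M)
    (hK : IsPiHallOf (kappa M) K M) : IsCyclic ↥K := by
  classical
  by_cases hK1 : K = ⊥
  · rw [hK1]; infer_instance
  obtain ⟨Ms, hMs, hKeq, hKsH, -, -, hor⟩ := partner hG h30 h31 h77 h33 hM hK hK1
  rcases hor with ⟨hp, -⟩ | ⟨-, hne⟩
  · haveI : Fact (Nat.card ↥K).Prime := ⟨hp⟩
    exact isCyclic_of_prime_card rfl
  · obtain ⟨r, hr, hrL, hrσ, hrκ⟩ := exists_prime_not_mem hG hMs hKsH hne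
    haveI : Fact r.Prime := ⟨hr⟩
    have hP1 : ¬ (∀ q : ℕ, q.Prime → q ∣ Nat.card Ms → q ∉ sigma Ms → q ∈ kappa Ms) :=
      fun h => hrκ (h r hr hrL hrσ)
    have hmem : r ∉ sigma Ms ∪ kappa Ms := by
      rintro (h | h)
      · exact hrσ h
      · exact hrκ h
    obtain ⟨S⟩ := (inferInstance : Nonempty (Sylow r ↥Ms))
    have hnil := (Cfsg.Agent.S1429.result hG Ms hMs hP1 r hrL hmem S).2.2
    have hKle : K ≤ sigmaCore Ms := by rw [hKeq]; exact inf_le_left
    haveI : Group.IsNilpotent ↥K :=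
      isNilpotent_of_injective_hom (Subgroup.inclusion hKle) (Subgroup.inclusion_injective hKle)
        hnil
    haveI : IsZGroup ↥K := isZGroup_of_hall hK
    infer_instance

/-- the frozen statement `S1351`, relative to S1430, S1431, S1377, S1433. -/
theorem s1351_of (hG : IsMinSimpleOddOrder G) (h30 : P1430 G) (h31 : P1431 G)
    (h77 : BGStubs2.P1377 G) (h33 : BGStubs2.P1433 G) (M : Subgroup G) (hM : IsCoatom M) :
    (∃ K : Subgroup G, Cfsg.IsPiHallOf (Cfsg.kappa M) K M) ∧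
      ∀ K : Subgroup G, Cfsg.IsPiHallOf (Cfsg.kappa M) K M → IsCyclic K := by
  constructor
  · obtain ⟨K, hK, -⟩ := Cfsg.Agent.Lib.Helper11.BG14.exists_kappa_hall_ge hG hM
      (bot_le : (⊥ : Subgroup G) ≤ M) (by
        intro p hp hd
        rw [Subgroup.card_bot] at hd
        exact absurd (Nat.dvd_one.mp hd) hp.ne_one)
    exact ⟨K, hK⟩
  · intro K hK
    exact isCyclic_hall hG h30 h31 h77 h33 hM hK

/-- the frozen statement `S1366`, relative to S1430, S1431, S1377, S1433. -/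
theorem s1366_of (hG : IsMinSimpleOddOrder G) (h30 : P1430 G) (h31 : P1431 G)
    (h77 : BGStubs2.P1377 G) (h33 : BGStubs2.P1433 G)
    (M : Subgroup G) (hM : IsCoatom M) (K U : Subgroup G) (hKU : Cfsg.IsSigmaDecomposition M K U) (hK1 : K ≠ ⊥) :
    ∃! Mstar : Subgroup G, IsCoatom Mstar ∧ K = Cfsg.sigmaCore Mstar ⊓ Subgroup.centralizer ((Cfsg.sigmaCore M ⊓ Subgroup.centralizer (K : Set G)) : Set G) ∧
        Cfsg.IsPiHallOf (Cfsg.kappa Mstar) (Cfsg.sigmaCore M ⊓ Subgroup.centralizer (K : Set G)) Mstar := by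
  obtain ⟨Ms, hMs, hKeq, hKsH, -, -, -⟩ := partner hG h30 h31 h77 h33 hM hKU.hall hK1
  refine ⟨Ms, ⟨hMs, hKeq, hKsH⟩, ?_⟩
  rintro M' ⟨hM', hKeq'₀, hKsH'⟩
  have hKeq' : K = kstar M' (kstar M K) := hKeq'₀
  have hD := kdata_of h30 h31 hM hKU.hall hK1
  have hKs1 : kstar M K ≠ ⊥ := hD.kstar_ne_bot hG
  have hP : PP (kstar M K ⊔ K) Ms (kstar M K) := ⟨hMs, hKsH, hKs1, by rw [← hKeq]⟩
  have hP' : PP (kstar M K ⊔ K) M' (kstar M K) := ⟨hM', hKsH', hKs1, by rw [← hKeq']⟩
  obtain ⟨x, hx, hx1⟩ := exists_ne_one_of_ne_bot hK1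
  have hxMs : x ∈ sigmaCore Ms := by
    have : x ∈ kstar Ms (kstar M K) := hKeq ▸ hx
    exact this.1
  have hxM' : x ∈ sigmaCore M' := by
    have : x ∈ kstar M' (kstar M K) := hKeq' ▸ hx
    exact this.1
  obtain ⟨g, hg⟩ := conj_of_mem_sigmaCore_inf hG hMs hM' hxMs hxM' hx1
  exact hP.eq_of_conj hG h30 h31 hP' hg

end Part7

end Cfsg.Agent.Lib.Helper1.BG147
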