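import Mathlib
import Cfsg.Prelude
import Cfsg.Agent.Lib.Helper1.BG147

/-!
# B&G Theorem 14.7(f),(g) from the general family count (relative to the frozen rows S1430, S1431, S1377, S1433 only): family_eq, conj_of_kappa_nonempty, s1373_of', s1369_of'.
-/

set_option autoImplicit false
set_option linter.unusedSectionVars false
set_option linter.unusedVariables false

namespace Cfsg.Agent.Lib.Helper1.BG147

open Cfsg
open scoped commutatorElement
open Cfsg.Agent.Lib.Helper10.BG Cfsg.Agent.Lib.Helper10 Cfsg.Agent.Lib.Helper9.BGExc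
open Cfsg.Agent.Lib.Helper3.BGStubs Cfsg.Agent.Lib.Helper19.BG14 Cfsg.Agent.Lib.Helper11.BG14
open Cfsg.Agent.Lib.Helper1.BGConjEq

section Part1

variable {G : Type*} [Group G] [Finite G]

/-- the partner pair `(M*, K*)` is a `Z`-pair. -/
theorem pp_partner (hG : IsMinSimpleOddOrder G) (h30 : P1430 G) (h31 : P1431 G)
    {M K Ms : Subgroup G} (hM : IsCoatom M) (hK : IsPiHallOf (kappa M) K M) (hK1 : K ≠ ⊥)
    (hMs : IsCoatom Ms) (hKeq : K = kstar Ms (kstar M K))
    (hKsH : IsPiHallOf (kappa Ms) (kstar M K) Ms) :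
    PP (K ⊔ kstar M K) Ms (kstar M K) := by
  have hD := kdata_of h30 h31 hM hK hK1
  refine ⟨hMs, hKsH, hD.kstar_ne_bot hG, ?_⟩
  rw [← hKeq, sup_comm]

/-- when the partner is known, the family of `Z`-pairs is `{M, M*}`. -/
theorem family_eq (hG : IsMinSimpleOddOrder G) (h30 : P1430 G) (h31 : P1431 G)
    {M K Ms : Subgroup G} (hM : IsCoatom M) (hK : IsPiHallOf (kappa M) K M) (hK1 : K ≠ ⊥)
    (hMs : IsCoatom Ms) (hKeq : K = kstar Ms (kstar M K))
    (hKsH : IsPiHallOf (kappa Ms) (kstar M K) Ms) {L K' : Subgroup G}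
    (hL : PP (K ⊔ kstar M K) L K') : L = M ∨ L = Ms := by
  have h : PP (K ⊔ kstar M K) M K := ⟨hM, hK, hK1, rfl⟩
  have hs := pp_partner hG h30 h31 hM hK hK1 hMs hKeq hKsH
  have hDL := hL.kdata h30 h31
  obtain ⟨q, hq, hqd⟩ := Nat.exists_prime_and_dvd
    (fun h1 : Nat.card (kstar L K') = 1 => hDL.kstar_ne_bot hG (Subgroup.card_eq_one.mp h1))
  have hqL : q ∈ sigma L := mem_sigma_of_dvd_card_sigmaCore hG hL.coatom hq
    (hqd.trans (Subgroup.card_dvd_of_le inf_le_left))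
  have hqZ : q ∣ Nat.card (K ⊔ kstar M K : Subgroup G) := by
    have : kstar L K' ≤ K ⊔ kstar M K := by rw [← hL.eq]; exact le_sup_right
    exact hqd.trans (Subgroup.card_dvd_of_le this)
  rw [h.card_eq hG h30 h31] at hqZ
  rcases (Nat.Prime.dvd_mul hq).mp hqZ with hd | hd
  · right
    have hKle : K ≤ sigmaCore Ms := by rw [hKeq]; exact inf_le_left
    have hqMs : q ∈ sigma Ms := mem_sigma_of_dvd_card_sigmaCore hG hMs hq
      (hd.trans (Subgroup.card_dvd_of_le hKle))
    exact hs.eq_of_sigma hG h30 h31 hL hqMs hqL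
  · left
    have hqM : q ∈ sigma M := mem_sigma_of_dvd_card_sigmaCore hG hM hq
      (hd.trans (Subgroup.card_dvd_of_le inf_le_left))
    exact h.eq_of_sigma hG h30 h31 hL hqM hqL

/-- the conjugates of `W` cover more than half of `G`. -/
theorem card_lt_two_mul_ncard_conjSet (hG : IsMinSimpleOddOrder G) (h30 : P1430 G) (h31 : P1431 G)
    {M K Ms : Subgroup G} (hM : IsCoatom M) (hK : IsPiHallOf (kappa M) K M) (hK1 : K ≠ ⊥)
    (hMs : IsCoatom Ms) (hKeq : K = kstar Ms (kstar M K))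
    (hKsH : IsPiHallOf (kappa Ms) (kstar M K) Ms) :
    Nat.card G < 2 * (conjSet (WW (K ⊔ kstar M K))).ncard := by
  classical
  have h : PP (K ⊔ kstar M K) M K := ⟨hM, hK, hK1, rfl⟩
  have hs := pp_partner hG h30 h31 hM hK hK1 hMs hKeq hKsH
  have hD := h.kdata h30 h31
  set Z := K ⊔ kstar M K with hZ
  set W := WW Z with hW
  -- `Z ⊆ W ∪ K* ∪ K`
  have hsub : (Z : Set G) ⊆ W ∪ ((kstar M K : Subgroup G) : Set G) ∪ ((K : Set G) \ {1}) := by
    intro z hz
    by_cases hz1 : z = 1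
    · left; right
      rw [hz1]; exact Subgroup.one_mem _
    by_cases hzW : z ∈ W
    · exact Or.inl (Or.inl hzW)
    · have : ¬ ∀ L K' : Subgroup G, PP Z L K' → z ∉ sigmaCore L := fun hall => hzW ⟨hz, hall⟩
      push Not at this
      obtain ⟨L, K', hL, hzL⟩ := this
      have hzk : z ∈ kstar L K' := by
        rw [hL.kstar_eq hG h30 h31]; exact ⟨hz, hzL⟩
      rcases family_eq hG h30 h31 hM hK hK1 hMs hKeq hKsH hL with rfl | rfl
      · left; right
        have e : kstar L K' = kstar L K :=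
          (hL.kstar_eq hG h30 h31).trans (h.kstar_eq hG h30 h31).symm
        rw [← e]; exact hzk
      · right
        have e : kstar L K' = kstar L (kstar M K) :=
          (hL.kstar_eq hG h30 h31).trans (hs.kstar_eq hG h30 h31).symm
        rw [e, ← hKeq] at hzk
        exact ⟨hzk, hz1⟩
  have h1 : (Z : Set G).ncard ≤
      (W ∪ ((kstar M K : Subgroup G) : Set G) ∪ ((K : Set G) \ {1})).ncard :=
    Set.ncard_le_ncard hsub (Set.toFinite _)
  have hK1c : ((K : Set G) \ {1}).ncard + 1 = Nat.card K := by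
    have h1mem : (1 : G) ∈ (K : Set G) := Subgroup.one_mem _
    rw [Set.ncard_diff_singleton_add_one h1mem (Set.toFinite _)]
    exact (Nat.card_coe_set_eq _).symm
  have h2 : (W ∪ ((kstar M K : Subgroup G) : Set G) ∪ ((K : Set G) \ {1})).ncard + 1 ≤
      W.ncard + Nat.card (kstar M K) + Nat.card K := by
    rw [← hK1c, ← add_assoc]
    apply Nat.add_le_add_right
    refine (Set.ncard_union_le _ _).trans (Nat.add_le_add_right ?_ _)
    refine (Set.ncard_union_le _ _).trans (Nat.add_le_add_left ?_ _)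
    exact (Nat.card_coe_set_eq _).symm.le
  have h3 : (Z : Set G).ncard = Nat.card Z := (Nat.card_coe_set_eq _).symm
  have h4 := h.card_eq hG h30 h31
  have hcop := hD.coprime hG
  have hoddK : Odd (Nat.card K) := odd_card_subgroup hG K
  have hoddKs : Odd (Nat.card (kstar M K)) := odd_card_subgroup hG _
  have hK2 : 2 ≤ Nat.card K := Cfsg.Agent.Lib.Helper1.BGCount.two_le_card_of_ne_bot hK1
  have hKs2 : 2 ≤ Nat.card (kstar M K) :=
    Cfsg.Agent.Lib.Helper1.BGCount.two_le_card_of_ne_bot (hD.kstar_ne_bot hG)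
  have hiii : (conjSet W).ncard * Nat.card Z = W.ncard * Nat.card G := by
    apply ncard_conjSet_mul Z W
    · intro g hg z hz
      exact conj_mem_WW hG hg hz
    · intro g z hz hgz
      exact mem_of_fuses_WW hG h30 h31 h hz hgz
  -- arithmetic
  set a := Nat.card K
  set b := Nat.card (kstar M K)
  set w := W.ncard
  set c := (conjSet W).ncard
  set g := Nat.card G
  have hg : 0 < g := Nat.card_pos
  have hab : a ≠ b := by
    intro e
    rw [e, Nat.coprime_self] at hcop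
    omega
  have ha3 : 3 ≤ a := by
    rcases hoddK with ⟨t, ht⟩
    omega
  have hb3 : 3 ≤ b := by
    rcases hoddKs with ⟨t, ht⟩
    omega
  have hw : a * b + 1 ≤ w + b + a := by
    rw [h3, h4] at h1
    exact (Nat.add_le_add_right h1 1).trans h2
  have hkey : a * b < 2 * w := by
    rcases hoddK with ⟨t, ht⟩
    rcases hoddKs with ⟨s, hs'⟩
    have : t ≠ s := by
      intro e
      apply hab
      omega
    have ht1 : 1 ≤ t := by omega
    have hs1 : 1 ≤ s := by omega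
    rw [ht, hs'] at hw ⊢
    rcases Nat.lt_or_gt_of_ne this with hlt | hlt
    · have hs2 : 2 ≤ s := by omega
      nlinarith
    · have ht2 : 2 ≤ t := by omega
      nlinarith
  by_contra hcon
  push Not at hcon
  have : 2 * c * (a * b) ≤ g * (a * b) := Nat.mul_le_mul_right _ hcon
  rw [h4] at hiii
  have h5 : 2 * c * (a * b) = 2 * w * g := by
    calc 2 * c * (a * b) = 2 * (c * (a * b)) := by ring
      _ = 2 * (w * g) := by rw [hiii]
      _ = 2 * w * g := by ring
  rw [h5] at this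
  have h6 : a * b * g < 2 * w * g := Nat.mul_lt_mul_of_pos_right hkey hg
  have h7 : g * (a * b) = a * b * g := by ring
  omega

/-- an element of `W` has a prime divisor of its order in `σ(M)`. -/
theorem exists_prime_of_mem_WW (hG : IsMinSimpleOddOrder G) (h30 : P1430 G) (h31 : P1431 G)
    {M K Ms : Subgroup G} (hM : IsCoatom M) (hK : IsPiHallOf (kappa M) K M) (hK1 : K ≠ ⊥)
    (hMs : IsCoatom Ms) (hKeq : K = kstar Ms (kstar M K))
    (hKsH : IsPiHallOf (kappa Ms) (kstar M K) Ms) {z : G} (hz : z ∈ WW (K ⊔ kstar M K)) :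
    ∃ p : ℕ, p.Prime ∧ p ∣ orderOf z ∧ p ∈ sigma M := by
  have h : PP (K ⊔ kstar M K) M K := ⟨hM, hK, hK1, rfl⟩
  have hs := pp_partner hG h30 h31 hM hK hK1 hMs hKeq hKsH
  have hD := h.kdata h30 h31
  have hzK : z ∉ K := by
    intro hzK
    apply hz.2 Ms (kstar M K) hs
    rw [hKeq] at hzK
    exact hzK.1
  by_contra hcon
  push Not at hcon
  apply hzK
  apply h.mem_K hG h30 h31 hz.1
  apply Nat.coprime_of_dvd
  intro p hp hd1 hd2
  exact hcon p hp hd1 (mem_sigma_of_dvd_card_sigmaCore hG hM hp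
    (hd2.trans (Subgroup.card_dvd_of_le inf_le_left)))

/-- a maximal subgroup with `κ ≠ ∅` has a nontrivial Hall `κ`-subgroup. -/
theorem exists_hall_ne_bot (hG : IsMinSimpleOddOrder G) {H : Subgroup G} (hH : IsCoatom H)
    (hκ : (kappa H).Nonempty) : ∃ KH : Subgroup G, IsPiHallOf (kappa H) KH H ∧ KH ≠ ⊥ := by
  obtain ⟨p, hp⟩ := hκ
  obtain ⟨KH, hKH, -⟩ := Cfsg.Agent.Lib.Helper11.BG14.exists_kappa_hall_ge hG hH
    (bot_le : (⊥ : Subgroup G) ≤ H) (by
      intro p hp hd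
      rw [Subgroup.card_bot] at hd
      exact absurd (Nat.dvd_one.mp hd) hp.ne_one)
  refine ⟨KH, hKH, ?_⟩
  intro hbot
  have h1 := hKH.2.2 p hp.1 hp
  have h2 := Cfsg.Agent.Lib.Helper12.card_mul_relIndex_eq hKH.1
  rw [hbot, Subgroup.card_bot, one_mul] at h2
  rw [hbot, h2] at h1
  exact h1 hp.2.1

/-- **B&G 14.7(g)**: every maximal subgroup with `κ ≠ ∅` is conjugate to `M` or to `M*`. -/
theorem conj_of_kappa_nonempty (hG : IsMinSimpleOddOrder G) (h30 : P1430 G) (h31 : P1431 G)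
    (h77 : BGStubs2.P1377 G) (h33 : BGStubs2.P1433 G)
    {M K Ms : Subgroup G} (hM : IsCoatom M) (hK : IsPiHallOf (kappa M) K M) (hK1 : K ≠ ⊥)
    (hMs : IsCoatom Ms) (hKeq : K = kstar Ms (kstar M K))
    (hKsH : IsPiHallOf (kappa Ms) (kstar M K) Ms) {H : Subgroup G} (hH : IsCoatom H)
    (hκ : (kappa H).Nonempty) : ∃ g : G, H = cj g M ∨ H = cj g Ms := by
  classical
  obtain ⟨KH, hKH, hKH1⟩ := exists_hall_ne_bot hG hH hκ
  obtain ⟨Hs, hHs, hKHeq, hKHsH, -, -, -⟩ := partner hG h30 h31 h77 h33 hH hKH hKH1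
  have hc1 := card_lt_two_mul_ncard_conjSet hG h30 h31 hM hK hK1 hMs hKeq hKsH
  have hc2 := card_lt_two_mul_ncard_conjSet hG h30 h31 hH hKH hKH1 hHs hKHeq hKHsH
  have hmeet : ¬ Disjoint (conjSet (WW (K ⊔ kstar M K))) (conjSet (WW (KH ⊔ kstar H KH))) := by
    intro hd
    have h1 := Set.ncard_union_eq hd (Set.toFinite _) (Set.toFinite _)
    have h2 : (conjSet (WW (K ⊔ kstar M K)) ∪ conjSet (WW (KH ⊔ kstar H KH))).ncard ≤
        Nat.card G := Set.ncard_le_card _
    omega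
  rw [Set.not_disjoint_iff] at hmeet
  obtain ⟨a, ⟨g, z, hz, rfl⟩, ⟨h, w, hw, hgw⟩⟩ := hmeet
  -- a prime of `σ(H)` dividing the order of `w`
  obtain ⟨p, hp, hpw, hpH⟩ :=
    exists_prime_of_mem_WW hG h30 h31 hH hKH hKH1 hHs hKHeq hKHsH hw
  have hoz : orderOf w = orderOf z := by
    have h1 : orderOf (g * z * g⁻¹) = orderOf z := orderOf_conj' g z
    have h2 : orderOf (h * w * h⁻¹) = orderOf w := orderOf_conj' h w
    rw [← h1, hgw, h2]
  rw [hoz] at hpw
  have hP : PP (K ⊔ kstar M K) M K := ⟨hM, hK, hK1, rfl⟩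
  obtain ⟨L, K', hL, hpL, -⟩ := hP.exists_of_prime hG h30 h31 hp
    (hpw.trans (orderOf_dvd_card_of_mem hz.1))
  obtain ⟨c, hc⟩ := (Cfsg.Agent.S1378.result hG).2 L H hL.coatom hH ⟨p, hpL, hpH⟩
  rcases family_eq hG h30 h31 hM hK hK1 hMs hKeq hKsH hL with rfl | rfl
  · exact ⟨c, Or.inl hc⟩
  · exact ⟨c, Or.inr hc⟩

/-- the frozen statement `S1373`, relative to S1430, S1431, S1377, S1433 only. -/
theorem s1373_of' (hG : IsMinSimpleOddOrder G) (h30 : P1430 G) (h31 : P1431 G)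
    (h77 : BGStubs2.P1377 G) (h33 : BGStubs2.P1433 G)
    (M : Subgroup G) (hM : IsCoatom M) (K U : Subgroup G) (hKU : Cfsg.IsSigmaDecomposition M K U) (hK1 : K ≠ ⊥) (hU : U = ⊥) :
    (Nat.card ↥(Cfsg.sigmaCore M ⊓ Subgroup.centralizer (K : Set G))).Prime := by
  obtain ⟨Ms, -, -, -, -, -, hor⟩ := partner hG h30 h31 h77 h33 hM hKU.hall hK1
  rcases hor with ⟨-, hne⟩ | ⟨hp, -⟩
  · exfalso
    apply hne
    have := Cfsg.Agent.Lib.Helper1.BGSigmaDecomp.card_eq hG hM hKU
    rw [hU, Subgroup.card_bot, one_mul] at this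
    exact this
  · exact hp

/-- the frozen statement `S1369`, relative to S1430, S1431, S1377, S1433 only. -/
theorem s1369_of' (hG : IsMinSimpleOddOrder G) (h30 : P1430 G) (h31 : P1431 G)
    (h77 : BGStubs2.P1377 G) (h33 : BGStubs2.P1433 G)
    (M : Subgroup G) (hM : IsCoatom M) (K U : Subgroup G) (hKU : Cfsg.IsSigmaDecomposition M K U) (hK1 : K ≠ ⊥) (Mstar : Subgroup G) (hMstar : IsCoatom Mstar)
    (hKst : K = Cfsg.sigmaCore Mstar ⊓ Subgroup.centralizer ((Cfsg.sigmaCore M ⊓ Subgroup.centralizer (K : Set G)) : Set G))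
    (hKstH : Cfsg.IsPiHallOf (Cfsg.kappa Mstar) (Cfsg.sigmaCore M ⊓ Subgroup.centralizer (K : Set G)) Mstar) :
    (U ≠ ⊥ ∨ ∀ Ustar : Subgroup G, Cfsg.IsSigmaDecomposition Mstar (Cfsg.sigmaCore M ⊓ Subgroup.centralizer (K : Set G)) Ustar → Ustar ≠ ⊥) ∧
      ∀ H : Subgroup G, IsCoatom H → (Cfsg.kappa H).Nonempty →
        ∃ g : G, H = M.map (MulAut.conj g).toMonoidHom ∨ H = Mstar.map (MulAut.conj g).toMonoidHom := by
  have hKst' : K = kstar Mstar (kstar M K) := hKst
  constructor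
  · obtain ⟨Ms, hMs, hKeq, hKsH, -, -, hor⟩ := partner hG h30 h31 h77 h33 hM hKU.hall hK1
    have huniq := (s1366_of hG h30 h31 h77 h33 M hM K U hKU hK1).unique
      ⟨hMs, hKeq, hKsH⟩ ⟨hMstar, hKst, hKstH⟩
    subst huniq
    rcases hor with ⟨-, hne⟩ | ⟨-, hne⟩
    · left
      intro hU
      apply hne
      have := Cfsg.Agent.Lib.Helper1.BGSigmaDecomp.card_eq hG hM hKU
      rw [hU, Subgroup.card_bot, one_mul] at this
      exact this
    · right
      intro Ustar hdec hUs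
      apply hne
      have := Cfsg.Agent.Lib.Helper1.BGSigmaDecomp.card_eq hG hMs hdec
      rw [hUs, Subgroup.card_bot, one_mul] at this
      exact this
  · intro H hH hκ
    exact conj_of_kappa_nonempty hG h30 h31 h77 h33 hM hKU.hall hK1 hMstar hKst' hKstH hH hκ

end Part1

end Cfsg.Agent.Lib.Helper1.BG147
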