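import Mathlib
import Cfsg.Prelude
import Cfsg.Agent.Lib.Helper19.BG12B
import Cfsg.Agent.Lib.Helper10.BGTwelve
import Cfsg.Agent.Lib.Helper1.BGFcons
import Cfsg.Agent.Lib.Helper11.BGFourteenA
import Cfsg.Agent.Lib.Helper7.BG13B
import Cfsg.Agent.Lib.Helper9.Wr.Local0
import Cfsg.Agent.Lib.Helper9.BGExc7
import Cfsg.Agent.S1417
import Cfsg.Agent.S1430
import Cfsg.Agent.S1431
import Cfsg.Agent.Lib.Helper1.Hall
import Cfsg.Agent.Lib.Helper3.BG14A
import Cfsg.Agent.Lib.Helper7.BGTypesA
import Cfsg.Agent.S1384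
import Cfsg.Agent.S1374
import Cfsg.Agent.S1437
import Cfsg.Agent.S1351
import Cfsg.Agent.S1352

/-!
# B&G Lemma 15.1 (frozen row S1438): C_M(H) = C_{M_sigma}(H) X with X a cyclic tau2(M)-group, and N_M(H) controls G-fusion in H, for H a nonidentity Hall subgroup of M_sigma. Generic tools: commute_of_trivial_on_omega, comm_of_sylow_central (Burnside), isCyclic_of_tau2_zgroup, exists_compl_of_normal_coprime, exists_compl_ge, isNilpotent_or_le_normalizer, hall_isNilpotent_or_normal.
-/

set_option autoImplicit false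
set_option linter.unusedSectionVars false
set_option linter.unusedVariables false

namespace Cfsg.Agent.Lib.Helper1.BG151

open Cfsg
open scoped commutatorElement
open Cfsg.Agent.Lib.Helper10.BG Cfsg.Agent.Lib.Helper10 Cfsg.Agent.Lib.Helper9.BGExc
open Cfsg.Agent.Lib.Helper19.BG12

section Part1

section Generic

variable {G : Type*} [Group G]

/-- an element `y` of order prime to `p` normalizing an abelian `p`-subgroup `T` and centralizing
all elements `z` of `T` with `z ^ p = 1` centralizes `T`. -/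
theorem commute_of_trivial_on_omega {p : ℕ} [Fact p.Prime] {T : Subgroup G} {y : G}
    (hTp : IsPGroup p T) (hTc : ∀ a ∈ T, ∀ b ∈ T, a * b = b * a)
    (hy : y ∈ Subgroup.normalizer (T : Set G)) (hcop : (orderOf y).Coprime p)
    (hΩ : ∀ z ∈ T, z ^ p = 1 → y * z = z * y) : ∀ t ∈ T, y * t = t * y := by
  have key : ∀ k : ℕ, ∀ t ∈ T, t ^ (p ^ k) = 1 → y * t = t * y := by
    intro k
    induction k with
    | zero =>
      intro t ht h
      rw [pow_zero, pow_one] at h
      rw [h, mul_one, one_mul]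
    | succ k ih =>
      intro t ht h
      have htp : t ^ p ∈ T := T.pow_mem ht p
      have h1 : y * t ^ p = t ^ p * y := by
        apply ih _ htp
        rw [← pow_mul, ← pow_succ']
        exact h
      have hyt : y * t * y⁻¹ ∈ T := (Subgroup.mem_normalizer_iff.mp hy t).mp ht
      set z := t⁻¹ * (y * t * y⁻¹) with hz
      have hzT : z ∈ T := T.mul_mem (T.inv_mem ht) hyt
      have hzp : z ^ p = 1 := by
        have hc : Commute t⁻¹ (y * t * y⁻¹) := hTc _ (T.inv_mem ht) _ hyt
        rw [hz, hc.mul_pow, conj_pow, inv_pow]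
        have : y * t ^ p * y⁻¹ = t ^ p := by rw [h1]; group
        rw [this, inv_mul_cancel]
      have hyz : y * z = z * y := hΩ z hzT hzp
      have hconj : y * t * y⁻¹ = t * z := by rw [hz]; group
      have hpow : ∀ j : ℕ, y ^ j * t * (y ^ j)⁻¹ = t * z ^ j := by
        intro j
        induction j with
        | zero => simp
        | succ j ihj =>
          have hyzj : y * z ^ j = z ^ j * y := by
            have : Commute y (z ^ j) := (show Commute y z from hyz).pow_right j
            exact this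
          calc y ^ (j + 1) * t * (y ^ (j + 1))⁻¹
              = y * (y ^ j * t * (y ^ j)⁻¹) * y⁻¹ := by rw [pow_succ']; group
            _ = y * (t * z ^ j) * y⁻¹ := by rw [ihj]
            _ = (y * t * y⁻¹) * (y * z ^ j * y⁻¹) := by group
            _ = (t * z) * (z ^ j) := by rw [hconj, hyzj]; group
            _ = t * z ^ (j + 1) := by rw [pow_succ']; group
      have h2 := hpow (orderOf y)
      rw [pow_orderOf_eq_one, one_mul, inv_one, mul_one] at h2
      have h3 : z ^ orderOf y = 1 := by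
        have : t * z ^ orderOf y = t * 1 := by rw [mul_one]; exact h2.symm
        exact mul_left_cancel this
      have h4 : orderOf z ∣ Nat.gcd (orderOf y) p :=
        Nat.dvd_gcd (orderOf_dvd_of_pow_eq_one h3) (orderOf_dvd_of_pow_eq_one hzp)
      rw [hcop.gcd_eq_one, Nat.dvd_one, orderOf_eq_one_iff] at h4
      rw [h4, mul_one] at hconj
      calc y * t = (y * t * y⁻¹) * y := by group
        _ = t * y := by rw [hconj]
  intro t ht
  obtain ⟨k, hk⟩ := hTp ⟨t, ht⟩
  apply key k t ht
  have := congrArg Subtype.val hk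
  simpa using this

/-- **Burnside**: a finite group in which every Sylow subgroup is central in its normalizer is
abelian. -/
theorem comm_of_sylow_central {X : Type*} [Group X] [Finite X]
    (h : ∀ (p : ℕ) [Fact p.Prime] (P : Sylow p X),
      Subgroup.normalizer ((P : Subgroup X) : Set X) ≤ Subgroup.centralizer ((P : Subgroup X) : Set X)) :
    ∀ a b : X, a * b = b * a := by
  have hc : commutator X = ⊥ := by
    rw [← Subgroup.card_eq_one]
    by_contra hne
    obtain ⟨p, hp, hpd⟩ := Nat.exists_prime_and_dvd hne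
    haveI : Fact p.Prime := ⟨hp⟩
    obtain ⟨P⟩ := (inferInstance : Nonempty (Sylow p X))
    apply P.not_dvd_index
    refine hpd.trans ?_
    rw [(MonoidHom.ker_transferSylow_isComplement' P (h p P)).index_eq_card]
    apply Subgroup.card_dvd_of_le
    rw [commutator_def, Subgroup.commutator_le]
    intro a _ b _
    rw [MonoidHom.mem_ker, map_commutatorElement, commutatorElement_eq_one_iff_mul_comm]
    set f := MonoidHom.transferSylow P (h p P) with hf
    have hcen := h p P (Subgroup.le_normalizer (f b).2)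
    rw [Subgroup.mem_centralizer_iff] at hcen
    exact Subtype.ext (hcen (f a) (f a).2)
  intro a b
  have h1 : ⁅a, b⁆ ∈ commutator X := by
    rw [commutator_def]
    exact Subgroup.commutator_mem_commutator (Subgroup.mem_top a) (Subgroup.mem_top b)
  rw [hc, Subgroup.mem_bot] at h1
  exact commutatorElement_eq_one_iff_mul_comm.mp h1

end Generic

end Part1

section Part2

section PartA

variable {G : Type*} [Group G] [Finite G]

/-- a `τ₂(M)`-subgroup of a complement `E` of `M_σ` all of whose Sylow subgroups are cyclic is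
cyclic (via Burnside's transfer theorem and cross-centralizing of `τ₂`-elements). -/
theorem isCyclic_of_tau2_zgroup (hG : IsMinSimpleOddOrder G) {M E X : Subgroup G}
    (hM : IsCoatom M) (hE : IsComplIn E (sigmaCore M) M) (hXE : X ≤ E)
    (hτ : ∀ p : ℕ, p.Prime → p ∣ Nat.card X → p ∈ tau2 M) (hZ : IsZGroup ↥X) :
    IsCyclic ↥X := by
  classical
  have hcomm : ∀ a b : ↥X, a * b = b * a := by
    apply comm_of_sylow_central
    intro p _ P n hn
    rw [Subgroup.mem_centralizer_iff]
    intro t ht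
    have hpp : p.Prime := Fact.out
    by_cases hpd : p ∣ Nat.card X
    · have hp := hτ p hpp hpd
      set PG := (P : Subgroup ↥X).map X.subtype with hPG
      have hPGp : IsPGroup p PG := P.2.map _
      have hPGX : PG ≤ X := Subgroup.map_subtype_le _
      haveI : IsCyclic ↥(P : Subgroup ↥X) := hZ.isZGroup p hpp P
      have hPc : ∀ a ∈ PG, ∀ b ∈ PG, a * b = b * a := by
        rintro _ ⟨a, ha, rfl⟩ _ ⟨b, hb, rfl⟩
        have := (IsCyclic.isMulCommutative (α := ↥(P : Subgroup ↥X))).is_comm.comm ⟨a, ha⟩ ⟨b, hb⟩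
        have h2 : a * b = b * a := congrArg Subtype.val this
        exact congrArg Subtype.val h2
      set NX := (Subgroup.normalizer ((P : Subgroup ↥X) : Set ↥X)).map X.subtype with hNX
      have hNXle : NX ≤ Subgroup.normalizer (PG : Set G) := by
        apply Cfsg.Agent.Lib.Helper10.BG.le_normalizer_of_conj_mem
        rintro _ ⟨m, hm, rfl⟩ _ ⟨a, ha, rfl⟩
        exact ⟨m * a * m⁻¹, (Subgroup.mem_normalizer_iff.mp hm a).mp ha, rfl⟩
      have hnNX : (n : G) ∈ NX := ⟨n, hn, rfl⟩
      have hzX : Subgroup.zpowers (n : G) ≤ X := Subgroup.zpowers_le.mpr n.2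
      have hzle : Subgroup.zpowers (n : G) ≤ Subgroup.centralizer (PG : Set G) := by
        apply le_of_forall_sylow_le
        intro q hq
        haveI : Fact q.Prime := ⟨hq⟩
        obtain ⟨Q, hQ⟩ := exists_isSylowIn q (Subgroup.zpowers (n : G))
        refine ⟨Q, hQ, ?_⟩
        intro u hu
        have huz : u ∈ Subgroup.zpowers (n : G) := hQ.le hu
        have huX : u ∈ X := hzX huz
        have huN : u ∈ NX := (Subgroup.zpowers_le.mpr hnNX) huz
        have hup : IsPGroup q (Subgroup.zpowers u) :=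
          hQ.isPGroup.to_le (Subgroup.zpowers_le.mpr hu)
        rw [Subgroup.mem_centralizer_iff]
        by_cases hqp : q = p
        · subst hqp
          -- `u ∈ P`
          have hQ' : IsPGroup q ((Subgroup.zpowers u).subgroupOf X) := hup.comap_subtype
          have hle : (Subgroup.zpowers u).subgroupOf X ≤
              Subgroup.normalizer ((P : Subgroup ↥X) : Set ↥X) := by
            intro w hw
            rw [Subgroup.mem_subgroupOf] at hw
            obtain ⟨m, hm, hmw⟩ := (Subgroup.zpowers_le.mpr huN) hw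
            have : m = w := Subtype.ext hmw
            rw [← this]
            exact hm
          have hle2 : (Subgroup.zpowers u).subgroupOf X ≤ (P : Subgroup ↥X) :=
            hQ'.sylow_mem_fixedPoints_iff.mp ((Subgroup.sylow_mem_fixedPoints_iff _).mpr hle)
          have huP : u ∈ PG :=
            ⟨⟨u, huX⟩, hle2 (Subgroup.mem_subgroupOf.mpr (Subgroup.mem_zpowers u)), rfl⟩
          intro a ha
          exact hPc a ha u huP
        · by_cases hu1 : u = 1
          · intro a _
            rw [hu1, mul_one, one_mul]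
          have hqd : q ∣ Nat.card X := by
            obtain ⟨k, hk⟩ := (IsPGroup.iff_orderOf.mp hup) ⟨u, Subgroup.mem_zpowers u⟩
            rw [Subgroup.orderOf_mk] at hk
            have hk0 : k ≠ 0 := by
              intro h0
              rw [h0, pow_zero, orderOf_eq_one_iff] at hk
              exact hu1 hk
            have h1 : q ∣ orderOf u := by rw [hk]; exact dvd_pow_self q hk0
            have h2 : orderOf u ∣ Nat.card X := by
              have := orderOf_dvd_natCard (⟨u, huX⟩ : ↥X)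
              rwa [Subgroup.orderOf_mk] at this
            exact h1.trans h2
          have hqτ := hτ q hq hqd
          obtain ⟨A, hAE, hAe, hAc⟩ := tau2_elem_sq_compl hG hM hE hp
          have huA := tau2_cross_centralize hG hM hE hp hqτ (Ne.symm hqp) hAE hAe hAc (hXE huX) hup
          obtain ⟨⟨-, hXA⟩, -, -⟩ := Cfsg.Agent.S1418.result hG M hM E hE p hp A ⟨hAE, hAe, hAc⟩
          have hcop : (orderOf u).Coprime p := by
            obtain ⟨k, hk⟩ := (IsPGroup.iff_orderOf.mp hup) ⟨u, Subgroup.mem_zpowers u⟩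
            rw [Subgroup.orderOf_mk] at hk
            rw [hk]
            exact Nat.Coprime.pow_left k ((Nat.coprime_primes hq hpp).mpr hqp)
          have hΩ : ∀ z ∈ PG, z ^ p = 1 → u * z = z * u := by
            intro z hz hzp
            by_cases hz1 : z = 1
            · rw [hz1, mul_one, one_mul]
            have hcard : Nat.card (Subgroup.zpowers z) = p := by
              rw [Nat.card_zpowers]
              exact orderOf_eq_prime hzp hz1
            have hzA : z ∈ A :=
              hXA _ (Subgroup.zpowers_le.mpr (hXE (hPGX hz))) hcard (Subgroup.mem_zpowers z)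
            exact (Subgroup.mem_centralizer_iff.mp huA z hzA).symm
          intro a ha
          exact (commute_of_trivial_on_omega hPGp hPc (hNXle huN) hcop hΩ a ha).symm
      have hn' := hzle (Subgroup.mem_zpowers (n : G))
      rw [Subgroup.mem_centralizer_iff] at hn'
      exact Subtype.ext (hn' (t : G) ⟨t, ht, rfl⟩)
    · have h1 : Nat.card (P : Subgroup ↥X) = 1 := by
        rcases P.2.card_eq_or_dvd with h | h
        · exact h
        · exact absurd (h.trans (Subgroup.card_subgroup_dvd_card _)) hpd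
      have h2 : (P : Subgroup ↥X) = ⊥ := Subgroup.card_eq_one.mp h1
      have ht' : t ∈ (P : Subgroup ↥X) := ht
      rw [h2, Subgroup.mem_bot] at ht'
      rw [ht', mul_one, one_mul]
  have hnil : Group.IsNilpotent ↥X := by
    letI : CommGroup ↥X := { (inferInstance : Group ↥X) with mul_comm := hcomm }
    exact CommGroup.isNilpotent
  exact isCyclic_of_isNilpotent_of_isZGroup hnil hZ

end PartA

end Part2

section Part3

section PartA2

variable {G : Type*} [Group G] [Finite G]

/-- Schur–Zassenhaus for a normal Hall subgroup `N` of a subgroup `C`. -/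
theorem exists_compl_of_normal_coprime {N C : Subgroup G} (hNC : N ≤ C)
    (hn : C ≤ Subgroup.normalizer (N : Set G)) (hcop : (Nat.card N).Coprime (N.relIndex C)) :
    ∃ X : Subgroup G, X ≤ C ∧ N ⊓ X = ⊥ ∧ N ⊔ X = C ∧ Nat.card X = N.relIndex C := by
  haveI : (N.subgroupOf C).Normal := (Subgroup.normal_subgroupOf_iff_le_normalizer hNC).mpr hn
  have hcard : Nat.card (N.subgroupOf C) = Nat.card N :=
    Nat.card_congr (Subgroup.subgroupOfEquivOfLe hNC).toEquiv
  have hcop' : (Nat.card (N.subgroupOf C)).Coprime (N.subgroupOf C).index := by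
    rw [hcard]; exact hcop
  obtain ⟨H', hH'⟩ := Subgroup.exists_right_complement'_of_coprime hcop'
  refine ⟨H'.map C.subtype, Subgroup.map_subtype_le _, ?_, ?_, ?_⟩
  · rw [eq_bot_iff]
    rintro g ⟨hgN, ⟨h, hh, rfl⟩⟩
    have h1 : h ∈ N.subgroupOf C ⊓ H' := ⟨Subgroup.mem_subgroupOf.mpr hgN, hh⟩
    rw [hH'.disjoint.eq_bot, Subgroup.mem_bot] at h1
    rw [h1]
    exact Subgroup.one_mem _
  · have h1 := hH'.sup_eq_top
    have h2 := congrArg (Subgroup.map C.subtype) h1
    rw [Subgroup.map_sup, Subgroup.map_subgroupOf_eq_of_le hNC, ← MonoidHom.range_eq_map,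
      Subgroup.range_subtype] at h2
    exact h2
  · rw [Subgroup.card_map_of_injective C.subtype_injective]
    exact hH'.symm.index_eq_card.symm

/-- **B&G Lemma 15.1(a)**. -/
theorem part_a (hG : IsMinSimpleOddOrder G) {M H : Subgroup G} (hM : IsCoatom M)
    (hH : H ≤ sigmaCore M) (hH1 : H ≠ ⊥)
    (hHall : (Nat.card H).Coprime (H.relIndex (sigmaCore M))) :
    ∃ X : Subgroup G, IsCyclic X ∧ (∀ p : ℕ, p.Prime → p ∣ Nat.card X → p ∈ tau2 M) ∧
      M ⊓ Subgroup.centralizer (H : Set G) =
        (sigmaCore M ⊓ Subgroup.centralizer (H : Set G)) ⊔ X := by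
  classical
  set C := M ⊓ Subgroup.centralizer (H : Set G) with hC
  set Cs := sigmaCore M ⊓ Subgroup.centralizer (H : Set G) with hCs
  have hCsC : Cs ≤ C := inf_le_inf_right _ (sigmaCore_le M)
  have hCseq : Cs = sigmaCore M ⊓ C := by
    rw [hCs, hC, ← inf_assoc, inf_eq_left.mpr (sigmaCore_le M)]
  have hn : C ≤ Subgroup.normalizer (Cs : Set G) := by
    apply Cfsg.Agent.Lib.Helper10.BG.le_normalizer_of_conj_mem
    intro c hc a ha
    refine ⟨conj_mem_of_mem_normalizer (le_normalizer_sigmaCore M hc.1) ha.1, ?_⟩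
    exact (Subgroup.centralizer (H : Set G)).mul_mem
      ((Subgroup.centralizer (H : Set G)).mul_mem hc.2 ha.2)
      ((Subgroup.centralizer (H : Set G)).inv_mem hc.2)
  have hHallM := (Cfsg.Agent.S1350.result hG M hM).1
  have hcopM : (Nat.card (sigmaCore M)).Coprime ((sigmaCore M).relIndex M) := by
    apply Nat.coprime_of_dvd
    intro k hk hk1 hk2
    exact hHallM.2.2 k hk (hHallM.2.1 k hk hk1) hk2
  have hrel : Cs.relIndex C ∣ (sigmaCore M).relIndex M := by
    rw [hCseq, Subgroup.inf_relIndex_right]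
    apply Cfsg.Agent.Lib.Helper9.WrLocal.relIndex_dvd_relIndex_of_le_of_normal _ _ _ inf_le_left
    exact (Subgroup.normal_subgroupOf_iff_le_normalizer (sigmaCore_le M)).mpr
      (le_normalizer_sigmaCore M)
  have hcop : (Nat.card Cs).Coprime (Cs.relIndex C) :=
    (hcopM.coprime_dvd_left (Subgroup.card_dvd_of_le inf_le_left)).coprime_dvd_right hrel
  obtain ⟨X, hXC, hinf, hsup, hXcard⟩ := exists_compl_of_normal_coprime hCsC hn hcop
  have hXM : X ≤ M := hXC.trans inf_le_left
  have hXcH : X ≤ Subgroup.centralizer (H : Set G) := hXC.trans inf_le_right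
  have hXcop : (Nat.card X).Coprime (Nat.card (sigmaCore M)) := by
    rw [hXcard]
    exact (hcopM.coprime_dvd_right hrel).symm
  obtain ⟨E, hE, hXE⟩ := exists_isComplIn_sigmaCore_ge hG hM hXM hXcop
  -- a nonidentity element of `H`
  obtain ⟨y₀, hy₀1⟩ := (Subgroup.ne_bot_iff_exists_ne_one.mp hH1)
  have hy₀' : (y₀ : G) ≠ 1 := fun h => hy₀1 (Subtype.ext h)
  -- the primes of `X` lie in `τ₂(M)`
  have hτ : ∀ p : ℕ, p.Prime → p ∣ Nat.card X → p ∈ tau2 M := by
    intro p hp hpd
    haveI : Fact p.Prime := ⟨hp⟩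
    obtain ⟨x₀, hx₀⟩ := exists_prime_orderOf_dvd_card' p hpd
    have hx₀o : orderOf (x₀ : G) = p := by rw [Subgroup.orderOf_coe]; exact hx₀
    have hx₀M : (x₀ : G) ∈ M := hXM x₀.2
    have hx₀1 : (x₀ : G) ≠ 1 := by
      intro h
      rw [h, orderOf_one] at hx₀o
      exact hp.one_lt.ne hx₀o
    have hcomm : (x₀ : G) * (y₀ : G) = (y₀ : G) * (x₀ : G) :=
      (Subgroup.mem_centralizer_iff.mp (hXcH x₀.2) (y₀ : G) y₀.2).symm
    have hpσ : p ∉ sigma M := by
      intro hσ
      have h1 := Cfsg.Agent.Lib.Helper7.BG13.dvd_card_sigmaCore_of_mem_sigma hG hM hσ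
      have h2 := Nat.dvd_gcd hpd h1
      rw [hXcop.gcd_eq_one] at h2
      exact hp.one_lt.ne' (Nat.dvd_one.mp h2)
    rcases Cfsg.Agent.Lib.Helper11.BG14.mem_kappa_or_tau2 hG hM (hH y₀.2) hy₀' hx₀M hx₀o hpσ hcomm
      with hκ | h2
    · exfalso
      have hU : ∀ q : ℕ, q.Prime → q ∣ Nat.card (Subgroup.zpowers (x₀ : G)) → q ∈ kappa M := by
        intro q hq hqd
        rw [Nat.card_zpowers, hx₀o] at hqd
        rw [(Nat.prime_dvd_prime_iff_eq hq hp).mp hqd]
        exact hκ
      obtain ⟨K, hK, hUK⟩ := Cfsg.Agent.Lib.Helper11.BG14.exists_kappa_hall_ge hG hM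
        (Subgroup.zpowers_le.mpr hx₀M) hU
      have hx₀K : (x₀ : G) ∈ K := hUK (Subgroup.mem_zpowers _)
      have hK1 : K ≠ ⊥ := by
        intro hb
        rw [hb, Subgroup.mem_bot] at hx₀K
        exact hx₀1 hx₀K
      have h30 := (Cfsg.Agent.S1430.result hG M hM K hK hK1).1 (x₀ : G) hx₀K hx₀1
      have h31 := (Cfsg.Agent.S1431.result hG M hM K hK hK1).2.2.1
      have hHK : H ≤ sigmaCore M ⊓ Subgroup.centralizer (K : Set G) := by
        rw [← h30]
        intro h hh
        refine Subgroup.mem_inf.mpr ⟨hH hh, ?_⟩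
        rw [Subgroup.mem_centralizer_singleton_iff]
        exact Subgroup.mem_centralizer_iff.mp (hXcH x₀.2) h hh
      have hc1 : Nat.card H ≠ 1 := fun h1 => hH1 (Subgroup.card_eq_one.mp h1)
      obtain ⟨q, hq, hqd⟩ := Nat.exists_prime_and_dvd hc1
      haveI : Fact q.Prime := ⟨hq⟩
      obtain ⟨T, hT⟩ := exists_isSylowIn q H
      have hnd : ¬ q ∣ H.relIndex (sigmaCore M) := by
        intro h
        have h2 := Nat.dvd_gcd hqd h
        rw [hHall.gcd_eq_one] at h2
        exact hq.one_lt.ne' (Nat.dvd_one.mp h2)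
      have hTs : IsSylowIn q T (sigmaCore M) := hT.of_not_dvd_relIndex hH hnd
      have := (h31 q hq (hqd.trans (Subgroup.card_dvd_of_le hHK)) hTs.toSylow).2.2
      apply this
      rw [hTs.coe_toSylow, Subgroup.map_subgroupOf_eq_of_le hTs.le]
      exact hT.le.trans hHK
    · exact h2
  -- the Sylow subgroups of `X` are cyclic
  have hZ : IsZGroup ↥X := by
    constructor
    intro p hp P
    haveI : Fact p.Prime := ⟨hp⟩
    by_cases hpd : p ∣ Nat.card X
    · have hp2τ := hτ p hp hpd
      have hpG : p ∣ Nat.card G :=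
        hpd.trans (Subgroup.card_subgroup_dvd_card X)
      have hp2 : p ≠ 2 := prime_ne_two hG hpG
      have hr1 : PRankLE p 1 ↥C := by
        by_contra hr1
        have hr2 : PRankLE p 2 ↥C :=
          Cfsg.Agent.Lib.Helper29.BG129.pRankLE_of_le inf_le_left hp2τ.2.2.1
        obtain ⟨A, hAC, hAe, hAc⟩ := Cfsg.Agent.Lib.Helper9.BG10.exists_elementary_sq hr2 hr1
        have hd := (Cfsg.Agent.S1417.result hG M hM p hp2τ A ⟨hAC.trans inf_le_left, hAe, hAc⟩).2.2.2.1
        apply hH1
        rw [eq_bot_iff, ← hd]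
        intro h hh
        refine Subgroup.mem_inf.mpr ⟨hH hh, ?_⟩
        rw [Subgroup.mem_centralizer_iff]
        intro a ha
        exact (Subgroup.mem_centralizer_iff.mp (hAC ha).2 h hh).symm
      have h1 : IsCyclic ↥((P : Subgroup ↥X).map X.subtype) :=
        isCyclic_of_pRankLE_one hp2 hr1 ((Subgroup.map_subtype_le _).trans hXC) (P.2.map _)
      exact (MulEquiv.isCyclic
        ((P : Subgroup ↥X).equivMapOfInjective X.subtype X.subtype_injective)).mpr h1
    · have h1 : Nat.card (P : Subgroup ↥X) = 1 := by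
        rcases P.2.card_eq_or_dvd with h | h
        · exact h
        · exact absurd (h.trans (Subgroup.card_subgroup_dvd_card _)) hpd
      haveI : Subsingleton ↥(P : Subgroup ↥X) := (Nat.card_eq_one_iff_unique.mp h1).1
      exact isCyclic_of_subsingleton
  exact ⟨X, isCyclic_of_tau2_zgroup hG hM hE hXE hτ hZ, hτ, hsup.symm⟩

end PartA2

end Part3

section Part4

section PartB1

variable {G : Type*} [Group G] [Finite G]

/-- complements of a normal Hall subgroup `N` of a solvable subgroup `S` containing a given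
subgroup of order prime to `|N|`. -/
theorem exists_compl_ge {N S V : Subgroup G} (hS : Group.IsSolvable ↥S) (hNS : N ≤ S)
    (hn : S ≤ Subgroup.normalizer (N : Set G)) (hcop : (Nat.card N).Coprime (N.relIndex S))
    (hVS : V ≤ S) (hV : (Nat.card V).Coprime (Nat.card N)) :
    ∃ D : Subgroup G, D ≤ S ∧ N ⊓ D = ⊥ ∧ N ⊔ D = S ∧ Nat.card D = N.relIndex S ∧ V ≤ D := by
  have hcardS : Nat.card ↥S = N.relIndex S * Nat.card N := by
    rw [mul_comm]; exact (Cfsg.Agent.Lib.Helper12.card_mul_relIndex_eq hNS).symm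
  have hVcard : (Nat.card (V.subgroupOf S)).Coprime (Nat.card N) := by
    rw [Nat.card_congr (Subgroup.subgroupOfEquivOfLe hVS).toEquiv]; exact hV
  obtain ⟨H', hH'card, hVH'⟩ := Cfsg.Agent.Lib.Helper1.hall_dominance (G := ↥S) _ _ hcardS
    hcop.symm (V.subgroupOf S) hVcard
  have hDcard : Nat.card (H'.map S.subtype) = N.relIndex S := by
    rw [Subgroup.card_map_of_injective S.subtype_injective, hH'card]
  have hDS : H'.map S.subtype ≤ S := Subgroup.map_subtype_le H'
  have hinf : N ⊓ H'.map S.subtype = ⊥ := by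
    apply inf_eq_bot_of_coprime
    rw [hDcard]; exact hcop
  refine ⟨H'.map S.subtype, hDS, hinf, ?_, hDcard, ?_⟩
  · have h1 := Cfsg.H5.card_sup_mul_card_inf (hDS.trans hn)
    rw [inf_comm, hinf, Subgroup.card_bot, mul_one, hDcard, ← hcardS, sup_comm] at h1
    exact Subgroup.eq_of_le_of_card_ge (sup_le hNS hDS) h1.ge
  · intro x hx
    exact ⟨⟨x, hVS hx⟩, hVH' (Subgroup.mem_subgroupOf.mpr hx), rfl⟩

/-- a Hall subgroup `H` of `S = Q ⋊ D` (`Q` a normal Sylow `q`-subgroup, all complements
nilpotent) is either nilpotent or normalized by every subgroup `M` normalizing `S` and `Q`. -/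
theorem isNilpotent_or_le_normalizer {q : ℕ} [Fact q.Prime] {M S Q H : Subgroup G}
    (hS : Group.IsSolvable ↥S) (hMS : M ≤ Subgroup.normalizer (S : Set G)) (hSM : S ≤ M)
    (hQS : Q ≤ S) (hMQ : M ≤ Subgroup.normalizer (Q : Set G)) (hQ : IsPGroup q Q)
    (hQsyl : ¬ q ∣ Q.relIndex S)
    (hD : ∀ D : Subgroup G, IsComplIn Q D S → Group.IsNilpotent ↥D)
    (hHS : H ≤ S) (hHall : (Nat.card H).Coprime (H.relIndex S)) :
    Group.IsNilpotent ↥H ∨ M ≤ Subgroup.normalizer (H : Set G) := by
  classical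
  have hq : q.Prime := Fact.out
  have hSQ : S ≤ Subgroup.normalizer (Q : Set G) := hSM.trans hMQ
  obtain ⟨a, ha⟩ := hQ.exists_card_eq
  have hcopQ : (Nat.card Q).Coprime (Q.relIndex S) := by
    rw [ha]
    exact Nat.Coprime.pow_left a ((Nat.Prime.coprime_iff_not_dvd hq).mpr hQsyl)
  have hcompl : ∀ D : Subgroup G, D ≤ S → Q ⊓ D = ⊥ → Q ⊔ D = S → IsComplIn Q D S := by
    intro D hDS hinf hsup
    refine ⟨hQS, hDS, hinf, ?_⟩
    intro m hm
    rw [← hsup] at hm
    exact exists_mul_of_mem_sup_of_le_normalizer (hDS.trans hSQ) hm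
  by_cases hqH : q ∣ Nat.card H
  · right
    -- `Q ≤ H`
    obtain ⟨T, hT⟩ := exists_isSylowIn q H
    have hndH : ¬ q ∣ H.relIndex S := by
      intro h
      have h2 := Nat.dvd_gcd hqH h
      rw [hHall.gcd_eq_one] at h2
      exact hq.one_lt.ne' (Nat.dvd_one.mp h2)
    have hTS : IsSylowIn q T S := hT.of_not_dvd_relIndex hHS hndH
    have hQH : Q ≤ H := (hTS.normal_le hQS hQ hSQ).trans hT.le
    -- a complement `H₁` of `Q` in `H`
    have hrelH : Q.relIndex H ∣ Q.relIndex S := by
      apply Cfsg.Agent.Lib.Helper9.WrLocal.relIndex_dvd_relIndex_of_le_of_normal _ _ _ hHS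
      exact (Subgroup.normal_subgroupOf_iff_le_normalizer hQS).mpr hSQ
    obtain ⟨H₁, hH₁H, hinf₁, hsup₁, hH₁card⟩ := exists_compl_of_normal_coprime hQH
      (hHS.trans hSQ) (hcopQ.coprime_dvd_right hrelH)
    have hH₁cop : (Nat.card H₁).Coprime (Nat.card Q) := by
      rw [hH₁card]
      exact (hcopQ.coprime_dvd_right hrelH).symm
    obtain ⟨D, hDS, hinfD, hsupD, hDcard, hH₁D⟩ := exists_compl_ge hS hQS hSQ hcopQ
      (hH₁H.trans hHS) hH₁cop
    have hDnil := hD D (hcompl D hDS hinfD hsupD)
    -- `H₁` is a normal Hall subgroup of `D`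
    have hcardH : Nat.card Q * Nat.card H₁ = Nat.card H := by
      rw [hH₁card]; exact Cfsg.Agent.Lib.Helper12.card_mul_relIndex_eq hQH
    have hcardS : Nat.card Q * Nat.card D = Nat.card S := by
      rw [hDcard]; exact Cfsg.Agent.Lib.Helper12.card_mul_relIndex_eq hQS
    have hrel₁ : H₁.relIndex D = H.relIndex S := by
      have h1 := Cfsg.Agent.Lib.Helper12.card_mul_relIndex_eq hH₁D
      have h2 := Cfsg.Agent.Lib.Helper12.card_mul_relIndex_eq hHS
      have h3 : Nat.card Q * Nat.card H₁ * H₁.relIndex D =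
          Nat.card Q * Nat.card H₁ * H.relIndex S := by
        rw [mul_assoc, h1, hcardS, hcardH, h2]
      exact Nat.eq_of_mul_eq_mul_left (Nat.mul_pos Nat.card_pos Nat.card_pos) h3
    have hDH₁ : D ≤ Subgroup.normalizer (H₁ : Set G) := by
      apply le_normalizer_of_hall_le_nilpotent hDnil le_rfl Subgroup.le_normalizer hH₁D
      intro r hr hrd
      haveI : Fact r.Prime := ⟨hr⟩
      obtain ⟨R, hR⟩ := exists_isSylowIn r H₁
      refine ⟨R, hR.of_not_dvd_relIndex hH₁D ?_, hR.le⟩
      rw [hrel₁]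
      intro h
      have h2 := Nat.dvd_gcd (hrd.trans (Dvd.intro_left _ hcardH)) h
      rw [hHall.gcd_eq_one] at h2
      exact hr.one_lt.ne' (Nat.dvd_one.mp h2)
    -- `S` normalizes `H`
    have hSH : S ≤ Subgroup.normalizer (H : Set G) := by
      rw [← hsupD]
      apply sup_le (hQH.trans Subgroup.le_normalizer)
      rw [← hsup₁]
      intro d hd
      have hdQ : d ∈ Subgroup.normalizer (Q : Set G) := hSQ (hDS hd)
      have hdH₁ := hDH₁ hd
      refine Cfsg.Agent.Lib.Helper10.BG.le_normalizer_of_conj_mem (N := Subgroup.zpowers d)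
        (K := Q ⊔ H₁) ?_ (Subgroup.mem_zpowers d)
      intro n hn x hx
      have hnQ : n ∈ Subgroup.normalizer (Q : Set G) := (Subgroup.zpowers_le.mpr hdQ) hn
      have hnH₁ : n ∈ Subgroup.normalizer (H₁ : Set G) := (Subgroup.zpowers_le.mpr hdH₁) hn
      have hle : Q ⊔ H₁ ≤ (Q ⊔ H₁).comap (MulAut.conj n).toMonoidHom := by
        apply sup_le
        · intro y hy
          exact Subgroup.mem_sup_left (conj_mem_of_mem_normalizer hnQ hy)
        · intro y hy
          exact Subgroup.mem_sup_right (conj_mem_of_mem_normalizer hnH₁ hy)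
      exact hle hx
    -- `M` normalizes `H`
    apply Cfsg.Agent.Lib.Helper10.BG.le_normalizer_of_conj_mem
    intro m hm x hx
    have hV : H.map (MulAut.conj m).toMonoidHom ≤ S := by
      rintro _ ⟨y, hy, rfl⟩
      exact conj_mem_of_mem_normalizer (hMS hm) (hHS hy)
    have hVcard : Nat.card (H.map (MulAut.conj m).toMonoidHom) = Nat.card H :=
      Subgroup.card_map_of_injective (MulAut.conj m).injective
    have := Cfsg.Agent.Lib.Helper3.BG14.le_of_coprime_relIndex hSH hV (by rw [hVcard]; exact hHall)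
    exact this ⟨x, hx, rfl⟩
  · left
    have hHcop : (Nat.card H).Coprime (Nat.card Q) := by
      rw [ha]
      exact Nat.Coprime.pow_right a ((Nat.Prime.coprime_iff_not_dvd hq).mpr hqH).symm
    obtain ⟨D, hDS, hinfD, hsupD, hDcard, hHD⟩ := exists_compl_ge hS hQS hSQ hcopQ hHS hHcop
    exact isNilpotent_of_le hHD (hD D (hcompl D hDS hinfD hsupD))

end PartB1

end Part4

section Part5

section PartB2

variable {G : Type*} [Group G] [Finite G]

/-- a Hall subgroup of `M_σ` is nilpotent or normal in `M`. -/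
theorem hall_isNilpotent_or_normal (hG : IsMinSimpleOddOrder G) {M H : Subgroup G}
    (hM : IsCoatom M) (hH : H ≤ sigmaCore M)
    (hHall : (Nat.card H).Coprime (H.relIndex (sigmaCore M))) :
    Group.IsNilpotent ↥H ∨ M ≤ Subgroup.normalizer (H : Set G) := by
  classical
  by_cases hnil : Group.IsNilpotent ↥(sigmaCore M)
  · exact Or.inl (isNilpotent_of_le hH hnil)
  have hne : fittingHallOf M ≠ sigmaCore M := by
    intro h
    apply hnil
    rw [← h]
    exact Cfsg.Agent.Lib.Helper7.BGTypes.isNilpotent_fittingHallOf M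
  obtain ⟨⟨K, hK⟩, hcyc⟩ := Cfsg.Agent.S1351.result hG M hM
  obtain ⟨⟨U, hKU⟩, -⟩ := Cfsg.Agent.S1352.result hG M hM K (hcyc K hK) hK
  obtain ⟨-, -, -, hqp, -, -, Q, hQF, hMQ, hQ, hQsyl, hD⟩ :=
    Cfsg.Agent.S1437.result hG M hM K U hKU hne
  haveI : Fact (Nat.card ↥(sigmaCore M ⊓ Subgroup.centralizer (K : Set G))).Prime := ⟨hqp⟩
  have hStop : sigmaCore M ≠ ⊤ := ne_top_of_le_ne_top hM.1 (sigmaCore_le M)
  exact isNilpotent_or_le_normalizer (isSolvable_of_ne_top hG hStop) (le_normalizer_sigmaCore M)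
    (sigmaCore_le M) (hQF.trans (Cfsg.Agent.Lib.Helper1.BGFthm.fittingHallOf_le_sigmaCore hG hM))
    hMQ hQ hQsyl (fun D hDc => (hD D hDc).1) hH hHall

/-- **B&G Lemma 15.1(b)**. -/
theorem part_b (hG : IsMinSimpleOddOrder G) {M H : Subgroup G} (hM : IsCoatom M)
    (hH : H ≤ sigmaCore M) (hH1 : H ≠ ⊥)
    (hHall : (Nat.card H).Coprime (H.relIndex (sigmaCore M))) :
    ∀ x ∈ H, ∀ g : G, g * x * g⁻¹ ∈ H →
      ∃ n ∈ M ⊓ Subgroup.normalizer (H : Set G), n * x * n⁻¹ = g * x * g⁻¹ := by
  classical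
  intro x hx g hgx
  have h50 := Cfsg.Agent.S1350.result hG M hM
  have hcopS : (Nat.card (sigmaCore M)).Coprime (sigmaCore M).index := by
    apply Nat.coprime_of_dvd
    intro k hk hk1 hk2
    exact h50.2.1.2 k hk (h50.2.1.1 k hk hk1) hk2
  have hcopSM : (Nat.card (sigmaCore M)).Coprime ((sigmaCore M).relIndex M) := by
    apply Nat.coprime_of_dvd
    intro k hk hk1 hk2
    exact h50.1.2.2 k hk (h50.1.2.1 k hk hk1) hk2
  have hcardd : Nat.card H ∣ Nat.card (sigmaCore M) := Subgroup.card_dvd_of_le hH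
  rcases hall_isNilpotent_or_normal hG hM hH hHall with hHn | hMH
  · have hHallG : (Nat.card H).Coprime H.index := by
      rw [← Subgroup.relIndex_mul_index hH]
      exact Nat.Coprime.mul_right hHall (hcopS.coprime_dvd_left hcardd)
    obtain ⟨n, hn, hnx⟩ := Cfsg.Agent.S1384.result hG H hHn hHallG x hx g hgx
    have hVh : (Nat.card H).Coprime (H.relIndex M) := by
      rw [← Subgroup.relIndex_mul_relIndex H (sigmaCore M) M hH (sigmaCore_le M)]
      exact Nat.Coprime.mul_right hHall (hcopSM.coprime_dvd_left hcardd)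
    have hle := Cfsg.Agent.Lib.Helper7.BGTypes.normalizer_le_of_nilpotent_sigma_hall hG hM
      (hH.trans (sigmaCore_le M)) hHn hH1 hVh
      (fun r hr hrd => mem_sigma_of_dvd_card_sigmaCore hG hM hr (hrd.trans hcardd))
    exact ⟨n, ⟨hle hn, hn⟩, hnx⟩
  · by_cases hx1 : x = 1
    · refine ⟨1, Subgroup.one_mem _, ?_⟩
      rw [hx1]; group
    obtain ⟨-, R, -, hRc, hR⟩ := Cfsg.Agent.S1374.result hG M hM x (hH hx) hx1
    have hxg : x ∈ M.map (MulAut.conj g⁻¹).toMonoidHom := by
      refine ⟨g * x * g⁻¹, sigmaCore_le M (hH hgx), ?_⟩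
      show g⁻¹ * (g * x * g⁻¹) * g⁻¹⁻¹ = x
      group
    obtain ⟨r, ⟨hrR, hrM⟩, -⟩ := hR g⁻¹ hxg
    have hrc : r ∈ Subgroup.centralizer ({x} : Set G) := hRc.2.1 hrR
    rw [Subgroup.mem_centralizer_singleton_iff] at hrc
    have hm : g * r ∈ M := by
      apply mem_of_map_conj_eq_self hG hM
      rw [← map_conj_map_conj, hrM, map_conj_map_conj_inv]
    refine ⟨g * r, ⟨hm, hMH hm⟩, ?_⟩
    have : r * x * r⁻¹ = x := by rw [hrc]; group
    calc g * r * x * (g * r)⁻¹ = g * (r * x * r⁻¹) * g⁻¹ := by group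
      _ = g * x * g⁻¹ := by rw [this]

/-- the frozen statement `S1438` (B&G Lemma 15.1). -/
theorem s1438_of (hG : IsMinSimpleOddOrder G) (M : Subgroup G) (hM : IsCoatom M) (H : Subgroup G)
    (hH : H ≤ sigmaCore M) (hH1 : H ≠ ⊥)
    (hHall : (Nat.card H).Coprime (H.relIndex (sigmaCore M))) :
    (∃ X : Subgroup G, IsCyclic X ∧ (∀ p : ℕ, p.Prime → p ∣ Nat.card X → p ∈ tau2 M) ∧
        M ⊓ Subgroup.centralizer (H : Set G) =
          (sigmaCore M ⊓ Subgroup.centralizer (H : Set G)) ⊔ X) ∧
      ∀ x ∈ H, ∀ g : G, g * x * g⁻¹ ∈ H →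
        ∃ n ∈ M ⊓ Subgroup.normalizer (H : Set G), n * x * n⁻¹ = g * x * g⁻¹ :=
  ⟨part_a hG hM hH hH1 hHall, part_b hG hM hH hH1 hHall⟩

end PartB2

end Part5

end Cfsg.Agent.Lib.Helper1.BG151
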