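import Mathlib
import Cfsg.Prelude
import Cfsg.Agent.Lib.Helper1.BG151
import Cfsg.Agent.S1439
import Cfsg.Agent.S1355
import Cfsg.Agent.S1365
import Cfsg.Agent.S1373
import Cfsg.Agent.Lib.Helper7.BGTypesD
import Cfsg.Agent.S1420
import Cfsg.Agent.Lib.Helper2.BG13Aux
import Cfsg.Agent.Lib.Helper19.BG14B
import Cfsg.Agent.Lib.Helper3.BG14A

/-!
# B&G Corollary 15.3 (frozen row S1356): M'' ≤ F(M) = C_M(M_F) M_F, and F(M) ≤ M' when kappa(M) is nonempty. Generic tools: commutator_le_sup_commutator (S = QD, Q normal => S' ≤ Q D'), le_normalizer_commutator_self, isNilpotent_of_centralizes (central extension of nilpotent), exists_decomp, second_derived_le_sigmaCore (M'' ≤ M_sigma), fittingHallOf_le_fittingOf, isNilpotent_inf_centralizer (C_M(M_F) nilpotent).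
-/

set_option autoImplicit false
set_option linter.unusedSectionVars false
set_option linter.unusedVariables false

namespace Cfsg.Agent.Lib.Helper1.BG153

open Cfsg
open scoped commutatorElement
open Cfsg.Agent.Lib.Helper10.BG Cfsg.Agent.Lib.Helper10 Cfsg.Agent.Lib.Helper9.BGExc
open Cfsg.Agent.Lib.Helper1.BGFthm
open Cfsg.Agent.Lib.Helper1.BGFthm Cfsg.Agent.Lib.Helper7.BGTypes

section Part1

variable {G : Type*} [Group G]

/-- if `S = Q D` with `Q` normal in `S`, then `S' ≤ Q D'`. -/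
theorem commutator_le_sup_commutator {Q D S : Subgroup G}
    (hSQ : S ≤ Subgroup.normalizer (Q : Set G)) (hDS : D ≤ S)
    (hS : ∀ s ∈ S, ∃ a ∈ Q, ∃ d ∈ D, s = a * d) : ⁅S, S⁆ ≤ Q ⊔ ⁅D, D⁆ := by
  rw [Subgroup.commutator_le]
  intro x hx y hy
  obtain ⟨a, ha, d, hd, rfl⟩ := hS x hx
  obtain ⟨b, hb, e, he, rfl⟩ := hS y hy
  have hconj : ∀ s ∈ S, ∀ z ∈ Q, s * z * s⁻¹ ∈ Q := fun s hs z hz =>
    (Subgroup.mem_normalizer_iff.mp (hSQ hs) z).mp hz
  have hc : ⁅d, e⁆ ∈ ⁅D, D⁆ := Subgroup.commutator_mem_commutator hd he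
  have hcS : ⁅d, e⁆ ∈ S := by
    rw [commutatorElement_def]
    exact S.mul_mem (S.mul_mem (S.mul_mem (hDS hd) (hDS he)) (S.inv_mem (hDS hd)))
      (S.inv_mem (hDS he))
  have h1 : d * b * d⁻¹ ∈ Q := hconj d (hDS hd) b hb
  have hded : d * e * d⁻¹ ∈ S := S.mul_mem (S.mul_mem (hDS hd) (hDS he)) (S.inv_mem (hDS hd))
  have h2 : (d * e * d⁻¹) * a⁻¹ * (d * e * d⁻¹)⁻¹ ∈ Q := hconj _ hded _ (Q.inv_mem ha)
  have h3 : ⁅d, e⁆ * b⁻¹ * ⁅d, e⁆⁻¹ ∈ Q := hconj _ hcS _ (Q.inv_mem hb)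
  have hid : ⁅a * d, b * e⁆ =
      (a * (d * b * d⁻¹) * ((d * e * d⁻¹) * a⁻¹ * (d * e * d⁻¹)⁻¹) * (⁅d, e⁆ * b⁻¹ * ⁅d, e⁆⁻¹)) *
        ⁅d, e⁆ := by
    simp only [commutatorElement_def]
    group
  rw [hid]
  exact Subgroup.mul_mem_sup (Q.mul_mem (Q.mul_mem (Q.mul_mem ha h1) h2) h3) hc

/-- a subgroup normalizing `Q` normalizes `Q'`. -/
theorem le_normalizer_commutator_self {A Q : Subgroup G}
    (h : A ≤ Subgroup.normalizer (Q : Set G)) :
    A ≤ Subgroup.normalizer ((⁅Q, Q⁆ : Subgroup G) : Set G) := by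
  intro g hg
  have h1 := Subgroup.mem_normalizer_iff_map_conj_eq.mp (h hg)
  rw [Subgroup.mem_normalizer_iff_map_conj_eq, Subgroup.map_commutator, h1]

/-- a central extension of a nilpotent group is nilpotent (subgroup form): if `C ≤ M` centralizes
`F`, and the image of `C` modulo `F` is nilpotent, then `C` is nilpotent. -/
theorem isNilpotent_of_centralizes {X : Type*} [Group X] (F C : Subgroup X) [F.Normal]
    (hC : ∀ c ∈ C, ∀ f ∈ F, c * f = f * c)
    (hnil : Group.IsNilpotent ↥(C.map (QuotientGroup.mk' F))) : Group.IsNilpotent ↥C := by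
  let f : ↥C →* ↥(C.map (QuotientGroup.mk' F)) :=
    ((QuotientGroup.mk' F).comp C.subtype).codRestrict _ (fun c => ⟨c, c.2, rfl⟩)
  haveI := hnil
  apply Subgroup.isNilpotent_of_ker_le_center f
  · intro c hc
    rw [MonoidHom.mem_ker] at hc
    have hc' : ((QuotientGroup.mk' F) (c : X)) = 1 := congrArg Subtype.val hc
    rw [QuotientGroup.mk'_apply, QuotientGroup.eq_one_iff] at hc'
    rw [Subgroup.mem_center_iff]
    intro d
    apply Subtype.ext
    have := hC d d.2 c hc'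
    simpa using this

end Part1

section Part2

variable {G : Type*} [Group G] [Finite G]

/-- a standard factorisation exists. -/
theorem exists_decomp (hG : IsMinSimpleOddOrder G) {M : Subgroup G} (hM : IsCoatom M) :
    ∃ K U : Subgroup G, IsSigmaDecomposition M K U := by
  obtain ⟨⟨K, hK⟩, hcyc⟩ := Cfsg.Agent.S1351.result hG M hM
  obtain ⟨⟨U, hU⟩, -⟩ := Cfsg.Agent.S1352.result hG M hM K (hcyc K hK) hK
  exact ⟨K, U, hU⟩

/-- `M'' ≤ M_σ`. -/
theorem second_derived_le_sigmaCore (hG : IsMinSimpleOddOrder G) {M : Subgroup G}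
    (hM : IsCoatom M) : ⁅⁅M, M⁆, ⁅M, M⁆⁆ ≤ sigmaCore M := by
  obtain ⟨E, hE, -⟩ := exists_isComplIn_sigmaCore_ge hG hM (X := ⊥) bot_le
    (by rw [Subgroup.card_bot]; exact Nat.coprime_one_left _)
  have hEM : E ≤ M := hE.1
  have hEab := (Cfsg.Agent.S1420.result hG M hM E hE).2.1
  have hMS : M ≤ Subgroup.normalizer (sigmaCore M : Set G) := le_normalizer_sigmaCore M
  have hE' := Cfsg.Agent.Lib.Helper7.BGTypes.IsComplIn.symm' hE
  have h1 : ⁅M, M⁆ ≤ sigmaCore M ⊔ ⁅E, E⁆ :=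
    commutator_le_sup_commutator hMS hEM hE'.2.2.2
  have hEE : ⁅E, E⁆ ≤ M := (Subgroup.commutator_le_self E).trans hEM
  have hS : sigmaCore M ⊔ ⁅E, E⁆ ≤ M := sup_le (sigmaCore_le M) hEE
  have h2 : ⁅sigmaCore M ⊔ ⁅E, E⁆, sigmaCore M ⊔ ⁅E, E⁆⁆ ≤ sigmaCore M ⊔ ⁅⁅E, E⁆, ⁅E, E⁆⁆ :=
    commutator_le_sup_commutator (hS.trans hMS) le_sup_right
      (fun s hs => exists_mul_of_mem_sup_of_le_normalizer (hEE.trans hMS) hs)
  have h3 : ⁅⁅E, E⁆, ⁅E, E⁆⁆ = ⊥ := by
    rw [Subgroup.commutator_eq_bot_iff_le_centralizer]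
    intro x hx
    rw [Subgroup.mem_centralizer_iff]
    intro y hy
    have h4 := hEab.is_comm.comm (⟨y, hy⟩ : ↥⁅E, E⁆) ⟨x, hx⟩
    exact congrArg Subtype.val h4
  rw [h3, sup_bot_eq] at h2
  exact (Subgroup.commutator_mono h1 h1).trans h2

end Part2

section Part3

variable {G : Type*} [Group G] [Finite G]

/-- `M'' ≤ F(M)` when `M_F ≠ M_σ`. -/
theorem second_derived_le_fittingOf_of_ne (hG : IsMinSimpleOddOrder G) {M : Subgroup G}
    (hM : IsCoatom M) {K U : Subgroup G} (hKU : IsSigmaDecomposition M K U)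
    (hne : fittingHallOf M ≠ sigmaCore M) (h1430 : H1430 G) (h1373 : H1373 G) :
    ⁅⁅M, M⁆, ⁅M, M⁆⁆ ≤ fittingOf M := by
  obtain ⟨hU, hK1, hnn, hMs, hKp, hqp, -, -, Q, hQF, hMQ, hQp, hidx, hfixQ, hD⟩ :=
    s1437_ext_of hG M hM K U hKU hne h1430 h1373
  haveI : Fact (Nat.card ↥(sigmaCore M ⊓ Subgroup.centralizer (K : Set G))).Prime := ⟨hqp⟩
  have hQS : Q ≤ sigmaCore M := hQF.trans (fittingHallOf_le_sigmaCore hG hM)
  have hSM : sigmaCore M ≤ M := sigmaCore_le M
  have hSQ : sigmaCore M ≤ Subgroup.normalizer (Q : Set G) := hSM.trans hMQ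
  have hcop : (Nat.card Q).Coprime (Q.relIndex (sigmaCore M)) := by
    obtain ⟨k, hk⟩ := hQp.exists_card_eq
    rw [hk]
    exact Nat.Coprime.pow_left k ((Nat.Prime.coprime_iff_not_dvd hqp).mpr hidx)
  obtain ⟨D, hDS, hinf, hsup, -⟩ :=
    Cfsg.Agent.Lib.Helper1.BG151.exists_compl_of_normal_coprime hQS hSQ hcop
  have hcompl : IsComplIn Q D (sigmaCore M) :=
    ⟨hQS, hDS, hinf, fun m hm =>
      exists_mul_of_mem_sup_of_le_normalizer (hDS.trans hSQ) (hsup.symm ▸ hm)⟩
  obtain ⟨hDnil, -, -, -, -, -, hDDQ⟩ := hD D hcompl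
  have h1 : ⁅sigmaCore M, sigmaCore M⁆ ≤ Q ⊔ ⁅D, D⁆ :=
    commutator_le_sup_commutator hSQ hDS hcompl.2.2.2
  have hDD : ⁅D, D⁆ ≤ sigmaCore M := (Subgroup.commutator_le_self D).trans hDS
  have hTnil : Group.IsNilpotent ↥(Q ⊔ ⁅D, D⁆) :=
    Cfsg.Agent.Lib.Helper1.BGFcore.isNilpotent_of_sup_commute (Q := Q) (D := ⁅D, D⁆)
      le_sup_left le_sup_right le_rfl ((sup_le hQS hDD).trans hSQ) hDDQ hQp.isNilpotent
      (isNilpotent_of_le (Subgroup.commutator_le_self D) hDnil)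
  rw [← hMs]
  exact le_fittingOf ((Subgroup.commutator_le_self _).trans hSM)
    (le_normalizer_commutator_self (le_normalizer_sigmaCore M))
    (isNilpotent_of_le h1 hTnil)

/-- `M'' ≤ F(M)`. -/
theorem second_derived_le_fittingOf (hG : IsMinSimpleOddOrder G) {M : Subgroup G}
    (hM : IsCoatom M) (h1430 : H1430 G) (h1373 : H1373 G) :
    ⁅⁅M, M⁆, ⁅M, M⁆⁆ ≤ fittingOf M := by
  obtain ⟨K, U, hKU⟩ := exists_decomp hG hM
  by_cases hne : fittingHallOf M = sigmaCore M
  · refine (second_derived_le_sigmaCore hG hM).trans ?_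
    rw [← hne]
    exact le_fittingOf (Cfsg.Agent.Lib.Helper7.BGTypes.fittingHallOf_le M)
      (Cfsg.Agent.Lib.Helper7.BGTypes.le_normalizer_fittingHallOf M)
      (Cfsg.Agent.Lib.Helper7.BGTypes.isNilpotent_fittingHallOf M)
  · exact second_derived_le_fittingOf_of_ne hG hM hKU hne h1430 h1373

end Part3

section Part4

variable {G : Type*} [Group G] [Finite G]

/-- `M_F ≤ F(M)`. -/
theorem fittingHallOf_le_fittingOf (M : Subgroup G) : fittingHallOf M ≤ fittingOf M :=
  le_fittingOf (fittingHallOf_le M) (le_normalizer_fittingHallOf M) (isNilpotent_fittingHallOf M)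

/-- `F(M) ≤ C_M(M_F) M_F`. -/
theorem fittingOf_le_sup (hG : IsMinSimpleOddOrder G) {M : Subgroup G} (hM : IsCoatom M) :
    fittingOf M ≤ (M ⊓ Subgroup.centralizer (fittingHallOf M : Set G)) ⊔ fittingHallOf M := by
  have hHM := fittingHallOf_le M
  have hMH := le_normalizer_fittingHallOf M
  have hHnil := isNilpotent_fittingHallOf M
  have hHσ : fittingHallOf M ≤ sigmaCore M := fittingHallOf_le_sigmaCore hG hM
  have hHF := fittingHallOf_le_fittingOf M
  have hFnil := isNilpotent_fittingOf M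
  have hSM := sigmaCore_le M
  obtain ⟨-, -, h3⟩ := Cfsg.Agent.S1439.result hG M hM
  have hcopH := fittingHallOf_coprime M
  -- a criterion for lying in the centralizer
  have key : ∀ W : Subgroup G, W ≤ fittingOf M → (Nat.card W).Coprime (Nat.card (fittingHallOf M)) →
      W ≤ M ⊓ Subgroup.centralizer (fittingHallOf M : Set G) := by
    intro W hWF hcop w hw
    refine Subgroup.mem_inf.mpr ⟨fittingOf_le M (hWF hw), ?_⟩
    rw [Subgroup.mem_centralizer_iff]
    intro h hh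
    apply Cfsg.Agent.Lib.Helper1.BGFcons.commute_of_coprime_of_nilpotent hFnil (hHF hh) (hWF hw)
    have h1 : orderOf h ∣ Nat.card (fittingHallOf M) := by
      have := Subgroup.orderOf_dvd_natCard (fittingHallOf M) hh
      exact this
    have h2 : orderOf w ∣ Nat.card W := Subgroup.orderOf_dvd_natCard W hw
    exact (Nat.Coprime.coprime_dvd_left h2 (Nat.Coprime.coprime_dvd_right h1 hcop)).symm
  rw [h3]
  apply sup_le
  · have hFS : fittingOf (sigmaCore M) ≤ sigmaCore M := fittingOf_le _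
    have hHF' : fittingHallOf M ≤ fittingOf (sigmaCore M) :=
      le_fittingOf hHσ (hSM.trans hMH) hHnil
    have hFM : fittingOf (sigmaCore M) ≤ M := hFS.trans hSM
    have hFF : fittingOf (sigmaCore M) ≤ fittingOf M := by
      rw [h3]; exact le_sup_left
    have hcop : (Nat.card (fittingHallOf M)).Coprime
        ((fittingHallOf M).relIndex (fittingOf (sigmaCore M))) :=
      Nat.Coprime.coprime_dvd_right
        (Dvd.intro _ (Subgroup.relIndex_mul_relIndex _ _ _ hHF' hFM)) hcopH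
    obtain ⟨W, hWF, hinf, hsup, hcard⟩ :=
      Cfsg.Agent.Lib.Helper1.BG151.exists_compl_of_normal_coprime hHF' (hFM.trans hMH) hcop
    rw [← hsup]
    refine sup_le le_sup_right (le_trans (key W (hWF.trans hFF) ?_) le_sup_left)
    rw [hcard]
    exact hcop.symm
  · refine le_trans (key _ (Cfsg.Agent.Lib.Lead.BGTrans.piCoreOf_le _ _) ?_) le_sup_left
    apply Nat.coprime_of_dvd
    intro p hp hd1 hd2
    have h1 := Cfsg.Agent.Lib.Lead.BGTrans.piCoreOf_isPiNat {q | q.Prime ∧ q ∉ Cfsg.sigma M}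
      (fittingOf M)
    exact (h1 p hp hd1).2 (mem_sigma_of_dvd_card_sigmaCore hG hM hp
      (hd2.trans (Subgroup.card_dvd_of_le hHσ)))

end Part4

section Part5

variable {G : Type*} [Group G] [Finite G]

/-- `C_{M_σ}(M_F)` is nilpotent. -/
theorem isNilpotent_sigmaCore_inf_centralizer (hG : IsMinSimpleOddOrder G) {M : Subgroup G}
    (hM : IsCoatom M) :
    Group.IsNilpotent ↥(sigmaCore M ⊓ Subgroup.centralizer (fittingHallOf M : Set G)) := by
  set C₀ := sigmaCore M ⊓ Subgroup.centralizer (fittingHallOf M : Set G) with hC₀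
  have hC₀M : C₀ ≤ M := inf_le_left.trans (sigmaCore_le M)
  obtain ⟨-, -, hSM', -, hnil⟩ := Cfsg.Agent.S1355.result hG M hM
  have h1 : Group.IsNilpotent ↥(C₀.subgroupOf M) := by
    apply isNilpotent_of_centralizes (fittingHall ↥M) (C₀.subgroupOf M)
    · intro c hc f hf
      have hc' : (c : G) ∈ Subgroup.centralizer (fittingHallOf M : Set G) :=
        (Subgroup.mem_subgroupOf.mp hc).2
      have hf' : (f : G) ∈ fittingHallOf M := ⟨f, hf, rfl⟩
      apply Subtype.ext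
      have := (Subgroup.mem_centralizer_iff.mp hc') (f : G) hf'
      exact this.symm
    · apply isNilpotent_of_le _ hnil
      apply Subgroup.map_mono
      intro c hc
      have hc' : (c : G) ∈ ⁅M, M⁆ := hSM' (Subgroup.mem_subgroupOf.mp hc).1
      rw [← Subgroup.map_subtype_commutator] at hc'
      obtain ⟨c', hc'', hcc⟩ := hc'
      have : c' = c := Subtype.ext hcc
      rw [← this]
      exact hc''
  exact (Group.isNilpotent_congr (Subgroup.subgroupOfEquivOfLe hC₀M)).mp h1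

/-- `C_M(M_F)` is nilpotent. -/
theorem isNilpotent_inf_centralizer (hG : IsMinSimpleOddOrder G) {M : Subgroup G}
    (hM : IsCoatom M) :
    Group.IsNilpotent ↥(M ⊓ Subgroup.centralizer (fittingHallOf M : Set G)) := by
  have hHM := fittingHallOf_le M
  have hMH := le_normalizer_fittingHallOf M
  have hHσ : fittingHallOf M ≤ sigmaCore M := fittingHallOf_le_sigmaCore hG hM
  have hSM := sigmaCore_le M
  have hMS := le_normalizer_sigmaCore M
  obtain ⟨hH1, -, -, -, -⟩ := Cfsg.Agent.S1355.result hG M hM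
  have hcop : (Nat.card (fittingHallOf M)).Coprime ((fittingHallOf M).relIndex (sigmaCore M)) :=
    Nat.Coprime.coprime_dvd_right
      (Dvd.intro _ (Subgroup.relIndex_mul_relIndex _ _ _ hHσ hSM)) (fittingHallOf_coprime M)
  obtain ⟨X, hXc, hXτ, hCX⟩ := Cfsg.Agent.Lib.Helper1.BG151.part_a hG hM hHσ hH1 hcop
  have hC₀nil := isNilpotent_sigmaCore_inf_centralizer hG hM
  have hXC : X ≤ M ⊓ Subgroup.centralizer (fittingHallOf M : Set G) := by
    rw [hCX]; exact le_sup_right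
  have hXcent : X ≤ Subgroup.centralizer
      ((sigmaCore M ⊓ Subgroup.centralizer (fittingHallOf M : Set G) : Subgroup G) : Set G) := by
    by_cases hne : fittingHallOf M = sigmaCore M
    · refine (hXC.trans inf_le_right).trans (Subgroup.centralizer_le ?_)
      intro x hx
      rw [hne]
      exact hx.1
    · have hnn := not_isNilpotent_sigmaCore hG hM hne
      have hX1 : X = ⊥ := by
        rw [← Subgroup.card_eq_one]
        by_contra h1
        obtain ⟨p, hp, hd⟩ := Nat.exists_prime_and_dvd h1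
        exact Cfsg.Agent.Lib.Helper2.BG13.not_mem_tau2_of_not_nilpotent hG hM hnn p (hXτ p hp hd)
      rw [hX1]
      exact bot_le
  have hXnil : Group.IsNilpotent ↥X := by
    haveI := hXc
    letI : CommGroup ↥X := IsCyclic.commGroup
    exact CommGroup.isNilpotent
  have hnorm : M ≤ Subgroup.normalizer
      ((sigmaCore M ⊓ Subgroup.centralizer (fittingHallOf M : Set G) : Subgroup G) : Set G) := by
    apply Cfsg.Agent.Lib.Helper10.BG.le_normalizer_of_conj_mem
    intro n hn x hx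
    refine ⟨(Subgroup.mem_normalizer_iff.mp (hMS hn) x).mp hx.1, ?_⟩
    exact (Subgroup.mem_normalizer_iff.mp (le_normalizer_centralizer hMH hn) x).mp hx.2
  exact Cfsg.Agent.Lib.Helper1.BGFcore.isNilpotent_of_sup_commute
    (Q := sigmaCore M ⊓ Subgroup.centralizer (fittingHallOf M : Set G)) (D := X)
    (inf_le_inf_right _ hSM) hXC hCX.le (inf_le_left.trans hnorm) hXcent hC₀nil hXnil

/-- `C_M(M_F) M_F ≤ F(M)`. -/
theorem sup_le_fittingOf (hG : IsMinSimpleOddOrder G) {M : Subgroup G} (hM : IsCoatom M) :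
    (M ⊓ Subgroup.centralizer (fittingHallOf M : Set G)) ⊔ fittingHallOf M ≤ fittingOf M := by
  refine sup_le ?_ (fittingHallOf_le_fittingOf M)
  apply le_fittingOf inf_le_left _ (isNilpotent_inf_centralizer hG hM)
  apply Cfsg.Agent.Lib.Helper10.BG.le_normalizer_of_conj_mem
  intro n hn x hx
  refine ⟨M.mul_mem (M.mul_mem hn hx.1) (M.inv_mem hn), ?_⟩
  exact (Subgroup.mem_normalizer_iff.mp
    (le_normalizer_centralizer (le_normalizer_fittingHallOf M) hn) x).mp hx.2

end Part5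

section Part6

variable {G : Type*} [Group G] [Finite G]

/-- if `κ(M) ≠ ∅` then `F(M) ≤ M'`. -/
theorem fittingOf_le_commutator (hG : IsMinSimpleOddOrder G) {M : Subgroup G} (hM : IsCoatom M)
    (hκ : (kappa M).Nonempty) : fittingOf M ≤ ⁅M, M⁆ := by
  obtain ⟨K, U, hKU⟩ := exists_decomp hG hM
  obtain ⟨p, hpκ⟩ := hκ
  have hKM : K ≤ M := hKU.hall.1
  have hK1 : K ≠ ⊥ := by
    intro h
    have h1 := Cfsg.Agent.Lib.Helper12.card_mul_relIndex_eq hKM
    rw [h, Subgroup.card_bot, one_mul] at h1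
    apply hKU.hall.2.2 p hpκ.1 hpκ
    rw [h, h1]
    exact hpκ.2.1
  obtain ⟨hM', -⟩ := Cfsg.Agent.S1365.result hG M hM K U hKU hK1
  obtain ⟨-, -, hSM', -, -⟩ := Cfsg.Agent.S1355.result hG M hM
  obtain ⟨-, hYτ, h3⟩ := Cfsg.Agent.S1439.result hG M hM
  rw [h3]
  apply sup_le ((fittingOf_le _).trans hSM')
  have hYM : piCoreOf {q | q.Prime ∧ q ∉ Cfsg.sigma M} (fittingOf M) ≤ M :=
    (Cfsg.Agent.Lib.Lead.BGTrans.piCoreOf_le _ _).trans (fittingOf_le M)
  have hMn : M ≤ Subgroup.normalizer ((⁅M, M⁆ : Subgroup G) : Set G) :=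
    le_normalizer_commutator_self Subgroup.le_normalizer
  have hsup : K ⊔ ⁅M, M⁆ = M := by
    rw [hM', ← sup_assoc, sup_comm K U, sup_assoc]
    exact IsComplIn.sup_eq hKU.compl
  have hidx : (⁅M, M⁆ : Subgroup G).relIndex M ∣ Nat.card K := by
    have h1 := Cfsg.H5.relIndex_sup_of_le_normalizer (H := K) (N := ⁅M, M⁆) (hKM.trans hMn)
    rw [hsup] at h1
    rw [h1]
    exact Subgroup.relIndex_dvd_card _ _
  apply Cfsg.Agent.Lib.Helper3.BG14.le_of_coprime_relIndex hMn hYM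
  apply Nat.coprime_of_dvd
  intro r hr hd1 hd2
  exact Cfsg.Agent.Lib.Helper19.BG14.not_mem_tau2_of_mem_kappa
    (hKU.hall.2.1 r hr (hd2.trans hidx)) (hYτ r hr hd1)

end Part6

section Part7

variable {G : Type*} [Group G] [Finite G]

/-- **B&G Corollary 15.3** (frozen row `S1356`), from the first conclusion of `S1430` and `S1373`. -/
theorem s1356_of (hG : IsMinSimpleOddOrder G) (M : Subgroup G) (hM : IsCoatom M)
    (h1430 : H1430 G) (h1373 : H1373 G) :
    ⁅⁅M, M⁆, ⁅M, M⁆⁆ ≤ Cfsg.fittingOf M ∧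
      Cfsg.fittingOf M = (M ⊓ Subgroup.centralizer (Cfsg.fittingHallOf M : Set G)) ⊔ Cfsg.fittingHallOf M ∧
      ((Cfsg.kappa M).Nonempty → Cfsg.fittingOf M ≤ ⁅M, M⁆) :=
  ⟨second_derived_le_fittingOf hG hM h1430 h1373,
    le_antisymm (fittingOf_le_sup hG hM) (sup_le_fittingOf hG hM),
    fittingOf_le_commutator hG hM⟩

end Part7

end Cfsg.Agent.Lib.Helper1.BG153
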