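import Mathlib
import Cfsg.Prelude
import Cfsg.Agent.Lib.Helper1.BG153
import Cfsg.Agent.Lib.Helper1.BGConjEq
import Cfsg.Agent.Lib.Helper19.BGCompl
import Cfsg.Agent.S1374
import Cfsg.Agent.S1375

/-!
# B&G Corollary 14.10(b) (second half of the frozen row S1436): if y in M_sigma - 1 has C_G(y) not in M and its maximal overgroup N' is G-conjugate to N (the maximal overgroup of C_G(x)), then it is M-conjugate to N. isComplIn_inf: M cap N complements N_sigma in N (from S1375, for a given N).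
-/

set_option autoImplicit false
set_option linter.unusedSectionVars false
set_option linter.unusedVariables false

namespace Cfsg.Agent.Lib.Helper1.BG1410

open Cfsg
open scoped commutatorElement
open Cfsg.Agent.Lib.Helper10.BG Cfsg.Agent.Lib.Helper10 Cfsg.Agent.Lib.Helper9.BGExc
open Cfsg.Agent.Lib.Helper1.BGConjEq

section Part1

variable {G : Type*} [Group G] [Finite G]

/-- the complement `M ∩ N` of `N_σ` in `N` given by `S1375`, for a given `N`. -/
theorem isComplIn_inf (hG : IsMinSimpleOddOrder G) {M N : Subgroup G} (hM : IsCoatom M) {x : G}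
    (hx : x ∈ sigmaCore M) (hx1 : x ≠ 1) (hxM : ¬ Subgroup.centralizer ({x} : Set G) ≤ M)
    (hN : IsCoatom N) (hxN : Subgroup.centralizer ({x} : Set G) ≤ N) :
    IsComplIn (M ⊓ N) (sigmaCore N) N := by
  obtain ⟨N₀, ⟨hN₀, hxN₀⟩, huniq, -, -, -, hcompl, -⟩ :=
    Cfsg.Agent.S1375.result hG M hM x hx hx1 hxM
  rw [huniq N hN hxN]
  exact hcompl

/-- **B&G Corollary 14.10(b)** (second half of the frozen row `S1436`). -/
theorem conj_in_M (hG : IsMinSimpleOddOrder G) {M N : Subgroup G} (hM : IsCoatom M) {x : G}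
    (hx : x ∈ sigmaCore M) (hx1 : x ≠ 1) (hxM : ¬ Subgroup.centralizer ({x} : Set G) ≤ M)
    (hN : IsCoatom N) (hxN : Subgroup.centralizer ({x} : Set G) ≤ N)
    {y : G} {N' : Subgroup G} {g : G} (hy : y ∈ sigmaCore M) (hy1 : y ≠ 1)
    (hyM : ¬ Subgroup.centralizer ({y} : Set G) ≤ M) (hN' : IsCoatom N')
    (hyN' : Subgroup.centralizer ({y} : Set G) ≤ N') (hg : cj g N' = N) :
    ∃ m ∈ M, cj m N' = N := by
  have hc1 := isComplIn_inf hG hM hx hx1 hxM hN hxN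
  have hc2 := isComplIn_inf hG hM hy hy1 hyM hN' hyN'
  have hyC : y ∈ Subgroup.centralizer ({y} : Set G) := by
    rw [Subgroup.mem_centralizer_iff]
    intro z hz
    rw [Set.mem_singleton_iff] at hz
    rw [hz]
  have hyMN' : y ∈ M ⊓ N' := ⟨sigmaCore_le M hy, hyN' hyC⟩
  -- `cj g (M ⊓ N')` is a `σ(N)'`-subgroup of `N`
  have hE₂N : cj g (M ⊓ N') ≤ N := by
    rw [← hg]
    exact cj_mono g inf_le_right
  have hσ : sigma N = sigma N' := by rw [← hg]; exact sigma_cj hN' g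
  have hK : ∀ q : ℕ, q.Prime → q ∣ Nat.card ↥(cj g (M ⊓ N')) → q ∉ sigma N := by
    intro q hq hd
    rw [card_cj] at hd
    rw [hσ]
    exact Cfsg.Agent.Lib.Helper19.BGCompl.compl_not_mem_sigma hG hN' hc2 hq hd
  obtain ⟨n, hnN, hn⟩ := Cfsg.Agent.Lib.Helper19.BGCompl.compl_dominance hG hN hc1 hE₂N hK
  -- `h := n⁻¹ g` conjugates `y` into `M`
  have h1 : g * y * g⁻¹ ∈ cj n (M ⊓ N) := hn (conj_mem_cj hyMN')
  have h2 : n⁻¹ * (g * y * g⁻¹) * n ∈ M := (mem_cj.mp h1).1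
  have h3 : y ∈ cj (n⁻¹ * g)⁻¹ M := by
    rw [mem_cj, inv_inv]
    have : n⁻¹ * g * y * (n⁻¹ * g)⁻¹ = n⁻¹ * (g * y * g⁻¹) * n := by group
    rw [this]
    exact h2
  obtain ⟨-, R, -, hRc, hR⟩ := Cfsg.Agent.S1374.result hG M hM y hy hy1
  obtain ⟨r, ⟨hrR, hr⟩, -⟩ := hR _ h3
  have hrN' : r ∈ N' := hyN' (hRc.2.1 hrR)
  have h4 : cj (n⁻¹ * g * r) M = M := by
    have : n⁻¹ * g * r = (n⁻¹ * g) * r := rfl
    rw [this, ← cj_cj]
    have hr' : cj r M = cj (n⁻¹ * g)⁻¹ M := hr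
    rw [hr', cj_cj_inv]
  have hmM : n⁻¹ * g * r ∈ M := mem_of_map_conj_eq_self hG hM h4
  refine ⟨n⁻¹ * g * r, hmM, ?_⟩
  have : n⁻¹ * g * r = n⁻¹ * (g * r) := by group
  rw [this, ← cj_cj, ← cj_cj, cj_eq_self_of_mem hrN', hg, cj_eq_self_of_mem (N.inv_mem hnN)]

end Part1

end Cfsg.Agent.Lib.Helper1.BG1410
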