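import Mathlib
import Cfsg.Prelude
import Cfsg.Agent.Lib.Helper7.BGTypesD
import Cfsg.Agent.S1351
import Cfsg.Agent.S1352
import Cfsg.Agent.S1357
import Cfsg.Agent.S1364
import Cfsg.Agent.S1390
import Cfsg.Agent.Lib.Helper1.BG153

/-!
# Type II maximal subgroups: the sets A₀(M), A(M), A₁(M) are TI-subsets with normalizer M (the frozen row S1538).

The proof combines: F(M) is a TI-subset (part of the definition of Type II), the row S1390 (A(M) minus A₁(M) is a TI-subset), and a power argument for the conjugates of the elements of W₁W₂ outside W₁ and W₂.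
-/

set_option autoImplicit false
set_option linter.unusedSectionVars false
set_option linter.unusedVariables false

namespace Cfsg.Agent.Lib.Helper1.BGTypeII

open Cfsg
open Cfsg.Agent.Lib.Helper10.BG Cfsg.Agent.Lib.Helper10 Cfsg.Agent.Lib.Helper9.BGExc
open Cfsg.Agent.Lib.Helper7.BGTypes

variable {G : Type*} [Group G] [Finite G]

omit [Finite G] in
/-- a nonempty `M`-invariant set in which `M` controls fusion strongly is a TI-subset with
normalizer `M`. -/
theorem ti_and_normalizer_eq {M : Subgroup G} {X : Set G} (hne : X.Nonempty)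
    (hinv : ∀ m ∈ M, ∀ x ∈ X, m * x * m⁻¹ ∈ X)
    (hfus : ∀ x ∈ X, ∀ g : G, g * x * g⁻¹ ∈ X → g ∈ M) :
    IsTISubset X ∧ Subgroup.normalizer X = M := by
  have hN : Subgroup.normalizer X = M := by
    apply le_antisymm
    · intro g hg
      obtain ⟨x, hx⟩ := hne
      exact hfus x hx g ((Subgroup.mem_set_normalizer_iff.mp hg x).mp hx)
    · intro m hm
      rw [Subgroup.mem_set_normalizer_iff]
      intro x
      constructor
      · exact hinv m hm x
      · intro h
        have h1 := hinv m⁻¹ (M.inv_mem hm) _ h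
        have h2 : m⁻¹ * (m * x * m⁻¹) * m⁻¹⁻¹ = x := by group
        rwa [h2] at h1
  refine ⟨?_, hN⟩
  intro g hg x hx hgx
  exfalso
  apply hg
  rw [hN]
  exact hfus x hx g hgx

/-- an element of `M` killed by the order of a normal Hall subgroup `N` of `M` lies in `N`. -/
theorem mem_of_pow_card_eq_one {N M : Subgroup G} (hNM : N ≤ M)
    (hn : M ≤ Subgroup.normalizer (N : Set G))
    (hcop : (Nat.card N).Coprime (N.relIndex M)) {y : G} (hy : y ∈ M)
    (hpow : y ^ Nat.card N = 1) : y ∈ N := by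
  haveI : (N.subgroupOf M).Normal := (Subgroup.normal_subgroupOf_iff_le_normalizer hNM).mpr hn
  have h0 : (⟨y, hy⟩ : M) ^ Nat.card N = 1 := by
    apply Subtype.ext
    rw [Subgroup.coe_pow]
    exact hpow
  have h1 : (QuotientGroup.mk (⟨y, hy⟩ : M) : M ⧸ N.subgroupOf M) ^ Nat.card N = 1 := by
    rw [← QuotientGroup.mk_pow, h0]
    rfl
  have h2 : (QuotientGroup.mk (⟨y, hy⟩ : M) : M ⧸ N.subgroupOf M) ^ (N.relIndex M) = 1 := by
    have : N.relIndex M = Nat.card (M ⧸ N.subgroupOf M) := rfl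
    rw [this]
    exact pow_card_eq_one'
  have h3 := eq_one_of_pow_eq_one_of_coprime h1 h2 hcop
  have h4 := (QuotientGroup.eq_one_iff (⟨y, hy⟩ : M)).mp h3
  exact Subgroup.mem_subgroupOf.mp h4

/-- arithmetic of the elements of `W₁'W₂'` outside `W₁'` and `W₂'`, for any type-`P` data of `M`. -/
theorem zpart_facts {M W₁ U' W₂ W₁' U'' W₂' : Subgroup G}
    (hP : IsTypePWith M W₁ U' W₂) (hP' : IsTypePWith M W₁' U'' W₂') {w : G}
    (hw : w ∈ W₁' ⊔ W₂') (hw1 : w ∉ W₁') (hw2 : w ∉ W₂') :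
    w ∈ M ∧ w ^ Nat.card ↥⁅M, M⁆ ≠ 1 ∧ w ^ Nat.card W₁ ∈ fittingOf M ∧ w ^ Nat.card W₁ ≠ 1 := by
  obtain ⟨-, -, -, hcomm, -, -⟩ := hP'.selfNormalizing
  obtain ⟨a, ha, b, hb, rfl⟩ := mem_sup_of_commute' hcomm hw
  have hab : Commute a b := hcomm a ha b hb
  have ha1 : a ≠ 1 := by
    rintro rfl
    apply hw2
    rw [one_mul]
    exact hb
  have hb1 : b ≠ 1 := by
    rintro rfl
    apply hw1
    rw [mul_one]
    exact ha
  have hcard : Nat.card W₁' = Nat.card W₁ := by
    have h1 := Cfsg.Agent.Lib.Helper10.IsComplIn.card_eq hP.W₁_compl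
    have h2 := Cfsg.Agent.Lib.Helper10.IsComplIn.card_eq hP'.W₁_compl
    exact Nat.eq_of_mul_eq_mul_left Nat.card_pos (h2.symm.trans h1)
  have hcop : (Nat.card W₁').Coprime (Nat.card ↥⁅M, M⁆) := by
    have := hP'.W₁_hall
    rwa [relIndex_W₁ hP'] at this
  have hHF : fittingHallOf M ≤ fittingOf M := by
    rw [← hP.fitting_eq]
    exact le_sup_left
  have hW₂H : W₂' ≤ fittingHallOf M := hP'.W₂_le.trans inf_le_left
  have hbM' : b ∈ ⁅M, M⁆ := hP'.U_compl.1 (hW₂H hb)
  have haq' : a ^ Nat.card W₁' = 1 := pow_card_subgroup_eq_one W₁' ha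
  have haq : a ^ Nat.card W₁ = 1 := by rw [← hcard]; exact haq'
  have hbn : b ^ Nat.card ↥⁅M, M⁆ = 1 := pow_card_subgroup_eq_one _ hbM'
  refine ⟨?_, ?_, ?_, ?_⟩
  · exact M.mul_mem (hP'.W₁_compl.2.1 ha) (commutator_le_self M hbM')
  · rw [hab.mul_pow, hbn, mul_one]
    intro h
    exact ha1 (eq_one_of_pow_eq_one_of_coprime haq' h hcop)
  · rw [hab.mul_pow, haq, one_mul]
    exact hHF (hW₂H (W₂'.pow_mem hb _))
  · rw [hab.mul_pow, haq, one_mul]
    intro h
    exact hb1 (eq_one_of_pow_eq_one_of_coprime h hbn (hcard ▸ hcop))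

/-- **The frozen row `S1538`**: for a maximal subgroup `M` of Type II, each of `A₀(M)`, `A(M)`,
`A₁(M)` is a TI-subset of `G` with normalizer `M`. -/
theorem typeII_sets (hG : IsMinSimpleOddOrder G) {M : Subgroup G} (hM : IsCoatom M)
    (hII : IsOfTypeII M) :
    (IsTISubset (typeA0 M) ∧ Subgroup.normalizer (typeA0 M) = M) ∧
    (IsTISubset (typeA M) ∧ Subgroup.normalizer (typeA M) = M) ∧
    (IsTISubset (typeA1 M) ∧ Subgroup.normalizer (typeA1 M) = M) := by
  have hnot34 := not_typeIII_IV_of_typeII hG hM hII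
  have hII' := hII
  obtain ⟨W₁, U', W₂, hP, hU'1, hprime, hTI, hUab, hN, hF, hFH⟩ := hII
  have hnotI : ¬ IsOfTypeI M := by
    have hc1 : Nat.card W₁ ≠ 1 := fun h1 => hP.W₁_ne (Subgroup.card_eq_one.mp h1)
    obtain ⟨p, hp, hpd⟩ := Nat.exists_prime_and_dvd hc1
    exact not_typeI_of_kappa_nonempty hG
      (fun M hM => Cfsg.Agent.S1351.result hG M hM)
      (fun M hM K hKc hK => Cfsg.Agent.S1352.result hG M hM K hKc hK)
      (fun M hM K U hKU hne => Cfsg.Agent.S1357.result hG M hM K U hKU hne)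
      (fun M hM K U hKU hK1 => Cfsg.Agent.S1364.result hG M hM K U hKU hK1)
      hM (mem_kappa_of_typeP hG hM hP hp hpd)
  have hTIdiff : IsTISubset (typeA M \ typeA1 M) :=
    (Cfsg.Agent.S1390.result hG M hM U' (Or.inr ⟨hII', hP.U_compl⟩)).2.2
  have hcore : typeCore M = fittingHallOf M := typeCore_eq_neg hnot34
  have hHM' : fittingHallOf M ≤ ⁅M, M⁆ := hP.U_compl.1
  have hM'M : ⁅M, M⁆ ≤ M := commutator_le_self M
  have hHM : fittingHallOf M ≤ M := Cfsg.Agent.Lib.Helper7.BGTypes.fittingHallOf_le M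
  have hHF : fittingHallOf M ≤ fittingOf M := by
    rw [← hP.fitting_eq]
    exact le_sup_left
  have hH1 : fittingHallOf M ≠ ⊥ := by
    intro h
    apply hP.H_not_cyclic
    rw [h]
    infer_instance
  have hF1 : fittingOf M ≠ ⊥ := fun h => hH1 (le_bot_iff.mp (h ▸ hHF))
  have hFM : fittingOf M ≤ M := hP.fitting_le.trans hM'M
  have hNF : Subgroup.normalizer (fittingOf M : Set G) = M :=
    normalizer_eq_of_isCoatom' hG hM hF1 hFM (le_normalizer_fittingOf M)
  have hfusF : ∀ x ∈ fittingOf M, x ≠ 1 → ∀ g : G, g * x * g⁻¹ ∈ fittingOf M → g ∈ M := by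
    intro x hx hx1 g hgx
    by_contra hg
    exact hx1 (hTI g (by rw [hNF]; exact hg) x hx hgx)
  have hnH : ∀ m ∈ M, ∀ x ∈ fittingHallOf M, m * x * m⁻¹ ∈ fittingHallOf M := by
    intro m hm x hx
    have := Cfsg.Agent.Lib.Helper7.BGTypes.le_normalizer_fittingHallOf M hm
    exact (Subgroup.mem_normalizer_iff.mp this x).mp hx
  have hnM' : ∀ m ∈ M, ∀ x ∈ ⁅M, M⁆, m * x * m⁻¹ ∈ ⁅M, M⁆ := by
    intro m hm x hx
    have := Cfsg.Agent.Lib.Helper1.BG153.le_normalizer_commutator_self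
      (Subgroup.le_normalizer (H := M)) hm
    exact (Subgroup.mem_normalizer_iff.mp this x).mp hx
  have hconj1 : ∀ (m x : G), x ≠ 1 → m * x * m⁻¹ ≠ 1 := by
    intro m x hx h
    apply hx
    have : x = m⁻¹ * (m * x * m⁻¹) * m := by group
    rw [this, h]
    group
  -- the three sets
  have hA1 : typeA1 M = (fittingHallOf M : Set G) \ {1} := by
    unfold typeA1
    rw [hcore]
  have hA : typeA M =
      {a | a ∈ ⁅M, M⁆ ∧ a ≠ 1 ∧ ∃ x ∈ fittingHallOf M, x ≠ 1 ∧ a * x = x * a} := by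
    unfold typeA
    rw [if_neg hnotI, hcore]
  obtain ⟨x₀, hx₀, hx₀1⟩ := (Subgroup.bot_or_exists_ne_one (fittingHallOf M)).resolve_left hH1
  -- `A₁(M)`
  have hfusA1 : ∀ x ∈ typeA1 M, ∀ g : G, g * x * g⁻¹ ∈ typeA1 M → g ∈ M := by
    intro x hx g hgx
    rw [hA1] at hx hgx
    exact hfusF x (hHF hx.1) (fun h => hx.2 (Set.mem_singleton_iff.mpr h)) g (hHF hgx.1)
  have hinvA1 : ∀ m ∈ M, ∀ x ∈ typeA1 M, m * x * m⁻¹ ∈ typeA1 M := by
    intro m hm x hx
    rw [hA1] at hx ⊢
    refine ⟨hnH m hm x hx.1, fun h => ?_⟩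
    exact hconj1 m x (fun h1 => hx.2 (Set.mem_singleton_iff.mpr h1)) (Set.mem_singleton_iff.mp h)
  have hneA1 : (typeA1 M).Nonempty := by
    refine ⟨x₀, ?_⟩
    rw [hA1]
    exact ⟨hx₀, fun h => hx₀1 (Set.mem_singleton_iff.mp h)⟩
  have hA1A : typeA1 M ⊆ typeA M := by
    intro x hx
    rw [hA1] at hx
    rw [hA]
    have hx1 : x ≠ 1 := fun h => hx.2 (Set.mem_singleton_iff.mpr h)
    exact ⟨hHM' hx.1, hx1, x, hx.1, hx1, rfl⟩
  -- `A(M)`
  have hcopH := Cfsg.Agent.Lib.Helper7.BGTypes.fittingHallOf_coprime M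
  have hmemH : ∀ y ∈ M, y ^ Nat.card (fittingHallOf M) = 1 → y ∈ fittingHallOf M := by
    intro y hy hpow
    exact mem_of_pow_card_eq_one hHM
      (Cfsg.Agent.Lib.Helper7.BGTypes.le_normalizer_fittingHallOf M) hcopH hy hpow
  have hinvA : ∀ m ∈ M, ∀ a ∈ typeA M, m * a * m⁻¹ ∈ typeA M := by
    intro m hm a ha
    rw [hA] at ha ⊢
    obtain ⟨haM', ha1, x, hx, hx1, hax⟩ := ha
    refine ⟨hnM' m hm a haM', hconj1 m a ha1, m * x * m⁻¹, hnH m hm x hx, hconj1 m x hx1, ?_⟩
    have e1 : m * a * m⁻¹ * (m * x * m⁻¹) = m * (a * x) * m⁻¹ := by group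
    have e2 : m * x * m⁻¹ * (m * a * m⁻¹) = m * (x * a) * m⁻¹ := by group
    rw [e1, e2, hax]
  have hdiffM' : typeA M \ typeA1 M ⊆ ((⁅M, M⁆ : Subgroup G) : Set G) := by
    intro a ha
    have := ha.1
    rw [hA] at this
    exact this.1
  have hNdiff : ∀ a ∈ typeA M \ typeA1 M, Subgroup.normalizer (typeA M \ typeA1 M) ≤ M := by
    intro a ha
    by_contra hle
    have hMle : M ≤ Subgroup.normalizer (typeA M \ typeA1 M) := by
      intro m hm
      rw [Subgroup.mem_set_normalizer_iff]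
      intro x
      constructor
      · rintro ⟨h1, h2⟩
        refine ⟨hinvA m hm x h1, fun h3 => h2 ?_⟩
        have h4 := hinvA1 m⁻¹ (M.inv_mem hm) _ h3
        have h5 : m⁻¹ * (m * x * m⁻¹) * m⁻¹⁻¹ = x := by group
        rwa [h5] at h4
      · rintro ⟨h1, h2⟩
        have h5 : m⁻¹ * (m * x * m⁻¹) * m⁻¹⁻¹ = x := by group
        refine ⟨?_, fun h3 => h2 (hinvA1 m hm x h3)⟩
        have h4 := hinvA m⁻¹ (M.inv_mem hm) _ h1
        rwa [h5] at h4
    have htop : Subgroup.normalizer (typeA M \ typeA1 M) = ⊤ :=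
      hM.2 _ (lt_of_le_of_ne hMle (fun h => hle h.symm.le))
    -- the normal closure of `a` is a proper nontrivial normal subgroup
    have hsimple := hG.2.1
    have hcl : Subgroup.normalClosure ({a} : Set G) ≤ ⁅M, M⁆ := by
      unfold Subgroup.normalClosure
      rw [Subgroup.closure_le]
      intro y hy
      obtain ⟨b, hb, hby⟩ := Group.mem_conjugatesOfSet_iff.mp hy
      rw [Set.mem_singleton_iff] at hb
      subst hb
      obtain ⟨c, hc⟩ := isConj_iff.mp hby
      have hcN : c ∈ Subgroup.normalizer (typeA M \ typeA1 M) := by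
        rw [htop]
        exact Subgroup.mem_top c
      have := (Subgroup.mem_set_normalizer_iff.mp hcN b).mp ha
      rw [hc] at this
      exact hdiffM' this
    have ha1 : a ≠ 1 := by
      have := ha.1
      rw [hA] at this
      exact this.2.1
    rcases (Subgroup.normalClosure_normal (s := ({a} : Set G))).eq_bot_or_eq_top with h | h
    · apply ha1
      have : a ∈ Subgroup.normalClosure ({a} : Set G) :=
        Subgroup.subset_normalClosure (Set.mem_singleton a)
      rw [h] at this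
      exact Subgroup.mem_bot.mp this
    · rw [h] at hcl
      exact hM.1 (top_le_iff.mp (hcl.trans hM'M))
  have hfusA : ∀ a ∈ typeA M, ∀ g : G, g * a * g⁻¹ ∈ typeA M → g ∈ M := by
    intro a ha g hga
    have ha' := ha
    have hga' := hga
    rw [hA] at ha' hga'
    obtain ⟨haM', ha1, -⟩ := ha'
    obtain ⟨hgaM', hga1, -⟩ := hga'
    by_cases haH : a ∈ fittingHallOf M
    · by_cases hgaH : g * a * g⁻¹ ∈ fittingHallOf M
      · exact hfusF a (hHF haH) ha1 g (hHF hgaH)
      · exfalso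
        apply hgaH
        apply hmemH _ (hM'M hgaM')
        rw [conj_pow, pow_card_subgroup_eq_one _ haH]
        group
    · by_cases hgaH : g * a * g⁻¹ ∈ fittingHallOf M
      · exfalso
        apply haH
        apply hmemH _ (hM'M haM')
        have h1 := pow_card_subgroup_eq_one _ hgaH
        rw [conj_pow] at h1
        have h2 : a ^ Nat.card (fittingHallOf M) =
            g⁻¹ * (g * a ^ Nat.card (fittingHallOf M) * g⁻¹) * g := by group
        rw [h2, h1]
        group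
      · have hd : a ∈ typeA M \ typeA1 M := by
          refine ⟨ha, fun h => haH ?_⟩
          rw [hA1] at h
          exact h.1
        have hgd : g * a * g⁻¹ ∈ typeA M \ typeA1 M := by
          refine ⟨hga, fun h => hgaH ?_⟩
          rw [hA1] at h
          exact h.1
        apply hNdiff a hd
        by_contra hg
        exact ha1 (hTIdiff g hg a hd hgd)
  have hneA : (typeA M).Nonempty := hneA1.mono hA1A
  -- `A₀(M)`
  have hAA0 : typeA M ⊆ typeA0 M := by
    intro x hx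
    unfold typeA0
    exact Or.inl hx
  have hpowM' : ∀ a ∈ typeA M, a ^ Nat.card ↥⁅M, M⁆ = 1 := by
    intro a ha
    rw [hA] at ha
    exact pow_card_subgroup_eq_one _ ha.1
  have hfusA0 : ∀ v ∈ typeA0 M, ∀ g : G, g * v * g⁻¹ ∈ typeA0 M → g ∈ M := by
    intro v hv g hgv
    unfold typeA0 at hv hgv
    rcases hv with hv | ⟨-, V₁, V, V₂, hP', m, hm, w, hw, hw1, hw2, rfl⟩
    · rcases hgv with hgv | ⟨-, Y₁, Y, Y₂, hP'', m', hm', w', hw', hw'1, hw'2, he⟩
      · exact hfusA v hv g hgv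
      · exfalso
        obtain ⟨-, hz2, -, -⟩ := zpart_facts hP hP'' hw' hw'1 hw'2
        apply hz2
        have h1 : (g * v * g⁻¹) ^ Nat.card ↥⁅M, M⁆ = 1 := by
          rw [conj_pow, hpowM' v hv]
          group
        rw [he, conj_pow] at h1
        have h2 : w' ^ Nat.card ↥⁅M, M⁆ =
            m'⁻¹ * (m' * w' ^ Nat.card ↥⁅M, M⁆ * m'⁻¹) * m' := by group
        rw [h2, h1]
        group
    · obtain ⟨hwM, hz2, hz3, hz4⟩ := zpart_facts hP hP' hw hw1 hw2
      rcases hgv with hgv | ⟨-, Y₁, Y, Y₂, hP'', m', hm', w', hw', hw'1, hw'2, he⟩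
      · exfalso
        apply hz2
        have h1 := hpowM' _ hgv
        rw [conj_pow, conj_pow] at h1
        have h2 : w ^ Nat.card ↥⁅M, M⁆ =
            (g * m)⁻¹ * (g * (m * w ^ Nat.card ↥⁅M, M⁆ * m⁻¹) * g⁻¹) * (g * m) := by group
        rw [h2, h1]
        group
      · obtain ⟨hw'M, -, hz3', -⟩ := zpart_facts hP hP'' hw' hw'1 hw'2
        have h1 : m'⁻¹ * g * m * w * (m'⁻¹ * g * m)⁻¹ = w' := by
          have : m'⁻¹ * g * m * w * (m'⁻¹ * g * m)⁻¹ = m'⁻¹ * (g * (m * w * m⁻¹) * g⁻¹) * m' := by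
            group
          rw [this, he]
          group
        have h2 : m'⁻¹ * g * m * w ^ Nat.card W₁ * (m'⁻¹ * g * m)⁻¹ ∈ fittingOf M := by
          rw [← conj_pow, h1]
          exact hz3'
        have h3 := hfusF _ hz3 hz4 _ h2
        have h4 : g = m' * (m'⁻¹ * g * m) * m⁻¹ := by group
        rw [h4]
        exact M.mul_mem (M.mul_mem hm' h3) (M.inv_mem hm)
  have hinvA0 : ∀ m ∈ M, ∀ v ∈ typeA0 M, m * v * m⁻¹ ∈ typeA0 M := by
    intro m₀ hm₀ v hv
    unfold typeA0 at hv ⊢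
    rcases hv with hv | ⟨hnI, V₁, V, V₂, hP', m, hm, w, hw, hw1, hw2, rfl⟩
    · exact Or.inl (hinvA m₀ hm₀ v hv)
    · refine Or.inr ⟨hnI, V₁, V, V₂, hP', m₀ * m, M.mul_mem hm₀ hm, w, hw, hw1, hw2, ?_⟩
      group
  exact ⟨ti_and_normalizer_eq (hneA.mono hAA0) hinvA0 hfusA0,
    ti_and_normalizer_eq hneA hinvA hfusA, ti_and_normalizer_eq hneA1 hinvA1 hfusA1⟩

end Cfsg.Agent.Lib.Helper1.BGTypeII
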