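import Mathlib

/-!
# Breadth and class of a finite p-group (helper1)

Leedham-Green–Neumann–Wiegold: a finite `p`-group all of whose class sizes are `≤ p^b` has class `c`
with `(c-1)(p-1) < b p`.  Proof: two-step centralizers `D j = C_G(L_j/L_{j+2})` and averaging.
`H1Breadth.main` is the packaged statement.
-/

open scoped commutatorElement
open Subgroup

namespace H1Breadth

variable {G : Type*} [Group G]

/-- notation: the lower central series of `G`. -/
abbrev L (G : Type*) [Group G] (n : ℕ) : Subgroup G := (⊤ : Subgroup G).lowerCentralSeries n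

instance (n : ℕ) : (L G n).Normal := by
  unfold L; infer_instance

/-- The two-step centralizer `C_G(L_j / L_{j+2})`. -/
def D (G : Type*) [Group G] (j : ℕ) : Subgroup G :=
  (Subgroup.centralizer (((L G j).map (QuotientGroup.mk' (L G (j + 2))) : Subgroup (G ⧸ L G (j + 2))) : Set (G ⧸ L G (j + 2)))).comap
    (QuotientGroup.mk' (L G (j + 2)))

theorem mem_D {j : ℕ} {x : G} : x ∈ D G j ↔ ∀ u ∈ L G j, ⁅u, x⁆ ∈ L G (j + 2) := by
  unfold D
  rw [Subgroup.mem_comap, Subgroup.mem_centralizer_iff]
  constructor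
  · intro h u hu
    have h1 := h _ (Subgroup.mem_map_of_mem _ hu)
    rw [← QuotientGroup.eq_one_iff, commutatorElement_def]
    simp only [QuotientGroup.mk'_apply] at h1
    rw [QuotientGroup.mk_mul, QuotientGroup.mk_mul, QuotientGroup.mk_mul, QuotientGroup.mk_inv,
      QuotientGroup.mk_inv, h1]
    group
  · rintro h _ ⟨u, hu, rfl⟩
    have h1 := h u hu
    rw [← QuotientGroup.eq_one_iff, commutatorElement_def] at h1
    simp only [QuotientGroup.mk'_apply]
    rw [QuotientGroup.mk_mul, QuotientGroup.mk_mul, QuotientGroup.mk_mul, QuotientGroup.mk_inv,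
      QuotientGroup.mk_inv] at h1
    have : (u : G ⧸ L G (j+2)) * x = (u * x * (u : G ⧸ L G (j+2))⁻¹ * (x : G ⧸ L G (j+2))⁻¹) * (x * u) := by group
    rw [this, h1, one_mul]

theorem L_succ (n : ℕ) : L G (n + 1) = ⁅L G n, (⊤ : Subgroup G)⁆ := rfl

theorem L_antitone : Antitone (L G) := Subgroup.lowerCentralSeries_antitone _

/-- If the series stalls it is constant from there on. -/
theorem L_eq_of_stall {k : ℕ} (h : L G k = L G (k + 1)) : ∀ m, L G (k + m) = L G k := by
  intro m
  induction m with
  | zero => rfl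
  | succ m ih =>
    rw [← add_assoc, L_succ, ih, ← L_succ, ← h]

/-- Lemma A. -/
theorem D_ne_top {c j : ℕ} (hc : L G c = ⊥) (hj : L G (j + 1) ≠ ⊥) : D G j ≠ ⊤ := by
  intro htop
  apply hj
  have h1 : L G (j + 1) ≤ L G (j + 2) := by
    rw [L_succ, Subgroup.commutator_le]
    intro u hu x _
    have : x ∈ D G j := by rw [htop]; exact Subgroup.mem_top x
    exact mem_D.mp this u hu
  have h2 : L G (j + 1) = L G (j + 1 + 1) := le_antisymm h1 (L_antitone (Nat.le_succ _))
  have h3 := L_eq_of_stall h2 c
  rw [← h3, eq_bot_iff, ← hc]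
  exact L_antitone (by omega)

/-- Key step of Lemma B. -/
theorem sup_ne_of_not_mem_D {j : ℕ} {x : G} (hx : x ∉ D G j) :
    ¬ (Subgroup.centralizer ({x} : Set G) ⊔ L G j ≤ Subgroup.centralizer ({x} : Set G) ⊔ L G (j + 1)) := by
  intro hle
  apply hx
  rw [mem_D]
  intro u hu
  have hu' : u ∈ ((Subgroup.centralizer ({x} : Set G) ⊔ L G (j + 1) : Subgroup G) : Set G) :=
    hle (Subgroup.mem_sup_right hu)
  rw [Subgroup.mul_normal] at hu'
  obtain ⟨z, hz, v, hv, rfl⟩ := hu'
  have hz' : z * x = x * z := Subgroup.mem_centralizer_singleton_iff.mp hz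
  have h1 : ⁅z * v, x⁆ = z * ⁅v, x⁆ * z⁻¹ := by
    have hz'' : z⁻¹ * x⁻¹ = x⁻¹ * z⁻¹ := by
      rw [← mul_inv_rev, ← mul_inv_rev, hz']
    rw [commutatorElement_def, commutatorElement_def, mul_inv_rev]
    simp only [mul_assoc]
    rw [hz'']
  rw [h1]
  have h2 : ⁅v, x⁆ ∈ L G (j + 2) := by
    have : L G (j + 2) = ⁅L G (j + 1), (⊤ : Subgroup G)⁆ := rfl
    rw [this]
    exact Subgroup.commutator_mem_commutator hv (Subgroup.mem_top x)
  exact (inferInstance : (L G (j + 2)).Normal).conj_mem _ h2 z

/-- Lemma B: the number of `j < n` with `x ∉ D_j` is bounded by the breadth of `x`. -/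
theorem pow_card_dvd_index [Finite G] {p : ℕ} [hp : Fact p.Prime] (hG : IsPGroup p G) (x : G) (n : ℕ)
    [DecidablePred fun j => x ∉ D G j] :
    p ^ ((Finset.range n).filter (fun j => x ∉ D G j)).card ∣
      (Subgroup.centralizer ({x} : Set G)).index := by
  set C : Subgroup G := Subgroup.centralizer ({x} : Set G) with hC
  set r : ℕ → ℕ := fun j => (C ⊔ L G (j + 1)).relIndex (C ⊔ L G j) with hr
  have hchain : ∀ m, C.index = C.relIndex (C ⊔ L G m) * ∏ j ∈ Finset.range m, r j := by
    intro m
    induction m with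
    | zero =>
      have : C ⊔ L G 0 = ⊤ := by
        show C ⊔ (⊤ : Subgroup G) = ⊤
        exact sup_top_eq C
      rw [this, Subgroup.relIndex_top_right, Finset.range_zero, Finset.prod_empty, mul_one]
    | succ m ih =>
      rw [ih, Finset.prod_range_succ]
      have h1 : C.relIndex (C ⊔ L G (m + 1)) * r m = C.relIndex (C ⊔ L G m) :=
        Subgroup.relIndex_mul_relIndex C (C ⊔ L G (m + 1)) (C ⊔ L G m) le_sup_left
          (sup_le_sup_left (L_antitone (Nat.le_succ m)) C)
      rw [← h1]; ring
  have hdiv : ∀ j, (if x ∉ D G j then p else 1) ∣ r j := by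
    intro j
    by_cases hx : x ∉ D G j
    · rw [if_pos hx]
      have hne : r j ≠ 1 := by
        intro h1
        exact sup_ne_of_not_mem_D hx (Subgroup.relIndex_eq_one.mp h1)
      obtain ⟨k, hk⟩ := IsPGroup.iff_card.mp hG
      have h2 : r j ∣ p ^ k := by
        rw [← hk]
        exact (Subgroup.relIndex_dvd_card _ _).trans (Subgroup.card_subgroup_dvd_card _)
      obtain ⟨i, -, hi⟩ := (Nat.dvd_prime_pow hp.out).mp h2
      rw [hi] at hne ⊢
      rcases i with _ | i
      · exact absurd rfl hne
      · exact dvd_pow_self p (Nat.succ_ne_zero i)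
    · rw [if_neg hx]; exact one_dvd _
  have hprod : ∏ j ∈ Finset.range n, (if x ∉ D G j then p else 1) =
      p ^ ((Finset.range n).filter (fun j => x ∉ D G j)).card := by
    rw [Finset.prod_ite, Finset.prod_const_one, mul_one, Finset.prod_const]
  rw [← hprod, hchain n]
  exact Dvd.dvd.mul_left (Finset.prod_dvd_prod_of_dvd _ _ (fun j _ => hdiv j)) _

theorem one_mem_D (j : ℕ) : (1 : G) ∈ D G j := (D G j).one_mem

/-- Main inequality. -/
theorem class_bound [Finite G] {p : ℕ} [hp : Fact p.Prime] (hG : IsPGroup p G) (b : ℕ) (hb0 : b ≠ 0)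
    (hb : ∀ x : G, (Subgroup.centralizer ({x} : Set G)).index ≤ p ^ b)
    (c : ℕ) (hc : L G c = ⊥) (hc' : ∀ n < c, L G n ≠ ⊥) :
    (c - 1) * (p - 1) < b * p := by
  classical
  have : Fintype G := Fintype.ofFinite G
  set N := Fintype.card G with hN
  have hNpos : 0 < N := Fintype.card_pos
  have hp2 : 2 ≤ p := hp.out.two_le
  set t : G → ℕ := fun x => ((Finset.range (c - 1)).filter (fun j => x ∉ D G j)).card with ht
  have ht_le : ∀ x, t x ≤ b := by
    intro x
    have h1 := Nat.le_of_dvd (Nat.pos_of_ne_zero Subgroup.index_ne_zero_of_finite)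
      (pow_card_dvd_index hG x (c - 1))
    exact (Nat.pow_le_pow_iff_right hp.out.one_lt).mp (h1.trans (hb x))
  have ht_one : t 1 = 0 := by
    simp only [ht]
    rw [Finset.card_eq_zero, Finset.filter_eq_empty_iff]
    intro j _ h
    exact h (one_mem_D j)
  -- sum over x
  have hS_le : ∑ x : G, t x ≤ b * (N - 1) := by
    have : ∑ x : G, t x = ∑ x ∈ Finset.univ.erase (1 : G), t x := by
      rw [← Finset.add_sum_erase Finset.univ t (Finset.mem_univ (1 : G)), ht_one, zero_add]
    rw [this]
    calc ∑ x ∈ Finset.univ.erase (1 : G), t x ≤ ∑ _x ∈ Finset.univ.erase (1 : G), b :=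
          Finset.sum_le_sum (fun x _ => ht_le x)
      _ = b * (N - 1) := by
          rw [Finset.sum_const, Finset.card_erase_of_mem (Finset.mem_univ _), Finset.card_univ,
            smul_eq_mul, mul_comm]
  -- double counting
  have hS_eq : ∑ x : G, t x = ∑ j ∈ Finset.range (c - 1), (Finset.univ.filter (fun x : G => x ∉ D G j)).card := by
    simp only [ht, Finset.card_filter]
    rw [Finset.sum_comm]
  -- each D_j is small
  have hDj : ∀ j ∈ Finset.range (c - 1), p * (N - (Finset.univ.filter (fun x : G => x ∉ D G j)).card) ≤ N := by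
    intro j hj
    have hj' : j + 1 < c := by
      have := Finset.mem_range.mp hj; omega
    have hne : D G j ≠ ⊤ := D_ne_top hc (hc' _ hj')
    have hcard : (Finset.univ.filter (fun x : G => x ∉ D G j)).card = N - Nat.card (D G j) := by
      have h1 : (Finset.univ.filter (fun x : G => x ∈ D G j)).card = Nat.card (D G j) := by
        rw [Nat.card_eq_fintype_card, Fintype.card_subtype]
      have h2 := Finset.card_filter_add_card_filter_not (s := (Finset.univ : Finset G)) (fun x : G => x ∈ D G j)
      rw [Finset.card_univ] at h2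
      omega
    have hle : Nat.card (D G j) ≤ N := by
      rw [hN, ← Nat.card_eq_fintype_card]; exact Subgroup.card_le_card_group _
    rw [hcard, Nat.sub_sub_self hle]
    -- index ≥ p
    have hidx : (D G j).index ≠ 1 := fun h => hne (Subgroup.index_eq_one.mp h)
    have hmul : Nat.card (D G j) * (D G j).index = N := by
      rw [hN, ← Nat.card_eq_fintype_card]; exact Subgroup.card_mul_index _
    obtain ⟨k, hk⟩ := IsPGroup.iff_card.mp hG
    have h2 : (D G j).index ∣ p ^ k := by
      rw [← hk]; exact Subgroup.index_dvd_card _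
    obtain ⟨i, -, hi⟩ := (Nat.dvd_prime_pow hp.out).mp h2
    have hpi : p ≤ (D G j).index := by
      rw [hi] at hidx ⊢
      rcases i with _ | i
      · exact absurd rfl hidx
      · calc p = p ^ 1 := (pow_one p).symm
          _ ≤ p ^ (i + 1) := Nat.pow_le_pow_right hp.out.pos (by omega)
    calc p * Nat.card (D G j) ≤ (D G j).index * Nat.card (D G j) := Nat.mul_le_mul_right _ hpi
      _ = N := by rw [mul_comm]; exact hmul
  -- arithmetic
  have haj : ∀ j ∈ Finset.range (c - 1), (p - 1) * N ≤ p * (Finset.univ.filter (fun x : G => x ∉ D G j)).card := by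
    intro j hj
    have h1 := hDj j hj
    have h2 : (Finset.univ.filter (fun x : G => x ∉ D G j)).card ≤ N := by
      rw [hN, ← Finset.card_univ]; exact Finset.card_filter_le _ _
    set a := (Finset.univ.filter (fun x : G => x ∉ D G j)).card
    have h3 : p * (N - a) = p * N - p * a := Nat.mul_sub p N a
    have h4 : p * a ≤ p * N := Nat.mul_le_mul_left p h2
    have h5 : (p - 1) * N = p * N - N := by
      rw [Nat.sub_mul, one_mul]
    omega
  have hsum : (c - 1) * ((p - 1) * N) ≤ p * ∑ x : G, t x := by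
    rw [hS_eq, Finset.mul_sum]
    calc (c - 1) * ((p - 1) * N) = ∑ _j ∈ Finset.range (c - 1), (p - 1) * N := by
          rw [Finset.sum_const, Finset.card_range, smul_eq_mul]
      _ ≤ _ := Finset.sum_le_sum haj
  have h6 : p * ∑ x : G, t x ≤ p * (b * (N - 1)) := Nat.mul_le_mul_left p hS_le
  have h7 : p * (b * (N - 1)) < p * (b * N) := by
    apply Nat.mul_lt_mul_of_pos_left
    · apply Nat.mul_lt_mul_of_pos_left
      · omega
      · exact Nat.pos_of_ne_zero hb0
    · omega
  have h8 : (c - 1) * (p - 1) * N < b * p * N := by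
    calc (c - 1) * (p - 1) * N = (c - 1) * ((p - 1) * N) := by ring
      _ ≤ p * ∑ x : G, t x := hsum
      _ ≤ p * (b * (N - 1)) := h6
      _ < p * (b * N) := h7
      _ = b * p * N := by ring
  exact Nat.lt_of_mul_lt_mul_right h8

theorem main [Finite G] {p : ℕ} [hp : Fact p.Prime] (hG : IsPGroup p G) (b : ℕ)
    (hb : ∀ x : G, (Subgroup.centralizer ({x} : Set G)).index ≤ p ^ b) :
    ∃ c : ℕ, (⊤ : Subgroup G).lowerCentralSeries c = ⊥ ∧
      (b ≠ 0 → (c - 1) * (p - 1) < b * p ∧ c ≤ 2 * b) ∧ (b = 0 → c ≤ 1) := by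
  by_cases hb0 : b = 0
  · refine ⟨1, ?_, fun h => absurd hb0 h, fun _ => le_rfl⟩
    subst hb0
    rw [Subgroup.lowerCentralSeries_succ, Subgroup.lowerCentralSeries_zero, eq_bot_iff,
      Subgroup.commutator_le]
    intro u _ x _
    have h1 : (Subgroup.centralizer ({u} : Set G)).index = 1 := by
      have := hb u
      rw [pow_zero] at this
      have h0 : (Subgroup.centralizer ({u} : Set G)).index ≠ 0 := Subgroup.index_ne_zero_of_finite
      omega
    have h2 : x ∈ Subgroup.centralizer ({u} : Set G) := by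
      rw [Subgroup.index_eq_one.mp h1]; exact Subgroup.mem_top x
    rw [Subgroup.mem_centralizer_singleton_iff] at h2
    rw [Subgroup.mem_bot, commutatorElement_def, ← h2]
    group
  · have : Group.IsNilpotent G := hG.isNilpotent
    set c := Group.nilpotencyClass G with hcdef
    have hc : L G c = ⊥ := Subgroup.lowerCentralSeries_nilpotencyClass
    have hc' : ∀ n < c, L G n ≠ ⊥ := by
      intro n hn h
      have := (Subgroup.lowerCentralSeries_eq_bot_iff_nilpotencyClass_le (G := G)).mp h
      omega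
    have key := class_bound hG b hb0 hb c hc hc'
    refine ⟨c, hc, fun _ => ⟨key, ?_⟩, fun h => absurd h hb0⟩
    by_contra hcon
    push Not at hcon
    have hp2 : 2 ≤ p := hp.out.two_le
    have h1 : 2 * b ≤ c - 1 := by omega
    have h2 : 2 * b * (p - 1) ≤ (c - 1) * (p - 1) := Nat.mul_le_mul_right _ h1
    have h3 : b * p ≤ 2 * b * (p - 1) := by
      obtain ⟨k, rfl⟩ : ∃ k, p = k + 2 := ⟨p - 2, by omega⟩
      have : k + 2 - 1 = k + 1 := by omega
      rw [this]
      nlinarith
    omega

end H1Breadth
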