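import Mathlib
import Cfsg.Prelude.Def_Solvable
import Cfsg.Agent.Lib.Helper1.Cores
import Cfsg.Agent.Lib.Helper1.Hall
import Cfsg.Agent.Lib.Helper1.Coprime

/-!
Brodkey theorem: abelian Sylow subgroups with trivial p-core have a trivial intersection pair.
-/

set_option autoImplicit false

open Subgroup Cfsg
open Pointwise

namespace Cfsg.Agent.Lib.Helper1

universe u

variable {G : Type u} [Group G]

/-- A `p`-subgroup of `N` is contained in an `N`-conjugate of a Sylow subgroup lying in `N`. -/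
theorem exists_le_conj_sylow_of_le [Finite G] {p : ℕ} [Fact p.Prime] (S : Sylow p G)
    {N Q : Subgroup G} (hSN : (S : Subgroup G) ≤ N) (hQN : Q ≤ N) (hQ : IsPGroup p Q) :
    ∃ n ∈ N, Q ≤ MulAut.conj n • (S : Subgroup G) := by
  have hQ' : IsPGroup p (Q.subgroupOf N) :=
    hQ.of_equiv (Subgroup.subgroupOfEquivOfLe hQN).symm
  obtain ⟨R, hR⟩ := hQ'.exists_le_sylow
  obtain ⟨n, hn⟩ := MulAction.exists_smul_eq N (S.subtype hSN) R
  refine ⟨n, n.2, ?_⟩
  apply le_conj_of_subgroupOf_le hQN n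
  have : ((n • S.subtype hSN : Sylow p N) : Subgroup N) =
      MulAut.conj n • (S : Subgroup G).subgroupOf N := rfl
  rw [← this, hn]
  exact hR

/-- **Brodkey's theorem.** -/
theorem brodkey [Finite G] (p : ℕ) [Fact p.Prime] (S : Sylow p G) (hS : IsMulCommutative S)
    (hOp : pCore p G = ⊥) : ∃ g : G, (S : Subgroup G) ⊓ MulAut.conj g • (S : Subgroup G) = ⊥ := by
  obtain ⟨g₀, hg₀⟩ := Finite.exists_min
    (fun g : G => Nat.card ((S : Subgroup G) ⊓ MulAut.conj g • (S : Subgroup G) : Subgroup G))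
  refine ⟨g₀, ?_⟩
  -- all Sylow subgroups are abelian
  have hab : ∀ P : Sylow p G, ∀ x ∈ (P : Subgroup G), ∀ y ∈ (P : Subgroup G), x * y = y * x := by
    intro P x hx y hy
    obtain ⟨g, rfl⟩ := MulAction.exists_smul_eq G S P
    have hx' : x ∈ MulAut.conj g • (S : Subgroup G) := hx
    have hy' : y ∈ MulAut.conj g • (S : Subgroup G) := hy
    rw [mem_conj_smul] at hx' hy'
    have hc : (⟨_, hx'⟩ : (S : Subgroup G)) * ⟨_, hy'⟩ = ⟨_, hy'⟩ * ⟨_, hx'⟩ :=
      IsMulCommutative.is_comm.comm _ _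
    have hc' : (g⁻¹ * x * g) * (g⁻¹ * y * g) = (g⁻¹ * y * g) * (g⁻¹ * x * g) :=
      congrArg Subtype.val hc
    calc x * y = g * ((g⁻¹ * x * g) * (g⁻¹ * y * g)) * g⁻¹ := by group
      _ = g * ((g⁻¹ * y * g) * (g⁻¹ * x * g)) * g⁻¹ := by rw [hc']
      _ = y * x := by group
  -- minimality for all pairs
  have hmin : ∀ P Q : Sylow p G,
      Nat.card ((S : Subgroup G) ⊓ MulAut.conj g₀ • (S : Subgroup G) : Subgroup G) ≤
        Nat.card ((P : Subgroup G) ⊓ (Q : Subgroup G) : Subgroup G) := by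
    intro P Q
    obtain ⟨a, rfl⟩ := MulAction.exists_smul_eq G S P
    obtain ⟨b, rfl⟩ := MulAction.exists_smul_eq G S Q
    have e : ((a • S : Sylow p G) : Subgroup G) ⊓ ((b • S : Sylow p G) : Subgroup G) =
        MulAut.conj a • ((S : Subgroup G) ⊓ MulAut.conj (a⁻¹ * b) • (S : Subgroup G)) := by
      show MulAut.conj a • (S : Subgroup G) ⊓ MulAut.conj b • (S : Subgroup G) = _
      rw [Subgroup.smul_inf, smul_smul, ← map_mul, mul_inv_cancel_left]
    rw [e, card_conj_smul]
    exact hg₀ _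
  -- D ≤ every Sylow subgroup
  have hDle : ∀ P : Sylow p G,
      (S : Subgroup G) ⊓ MulAut.conj g₀ • (S : Subgroup G) ≤ (P : Subgroup G) := by
    intro P
    have hSN : (S : Subgroup G) ≤
        normalizer (((S : Subgroup G) ⊓ MulAut.conj g₀ • (S : Subgroup G) : Subgroup G) : Set G) := by
      apply le_normalizer_of_forall_conj_mem
      intro s hs d hd
      have hcomm := hab S s hs d (Subgroup.mem_inf.mp hd).1
      have e : s * d * s⁻¹ = d := by rw [hcomm]; group
      rw [e]; exact hd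
    have hTN : ((g₀ • S : Sylow p G) : Subgroup G) ≤
        normalizer (((S : Subgroup G) ⊓ MulAut.conj g₀ • (S : Subgroup G) : Subgroup G) : Set G) := by
      apply le_normalizer_of_forall_conj_mem
      intro s hs d hd
      have hcomm := hab (g₀ • S) s hs d (Subgroup.mem_inf.mp hd).2
      have e : s * d * s⁻¹ = d := by rw [hcomm]; group
      rw [e]; exact hd
    obtain ⟨n, hn, hPn⟩ := exists_le_conj_sylow_of_le S hSN
      (inf_le_right : (P : Subgroup G) ⊓ normalizer (((S : Subgroup G) ⊓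
        MulAut.conj g₀ • (S : Subgroup G) : Subgroup G) : Set G) ≤ _) (P.2.to_le inf_le_left)
    have hT''N : ((n • (g₀ • S) : Sylow p G) : Subgroup G) ≤
        normalizer (((S : Subgroup G) ⊓ MulAut.conj g₀ • (S : Subgroup G) : Subgroup G) : Set G) := by
      intro x hx
      have hx' : x ∈ MulAut.conj n • ((g₀ • S : Sylow p G) : Subgroup G) := hx
      rw [mem_conj_smul] at hx'
      have := mul_mem (mul_mem hn (hTN hx')) (inv_mem hn)
      have e : n * (n⁻¹ * x * n) * n⁻¹ = x := by group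
      rwa [e] at this
    have hle : (P : Subgroup G) ⊓ ((n • (g₀ • S) : Sylow p G) : Subgroup G) ≤
        (S : Subgroup G) ⊓ MulAut.conj g₀ • (S : Subgroup G) := by
      have h1 : (P : Subgroup G) ⊓ ((n • (g₀ • S) : Sylow p G) : Subgroup G) ≤
          MulAut.conj n • (S : Subgroup G) := (inf_le_inf_left _ hT''N).trans hPn
      have h2 : (P : Subgroup G) ⊓ ((n • (g₀ • S) : Sylow p G) : Subgroup G) ≤
          MulAut.conj n • (MulAut.conj g₀ • (S : Subgroup G)) := inf_le_right
      have h3 : MulAut.conj n • ((S : Subgroup G) ⊓ MulAut.conj g₀ • (S : Subgroup G)) =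
          (S : Subgroup G) ⊓ MulAut.conj g₀ • (S : Subgroup G) :=
        conj_smul_eq_self_iff_mem_normalizer.mpr hn
      rw [← h3, Subgroup.smul_inf]
      exact le_inf h1 h2
    have heq := Subgroup.eq_of_le_of_card_ge hle (hmin P (n • (g₀ • S)))
    rw [← heq]; exact inf_le_left
  rw [eq_bot_iff, ← hOp, pCore_eq_iInf_sylow]
  exact le_iInf hDle

end Cfsg.Agent.Lib.Helper1
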