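import Mathlib
import Cfsg.Agent.Lib.Helper1.Frattini

/-!
# Burnside's basis theorem

`BurnsideBasis.burnside_aux`: in a finite elementary abelian `p`-group of order `p ^ n` every
generating finset contains a generating subset of size `n`, and no generating set is smaller.
`BurnsideBasis.burnside_basis`: the same for a finite `p`-group with `|G : Φ(G)| = p ^ n`.
-/

set_option autoImplicit false

namespace Cfsg.Agent.Lib.Helper1

namespace BurnsideBasis

theorem burnside_aux' {Q : Type*} [CommGroup Q] [Finite Q] (p n : ℕ) [Fact p.Prime]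
    [Module (ZMod p) (Additive Q)] (hcard : Nat.card Q = p ^ n) :
    (∀ S : Finset Q, Subgroup.closure (S : Set Q) = ⊤ →
      ∃ B : Finset Q, B ⊆ S ∧ B.card = n ∧ Subgroup.closure (B : Set Q) = ⊤) ∧
    (∀ T : Finset Q, Subgroup.closure (T : Set Q) = ⊤ → n ≤ T.card) := by
  classical
  let E : Subgroup Q ≃o Submodule (ZMod p) (Additive Q) :=
    Subgroup.toAddSubgroup.trans (AddSubgroup.toZModSubmodule p)
  have hE : ∀ S : Set Q,
      E (Subgroup.closure S) = Submodule.span (ZMod p) (Additive.ofMul '' S) := by
    intro S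
    apply le_antisymm
    · rw [← E.le_symm_apply, Subgroup.closure_le]
      intro s hs
      show Additive.ofMul s ∈ Submodule.span (ZMod p) (Additive.ofMul '' S)
      exact Submodule.subset_span ⟨s, hs, rfl⟩
    · rw [Submodule.span_le]
      rintro _ ⟨s, hs, rfl⟩
      show s ∈ Subgroup.closure S
      exact Subgroup.subset_closure hs
  have hEtop : ∀ H : Subgroup Q, E H = ⊤ ↔ H = ⊤ := by
    intro H
    rw [← E.map_top]
    exact E.injective.eq_iff
  have hfin : Module.finrank (ZMod p) (Additive Q) = n := by
    have h1 := Module.natCard_eq_pow_finrank (K := ZMod p) (V := Additive Q)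
    rw [Nat.card_zmod] at h1
    have h2 : Nat.card (Additive Q) = Nat.card Q := rfl
    rw [h2, hcard] at h1
    exact (Nat.pow_right_injective (Fact.out : p.Prime).two_le h1).symm
  constructor
  · intro S hS
    have hspan : Submodule.span (ZMod p) (Additive.ofMul '' (S : Set Q)) = ⊤ := by
      rw [← hE, hEtop]; exact hS
    obtain ⟨b, hbS, hbspan, hbli⟩ :=
      exists_linearIndependent (ZMod p) (Additive.ofMul '' (S : Set Q))
    have hbtop : Submodule.span (ZMod p) b = ⊤ := hbspan.trans hspan
    let bas : Module.Basis b (ZMod p) (Additive Q) :=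
      Module.Basis.mk hbli (by rw [Subtype.range_coe, hbtop])
    have hcb : Nat.card b = n := by
      rw [← hfin, Module.finrank_eq_nat_card_basis bas]
    refine ⟨(Set.toFinite (Additive.toMul '' b)).toFinset, ?_, ?_, ?_⟩
    · intro x hx
      rw [Set.Finite.mem_toFinset] at hx
      obtain ⟨v, hv, rfl⟩ := hx
      obtain ⟨s, hs, rfl⟩ := hbS hv
      exact hs
    · rw [← Set.ncard_eq_toFinset_card, Set.ncard_image_of_injective _ Additive.toMul.injective,
        ← Nat.card_coe_set_eq, hcb]
    · rw [← hEtop, hE, Set.Finite.coe_toFinset]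
      have : Additive.ofMul '' (Additive.toMul '' b) = b := by
        ext v
        constructor
        · rintro ⟨_, ⟨w, hw, rfl⟩, rfl⟩
          exact hw
        · intro hv
          exact ⟨Additive.toMul v, ⟨v, hv, rfl⟩, rfl⟩
      rw [this, hbtop]
  · intro T hT
    have hspan : Submodule.span (ZMod p) (Additive.ofMul '' (T : Set Q)) = ⊤ := by
      rw [← hE, hEtop]; exact hT
    have h1 := finrank_span_finset_le_card (R := ZMod p) (T.image Additive.ofMul)
    rw [Set.finrank, Finset.coe_image, hspan, finrank_top, hfin] at h1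
    exact h1.trans Finset.card_image_le

theorem burnside_aux {Q : Type*} [CommGroup Q] [Finite Q] (p n : ℕ) [Fact p.Prime]
    (hexp : ∀ x : Q, x ^ p = 1) (hcard : Nat.card Q = p ^ n) :
    (∀ S : Finset Q, Subgroup.closure (S : Set Q) = ⊤ →
      ∃ B : Finset Q, B ⊆ S ∧ B.card = n ∧ Subgroup.closure (B : Set Q) = ⊤) ∧
    (∀ T : Finset Q, Subgroup.closure (T : Set Q) = ⊤ → n ≤ T.card) := by
  let _ : Module (ZMod p) (Additive Q) := AddCommGroup.zmodModule (n := p) (fun x => by
    show Additive.ofMul ((Additive.toMul x) ^ p) = 0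
    rw [hexp]; rfl)
  exact burnside_aux' p n hcard

theorem burnside_basis {G : Type*} [Group G] [Finite G] (p n : ℕ) [Fact p.Prime]
    (hG : IsPGroup p G) (hn : (frattini G).index = p ^ n) :
    (∀ S : Finset G, Subgroup.closure (S : Set G) = ⊤ →
      ∃ T : Finset G, T ⊆ S ∧ T.card = n ∧ Subgroup.closure (T : Set G) = ⊤) ∧
    (∀ T : Finset G, Subgroup.closure (T : Set G) = ⊤ → n ≤ T.card) := by
  classical
  have hcomm : ∀ a b : G ⧸ frattini G, a * b = b * a := by
    have h1 : IsMulCommutative (G ⧸ frattini G) :=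
      (Subgroup.Normal.quotient_commutative_iff_commutator_le).mpr
        (IsPGroup.commutator_le_frattini hG)
    exact h1.is_comm.comm
  let _ : CommGroup (G ⧸ frattini G) :=
    { (inferInstance : Group (G ⧸ frattini G)) with mul_comm := hcomm }
  have hexp : ∀ x : G ⧸ frattini G, x ^ p = 1 := by
    intro x
    obtain ⟨x, rfl⟩ := QuotientGroup.mk_surjective x
    rw [← QuotientGroup.mk_pow, QuotientGroup.eq_one_iff]
    exact IsPGroup.pow_mem_frattini hG x
  have hcard : Nat.card (G ⧸ frattini G) = p ^ n := by
    rw [← Subgroup.index_eq_card]; exact hn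
  obtain ⟨h1, h2⟩ := burnside_aux p n hexp hcard
  have hmap : ∀ T : Finset G, Subgroup.closure ((T.image (QuotientGroup.mk' (frattini G)) :
      Finset (G ⧸ frattini G)) : Set (G ⧸ frattini G)) =
      (Subgroup.closure (T : Set G)).map (QuotientGroup.mk' (frattini G)) := by
    intro T
    rw [Finset.coe_image, MonoidHom.map_closure]
  constructor
  · intro S hS
    have hS' : Subgroup.closure ((S.image (QuotientGroup.mk' (frattini G)) :
      Finset (G ⧸ frattini G)) : Set (G ⧸ frattini G)) = ⊤ := by
      rw [hmap, hS, ← MonoidHom.range_eq_map,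
        MonoidHom.range_eq_top.mpr (QuotientGroup.mk'_surjective _)]
    obtain ⟨B, hBS, hBn, hB⟩ := h1 _ hS'
    have hsurj : Set.SurjOn (QuotientGroup.mk' (frattini G)) (S : Set G) (B : Set _) := by
      intro b hb
      have := hBS hb
      rw [Finset.mem_image] at this
      obtain ⟨g, hg, rfl⟩ := this
      exact ⟨g, hg, rfl⟩
    obtain ⟨T, hTS, hTinj, hTB⟩ :=
      Finset.exists_subset_injOn_image_eq_of_surjOn (S : Set G) B hsurj
    refine ⟨T, Finset.coe_subset.mp hTS, ?_, ?_⟩
    · rw [← hBn, ← hTB, Finset.card_image_of_injOn hTinj]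
    · apply frattini_nongenerating
      have h3 : (Subgroup.closure (T : Set G)).map (QuotientGroup.mk' (frattini G)) = ⊤ := by
        rw [← hmap, hTB, hB]
      have h4 := congrArg (Subgroup.comap (QuotientGroup.mk' (frattini G))) h3
      rwa [Subgroup.comap_map_eq, QuotientGroup.ker_mk', Subgroup.comap_top] at h4
  · intro T hT
    have hT' : Subgroup.closure ((T.image (QuotientGroup.mk' (frattini G)) :
      Finset (G ⧸ frattini G)) : Set (G ⧸ frattini G)) = ⊤ := by
      rw [hmap, hT, ← MonoidHom.range_eq_map,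
        MonoidHom.range_eq_top.mpr (QuotientGroup.mk'_surjective _)]
    exact (h2 _ hT').trans Finset.card_image_le

end BurnsideBasis

end Cfsg.Agent.Lib.Helper1
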