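import Cfsg.Agent.H5.TCkSound
import Cfsg.Agent.H5.StemTC
import Cfsg.Agent.Lib.Helper12.McLWData

/-!
# S2044 (the Schur multiplier of `Co₂` is trivial): the data of the `2`-part (helper1)

`Co₂ = ⟨g₀, …, g₄, f⟩` on the 4600 points of helper25's model: `g₀, …, g₄` (order `7`) are helper12's
generators `a, …, e` of `McL` (they satisfy his `relsG`; `M = ⟨g₀, …, g₄⟩` has index `47104`), `u₀ = wordU(g)`,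
`u₁ = g₀` satisfy his `relsU` (`⟨u₀, u₁⟩ = 2·A₈`), and `f = g₅` has order `23` with `d f d⁻¹ = f²` for
`d = g₀ g₁ g₄⁻¹` (order `11`).

For a stem extension `τ : Δ → Co₂` whose kernel is a `2`-group: the preimage of `M` has a perfect subgroup `L`
which maps isomorphically onto `M` (helper12's `odd_card_ker_of`), so the lifts of `g₀, …, g₄` in `L` satisfy
every relator of `M`; `f` has a unique lift of order `23`. For these lifts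
* `exactTop` (`f²³`, `d f d⁻¹ f⁻²`) holds exactly (conjugation relator between elements of odd order);
* `amalTop`: `(l, w₁, w₂, n)` stands for the relator `l w₁ l⁻¹ w₂` with `l = f^{±1}` and words `w₁, w₂` in
  `g₀, …, g₄`, where `w₁` has odd order `n`: both `l w₁ l⁻¹` and `w₂⁻¹` lift to elements of order `n`,
  so the relator holds exactly;
* `mixedTop`: relators of `Co₂` which are only central in `Δ`, so their commutator words with the generators hold.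
The group presented by `relsTop` has `⟨g₀, …, g₄⟩` of index `≤ 47104` (coset enumeration, `Lib/Helper1/Co2TC`),
so `|Δ| ≤ 47104 · |M| = |Co₂|`.
-/

set_option autoImplicit false

namespace Cfsg.Agent.Lib.Helper1.Co2M

open Cfsg.H5.TCk
open Cfsg.H5.StemTC (cword cwords)
open Cfsg.Agent.Lib.Helper12.McLW (relsG relsU)

/-- `u₀` as a word in `g₀, …, g₄` -/
def wordU : List ℕ := [0, 6, 6, 0, 9, 6, 0, 0, 7, 0, 3]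

/-- `f²³` and `d f d⁻¹ f⁻²` with `d = g₀ g₁ g₄⁻¹` -/
def exactTop : List (List ℕ) := [List.replicate 23 10, [0, 2, 9, 10, 8, 3, 1, 11, 11]]

/-- the word `w` repeated `n` times -/
def wpow (w : List ℕ) : ℕ → List ℕ
  | 0 => []
  | n + 1 => w ++ wpow w n

/-- `(l, w₁, w₂, n)`: the relator `l w₁ l⁻¹ w₂` -/
def amalRel (q : ℕ × List ℕ × List ℕ × ℕ) : List ℕ := [q.1] ++ q.2.1 ++ [linv q.1] ++ q.2.2.1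

/-- `(l, w₁, w₂, n)`: the word `w₁ⁿ` -/
def ordWord (q : ℕ × List ℕ × List ℕ × ℕ) : List ℕ := wpow q.2.1 q.2.2.2

/-- the amalgam relators `(l, w₁, w₂, n)` -/
def amalTop : List (ℕ × List ℕ × List ℕ × ℕ) := [
  (10, [3, 5, 5], [6, 8, 2, 4, 3, 8, 7, 1, 2, 4], 3),
  (10, [4, 4, 2], [2, 9, 2, 8, 0, 7, 9, 5, 7, 1], 3),
  (10, [1, 5, 6, 2, 2], [3, 1, 6, 1, 7, 9, 4, 2], 5),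
  (10, [3, 3, 7, 4, 0], [3, 5, 8, 6, 0, 7, 0, 2], 5),
  (10, [2, 1, 2, 0], [7, 7, 1, 1, 1, 6, 9, 1, 8, 6], 3),
  (10, [2, 2, 2, 0], [7, 9, 0, 8, 7, 0, 0, 0, 6, 6], 3),
  (10, [1, 3, 0, 3], [7, 9, 0, 8, 7, 0, 0, 0, 6, 6], 3),
  (10, [1, 3, 3, 3], [7, 7, 1, 1, 1, 6, 9, 1, 8, 6], 3),
  (10, [1, 2, 2, 2, 2], [7, 7, 1, 1, 1, 6, 9, 1, 8, 6], 3),
  (10, [1, 4, 2, 4, 0], [1, 9, 1, 8, 2, 2, 9, 5, 5, 8], 3),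
  (10, [1, 5, 3, 5, 0], [9, 4, 4, 8, 3, 3, 9, 0, 8, 0], 3),
  (10, [2, 4, 4, 2, 2], [6, 8, 2, 4, 3, 8, 7, 1, 2, 4], 3),
  (10, [2, 5, 0, 0, 5], [7, 7, 1, 1, 1, 6, 9, 1, 8, 6], 3),
  (10, [2, 5, 5, 3, 4], [2, 9, 2, 8, 0, 7, 9, 5, 7, 1], 3),
  (10, [3, 3, 3, 3, 0], [7, 9, 0, 8, 7, 0, 0, 0, 6, 6], 3),
  (10, [3, 3, 5, 5, 3], [2, 9, 2, 8, 0, 7, 9, 5, 7, 1], 3),
  (10, [3, 6, 4, 4, 6], [6, 8, 2, 4, 3, 8, 7, 1, 2, 4], 3),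
  (10, [4, 1, 1, 4, 3], [7, 9, 0, 8, 7, 0, 0, 0, 6, 6], 3),
  (10, [5, 2, 4, 4, 3], [6, 8, 2, 4, 3, 8, 7, 1, 2, 4], 3),
  (10, [6, 0, 4, 3, 7], [4, 7, 0, 9, 1, 9, 5, 8, 0, 7], 3),
  (10, [6, 2, 5, 1, 7], [6, 1, 9, 4, 8, 0, 8, 1, 6, 5], 3),
  (10, [3, 5, 5], [6, 8, 2, 4, 3, 8, 7, 1, 2, 4], 3),
  (10, [3, 5, 5], [6, 8, 2, 4, 3, 8, 7, 1, 2, 4], 3),
  (10, [3, 5, 5], [6, 8, 2, 4, 3, 8, 7, 1, 2, 4], 3),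
  (10, [3, 5, 5], [6, 8, 2, 4, 3, 8, 7, 1, 2, 4], 3),
  (10, [3, 5, 5], [6, 8, 2, 4, 3, 8, 7, 1, 2, 4], 3),
  (10, [3, 5, 5], [6, 8, 2, 4, 3, 8, 7, 1, 2, 4], 3),
  (10, [3, 5, 5], [6, 8, 2, 4, 3, 8, 7, 1, 2, 4], 3),
  (10, [3, 5, 5], [6, 8, 2, 4, 3, 8, 7, 1, 2, 4], 3),
  (10, [3, 5, 5], [6, 8, 2, 4, 3, 8, 7, 1, 2, 4], 3),
  (10, [3, 5, 5], [6, 8, 2, 4, 3, 8, 7, 1, 2, 4], 3),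
  (10, [4, 4, 2], [2, 9, 2, 8, 0, 7, 9, 5, 7, 1], 3),
  (10, [4, 4, 2], [2, 9, 2, 8, 0, 7, 9, 5, 7, 1], 3),
  (10, [4, 4, 2], [2, 9, 2, 8, 0, 7, 9, 5, 7, 1], 3),
  (10, [4, 4, 2], [2, 9, 2, 8, 0, 7, 9, 5, 7, 1], 3),
  (10, [4, 4, 2], [2, 9, 2, 8, 0, 7, 9, 5, 7, 1], 3),
  (10, [4, 4, 2], [2, 9, 2, 8, 0, 7, 9, 5, 7, 1], 3),
  (10, [4, 4, 2], [2, 9, 2, 8, 0, 7, 9, 5, 7, 1], 3),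
  (10, [4, 4, 2], [2, 9, 2, 8, 0, 7, 9, 5, 7, 1], 3),
  (10, [4, 4, 2], [2, 9, 2, 8, 0, 7, 9, 5, 7, 1], 3),
  (10, [4, 4, 2], [2, 9, 2, 8, 0, 7, 9, 5, 7, 1], 3),
  (10, [1, 5, 6, 2, 2], [3, 1, 6, 1, 7, 9, 4, 2], 5),
  (10, [3, 3, 7, 4, 0], [3, 5, 8, 6, 0, 7, 0, 2], 5),
  (10, [1, 3, 0, 3], [7, 9, 0, 8, 7, 0, 0, 0, 6, 6], 3),
  (10, [1, 3, 0, 3], [7, 9, 0, 8, 7, 0, 0, 0, 6, 6], 3),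
  (10, [1, 3, 0, 3], [7, 9, 0, 8, 7, 0, 0, 0, 6, 6], 3),
  (10, [1, 3, 0, 3], [7, 9, 0, 8, 7, 0, 0, 0, 6, 6], 3),
  (10, [1, 3, 0, 3], [7, 9, 0, 8, 7, 0, 0, 0, 6, 6], 3),
  (10, [1, 3, 0, 3], [7, 9, 0, 8, 7, 0, 0, 0, 6, 6], 3),
  (10, [1, 3, 0, 3], [7, 9, 0, 8, 7, 0, 0, 0, 6, 6], 3),
  (10, [1, 3, 0, 3], [7, 9, 0, 8, 7, 0, 0, 0, 6, 6], 3),
  (10, [1, 3, 0, 3], [7, 9, 0, 8, 7, 0, 0, 0, 6, 6], 3),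
  (10, [1, 3, 0, 3], [7, 9, 0, 8, 7, 0, 0, 0, 6, 6], 3),
  (10, [1, 3, 3, 3], [7, 7, 1, 1, 1, 6, 9, 1, 8, 6], 3),
  (10, [1, 3, 3, 3], [7, 7, 1, 1, 1, 6, 9, 1, 8, 6], 3),
  (10, [1, 3, 3, 3], [7, 7, 1, 1, 1, 6, 9, 1, 8, 6], 3),
  (10, [1, 3, 3, 3], [7, 7, 1, 1, 1, 6, 9, 1, 8, 6], 3),
  (10, [1, 3, 3, 3], [7, 7, 1, 1, 1, 6, 9, 1, 8, 6], 3),
  (10, [1, 3, 3, 3], [7, 7, 1, 1, 1, 6, 9, 1, 8, 6], 3),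
  (10, [1, 3, 3, 3], [7, 7, 1, 1, 1, 6, 9, 1, 8, 6], 3),
  (10, [1, 3, 3, 3], [7, 7, 1, 1, 1, 6, 9, 1, 8, 6], 3),
  (10, [1, 3, 3, 3], [7, 7, 1, 1, 1, 6, 9, 1, 8, 6], 3),
  (10, [1, 3, 3, 3], [7, 7, 1, 1, 1, 6, 9, 1, 8, 6], 3),
  (10, [2, 1, 2, 0], [7, 7, 1, 1, 1, 6, 9, 1, 8, 6], 3),
  (10, [2, 1, 3, 3], [7, 9, 0, 8, 7, 0, 0, 0, 6, 6], 3),
  (10, [2, 1, 3, 3], [7, 9, 0, 8, 7, 0, 0, 0, 6, 6], 3),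
  (10, [2, 1, 3, 3], [7, 9, 0, 8, 7, 0, 0, 0, 6, 6], 3),
  (10, [2, 1, 3, 3], [7, 9, 0, 8, 7, 0, 0, 0, 6, 6], 3),
  (10, [2, 1, 3, 3], [7, 9, 0, 8, 7, 0, 0, 0, 6, 6], 3),
  (10, [2, 1, 3, 3], [7, 9, 0, 8, 7, 0, 0, 0, 6, 6], 3),
  (10, [2, 1, 3, 3], [7, 9, 0, 8, 7, 0, 0, 0, 6, 6], 3),
  (10, [2, 1, 3, 3], [7, 9, 0, 8, 7, 0, 0, 0, 6, 6], 3),
  (10, [2, 1, 3, 3], [7, 9, 0, 8, 7, 0, 0, 0, 6, 6], 3),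
  (10, [2, 1, 3, 3], [7, 9, 0, 8, 7, 0, 0, 0, 6, 6], 3),
  (10, [2, 2, 0, 3], [7, 7, 1, 1, 1, 6, 9, 1, 8, 6], 3),
  (10, [2, 2, 2, 0], [7, 9, 0, 8, 7, 0, 0, 0, 6, 6], 3),
  (10, [1, 2, 2, 2, 2], [7, 7, 1, 1, 1, 6, 9, 1, 8, 6], 3),
  (10, [1, 4, 2, 4, 0], [1, 9, 1, 8, 2, 2, 9, 5, 5, 8], 3),
  (10, [1, 4, 6, 4, 2, 6], [9, 1, 4, 4, 2, 7, 9, 2, 0], 3),
  (10, [1, 5, 3, 5, 0], [9, 4, 4, 8, 3, 3, 9, 0, 8, 0], 3),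
  (10, [1, 5, 6, 2, 5, 5], [9, 1, 4, 4, 2, 7, 9, 2, 0], 3),
  (10, [1, 5, 7, 5, 2, 6], [9, 1, 4, 4, 2, 7, 9, 2, 0], 3),
  (10, [1, 6, 4, 6, 2, 6], [9, 1, 4, 4, 2, 7, 9, 2, 0], 3),
  (10, [1, 7, 5, 7, 2, 6], [9, 1, 4, 4, 2, 7, 9, 2, 0], 3),
  (10, [2, 4, 4, 2, 2], [6, 8, 2, 4, 3, 8, 7, 1, 2, 4], 3),
  (10, [2, 5, 0, 0, 5], [7, 7, 1, 1, 1, 6, 9, 1, 8, 6], 3),
  (10, [2, 5, 5, 3, 4], [2, 9, 2, 8, 0, 7, 9, 5, 7, 1], 3),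
  (10, [3, 3, 3, 3, 0], [7, 9, 0, 8, 7, 0, 0, 0, 6, 6], 3),
  (10, [3, 3, 5, 5, 3], [2, 9, 2, 8, 0, 7, 9, 5, 7, 1], 3),
  (10, [3, 6, 4, 4, 6], [6, 8, 2, 4, 3, 8, 7, 1, 2, 4], 3),
  (10, [4, 1, 1, 4, 3], [7, 9, 0, 8, 7, 0, 0, 0, 6, 6], 3),
  (10, [5, 2, 4, 4, 3], [6, 8, 2, 4, 3, 8, 7, 1, 2, 4], 3),
  (10, [6, 0, 4, 3, 7], [4, 7, 0, 9, 1, 9, 5, 8, 0, 7], 3),
  (10, [6, 0, 5, 3, 3, 7], [0, 4, 9, 3, 6, 6, 1, 5, 5], 3),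
  (10, [6, 2, 5, 1, 7], [6, 1, 9, 4, 8, 0, 8, 1, 6, 5], 3),
  (10, [7, 5, 5, 7, 2], [2, 9, 2, 8, 0, 7, 9, 5, 7, 1], 3),
  (10, [0, 7, 2, 6, 3, 6], [9, 5, 1, 9, 7, 1, 6, 1, 2], 5),
  (10, [2, 6, 6, 0, 0, 5], [8, 2, 8, 5, 7, 1, 1, 7, 8], 5),
  (10, [1, 5, 2, 9, 9, 5], [8, 2, 8, 1, 2, 8, 7, 3, 4], 9),
  (10, [0, 2, 0, 0, 0, 3], [7, 9, 0, 8, 7, 0, 0, 0, 6, 6], 3),
  (10, [0, 2, 0, 0, 3, 3], [7, 7, 1, 1, 1, 6, 9, 1, 8, 6], 3),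
  (10, [0, 2, 4, 0, 5, 2], [2, 9, 2, 8, 0, 7, 9, 5, 7, 1], 3),
  (10, [0, 3, 0, 3, 0, 0], [7, 7, 1, 1, 1, 6, 9, 1, 8, 6], 3),
  (10, [0, 3, 4, 1, 1, 5], [6, 8, 2, 4, 3, 8, 7, 1, 2, 4], 3),
  (10, [0, 5, 2, 1, 4, 0], [1, 9, 1, 8, 2, 2, 9, 5, 5, 8], 3),
  (10, [0, 5, 5, 1, 3, 4], [7, 9, 0, 8, 7, 0, 0, 0, 6, 6], 3),
  (10, [1, 1, 4, 6, 0, 0], [2, 1, 8, 8, 0, 7, 2, 7, 9, 6], 3),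
  (10, [1, 3, 0, 2, 2, 0], [7, 7, 1, 1, 1, 6, 9, 1, 8, 6], 3),
  (10, [1, 4, 1, 4, 4, 4], [1, 9, 1, 8, 2, 2, 9, 5, 5, 8], 3),
  (10, [1, 5, 0, 4, 0, 5], [6, 8, 2, 4, 3, 8, 7, 1, 2, 4], 3),
  (10, [1, 5, 2, 2, 2, 5], [7, 7, 1, 1, 1, 6, 9, 1, 8, 6], 3),
  (10, [2, 0, 2, 0, 0, 3], [7, 9, 0, 8, 7, 0, 0, 0, 6, 6], 3),
  (10, [2, 0, 2, 0, 3, 3], [7, 7, 1, 1, 1, 6, 9, 1, 8, 6], 3),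
  (10, [2, 0, 7, 0, 3, 5], [9, 3, 0, 6, 1, 6, 9, 2, 1, 8], 3),
  (10, [2, 1, 1, 2, 0, 2], [7, 7, 1, 1, 1, 6, 9, 1, 8, 6], 3),
  (10, [2, 1, 3, 1, 3, 3], [7, 7, 1, 1, 1, 6, 9, 1, 8, 6], 3),
  (10, [2, 2, 1, 2, 0, 2], [7, 9, 0, 8, 7, 0, 0, 0, 6, 6], 3),
  (10, [2, 2, 5, 5, 3, 5], [2, 9, 2, 8, 0, 7, 9, 5, 7, 1], 3),
  (10, [2, 4, 4, 2, 5, 5], [2, 9, 2, 8, 0, 7, 9, 5, 7, 1], 3),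
  (10, [2, 6, 2, 4, 3, 6], [2, 9, 2, 8, 0, 7, 9, 5, 7, 1], 3),
  (10, [3, 1, 5, 3, 1, 4], [6, 8, 2, 4, 3, 8, 7, 1, 2, 4], 3),
  (10, [3, 4, 1, 4, 0, 4], [7, 9, 0, 8, 7, 0, 0, 0, 6, 6], 3),
  (10, [3, 4, 4, 2, 4, 4], [2, 9, 2, 8, 0, 7, 9, 5, 7, 1], 3),
  (10, [3, 4, 4, 4, 4, 4], [6, 8, 2, 4, 3, 8, 7, 1, 2, 4], 3),
  (10, [3, 4, 6, 5, 9, 4], [0, 0, 9, 4, 6, 1, 3, 1, 9, 6], 3),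
  (10, [3, 5, 5, 3, 5, 5], [2, 9, 2, 8, 0, 7, 9, 5, 7, 1], 3),
  (10, [3, 7, 4, 6, 9, 4], [0, 0, 9, 4, 6, 1, 3, 1, 9, 6], 3),
  (10, [4, 1, 7, 3, 3, 7], [9, 7, 1, 8, 2, 0, 8, 1, 6, 8], 3),
  (10, [4, 1, 7, 4, 1, 7], [6, 8, 2, 4, 3, 8, 7, 1, 2, 4], 3),
  (10, [5, 0, 5, 0, 4, 4], [1, 9, 1, 8, 2, 2, 9, 5, 5, 8], 3),
  (10, [5, 5, 3, 4, 4, 4], [2, 9, 2, 8, 0, 7, 9, 5, 7, 1], 3),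
  (10, [6, 2, 6, 3, 6, 6], [6, 8, 2, 4, 3, 8, 7, 1, 2, 4], 3),
  (10, [7, 4, 2, 5, 6, 6], [6, 8, 2, 4, 3, 8, 7, 1, 2, 4], 3),
  (10, [9, 4, 0, 4, 7, 8], [3, 8, 1, 3, 1, 6, 1, 7, 9, 2], 3),
  (10, [0, 3, 6, 2, 6, 4], [2, 1, 9, 7, 1, 9, 7, 1, 9, 7], 5),
  (10, [0, 3, 7, 3, 4, 3], [2, 1, 9, 7, 1, 9, 7, 1, 9, 7], 5),
  (10, [0, 3, 7, 5, 2, 5], [2, 1, 9, 7, 1, 9, 7, 1, 9, 7], 5),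
  (10, [0, 4, 7, 2, 7, 7], [2, 1, 9, 7, 1, 9, 7, 1, 9, 7], 5),
  (10, [3, 3, 6, 1, 6, 5], [8, 0, 7, 9, 1, 3, 4, 7, 3, 5], 5),
  (10, [3, 3, 9, 2, 6, 5], [2, 7, 9, 1, 1, 3, 6, 0, 9, 3], 5),
  (10, [4, 9, 6, 3, 4, 7], [2, 7, 7, 4, 0, 8, 6, 0, 3, 7], 5),
  (10, [6, 4, 2, 8, 5, 6], [1, 7, 1, 1, 1, 4, 8, 8, 0, 9], 5),
  (10, [6, 5, 3, 8, 5, 6], [2, 8, 1, 7, 1, 1, 3, 8, 6, 3], 5),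
  (10, [7, 5, 1, 1, 6, 6], [9, 9, 9, 4, 1, 8, 1, 8, 1, 1], 5),
  (10, [9, 0, 0, 3, 5, 8], [9, 5, 1, 8, 4, 0, 5, 2, 9, 7], 5),
  (11, [1, 6, 9, 9, 6, 0], [8, 6, 1, 9, 4, 2, 9, 0, 6], 3),
  (11, [3, 3, 5, 7, 9], [0, 3, 9, 3, 5, 0, 4, 2, 8, 1], 5),
  (11, [3, 3, 8, 7, 4, 8], [0, 3, 9, 5, 8, 2, 1, 5, 3], 5),
  (11, [8, 6, 4, 2, 2], [0, 9, 3, 5, 1, 4, 2, 8, 2, 1], 5),
  (11, [2, 7, 2, 5, 5, 8], [2, 7, 3, 8, 1, 1, 9, 2, 6, 5], 3),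
  (11, [4, 3, 5, 8, 2, 5], [6, 5, 3, 8, 0, 7, 4, 3, 7, 4], 3),
  (11, [5, 6, 2, 5, 8, 7], [7, 0, 8, 1, 7, 0, 8, 2, 7, 8], 3),
  (11, [7, 2, 2, 7, 2, 8], [2, 7, 3, 8, 1, 1, 9, 2, 6, 5], 3),
  (11, [2, 0, 7, 4, 2, 8], [1, 2, 9, 1, 5, 8, 4, 1, 3, 0], 5),
  (11, [4, 2, 8, 4, 3, 7], [1, 5, 1, 9, 0, 7, 9, 6, 1, 2], 5),
  (11, [4, 0, 7, 4, 0, 9], [1, 9, 1, 6, 9, 9, 2, 6, 5, 9], 9)]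

/-- relators which are only known to be central in a stem extension -/
def mixedTop : List (List ℕ) := [
  [11, 6, 9, 2, 9, 11, 0, 4, 1, 7, 9, 0, 5, 6, 8],
  [10, 8, 3, 8, 7, 10, 9, 7, 4, 1, 8, 6, 0, 5, 1],
  [10, 4, 3, 0, 10, 1, 10, 6, 3, 6, 9, 0, 3, 7, 7, 8],
  [10, 8, 10, 3, 6, 0, 10, 7, 0, 9, 3, 1, 4, 9, 6, 2],
  [11, 0, 11, 1, 2, 5, 11, 9, 6, 6, 2, 1, 8, 7, 2, 7],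
  [11, 1, 7, 2, 11, 9, 11, 3, 7, 8, 5, 0, 2, 8, 1, 6],
  [10, 0, 11, 6, 2, 4, 10, 8, 3, 8, 5, 1, 2, 8, 4, 2, 8],
  [10, 1, 7, 7, 10, 10, 10, 1, 8, 8, 4, 0, 8, 3, 9, 5, 6]]

/-- the relators of the weak group -/
def relsTop : List (List ℕ) := relsG ++ exactTop ++ amalTop.map amalRel ++ cwords mixedTop 6

/-- the hypotheses on `g 0, …, g 5` and `u 0, u 1` in a group `G` which make `G` a copy of `Co₂` for our purposes -/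
def IsCo2Tuple {G : Type*} [Group G] (g u : ℕ → G) : Prop :=
  Nat.card G = 42305421312000 ∧
  Subgroup.closure (Set.range fun i : Fin 6 => g i.val) = ⊤ ∧
  Nat.card (Subgroup.closure (Set.range fun i : Fin 5 => g i.val)) = 898128000 ∧
  168 ≤ Nat.card (Subgroup.closure (Set.range fun i : Fin 2 => g i.val)) ∧
  u 0 = ev g wordU ∧ u 1 = g 0 ∧
  40320 ≤ Nat.card (Subgroup.closure (Set.range fun i : Fin 2 => u i.val)) ∧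
  (∀ r ∈ relsG, ev g r = 1) ∧ (∀ r ∈ relsU, ev u r = 1) ∧
  (∀ r ∈ exactTop, ev g r = 1) ∧
  (∀ q ∈ amalTop, ev g (amalRel q) = 1 ∧ ev g (ordWord q) = 1) ∧
  (∀ r ∈ mixedTop, ev g r = 1)

end Cfsg.Agent.Lib.Helper1.Co2M
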