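import Mathlib
import Cfsg.Prelude.Def_KGroupFacts

/-!
# S2041-[L4] (helper10's front): dividing a stem extension by the `p'`-part of its kernel
-/

set_option autoImplicit false

namespace Cfsg.Agent.Lib.Helper10.Weak

open Cfsg

universe u v

namespace Helper1

/-- order of the source of a surjection -/
theorem card_eq_ker_mul {Γ : Type u} {G : Type v} [Group Γ] [Group G] (σ : Γ →* G)
    (hs : Function.Surjective σ) : Nat.card Γ = Nat.card G * Nat.card σ.ker := by
  rw [Subgroup.card_eq_card_quotient_mul_card_subgroup σ.ker]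
  congr 1
  exact Nat.card_congr (QuotientGroup.quotientKerEquivOfSurjective σ hs).toEquiv

end Helper1

/-- [L4] dividing out the `p'`-part of the kernel -/
theorem exists_pker {Γ : Type u} {G : Type v} [Group Γ] [Finite Γ] [Group G] (σ : Γ →* G)
    (hσ : IsStemExtension σ) (p : ℕ) [Fact p.Prime] :
    ∃ (Δ : Type u) (_ : Group Δ) (_ : Finite Δ) (τ : Δ →* G), IsStemExtension τ ∧ IsPGroup p τ.ker ∧
      Nat.card τ.ker = p ^ (Nat.card σ.ker).factorization p := by
  obtain ⟨hs, hc, hcomm⟩ := hσ
  have : Finite G := Finite.of_surjective σ hs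
  let P : Sylow p σ.ker := default
  have hPn : (P : Subgroup σ.ker).Normal := by
    refine ⟨fun n hn g => ?_⟩
    have hgn : g * n * g⁻¹ = n := by
      have h1 := Subgroup.mem_center_iff.mp (hc g.2) (n : Γ)
      apply Subtype.ext
      simp only [Subgroup.coe_mul, Subgroup.coe_inv]
      rw [← h1, mul_inv_cancel_right]
    rw [hgn]
    exact hn
  have hPcard : Nat.card P = p ^ (Nat.card σ.ker).factorization p := Sylow.card_eq_multiplicity P
  have hcop : Nat.Coprime (Nat.card (P : Subgroup σ.ker)) (P : Subgroup σ.ker).index :=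
    Sylow.card_coprime_index P
  obtain ⟨N0, hN0⟩ := Subgroup.exists_right_complement'_of_coprime hcop
  have hmul : Nat.card (P : Subgroup σ.ker) * Nat.card N0 = Nat.card σ.ker := hN0.card_mul_card
  let N : Subgroup Γ := N0.map σ.ker.subtype
  have hNle : N ≤ σ.ker := Subgroup.map_subtype_le N0
  have hNn : N.Normal := by
    refine ⟨fun n hn g => ?_⟩
    have h1 := Subgroup.mem_center_iff.mp (hc (hNle hn)) g
    rw [h1, mul_inv_cancel_right]
    exact hn
  have hNcard : Nat.card N = Nat.card N0 :=
    Subgroup.card_map_of_injective (Subgroup.subtype_injective _)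
  let τ : Γ ⧸ N →* G := QuotientGroup.lift N σ (fun x hx => hNle hx)
  have hτ : ∀ x : Γ, τ (QuotientGroup.mk x) = σ x := fun x => rfl
  have hτs : Function.Surjective τ := fun g => by
    obtain ⟨x, rfl⟩ := hs g
    exact ⟨QuotientGroup.mk x, rfl⟩
  have hcardτ : Nat.card τ.ker = p ^ (Nat.card σ.ker).factorization p := by
    have e1 := Helper1.card_eq_ker_mul σ hs
    have e2 := Helper1.card_eq_ker_mul τ hτs
    have e3 := Subgroup.card_eq_card_quotient_mul_card_subgroup N
    rw [e2, e1, hNcard, ← hmul] at e3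
    have hG : 0 < Nat.card G := Nat.card_pos
    have hN0 : 0 < Nat.card N0 := Nat.card_pos
    have e4 : Nat.card G * (Nat.card (P : Subgroup σ.ker) * Nat.card N0) =
        Nat.card G * (Nat.card τ.ker * Nat.card N0) := by
      rw [e3]; ring
    have e5 := Nat.eq_of_mul_eq_mul_left hG e4
    have e6 := Nat.eq_of_mul_eq_mul_right hN0 e5
    rw [← e6]
    exact hPcard
  refine ⟨Γ ⧸ N, inferInstance, inferInstance, τ, ⟨hτs, ?_, ?_⟩, IsPGroup.of_card hcardτ, hcardτ⟩
  · intro z hz
    obtain ⟨x, rfl⟩ := QuotientGroup.mk_surjective z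
    have hx : x ∈ σ.ker := by
      rw [MonoidHom.mem_ker] at hz ⊢
      rw [← hτ x]; exact hz
    rw [Subgroup.mem_center_iff]
    intro w
    obtain ⟨y, rfl⟩ := QuotientGroup.mk_surjective w
    have h1 := Subgroup.mem_center_iff.mp (hc hx) y
    rw [← QuotientGroup.mk_mul, ← QuotientGroup.mk_mul, h1]
  · intro z hz
    obtain ⟨x, rfl⟩ := QuotientGroup.mk_surjective z
    have hx : x ∈ σ.ker := by
      rw [MonoidHom.mem_ker] at hz ⊢
      rw [← hτ x]; exact hz
    have hxc : x ∈ commutator Γ := hcomm hx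
    rw [commutator_def] at hxc ⊢
    have h2 : (QuotientGroup.mk' N) x ∈ Subgroup.map (QuotientGroup.mk' N) ⁅(⊤ : Subgroup Γ), ⊤⁆ :=
      Subgroup.mem_map_of_mem _ hxc
    rw [Subgroup.map_commutator] at h2
    exact Subgroup.commutator_mono le_top le_top h2
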