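import Mathlib
import Cfsg.Prelude.Def_KGroupFacts
import Cfsg.Agent.H5.TCkSound
import Cfsg.Agent.Lib.Helper1.WeakL4
import Cfsg.Agent.Lib.Helper1.Co2MData

/-!
# S2044, the `2`-part, piece [N2] (helper1)

The `2`-part of the kernel of every finite stem extension of a group carrying a `Co₂`-tuple is trivial, given the
statement [UP2] for kernels which are `2`-groups: divide out the odd part of the kernel (`exists_pker`).
-/

set_option autoImplicit false
set_option linter.style.haveILetI false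

namespace Cfsg.Agent.Lib.Helper1.Co2M

open Cfsg Cfsg.H5.TCk

universe u

/-- [N2] the `2`-part of the kernel of every finite stem extension is trivial (`exists_pker` + [UP2]) -/
theorem not_dvd_two_of
    (hUP : ∀ {G : Type u} [Group G] (g u : ℕ → G), IsCo2Tuple g u →
      ∀ {Δ : Type u} [Group Δ] [Finite Δ] (τ : Δ →* G), IsStemExtension τ → IsPGroup 2 τ.ker →
      Nat.card τ.ker = 1)
    {G : Type u} [Group G] (g u : ℕ → G) (hg : IsCo2Tuple g u)
    {Γ : Type u} [Group Γ] [Finite Γ] (σ : Γ →* G) (hσ : IsStemExtension σ) :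
    ¬ 2 ∣ Nat.card σ.ker := by
  haveI : Fact (Nat.Prime 2) := ⟨Nat.prime_two⟩
  obtain ⟨Δ, _, _, τ, hτ, hk, hc⟩ := Cfsg.Agent.Lib.Helper10.Weak.exists_pker σ hσ 2
  have h1 := hUP g u hg τ hτ hk
  rw [h1] at hc
  intro hd
  have hpos : 0 < Nat.card σ.ker := Nat.card_pos
  have hf : 1 ≤ (Nat.card σ.ker).factorization 2 :=
    (Nat.Prime.dvd_iff_one_le_factorization Nat.prime_two hpos.ne').mp hd
  have : 2 ^ 1 ≤ 2 ^ (Nat.card σ.ker).factorization 2 := Nat.pow_le_pow_right (by norm_num) hf
  omega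

end Cfsg.Agent.Lib.Helper1.Co2M
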