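import Cfsg.Agent.Lib.Helper12.McLWC
import Cfsg.Agent.Lib.Helper1.Co2MData
import Cfsg.Agent.Lib.Helper1.Co2TC.TopB

/-!
# S2044, the `2`-part, piece [TC] (helper1): the coset enumeration of the weak group

Certificate `Lib/Helper1/Co2TC/TopB` (helper24's tool for helper4's checker): in the group presented by
`relsTop` the subgroup generated by the first five generators has index `≤ 47104`; glue = helper12's
`McLW.C.card_cl_step`.
-/

set_option autoImplicit false
set_option linter.unusedVariables false

namespace Cfsg.Agent.Lib.Helper1.Co2M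

open Cfsg.H5.TCk
open Cfsg.Agent.Lib.Helper12.McLW.C
open Cfsg.Agent.Lib.Helper5.Sp62 (IsStd)

universe u

namespace TC

theorem std6 : IsStd 6 Co2TC.Cod6.dec := std_of_all _ (by decide)

set_option maxRecDepth 100000 in
theorem basesTop_ok : Co2TC.Top.bases.all (okWord relsTop) = true := by decide +kernel

set_option maxRecDepth 100000 in
theorem lettersTop : lettersLt (2 * 6) Co2TC.Top.bases = true := by decide +kernel

theorem subsTop : subsOK 5 Co2TC.Top.subsL = true := by decide

theorem nTop : Co2TC.Top.n = 47104 := rfl

end TC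

open TC

/-- [TC] the subgroup generated by the first five of six elements satisfying `relsTop` has index `≤ 47104` in the
subgroup generated by all six -/
theorem card_cl6_le {Γ : Type u} [Group Γ] (γ : ℕ → Γ) (hrel : ∀ r ∈ relsTop, ev γ r = 1)
    [Finite (Subgroup.closure (Set.range fun i : Fin 5 => γ i.val))] :
    Finite (Subgroup.closure (Set.range fun i : Fin 6 => γ i.val)) ∧
    Nat.card (Subgroup.closure (Set.range fun i : Fin 6 => γ i.val)) ≤
      47104 * Nat.card (Subgroup.closure (Set.range fun i : Fin 5 => γ i.val)) := by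
  obtain ⟨hf, hc⟩ := card_cl_step γ 6 5 (by norm_num) _ std6 Co2TC.Top.bases Co2TC.Top.subsL
    Co2TC.Top.n Co2TC.Top.bound (lt_of_lettersLt lettersTop) (of_subsOK subsTop)
    (fun b hb => ev_of_ok γ relsTop hrel b (List.all_eq_true.mp basesTop_ok b hb))
  rw [nTop] at hc
  exact ⟨hf, hc⟩

end Cfsg.Agent.Lib.Helper1.Co2M
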