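import Mathlib
import Cfsg.Prelude.Def_KGroupFacts
import Cfsg.Agent.H5.TCkSound
import Cfsg.Agent.H5.StemTC
import Cfsg.Agent.H5.StemLift
import Cfsg.Agent.Lib.Helper21.WeakL12
import Cfsg.Agent.Lib.Helper12.McLWData
import Cfsg.Agent.Lib.Helper1.Co2MData
import Cfsg.Agent.Lib.Helper21.Co2MB

/-!
# S2044, the `2`-part, piece [UP2] (helper1's copy): a stem extension of a group with a `Co₂`-tuple whose kernel is
a `2`-group is an isomorphism

[A] gives the lifts of `g 0, …, g 4`; `g 5` has a lift of order `23`; the relators `relsTop` hold for the lifts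
(`relsG` by the injectivity on the lift of `M`, `exactTop` by the uniqueness of lifts of odd order, `amalTop` by [B],
the commutator words of `mixedTop` because the kernel is central); the lifts generate; [TC] bounds the order.
-/

set_option autoImplicit false
set_option linter.unusedVariables false

namespace Cfsg.Agent.Lib.Helper1.Co2M

open Cfsg Cfsg.H5.TCk
open Cfsg.H5.StemTC (cword cwords)
open Cfsg.Agent.Lib.Helper12.McLW (relsG relsU relsW IsMcLTuple)

universe u

namespace Spare

set_option maxRecDepth 100000 in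
theorem relsG_lt : relsG.all (fun r => r.all (fun l => decide (l < 10))) = true := by decide +kernel

set_option maxRecDepth 100000 in
theorem amalTop_ok : amalTop.all (fun q => decide (q.1 < 12) && q.2.1.all (fun l => decide (l < 10)) &&
    q.2.2.1.all (fun l => decide (l < 10)) && decide (q.2.2.2 % 2 = 1)) = true := by decide +kernel

set_option maxRecDepth 100000 in
theorem mixedTop_lt : mixedTop.all (fun r => r.all (fun l => decide (l < 2 * 6))) = true := by decide +kernel

theorem exactTop_eq : exactTop = [wpow [10] 23, [0, 2, 9] ++ [10] ++ winv [0, 2, 9] ++ [11, 11]] := by decide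

/-- [UP2] (spare copy of helper1) -/
theorem card_ker_eq_one_of
    (hA : ∀ {G : Type u} [Group G] {Δ : Type u} [Group Δ] [Finite Δ]
      (τ : Δ →* G), IsStemExtension τ → IsPGroup 2 τ.ker → ∀ (g u : ℕ → G),
      Nat.card (Subgroup.closure (Set.range fun i : Fin 5 => g i.val)) = 898128000 →
      168 ≤ Nat.card (Subgroup.closure (Set.range fun i : Fin 2 => g i.val)) →
      u 0 = ev g wordU → u 1 = g 0 →
      40320 ≤ Nat.card (Subgroup.closure (Set.range fun i : Fin 2 => u i.val)) →
      (∀ r ∈ relsG, ev g r = 1) → (∀ r ∈ relsU, ev u r = 1) →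
      ∃ γ : ℕ → Δ, (∀ i < 5, τ (γ i) = g i) ∧
        Nat.card (Subgroup.closure (Set.range fun i : Fin 5 => γ i.val)) ≤ 898128000 ∧
        ∀ w : List ℕ, w.all (fun l => decide (l < 10)) = true → ev g w = 1 → ev γ w = 1)
    (hC : ∀ {Γ : Type u} [Group Γ] (γ : ℕ → Γ), (∀ r ∈ relsTop, ev γ r = 1) →
      ∀ [Finite (Subgroup.closure (Set.range fun i : Fin 5 => γ i.val))],
      Finite (Subgroup.closure (Set.range fun i : Fin 6 => γ i.val)) ∧
      Nat.card (Subgroup.closure (Set.range fun i : Fin 6 => γ i.val)) ≤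
        47104 * Nat.card (Subgroup.closure (Set.range fun i : Fin 5 => γ i.val)))
    {G : Type u} [Group G] (g u : ℕ → G) (hg : IsCo2Tuple g u)
    {Δ : Type u} [Group Δ] [Finite Δ] (τ : Δ →* G) (hτ : IsStemExtension τ) (hk : IsPGroup 2 τ.ker) :
    Nat.card τ.ker = 1 := by
  obtain ⟨hcardG, hgen, hcard5, h168, hu0, hu1, h40320, hG, hU, hEx, hAm, hMix⟩ := hg
  obtain ⟨γ0, hγ0, hcardγ0, hinj0⟩ := hA τ hτ hk g u hcard5 h168 hu0 hu1 h40320 hG hU
  have hsurj := hτ.1
  have hcen := hτ.2.1
  rw [exactTop_eq] at hEx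
  -- the lift of `g 5`
  have hf23 : g 5 ^ 23 = 1 := by
    have h := hEx (wpow [10] 23) (by simp)
    rw [Helper21.ev_wpow] at h
    simpa [ev, gl] using h
  obtain ⟨f, hf, hf1⟩ := Cfsg.Agent.Lib.Helper10.Weak.exists_lift_pow_eq_one τ hsurj hk (g 5) (n := 23)
    (by norm_num) hf23
  let γ : ℕ → Δ := fun i => if i < 5 then γ0 i else f
  have hγlt : ∀ i < 5, γ i = γ0 i := fun i hi => if_pos hi
  have hγ5 : γ 5 = f := if_neg (by norm_num)
  have hγ : ∀ i < 6, τ (γ i) = g i := by
    intro i hi
    by_cases h5 : i < 5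
    · rw [hγlt i h5]; exact hγ0 i h5
    · have : i = 5 := by omega
      subst this; rw [hγ5]; exact hf
  have hinj : ∀ w : List ℕ, w.all (fun l => decide (l < 10)) = true → ev g w = 1 → ev γ w = 1 := by
    intro w hw h1
    rw [Helper21.ev_congr_all γ γ0 5 hγlt w hw]
    exact hinj0 w hw h1
  have hτev : ∀ w : List ℕ, w.all (fun l => decide (l < 2 * 6)) = true → τ (ev γ w) = ev g w := by
    intro w hw
    rw [Cfsg.H5.StemTC.map_ev]
    exact Helper21.ev_congr_all _ _ 6 hγ w hw
  -- the relators
  have hrel : ∀ r ∈ relsTop, ev γ r = 1 := by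
    intro r hr
    unfold relsTop at hr
    rw [exactTop_eq, List.mem_append, List.mem_append, List.mem_append] at hr
    rcases hr with ((hr | hr) | hr) | hr
    · exact hinj r (List.all_eq_true.mp relsG_lt r hr) (hG r hr)
    · rw [List.mem_cons, List.mem_singleton] at hr
      rcases hr with rfl | rfl
      · rw [Helper21.ev_wpow]
        have : ev γ [10] = f := by simp [ev, gl, γ]
        rw [this, hf1]
      · have hgr := hEx _ (by simp : ([0, 2, 9] ++ [10] ++ winv [0, 2, 9] ++ [11, 11] : List ℕ) ∈ _)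
        have hτr := hτev ([0, 2, 9] ++ [10] ++ winv [0, 2, 9] ++ [11, 11]) (by decide)
        rw [hgr] at hτr
        rw [ev_append, ev_append, ev_append, ev_winv] at hτr ⊢
        have e10 : ev γ [10] = f := by simp [ev, gl, γ]
        have e11 : ev γ [11, 11] = (f ^ 2)⁻¹ := by
          simp [ev, gl, γ, pow_two]
        rw [e10, e11] at hτr ⊢
        set d := ev γ [0, 2, 9] with hd
        have hy : (d * f * d⁻¹) ^ 23 = 1 := by
          rw [conj_pow, hf1, mul_one, mul_inv_cancel]
        have hy' : (f ^ 2) ^ 23 = 1 := by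
          rw [← pow_mul, mul_comm, pow_mul, hf1, one_pow]
        have hτeq : τ (d * f * d⁻¹) = τ (f ^ 2) := by
          rw [map_mul, map_inv, mul_inv_eq_one] at hτr
          exact hτr
        have := Cfsg.Agent.Lib.Helper10.Weak.lift_unique τ hcen hk (n := 23) (m := 23) (by norm_num)
          (by norm_num) hy hy' hτeq
        rw [this, mul_inv_cancel]
    · obtain ⟨q, hq, rfl⟩ := List.mem_map.mp hr
      have hq' := List.all_eq_true.mp amalTop_ok q hq
      simp only [Bool.and_eq_true, decide_eq_true_eq] at hq'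
      obtain ⟨⟨⟨h1, h2⟩, h3⟩, h4⟩ := hq'
      exact ev_amal_eq_one τ hcen hk g γ hγ hinj q h1 h2 h3 h4 (hAm q hq).2 (hAm q hq).1
    · unfold cwords at hr
      obtain ⟨r0, hr0, hr'⟩ := List.mem_flatMap.mp hr
      obtain ⟨i, hi, rfl⟩ := List.mem_map.mp hr'
      apply Cfsg.H5.StemTC.ev_cword
      apply hcen
      rw [MonoidHom.mem_ker, hτev r0 (List.all_eq_true.mp mixedTop_lt r0 hr0), hMix r0 hr0]
  -- generation
  have htop : Subgroup.closure (Set.range fun i : Fin 6 => γ i.val) = ⊤ := by
    apply Cfsg.H5.StemLift.eq_top_of_map_eq_top τ hτ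
    rw [MonoidHom.map_closure, ← hgen]
    congr 1
    rw [← Set.range_comp]
    congr 1
    funext i
    exact hγ i.val i.2
  -- the order
  obtain ⟨hfin, hle⟩ := hC γ hrel
  have h5eq : (fun i : Fin 5 => γ i.val) = fun i : Fin 5 => γ0 i.val := by
    funext i
    exact hγlt i.val i.2
  rw [htop, h5eq, Subgroup.card_top] at hle
  have hΔ : Nat.card Δ ≤ 42305421312000 :=
    hle.trans ((Nat.mul_le_mul_left _ hcardγ0).trans (by norm_num))
  have hmul : Nat.card τ.ker * τ.ker.index = Nat.card Δ := Subgroup.card_mul_index τ.ker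
  have hidx : τ.ker.index = Nat.card G := by
    rw [Subgroup.index_ker, MonoidHom.range_eq_top.mpr hsurj, Subgroup.card_top]
  rw [hidx, hcardG] at hmul
  have hpos : 0 < Nat.card τ.ker := Nat.card_pos
  nlinarith

end Spare

end Cfsg.Agent.Lib.Helper1.Co2M
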