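import Mathlib
import Cfsg.Agent.H5.StemTC
import Cfsg.Agent.Lib.Helper5.Sp62Data

/-!
# S2093-[L] (helper5's front): lifts of elements of order prime to the kernel of a central extension

`[L1]` existence of a lift with the same `n`-th power relation, `[L2]` uniqueness, `[L3]` conjugation relators
between such lifts hold exactly as soon as they hold for the images.  All generic: `n` prime to the order of the
kernel, no `p`-group hypothesis.
-/

set_option autoImplicit false

namespace Cfsg.Agent.Lib.Helper5.Sp62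

open Cfsg Cfsg.H5.TCk

universe u v

namespace Helper1

theorem ev_replicate {Γ : Type u} [Group Γ] (γ : ℕ → Γ) (l x : ℕ) :
    ev γ (List.replicate l x) = gl γ x ^ l := by
  induction l with
  | zero => simp [ev]
  | succ l ih => rw [List.replicate_succ, ev, ih, pow_succ']

theorem gl_even {Γ : Type u} [Group Γ] (γ : ℕ → Γ) (i : ℕ) : gl γ (2 * i) = γ i := by
  unfold gl
  have h1 : (2 * i) % 2 = 0 := by omega
  have h2 : (2 * i) / 2 = i := by omega
  simp only [h1, if_true, h2]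

theorem gl_pow_eq_one {Γ : Type u} [Group Γ] (γ : ℕ → Γ) (c n : ℕ) (h : γ (c / 2) ^ n = 1) :
    gl γ c ^ n = 1 := by
  unfold gl
  split_ifs
  · exact h
  · rw [inv_pow, h, inv_one]

theorem ev_cr {Γ : Type u} [Group Γ] (γ : ℕ → Γ) (u : List ℕ) (i c m : ℕ) :
    ev γ (cr u i c m) = ev γ u * γ i * (ev γ u)⁻¹ * gl γ c ^ m := by
  unfold cr
  rw [ev_append, ev_append, ev_append, ev_winv, ev_replicate]
  have : ev γ [2 * i] = γ i := by
    simp only [ev, gl_even, mul_one]
  rw [this]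

theorem map_gl {Γ : Type u} {G : Type v} [Group Γ] [Group G] (σ : Γ →* G) (γ : ℕ → Γ) (c : ℕ) :
    σ (gl γ c) = gl (fun k => σ (γ k)) c := by
  unfold gl
  split_ifs
  · rfl
  · rw [map_inv]

end Helper1

/-- [L1] lifts of elements of order prime to the kernel (generic) -/
theorem exists_lift_pow_eq_one {Γ : Type u} {G : Type v} [Group Γ] [Finite Γ] [Group G] (σ : Γ →* G)
    (hs : Function.Surjective σ) (hc : σ.ker ≤ Subgroup.center Γ) {n : ℕ}
    (hn : n.Coprime (Nat.card σ.ker)) (x : G) (hx : x ^ n = 1) : ∃ y : Γ, σ y = x ∧ y ^ n = 1 := by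
  obtain ⟨y0, hy0⟩ := hs x
  have hcker : y0 ^ n ∈ σ.ker := by
    rw [MonoidHom.mem_ker, map_pow, hy0, hx]
  -- the `n`-th power map is a bijection of the kernel
  let e : σ.ker ≃ σ.ker := powCoprime hn.symm
  obtain ⟨d, hd⟩ := e.surjective ⟨(y0 ^ n)⁻¹, σ.ker.inv_mem hcker⟩
  have hd' : (d : Γ) ^ n = (y0 ^ n)⁻¹ := by
    have := congrArg Subtype.val hd
    simpa [e, powCoprime] using this
  have hdc : ∀ g : Γ, g * (d : Γ) = (d : Γ) * g := Subgroup.mem_center_iff.mp (hc d.2)
  refine ⟨y0 * d, ?_, ?_⟩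
  · rw [map_mul, hy0, (MonoidHom.mem_ker).mp d.2, mul_one]
  · have hcomm : Commute y0 (d : Γ) := hdc y0
    rw [hcomm.mul_pow, hd', mul_inv_cancel]

/-- [L2] such lifts are unique (generic) -/
theorem lift_unique {Γ : Type u} {G : Type v} [Group Γ] [Finite Γ] [Group G] (σ : Γ →* G)
    (hc : σ.ker ≤ Subgroup.center Γ) {n : ℕ} (hn : n.Coprime (Nat.card σ.ker)) {y y' : Γ}
    (hy : y ^ n = 1) (hy' : y' ^ n = 1) (h : σ y = σ y') : y = y' := by
  have hzker : y⁻¹ * y' ∈ σ.ker := by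
    rw [MonoidHom.mem_ker, map_mul, map_inv, h, inv_mul_cancel]
  have hzc : ∀ g : Γ, g * (y⁻¹ * y') = (y⁻¹ * y') * g := Subgroup.mem_center_iff.mp (hc hzker)
  have hzn : (y⁻¹ * y') ^ n = 1 := by
    have hcomm : Commute y (y⁻¹ * y') := hzc y
    have h1 : y' = y * (y⁻¹ * y') := by group
    have h2' : y' ^ n = y ^ n * (y⁻¹ * y') ^ n := by
      conv_lhs => rw [h1]
      exact hcomm.mul_pow n
    rw [hy', hy, one_mul] at h2'
    exact h2'.symm
  -- the element of the kernel has order dividing both `n` and the order of the kernel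
  have hzk : (⟨y⁻¹ * y', hzker⟩ : σ.ker) ^ Nat.card σ.ker = 1 := pow_card_eq_one'
  have hzk' : (y⁻¹ * y') ^ Nat.card σ.ker = 1 := by
    have := congrArg Subtype.val hzk
    simpa using this
  have hord : orderOf (y⁻¹ * y') ∣ Nat.gcd n (Nat.card σ.ker) :=
    Nat.dvd_gcd (orderOf_dvd_of_pow_eq_one hzn) (orderOf_dvd_of_pow_eq_one hzk')
  rw [hn.gcd_eq_one, Nat.dvd_one, orderOf_eq_one_iff] at hord
  exact (inv_mul_eq_one.mp hord)

/-- [L3] a conjugation relator between such lifts holds as soon as it holds for the images (generic) -/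
theorem ev_cr_eq_one {Γ : Type u} {G : Type v} [Group Γ] [Finite Γ] [Group G] (σ : Γ →* G)
    (hc : σ.ker ≤ Subgroup.center Γ) {n : ℕ} (hn : n.Coprime (Nat.card σ.ker)) (γh : ℕ → Γ)
    (u : List ℕ) (i c m : ℕ) (hi : γh i ^ n = 1) (hj : γh (c / 2) ^ n = 1)
    (h : ev (fun k => σ (γh k)) (cr u i c m) = 1) : ev γh (cr u i c m) = 1 := by
  rw [Helper1.ev_cr] at h ⊢
  set U := ev γh u with hU
  have hUs : ev (fun k => σ (γh k)) u = σ U := (Cfsg.H5.StemTC.map_ev σ γh u).symm
  rw [hUs, ← Helper1.map_gl] at h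
  have h1 : (U * γh i * U⁻¹) ^ n = 1 := by
    rw [conj_pow, hi, mul_one, mul_inv_cancel]
  have hg : gl γh c ^ n = 1 := Helper1.gl_pow_eq_one γh c n hj
  have h2 : ((gl γh c ^ m)⁻¹) ^ n = 1 := by
    rw [inv_pow, ← pow_mul, mul_comm, pow_mul, hg, one_pow, inv_one]
  have himg : σ (U * γh i * U⁻¹) = σ ((gl γh c ^ m)⁻¹) := by
    rw [map_mul, map_mul, map_inv, map_inv, map_pow]
    exact mul_eq_one_iff_eq_inv.mp h
  have := lift_unique σ hc hn h1 h2 himg
  rw [this, inv_mul_cancel]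

end Cfsg.Agent.Lib.Helper5.Sp62
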