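import Cfsg.Agent.Lib.Helper1.Co2MN2
import Cfsg.Agent.Lib.Helper1.Co2MTC
import Cfsg.Agent.Lib.Helper9.Co2MA
import Cfsg.Agent.Lib.Helper1.Co2MUP2
import Cfsg.Agent.Lib.Helper16.McLWP
import Cfsg.Agent.Lib.Helper21.McLWODD
import Cfsg.Agent.Lib.Helper12.McLWC

/-!
# S2044, the `2`-part, assembled (helper1)

For a group `G` carrying a `Co₂`-tuple (`Co2MData.IsCo2Tuple`), the order of the kernel of every finite stem
extension of `G` is odd. Pieces: [A] `exists_mcl_lifts` (helper9) with helper12's S2047 statements [P]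
(`commutator_eq_top_of_relsW`, helper16) and [ODD] (`odd_card_ker_of`, helper21, with [CU] `card_le_of_relsU` of
helper12), [B] `ev_amal_eq_one` (helper21, inside [UP2]), [TC] `card_cl6_le` (helper1), [UP2] `Spare.card_ker_eq_one_of`
(helper1), [N2] `not_dvd_two_of` (helper1).
-/

set_option autoImplicit false
set_option linter.unusedVariables false

namespace Cfsg.Agent.Lib.Helper1.Co2M

open Cfsg Cfsg.H5.TCk
open Cfsg.Agent.Lib.Helper12.McLW (relsG relsU relsW IsMcLTuple)

universe u

/-- the `2`-part of the Schur multiplier of a group with a `Co₂`-tuple is trivial -/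
theorem not_dvd_two_of_tuple {G : Type u} [Group G] (g u : ℕ → G) (hg : IsCo2Tuple g u)
    {Γ : Type u} [Group Γ] [Finite Γ] (σ : Γ →* G) (hσ : IsStemExtension σ) :
    ¬ 2 ∣ Nat.card σ.ker :=
  not_dvd_two_of
    (fun {G} _ g u hg {Δ} _ _ τ hτ hk =>
      Spare.card_ker_eq_one_of
        (fun τ hτ hk g u h1 h2 h3 h4 h5 h6 h7 =>
          exists_mcl_lifts
            (fun h hgen hrel => Cfsg.Agent.Lib.Helper12.McLW.commutator_eq_top_of_relsW h hgen hrel)
            (fun {H} _ g' u' hg' {Δ'} _ _ τ' hτ' =>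
              Cfsg.Agent.Lib.Helper12.McLW.odd_card_ker_of
                (fun δ hrel hgen => Cfsg.Agent.Lib.Helper12.McLW.card_le_of_relsU δ hrel hgen)
                g' u' hg' τ' hτ')
            τ hτ hk g u h1 h2 h3 h4 h5 h6 h7)
        (fun γ hrel _ => card_cl6_le γ hrel)
        g u hg τ hτ hk)
    g u hg σ hσ

end Cfsg.Agent.Lib.Helper1.Co2M
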