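import Mathlib
import Cfsg.Agent.Lib.Helper1.CoprimeSylow
import Cfsg.Agent.Lib.Helper1.CoprimeAbelian

/-!
Coprime action: centralizer of prime index.
-/

set_option autoImplicit false

open Subgroup
open Pointwise
open scoped commutatorElement

namespace Cfsg.Agent.Lib.Helper1

universe u

variable {G : Type u} [Group G]

/-- If `C` has the same relative index in `P ≤ K` and in `K`, then `K = P * C` elementwise. -/
theorem exists_mul_of_relIndex_eq [Finite G] (P C K : Subgroup G) (hPK : P ≤ K)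
    (h : C.relIndex P = C.relIndex K) : ∀ k ∈ K, ∃ x ∈ P, ∃ c ∈ C, k = x * c := by
  have hinj := (Subgroup.quotientSubgroupOfEmbeddingOfLE C hPK).injective
  have hbij := hinj.bijective_of_nat_card_le (by
    show (C.subgroupOf K).index ≤ (C.subgroupOf P).index
    exact h.symm.le)
  intro k hk
  obtain ⟨q, hq⟩ := hbij.2 (QuotientGroup.mk ⟨k, hk⟩)
  induction q using QuotientGroup.induction_on with | _ x => ?_
  rw [Subgroup.quotientSubgroupOfEmbeddingOfLE_apply_mk, QuotientGroup.eq,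
    Subgroup.mem_subgroupOf] at hq
  refine ⟨x, x.2, _, hq, ?_⟩
  simp


/-- Under coprime action, if `C_K(A)` has prime index `p` in `K` then `[K, A]` has order `p`. -/
theorem card_commutator_of_relIndex_centralizer_prime [Finite G] (A K : Subgroup G)
    (hAK : A ≤ normalizer (K : Set G)) (hcop : (Nat.card A).Coprime (Nat.card K))
    (hsolv : Group.IsSolvable A ∨ Group.IsSolvable K)
    (p : ℕ) (hp : p.Prime) (hidx : (K ⊓ centralizer (A : Set G)).relIndex K = p) :
    Nat.card (⁅K, A⁆ : Subgroup G) = p := by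
  have : Fact p.Prime := ⟨hp⟩
  have hact : CoprimeAct A K := ⟨hAK, hcop, hsolv⟩
  -- (1) an A-invariant Sylow p-subgroup
  obtain ⟨⟨P, hPK, hPcard⟩, hPA⟩ := hact.exists_invariant_sylSet p
  simp only at hPA
  have hPp : IsPGroup p P := IsPGroup.of_card hPcard
  -- P is not contained in C
  have hPC : ¬ P ≤ K ⊓ centralizer (A : Set G) := by
    intro hle
    have h1 : (K ⊓ centralizer (A : Set G)).relIndex K ∣ P.relIndex K :=
      Subgroup.relIndex_dvd_of_le_left K hle
    rw [hidx] at h1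
    have h2 := card_mul_relIndex_of_le hPK
    rw [hPcard] at h2
    have hK0 : Nat.card K ≠ 0 := Nat.card_pos.ne'
    have h3 := Nat.ordProj_mul_ordCompl_eq_self (Nat.card K) p
    have h4 : P.relIndex K = ordCompl[p] (Nat.card K) := by
      apply Nat.eq_of_mul_eq_mul_left (pow_pos hp.pos ((Nat.card K).factorization p))
      rw [h2, h3]
    rw [h4] at h1
    exact Nat.not_dvd_ordCompl hp hK0 h1
  -- (2) relative index of C in P is p
  have hrelP : (K ⊓ centralizer (A : Set G)).relIndex P = p := by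
    have h1 : (K ⊓ centralizer (A : Set G)).relIndex P ≤ p := by
      rw [← hidx]
      apply Subgroup.relIndex_le_of_le_right hPK
      rw [hidx]; exact hp.ne_zero
    have h2 : (K ⊓ centralizer (A : Set G)).relIndex P ∣ Nat.card P :=
      Subgroup.relIndex_dvd_card _ _
    rw [hPcard] at h2
    obtain ⟨j, -, hj⟩ := (Nat.dvd_prime_pow hp).mp h2
    have hj0 : j ≠ 0 := by
      intro h0
      rw [h0, pow_zero, Subgroup.relIndex_eq_one] at hj
      exact hPC hj
    rw [hj] at h1 ⊢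
    have hj1 : j ≤ 1 := by
      by_contra hlt
      push Not at hlt
      have : p ^ 2 ≤ p ^ j := Nat.pow_le_pow_right hp.pos hlt
      have h3 : p < p ^ 2 := by
        have := hp.one_lt
        nlinarith
      omega
    have : j = 1 := by omega
    rw [this, pow_one]
  have hdecomp := exists_mul_of_relIndex_eq P (K ⊓ centralizer (A : Set G)) K hPK
    (hrelP.trans hidx.symm)
  -- (3) [K, A] ≤ P
  have hRP : ⁅K, A⁆ ≤ P := by
    rw [Subgroup.commutator_le]
    intro k hk a ha
    obtain ⟨x, hx, c, hc, rfl⟩ := hdecomp k hk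
    have hca : a * c = c * a := (Subgroup.mem_centralizer_iff.mp (Subgroup.mem_inf.mp hc).2) a ha
    have e : ⁅x * c, a⁆ = x * (a * x⁻¹ * a⁻¹) := by
      rw [commutatorElement_def]
      calc x * c * a * (x * c)⁻¹ * a⁻¹ = x * (c * a) * c⁻¹ * x⁻¹ * a⁻¹ := by group
        _ = x * (a * c) * c⁻¹ * x⁻¹ * a⁻¹ := by rw [hca]
        _ = _ := by group
    rw [e]
    exact P.mul_mem hx ((Subgroup.mem_normalizer_iff.mp (hPA ha) x⁻¹).mp (P.inv_mem hx))
  have hRp : IsPGroup p (⁅K, A⁆ : Subgroup G) := hPp.to_le hRP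
  have hRK : ⁅K, A⁆ ≤ K := commutator_le_of_le_normalizer hAK
  have hRA : A ≤ normalizer ((⁅K, A⁆ : Subgroup G) : Set G) := le_normalizer_commutator_right
  have hRR : ⁅⁅K, A⁆, A⁆ = ⁅K, A⁆ := hact.commutator_commutator_eq
  -- (4) index of C_R(A) in R
  have hKRC : ∀ k ∈ K, ∃ r ∈ ⁅K, A⁆, ∃ c ∈ K ⊓ centralizer (A : Set G), k = r * c := by
    intro k hk
    have h1 := hact.commutator_sup_centralizer
    have h2 : k ∈ ((⁅K, A⁆ ⊔ (K ⊓ centralizer (A : Set G)) : Subgroup G) : Set G) := by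
      rw [h1]; exact hk
    rw [Subgroup.coe_mul_of_right_le_normalizer_left _ _
      (inf_le_left.trans le_normalizer_commutator_left)] at h2
    obtain ⟨r, hr, c, hc, rfl⟩ := h2
    exact ⟨r, hr, c, hc, rfl⟩
  have hrelR : (⁅K, A⁆ ⊓ centralizer (A : Set G)).relIndex ⁅K, A⁆ = p := by
    have h1 : (K ⊓ centralizer (A : Set G)).relIndex ⁅K, A⁆ = p := by
      rw [← hidx]
      apply le_antisymm
      · apply Subgroup.relIndex_le_of_le_right hRK
        rw [hidx]; exact hp.ne_zero
      · -- surjection from R-cosets onto K-cosets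
        have hsurj : Function.Surjective
            (Subgroup.quotientSubgroupOfEmbeddingOfLE (K ⊓ centralizer (A : Set G)) hRK) := by
          intro q
          induction q using QuotientGroup.induction_on with | _ k => ?_
          obtain ⟨r, hr, c, hc, hkrc⟩ := hKRC k k.2
          refine ⟨QuotientGroup.mk ⟨r, hr⟩, ?_⟩
          rw [Subgroup.quotientSubgroupOfEmbeddingOfLE_apply_mk, QuotientGroup.eq,
            Subgroup.mem_subgroupOf]
          have : ((Subgroup.inclusion hRK ⟨r, hr⟩)⁻¹ * k : K) = (⟨c, hc.1⟩ : K) := by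
            apply Subtype.ext
            simp [hkrc]
          rw [this]; exact hc
        exact Nat.card_le_card_of_surjective _ hsurj
    rw [← Subgroup.inf_relIndex_right] at h1
    have e : K ⊓ centralizer (A : Set G) ⊓ ⁅K, A⁆ = ⁅K, A⁆ ⊓ centralizer (A : Set G) := by
      rw [inf_comm, ← inf_assoc, inf_eq_left.mpr hRK]
    rwa [e] at h1
  -- (5) M = C_R(A) is normal in R
  have hMnorm : ∀ m ∈ ⁅K, A⁆ ⊓ centralizer (A : Set G), ∀ r ∈ ⁅K, A⁆,
      r * m * r⁻¹ ∈ ⁅K, A⁆ ⊓ centralizer (A : Set G) := by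
    have hco : IsCoatom ((⁅K, A⁆ ⊓ centralizer (A : Set G)).subgroupOf ⁅K, A⁆) := by
      apply isCoatom_of_index_prime
      show ((⁅K, A⁆ ⊓ centralizer (A : Set G)).relIndex ⁅K, A⁆).Prime
      rw [hrelR]; exact hp
    have hn := IsPGroup.normal_of_isCoatom hRp hco
    intro m hm r hr
    have := hn.conj_mem ⟨m, hm.1⟩ (Subgroup.mem_subgroupOf.mpr hm) ⟨r, hr⟩
    rw [Subgroup.mem_subgroupOf] at this
    simpa using this
  -- (6) R centralizes M
  have hRM : ⁅⁅K, A⁆, ⁅K, A⁆ ⊓ centralizer (A : Set G)⁆ = ⊥ := by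
    have h1 : ⁅⁅A, ⁅K, A⁆ ⊓ centralizer (A : Set G)⁆, ⁅K, A⁆⁆ = ⊥ := by
      have : ⁅A, ⁅K, A⁆ ⊓ centralizer (A : Set G)⁆ = ⊥ := by
        rw [Subgroup.commutator_comm, Subgroup.commutator_eq_bot_iff_le_centralizer]
        exact inf_le_right
      rw [this, Subgroup.commutator_bot_left]
    have h2 : ⁅⁅⁅K, A⁆ ⊓ centralizer (A : Set G), ⁅K, A⁆⁆, A⁆ = ⊥ := by
      rw [Subgroup.commutator_eq_bot_iff_le_centralizer]
      refine le_trans ?_ (inf_le_right : ⁅K, A⁆ ⊓ centralizer (A : Set G) ≤ _)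
      rw [Subgroup.commutator_le]
      intro m hm r hr
      rw [commutatorElement_def]
      have h3 := hMnorm m⁻¹ (inv_mem hm) r hr
      have e : m * r * m⁻¹ * r⁻¹ = m * (r * m⁻¹ * r⁻¹) := by group
      rw [e]
      exact mul_mem hm h3
    have h3 := Subgroup.commutator_commutator_eq_bot_of_rotate h1 h2
    rwa [hRR] at h3
  -- (7) R is abelian
  have hMle : (⁅K, A⁆ ⊓ centralizer (A : Set G)).subgroupOf ⁅K, A⁆ ≤
      center (⁅K, A⁆ : Subgroup G) := by
    intro m hm
    rw [Subgroup.mem_subgroupOf] at hm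
    rw [Subgroup.mem_center_iff]
    intro r
    apply Subtype.ext
    have h1 : ⁅(r : G), (m : G)⁆ ∈ (⊥ : Subgroup G) := by
      rw [← hRM]; exact Subgroup.commutator_mem_commutator r.2 hm
    rw [Subgroup.mem_bot, commutatorElement_eq_one_iff_commute] at h1
    exact h1.eq
  have hn : ((⁅K, A⁆ ⊓ centralizer (A : Set G)).subgroupOf ⁅K, A⁆).Normal := by
    constructor
    intro m hm r
    rw [Subgroup.mem_subgroupOf] at hm ⊢
    have := hMnorm m hm r r.2
    simpa using this
  have hcyc : IsCyclic (↥⁅K, A⁆ ⧸ (⁅K, A⁆ ⊓ centralizer (A : Set G)).subgroupOf ⁅K, A⁆) := by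
    have hc : Nat.card (↥⁅K, A⁆ ⧸ (⁅K, A⁆ ⊓ centralizer (A : Set G)).subgroupOf ⁅K, A⁆) = p := by
      rw [← Subgroup.index_eq_card]; exact hrelR
    exact isCyclic_of_prime_card hc
  have hab : IsMulCommutative (⁅K, A⁆ : Subgroup G) := by
    exact MonoidHom.isMulCommutative_of_isCyclic_of_ker_le_center
      (QuotientGroup.mk' ((⁅K, A⁆ ⊓ centralizer (A : Set G)).subgroupOf ⁅K, A⁆))
      (by rw [QuotientGroup.ker_mk']; exact hMle)
  -- (8) M = ⊥
  have hcopR : (Nat.card A).Coprime (Nat.card (⁅K, A⁆ : Subgroup G)) :=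
    Nat.Coprime.coprime_dvd_right (Subgroup.card_dvd_of_le hRK) hcop
  have hM := abelian_centralizer_inf_commutator_eq_bot A ⁅K, A⁆ hRA hcopR
  rw [hRR, inf_eq_left.mpr (inf_le_left : ⁅K, A⁆ ⊓ centralizer (A : Set G) ≤ ⁅K, A⁆)] at hM
  rw [hM, Subgroup.relIndex_bot_left] at hrelR
  exact hrelR

end Cfsg.Agent.Lib.Helper1
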