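import Mathlib
import Cfsg.Agent.Lib.Helper1.ItoFactor
import Cfsg.Agent.Lib.Helper4.Supersolvable

set_option autoImplicit false

open Subgroup

namespace Cfsg.Agent.Lib.Helper1.ItoFactor

universe u

open Cfsg.Agent.Lib.Helper4 in
/-- A finite product of two cyclic subgroups is supersolvable. -/
theorem isSupersolvable_of_cyclic_mul_cyclic : ∀ (n : ℕ) (G : Type u) [Group G] [Finite G],
    Nat.card G = n → ∀ A B : Subgroup G, IsCyclic A → IsCyclic B →
    (∀ g : G, ∃ a ∈ A, ∃ b ∈ B, g = a * b) → Cfsg.IsSupersolvable G := by
  intro n
  induction n using Nat.strong_induction_on with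
  | _ n ih =>
    intro G _ _ hcard A B hA hB hAB
    rcases subsingleton_or_nontrivial G with hs | hnt
    · exact isSupersolvable_of_subsingleton
    · have hAc : IsMulCommutative A := ⟨⟨fun a b => by
        let _ := IsCyclic.commGroup (α := A)
        exact mul_comm a b⟩⟩
      have hBc : IsMulCommutative B := ⟨⟨fun a b => by
        let _ := IsCyclic.commGroup (α := B)
        exact mul_comm a b⟩⟩
      obtain ⟨N, hNn, hNbot, hNle⟩ := exists_normal_le_factor A B hAB
      -- N is cyclic
      have hNcyc : IsCyclic N := by
        rcases hNle with hle | hle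
        · have : IsCyclic (N.subgroupOf A) := inferInstance
          exact isCyclic_of_surjective (Subgroup.subgroupOfEquivOfLe hle).toMonoidHom
            (Subgroup.subgroupOfEquivOfLe hle).surjective
        · have : IsCyclic (N.subgroupOf B) := inferInstance
          exact isCyclic_of_surjective (Subgroup.subgroupOfEquivOfLe hle).toMonoidHom
            (Subgroup.subgroupOfEquivOfLe hle).surjective
      obtain ⟨c, hc⟩ := (Subgroup.isCyclic_iff_exists_zpowers_eq_top N).mp hNcyc
      have hc1 : c ≠ 1 := by
        intro e
        rw [e, Subgroup.zpowers_one_eq_bot] at hc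
        exact hNbot hc.symm
      have hcn : (Subgroup.zpowers c).Normal := hc ▸ hNn
      obtain ⟨M, -, hMn, hMp⟩ := exists_normal_prime_le_zpowers c hcn hc1
      have hlt := card_quotient_lt_of_prime M hMp
      have hq : Cfsg.IsSupersolvable (G ⧸ M) := by
        refine ih _ (hcard ▸ hlt) (G ⧸ M) rfl (A.map (QuotientGroup.mk' M))
          (B.map (QuotientGroup.mk' M)) ?_ ?_ ?_
        · exact isCyclic_of_surjective ((QuotientGroup.mk' M).subgroupMap A)
            ((QuotientGroup.mk' M).subgroupMap_surjective A)
        · exact isCyclic_of_surjective ((QuotientGroup.mk' M).subgroupMap B)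
            ((QuotientGroup.mk' M).subgroupMap_surjective B)
        · intro g
          obtain ⟨g, rfl⟩ := QuotientGroup.mk'_surjective M g
          obtain ⟨a, ha, b, hb, rfl⟩ := hAB g
          exact ⟨_, Subgroup.mem_map_of_mem _ ha, _, Subgroup.mem_map_of_mem _ hb, map_mul _ a b⟩
      exact isSupersolvable_of_prime_normal M hMp hq

end Cfsg.Agent.Lib.Helper1.ItoFactor
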