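import Mathlib
import Cfsg.Agent.Lib.Helper14.MatBN2

/-!
# `(B, N)`-pairs in matrix groups with a coarse and a fine order on the indices

A variant of `Cfsg.Agent.Lib.Helper14.MatBN.Setup` for the types `D` and `²D`: the inversion sets of
the reflections are taken with respect to a coarse order `ρ` (not injective), the triangular group
with respect to a fine injective order `ρ'`; triangular elements vanish at the pairs which `ρ` does
not separate.
-/

set_option autoImplicit false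
set_option linter.unusedSectionVars false

namespace Cfsg.Agent.Lib.Helper1.MatBND

open Matrix Cfsg.Agent.Lib.Helper14.TriMono Cfsg.Agent.Lib.Helper14.MatBN

variable {G : Type*} [Group G] {ι : Type*} [Fintype ι] [DecidableEq ι] {F : Type*} [Field F]
  {K : Type*}

/-- rank one data for a `(B, N)`-pair in a group of matrices, with two orders -/
structure SetupD (G : Type*) [Group G] (ι : Type*) [Fintype ι] [DecidableEq ι] (F : Type*)
    [Field F] (K : Type*) where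
  /-- the matrices -/
  mat : G →* Matrix ι ι F
  /-- the coarse order on the indices -/
  ρ : ι → ℕ
  /-- the fine order on the indices -/
  ρ' : ι → ℕ
  /-- the permutations allowed in `N` -/
  W : Subgroup (Equiv.Perm ι)
  /-- the reflections -/
  s : K → G
  /-- their permutations -/
  π : K → Equiv.Perm ι
  /-- the root subgroups -/
  X : K → Set G
  mat_inj : Function.Injective mat
  ρ'_inj : Function.Injective ρ'
  fine : ∀ u v, ρ u < ρ v → ρ' u < ρ' v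
  zer : ∀ g, (mat g).BlockTriangular ρ' → ∀ u v, u ≠ v → ρ u = ρ v → mat g u v = 0
  π_mem : ∀ k, π k ∈ W
  π_sq : ∀ k, π k * π k = 1
  π_ne : ∀ k, π k ≠ 1
  π_inj : Function.Injective π
  s_mono : ∀ k, IsMono (mat (s k)) (π k)
  X_upper : ∀ k, ∀ x ∈ X k, (mat x).BlockTriangular ρ'
  X_diag : ∀ k, ∀ x ∈ X k, ∀ i, mat x i i = 1
  X_supp : ∀ k, ∀ x ∈ X k, ∀ u v, u ≠ v → mat x u v ≠ 0 → InPi ρ (π k) u v
  X_ne : ∀ k, ∃ x ∈ X k, x ≠ 1
  orient : ∀ σ ∈ W, ∀ k, (∀ u v, InPi ρ (π k) u v → ρ (σ u) < ρ (σ v)) ∨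
    (∀ u v, InPi ρ (π k) u v → ρ (σ v) < ρ (σ u))
  hA : ∀ k, ∀ b, (mat b).BlockTriangular ρ' →
    ∃ x ∈ X k, ∀ u v, ρ u < ρ v → ρ (π k v) ≤ ρ (π k u) → mat (b * x⁻¹) u v = 0
  hC : ∀ k, ∀ x ∈ X k, x = 1 ∨ ∃ b₁, (mat b₁).BlockTriangular ρ' ∧
    ∃ x₁ ∈ X k, s k * x * (s k)⁻¹ = b₁ * s k * x₁

namespace SetupD

variable (D : SetupD G ι F K)

theorem mat_inv_mul (g : G) : D.mat g⁻¹ * D.mat g = 1 := by
  rw [← map_mul, inv_mul_cancel, map_one]

theorem mat_mul_inv (g : G) : D.mat g * D.mat g⁻¹ = 1 := by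
  rw [← map_mul, mul_inv_cancel, map_one]

theorem mat_inv_eq (g : G) : D.mat g⁻¹ = (D.mat g)⁻¹ :=
  (Matrix.inv_eq_left_inv (D.mat_inv_mul g)).symm

/-- the triangular subgroup -/
def Bor : Subgroup G where
  carrier := {g | (D.mat g).BlockTriangular D.ρ'}
  mul_mem' := by
    intro a b ha hb
    show (D.mat (a * b)).BlockTriangular D.ρ'
    rw [map_mul]
    exact ha.mul hb
  one_mem' := by
    show (D.mat 1).BlockTriangular D.ρ'
    rw [map_one]
    exact Matrix.blockTriangular_one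
  inv_mem' := by
    intro a ha
    show (D.mat a⁻¹).BlockTriangular D.ρ'
    rw [D.mat_inv_eq]
    have : Invertible (D.mat a) := _root_.invertibleOfLeftInverse _ _ (D.mat_inv_mul a)
    exact Matrix.blockTriangular_inv_of_blockTriangular ha

theorem mem_Bor (g : G) : g ∈ D.Bor ↔ (D.mat g).BlockTriangular D.ρ' := Iff.rfl

/-- the monomial subgroup -/
def Mon : Subgroup G where
  carrier := {g | ∃ σ ∈ D.W, IsMono (D.mat g) σ}
  mul_mem' := by
    rintro a b ⟨σ, hσ, ha⟩ ⟨τ, hτ, hb⟩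
    refine ⟨σ * τ, D.W.mul_mem hσ hτ, ?_⟩
    rw [map_mul]
    exact ha.mul hb
  one_mem' := ⟨1, D.W.one_mem, by rw [map_one]; exact isMono_one⟩
  inv_mem' := by
    rintro a ⟨σ, hσ, ha⟩
    exact ⟨σ⁻¹, D.W.inv_mem hσ, ha.inv (D.mat_inv_mul a)⟩

theorem mem_Mon (g : G) : g ∈ D.Mon ↔ ∃ σ ∈ D.W, IsMono (D.mat g) σ := Iff.rfl

/-- the diagonal subgroup -/
def Hd : Subgroup G where
  carrier := {g | IsMono (D.mat g) 1}
  mul_mem' := by
    intro a b ha hb
    show IsMono (D.mat (a * b)) 1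
    rw [map_mul]
    have := IsMono.mul ha hb
    rwa [mul_one] at this
  one_mem' := by
    show IsMono (D.mat 1) 1
    rw [map_one]; exact isMono_one
  inv_mem' := by
    intro a ha
    have := IsMono.inv ha (D.mat_inv_mul a)
    rwa [inv_one] at this

theorem mem_Hd (g : G) : g ∈ D.Hd ↔ IsMono (D.mat g) 1 := Iff.rfl

theorem Hd_le_Bor : D.Hd ≤ D.Bor := fun _ hg => blockTriangular_of_isMono_one D.ρ' hg

theorem Hd_le_Mon : D.Hd ≤ D.Mon := fun _ hg => ⟨1, D.W.one_mem, hg⟩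

/-- the group `N` -/
def Nn : Subgroup G := Subgroup.closure (Set.range D.s) ⊔ D.Hd

theorem s_mem_Mon (k : K) : D.s k ∈ D.Mon := ⟨D.π k, D.π_mem k, D.s_mono k⟩

theorem Nn_le_Mon : D.Nn ≤ D.Mon := by
  unfold Nn
  rw [sup_le_iff, Subgroup.closure_le]
  refine ⟨?_, D.Hd_le_Mon⟩
  rintro _ ⟨k, rfl⟩
  exact D.s_mem_Mon k

theorem s_mem_Nn (k : K) : D.s k ∈ D.Nn :=
  (le_sup_left : Subgroup.closure (Set.range D.s) ≤ D.Nn) (Subgroup.subset_closure ⟨k, rfl⟩)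

/-- a triangular monomial matrix is diagonal -/
theorem mem_Hd_of_mono {g : G} {σ : Equiv.Perm ι} (hg : g ∈ D.Bor) (hσ : IsMono (D.mat g) σ) :
    g ∈ D.Hd := by
  have h1 : σ = 1 := hσ.eq_one_of_blockTriangular D.ρ' D.ρ'_inj (D.mat_inv_mul g) hg
  rw [h1] at hσ
  exact hσ

theorem Bor_inf_Nn : D.Bor ⊓ D.Nn = D.Hd := by
  apply le_antisymm
  · rintro g ⟨hgB, hgN⟩
    obtain ⟨σ, -, hσ⟩ := D.Nn_le_Mon hgN
    exact D.mem_Hd_of_mono hgB hσ
  · exact le_inf D.Hd_le_Bor le_sup_right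

theorem pi_apply_apply (k : K) (a : ι) : D.π k (D.π k a) = a := by
  have := congrArg (fun f : Equiv.Perm ι => f a) (D.π_sq k)
  simpa using this

theorem pi_inv (k : K) : (D.π k)⁻¹ = D.π k := inv_eq_of_mul_eq_one_right (D.π_sq k)

theorem X_sub_Bor (k : K) {x : G} (hx : x ∈ D.X k) : x ∈ D.Bor := D.X_upper k x hx

theorem le_of_fine_lt {u v : ι} (h : D.ρ' u < D.ρ' v) : D.ρ u ≤ D.ρ v := by
  by_contra hlt
  push Not at hlt
  exact lt_asymm h (D.fine _ _ hlt)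

/-- condition (a) of the criterion -/
theorem condA (k : K) (b : G) (hb : b ∈ D.Bor) :
    ∃ x ∈ D.X k, D.s k * (b * x⁻¹) * (D.s k)⁻¹ ∈ D.Bor := by
  obtain ⟨x, hx, hz⟩ := D.hA k b hb
  refine ⟨x, hx, ?_⟩
  have hc : b * x⁻¹ ∈ D.Bor := D.Bor.mul_mem hb (D.Bor.inv_mem (D.X_sub_Bor k hx))
  rw [mem_Bor, map_mul, map_mul]
  have hm : IsMono (D.mat (D.s k)⁻¹) (D.π k) := by
    have := (D.s_mono k).inv (D.mat_inv_mul (D.s k))
    rwa [D.pi_inv] at this
  apply hm.blockTriangular_conj D.ρ' (D.mat_mul_inv (D.s k))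
  intro j l hjl
  rcases lt_trichotomy (D.ρ (D.π k j)) (D.ρ (D.π k l)) with h | h | h
  · apply hz _ _ h
    rw [D.pi_apply_apply, D.pi_apply_apply]
    exact D.le_of_fine_lt hjl
  · apply D.zer _ hc _ _ _ h
    intro e
    have := (D.π k).injective e
    rw [this] at hjl
    exact lt_irrefl _ hjl
  · exact hc (D.fine _ _ h)

/-- conjugating a root subgroup into `B` -/
theorem conj_mem_of_orient {n : G} {σ : Equiv.Perm ι} (hn : IsMono (D.mat n) σ) (k : K)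
    (h : ∀ u v, InPi D.ρ (D.π k) u v → D.ρ (σ⁻¹ u) < D.ρ (σ⁻¹ v)) :
    ∀ x ∈ D.X k, n⁻¹ * x * n ∈ D.Bor := by
  intro x hx
  rw [mem_Bor, map_mul, map_mul]
  apply hn.blockTriangular_conj D.ρ' (D.mat_inv_mul n)
  intro j l hjl
  by_contra hne
  have hjl' : σ j ≠ σ l := by
    intro e
    rw [σ.injective e] at hjl
    exact lt_irrefl _ hjl
  have := h _ _ (D.X_supp k x hx _ _ hjl' hne)
  have e1 : σ⁻¹ (σ j) = j := by simp
  have e2 : σ⁻¹ (σ l) = l := by simp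
  rw [e1, e2] at this
  exact lt_asymm hjl (D.fine _ _ this)

/-- condition (b) of the criterion -/
theorem condB (k : K) {n : G} (hn : n ∈ D.Mon) :
    (∀ x ∈ D.X k, n⁻¹ * x * n ∈ D.Bor) ∨
      (∀ x ∈ D.X k, (D.s k * n)⁻¹ * x * (D.s k * n) ∈ D.Bor) := by
  obtain ⟨σ, hσW, hσ⟩ := hn
  rcases D.orient σ⁻¹ (D.W.inv_mem hσW) k with h | h
  · left
    exact D.conj_mem_of_orient hσ k h
  · right
    have hm : IsMono (D.mat (D.s k * n)) (D.π k * σ) := by
      rw [map_mul]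
      exact (D.s_mono k).mul hσ
    apply D.conj_mem_of_orient hm k
    intro u v huv
    have h1 := h _ _ (huv.swap (D.π_sq k))
    rw [_root_.mul_inv_rev, D.pi_inv]
    exact h1

/-- condition (c) of the criterion -/
theorem condC (k : K) : ∀ x ∈ D.X k, x = 1 ∨ ∃ b₁ ∈ D.Bor, ∃ x₁ ∈ D.X k,
    D.s k * x * (D.s k)⁻¹ = b₁ * D.s k * x₁ := by
  intro x hx
  rcases D.hC k x hx with h | ⟨b₁, hb₁, x₁, hx₁, e⟩
  · exact Or.inl h
  · exact Or.inr ⟨b₁, hb₁, x₁, hx₁, e⟩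

theorem s_sq_mem (k : K) : D.s k * D.s k ∈ D.Hd := by
  rw [mem_Hd, map_mul]
  have := (D.s_mono k).mul (D.s_mono k)
  rwa [D.π_sq] at this

theorem s_not_mem_Bor (k : K) : D.s k ∉ D.Bor := by
  intro h
  exact D.π_ne k ((D.s_mono k).eq_one_of_blockTriangular D.ρ' D.ρ'_inj (D.mat_inv_mul _) h)

/-- the `(B, N)`-pair -/
def bn (hgen : D.Bor ⊔ D.Nn = ⊤) : Cfsg.BNPair G where
  B := D.Bor
  N := D.Nn
  S := Set.range D.s
  sup_eq_top := hgen
  conj_mem := by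
    intro n hn t ht
    rw [D.Bor_inf_Nn] at ht
    obtain ⟨σ, -, hσ⟩ := D.Nn_le_Mon hn
    apply D.Hd_le_Bor
    rw [mem_Hd, map_mul, map_mul]
    have h1 := (hσ.mul ht).mul (hσ.inv (D.mat_inv_mul n))
    rwa [mul_one, mul_inv_cancel] at h1
  subset := by
    rintro _ ⟨k, rfl⟩
    exact D.s_mem_Nn k
  sq_mem := by
    rintro _ ⟨k, rfl⟩
    exact D.Hd_le_Bor (D.s_sq_mem k)
  inj := by
    rintro _ ⟨k, rfl⟩ _ ⟨k', rfl⟩ h
    have hm : IsMono (D.mat ((D.s k)⁻¹ * D.s k')) ((D.π k)⁻¹ * D.π k') := by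
      rw [map_mul]
      exact ((D.s_mono k).inv (D.mat_inv_mul _)).mul (D.s_mono k')
    have h1 := hm.eq_one_of_blockTriangular D.ρ' D.ρ'_inj (D.mat_inv_mul _) h
    have h2 : D.π k = D.π k' := by
      rw [inv_mul_eq_one] at h1
      exact h1
    rw [D.π_inj h2]
  closure_sup := by
    rw [D.Bor_inf_Nn]
    rfl
  mul_mem_union := by
    rintro _ ⟨k, rfl⟩ n hn b hb
    exact mul_mem_union_of D.Bor (D.s k) n (D.X k) (D.Hd_le_Bor (D.s_sq_mem k)) (D.condA k)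
      (D.condB k (D.Nn_le_Mon hn)) (D.condC k) b hb
  conj_ne := by
    rintro _ ⟨k, rfl⟩ heq
    obtain ⟨x, hx, hx1⟩ := D.X_ne k
    have h1 : D.s k * x * D.s k ∈ (D.Bor : Set G) := by
      rw [← heq]
      exact ⟨x, D.X_sub_Bor k hx, rfl⟩
    rcases D.condC k x hx with h | ⟨b₁, hb₁, x₁, hx₁, e⟩
    · exact hx1 h
    · apply D.s_not_mem_Bor k
      have h2 : D.s k * x * (D.s k)⁻¹ ∈ D.Bor := by
        have : D.s k * x * (D.s k)⁻¹ = (D.s k * x * D.s k) * (D.s k * D.s k)⁻¹ := by group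
        rw [this]
        exact D.Bor.mul_mem h1 (D.Bor.inv_mem (D.Hd_le_Bor (D.s_sq_mem k)))
      rw [e] at h2
      have h3 : D.s k = b₁⁻¹ * (b₁ * D.s k * x₁) * x₁⁻¹ := by group
      rw [h3]
      exact D.Bor.mul_mem (D.Bor.mul_mem (D.Bor.inv_mem hb₁) h2)
        (D.Bor.inv_mem (D.X_sub_Bor k hx₁))

end SetupD

end Cfsg.Agent.Lib.Helper1.MatBND
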