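import Mathlib
import Cfsg.Agent.Lib.Helper14.SpBN8
import Cfsg.Agent.Lib.Helper1.MatBND2

/-!
# Type `D_{n+2}`: the indices, the two orders and the reflections
-/

set_option autoImplicit false
set_option linter.unusedSectionVars false

namespace Cfsg.Agent.Lib.Helper1.DBN

open Matrix Cfsg.Agent.Lib.Helper14.MatBN Cfsg.Agent.Lib.Helper14.SpBN
  Cfsg.Agent.Lib.Helper14.TriMono

/-- the indices `e_0, …, e_{n+1}, f_0, …, f_{n+1}` -/
abbrev DIdx (n : ℕ) := Idx (n + 1)

variable {n : ℕ}

/-- the index of `eᵢ` -/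
abbrev eD (i : Fin (n + 2)) : DIdx n := Sum.inl i
/-- the index of `fᵢ` -/
abbrev fD (i : Fin (n + 2)) : DIdx n := Sum.inr i

/-- the last index -/
abbrev lst (n : ℕ) : Fin (n + 2) := Fin.last (n + 1)
/-- the index before the last -/
abbrev pre (n : ℕ) : Fin (n + 2) := (Fin.last n).castSucc

@[simp] theorem lst_val : (lst n).val = n + 1 := rfl
@[simp] theorem pre_val : (pre n).val = n := rfl

theorem pre_ne_lst : pre n ≠ lst n := by
  intro h
  have := congrArg Fin.val h
  simp at this

theorem succ_last_eq : (Fin.last n).succ = lst n := Fin.succ_last n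

/-- the coarse order: `e_{n+1}` and `f_{n+1}` are not separated -/
def rhoD (n : ℕ) : DIdx n → ℕ := Sum.elim (fun i => i.val) (fun i => 2 * n + 2 - i.val)

@[simp] theorem rhoD_e (i : Fin (n + 2)) : rhoD n (Sum.inl i) = i.val := rfl
@[simp] theorem rhoD_f (i : Fin (n + 2)) : rhoD n (Sum.inr i) = 2 * n + 2 - i.val := rfl

theorem rhoD_le (x : DIdx n) : rhoD n x ≤ 2 * n + 2 := by
  rcases x with i | i
  · simp only [rhoD_e]; have := i.2; omega
  · simp only [rhoD_f]; omega

theorem rhoD_swap (x : DIdx n) : rhoD n x.swap = 2 * n + 2 - rhoD n x := by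
  rcases x with i | i
  · simp only [Sum.swap_inl, rhoD_f, rhoD_e]
  · simp only [Sum.swap_inr, rhoD_f, rhoD_e]; have := i.2; omega

theorem rhoD_fine (u v : DIdx n) (h : rhoD n u < rhoD n v) : rho (n + 1) u < rho (n + 1) v := by
  rcases u with i | i <;> rcases v with j | j <;>
    simp only [rhoD_e, rhoD_f, rho_inl, rho_inr] at h ⊢ <;>
    have := i.2 <;> have := j.2 <;> omega

theorem rhoD_ne {x y : DIdx n} (h1 : x ≠ y) (h2 : x ≠ y.swap) : rhoD n x ≠ rhoD n y := by
  rcases x with i | i <;> rcases y with j | j <;>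
    simp only [rhoD_e, rhoD_f] <;> have hi := i.2 <;> have hj := j.2
  · intro h
    exact h1 (congrArg _ (Fin.ext h))
  · intro h
    apply h2
    rw [Sum.swap_inr]
    exact congrArg _ (Fin.ext (by omega))
  · intro h
    apply h2
    rw [Sum.swap_inl]
    exact congrArg _ (Fin.ext (by omega))
  · intro h
    exact h1 (congrArg _ (Fin.ext (by omega)))

/-- the pairs which the coarse order does not separate -/
theorem rhoD_eq {u v : DIdx n} (h1 : u ≠ v) (h : rhoD n u = rhoD n v) :
    (u = eD (lst n) ∧ v = fD (lst n)) ∨ (u = fD (lst n) ∧ v = eD (lst n)) := by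
  rcases u with i | i <;> rcases v with j | j <;>
    simp only [rhoD_e, rhoD_f] at h <;> have hi := i.2 <;> have hj := j.2
  · exact absurd (congrArg _ (Fin.ext h)) h1
  · left
    exact ⟨congrArg _ (Fin.ext (by simp only [lst_val]; omega)),
      congrArg _ (Fin.ext (by simp only [lst_val]; omega))⟩
  · right
    exact ⟨congrArg _ (Fin.ext (by simp only [lst_val]; omega)),
      congrArg _ (Fin.ext (by simp only [lst_val]; omega))⟩
  · exact absurd (congrArg _ (Fin.ext (by omega))) h1

/-- the last reflection `(e_n f_{n+1})(e_{n+1} f_n)` -/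
def piD (n : ℕ) : Equiv.Perm (DIdx n) :=
  Equiv.swap (eD (pre n)) (fD (lst n)) * Equiv.swap (eD (lst n)) (fD (pre n))

theorem piD_e (i : Fin (n + 2)) :
    piD n (eD i) = if i = pre n then fD (lst n) else if i = lst n then fD (pre n) else eD i := by
  unfold piD
  rw [Equiv.Perm.mul_apply]
  by_cases h1 : i = pre n
  · subst h1
    have e1 : Equiv.swap (eD (lst n)) (fD (pre n)) (eD (pre n)) = eD (pre n) :=
      Equiv.swap_apply_of_ne_of_ne (by simp [pre_ne_lst]) (by simp)
    rw [if_pos rfl, e1, Equiv.swap_apply_left]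
  · rw [if_neg h1]
    by_cases h2 : i = lst n
    · subst h2
      have e1 : Equiv.swap (eD (pre n)) (fD (lst n)) (fD (pre n)) = fD (pre n) :=
        Equiv.swap_apply_of_ne_of_ne (by simp) (by simp [pre_ne_lst])
      rw [if_pos rfl, Equiv.swap_apply_left, e1]
    · have e1 : Equiv.swap (eD (lst n)) (fD (pre n)) (eD i) = eD i :=
        Equiv.swap_apply_of_ne_of_ne (by simpa using h2) (by simp)
      have e2 : Equiv.swap (eD (pre n)) (fD (lst n)) (eD i) = eD i :=
        Equiv.swap_apply_of_ne_of_ne (by simpa using h1) (by simp)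
      rw [if_neg h2, e1, e2]

theorem piD_f (i : Fin (n + 2)) :
    piD n (fD i) = if i = lst n then eD (pre n) else if i = pre n then eD (lst n) else fD i := by
  unfold piD
  rw [Equiv.Perm.mul_apply]
  by_cases h1 : i = lst n
  · subst h1
    have e1 : Equiv.swap (eD (lst n)) (fD (pre n)) (fD (lst n)) = fD (lst n) :=
      Equiv.swap_apply_of_ne_of_ne (by simp) (by simpa using pre_ne_lst.symm)
    rw [if_pos rfl, e1, Equiv.swap_apply_right]
  · rw [if_neg h1]
    by_cases h2 : i = pre n
    · subst h2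
      have e1 : Equiv.swap (eD (pre n)) (fD (lst n)) (eD (lst n)) = eD (lst n) :=
        Equiv.swap_apply_of_ne_of_ne (by simpa using pre_ne_lst.symm) (by simp)
      rw [if_pos rfl, Equiv.swap_apply_right, e1]
    · have e1 : Equiv.swap (eD (lst n)) (fD (pre n)) (fD i) = fD i :=
        Equiv.swap_apply_of_ne_of_ne (by simp) (by simpa using h2)
      have e2 : Equiv.swap (eD (pre n)) (fD (lst n)) (fD i) = fD i :=
        Equiv.swap_apply_of_ne_of_ne (by simp) (by simpa using h1)
      rw [if_neg h2, e1, e2]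

theorem piD_sq : piD n * piD n = 1 := by
  ext x
  rw [Equiv.Perm.mul_apply, Equiv.Perm.one_apply]
  rcases x with i | i
  · rw [piD_e]
    by_cases h1 : i = pre n
    · rw [if_pos h1, piD_f, if_pos rfl, h1]
    · rw [if_neg h1]
      by_cases h2 : i = lst n
      · rw [if_pos h2, piD_f, if_neg pre_ne_lst, if_pos rfl, h2]
      · rw [if_neg h2, piD_e, if_neg h1, if_neg h2]
  · rw [piD_f]
    by_cases h1 : i = lst n
    · rw [if_pos h1, piD_e, if_pos rfl, h1]
    · rw [if_neg h1]
      by_cases h2 : i = pre n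
      · rw [if_pos h2, piD_e, if_neg pre_ne_lst.symm, if_pos rfl, h2]
      · rw [if_neg h2, piD_f, if_neg h1, if_neg h2]

theorem piD_mem : piD n ∈ Wg (n + 1) := by
  intro x
  rcases x with i | i
  · rw [Sum.swap_inl, piD_f, piD_e]
    by_cases h1 : i = lst n
    · subst h1
      simp [pre_ne_lst.symm]
    · by_cases h2 : i = pre n
      · subst h2
        simp [pre_ne_lst]
      · simp [h1, h2]
  · rw [Sum.swap_inr, piD_f, piD_e]
    by_cases h1 : i = lst n
    · subst h1
      simp [pre_ne_lst.symm]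
    · by_cases h2 : i = pre n
      · subst h2
        simp [pre_ne_lst]
      · simp [h1, h2]

theorem rhoD_piD_e (i : Fin (n + 2)) :
    rhoD n (piD n (eD i)) = if i.val = n then n + 1 else if i.val = n + 1 then n + 2 else i.val := by
  rw [piD_e]
  by_cases h1 : i = pre n
  · rw [if_pos h1, if_pos (by rw [h1]; rfl), rhoD_f, lst_val]
    omega
  · have h1' : i.val ≠ n := fun h => h1 (Fin.ext h)
    rw [if_neg h1, if_neg h1']
    by_cases h2 : i = lst n
    · rw [if_pos h2, if_pos (by rw [h2]; rfl), rhoD_f, pre_val]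
      omega
    · have h2' : i.val ≠ n + 1 := fun h => h2 (Fin.ext h)
      rw [if_neg h2, if_neg h2', rhoD_e]

theorem rhoD_piD_f (i : Fin (n + 2)) :
    rhoD n (piD n (fD i)) =
      if i.val = n + 1 then n else if i.val = n then n + 1 else 2 * n + 2 - i.val := by
  rw [piD_f]
  by_cases h1 : i = lst n
  · rw [if_pos h1, if_pos (by rw [h1]; rfl), rhoD_e, pre_val]
  · have h1' : i.val ≠ n + 1 := fun h => h1 (Fin.ext h)
    rw [if_neg h1, if_neg h1']
    by_cases h2 : i = pre n
    · rw [if_pos h2, if_pos (by rw [h2]; rfl), rhoD_e, lst_val]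
    · have h2' : i.val ≠ n := fun h => h2 (Fin.ext h)
      rw [if_neg h2, if_neg h2', rhoD_f]

theorem rhoD_piS_e (k : Fin (n + 1)) (i : Fin (n + 2)) :
    rhoD n (piS k (eD i)) =
      if i.val = k.val then k.val + 1 else if i.val = k.val + 1 then k.val else i.val := by
  rw [piS_inl, rhoD_e, swap_val]

theorem rhoD_piS_f (k : Fin (n + 1)) (i : Fin (n + 2)) :
    rhoD n (piS k (fD i)) = 2 * n + 2 -
      (if i.val = k.val then k.val + 1 else if i.val = k.val + 1 then k.val else i.val) := by
  rw [piS_inr, rhoD_f, swap_val]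

/-- the reflections -/
def piKD : Fin (n + 1) ⊕ Unit → Equiv.Perm (DIdx n) := Sum.elim piS (fun _ => piD n)

theorem piKD_sq (k : Fin (n + 1) ⊕ Unit) : piKD k * piKD k = 1 := by
  rcases k with k | k
  · exact piS_sq k
  · exact piD_sq

theorem piKD_mem (k : Fin (n + 1) ⊕ Unit) : piKD k ∈ Wg (n + 1) := by
  rcases k with k | k
  · exact piS_mem k
  · exact piD_mem

theorem piKD_ne (k : Fin (n + 1) ⊕ Unit) : piKD k ≠ 1 := by
  rcases k with k | k
  · exact piK_ne (Sum.inl k)
  · intro h
    have := congrArg (fun f : Equiv.Perm (DIdx n) => f (eD (pre n))) h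
    simp only [piKD, Sum.elim_inr, piD_e, if_pos, Equiv.Perm.one_apply] at this
    cases this

theorem piKD_inj : Function.Injective (piKD (n := n)) := by
  rintro (k | k) (k' | k') h
  · have : (Sum.inl k : Fin (n + 1) ⊕ Unit) = Sum.inl k' := piK_inj h
    exact this
  · exfalso
    have h1 := congrArg (fun f : Equiv.Perm (DIdx n) => f (eD (pre n))) h
    simp only [piKD, Sum.elim_inl, Sum.elim_inr, piD_e, if_pos, piS_inl] at h1
    cases h1
  · exfalso
    have h1 := congrArg (fun f : Equiv.Perm (DIdx n) => f (eD (pre n))) h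
    simp only [piKD, Sum.elim_inl, Sum.elim_inr, piD_e, if_pos, piS_inl] at h1
    cases h1
  · rfl

end Cfsg.Agent.Lib.Helper1.DBN
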