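import Mathlib
import Cfsg.Agent.Lib.Helper1.DBN1

/-!
# Type `D_{n+2}`: the inversion sets of the reflections for the coarse order
-/

set_option autoImplicit false
set_option linter.unusedSectionVars false

namespace Cfsg.Agent.Lib.Helper1.DBN

open Matrix Cfsg.Agent.Lib.Helper14.MatBN Cfsg.Agent.Lib.Helper14.SpBN
  Cfsg.Agent.Lib.Helper14.TriMono

variable {n : ℕ}

/-- the pairs weakly inverted by `piS k` -/
theorem winv_piS (k : Fin (n + 1)) (u v : DIdx n) (h1 : rhoD n u < rhoD n v)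
    (h2 : rhoD n (piS k v) ≤ rhoD n (piS k u)) :
    (u = eD k.castSucc ∧ v = eD k.succ) ∨ (u = fD k.succ ∧ v = fD k.castSucc) ∨
      (k = Fin.last n ∧ u = eD (pre n) ∧ v = fD (pre n)) := by
  have hk := k.2
  rcases u with i | i <;> rcases v with j | j <;>
    simp only [rhoD_piS_e, rhoD_piS_f, rhoD_e, rhoD_f] at h1 h2 <;>
    have hi := i.2 <;> have hj := j.2
  · left
    have : i.val = k.val ∧ j.val = k.val + 1 := by
      split_ifs at h2 <;> omega
    exact ⟨congrArg _ (Fin.ext this.1), congrArg _ (Fin.ext (by simpa using this.2))⟩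
  · right; right
    have : k.val = n ∧ i.val = n ∧ j.val = n := by
      split_ifs at h2 <;> omega
    exact ⟨Fin.ext this.1, congrArg _ (Fin.ext this.2.1), congrArg _ (Fin.ext this.2.2)⟩
  · exfalso
    omega
  · right; left
    have : i.val = k.val + 1 ∧ j.val = k.val := by
      split_ifs at h2 <;> omega
    exact ⟨congrArg _ (Fin.ext (by simpa using this.1)), congrArg _ (Fin.ext this.2)⟩

/-- the pairs weakly inverted by `piD` -/
theorem winv_piD (u v : DIdx n) (h1 : rhoD n u < rhoD n v)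
    (h2 : rhoD n (piD n v) ≤ rhoD n (piD n u)) :
    (u = eD (pre n) ∧ v = fD (lst n)) ∨ (u = eD (lst n) ∧ v = fD (pre n)) ∨
      (u = eD (pre n) ∧ v = fD (pre n)) := by
  rcases u with i | i <;> rcases v with j | j <;>
    simp only [rhoD_piD_e, rhoD_piD_f, rhoD_e, rhoD_f] at h1 h2 <;>
    have hi := i.2 <;> have hj := j.2
  · exfalso
    split_ifs at h2 <;> omega
  · have : (i.val = n ∧ j.val = n + 1) ∨ (i.val = n + 1 ∧ j.val = n) ∨ (i.val = n ∧ j.val = n) := by
      split_ifs at h2 <;> omega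
    rcases this with h | h | h
    · left
      exact ⟨congrArg _ (Fin.ext h.1), congrArg _ (Fin.ext h.2)⟩
    · right; left
      exact ⟨congrArg _ (Fin.ext h.1), congrArg _ (Fin.ext h.2)⟩
    · right; right
      exact ⟨congrArg _ (Fin.ext h.1), congrArg _ (Fin.ext h.2)⟩
  · exfalso
    omega
  · exfalso
    split_ifs at h2 <;> omega

/-- the pairs inverted by `piS k` -/
theorem inPiD_piS (k : Fin (n + 1)) (u v : DIdx n) :
    InPi (rhoD n) (piS k) u v ↔
      (u = eD k.castSucc ∧ v = eD k.succ) ∨ (u = fD k.succ ∧ v = fD k.castSucc) := by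
  have hk := k.2
  constructor
  · rintro ⟨h1, h2⟩
    rcases winv_piS k u v h1 h2.le with h | h | ⟨rfl, rfl, rfl⟩
    · exact Or.inl h
    · exact Or.inr h
    · exfalso
      simp only [rhoD_piS_e, rhoD_piS_f, pre_val, Fin.val_last] at h2
      simp at h2
      omega
  · rintro (⟨rfl, rfl⟩ | ⟨rfl, rfl⟩)
    · refine ⟨?_, ?_⟩
      · simp only [rhoD_e, Fin.val_succ, Fin.val_castSucc]
        omega
      · simp only [rhoD_piS_e, Fin.val_succ, Fin.val_castSucc]
        simp
    · refine ⟨?_, ?_⟩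
      · simp only [rhoD_f, Fin.val_succ, Fin.val_castSucc]
        omega
      · simp only [rhoD_piS_f, Fin.val_succ, Fin.val_castSucc]
        simp
        omega

/-- the pairs inverted by `piD` -/
theorem inPiD_piD (u v : DIdx n) :
    InPi (rhoD n) (piD n) u v ↔
      (u = eD (pre n) ∧ v = fD (lst n)) ∨ (u = eD (lst n) ∧ v = fD (pre n)) := by
  constructor
  · rintro ⟨h1, h2⟩
    rcases winv_piD u v h1 h2.le with h | h | ⟨rfl, rfl⟩
    · exact Or.inl h
    · exact Or.inr h
    · exfalso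
      simp only [rhoD_piD_e, rhoD_piD_f, pre_val] at h2
      simp at h2
  · rintro (⟨rfl, rfl⟩ | ⟨rfl, rfl⟩)
    · refine ⟨?_, ?_⟩
      · simp only [rhoD_e, rhoD_f, pre_val, lst_val]
        omega
      · simp only [rhoD_piD_e, rhoD_piD_f, pre_val, lst_val]
        simp
    · refine ⟨?_, ?_⟩
      · simp only [rhoD_e, rhoD_f, pre_val, lst_val]
        omega
      · simp only [rhoD_piD_e, rhoD_piD_f, pre_val, lst_val]
        simp

theorem d_hadj (u v : DIdx n) (h : rhoD n v = rhoD n u + 1) :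
    ∃ k, InPi (rhoD n) (piKD k) u v := by
  rcases u with i | i <;> rcases v with j | j <;>
    simp only [rhoD_e, rhoD_f] at h <;> have hi := i.2 <;> have hj := j.2
  · refine ⟨Sum.inl ⟨i.val, by omega⟩, ?_⟩
    show InPi (rhoD n) (piS _) _ _
    rw [inPiD_piS]
    left
    exact ⟨congrArg _ (Fin.ext rfl), congrArg _ (Fin.ext (by simpa using h))⟩
  · refine ⟨Sum.inr (), ?_⟩
    show InPi (rhoD n) (piD n) _ _
    rw [inPiD_piD]
    by_cases hi' : i.val = n
    · left
      exact ⟨congrArg _ (Fin.ext hi'), congrArg _ (Fin.ext (by simp only [lst_val]; omega))⟩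
    · right
      exact ⟨congrArg _ (Fin.ext (by simp only [lst_val]; omega)),
        congrArg _ (Fin.ext (by simp only [pre_val]; omega))⟩
  · exfalso
    omega
  · refine ⟨Sum.inl ⟨j.val, by omega⟩, ?_⟩
    show InPi (rhoD n) (piS _) _ _
    rw [inPiD_piS]
    right
    exact ⟨congrArg _ (Fin.ext (by simp only [Fin.val_succ]; omega)), congrArg _ (Fin.ext rfl)⟩

theorem d_hconn (u v : DIdx n) (h : rhoD n u < rhoD n v) : ∃ w, rhoD n w = rhoD n u + 1 := by
  have hv := rhoD_le v
  by_cases h1 : rhoD n u + 1 ≤ n + 1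
  · exact ⟨eD ⟨rhoD n u + 1, by omega⟩, rfl⟩
  · refine ⟨fD ⟨2 * n + 2 - (rhoD n u + 1), by omega⟩, ?_⟩
    simp only [rhoD_f]
    omega

theorem d_orient (σ : Equiv.Perm (DIdx n)) (hσ : σ ∈ Wg (n + 1)) (k : Fin (n + 1) ⊕ Unit) :
    (∀ u v, InPi (rhoD n) (piKD k) u v → rhoD n (σ u) < rhoD n (σ v)) ∨
      (∀ u v, InPi (rhoD n) (piKD k) u v → rhoD n (σ v) < rhoD n (σ u)) := by
  have key : ∀ a b : DIdx n, a ≠ b → a ≠ b.swap →
      (rhoD n (σ a) < rhoD n (σ b) ∧ rhoD n (σ b.swap) < rhoD n (σ a.swap)) ∨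
        (rhoD n (σ b) < rhoD n (σ a) ∧ rhoD n (σ a.swap) < rhoD n (σ b.swap)) := by
    intro a b hab hab'
    have e1 : rhoD n (σ a.swap) = 2 * n + 2 - rhoD n (σ a) := by rw [hσ a, rhoD_swap]
    have e2 : rhoD n (σ b.swap) = 2 * n + 2 - rhoD n (σ b) := by rw [hσ b, rhoD_swap]
    have hA := rhoD_le (σ a)
    have hB := rhoD_le (σ b)
    have hne : rhoD n (σ a) ≠ rhoD n (σ b) := by
      apply rhoD_ne
      · exact fun h => hab (σ.injective h)
      · rw [← hσ b]
        exact fun h => hab' (σ.injective h)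
    rcases lt_or_gt_of_ne hne with h | h
    · left
      exact ⟨h, by rw [e1, e2]; omega⟩
    · right
      exact ⟨h, by rw [e1, e2]; omega⟩
  rcases k with k | k
  · rcases key (eD k.castSucc) (eD k.succ)
      (fun h => castSucc_ne_succ k (Sum.inl_injective h)) (by simp) with ⟨h1, h2⟩ | ⟨h1, h2⟩
    · left
      intro u v huv
      rcases (inPiD_piS k u v).mp huv with ⟨rfl, rfl⟩ | ⟨rfl, rfl⟩
      · exact h1
      · exact h2
    · right
      intro u v huv
      rcases (inPiD_piS k u v).mp huv with ⟨rfl, rfl⟩ | ⟨rfl, rfl⟩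
      · exact h1
      · exact h2
  · rcases key (eD (pre n)) (fD (lst n)) (by simp)
      (by simp [pre_ne_lst]) with ⟨h1, h2⟩ | ⟨h1, h2⟩
    · left
      intro u v huv
      rcases (inPiD_piD u v).mp huv with ⟨rfl, rfl⟩ | ⟨rfl, rfl⟩
      · exact h1
      · exact h2
    · right
      intro u v huv
      rcases (inPiD_piD u v).mp huv with ⟨rfl, rfl⟩ | ⟨rfl, rfl⟩
      · exact h1
      · exact h2

end Cfsg.Agent.Lib.Helper1.DBN
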