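import Mathlib
import Cfsg.Agent.Lib.Helper14.SpBN8

/-!
# Combinatorial data for the `(B, N)`-pair of the odd-dimensional orthogonal group

Index type `Unit ⊕ (Fin (n+1) ⊕ Fin (n+1))` with the order
`e₀ < … < eₙ < x₀ < fₙ < … < f₀`.
-/

set_option autoImplicit false
set_option linter.unusedSectionVars false

namespace Cfsg.Agent.Lib.Helper1.OBN

open Matrix Cfsg.Agent.Lib.Helper14.MatBN Cfsg.Agent.Lib.Helper14.SpBN

/-- the index type -/
abbrev OIdx (n : ℕ) := Unit ⊕ Idx n

variable {n : ℕ}

/-- the index of `eᵢ` -/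
abbrev eI (i : Fin (n + 1)) : OIdx n := Sum.inr (Sum.inl i)
/-- the index of `fᵢ` -/
abbrev fI (i : Fin (n + 1)) : OIdx n := Sum.inr (Sum.inr i)
/-- the index of `x₀` -/
abbrev x0 : OIdx n := Sum.inl ()

/-- the order on the indices -/
def rhoO (n : ℕ) : OIdx n → ℕ :=
  Sum.elim (fun _ => n + 1) (Sum.elim (fun i => i.val) (fun i => 2 * n + 2 - i.val))

@[simp] theorem rhoO_x0 (u : Unit) : rhoO n (Sum.inl u) = n + 1 := rfl
@[simp] theorem rhoO_e (i : Fin (n + 1)) : rhoO n (Sum.inr (Sum.inl i)) = i.val := rfl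
@[simp] theorem rhoO_f (i : Fin (n + 1)) : rhoO n (Sum.inr (Sum.inr i)) = 2 * n + 2 - i.val := rfl

theorem rhoO_inj : Function.Injective (rhoO n) := by
  rintro (u | i | i) (v | j | j) h <;> simp only [rhoO_x0, rhoO_e, rhoO_f] at h
  · rfl
  · exfalso; have := j.2; omega
  · exfalso; have := j.2; omega
  · exfalso; have := i.2; omega
  · exact congrArg _ (congrArg _ (Fin.ext h))
  · exfalso; have := i.2; have := j.2; omega
  · exfalso; have := i.2; omega
  · exfalso; have := i.2; have := j.2; omega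
  · refine congrArg _ (congrArg _ (Fin.ext ?_))
    have := i.2; have := j.2; omega

theorem rhoO_le (x : OIdx n) : rhoO n x ≤ 2 * n + 2 := by
  rcases x with u | i | i
  · simp only [rhoO_x0]; omega
  · simp only [rhoO_e]; have := i.2; omega
  · simp only [rhoO_f]; omega

/-- comparison with the symplectic order -/
theorem rhoO_inr_lt_iff (x y : Idx n) :
    rhoO n (Sum.inr x) < rhoO n (Sum.inr y) ↔ rho n x < rho n y := by
  rcases x with i | i <;> rcases y with j | j <;>
    simp only [rhoO_e, rhoO_f, rho_inl, rho_inr] <;>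
    have := i.2 <;> have := j.2 <;> omega

/-- the swap of the two halves -/
def sw : OIdx n → OIdx n := Sum.map id Sum.swap

@[simp] theorem sw_x0 (u : Unit) : sw (Sum.inl u : OIdx n) = Sum.inl u := rfl
@[simp] theorem sw_inr (x : Idx n) : sw (Sum.inr x : OIdx n) = Sum.inr x.swap := rfl

theorem rhoO_sw (x : OIdx n) : rhoO n (sw x) = 2 * n + 2 - rhoO n x := by
  rcases x with u | i | i
  · simp only [sw_x0, rhoO_x0]; omega
  · simp only [sw_inr, Sum.swap_inl, rhoO_f, rhoO_e]
  · simp only [sw_inr, Sum.swap_inr, rhoO_f, rhoO_e]; have := i.2; omega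

/-- the permutations commuting with the swap -/
def WgO (n : ℕ) : Subgroup (Equiv.Perm (OIdx n)) where
  carrier := {σ | ∀ x, σ (sw x) = sw (σ x)}
  mul_mem' := by
    intro σ τ hσ hτ x
    simp only [Equiv.Perm.coe_mul, Function.comp]
    rw [hτ, hσ]
  one_mem' := fun x => rfl
  inv_mem' := by
    intro σ hσ x
    apply σ.injective
    rw [hσ]
    simp

theorem mem_WgO (σ : Equiv.Perm (OIdx n)) : σ ∈ WgO n ↔ ∀ x, σ (sw x) = sw (σ x) := Iff.rfl

theorem sw_eq_self_iff (x : OIdx n) : sw x = x ↔ x = Sum.inl () := by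
  rcases x with u | i | i
  · simp
  · simp only [sw_inr, Sum.swap_inl, Sum.inr.injEq, reduceCtorEq]
  · simp only [sw_inr, Sum.swap_inr, Sum.inr.injEq, reduceCtorEq]

theorem WgO_x0 {σ : Equiv.Perm (OIdx n)} (hσ : σ ∈ WgO n) : σ (Sum.inl ()) = Sum.inl () := by
  have h := hσ (Sum.inl ())
  rw [sw_x0] at h
  exact (sw_eq_self_iff _).mp h.symm

/-- the embedding of the permutations of the hyperbolic part -/
def embP (n : ℕ) : Equiv.Perm (Idx n) →* Equiv.Perm (OIdx n) :=
  (Equiv.Perm.sumCongrHom Unit (Idx n)).comp (MonoidHom.inr _ _)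

@[simp] theorem embP_x0 (σ : Equiv.Perm (Idx n)) (u : Unit) : embP n σ (Sum.inl u) = Sum.inl u := by
  simp [embP]

@[simp] theorem embP_inr (σ : Equiv.Perm (Idx n)) (x : Idx n) :
    embP n σ (Sum.inr x) = Sum.inr (σ x) := by
  simp [embP]

theorem embP_injective : Function.Injective (embP n) := by
  intro a b h
  have := Equiv.Perm.sumCongrHom_injective h
  simpa using this

theorem embP_mem {σ : Equiv.Perm (Idx n)} (hσ : σ ∈ Wg n) : embP n σ ∈ WgO n := by
  intro x
  rcases x with u | x
  · simp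
  · simp only [sw_inr, embP_inr]
    rw [hσ x]

/-- the reflections -/
def piKO (k : Fin n ⊕ Unit) : Equiv.Perm (OIdx n) := embP n (piK k)

theorem piKO_sq (k : Fin n ⊕ Unit) : piKO k * piKO k = 1 := by
  unfold piKO
  rw [← map_mul, piK_sq, map_one]

theorem piKO_mem (k : Fin n ⊕ Unit) : piKO k ∈ WgO n := embP_mem (piK_mem k)

theorem piKO_ne (k : Fin n ⊕ Unit) : piKO k ≠ 1 := by
  intro h
  apply piK_ne k
  apply embP_injective
  rw [map_one]
  exact h

theorem piKO_inj : Function.Injective (piKO (n := n)) := fun _ _ h => piK_inj (embP_injective h)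


@[simp] theorem piKO_x0 (k : Fin n ⊕ Unit) (u : Unit) : piKO k (Sum.inl u : OIdx n) = Sum.inl u := by
  unfold piKO; rw [embP_x0]

theorem piKO_S_e (k : Fin n) (i : Fin (n + 1)) :
    piKO (Sum.inl k) (eI i) = eI (Equiv.swap k.castSucc k.succ i) := by
  unfold piKO; rw [embP_inr]; rfl

theorem piKO_S_f (k : Fin n) (i : Fin (n + 1)) :
    piKO (Sum.inl k) (fI i) = fI (Equiv.swap k.castSucc k.succ i) := by
  unfold piKO; rw [embP_inr]; rfl

theorem piKO_L_e (i : Fin (n + 1)) :
    piKO (Sum.inr ()) (eI i) = if i = Fin.last n then fI (Fin.last n) else eI i := by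
  unfold piKO; rw [embP_inr]
  show Sum.inr (piL n (Sum.inl i)) = _
  rw [piL_inl]
  split_ifs <;> rfl

theorem piKO_L_f (i : Fin (n + 1)) :
    piKO (Sum.inr ()) (fI i) = if i = Fin.last n then eI (Fin.last n) else fI i := by
  unfold piKO; rw [embP_inr]
  show Sum.inr (piL n (Sum.inr i)) = _
  rw [piL_inr]
  split_ifs <;> rfl

theorem inPi_embP_inr (π : Equiv.Perm (Idx n)) (u v : Idx n) :
    InPi (rhoO n) (embP n π) (Sum.inr u) (Sum.inr v) ↔ InPi (rho n) π u v := by
  unfold InPi
  rw [embP_inr, embP_inr, rhoO_inr_lt_iff, rhoO_inr_lt_iff]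

/-- the pairs inverted by a long-root reflection -/
theorem inPi_piSO (k : Fin n) (u v : OIdx n) :
    InPi (rhoO n) (piKO (Sum.inl k)) u v ↔
      (u = eI k.castSucc ∧ v = eI k.succ) ∨ (u = fI k.succ ∧ v = fI k.castSucc) := by
  rcases u with a | u <;> rcases v with b | v
  · constructor
    · rintro ⟨h1, -⟩
      exact absurd h1 (lt_irrefl _)
    · rintro (⟨h, -⟩ | ⟨h, -⟩) <;> cases h
  · constructor
    · rintro ⟨h1, h2⟩
      exfalso
      rw [piKO_x0] at h2
      rcases v with j | j
      · simp only [rhoO_x0, rhoO_e] at h1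
        have := j.2; omega
      · rw [piKO_S_f] at h2
        simp only [rhoO_x0, rhoO_f] at h2
        have := (Equiv.swap k.castSucc k.succ j).2
        omega
    · rintro (⟨h, -⟩ | ⟨h, -⟩) <;> cases h
  · constructor
    · rintro ⟨h1, h2⟩
      exfalso
      rw [piKO_x0] at h2
      rcases u with j | j
      · rw [piKO_S_e] at h2
        simp only [rhoO_x0, rhoO_e] at h2
        have := (Equiv.swap k.castSucc k.succ j).2
        omega
      · simp only [rhoO_x0, rhoO_f] at h1
        have := j.2; omega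
    · rintro (⟨-, h⟩ | ⟨-, h⟩) <;> cases h
  · unfold piKO
    rw [inPi_embP_inr]
    show InPi (rho n) (piS k) u v ↔ _
    rw [inPi_piS]
    simp only [Sum.inr.injEq]

/-- the pairs inverted by the short-root reflection -/
theorem inPi_piLO (u v : OIdx n) :
    InPi (rhoO n) (piKO (Sum.inr ())) u v ↔
      (u = eI (Fin.last n) ∧ v = x0) ∨ (u = x0 ∧ v = fI (Fin.last n)) ∨
        (u = eI (Fin.last n) ∧ v = fI (Fin.last n)) := by
  rcases u with a | u <;> rcases v with b | v
  · constructor
    · rintro ⟨h1, -⟩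
      exact absurd h1 (lt_irrefl _)
    · rintro (⟨h, -⟩ | ⟨-, h⟩ | ⟨h, -⟩) <;> cases h
  · unfold InPi
    rw [piKO_x0]
    rcases v with j | j
    · constructor
      · rintro ⟨h1, -⟩
        exfalso
        simp only [rhoO_x0, rhoO_e] at h1
        have := j.2; omega
      · rintro (⟨h, -⟩ | ⟨-, h⟩ | ⟨h, -⟩) <;> cases h
    · rw [piKO_L_f]
      constructor
      · rintro ⟨-, h2⟩
        right; left
        by_cases hj : j = Fin.last n
        · subst hj; exact ⟨rfl, rfl⟩
        · exfalso
          rw [if_neg hj] at h2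
          simp only [rhoO_x0, rhoO_f] at h2
          have := j.2; omega
      · rintro (⟨h, -⟩ | ⟨-, h⟩ | ⟨h, -⟩)
        · cases h
        · have hj : j = Fin.last n := by
            have := Sum.inr_injective h
            exact Sum.inr_injective this
          subst hj
          rw [if_pos rfl]
          simp only [rhoO_x0, rhoO_f, rhoO_e, Fin.val_last]
          omega
        · cases h
  · unfold InPi
    rw [piKO_x0]
    rcases u with j | j
    · rw [piKO_L_e]
      constructor
      · rintro ⟨-, h2⟩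
        left
        by_cases hj : j = Fin.last n
        · subst hj; exact ⟨rfl, rfl⟩
        · exfalso
          rw [if_neg hj] at h2
          simp only [rhoO_x0, rhoO_e] at h2
          have := j.2; omega
      · rintro (⟨h, -⟩ | ⟨h, -⟩ | ⟨-, h⟩)
        · have hj : j = Fin.last n := by
            have := Sum.inr_injective h
            exact Sum.inl_injective this
          subst hj
          rw [if_pos rfl]
          simp only [rhoO_x0, rhoO_f, rhoO_e, Fin.val_last]
          omega
        · cases h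
        · cases h
    · constructor
      · rintro ⟨h1, -⟩
        exfalso
        simp only [rhoO_x0, rhoO_f] at h1
        have := j.2; omega
      · rintro (⟨h, -⟩ | ⟨h, -⟩ | ⟨h, -⟩) <;> cases h
  · unfold piKO
    rw [inPi_embP_inr]
    show InPi (rho n) (piL n) u v ↔ _
    rw [inPi_piL]
    constructor
    · rintro ⟨rfl, rfl⟩
      right; right; exact ⟨rfl, rfl⟩
    · rintro (⟨-, h⟩ | ⟨h, -⟩ | ⟨h1, h2⟩)
      · cases h
      · cases h
      · exact ⟨Sum.inr_injective h1, Sum.inr_injective h2⟩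

theorem o_hadj (u v : OIdx n) (h : rhoO n v = rhoO n u + 1) :
    ∃ k, InPi (rhoO n) (piKO k) u v := by
  rcases u with a | i | i <;> rcases v with b | j | j <;>
    simp only [rhoO_x0, rhoO_e, rhoO_f] at h
  · omega
  · exfalso; have := j.2; omega
  · refine ⟨Sum.inr (), ?_⟩
    rw [inPi_piLO]
    right; left
    refine ⟨rfl, ?_⟩
    have hj : j = Fin.last n := Fin.ext (by simp only [Fin.val_last]; have := j.2; omega)
    rw [hj]
  · refine ⟨Sum.inr (), ?_⟩
    rw [inPi_piLO]
    left
    refine ⟨?_, rfl⟩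
    have hi : i = Fin.last n := Fin.ext (by simp only [Fin.val_last]; have := i.2; omega)
    rw [hi]
  · have hj := j.2
    refine ⟨Sum.inl ⟨i.val, by omega⟩, ?_⟩
    rw [inPi_piSO]
    left
    exact ⟨congrArg _ (congrArg _ (Fin.ext rfl)),
      congrArg _ (congrArg _ (Fin.ext (by simpa using h)))⟩
  · exfalso; have := i.2; have := j.2; omega
  · exfalso; have := i.2; omega
  · exfalso; have := i.2; have := j.2; omega
  · have hi := i.2
    have hj := j.2
    refine ⟨Sum.inl ⟨j.val, by omega⟩, ?_⟩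
    rw [inPi_piSO]
    right
    exact ⟨congrArg _ (congrArg _ (Fin.ext (by simp only [Fin.val_succ]; omega))),
      congrArg _ (congrArg _ (Fin.ext rfl))⟩

theorem o_hconn (u v : OIdx n) (h : rhoO n u < rhoO n v) : ∃ w, rhoO n w = rhoO n u + 1 := by
  have hv := rhoO_le v
  by_cases h1 : rhoO n u + 1 ≤ n
  · exact ⟨eI ⟨rhoO n u + 1, by omega⟩, rfl⟩
  · by_cases h2 : rhoO n u + 1 = n + 1
    · exact ⟨x0, by rw [rhoO_x0, h2]⟩
    · refine ⟨fI ⟨2 * n + 2 - (rhoO n u + 1), by omega⟩, ?_⟩
      simp only [rhoO_f]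
      omega

theorem o_orient (σ : Equiv.Perm (OIdx n)) (hσ : σ ∈ WgO n) (k : Fin n ⊕ Unit) :
    (∀ u v, InPi (rhoO n) (piKO k) u v → rhoO n (σ u) < rhoO n (σ v)) ∨
      (∀ u v, InPi (rhoO n) (piKO k) u v → rhoO n (σ v) < rhoO n (σ u)) := by
  rcases k with k | k
  · have e1 : rhoO n (σ (fI k.succ)) = 2 * n + 2 - rhoO n (σ (eI k.succ)) := by
      have := hσ (eI k.succ)
      rw [sw_inr, Sum.swap_inl] at this
      rw [this, rhoO_sw]
    have e2 : rhoO n (σ (fI k.castSucc)) = 2 * n + 2 - rhoO n (σ (eI k.castSucc)) := by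
      have := hσ (eI k.castSucc)
      rw [sw_inr, Sum.swap_inl] at this
      rw [this, rhoO_sw]
    have hA := rhoO_le (σ (eI k.castSucc))
    have hB := rhoO_le (σ (eI k.succ))
    have hne : rhoO n (σ (eI k.castSucc)) ≠ rhoO n (σ (eI k.succ)) := by
      intro h
      have := σ.injective (rhoO_inj h)
      exact castSucc_ne_succ k (Sum.inl_injective (Sum.inr_injective this))
    rcases lt_or_gt_of_ne hne with h | h
    · left
      intro u v huv
      rcases (inPi_piSO k u v).mp huv with ⟨rfl, rfl⟩ | ⟨rfl, rfl⟩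
      · exact h
      · rw [e1, e2]; omega
    · right
      intro u v huv
      rcases (inPi_piSO k u v).mp huv with ⟨rfl, rfl⟩ | ⟨rfl, rfl⟩
      · exact h
      · rw [e1, e2]; omega
  · have e1 : rhoO n (σ (fI (Fin.last n))) = 2 * n + 2 - rhoO n (σ (eI (Fin.last n))) := by
      have := hσ (eI (Fin.last n))
      rw [sw_inr, Sum.swap_inl] at this
      rw [this, rhoO_sw]
    have e0 : rhoO n (σ x0) = n + 1 := by
      rw [WgO_x0 hσ]; rfl
    have hA := rhoO_le (σ (eI (Fin.last n)))
    have hne : rhoO n (σ (eI (Fin.last n))) ≠ n + 1 := by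
      intro h
      have h2 : rhoO n (σ (eI (Fin.last n))) = rhoO n (σ x0) := by rw [h, e0]
      have := σ.injective (rhoO_inj h2)
      cases this
    rcases lt_or_gt_of_ne hne with h | h
    · left
      intro u v huv
      rcases (inPi_piLO u v).mp huv with ⟨rfl, rfl⟩ | ⟨rfl, rfl⟩ | ⟨rfl, rfl⟩
      · rw [e0]; exact h
      · rw [e0, e1]; omega
      · rw [e1]; omega
    · right
      intro u v huv
      rcases (inPi_piLO u v).mp huv with ⟨rfl, rfl⟩ | ⟨rfl, rfl⟩ | ⟨rfl, rfl⟩
      · rw [e0]; exact h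
      · rw [e0, e1]; omega
      · rw [e1]; omega

end Cfsg.Agent.Lib.Helper1.OBN
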