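import Mathlib
import Cfsg.Agent.Lib.Helper1.OBN1
import Cfsg.Agent.Lib.Helper6.OrthForms
import Cfsg.Agent.Lib.Helper6.Siegel

/-!
# Isometries of the odd-dimensional orthogonal space: the rank one subgroups

`shtO a b : GL₂ → O(Q)` (long roots, inside the Levi factor `GL_m`) and `lngO : SL₂ → O(Q)`
(the short root, acting on `⟨eₙ, x₀, fₙ⟩` through the adjoint representation).
-/

set_option autoImplicit false
set_option linter.unusedSectionVars false

namespace Cfsg.Agent.Lib.Helper1.OBN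

open Matrix Cfsg.Agent.Lib.Helper14.MatBN Cfsg.Agent.Lib.Helper14.SpBN Cfsg.Agent.Lib.Helper6

variable {n : ℕ} {F : Type*} [Field F]

/-- the quadratic form -/
noncomputable abbrev QO (n : ℕ) (F : Type*) [Field F] : QuadraticForm F (OIdx n → F) := QOdd F (n + 1)

/-- the isometry group -/
abbrev OG (n : ℕ) (F : Type*) [Field F] : Type _ := ↥(Cfsg.isometryGroup F ⇑(QO n F))

/-- the hyperbolic form -/
def hyp (w : Idx n → F) : F := ∑ i : Fin (n + 1), w (Sum.inl i) * w (Sum.inr i)

theorem QO_apply (v : OIdx n → F) :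
    QO n F v = v (Sum.inl ()) ^ 2 + hyp (fun x => v (Sum.inr x)) := by
  rw [QOdd_apply]
  rfl

theorem polar_QO (u v : OIdx n → F) :
    QuadraticMap.polar (⇑(QO n F)) u v = 2 * u (Sum.inl ()) * v (Sum.inl ()) +
      ∑ i : Fin (n + 1), (u (eI i) * v (fI i) + u (fI i) * v (eI i)) :=
  polar_QOdd F (n + 1) u v

/-- the embedding of the matrices of the hyperbolic part -/
def emb (N : Matrix (Idx n) (Idx n) F) : Matrix (OIdx n) (OIdx n) F :=
  fromBlocks (1 : Matrix Unit Unit F) 0 0 N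

theorem emb_mul (N N' : Matrix (Idx n) (Idx n) F) : emb (N * N') = emb N * emb N' := by
  unfold emb
  rw [fromBlocks_multiply]
  simp

theorem emb_one : emb (1 : Matrix (Idx n) (Idx n) F) = 1 := fromBlocks_one

@[simp] theorem emb_x0_x0 (N : Matrix (Idx n) (Idx n) F) (u v : Unit) :
    emb N (Sum.inl u) (Sum.inl v) = 1 := by
  show (1 : Matrix Unit Unit F) u v = 1
  rw [Subsingleton.elim u v, Matrix.one_apply_eq]

@[simp] theorem emb_x0_inr (N : Matrix (Idx n) (Idx n) F) (u : Unit) (y : Idx n) :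
    emb N (Sum.inl u) (Sum.inr y) = 0 := rfl

@[simp] theorem emb_inr_x0 (N : Matrix (Idx n) (Idx n) F) (x : Idx n) (v : Unit) :
    emb N (Sum.inr x) (Sum.inl v) = 0 := rfl

@[simp] theorem emb_inr_inr (N : Matrix (Idx n) (Idx n) F) (x y : Idx n) :
    emb N (Sum.inr x) (Sum.inr y) = N x y := rfl

theorem emb_mulVec_x0 (N : Matrix (Idx n) (Idx n) F) (v : OIdx n → F) (u : Unit) :
    (emb N *ᵥ v) (Sum.inl u) = v (Sum.inl ()) := by
  unfold emb
  rw [fromBlocks_mulVec]
  simp only [Sum.elim_inl, zero_mulVec, add_zero, one_mulVec, Function.comp]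

theorem emb_mulVec_inr (N : Matrix (Idx n) (Idx n) F) (v : OIdx n → F) (x : Idx n) :
    (emb N *ᵥ v) (Sum.inr x) = (N *ᵥ fun y => v (Sum.inr y)) x := by
  unfold emb
  rw [fromBlocks_mulVec]
  simp only [Sum.elim_inr, zero_mulVec, zero_add]
  rfl

theorem QO_emb (N : Matrix (Idx n) (Idx n) F) (hN : ∀ w : Idx n → F, hyp (N *ᵥ w) = hyp w)
    (v : OIdx n → F) : QO n F (emb N *ᵥ v) = QO n F v := by
  rw [QO_apply, QO_apply, emb_mulVec_x0]
  congr 1
  have : (fun x => (emb N *ᵥ v) (Sum.inr x)) = N *ᵥ fun y => v (Sum.inr y) := by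
    funext x
    exact emb_mulVec_inr N v x
  rw [this, hN]

theorem hyp_eq_dot (w : Idx n → F) :
    hyp w = (fun i => w (Sum.inl i)) ⬝ᵥ (fun i => w (Sum.inr i)) := rfl

/-- block diagonal matrices `diag(P, R)` with `Pᵀ R = 1` preserve the hyperbolic form -/
theorem hyp_fromBlocks (P R : Matrix (Fin (n + 1)) (Fin (n + 1)) F) (h : Pᵀ * R = 1)
    (w : Idx n → F) : hyp (fromBlocks P 0 0 R *ᵥ w) = hyp w := by
  rw [hyp_eq_dot, hyp_eq_dot, fromBlocks_mulVec]
  simp only [Sum.elim_inl, Sum.elim_inr, zero_mulVec, add_zero, zero_add]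
  have e1 : (fun i => (P *ᵥ w ∘ Sum.inl) i) = P *ᵥ (w ∘ Sum.inl) := rfl
  have e2 : (fun i => (R *ᵥ w ∘ Sum.inr) i) = R *ᵥ (w ∘ Sum.inr) := rfl
  have e3 : Rᵀ * P = 1 := by
    have := congrArg Matrix.transpose h
    rwa [Matrix.transpose_mul, Matrix.transpose_transpose, Matrix.transpose_one] at this
  rw [e1, e2, Matrix.dotProduct_mulVec, ← Matrix.mulVec_transpose, Matrix.mulVec_mulVec, e3,
    Matrix.one_mulVec]
  rfl

theorem shtMat_mul {a b : Fin (n + 1)} (hab : a ≠ b) (M M' : GL (Fin 2) F) :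
    shtMat a b (M * M') = shtMat a b M * shtMat a b M' := by
  have := congrArg Subtype.val (map_mul (sht a b hab) M M')
  exact this

theorem shtMat_one {a b : Fin (n + 1)} (hab : a ≠ b) :
    shtMat a b (1 : GL (Fin 2) F) = 1 := by
  have := congrArg Subtype.val (map_one (sht (F := F) a b hab))
  exact this

theorem hyp_shtMat {a b : Fin (n + 1)} (hab : a ≠ b) (M : GL (Fin 2) F) (w : Idx n → F) :
    hyp (shtMat a b M *ᵥ w) = hyp w := by
  unfold shtMat
  apply hyp_fromBlocks
  rw [← transpose_mul, ← blk_mul _ (cab_inj hab), ← Units.val_mul, inv_mul_cancel, Units.val_one,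
    blk_one, transpose_one]

/-- the long root homomorphism `GL₂ → O(Q)` -/
noncomputable def shtO (a b : Fin (n + 1)) (hab : a ≠ b) : GL (Fin 2) F →* OG n F where
  toFun M := mkIso (QO n F) (emb (shtMat a b M)) (emb (shtMat a b M⁻¹))
    (by rw [← emb_mul, ← shtMat_mul hab, mul_inv_cancel, shtMat_one hab, emb_one])
    (by rw [← emb_mul, ← shtMat_mul hab, inv_mul_cancel, shtMat_one hab, emb_one])
    (QO_emb _ (hyp_shtMat hab M))
  map_one' := by
    apply Subtype.ext
    apply Units.ext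
    show emb (shtMat a b (1 : GL (Fin 2) F)) = 1
    rw [shtMat_one hab, emb_one]
  map_mul' M M' := by
    apply Subtype.ext
    apply Units.ext
    show emb (shtMat a b (M * M')) = emb (shtMat a b M) * emb (shtMat a b M')
    rw [shtMat_mul hab, emb_mul]

theorem coe_shtO (a b : Fin (n + 1)) (hab : a ≠ b) (M : GL (Fin 2) F) :
    (((shtO a b hab M : OG n F).1 : GL (OIdx n) F) : Matrix (OIdx n) (OIdx n) F) =
      emb (shtMat a b M) := rfl

section Blk

variable {ν : Type*} [Fintype ν] [DecidableEq ν] {κ : Type*} [Fintype κ] [DecidableEq κ]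

theorem incl_transpose_mulVec (c : κ → ν) (v : ν → F) : (incl F c)ᵀ *ᵥ v = v ∘ c := by
  funext j
  simp only [mulVec, dotProduct, incl, transpose_apply, of_apply, Function.comp]
  rw [Finset.sum_eq_single (c j)]
  · simp
  · intro x _ hx
    simp [hx]
  · intro h
    exact absurd (Finset.mem_univ _) h

theorem incl_mulVec_apply (c : κ → ν) (hc : Function.Injective c) (y : κ → F) (i : κ) :
    (incl F c *ᵥ y) (c i) = y i := by
  simp only [mulVec, dotProduct, incl, of_apply]
  rw [Finset.sum_eq_single i]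
  · simp
  · intro j _ hj
    have : c i ≠ c j := fun h => hj (hc h).symm
    simp [this]
  · intro h
    exact absurd (Finset.mem_univ _) h

theorem incl_mulVec_apply_of_not (c : κ → ν) (y : κ → F) (r : ν) (hr : ∀ i, r ≠ c i) :
    (incl F c *ᵥ y) r = 0 := by
  simp only [mulVec, dotProduct, incl, of_apply]
  apply Finset.sum_eq_zero
  intro j _
  simp [hr j]

theorem blk_mulVec_apply (c : κ → ν) (hc : Function.Injective c) (A : Matrix κ κ F) (v : ν → F)
    (i : κ) : (blk c A *ᵥ v) (c i) = (A *ᵥ (v ∘ c)) i := by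
  unfold blk
  rw [add_mulVec, one_mulVec, ← mulVec_mulVec, ← mulVec_mulVec, incl_transpose_mulVec,
    Pi.add_apply, incl_mulVec_apply c hc, sub_mulVec, one_mulVec, Pi.sub_apply]
  simp only [Function.comp]
  ring

theorem blk_mulVec_apply_of_not (c : κ → ν) (A : Matrix κ κ F) (v : ν → F) (r : ν)
    (hr : ∀ i, r ≠ c i) : (blk c A *ᵥ v) r = v r := by
  unfold blk
  rw [add_mulVec, one_mulVec, ← mulVec_mulVec, ← mulVec_mulVec, Pi.add_apply,
    incl_mulVec_apply_of_not c _ r hr, add_zero]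

end Blk

/-- the adjoint representation of `2 × 2` matrices on `(e, x₀, f)` -/
def ad (M : Matrix (Fin 2) (Fin 2) F) : Matrix (Fin 3) (Fin 3) F :=
  !![M 0 0 ^ 2, -(2 * M 0 0 * M 0 1), -(M 0 1 ^ 2);
     -(M 0 0 * M 1 0), M 0 0 * M 1 1 + M 0 1 * M 1 0, M 0 1 * M 1 1;
     -(M 1 0 ^ 2), 2 * M 1 0 * M 1 1, M 1 1 ^ 2]

theorem ad_mul (M M' : Matrix (Fin 2) (Fin 2) F) : ad (M * M') = ad M * ad M' := by
  ext i j
  fin_cases i <;> fin_cases j <;>
    simp [ad, Matrix.mul_apply, Fin.sum_univ_two, Fin.sum_univ_three] <;> ring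

theorem ad_one : ad (1 : Matrix (Fin 2) (Fin 2) F) = 1 := by
  ext i j
  fin_cases i <;> fin_cases j <;> simp [ad]

/-- the quadratic form on `(e, x₀, f)` -/
def q3 (z : Fin 3 → F) : F := z 1 ^ 2 + z 0 * z 2

theorem q3_ad (M : Matrix (Fin 2) (Fin 2) F) (z : Fin 3 → F) :
    q3 (ad M *ᵥ z) = M.det ^ 2 * q3 z := by
  unfold q3
  simp only [ad, mulVec, dotProduct, Fin.sum_univ_three, Matrix.det_fin_two]
  simp
  ring

/-- the coordinates `eₙ, x₀, fₙ` -/
def c3 (n : ℕ) : Fin 3 → OIdx n := ![eI (Fin.last n), x0, fI (Fin.last n)]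

@[simp] theorem c3_zero : c3 n 0 = eI (Fin.last n) := rfl
@[simp] theorem c3_one : c3 n 1 = x0 := rfl
@[simp] theorem c3_two : c3 n 2 = fI (Fin.last n) := rfl

theorem c3_inj : Function.Injective (c3 n) := by
  intro i j h
  fin_cases i <;> fin_cases j <;> first | rfl | (exfalso; simp [c3] at h)

theorem forall_ne_c3 {r : OIdx n} (h1 : r ≠ eI (Fin.last n)) (h2 : r ≠ x0)
    (h3 : r ≠ fI (Fin.last n)) : ∀ i, r ≠ c3 n i := by
  intro i
  fin_cases i
  · exact h1
  · exact h2
  · exact h3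

/-- decomposition of the form along `⟨eₙ, x₀, fₙ⟩` -/
theorem QO_split (v : OIdx n → F) :
    QO n F v = q3 (v ∘ c3 n) +
      ∑ i : Fin (n + 1), if i = Fin.last n then 0 else v (eI i) * v (fI i) := by
  rw [QO_apply]
  unfold q3 hyp
  have h : ∀ i : Fin (n + 1), v (eI i) * v (fI i) =
      (if i = Fin.last n then v (eI i) * v (fI i) else 0) +
        (if i = Fin.last n then 0 else v (eI i) * v (fI i)) := by
    intro i
    split_ifs <;> simp
  rw [Finset.sum_congr rfl (fun i _ => h i), Finset.sum_add_distrib, Finset.sum_ite_eq']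
  simp only [Finset.mem_univ, if_true, Function.comp, c3_zero, c3_one, c3_two]
  ring

theorem QO_blk (A : Matrix (Fin 3) (Fin 3) F) (hA : ∀ z : Fin 3 → F, q3 (A *ᵥ z) = q3 z)
    (v : OIdx n → F) : QO n F (blk (c3 n) A *ᵥ v) = QO n F v := by
  rw [QO_split, QO_split]
  congr 1
  · have : (blk (c3 n) A *ᵥ v) ∘ c3 n = A *ᵥ (v ∘ c3 n) := by
      funext i
      exact blk_mulVec_apply (c3 n) c3_inj A v i
    rw [this, hA]
  · apply Finset.sum_congr rfl
    intro i _
    by_cases hi : i = Fin.last n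
    · rw [if_pos hi, if_pos hi]
    · rw [if_neg hi, if_neg hi]
      have h1 : ∀ j, eI i ≠ c3 n j := by
        apply forall_ne_c3
        · intro h; exact hi (Sum.inl_injective (Sum.inr_injective h))
        · intro h; cases h
        · intro h; cases h
      have h2 : ∀ j, fI i ≠ c3 n j := by
        apply forall_ne_c3
        · intro h; cases h
        · intro h; cases h
        · intro h; exact hi (Sum.inr_injective (Sum.inr_injective h))
      rw [blk_mulVec_apply_of_not _ _ _ _ h1, blk_mulVec_apply_of_not _ _ _ _ h2]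

/-- the short root homomorphism `SL₂ → O(Q)` -/
noncomputable def lngO (n : ℕ) : Matrix.SpecialLinearGroup (Fin 2) F →* OG n F where
  toFun M := mkIso (QO n F) (blk (c3 n) (ad M.1)) (blk (c3 n) (ad (M⁻¹).1))
    (by rw [← blk_mul _ c3_inj, ← ad_mul, ← Matrix.SpecialLinearGroup.coe_mul, mul_inv_cancel,
      Matrix.SpecialLinearGroup.coe_one, ad_one, blk_one])
    (by rw [← blk_mul _ c3_inj, ← ad_mul, ← Matrix.SpecialLinearGroup.coe_mul, inv_mul_cancel,
      Matrix.SpecialLinearGroup.coe_one, ad_one, blk_one])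
    (QO_blk _ (fun z => by rw [q3_ad, M.2, one_pow, one_mul]))
  map_one' := by
    apply Subtype.ext
    apply Units.ext
    show blk (c3 n) (ad (1 : Matrix.SpecialLinearGroup (Fin 2) F).1) = 1
    rw [Matrix.SpecialLinearGroup.coe_one, ad_one, blk_one]
  map_mul' M M' := by
    apply Subtype.ext
    apply Units.ext
    show blk (c3 n) (ad (M * M').1) = blk (c3 n) (ad M.1) * blk (c3 n) (ad M'.1)
    rw [Matrix.SpecialLinearGroup.coe_mul, ad_mul, blk_mul _ c3_inj]

theorem coe_lngO (M : Matrix.SpecialLinearGroup (Fin 2) F) :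
    (((lngO n M : OG n F).1 : GL (OIdx n) F) : Matrix (OIdx n) (OIdx n) F) =
      blk (c3 n) (ad M.1) := rfl

end Cfsg.Agent.Lib.Helper1.OBN
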