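import Mathlib
import Cfsg.Agent.Lib.Helper1.OBN2
import Cfsg.Agent.Lib.Helper6.Spinor3

/-!
# Elements of `Ω_{2n+3}(q)`, `q` odd: root elements and reflections
-/

set_option autoImplicit false
set_option linter.unusedSectionVars false

namespace Cfsg.Agent.Lib.Helper1.OBN

open Matrix Cfsg.Agent.Lib.Helper14.MatBN Cfsg.Agent.Lib.Helper14.SpBN Cfsg.Agent.Lib.Helper6
  Cfsg.Agent.Lib.Helper14.TriMono

variable {n : ℕ} {F : Type*} [Field F]

/-! ### elements of `GL₂` and `SL₂` -/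

/-- the Weyl element of determinant one in `GL₂` -/
def gN : GL (Fin 2) F :=
  ⟨!![0, 1; -1, 0], !![0, -1; 1, 0], by
    ext i j; fin_cases i <;> fin_cases j <;> simp [Matrix.mul_apply, Fin.sum_univ_two], by
    ext i j; fin_cases i <;> fin_cases j <;> simp [Matrix.mul_apply, Fin.sum_univ_two]⟩

theorem coe_gN : ((gN : GL (Fin 2) F) : Matrix (Fin 2) (Fin 2) F) = !![0, 1; -1, 0] := rfl
theorem coe_gN_inv : (((gN)⁻¹ : GL (Fin 2) F) : Matrix (Fin 2) (Fin 2) F) = !![0, -1; 1, 0] := rfl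

theorem gT_mul (t t' : F) : gT t * gT t' = gT (t + t') := by
  apply Units.ext
  simp only [Units.val_mul, coe_gT]
  ext i j; fin_cases i <;> fin_cases j <;> simp [Matrix.mul_apply, Fin.sum_univ_two, add_comm]

theorem gT_pow (t : F) (k : ℕ) : gT t ^ k = gT (k * t) := by
  induction k with
  | zero => simp [gT_zero]
  | succ k ih =>
    rw [pow_succ, ih, gT_mul]
    congr 1
    push_cast
    ring

theorem gT_pow_char (p : ℕ) [CharP F p] (t : F) : gT t ^ p = 1 := by
  rw [gT_pow, CharP.cast_eq_zero, zero_mul, gT_zero]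

theorem gN_eq : (gN : GL (Fin 2) F) = gT 1 * (gW * gT 1 * gW⁻¹)⁻¹ * gT 1 := by
  apply Units.ext
  simp only [Units.val_mul, coe_gT, coe_gN, _root_.mul_inv_rev, inv_inv, coe_gW, coe_gW_inv,
    coe_gT_inv]
  ext i j; fin_cases i <;> fin_cases j <;> simp [Matrix.mul_apply, Fin.sum_univ_two]

/-- the rank one identity in `GL₂` for the Weyl element of determinant one -/
theorem gl2_identity' (t : F) (ht : t ≠ 0) :
    gN * gT t * gN⁻¹ = gB t⁻¹ t (-1) (inv_ne_zero ht) ht * gN * gT (-t⁻¹) := by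
  apply Units.ext
  simp only [Units.val_mul, coe_gN, coe_gT, coe_gN_inv, coe_gB]
  ext i j; fin_cases i <;> fin_cases j <;> simp [Matrix.mul_apply, Fin.sum_univ_two, ht]

theorem sT_pow (t : F) (k : ℕ) : sT t ^ k = sT (k * t) := by
  induction k with
  | zero => simp [sT_zero]
  | succ k ih =>
    rw [pow_succ, ih, sT_mul]
    congr 1
    push_cast
    ring

theorem sT_pow_char (p : ℕ) [CharP F p] (t : F) : sT t ^ p = 1 := by
  rw [sT_pow, CharP.cast_eq_zero, zero_mul, sT_zero]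

theorem sW_eq : (sW : Matrix.SpecialLinearGroup (Fin 2) F) = sT 1 * (sW * sT 1 * sW⁻¹) * sT 1 := by
  apply Subtype.ext
  simp only [Matrix.SpecialLinearGroup.coe_mul, coe_sW, coe_sT,
    Matrix.SpecialLinearGroup.coe_inv, Matrix.adjugate_fin_two]
  ext i j; fin_cases i <;> fin_cases j <;> simp [Matrix.mul_apply, Fin.sum_univ_two]

/-! ### membership in `Ω` -/

section Mem

variable [Fintype F]

theorem index_OmegaO (h2 : (2 : F) ≠ 0) : (Cfsg.Omega F ⇑(QO n F)).index = 4 := by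
  classical
  apply index_Omega' (QO n F) h2 (nondegenerate_QOdd F h2 (n + 1))
  simp only [Fintype.card_sum, Fintype.card_unit, Fintype.card_fin]
  omega

/-- elements of `p`-power order lie in `Ω` -/
theorem mem_Omega_of_pow (h2 : (2 : F) ≠ 0) (p : ℕ) [hp : Fact p.Prime] [CharP F p]
    (g : OG n F) (k : ℕ) (hg : g ^ (p ^ k) = 1) : g ∈ Cfsg.Omega F ⇑(QO n F) := by
  have hp2 : p ≠ 2 := by
    rintro rfl
    apply h2
    have h1 : ((2 : ℕ) : F) = 0 := CharP.cast_eq_zero F 2
    exact_mod_cast h1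
  have hcop : Nat.Coprime 4 (orderOf g) := by
    have hdvd : orderOf g ∣ p ^ k := orderOf_dvd_of_pow_eq_one hg
    apply Nat.Coprime.coprime_dvd_right hdvd
    apply Nat.Coprime.pow_right
    have h4 : (4 : ℕ) = 2 ^ 2 := by norm_num
    rw [h4]
    apply Nat.Coprime.pow_left
    rw [Nat.coprime_primes Nat.prime_two hp.out]
    exact fun h => hp2 h.symm
  obtain ⟨m, hm⟩ := exists_pow_eq_self_of_coprime hcop
  rw [← hm]
  apply Subgroup.pow_mem
  have := Subgroup.pow_index_mem (Cfsg.Omega F ⇑(QO n F)) g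
  rwa [index_OmegaO h2] at this

end Mem

end Cfsg.Agent.Lib.Helper1.OBN
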