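import Mathlib
import Cfsg.Agent.Lib.Helper1.OBN3

/-!
# The rank one data of `Ω_{2n+3}(q)`, `q` odd: elements and their matrices
-/

set_option autoImplicit false
set_option linter.unusedSectionVars false

namespace Cfsg.Agent.Lib.Helper1.OBN

open Matrix Cfsg.Agent.Lib.Helper14.MatBN Cfsg.Agent.Lib.Helper14.SpBN Cfsg.Agent.Lib.Helper6
  Cfsg.Agent.Lib.Helper14.TriMono

variable {n : ℕ} {F : Type*} [Field F]

/-- the group `Ω` -/
abbrev OmG (n : ℕ) (F : Type*) [Field F] : Type _ := ↥(Cfsg.Omega F ⇑(QO n F))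

/-- the matrix of an element -/
noncomputable def matO (n : ℕ) (F : Type*) [Field F] : OmG n F →* Matrix (OIdx n) (OIdx n) F :=
  (Units.coeHom (Matrix (OIdx n) (OIdx n) F)).comp
    ((Cfsg.isometryGroup F ⇑(QO n F)).subtype.comp (Cfsg.Omega F ⇑(QO n F)).subtype)

theorem matO_apply (g : OmG n F) :
    matO n F g = ((g.1.1 : GL (OIdx n) F) : Matrix (OIdx n) (OIdx n) F) := rfl

theorem matO_injective : Function.Injective (matO n F) := by
  intro g h e
  apply Subtype.ext
  apply Subtype.ext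
  apply Units.ext
  exact e

theorem matO_form (g : OmG n F) (x : OIdx n → F) : QO n F (matO n F g *ᵥ x) = QO n F x :=
  g.1.2 x x

section Elts

variable [Fintype F] (h2 : (2 : F) ≠ 0) (p : ℕ) [Fact p.Prime] [CharP F p]

/-- an element of `Ω` from an isometry of order `p` -/
noncomputable def uOm (g : OG n F) (hg : g ^ p = 1) : OmG n F :=
  ⟨g, mem_Omega_of_pow h2 p g 1 (by rwa [pow_one])⟩

theorem coe_uOm (g : OG n F) (hg : g ^ p = 1) : (uOm h2 p g hg).1 = g := rfl

/-- positive long root elements -/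
noncomputable def xS (k : Fin n) (t : F) : OmG n F :=
  uOm h2 p (shtO k.castSucc k.succ (castSucc_ne_succ k) (gT t))
    (by rw [← map_pow, gT_pow_char, map_one])

/-- negative long root elements -/
noncomputable def yS (k : Fin n) (t : F) : OmG n F :=
  uOm h2 p (shtO k.castSucc k.succ (castSucc_ne_succ k) (gW * gT t * gW⁻¹))
    (by rw [← map_pow, conj_pow, gT_pow_char, mul_one, mul_inv_cancel, map_one])

/-- the long root reflections -/
noncomputable def sS (k : Fin n) : OmG n F := xS h2 p k 1 * (yS h2 p k 1)⁻¹ * xS h2 p k 1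

/-- positive short root elements -/
noncomputable def xL (t : F) : OmG n F :=
  uOm h2 p (lngO n (sT t)) (by rw [← map_pow, sT_pow_char, map_one])

/-- negative short root elements -/
noncomputable def yL (t : F) : OmG n F :=
  uOm h2 p (lngO n (sW * sT t * sW⁻¹))
    (by rw [← map_pow, conj_pow, sT_pow_char, mul_one, mul_inv_cancel, map_one])

/-- the short root reflection -/
noncomputable def sL : OmG n F := xL (n := n) h2 p 1 * yL h2 p 1 * xL h2 p 1

theorem coe_xS (k : Fin n) (t : F) :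
    (xS h2 p k t).1 = shtO k.castSucc k.succ (castSucc_ne_succ k) (gT t) := rfl

theorem coe_sS (k : Fin n) :
    (sS h2 p k).1 = shtO k.castSucc k.succ (castSucc_ne_succ k) gN := by
  unfold sS
  rw [Subgroup.coe_mul, Subgroup.coe_mul, Subgroup.coe_inv]
  show shtO _ _ _ (gT 1) * (shtO _ _ _ (gW * gT 1 * gW⁻¹))⁻¹ * shtO _ _ _ (gT 1) = _
  rw [← map_inv, ← map_mul, ← map_mul, ← gN_eq]

theorem coe_xL (t : F) : (xL (n := n) h2 p t).1 = lngO n (sT t) := rfl

theorem coe_sL : (sL (n := n) h2 p).1 = lngO n sW := by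
  unfold sL
  rw [Subgroup.coe_mul, Subgroup.coe_mul]
  show lngO n (sT 1) * lngO n (sW * sT 1 * sW⁻¹) * lngO n (sT 1) = _
  rw [← map_mul, ← map_mul, ← sW_eq]

theorem mat_xS (k : Fin n) (t : F) :
    matO n F (xS h2 p k t) = emb (shtMat k.castSucc k.succ (gT t)) := rfl

theorem mat_sS (k : Fin n) :
    matO n F (sS h2 p k) = emb (shtMat k.castSucc k.succ gN) := by
  rw [matO_apply, coe_sS]
  rfl

theorem mat_xL (t : F) : matO n F (xL (n := n) h2 p t) = blk (c3 n) (ad (sT t).1) := rfl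

theorem mat_sL : matO n F (sL (n := n) h2 p) = blk (c3 n) (ad (sW : Matrix.SpecialLinearGroup (Fin 2) F).1) := by
  rw [matO_apply, coe_sL]
  rfl

theorem xS_inv (k : Fin n) (t : F) : (xS h2 p k t)⁻¹ = xS h2 p k (-t) := by
  apply Subtype.ext
  rw [Subgroup.coe_inv, coe_xS, coe_xS, ← map_inv, gT_inv]

theorem xL_inv (t : F) : (xL (n := n) h2 p t)⁻¹ = xL h2 p (-t) := by
  apply Subtype.ext
  rw [Subgroup.coe_inv, coe_xL, coe_xL, ← map_inv, sT_inv]

theorem xS_zero (k : Fin n) : xS h2 p k 0 = 1 := by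
  apply Subtype.ext
  rw [coe_xS, gT_zero, map_one]
  rfl

theorem xL_zero : xL (n := n) h2 p 0 = 1 := by
  apply Subtype.ext
  rw [coe_xL, sT_zero, map_one]
  rfl

end Elts

end Cfsg.Agent.Lib.Helper1.OBN
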