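import Mathlib
import Cfsg.Agent.Lib.Helper1.OBN4

/-!
# Triangular and monomial shapes of the rank one elements of `Ω_{2n+3}(q)`
-/

set_option autoImplicit false
set_option linter.unusedSectionVars false

namespace Cfsg.Agent.Lib.Helper1.OBN

open Matrix Cfsg.Agent.Lib.Helper14.MatBN Cfsg.Agent.Lib.Helper14.SpBN Cfsg.Agent.Lib.Helper6
  Cfsg.Agent.Lib.Helper14.TriMono

variable {n : ℕ} {F : Type*} [Field F]

theorem emb_blockTriangular {N : Matrix (Idx n) (Idx n) F} (hN : N.BlockTriangular (rho n)) :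
    (emb N).BlockTriangular (rhoO n) := by
  intro x y hxy
  rcases x with u | x <;> rcases y with v | y
  · exact absurd hxy (lt_irrefl _)
  · rfl
  · rfl
  · exact hN ((rhoO_inr_lt_iff y x).mp hxy)

theorem emb_isMono {N : Matrix (Idx n) (Idx n) F} {π : Equiv.Perm (Idx n)} (hN : IsMono N π) :
    IsMono (emb N) (embP n π) := by
  intro x y hxy
  rcases x with u | x <;> rcases y with v | y
  · exfalso
    apply hxy
    rw [embP_x0]
  · rfl
  · rfl
  · rw [emb_inr_inr]
    apply hN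
    intro h
    apply hxy
    rw [embP_inr, h]

theorem emb_diag {N : Matrix (Idx n) (Idx n) F} (hN : ∀ x, N x x = 1) (i : OIdx n) :
    emb N i i = 1 := by
  rcases i with u | x
  · exact emb_x0_x0 N u u
  · exact hN x

/-- the embedding of an antidiagonal block is monomial -/
theorem blk_anti {m : ℕ} {a b : Fin m} (hab : a ≠ b) (M : Matrix (Fin 2) (Fin 2) F)
    (h0 : M 0 0 = 0) (h1 : M 1 1 = 0) (i j : Fin m) (hne : blk (cab a b) M i j ≠ 0) :
    i = Equiv.swap a b j := by
  rw [blk_cab_apply hab] at hne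
  by_cases h1' : i = a
  · by_cases h2 : j = b
    · rw [h1', h2, Equiv.swap_apply_right]
    · exfalso; apply hne; simp [h1', h2, h0]
  · by_cases h4 : i = b
    · by_cases h5 : j = a
      · rw [h4, h5, Equiv.swap_apply_left]
      · exfalso; apply hne; simp [h4, h5, hab.symm, h1]
    · by_cases h7 : i = j
      · rw [← h7, Equiv.swap_apply_of_ne_of_ne h1' h4]
      · exfalso; apply hne; simp [h1', h4, h7]

theorem shtMat_gN_mono (k : Fin n) :
    IsMono (shtMat k.castSucc k.succ (gN : GL (Fin 2) F)) (piS k) := by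
  intro x y hxy
  rcases x with i | i <;> rcases y with j | j
  · rw [shtMat_ll, coe_gN]
    by_contra hne
    apply hxy
    rw [piS_inl, blk_anti (castSucc_ne_succ k) _ (by simp) (by simp) i j hne]
  · rfl
  · rfl
  · rw [shtMat_rr, coe_gN_inv]
    by_contra hne
    apply hxy
    rw [piS_inr, blk_anti (castSucc_ne_succ k) _ (by simp) (by simp) j i hne,
      Equiv.swap_apply_self]

/-! ### the block at `(eₙ, x₀, fₙ)` -/

theorem rhoO_c3 (i : Fin 3) : rhoO n (c3 n i) = n + i.val := by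
  fin_cases i
  · simp [c3]
  · simp [c3]
  · show 2 * n + 2 - n = n + 2
    omega

theorem exists_c3_or (r : OIdx n) : (∃ i, r = c3 n i) ∨ ∀ i, r ≠ c3 n i := by
  by_cases h : ∃ i, r = c3 n i
  · exact Or.inl h
  · right
    intro i hi
    exact h ⟨i, hi⟩

theorem blk_c3_blockTriangular (A : Matrix (Fin 3) (Fin 3) F) (hA : ∀ i j : Fin 3, j < i → A i j = 0) :
    (blk (c3 n) A).BlockTriangular (rhoO n) := by
  intro r s hrs
  have hne : r ≠ s := by
    rintro rfl
    exact lt_irrefl _ hrs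
  rcases exists_c3_or r with ⟨i, rfl⟩ | hr
  · rcases exists_c3_or s with ⟨j, rfl⟩ | hs
    · rw [blk_apply _ c3_inj]
      apply hA
      rw [rhoO_c3, rhoO_c3] at hrs
      rw [Fin.lt_def]
      omega
    · rw [blk_apply_right _ _ _ _ hs, Matrix.one_apply_ne hne]
  · rw [blk_apply_left _ _ _ _ hr, Matrix.one_apply_ne hne]

theorem blk_c3_diag (A : Matrix (Fin 3) (Fin 3) F) (hA : ∀ i : Fin 3, A i i = 1) (r : OIdx n) :
    blk (c3 n) A r r = 1 := by
  rcases exists_c3_or r with ⟨i, rfl⟩ | hr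
  · rw [blk_apply _ c3_inj, hA]
  · rw [blk_apply_left _ _ _ _ hr, Matrix.one_apply_eq]

theorem blk_c3_offdiag (A : Matrix (Fin 3) (Fin 3) F) (r s : OIdx n) (hne : r ≠ s)
    (h : blk (c3 n) A r s ≠ 0) : ∃ i j, r = c3 n i ∧ s = c3 n j ∧ i ≠ j ∧ A i j ≠ 0 := by
  rcases exists_c3_or r with ⟨i, rfl⟩ | hr
  · rcases exists_c3_or s with ⟨j, rfl⟩ | hs
    · rw [blk_apply _ c3_inj] at h
      exact ⟨i, j, rfl, rfl, fun e => hne (by rw [e]), h⟩
    · rw [blk_apply_right _ _ _ _ hs, Matrix.one_apply_ne hne] at h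
      exact absurd rfl h
  · rw [blk_apply_left _ _ _ _ hr, Matrix.one_apply_ne hne] at h
    exact absurd rfl h

theorem ad_sT (t : F) : ad (sT t).1 = !![1, -(2 * t), -(t ^ 2); 0, 1, t; 0, 0, 1] := by
  rw [coe_sT]
  ext i j
  fin_cases i <;> fin_cases j <;> simp [ad]

theorem ad_sW : ad (sW : Matrix.SpecialLinearGroup (Fin 2) F).1 = !![0, 0, -1; 0, -1, 0; -1, 0, 0] := by
  rw [coe_sW]
  ext i j
  fin_cases i <;> fin_cases j <;> simp [ad]

theorem piKO_L_of_not {r : OIdx n} (hr : ∀ i, r ≠ c3 n i) : piKO (Sum.inr ()) r = r := by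
  rcases r with u | i | i
  · exact piKO_x0 _ u
  · rw [piKO_L_e, if_neg]
    intro h
    exact hr 0 (by rw [h]; rfl)
  · rw [piKO_L_f, if_neg]
    intro h
    exact hr 2 (by rw [h]; rfl)

theorem piKO_L_c3 (j : Fin 3) : piKO (Sum.inr ()) (c3 n j) = c3 n (Fin.rev j) := by
  fin_cases j
  · show piKO (Sum.inr ()) (eI (Fin.last n)) = fI (Fin.last n)
    rw [piKO_L_e, if_pos rfl]
  · exact piKO_x0 _ ()
  · show piKO (Sum.inr ()) (fI (Fin.last n)) = eI (Fin.last n)
    rw [piKO_L_f, if_pos rfl]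

/-- the short root reflection is monomial -/
theorem blk_sW_mono :
    IsMono (blk (c3 n) (ad (sW : Matrix.SpecialLinearGroup (Fin 2) F).1)) (piKO (Sum.inr ())) := by
  intro r s hrs
  rw [ad_sW]
  rcases exists_c3_or s with ⟨j, rfl⟩ | hs
  · rcases exists_c3_or r with ⟨i, rfl⟩ | hr
    · rw [blk_apply _ c3_inj]
      rw [piKO_L_c3] at hrs
      have hij : i ≠ Fin.rev j := fun e => hrs (by rw [e])
      fin_cases i <;> fin_cases j <;> first | (exfalso; exact hij rfl) | simp
    · have hne : r ≠ c3 n j := hr j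
      rw [blk_apply_left _ _ _ _ hr, Matrix.one_apply_ne hne]
  · rw [piKO_L_of_not hs] at hrs
    rw [blk_apply_right _ _ _ _ hs, Matrix.one_apply_ne hrs]

end Cfsg.Agent.Lib.Helper1.OBN
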