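import Mathlib
import Cfsg.Agent.Lib.Helper1.OBN5

/-!
# Relations between the entries of a triangular isometry
-/

set_option autoImplicit false
set_option linter.unusedSectionVars false

namespace Cfsg.Agent.Lib.Helper1.OBN

open Matrix Cfsg.Agent.Lib.Helper14.MatBN Cfsg.Agent.Lib.Helper14.SpBN Cfsg.Agent.Lib.Helper6
  Cfsg.Agent.Lib.Helper14.TriMono

variable {n : ℕ} {F : Type*} [Field F]

theorem mulVec_single_apply (M : Matrix (OIdx n) (OIdx n) F) (j r : OIdx n) :
    (M *ᵥ Pi.single j 1) r = M r j := by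
  rw [Matrix.mulVec_single_one]
  rfl

theorem QO_col (M : Matrix (OIdx n) (OIdx n) F) (j : OIdx n) :
    QO n F (M *ᵥ Pi.single j 1) = M x0 j ^ 2 + ∑ i : Fin (n + 1), M (eI i) j * M (fI i) j := by
  rw [QO_apply]
  unfold hyp
  simp only [mulVec_single_apply]

theorem polar_col (M : Matrix (OIdx n) (OIdx n) F) (a b : OIdx n) :
    QuadraticMap.polar (⇑(QO n F)) (M *ᵥ Pi.single a 1) (M *ᵥ Pi.single b 1) =
      2 * M x0 a * M x0 b +
        ∑ i : Fin (n + 1), (M (eI i) a * M (fI i) b + M (fI i) a * M (eI i) b) := by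
  rw [polar_QO]
  simp only [mulVec_single_apply]

theorem polar_iso {M : Matrix (OIdx n) (OIdx n) F} (hQ : ∀ x, QO n F (M *ᵥ x) = QO n F x)
    (x y : OIdx n → F) :
    QuadraticMap.polar (⇑(QO n F)) (M *ᵥ x) (M *ᵥ y) = QuadraticMap.polar (⇑(QO n F)) x y := by
  unfold QuadraticMap.polar
  rw [← Matrix.mulVec_add, hQ, hQ, hQ]

theorem QO_single_x0 : QO n F (Pi.single x0 1) = 1 := by
  rw [QO_apply]
  unfold hyp
  simp

theorem QO_single_e (i : Fin (n + 1)) : QO n F (Pi.single (eI i) 1) = 0 := by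
  rw [QO_apply]
  unfold hyp
  simp

theorem QO_single_f (i : Fin (n + 1)) : QO n F (Pi.single (fI i) 1) = 0 := by
  rw [QO_apply]
  unfold hyp
  simp

/-- `f(v, eᵢ)` is the `fᵢ`-coordinate -/
theorem polar_single_e (v : OIdx n → F) (i : Fin (n + 1)) :
    QuadraticMap.polar (⇑(QO n F)) v (Pi.single (eI i) 1) = v (fI i) := by
  rw [polar_QO]
  simp [Pi.single_apply]

/-- `f(v, fᵢ)` is the `eᵢ`-coordinate -/
theorem polar_single_f (v : OIdx n → F) (i : Fin (n + 1)) :
    QuadraticMap.polar (⇑(QO n F)) v (Pi.single (fI i) 1) = v (eI i) := by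
  rw [polar_QO]
  simp [Pi.single_apply]

/-- `f(v, x₀)` is twice the `x₀`-coordinate -/
theorem polar_single_x0 (v : OIdx n → F) :
    QuadraticMap.polar (⇑(QO n F)) v (Pi.single x0 1) = 2 * v x0 := by
  rw [polar_QO]
  simp

section Tri

variable {M : Matrix (OIdx n) (OIdx n) F} (hU : M.BlockTriangular (rhoO n))
include hU

theorem tri_f_e (l i : Fin (n + 1)) : M (fI l) (eI i) = 0 := by
  apply hU
  simp only [rhoO_e, rhoO_f]
  have := i.2; have := l.2; omega

theorem tri_f_x0 (l : Fin (n + 1)) : M (fI l) x0 = 0 := by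
  apply hU
  simp only [rhoO_x0, rhoO_f]
  have := l.2; omega

theorem tri_x0_e (i : Fin (n + 1)) : M x0 (eI i) = 0 := by
  apply hU
  simp only [rhoO_x0, rhoO_e]
  have := i.2; omega

theorem tri_e_e {l i : Fin (n + 1)} (h : i < l) : M (eI l) (eI i) = 0 := by
  apply hU
  simpa using h

theorem tri_f_f {l i : Fin (n + 1)} (h : l < i) : M (fI l) (fI i) = 0 := by
  apply hU
  simp only [rhoO_f]
  have := i.2; have := l.2
  have : l.val < i.val := h
  omega

variable (hQ : ∀ x, QO n F (M *ᵥ x) = QO n F x)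
include hQ

/-- the diagonal relation -/
theorem tri_diag (i : Fin (n + 1)) : M (eI i) (eI i) * M (fI i) (fI i) = 1 := by
  have h := polar_iso hQ (Pi.single (eI i) 1) (Pi.single (fI i) 1)
  rw [polar_col, polar_single_f, Pi.single_eq_same, tri_x0_e hU, mul_zero, zero_mul, zero_add,
    Finset.sum_eq_single i] at h
  · rwa [tri_f_e hU, zero_mul, add_zero] at h
  · intro l _ hl
    rw [tri_f_e hU, zero_mul, add_zero]
    rcases lt_or_gt_of_ne hl with h1 | h1
    · rw [tri_f_f hU h1, mul_zero]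
    · rw [tri_e_e hU h1, zero_mul]
  · intro h
    exact absurd (Finset.mem_univ _) h

theorem tri_diag_x0 : M x0 x0 ^ 2 = 1 := by
  have h := hQ (Pi.single x0 1)
  rw [QO_col, QO_single_x0] at h
  rw [← h]
  have : ∑ i : Fin (n + 1), M (eI i) x0 * M (fI i) x0 = 0 := by
    apply Finset.sum_eq_zero
    intro i _
    rw [tri_f_x0 hU, mul_zero]
  rw [this, add_zero]

theorem tri_diag_e_ne (i : Fin (n + 1)) : M (eI i) (eI i) ≠ 0 :=
  left_ne_zero_of_mul (by rw [tri_diag hU hQ i]; exact one_ne_zero)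

theorem tri_diag_f_ne (i : Fin (n + 1)) : M (fI i) (fI i) ≠ 0 :=
  right_ne_zero_of_mul (by rw [tri_diag hU hQ i]; exact one_ne_zero)

theorem tri_diag_x0_ne : M x0 x0 ≠ 0 := by
  intro h
  have := tri_diag_x0 hU hQ
  rw [h] at this
  simp at this

/-- the relation between adjacent columns -/
theorem tri_adj (k : Fin n) :
    M (eI k.castSucc) (eI k.succ) * M (fI k.castSucc) (fI k.castSucc) +
      M (eI k.succ) (eI k.succ) * M (fI k.succ) (fI k.castSucc) = 0 := by
  have h := polar_iso hQ (Pi.single (eI k.succ) 1) (Pi.single (fI k.castSucc) 1)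
  rw [polar_col, polar_single_f, Pi.single_eq_of_ne, tri_x0_e hU, mul_zero, zero_mul, zero_add,
    Finset.sum_eq_add k.castSucc k.succ (castSucc_ne_succ k)] at h
  · rwa [tri_f_e hU, tri_f_e hU, zero_mul, zero_mul, add_zero, add_zero] at h
  · intro l _ hl
    rw [tri_f_e hU, zero_mul, add_zero]
    have h1 : l.val ≠ k.val := fun e => hl.1 (Fin.ext e)
    have h2 : l.val ≠ k.val + 1 := fun e => hl.2 (Fin.ext (by simpa using e))
    rcases lt_or_ge l.val k.val with h3 | h3
    · rw [tri_f_f hU (show l < k.castSucc from h3), mul_zero]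
    · have h4 : k.succ < l := by
        rw [Fin.lt_def]
        simp only [Fin.val_succ]
        omega
      rw [tri_e_e hU h4, zero_mul]
  · intro h
    exact absurd (Finset.mem_univ _) h
  · intro h
    exact absurd (Finset.mem_univ _) h
  · intro h
    exact castSucc_ne_succ k (Sum.inl_injective (Sum.inr_injective h))

/-- the first relation at the short root -/
theorem tri_L1 :
    2 * M x0 x0 * M x0 (fI (Fin.last n)) +
      M (eI (Fin.last n)) x0 * M (fI (Fin.last n)) (fI (Fin.last n)) = 0 := by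
  have h := polar_iso hQ (Pi.single x0 1) (Pi.single (fI (Fin.last n)) 1)
  rw [polar_col, polar_single_f, Pi.single_eq_of_ne (by intro h; cases h),
    Finset.sum_eq_single (Fin.last n)] at h
  · rwa [tri_f_x0 hU, zero_mul, add_zero] at h
  · intro l _ hl
    rw [tri_f_x0 hU, zero_mul, add_zero]
    have h1 : l < Fin.last n := lt_of_le_of_ne (Fin.le_last l) hl
    rw [tri_f_f hU h1, mul_zero]
  · intro h
    exact absurd (Finset.mem_univ _) h

/-- the second relation at the short root -/
theorem tri_L2 :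
    M x0 (fI (Fin.last n)) ^ 2 +
      M (eI (Fin.last n)) (fI (Fin.last n)) * M (fI (Fin.last n)) (fI (Fin.last n)) = 0 := by
  have h := hQ (Pi.single (fI (Fin.last n)) 1)
  rw [QO_col, QO_single_f, Finset.sum_eq_single (Fin.last n)] at h
  · exact h
  · intro l _ hl
    have h1 : l < Fin.last n := lt_of_le_of_ne (Fin.le_last l) hl
    rw [tri_f_f hU h1, mul_zero]
  · intro h
    exact absurd (Finset.mem_univ _) h

end Tri

end Cfsg.Agent.Lib.Helper1.OBN
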