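import Mathlib
import Cfsg.Agent.Lib.Helper1.OBN6

/-!
# The rank one data of `Ω_{2n+3}(q)`, `q` odd
-/

set_option autoImplicit false
set_option linter.unusedSectionVars false

namespace Cfsg.Agent.Lib.Helper1.OBN

open Matrix Cfsg.Agent.Lib.Helper14.MatBN Cfsg.Agent.Lib.Helper14.SpBN Cfsg.Agent.Lib.Helper6
  Cfsg.Agent.Lib.Helper14.TriMono

variable {n : ℕ} {F : Type*} [Field F]

/-- the long root elements as sums of elementary matrices -/
theorem emb_shtMat_gT (k : Fin n) (t : F) :
    emb (shtMat k.castSucc k.succ (gT t)) = 1 + Matrix.single (eI k.castSucc) (eI k.succ) t -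
      Matrix.single (fI k.succ) (fI k.castSucc) t := by
  rw [shtMat_gT (castSucc_ne_succ k)]
  ext x y
  rcases x with u | x <;> rcases y with v | y
  · rw [emb_x0_x0, Subsingleton.elim u v]
    simp [Matrix.sub_apply, Matrix.add_apply, Matrix.single_apply]
  · rw [emb_x0_inr]
    simp [Matrix.sub_apply, Matrix.add_apply, Matrix.single_apply]
  · rw [emb_inr_x0]
    simp [Matrix.sub_apply, Matrix.add_apply, Matrix.single_apply]
  · rw [emb_inr_inr]
    simp only [Matrix.sub_apply, Matrix.add_apply, Matrix.single_apply, Matrix.one_apply,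
      Sum.inr.injEq]

/-- the short root elements as sums of elementary matrices -/
theorem blk_ad_sT (t : F) :
    blk (c3 n) (ad (sT t).1) = 1 + Matrix.single (eI (Fin.last n)) x0 (-(2 * t)) +
      Matrix.single (eI (Fin.last n)) (fI (Fin.last n)) (-(t ^ 2)) +
        Matrix.single x0 (fI (Fin.last n)) t := by
  rw [ad_sT]
  ext r s
  simp only [Matrix.add_apply, Matrix.single_apply]
  rcases exists_c3_or r with ⟨i, rfl⟩ | hr
  · rcases exists_c3_or s with ⟨j, rfl⟩ | hs
    · rw [blk_apply _ c3_inj]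
      fin_cases i <;> fin_cases j <;> simp [c3, Matrix.one_apply]
    · rw [blk_apply_right _ _ _ _ hs]
      have h1 : x0 ≠ s := fun h => hs 1 h.symm
      have h2 : fI (Fin.last n) ≠ s := fun h => hs 2 h.symm
      simp [h1, h2]
  · rw [blk_apply_left _ _ _ _ hr]
    have h1 : eI (Fin.last n) ≠ r := fun h => hr 0 h.symm
    have h2 : x0 ≠ r := fun h => hr 1 h.symm
    simp [h1, h2]

section Setup

variable [Fintype F] (h2 : (2 : F) ≠ 0) (p : ℕ) [Fact p.Prime] [CharP F p]

theorem mat_xS' (k : Fin n) (t : F) :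
    matO n F (xS h2 p k t) = 1 + Matrix.single (eI k.castSucc) (eI k.succ) t -
      Matrix.single (fI k.succ) (fI k.castSucc) t := by
  rw [mat_xS, emb_shtMat_gT]

theorem mat_xL' (t : F) :
    matO n F (xL (n := n) h2 p t) = 1 + Matrix.single (eI (Fin.last n)) x0 (-(2 * t)) +
      Matrix.single (eI (Fin.last n)) (fI (Fin.last n)) (-(t ^ 2)) +
        Matrix.single x0 (fI (Fin.last n)) t := by
  rw [mat_xL, blk_ad_sT]

/-- the reflections -/
noncomputable def sKO : Fin n ⊕ Unit → OmG n F := Sum.elim (sS h2 p) (fun _ => sL h2 p)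

/-- the root subgroups -/
noncomputable def XKO : Fin n ⊕ Unit → Set (OmG n F) :=
  Sum.elim (fun k => Set.range (xS h2 p k)) (fun _ => Set.range (xL h2 p))

theorem o_s_mono (k : Fin n ⊕ Unit) : IsMono (matO n F (sKO h2 p k)) (piKO k) := by
  rcases k with k | k
  · show IsMono (matO n F (sS h2 p k)) _
    rw [mat_sS]
    exact emb_isMono (shtMat_gN_mono k)
  · show IsMono (matO n F (sL h2 p)) _
    rw [mat_sL]
    exact blk_sW_mono

theorem o_X_upper (k : Fin n ⊕ Unit) (x : OmG n F) (hx : x ∈ XKO h2 p k) :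
    (matO n F x).BlockTriangular (rhoO n) := by
  rcases k with k | k
  · obtain ⟨t, rfl⟩ := hx
    rw [mat_xS]
    exact emb_blockTriangular (shtMat_upper (castSucc_lt_succ' k) (gT t) (by rw [coe_gT]; simp)
      (by rw [coe_gT_inv]; simp))
  · obtain ⟨t, rfl⟩ := hx
    rw [mat_xL, ad_sT]
    apply blk_c3_blockTriangular
    intro i j hij
    fin_cases i <;> fin_cases j <;> first | rfl | (exfalso; revert hij; decide)

theorem o_X_diag (k : Fin n ⊕ Unit) (x : OmG n F) (hx : x ∈ XKO h2 p k) (i : OIdx n) :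
    matO n F x i i = 1 := by
  rcases k with k | k
  · obtain ⟨t, rfl⟩ := hx
    rw [mat_xS' h2 p k t]
    rcases i with u | i | i
    · simp [Matrix.sub_apply, Matrix.add_apply, Matrix.single_apply]
    · simp only [Matrix.add_apply, Matrix.sub_apply, Matrix.single_apply, Matrix.one_apply_eq,
        Sum.inr.injEq, Sum.inl.injEq, reduceCtorEq, false_and, if_false, sub_zero]
      rw [if_neg (fun h => castSucc_ne_succ k (h.1.trans h.2.symm)), add_zero]
    · simp only [Matrix.add_apply, Matrix.sub_apply, Matrix.single_apply, Matrix.one_apply_eq,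
        Sum.inr.injEq, reduceCtorEq, false_and, if_false, add_zero]
      rw [if_neg (fun h => castSucc_ne_succ k (h.2.trans h.1.symm)), sub_zero]
  · obtain ⟨t, rfl⟩ := hx
    rw [mat_xL, ad_sT]
    apply blk_c3_diag
    intro i
    fin_cases i <;> rfl

theorem o_X_supp (k : Fin n ⊕ Unit) (x : OmG n F) (hx : x ∈ XKO h2 p k) (u v : OIdx n)
    (huv : u ≠ v) (hne : matO n F x u v ≠ 0) : InPi (rhoO n) (piKO k) u v := by
  rcases k with k | k
  · obtain ⟨t, rfl⟩ := hx
    rw [inPi_piSO]
    rw [mat_xS' h2 p k t, Matrix.sub_apply, Matrix.add_apply, Matrix.one_apply_ne huv, zero_add,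
      Matrix.single_apply, Matrix.single_apply] at hne
    by_cases h1 : eI k.castSucc = u ∧ eI k.succ = v
    · exact Or.inl ⟨h1.1.symm, h1.2.symm⟩
    · by_cases h2' : fI k.succ = u ∧ fI k.castSucc = v
      · exact Or.inr ⟨h2'.1.symm, h2'.2.symm⟩
      · rw [if_neg h1, if_neg h2', sub_zero] at hne
        exact absurd rfl hne
  · obtain ⟨t, rfl⟩ := hx
    rw [inPi_piLO]
    rw [mat_xL, ad_sT] at hne
    obtain ⟨i, j, rfl, rfl, hij, hA⟩ := blk_c3_offdiag _ u v huv hne
    fin_cases i <;> fin_cases j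
    · exact absurd rfl hij
    · left; exact ⟨rfl, rfl⟩
    · right; right; exact ⟨rfl, rfl⟩
    · exfalso; apply hA; rfl
    · exact absurd rfl hij
    · right; left; exact ⟨rfl, rfl⟩
    · exfalso; apply hA; rfl
    · exfalso; apply hA; rfl
    · exact absurd rfl hij

theorem o_X_ne (k : Fin n ⊕ Unit) : ∃ x ∈ XKO h2 p k, x ≠ 1 := by
  rcases k with k | k
  · refine ⟨xS h2 p k 1, ⟨1, rfl⟩, fun h => ?_⟩
    have h1 := congrArg (fun g : OmG n F => matO n F g (eI k.castSucc) (eI k.succ)) h
    simp only [mat_xS' h2 p, map_one] at h1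
    have hne : k.castSucc ≠ k.succ := castSucc_ne_succ k
    simp [Matrix.add_apply, Matrix.sub_apply, Matrix.single_apply, hne] at h1
  · refine ⟨xL h2 p 1, ⟨1, rfl⟩, fun h => ?_⟩
    have h1 := congrArg (fun g : OmG n F => matO n F g x0 (fI (Fin.last n))) h
    simp only [mat_xL' h2 p, map_one] at h1
    simp [Matrix.add_apply, Matrix.single_apply] at h1

end Setup

end Cfsg.Agent.Lib.Helper1.OBN
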