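import Mathlib
import Cfsg.Agent.Lib.Helper1.OBN7

/-!
# The `(B, N)`-pair data of `Ω_{2n+3}(q)`, `q` odd: conditions (a) and (c)
-/

set_option autoImplicit false
set_option linter.unusedSectionVars false

namespace Cfsg.Agent.Lib.Helper1.OBN

open Matrix Cfsg.Agent.Lib.Helper14.MatBN Cfsg.Agent.Lib.Helper14.SpBN Cfsg.Agent.Lib.Helper6
  Cfsg.Agent.Lib.Helper14.TriMono

variable {n : ℕ} {F : Type*} [Field F] [Fintype F] (h2 : (2 : F) ≠ 0) (p : ℕ) [Fact p.Prime]
  [CharP F p]

theorem o_hA (k : Fin n ⊕ Unit) (b : OmG n F) (hb : (matO n F b).BlockTriangular (rhoO n)) :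
    ∃ x ∈ XKO h2 p k, ∀ u v, InPi (rhoO n) (piKO k) u v → matO n F (b * x⁻¹) u v = 0 := by
  have hQ := matO_form b
  rcases k with k | k
  · set t : F := matO n F b (eI k.castSucc) (eI k.succ) /
      matO n F b (eI k.castSucc) (eI k.castSucc) with ht
    have hd := tri_diag_e_ne hb hQ k.castSucc
    have hd' := tri_diag_e_ne hb hQ k.succ
    refine ⟨xS h2 p k t, ⟨t, rfl⟩, ?_⟩
    intro u v huv
    rw [xS_inv, map_mul, mat_xS' h2 p, Matrix.mul_sub, Matrix.mul_add, Matrix.mul_one,
      Matrix.sub_apply, Matrix.add_apply]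
    rcases (inPi_piSO k u v).mp huv with ⟨rfl, rfl⟩ | ⟨rfl, rfl⟩
    · rw [Matrix.mul_single_apply_same, Matrix.mul_single_apply_of_ne (i := fI k.succ)
        (j := fI k.castSucc) (a := eI k.castSucc) (b := eI k.succ)
        (hbj := by simp), sub_zero, ht]
      field_simp
      ring
    · rw [Matrix.mul_single_apply_of_ne (i := eI k.castSucc) (j := eI k.succ)
        (a := fI k.succ) (b := fI k.castSucc) (hbj := by simp),
        Matrix.mul_single_apply_same, add_zero, ht]
      have hrel := tri_adj hb hQ k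
      have hd1 := tri_diag hb hQ k.castSucc
      have hd2 := tri_diag hb hQ k.succ
      have hf1 := tri_diag_f_ne hb hQ k.castSucc
      field_simp
      have e : matO n F b (fI k.succ) (fI k.castSucc) * matO n F b (eI k.castSucc) (eI k.castSucc) +
          matO n F b (fI k.succ) (fI k.succ) * matO n F b (eI k.castSucc) (eI k.succ) = 0 := by
        have h3 : matO n F b (fI k.castSucc) (fI k.castSucc) * matO n F b (eI k.succ) (eI k.succ) ≠ 0 :=
          mul_ne_zero hf1 hd'
        apply (mul_eq_zero.mp ?_).resolve_left h3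
        linear_combination
          (matO n F b (fI k.succ) (fI k.castSucc) * matO n F b (eI k.succ) (eI k.succ)) * hd1 +
          (matO n F b (fI k.castSucc) (fI k.castSucc) * matO n F b (eI k.castSucc) (eI k.succ)) * hd2 +
          hrel
      linear_combination e
  · set a : F := matO n F b (eI (Fin.last n)) (eI (Fin.last n)) with ha
    set c : F := matO n F b (eI (Fin.last n)) x0 with hc
    set t : F := -c / (2 * a) with ht
    have hd : a ≠ 0 := tri_diag_e_ne hb hQ (Fin.last n)
    have hd1 := tri_diag hb hQ (Fin.last n)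
    have hd0 := tri_diag_x0 hb hQ
    have hL1 := tri_L1 hb hQ
    have hL2 := tri_L2 hb hQ
    have hx0e : matO n F b x0 (eI (Fin.last n)) = 0 := tri_x0_e hb _
    rw [← ha] at hd1
    rw [← hc] at hL1
    set d : F := matO n F b (fI (Fin.last n)) (fI (Fin.last n)) with hdd
    set z : F := matO n F b x0 x0 with hz
    set y : F := matO n F b x0 (fI (Fin.last n)) with hy
    set w : F := matO n F b (eI (Fin.last n)) (fI (Fin.last n)) with hw
    have hy' : y = t * z := by
      have e1 : 2 * y = -(c * d) * z := by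
        linear_combination (z) * hL1 - (2 * y) * hd0
      have hdinv : d = a⁻¹ := eq_inv_of_mul_eq_one_right hd1
      have e2 : t = -(c * d) / 2 := by
        rw [ht, hdinv]
        field_simp
      rw [e2]
      field_simp
      linear_combination e1
    refine ⟨xL h2 p t, ⟨t, rfl⟩, ?_⟩
    intro u v huv
    rw [xL_inv, map_mul, mat_xL' h2 p, Matrix.mul_add, Matrix.mul_add, Matrix.mul_add,
      Matrix.mul_one, Matrix.add_apply, Matrix.add_apply, Matrix.add_apply]
    rcases (inPi_piLO u v).mp huv with ⟨rfl, rfl⟩ | ⟨rfl, rfl⟩ | ⟨rfl, rfl⟩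
    · rw [Matrix.mul_single_apply_same,
        Matrix.mul_single_apply_of_ne (hbj := by intro h; cases h),
        Matrix.mul_single_apply_of_ne (hbj := by intro h; cases h), add_zero, add_zero, ← ha, ← hc,
        ht]
      field_simp
      ring
    · rw [Matrix.mul_single_apply_of_ne (hbj := by intro h; cases h),
        Matrix.mul_single_apply_same, Matrix.mul_single_apply_same, add_zero, hx0e, ← hy, ← hz,
        hy']
      ring
    · rw [Matrix.mul_single_apply_of_ne (hbj := by intro h; cases h),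
        Matrix.mul_single_apply_same, Matrix.mul_single_apply_same, add_zero, ← ha, ← hc, ← hw]
      have hw' : w = -(y ^ 2) * a := by
        linear_combination (a) * hL2 - (w) * hd1
      rw [hw', hy']
      have hz2 : z ^ 2 = 1 := hd0
      have e3 : t * (2 * a) = -c := by
        rw [ht]
        field_simp
      linear_combination (-(t ^ 2) * a) * hz2 + (-t) * e3

theorem ad_upper (M : Matrix (Fin 2) (Fin 2) F) (h : M 1 0 = 0) (i j : Fin 3) (hij : j < i) :
    ad M i j = 0 := by
  fin_cases i <;> fin_cases j <;> first | (exfalso; revert hij; decide) | simp [ad, h]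

theorem o_hC (k : Fin n ⊕ Unit) (x : OmG n F) (hx : x ∈ XKO h2 p k) :
    x = 1 ∨ ∃ b₁ : OmG n F, (matO n F b₁).BlockTriangular (rhoO n) ∧
      ∃ x₁ ∈ XKO h2 p k, sKO h2 p k * x * (sKO h2 p k)⁻¹ = b₁ * sKO h2 p k * x₁ := by
  rcases k with k | k
  · obtain ⟨t, rfl⟩ := hx
    by_cases ht : t = 0
    · left
      rw [ht]
      exact xS_zero h2 p k
    · right
      refine ⟨sS h2 p k * xS h2 p k t * (sS h2 p k)⁻¹ * (xS h2 p k (-t⁻¹))⁻¹ * (sS h2 p k)⁻¹, ?_,
        xS h2 p k (-t⁻¹), ⟨-t⁻¹, rfl⟩, ?_⟩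
      · have e : (sS h2 p k * xS h2 p k t * (sS h2 p k)⁻¹ * (xS h2 p k (-t⁻¹))⁻¹ *
            (sS h2 p k)⁻¹).1 = shtO k.castSucc k.succ (castSucc_ne_succ k)
              (gB t⁻¹ t (-1) (inv_ne_zero ht) ht) := by
          simp only [Subgroup.coe_mul, Subgroup.coe_inv, coe_sS, coe_xS]
          rw [← map_inv, ← map_inv, ← map_mul, ← map_mul, ← map_mul, ← map_mul]
          congr 1
          have := gl2_identity' t ht
          calc gN * gT t * gN⁻¹ * (gT (-t⁻¹))⁻¹ * gN⁻¹
              = (gN * gT t * gN⁻¹) * (gT (-t⁻¹))⁻¹ * gN⁻¹ := by group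
            _ = _ := by rw [this]; group
        rw [matO_apply, e]
        show (emb (shtMat k.castSucc k.succ (gB t⁻¹ t (-1) (inv_ne_zero ht) ht))).BlockTriangular _
        exact emb_blockTriangular (shtMat_upper (castSucc_lt_succ' k) _ (by rw [coe_gB]; simp)
          (by rw [coe_gB_inv]; simp))
      · have e : sKO h2 p (Sum.inl k) = sS h2 p k := rfl
        rw [e]
        group
  · obtain ⟨t, rfl⟩ := hx
    by_cases ht : t = 0
    · left
      rw [ht]
      exact xL_zero h2 p
    · right
      refine ⟨sL h2 p * xL h2 p t * (sL h2 p)⁻¹ * (xL h2 p (-t⁻¹))⁻¹ * (sL h2 p)⁻¹, ?_,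
        xL h2 p (-t⁻¹), ⟨-t⁻¹, rfl⟩, ?_⟩
      · have e : (sL (n := n) h2 p * xL h2 p t * (sL h2 p)⁻¹ * (xL h2 p (-t⁻¹))⁻¹ *
            (sL h2 p)⁻¹).1 = lngO n (sB t⁻¹ (-1) (inv_ne_zero ht)) := by
          simp only [Subgroup.coe_mul, Subgroup.coe_inv, coe_sL, coe_xL]
          rw [← map_inv, ← map_inv, ← map_mul, ← map_mul, ← map_mul, ← map_mul]
          congr 1
          have := sl2_identity t ht
          calc sW * sT t * sW⁻¹ * (sT (-t⁻¹))⁻¹ * sW⁻¹
              = (sW * sT t) * sW⁻¹ * (sT (-t⁻¹))⁻¹ * sW⁻¹ := by group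
            _ = _ := by rw [this]; group
        rw [matO_apply, e]
        show (blk (c3 n) (ad (sB t⁻¹ (-1) (inv_ne_zero ht)).1)).BlockTriangular _
        apply blk_c3_blockTriangular
        apply ad_upper
        rw [coe_sB]
        simp
      · have e : sKO (n := n) h2 p (Sum.inr k) = sL h2 p := rfl
        rw [e]
        group

/-- the rank one data -/
noncomputable def oSetup : Setup (OmG n F) (OIdx n) F (Fin n ⊕ Unit) where
  mat := matO n F
  ρ := rhoO n
  W := WgO n
  s := sKO h2 p
  π := piKO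
  X := XKO h2 p
  mat_inj := matO_injective
  ρ_inj := rhoO_inj
  π_mem := piKO_mem
  π_sq := piKO_sq
  π_ne := piKO_ne
  π_inj := piKO_inj
  s_mono := o_s_mono h2 p
  X_upper := o_X_upper h2 p
  X_diag := o_X_diag h2 p
  X_supp := o_X_supp h2 p
  X_ne := o_X_ne h2 p
  orient := o_orient
  hA := o_hA h2 p
  hC := o_hC h2 p

end Cfsg.Agent.Lib.Helper1.OBN
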