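import Mathlib
import Cfsg.Agent.Lib.Helper1.OBN8
import Cfsg.Agent.Lib.Helper14.MatBN2

/-!
# The torus of `Ω_{2n+3}(q)`: the diagonal part of a triangular element
-/

set_option autoImplicit false
set_option linter.unusedSectionVars false

namespace Cfsg.Agent.Lib.Helper1.OBN

open Matrix Cfsg.Agent.Lib.Helper14.MatBN Cfsg.Agent.Lib.Helper14.SpBN Cfsg.Agent.Lib.Helper6
  Cfsg.Agent.Lib.Helper14.TriMono

variable {n : ℕ} {F : Type*} [Field F] [Fintype F]

/-- unitriangular isometries lie in `Ω` -/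
theorem mem_Omega_of_unitri (h2 : (2 : F) ≠ 0) (p : ℕ) [Fact p.Prime] [CharP F p] (g : OG n F)
    (hU : ((g.1 : GL (OIdx n) F) : Matrix (OIdx n) (OIdx n) F).BlockTriangular (rhoO n))
    (hd : ∀ i, ((g.1 : GL (OIdx n) F) : Matrix (OIdx n) (OIdx n) F) i i = 1) :
    g ∈ Cfsg.Omega F ⇑(QO n F) := by
  obtain ⟨k, hk⟩ := unitri_pow_eq_one (rhoO n) rhoO_inj p hU hd
  apply mem_Omega_of_pow h2 p g k
  apply Subtype.ext
  apply Units.ext
  rw [Subgroup.coe_pow, Units.val_pow_eq_pow_val]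
  exact hk

theorem o_hdiag (h2 : (2 : F) ≠ 0) (p : ℕ) [Fact p.Prime] [CharP F p] (b : OmG n F) (hb : (matO n F b).BlockTriangular (rhoO n)) :
    ∃ h : OmG n F, matO n F h = Matrix.diagonal (fun i => matO n F b i i) := by
  have hQ := matO_form b
  set M := matO n F b with hM
  have hne : ∀ i, M i i ≠ 0 := by
    rintro (u | i | i)
    · exact tri_diag_x0_ne hb hQ
    · exact tri_diag_e_ne hb hQ i
    · exact tri_diag_f_ne hb hQ i
  have h1 : Matrix.diagonal (fun i => M i i) * Matrix.diagonal (fun i => (M i i)⁻¹) = 1 := by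
    rw [Matrix.diagonal_mul_diagonal, ← Matrix.diagonal_one]
    congr 1
    funext i
    exact mul_inv_cancel₀ (hne i)
  have h1' : Matrix.diagonal (fun i => (M i i)⁻¹) * Matrix.diagonal (fun i => M i i) = 1 := by
    rw [Matrix.diagonal_mul_diagonal, ← Matrix.diagonal_one]
    congr 1
    funext i
    exact inv_mul_cancel₀ (hne i)
  have hform : ∀ x, QO n F (Matrix.diagonal (fun i => M i i) *ᵥ x) = QO n F x := by
    intro x
    rw [QO_apply, QO_apply]
    unfold hyp
    simp only [Matrix.mulVec_diagonal]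
    have e0 : (M (Sum.inl ()) (Sum.inl ()) * x (Sum.inl ())) ^ 2 = x (Sum.inl ()) ^ 2 := by
      rw [mul_pow, tri_diag_x0 hb hQ, one_mul]
    rw [e0]
    congr 1
    apply Finset.sum_congr rfl
    intro i _
    have := tri_diag hb hQ i
    linear_combination (x (Sum.inr (Sum.inl i)) * x (Sum.inr (Sum.inr i))) * this
  set hD : OG n F := mkIso (QO n F) _ _ h1 h1' hform with hhD
  have hu : b.1 * hD⁻¹ ∈ Cfsg.Omega F ⇑(QO n F) := by
    apply mem_Omega_of_unitri h2 p
    · show (M * Matrix.diagonal (fun i => (M i i)⁻¹)).BlockTriangular (rhoO n)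
      exact hb.mul (Matrix.blockTriangular_diagonal _)
    · intro i
      show (M * Matrix.diagonal (fun i => (M i i)⁻¹)) i i = 1
      rw [mul_diag_of_blockTriangular (rhoO n) rhoO_inj hb (Matrix.blockTriangular_diagonal _),
        Matrix.diagonal_apply_eq]
      exact mul_inv_cancel₀ (hne i)
  have hmem : hD ∈ Cfsg.Omega F ⇑(QO n F) := by
    have : hD = (b.1 * hD⁻¹)⁻¹ * b.1 := by group
    rw [this]
    exact Subgroup.mul_mem _ (Subgroup.inv_mem _ hu) b.2
  exact ⟨⟨hD, hmem⟩, rfl⟩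

end Cfsg.Agent.Lib.Helper1.OBN
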