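import Mathlib
import Cfsg.Agent.Lib.Helper1.DBN2
import Cfsg.Agent.Lib.Helper1.OBN9
import Cfsg.Agent.Lib.Helper15.QuadF2a

/-!
# Type `D_{n+2}`: the quadratic form of plus type, the rank one subgroups
-/

set_option autoImplicit false
set_option linter.unusedSectionVars false

namespace Cfsg.Agent.Lib.Helper1.DBN

open Matrix Cfsg.Agent.Lib.Helper14.MatBN Cfsg.Agent.Lib.Helper14.SpBN Cfsg.Agent.Lib.Helper6
  Cfsg.Agent.Lib.Helper14.TriMono Cfsg.Agent.Lib.Helper1.OBN

variable {n : ℕ} {F : Type*} [Field F]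

/-- the quadratic form -/
noncomputable abbrev QD (n : ℕ) (F : Type*) [Field F] : QuadraticForm F (DIdx n → F) :=
  Cfsg.Agent.Lib.Helper15.QPlus F (n + 1 + 1)

/-- the isometry group -/
abbrev DG (n : ℕ) (F : Type*) [Field F] : Type _ := ↥(Cfsg.isometryGroup F ⇑(QD n F))

theorem QD_apply (v : DIdx n → F) : QD n F v = hyp v := by
  rw [Cfsg.Agent.Lib.Helper15.QPlus_apply]
  rfl

theorem polar_QD (u v : DIdx n → F) :
    QuadraticMap.polar (⇑(QD n F)) u v =
      ∑ i : Fin (n + 2), (u (eD i) * v (fD i) + u (fD i) * v (eD i)) :=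
  Cfsg.Agent.Lib.Helper15.polar_QPlus F (n + 1 + 1) u v

/-- the basis vectors -/
abbrev dv (r : DIdx n) : DIdx n → F := Pi.single r 1

theorem dv_same (s : DIdx n) : (dv s : DIdx n → F) s = 1 := Pi.single_eq_same _ _

theorem dv_ne {r s : DIdx n} (h : r ≠ s) : (dv s : DIdx n → F) r = 0 := Pi.single_eq_of_ne h _

theorem QD_single_e (i : Fin (n + 2)) : QD n F (dv (eD i)) = 0 := by
  rw [QD_apply]
  unfold hyp
  simp

theorem QD_single_f (i : Fin (n + 2)) : QD n F (dv (fD i)) = 0 := by
  rw [QD_apply]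
  unfold hyp
  simp

theorem polar_dv_e (v : DIdx n → F) (i : Fin (n + 2)) :
    QuadraticMap.polar (⇑(QD n F)) v (dv (eD i)) = v (fD i) := by
  rw [polar_QD]
  simp [Pi.single_apply]

theorem polar_dv_f (v : DIdx n → F) (i : Fin (n + 2)) :
    QuadraticMap.polar (⇑(QD n F)) v (dv (fD i)) = v (eD i) := by
  rw [polar_QD]
  simp [Pi.single_apply]

theorem polar_dv_e' (i : Fin (n + 2)) (x : DIdx n → F) :
    QuadraticMap.polar (⇑(QD n F)) (dv (eD i)) x = x (fD i) := by
  rw [QuadraticMap.polar_comm, polar_dv_e]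

theorem polar_dv_f' (i : Fin (n + 2)) (x : DIdx n → F) :
    QuadraticMap.polar (⇑(QD n F)) (dv (fD i)) x = x (eD i) := by
  rw [QuadraticMap.polar_comm, polar_dv_f]

theorem dact_apply (g : DG n F) (s r : DIdx n) :
    gact (QD n F) g (dv s) r = ((g.1 : GL (DIdx n) F) : Matrix (DIdx n) (DIdx n) F) r s := by
  unfold gact
  rw [Matrix.mulVec_single_one]
  rfl

/-- the rank one homomorphisms `GL₂ → O(Q)` of the roots `ε_a - ε_b` -/
noncomputable def shtD (a b : Fin (n + 2)) (hab : a ≠ b) : GL (Fin 2) F →* DG n F where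
  toFun M := mkIso (QD n F) (shtMat a b M) (shtMat a b M⁻¹)
    (by rw [← shtMat_mul hab, mul_inv_cancel, shtMat_one hab])
    (by rw [← shtMat_mul hab, inv_mul_cancel, shtMat_one hab])
    (fun v => by rw [QD_apply, QD_apply]; exact hyp_shtMat hab M v)
  map_one' := by
    apply Subtype.ext
    apply Units.ext
    show shtMat a b (1 : GL (Fin 2) F) = 1
    rw [shtMat_one hab]
  map_mul' M M' := by
    apply Subtype.ext
    apply Units.ext
    show shtMat a b (M * M') = shtMat a b M * shtMat a b M'
    rw [shtMat_mul hab]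

theorem coe_shtD (a b : Fin (n + 2)) (hab : a ≠ b) (M : GL (Fin 2) F) :
    (((shtD a b hab M : DG n F).1 : GL (DIdx n) F) : Matrix (DIdx n) (DIdx n) F) =
      shtMat a b M := rfl

/-- the matrix swapping `e_{n+1}` and `f_{n+1}` -/
def rMat (n : ℕ) (F : Type*) [Field F] : Matrix (DIdx n) (DIdx n) F :=
  lngMat (lst n) !![0, 1; 1, 0]

theorem rMat_mul_self : rMat n F * rMat n F = 1 := by
  unfold rMat
  rw [← lngMat_mul]
  have : (!![0, 1; 1, 0] : Matrix (Fin 2) (Fin 2) F) * !![0, 1; 1, 0] = 1 := by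
    ext i j; fin_cases i <;> fin_cases j <;> simp [Matrix.mul_apply, Fin.sum_univ_two]
  rw [this, lngMat_one]

theorem rMat_mono : IsMono (rMat n F) (piL (n + 1)) := by
  intro x y hxy
  unfold rMat
  rcases x with x | x <;> rcases y with y | y
  · rw [lngMat_ll, Matrix.diagonal_apply]
    by_cases h : x = y
    · subst h
      rw [if_pos rfl]
      by_cases hx : x = lst n
      · subst hx
        simp
      · exfalso
        apply hxy
        rw [piL_inl, if_neg hx]
    · rw [if_neg h]
  · rw [lngMat_lr, Matrix.diagonal_apply]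
    by_cases h : x = y
    · subst h
      rw [if_pos rfl]
      by_cases hx : x = lst n
      · exfalso
        apply hxy
        rw [piL_inr, if_pos hx, hx]
      · simp [Function.update_of_ne hx]
    · rw [if_neg h]
  · rw [lngMat_rl, Matrix.diagonal_apply]
    by_cases h : x = y
    · subst h
      rw [if_pos rfl]
      by_cases hx : x = lst n
      · exfalso
        apply hxy
        rw [piL_inl, if_pos hx, hx]
      · simp [Function.update_of_ne hx]
    · rw [if_neg h]
  · rw [lngMat_rr, Matrix.diagonal_apply]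
    by_cases h : x = y
    · subst h
      rw [if_pos rfl]
      by_cases hx : x = lst n
      · subst hx
        simp
      · exfalso
        apply hxy
        rw [piL_inr, if_neg hx]
    · rw [if_neg h]

theorem rMat_apply (x y : DIdx n) : rMat n F x y = if x = piL (n + 1) y then 1 else 0 := by
  by_cases h : x = piL (n + 1) y
  · rw [if_pos h, h]
    unfold rMat
    rcases y with y | y
    · rw [piL_inl]
      by_cases hy : y = lst n
      · rw [if_pos hy, hy, lngMat_rl, Matrix.diagonal_apply_eq]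
        simp
      · rw [if_neg hy, lngMat_ll, Matrix.diagonal_apply_eq, Function.update_of_ne hy]
        rfl
    · rw [piL_inr]
      by_cases hy : y = lst n
      · rw [if_pos hy, hy, lngMat_lr, Matrix.diagonal_apply_eq]
        simp
      · rw [if_neg hy, lngMat_rr, Matrix.diagonal_apply_eq, Function.update_of_ne hy]
        rfl
  · rw [if_neg h]
    exact rMat_mono x y h

theorem rMat_mulVec (v : DIdx n → F) (x : DIdx n) : (rMat n F *ᵥ v) x = v (piL (n + 1) x) := by
  rw [Matrix.mulVec, dotProduct, Finset.sum_eq_single (piL (n + 1) x)]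
  · rw [rMat_apply]
    have : piL (n + 1) (piL (n + 1) x) = x := by
      have := congrArg (fun f : Equiv.Perm (DIdx n) => f x) (piL_sq (n := n + 1))
      simpa using this
    rw [if_pos this.symm, one_mul]
  · intro y _ hy
    rw [rMat_apply, if_neg, zero_mul]
    intro h
    apply hy
    rw [h]
    have := congrArg (fun f : Equiv.Perm (DIdx n) => f y) (piL_sq (n := n + 1))
    simpa using this.symm
  · intro h
    exact absurd (Finset.mem_univ _) h

theorem hyp_rMat (v : DIdx n → F) : hyp (rMat n F *ᵥ v) = hyp v := by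
  unfold hyp
  apply Finset.sum_congr rfl
  intro i _
  rw [rMat_mulVec, rMat_mulVec, piL_inl, piL_inr]
  by_cases hi : i = lst n
  · rw [if_pos hi, if_pos hi, hi, mul_comm]
  · rw [if_neg hi, if_neg hi]

/-- the isometry swapping `e_{n+1}` and `f_{n+1}` -/
noncomputable def rD (n : ℕ) (F : Type*) [Field F] : DG n F :=
  mkIso (QD n F) (rMat n F) (rMat n F) rMat_mul_self rMat_mul_self
    (fun v => by rw [QD_apply, QD_apply]; exact hyp_rMat v)

theorem coe_rD : (((rD n F).1 : GL (DIdx n) F) : Matrix (DIdx n) (DIdx n) F) = rMat n F := rfl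

theorem rD_mul_self : rD n F * rD n F = 1 := by
  apply Subtype.ext
  apply Units.ext
  show rMat n F * rMat n F = 1
  exact rMat_mul_self

theorem rD_inv : (rD n F)⁻¹ = rD n F := inv_eq_of_mul_eq_one_right rD_mul_self

/-- the rank one homomorphism `GL₂ → O(Q)` of the root `ε_n + ε_{n+1}` -/
noncomputable def shtL (n : ℕ) (F : Type*) [Field F] : GL (Fin 2) F →* DG n F :=
  (MulAut.conj (rD n F)).toMonoidHom.comp (shtD (pre n) (lst n) pre_ne_lst)

theorem shtL_apply (M : GL (Fin 2) F) :
    shtL n F M = rD n F * shtD (pre n) (lst n) pre_ne_lst M * (rD n F)⁻¹ := rfl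

theorem coe_shtL (M : GL (Fin 2) F) :
    (((shtL n F M : DG n F).1 : GL (DIdx n) F) : Matrix (DIdx n) (DIdx n) F) =
      rMat n F * shtMat (pre n) (lst n) M * rMat n F := by
  rw [shtL_apply, rD_inv]
  rfl

end Cfsg.Agent.Lib.Helper1.DBN
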