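import Mathlib
import Cfsg.Agent.Lib.Helper1.DBN3
import Cfsg.Agent.Lib.Helper13.OrthPlusFam

/-!
# Type `D_{n+2}`: the family character and membership in `Ω`
-/

set_option autoImplicit false
set_option linter.unusedSectionVars false

namespace Cfsg.Agent.Lib.Helper1.DBN

open Matrix Cfsg.Agent.Lib.Helper14.MatBN Cfsg.Agent.Lib.Helper14.SpBN Cfsg.Agent.Lib.Helper6
  Cfsg.Agent.Lib.Helper14.TriMono Cfsg.Agent.Lib.Helper1.OBN Cfsg.Agent.Lib.Helper15 Module

variable {n : ℕ} {F : Type*} [Field F]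

theorem hcoeD : ⇑(QD n F) = Cfsg.quadFormPlus (n + 1 + 1) F :=
  funext (QPlus_apply F (n + 1 + 1))

theorem isoGroup_eq :
    Cfsg.isometryGroup F ⇑(QD n F) = Cfsg.isometryGroup F (Cfsg.quadFormPlus (n + 1 + 1) F) := by
  rw [hcoeD]

/-- the family character on the isometry group -/
noncomputable def famD (n : ℕ) (F : Type*) [Field F] : DG n F →* ℤˣ :=
  (famHom (n + 1 + 1) F).comp (Subgroup.inclusion (le_of_eq isoGroup_eq))

/-- the dimension defining the family character -/
noncomputable def famDim (g : GL (DIdx n) F) : ℕ :=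
  finrank F ↥(plusE (n + 1 + 1) F ⊓ glMap g (plusE (n + 1 + 1) F))

theorem famD_apply (g : DG n F) : famD n F g = (-1) ^ (n + 1 + 1 - famDim g.1) := rfl

theorem famD_eq_one_of_mem (g : DG n F) (hg : g ∈ Cfsg.Omega F ⇑(QD n F)) : famD n F g = 1 := by
  have : g ∈ (famD n F).ker := Abelianization.commutator_subset_ker (famD n F) hg
  exact this

theorem omega_transport {ι : Type} [Fintype ι] [DecidableEq ι] {Q Q' : (ι → F) → F} (h : Q = Q')
    (g : GL ι F) (hg : g ∈ Cfsg.isometryGroup F Q) :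
    (⟨g, hg⟩ : ↥(Cfsg.isometryGroup F Q)) ∈ Cfsg.Omega F Q ↔
      (⟨g, h ▸ hg⟩ : ↥(Cfsg.isometryGroup F Q')) ∈ Cfsg.Omega F Q' := by
  subst h
  rfl

/-- in characteristic two `Ω` is the kernel of the family character -/
theorem mem_Omega_of_famD [Fintype F] [CharP F 2] (hqm : Fintype.card F ≠ 2 ∨ n ≠ 0)
    (g : DG n F) (hg : famD n F g = 1) : g ∈ Cfsg.Omega F ⇑(QD n F) := by
  have h1 := (omega_transport (hcoeD (n := n) (F := F)) g.1 g.2).mpr
  apply h1
  rw [Cfsg.Agent.Lib.Helper13.mem_Omega_iff_famExp (n + 1 + 1) (by omega)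
    (by rcases hqm with h | h; exact Or.inl h; exact Or.inr (by omega))]
  rw [famD_apply] at hg
  exact (neg_one_pow_eq_one_iff_even (by decide)).1 hg

/-- matrices with vanishing lower left block stabilise the subspace `E` -/
theorem famDim_of_block (g : GL (DIdx n) F)
    (hg : ∀ i j, (g : Matrix (DIdx n) (DIdx n) F) (fD i) (eD j) = 0) :
    famDim g = n + 1 + 1 := by
  have : glMap g (plusE (n + 1 + 1) F) = plusE (n + 1 + 1) F := by
    apply Submodule.eq_of_le_of_finrank_eq
    · intro w hw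
      obtain ⟨v, hv, rfl⟩ := (mem_glMap g _ w).1 hw
      rw [mem_plusE] at hv ⊢
      intro i
      rw [Matrix.mulVec, dotProduct, Fintype.sum_sum_type]
      have e1 : ∀ j, (g : Matrix (DIdx n) (DIdx n) F) (Sum.inr i) (Sum.inl j) * v (Sum.inl j) = 0 :=
        fun j => by rw [hg i j, zero_mul]
      have e2 : ∀ j, (g : Matrix (DIdx n) (DIdx n) F) (Sum.inr i) (Sum.inr j) * v (Sum.inr j) = 0 :=
        fun j => by rw [hv j, mul_zero]
      simp only [e1, e2, Finset.sum_const_zero, add_zero]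
    · rw [finrank_glMap]
  unfold famDim
  rw [this, inf_idem, finrank_plusE]

theorem famD_of_block (g : DG n F)
    (hg : ∀ i j, ((g.1 : GL (DIdx n) F) : Matrix (DIdx n) (DIdx n) F) (fD i) (eD j) = 0) :
    famD n F g = 1 := by
  rw [famD_apply, famDim_of_block g.1 hg, Nat.sub_self, pow_zero]

end Cfsg.Agent.Lib.Helper1.DBN
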