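import Mathlib
import Cfsg.Agent.Lib.Helper1.DBN4

/-!
# Type `D_{n+2}`: the reflection swapping `e_{n+1}` and `f_{n+1}` does not lie in `Ω`
-/

set_option autoImplicit false
set_option linter.unusedSectionVars false

namespace Cfsg.Agent.Lib.Helper1.DBN

open Matrix Cfsg.Agent.Lib.Helper14.MatBN Cfsg.Agent.Lib.Helper14.SpBN Cfsg.Agent.Lib.Helper6
  Cfsg.Agent.Lib.Helper14.TriMono Cfsg.Agent.Lib.Helper1.OBN Cfsg.Agent.Lib.Helper15 Module

variable {n : ℕ} {F : Type*} [Field F]

theorem piL_piL (x : DIdx n) : piL (n + 1) (piL (n + 1) x) = x := by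
  have := congrArg (fun f : Equiv.Perm (DIdx n) => f x) (piL_sq (n := n + 1))
  simpa using this

theorem rMat_mulVec_mulVec (v : DIdx n → F) : rMat n F *ᵥ (rMat n F *ᵥ v) = v := by
  rw [Matrix.mulVec_mulVec, rMat_mul_self, Matrix.one_mulVec]

theorem mem_glMap_rD (w : DIdx n → F) :
    w ∈ glMap (rD n F).1 (plusE (n + 1 + 1) F) ↔
      w (eD (lst n)) = 0 ∧ ∀ i, i ≠ lst n → w (fD i) = 0 := by
  rw [mem_glMap]
  constructor
  · rintro ⟨v, hv, rfl⟩
    rw [mem_plusE] at hv
    refine ⟨?_, fun i hi => ?_⟩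
    · show (rMat n F *ᵥ v) (eD (lst n)) = 0
      rw [rMat_mulVec, piL_inl, if_pos rfl]
      exact hv _
    · show (rMat n F *ᵥ v) (fD i) = 0
      rw [rMat_mulVec, piL_inr, if_neg hi]
      exact hv _
  · rintro ⟨h1, h2⟩
    refine ⟨rMat n F *ᵥ w, ?_, rMat_mulVec_mulVec w⟩
    rw [mem_plusE]
    intro i
    rw [rMat_mulVec, piL_inr]
    by_cases hi : i = lst n
    · rw [if_pos hi]
      exact h1
    · rw [if_neg hi]
      exact h2 i hi

theorem famDim_rD : famDim (rD n F).1 + 1 = n + 1 + 1 := by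
  set E := plusE (n + 1 + 1) F with hE
  set R := glMap (rD n F).1 E with hR
  set S : Submodule F (DIdx n → F) := Submodule.span F {dv (eD (lst n))} with hS
  have hx1 : (dv (eD (lst n)) : DIdx n → F) ∈ E := by
    rw [hE, mem_plusE]
    intro i
    exact dv_ne (by simp)
  have hne : (dv (eD (lst n)) : DIdx n → F) ≠ 0 := by
    intro h
    have := congrFun h (eD (lst n))
    rw [dv_same] at this
    exact one_ne_zero this
  have hinf : (E ⊓ R) ⊓ S = ⊥ := by
    rw [eq_bot_iff]
    rintro w ⟨⟨-, hwR⟩, hwS⟩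
    obtain ⟨a, rfl⟩ := Submodule.mem_span_singleton.mp hwS
    have h1 := ((mem_glMap_rD _).mp hwR).1
    rw [Pi.smul_apply, dv_same, smul_eq_mul, mul_one] at h1
    rw [h1, zero_smul]
    exact Submodule.zero_mem _
  have hsup : (E ⊓ R) ⊔ S = E := by
    apply le_antisymm
    · apply sup_le inf_le_left
      rw [hS, Submodule.span_singleton_le_iff_mem]
      exact hx1
    · intro v hv
      rw [Submodule.mem_sup]
      refine ⟨v - v (eD (lst n)) • dv (eD (lst n)), ?_, v (eD (lst n)) • dv (eD (lst n)),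
        Submodule.smul_mem _ _ (Submodule.mem_span_singleton_self _), by abel⟩
      have hv' := (mem_plusE v).mp hv
      refine ⟨E.sub_mem hv (E.smul_mem _ hx1), ?_⟩
      show _ ∈ glMap (rD n F).1 (plusE (n + 1 + 1) F)
      rw [mem_glMap_rD]
      refine ⟨?_, fun i _ => ?_⟩
      · rw [Pi.sub_apply, Pi.smul_apply, dv_same, smul_eq_mul, mul_one, sub_self]
      · rw [Pi.sub_apply, Pi.smul_apply, hv' i, dv_ne (by simp), smul_zero, sub_zero]
  have key := Submodule.finrank_sup_add_finrank_inf_eq (E ⊓ R) S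
  rw [hsup, hinf, finrank_bot, add_zero, hS, finrank_span_singleton hne, hE, finrank_plusE] at key
  unfold famDim
  exact key.symm

theorem famD_rD : famD n F (rD n F) = -1 := by
  rw [famD_apply]
  have := famDim_rD (n := n) (F := F)
  have e : n + 1 + 1 - famDim (rD n F).1 = 1 := by omega
  rw [e, pow_one]

/-- an isometry mapping the lines `⟨e_l⟩`, `l ≤ n`, to themselves and `e_{n+1}` to `⟨f_{n+1}⟩` does
not lie in `Ω` -/
theorem not_mem_Omega_of_swap (g : DG n F) (c : Fin (n + 2) → F) (b : F)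
    (h1 : ∀ l, l ≠ lst n → gact (QD n F) g (dv (eD l)) = c l • dv (eD l))
    (h2 : gact (QD n F) g (dv (eD (lst n))) = b • dv (fD (lst n))) :
    g ∉ Cfsg.Omega F ⇑(QD n F) := by
  intro hg
  have e1 := famD_eq_one_of_mem g hg
  have e2 : famD n F (rD n F * g) = 1 := by
    apply famD_of_block
    intro i j
    rw [← dact_apply, gact_mul]
    by_cases hj : j = lst n
    · rw [hj, h2, gact_smul]
      show (b • (rMat n F *ᵥ dv (fD (lst n)))) (fD i) = 0
      rw [Pi.smul_apply, rMat_mulVec, piL_inr]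
      by_cases hi : i = lst n
      · rw [if_pos hi, dv_ne (by simp), smul_zero]
      · rw [if_neg hi, dv_ne (by simpa using hi), smul_zero]
    · rw [h1 j hj, gact_smul]
      show (c j • (rMat n F *ᵥ dv (eD j))) (fD i) = 0
      rw [Pi.smul_apply, rMat_mulVec, piL_inr]
      by_cases hi : i = lst n
      · rw [if_pos hi, dv_ne (by simpa using fun h => hj h.symm), smul_zero]
      · rw [if_neg hi, dv_ne (by simp), smul_zero]
  rw [map_mul, famD_rD, e1, mul_one] at e2
  exact absurd e2 (by decide)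

end Cfsg.Agent.Lib.Helper1.DBN
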