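import Mathlib
import Cfsg.Agent.Lib.Helper1.DBN5

/-!
# Type `D_{n+2}`: unipotent elements lie in `Ω`, the group `Ω` and its root elements
-/

set_option autoImplicit false
set_option linter.unusedSectionVars false

namespace Cfsg.Agent.Lib.Helper1.DBN

open Matrix Cfsg.Agent.Lib.Helper14.MatBN Cfsg.Agent.Lib.Helper14.SpBN Cfsg.Agent.Lib.Helper6
  Cfsg.Agent.Lib.Helper14.TriMono Cfsg.Agent.Lib.Helper1.OBN Cfsg.Agent.Lib.Helper15 Module

variable {n : ℕ} {F : Type*} [Field F] [Fintype F]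

theorem index_OmegaD (h2 : (2 : F) ≠ 0) : (Cfsg.Omega F ⇑(QD n F)).index = 4 := by
  classical
  apply index_Omega' (QD n F) h2 (nondegenerate_QPlus F (n + 1 + 1))
  simp only [Fintype.card_sum, Fintype.card_fin]
  omega

/-- elements of `p`-power order with vanishing lower left block lie in `Ω` -/
theorem mem_Omega_of_pow_block (p : ℕ) [hp : Fact p.Prime] [CharP F p]
    (hqm : Fintype.card F ≠ 2 ∨ n ≠ 0) (g : DG n F) (k : ℕ) (hg : g ^ (p ^ k) = 1)
    (hblock : ∀ i j, ((g.1 : GL (DIdx n) F) : Matrix (DIdx n) (DIdx n) F) (fD i) (eD j) = 0) :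
    g ∈ Cfsg.Omega F ⇑(QD n F) := by
  by_cases h2 : (2 : F) = 0
  · have : CharP F 2 := CharTwo.of_one_ne_zero_of_two_eq_zero one_ne_zero h2
    exact mem_Omega_of_famD hqm g (famD_of_block g hblock)
  · have hp2 : p ≠ 2 := by
      rintro rfl
      apply h2
      have h1 : ((2 : ℕ) : F) = 0 := CharP.cast_eq_zero F 2
      exact_mod_cast h1
    have hcop : Nat.Coprime 4 (orderOf g) := by
      have hdvd : orderOf g ∣ p ^ k := orderOf_dvd_of_pow_eq_one hg
      apply Nat.Coprime.coprime_dvd_right hdvd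
      apply Nat.Coprime.pow_right
      have h4 : (4 : ℕ) = 2 ^ 2 := by norm_num
      rw [h4]
      apply Nat.Coprime.pow_left
      rw [Nat.coprime_primes Nat.prime_two hp.out]
      exact fun h => hp2 h.symm
    obtain ⟨m, hm⟩ := exists_pow_eq_self_of_coprime hcop
    rw [← hm]
    apply Subgroup.pow_mem
    have := Subgroup.pow_index_mem (Cfsg.Omega F ⇑(QD n F)) g
    rwa [index_OmegaD h2] at this

/-- unitriangular isometries lie in `Ω` -/
theorem mem_Omega_of_unitriD (p : ℕ) [Fact p.Prime] [CharP F p]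
    (hqm : Fintype.card F ≠ 2 ∨ n ≠ 0) (g : DG n F)
    (hU : ((g.1 : GL (DIdx n) F) : Matrix (DIdx n) (DIdx n) F).BlockTriangular (rho (n + 1)))
    (hd : ∀ i, ((g.1 : GL (DIdx n) F) : Matrix (DIdx n) (DIdx n) F) i i = 1) :
    g ∈ Cfsg.Omega F ⇑(QD n F) := by
  obtain ⟨k, hk⟩ := unitri_pow_eq_one (rho (n + 1)) rho_inj p hU hd
  apply mem_Omega_of_pow_block p hqm g k
  · apply Subtype.ext
    apply Units.ext
    rw [Subgroup.coe_pow, Units.val_pow_eq_pow_val]
    exact hk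
  · intro i j
    apply hU
    simp only [rho_inl, rho_inr]
    have := i.2; have := j.2
    omega

/-- the unipotent elements of the rank one subgroups lie in `Ω` -/
theorem shtD_mem_Omega (p : ℕ) [Fact p.Prime] [CharP F p]
    (hqm : Fintype.card F ≠ 2 ∨ n ≠ 0) (a b : Fin (n + 2)) (hab : a ≠ b) (M : GL (Fin 2) F)
    (hM : M ^ p = 1) : shtD a b hab M ∈ Cfsg.Omega F ⇑(QD n F) := by
  apply mem_Omega_of_pow_block p hqm _ 1
  · rw [pow_one, ← map_pow, hM, map_one]
  · intro i j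
    rfl

theorem shtL_mem_Omega (p : ℕ) [Fact p.Prime] [CharP F p]
    (hqm : Fintype.card F ≠ 2 ∨ n ≠ 0) (M : GL (Fin 2) F)
    (hM : M ^ p = 1) : shtL n F M ∈ Cfsg.Omega F ⇑(QD n F) := by
  rw [shtL_apply]
  exact (inferInstance : (Cfsg.Omega F ⇑(QD n F)).Normal).conj_mem _
    (shtD_mem_Omega p hqm _ _ _ M hM) _

end Cfsg.Agent.Lib.Helper1.DBN
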