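import Mathlib
import Cfsg.Agent.Lib.Helper1.DBN6

/-!
# Type `D_{n+2}`: the group `Ω`, its root elements and reflections
-/

set_option autoImplicit false
set_option linter.unusedSectionVars false

namespace Cfsg.Agent.Lib.Helper1.DBN

open Matrix Cfsg.Agent.Lib.Helper14.MatBN Cfsg.Agent.Lib.Helper14.SpBN Cfsg.Agent.Lib.Helper6
  Cfsg.Agent.Lib.Helper14.TriMono Cfsg.Agent.Lib.Helper1.OBN Cfsg.Agent.Lib.Helper15 Module

variable {n : ℕ} {F : Type*} [Field F]

/-- the group `Ω` -/
abbrev DmG (n : ℕ) (F : Type*) [Field F] : Type _ := ↥(Cfsg.Omega F ⇑(QD n F))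

/-- the matrix of an element -/
noncomputable def matD (n : ℕ) (F : Type*) [Field F] : DmG n F →* Matrix (DIdx n) (DIdx n) F :=
  (Units.coeHom (Matrix (DIdx n) (DIdx n) F)).comp
    ((Cfsg.isometryGroup F ⇑(QD n F)).subtype.comp (Cfsg.Omega F ⇑(QD n F)).subtype)

theorem matD_apply (g : DmG n F) :
    matD n F g = ((g.1.1 : GL (DIdx n) F) : Matrix (DIdx n) (DIdx n) F) := rfl

theorem matD_injective : Function.Injective (matD n F) := by
  intro g h e
  apply Subtype.ext
  apply Subtype.ext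
  apply Units.ext
  exact e

theorem matD_form (g : DmG n F) (x : DIdx n → F) : QD n F (matD n F g *ᵥ x) = QD n F x :=
  g.1.2 x x

/-- the permutation `piD` as a conjugate -/
theorem piD_eq : piD n = piL (n + 1) * piS (Fin.last n) * piL (n + 1) := by
  ext x
  rw [Equiv.Perm.mul_apply, Equiv.Perm.mul_apply]
  have hS_e : ∀ i, piS (Fin.last n) (eD i) = eD (Equiv.swap (pre n) (lst n) i) := by
    intro i
    rw [piS_inl, Fin.succ_last]
  have hS_f : ∀ i, piS (Fin.last n) (fD i) = fD (Equiv.swap (pre n) (lst n) i) := by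
    intro i
    rw [piS_inr, Fin.succ_last]
  rcases x with i | i
  · rw [piD_e, piL_inl]
    by_cases h1 : i = lst n
    · subst h1
      rw [if_neg pre_ne_lst.symm, if_pos rfl, if_pos rfl, hS_f, Equiv.swap_apply_right, piL_inr,
        if_neg pre_ne_lst]
    · by_cases h2 : i = pre n
      · subst h2
        rw [if_pos rfl, if_neg h1, hS_e, Equiv.swap_apply_left, piL_inl, if_pos rfl]
      · rw [if_neg h2, if_neg h1, if_neg h1, hS_e, Equiv.swap_apply_of_ne_of_ne h2 h1, piL_inl,
          if_neg h1]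
  · rw [piD_f, piL_inr]
    by_cases h1 : i = lst n
    · subst h1
      rw [if_pos rfl, if_pos rfl, hS_e, Equiv.swap_apply_right, piL_inl, if_neg pre_ne_lst]
    · by_cases h2 : i = pre n
      · subst h2
        rw [if_neg h1, if_pos rfl, if_neg h1, hS_f, Equiv.swap_apply_left, piL_inr, if_pos rfl]
      · rw [if_neg h1, if_neg h2, if_neg h1, hS_f, Equiv.swap_apply_of_ne_of_ne h2 h1, piL_inr,
          if_neg h1]

/-- entries of a conjugate by `rMat` -/
theorem rMat_conj_apply (X : Matrix (DIdx n) (DIdx n) F) (x y : DIdx n) :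
    (rMat n F * X * rMat n F) x y = X (piL (n + 1) x) (piL (n + 1) y) := by
  rw [rMat_mono.conj_entry rMat_mul_self, rMat_apply, rMat_apply, if_pos (piL_piL x).symm,
    if_pos rfl, one_mul, mul_one]

theorem rMat_conj_single (i j : DIdx n) (t : F) :
    rMat n F * Matrix.single i j t * rMat n F =
      Matrix.single (piL (n + 1) i) (piL (n + 1) j) t := by
  ext x y
  rw [rMat_conj_apply, Matrix.single_apply, Matrix.single_apply]
  have e1 : i = piL (n + 1) x ↔ piL (n + 1) i = x := by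
    constructor
    · rintro rfl; exact piL_piL x
    · rintro rfl; exact (piL_piL i).symm
  have e2 : j = piL (n + 1) y ↔ piL (n + 1) j = y := by
    constructor
    · rintro rfl; exact piL_piL y
    · rintro rfl; exact (piL_piL j).symm
  simp only [e1, e2]

theorem rMat_conj_one : rMat n F * (1 : Matrix (DIdx n) (DIdx n) F) * rMat n F = 1 := by
  rw [Matrix.mul_one, rMat_mul_self]

/-- the last root elements as sums of elementary matrices -/
theorem rMat_conj_gT (t : F) :
    rMat n F * shtMat (pre n) (lst n) (gT t) * rMat n F =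
      1 + Matrix.single (eD (pre n)) (fD (lst n)) t - Matrix.single (eD (lst n)) (fD (pre n)) t := by
  rw [shtMat_gT pre_ne_lst, Matrix.mul_sub, Matrix.mul_add, Matrix.sub_mul, Matrix.add_mul,
    rMat_conj_one, rMat_conj_single, rMat_conj_single, piL_inl, piL_inl, piL_inr, piL_inr,
    if_neg pre_ne_lst, if_pos rfl, if_pos rfl, if_neg pre_ne_lst]

theorem rMat_conj_gN_mono : IsMono (rMat n F * shtMat (pre n) (lst n) (gN : GL (Fin 2) F) * rMat n F)
    (piD n) := by
  rw [piD_eq]
  have h := shtMat_gN_mono (F := F) (Fin.last n)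
  rw [Fin.succ_last] at h
  exact (rMat_mono.mul h).mul rMat_mono

section Elts

variable [Fintype F] (p : ℕ) [Fact p.Prime] [CharP F p] (hqm : Fintype.card F ≠ 2 ∨ n ≠ 0)

/-- positive root elements of the roots `ε_k - ε_{k+1}` -/
noncomputable def dxS (k : Fin (n + 1)) (t : F) : DmG n F :=
  ⟨shtD k.castSucc k.succ (castSucc_ne_succ k) (gT t),
    shtD_mem_Omega p hqm _ _ _ _ (gT_pow_char p t)⟩

/-- negative root elements of the roots `ε_k - ε_{k+1}` -/
noncomputable def dyS (k : Fin (n + 1)) (t : F) : DmG n F :=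
  ⟨shtD k.castSucc k.succ (castSucc_ne_succ k) (gW * gT t * gW⁻¹),
    shtD_mem_Omega p hqm _ _ _ _ (by rw [conj_pow, gT_pow_char, mul_one, mul_inv_cancel])⟩

/-- the reflections of the roots `ε_k - ε_{k+1}` -/
noncomputable def dsS (k : Fin (n + 1)) : DmG n F :=
  dxS p hqm k 1 * (dyS p hqm k 1)⁻¹ * dxS p hqm k 1

/-- positive root elements of the root `ε_n + ε_{n+1}` -/
noncomputable def dxL (t : F) : DmG n F :=
  ⟨shtL n F (gT t), shtL_mem_Omega p hqm _ (gT_pow_char p t)⟩

/-- negative root elements of the root `ε_n + ε_{n+1}` -/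
noncomputable def dyL (t : F) : DmG n F :=
  ⟨shtL n F (gW * gT t * gW⁻¹),
    shtL_mem_Omega p hqm _ (by rw [conj_pow, gT_pow_char, mul_one, mul_inv_cancel])⟩

/-- the reflection of the root `ε_n + ε_{n+1}` -/
noncomputable def dsL : DmG n F := dxL p hqm 1 * (dyL p hqm 1)⁻¹ * dxL p hqm 1

theorem coe_dxS (k : Fin (n + 1)) (t : F) :
    (dxS p hqm k t).1 = shtD k.castSucc k.succ (castSucc_ne_succ k) (gT t) := rfl

theorem coe_dsS (k : Fin (n + 1)) :
    (dsS p hqm k).1 = shtD k.castSucc k.succ (castSucc_ne_succ k) gN := by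
  unfold dsS
  rw [Subgroup.coe_mul, Subgroup.coe_mul, Subgroup.coe_inv]
  show shtD _ _ _ (gT 1) * (shtD _ _ _ (gW * gT 1 * gW⁻¹))⁻¹ * shtD _ _ _ (gT 1) = _
  rw [← map_inv, ← map_mul, ← map_mul, ← gN_eq]

theorem coe_dxL (t : F) : (dxL p hqm t).1 = shtL n F (gT t) := rfl

theorem coe_dsL : (dsL (n := n) (F := F) p hqm).1 = shtL n F gN := by
  unfold dsL
  rw [Subgroup.coe_mul, Subgroup.coe_mul, Subgroup.coe_inv]
  show shtL n F (gT 1) * (shtL n F (gW * gT 1 * gW⁻¹))⁻¹ * shtL n F (gT 1) = _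
  rw [← map_inv, ← map_mul, ← map_mul, ← gN_eq]

theorem mat_dxS (k : Fin (n + 1)) (t : F) :
    matD n F (dxS p hqm k t) = 1 + Matrix.single (eD k.castSucc) (eD k.succ) t -
      Matrix.single (fD k.succ) (fD k.castSucc) t := by
  show shtMat k.castSucc k.succ (gT t) = _
  rw [shtMat_gT (castSucc_ne_succ k)]

theorem mat_dxS_raw (k : Fin (n + 1)) (t : F) :
    matD n F (dxS p hqm k t) = shtMat k.castSucc k.succ (gT t) := rfl

theorem mat_dsS (k : Fin (n + 1)) :
    matD n F (dsS p hqm k) = shtMat k.castSucc k.succ gN := by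
  rw [matD_apply, coe_dsS]
  rfl

theorem mat_dxL (t : F) :
    matD n F (dxL p hqm t) =
      1 + Matrix.single (eD (pre n)) (fD (lst n)) t - Matrix.single (eD (lst n)) (fD (pre n)) t := by
  rw [matD_apply, coe_dxL, coe_shtL, rMat_conj_gT]

theorem mat_dsL :
    matD n F (dsL (n := n) (F := F) p hqm) =
      rMat n F * shtMat (pre n) (lst n) (gN : GL (Fin 2) F) * rMat n F := by
  rw [matD_apply, coe_dsL, coe_shtL]

theorem dxS_inv (k : Fin (n + 1)) (t : F) : (dxS p hqm k t)⁻¹ = dxS p hqm k (-t) := by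
  apply Subtype.ext
  rw [Subgroup.coe_inv, coe_dxS, coe_dxS, ← map_inv, gT_inv]

theorem dxL_inv (t : F) : (dxL (n := n) p hqm t)⁻¹ = dxL p hqm (-t) := by
  apply Subtype.ext
  rw [Subgroup.coe_inv, coe_dxL, coe_dxL, ← map_inv, gT_inv]

theorem dxS_zero (k : Fin (n + 1)) : dxS p hqm k 0 = 1 := by
  apply Subtype.ext
  rw [coe_dxS, gT_zero, map_one]
  rfl

theorem dxL_zero : dxL (n := n) (F := F) p hqm 0 = 1 := by
  apply Subtype.ext
  rw [coe_dxL, gT_zero, map_one]
  rfl

/-- the reflections -/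
noncomputable def sKD : Fin (n + 1) ⊕ Unit → DmG n F :=
  Sum.elim (dsS p hqm) (fun _ => dsL p hqm)

/-- the root subgroups -/
noncomputable def XKD : Fin (n + 1) ⊕ Unit → Set (DmG n F) :=
  Sum.elim (fun k => Set.range (dxS p hqm k)) (fun _ => Set.range (dxL p hqm))

theorem d_s_mono (k : Fin (n + 1) ⊕ Unit) : IsMono (matD n F (sKD p hqm k)) (piKD k) := by
  rcases k with k | k
  · show IsMono (matD n F (dsS p hqm k)) (piS k)
    rw [mat_dsS]
    exact shtMat_gN_mono k
  · show IsMono (matD n F (dsL p hqm)) (piD n)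
    rw [mat_dsL]
    exact rMat_conj_gN_mono

end Elts

end Cfsg.Agent.Lib.Helper1.DBN
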