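import Mathlib
import Cfsg.Agent.Lib.Helper1.DBN7

/-!
# Type `D_{n+2}`: triangular isometries
-/

set_option autoImplicit false
set_option linter.unusedSectionVars false

namespace Cfsg.Agent.Lib.Helper1.DBN

open Matrix Cfsg.Agent.Lib.Helper14.MatBN Cfsg.Agent.Lib.Helper14.SpBN Cfsg.Agent.Lib.Helper6
  Cfsg.Agent.Lib.Helper14.TriMono Cfsg.Agent.Lib.Helper1.OBN

variable {n : ℕ} {F : Type*} [Field F]

theorem dmulVec_single_apply (M : Matrix (DIdx n) (DIdx n) F) (j r : DIdx n) :
    (M *ᵥ Pi.single j 1) r = M r j := by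
  rw [Matrix.mulVec_single_one]
  rfl

theorem dQ_col (M : Matrix (DIdx n) (DIdx n) F) (j : DIdx n) :
    QD n F (M *ᵥ Pi.single j 1) = ∑ i : Fin (n + 2), M (eD i) j * M (fD i) j := by
  rw [QD_apply]
  unfold hyp
  simp only [dmulVec_single_apply]

theorem dpolar_col (M : Matrix (DIdx n) (DIdx n) F) (a b : DIdx n) :
    QuadraticMap.polar (⇑(QD n F)) (M *ᵥ Pi.single a 1) (M *ᵥ Pi.single b 1) =
      ∑ i : Fin (n + 2), (M (eD i) a * M (fD i) b + M (fD i) a * M (eD i) b) := by
  rw [polar_QD]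
  simp only [dmulVec_single_apply]

theorem dpolar_iso {M : Matrix (DIdx n) (DIdx n) F} (hQ : ∀ x, QD n F (M *ᵥ x) = QD n F x)
    (x y : DIdx n → F) :
    QuadraticMap.polar (⇑(QD n F)) (M *ᵥ x) (M *ᵥ y) = QuadraticMap.polar (⇑(QD n F)) x y := by
  unfold QuadraticMap.polar
  rw [← Matrix.mulVec_add, hQ, hQ, hQ]

section Tri

variable {M : Matrix (DIdx n) (DIdx n) F} (hU : M.BlockTriangular (rho (n + 1)))
include hU

theorem dtri_f_e (l i : Fin (n + 2)) : M (fD l) (eD i) = 0 := by
  apply hU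
  simp only [rho_inl, rho_inr]
  have := i.2; have := l.2; omega

theorem dtri_e_e {l i : Fin (n + 2)} (h : i < l) : M (eD l) (eD i) = 0 := by
  apply hU
  simpa using h

theorem dtri_f_f {l i : Fin (n + 2)} (h : l < i) : M (fD l) (fD i) = 0 := by
  apply hU
  simp only [rho_inr]
  have := i.2; have := l.2
  have : l.val < i.val := h
  omega

variable (hQ : ∀ x, QD n F (M *ᵥ x) = QD n F x)
include hQ

/-- the diagonal relation -/
theorem dtri_diag (i : Fin (n + 2)) : M (eD i) (eD i) * M (fD i) (fD i) = 1 := by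
  have h := dpolar_iso hQ (Pi.single (eD i) 1) (Pi.single (fD i) 1)
  rw [dpolar_col, polar_dv_f, Pi.single_eq_same, Finset.sum_eq_single i] at h
  · rwa [dtri_f_e hU, zero_mul, add_zero] at h
  · intro l _ hl
    rw [dtri_f_e hU, zero_mul, add_zero]
    rcases lt_or_gt_of_ne hl with h1 | h1
    · rw [dtri_f_f hU h1, mul_zero]
    · rw [dtri_e_e hU h1, zero_mul]
  · intro h
    exact absurd (Finset.mem_univ _) h

theorem dtri_diag_e_ne (i : Fin (n + 2)) : M (eD i) (eD i) ≠ 0 :=
  left_ne_zero_of_mul (by rw [dtri_diag hU hQ i]; exact one_ne_zero)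

theorem dtri_diag_f_ne (i : Fin (n + 2)) : M (fD i) (fD i) ≠ 0 :=
  right_ne_zero_of_mul (by rw [dtri_diag hU hQ i]; exact one_ne_zero)

/-- the relation between adjacent columns -/
theorem dtri_adj (k : Fin (n + 1)) :
    M (eD k.castSucc) (eD k.succ) * M (fD k.castSucc) (fD k.castSucc) +
      M (eD k.succ) (eD k.succ) * M (fD k.succ) (fD k.castSucc) = 0 := by
  have h := dpolar_iso hQ (Pi.single (eD k.succ) 1) (Pi.single (fD k.castSucc) 1)
  rw [dpolar_col, polar_dv_f, Pi.single_eq_of_ne,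
    Finset.sum_eq_add k.castSucc k.succ (castSucc_ne_succ k)] at h
  · rwa [dtri_f_e hU, dtri_f_e hU, zero_mul, zero_mul, add_zero, add_zero] at h
  · intro l _ hl
    rw [dtri_f_e hU, zero_mul, add_zero]
    have h1 : l.val ≠ k.val := fun e => hl.1 (Fin.ext e)
    have h2 : l.val ≠ k.val + 1 := fun e => hl.2 (Fin.ext (by simpa using e))
    rcases lt_or_ge l.val k.val with h3 | h3
    · rw [dtri_f_f hU (show l < k.castSucc from h3), mul_zero]
    · have h4 : k.succ < l := by
        rw [Fin.lt_def]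
        simp only [Fin.val_succ]
        omega
      rw [dtri_e_e hU h4, zero_mul]
  · intro h
    exact absurd (Finset.mem_univ _) h
  · intro h
    exact absurd (Finset.mem_univ _) h
  · intro h
    exact castSucc_ne_succ k (Sum.inl_injective h)

/-- triangular isometries vanish at `(e_{n+1}, f_{n+1})` -/
theorem dtri_zer : M (eD (lst n)) (fD (lst n)) = 0 := by
  have h := hQ (Pi.single (fD (lst n)) 1)
  rw [dQ_col, QD_single_f, Finset.sum_eq_single (lst n)] at h
  · exact (mul_eq_zero.mp h).resolve_right (dtri_diag_f_ne hU hQ _)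
  · intro l _ hl
    have h1 : l < lst n := lt_of_le_of_ne (Fin.le_last l) hl
    rw [dtri_f_f hU h1, mul_zero]
  · intro h
    exact absurd (Finset.mem_univ _) h

/-- the entry at `(e_n, f_n)` -/
theorem dtri_pre (h0 : M (eD (lst n)) (fD (pre n)) * M (fD (lst n)) (fD (pre n)) = 0) :
    M (eD (pre n)) (fD (pre n)) = 0 := by
  have h := hQ (Pi.single (fD (pre n)) 1)
  rw [dQ_col, QD_single_f, Finset.sum_eq_add (pre n) (lst n) pre_ne_lst, h0, add_zero] at h
  · exact (mul_eq_zero.mp h).resolve_right (dtri_diag_f_ne hU hQ _)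
  · intro l _ hl
    have h1 : l.val ≠ n := fun e => hl.1 (Fin.ext e)
    have h2 : l.val ≠ n + 1 := fun e => hl.2 (Fin.ext e)
    have h3 : l < pre n := by
      rw [Fin.lt_def, pre_val]
      have := l.2
      omega
    rw [dtri_f_f hU h3, mul_zero]
  · intro h
    exact absurd (Finset.mem_univ _) h
  · intro h
    exact absurd (Finset.mem_univ _) h

/-- the relation at the last root -/
theorem dtri_L :
    M (eD (pre n)) (fD (lst n)) * M (fD (pre n)) (fD (pre n)) +
      M (fD (lst n)) (fD (lst n)) * M (eD (lst n)) (fD (pre n)) = 0 := by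
  have h := dpolar_iso hQ (Pi.single (fD (lst n)) 1) (Pi.single (fD (pre n)) 1)
  rw [dpolar_col, polar_dv_f, Pi.single_eq_of_ne (by simp),
    Finset.sum_eq_add (pre n) (lst n) pre_ne_lst] at h
  · rw [dtri_zer hU hQ, zero_mul, zero_add,
      dtri_f_f hU (show pre n < lst n by rw [Fin.lt_def]; simp), zero_mul, add_zero] at h
    exact h
  · intro l _ hl
    have h1 : l.val ≠ n := fun e => hl.1 (Fin.ext e)
    have h2 : l.val ≠ n + 1 := fun e => hl.2 (Fin.ext e)
    have h3 : l < pre n := by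
      rw [Fin.lt_def, pre_val]
      have := l.2
      omega
    have h4 : l < lst n := lt_trans h3 (by rw [Fin.lt_def]; simp)
    rw [dtri_f_f hU h3, mul_zero, dtri_f_f hU h4, zero_mul, add_zero]
  · intro h
    exact absurd (Finset.mem_univ _) h
  · intro h
    exact absurd (Finset.mem_univ _) h

end Tri

end Cfsg.Agent.Lib.Helper1.DBN
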