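import Mathlib
import Cfsg.Agent.Lib.Helper1.DBN8

/-!
# Type `D_{n+2}`: the rank one data of `Ω⁺_{2n+4}(q)`
-/

set_option autoImplicit false
set_option linter.unusedSectionVars false

namespace Cfsg.Agent.Lib.Helper1.DBN

open Matrix Cfsg.Agent.Lib.Helper14.MatBN Cfsg.Agent.Lib.Helper14.SpBN Cfsg.Agent.Lib.Helper6
  Cfsg.Agent.Lib.Helper14.TriMono Cfsg.Agent.Lib.Helper1.OBN Cfsg.Agent.Lib.Helper1.MatBND

variable {n : ℕ} {F : Type*} [Field F]

/-- conjugation by `rMat` preserves triangularity of block diagonal triangular matrices -/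
theorem rconj_upper (X : Matrix (DIdx n) (DIdx n) F) (hX : X.BlockTriangular (rho (n + 1)))
    (hlr : ∀ i j, X (eD i) (fD j) = 0) (hrl : ∀ i j, X (fD i) (eD j) = 0) :
    (rMat n F * X * rMat n F).BlockTriangular (rho (n + 1)) := by
  intro x y hxy
  rw [rMat_conj_apply]
  rcases x with i | i <;> rcases y with j | j
  · have hji : j < i := by simpa using hxy
    have hj : j ≠ lst n := fun h => by
      rw [h] at hji
      exact absurd (Fin.le_last i) (not_le.mpr hji)
    rw [piL_inl, piL_inl, if_neg hj]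
    by_cases hi : i = lst n
    · rw [if_pos hi]
      exact hrl _ _
    · rw [if_neg hi]
      exact hX hxy
  · exfalso
    simp only [rho_inl, rho_inr] at hxy
    have := i.2; have := j.2
    omega
  · rw [piL_inr, piL_inl]
    by_cases hi : i = lst n <;> by_cases hj : j = lst n
    · rw [if_pos hi, if_pos hj]
      exact hlr _ _
    · rw [if_pos hi, if_neg hj]
      apply hX
      have : j < lst n := lt_of_le_of_ne (Fin.le_last j) hj
      simp only [rho_inl, lst_val]
      have h1 : j.val < n + 1 := this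
      omega
    · rw [if_neg hi, if_pos hj]
      apply hX
      have : i < lst n := lt_of_le_of_ne (Fin.le_last i) hi
      simp only [rho_inr, lst_val]
      have h1 : i.val < n + 1 := this
      omega
    · rw [if_neg hi, if_neg hj]
      exact hrl _ _
  · have hij : i < j := by
      simp only [rho_inr] at hxy
      have := i.2; have := j.2
      rw [Fin.lt_def]
      omega
    have hi : i ≠ lst n := fun h => by
      rw [h] at hij
      exact absurd (Fin.le_last j) (not_le.mpr hij)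
    rw [piL_inr, piL_inr, if_neg hi]
    by_cases hj : j = lst n
    · rw [if_pos hj]
      exact hrl _ _
    · rw [if_neg hj]
      exact hX hxy

section Setup

variable [Fintype F] (p : ℕ) [Fact p.Prime] [CharP F p] (hqm : Fintype.card F ≠ 2 ∨ n ≠ 0)

theorem d_X_upper (k : Fin (n + 1) ⊕ Unit) (x : DmG n F) (hx : x ∈ XKD p hqm k) :
    (matD n F x).BlockTriangular (rho (n + 1)) := by
  rcases k with k | k
  · obtain ⟨t, rfl⟩ := hx
    rw [mat_dxS_raw]
    exact shtMat_upper (castSucc_lt_succ' k) (gT t) (by rw [coe_gT]; simp)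
      (by rw [coe_gT_inv]; simp)
  · obtain ⟨t, rfl⟩ := hx
    rw [matD_apply, coe_dxL, coe_shtL]
    apply rconj_upper
    · exact shtMat_upper (by rw [Fin.lt_def]; simp) (gT t) (by rw [coe_gT]; simp)
        (by rw [coe_gT_inv]; simp)
    · intro i j; rfl
    · intro i j; rfl

theorem d_X_diag (k : Fin (n + 1) ⊕ Unit) (x : DmG n F) (hx : x ∈ XKD p hqm k) (i : DIdx n) :
    matD n F x i i = 1 := by
  rcases k with k | k
  · obtain ⟨t, rfl⟩ := hx
    rw [mat_dxS p hqm k t]
    rcases i with i | i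
    · simp only [Matrix.add_apply, Matrix.sub_apply, Matrix.single_apply, Matrix.one_apply_eq,
        Sum.inl.injEq, reduceCtorEq, false_and, if_false, sub_zero]
      rw [if_neg (fun h => castSucc_ne_succ k (h.1.trans h.2.symm)), add_zero]
    · simp only [Matrix.add_apply, Matrix.sub_apply, Matrix.single_apply, Matrix.one_apply_eq,
        Sum.inr.injEq, reduceCtorEq, false_and, if_false, add_zero]
      rw [if_neg (fun h => castSucc_ne_succ k (h.2.trans h.1.symm)), sub_zero]
  · obtain ⟨t, rfl⟩ := hx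
    rw [mat_dxL p hqm t]
    rcases i with i | i
    · simp [Matrix.add_apply, Matrix.sub_apply, Matrix.single_apply]
    · simp [Matrix.add_apply, Matrix.sub_apply, Matrix.single_apply]

theorem d_X_supp (k : Fin (n + 1) ⊕ Unit) (x : DmG n F) (hx : x ∈ XKD p hqm k) (u v : DIdx n)
    (huv : u ≠ v) (hne : matD n F x u v ≠ 0) : InPi (rhoD n) (piKD k) u v := by
  rcases k with k | k
  · obtain ⟨t, rfl⟩ := hx
    show InPi (rhoD n) (piS k) u v
    rw [inPiD_piS]
    rw [mat_dxS p hqm k t, Matrix.sub_apply, Matrix.add_apply, Matrix.one_apply_ne huv, zero_add,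
      Matrix.single_apply, Matrix.single_apply] at hne
    by_cases h1 : eD k.castSucc = u ∧ eD k.succ = v
    · exact Or.inl ⟨h1.1.symm, h1.2.symm⟩
    · by_cases h2' : fD k.succ = u ∧ fD k.castSucc = v
      · exact Or.inr ⟨h2'.1.symm, h2'.2.symm⟩
      · rw [if_neg h1, if_neg h2', sub_zero] at hne
        exact absurd rfl hne
  · obtain ⟨t, rfl⟩ := hx
    show InPi (rhoD n) (piD n) u v
    rw [inPiD_piD]
    rw [mat_dxL p hqm t, Matrix.sub_apply, Matrix.add_apply, Matrix.one_apply_ne huv, zero_add,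
      Matrix.single_apply, Matrix.single_apply] at hne
    by_cases h1 : eD (pre n) = u ∧ fD (lst n) = v
    · exact Or.inl ⟨h1.1.symm, h1.2.symm⟩
    · by_cases h2' : eD (lst n) = u ∧ fD (pre n) = v
      · exact Or.inr ⟨h2'.1.symm, h2'.2.symm⟩
      · rw [if_neg h1, if_neg h2', sub_zero] at hne
        exact absurd rfl hne

theorem d_X_ne (k : Fin (n + 1) ⊕ Unit) : ∃ x ∈ XKD p hqm k, x ≠ 1 := by
  rcases k with k | k
  · refine ⟨dxS p hqm k 1, ⟨1, rfl⟩, fun h => ?_⟩
    have h1 := congrArg (fun g : DmG n F => matD n F g (eD k.castSucc) (eD k.succ)) h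
    simp only [mat_dxS p hqm, map_one] at h1
    have hne : k.castSucc ≠ k.succ := castSucc_ne_succ k
    simp [Matrix.add_apply, Matrix.sub_apply, Matrix.single_apply, hne] at h1
  · refine ⟨dxL p hqm 1, ⟨1, rfl⟩, fun h => ?_⟩
    have h1 := congrArg (fun g : DmG n F => matD n F g (eD (pre n)) (fD (lst n))) h
    simp only [mat_dxL p hqm, map_one] at h1
    simp [Matrix.add_apply, Matrix.sub_apply, Matrix.single_apply] at h1

theorem d_zer (g : DmG n F) (hg : (matD n F g).BlockTriangular (rho (n + 1))) (u v : DIdx n)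
    (huv : u ≠ v) (h : rhoD n u = rhoD n v) : matD n F g u v = 0 := by
  rcases rhoD_eq huv h with ⟨rfl, rfl⟩ | ⟨rfl, rfl⟩
  · exact dtri_zer hg (matD_form g)
  · exact dtri_f_e hg _ _

theorem d_hA (k : Fin (n + 1) ⊕ Unit) (b : DmG n F)
    (hb : (matD n F b).BlockTriangular (rho (n + 1))) :
    ∃ x ∈ XKD p hqm k, ∀ u v, rhoD n u < rhoD n v → rhoD n (piKD k v) ≤ rhoD n (piKD k u) →
      matD n F (b * x⁻¹) u v = 0 := by
  have hQ := matD_form b
  rcases k with k | k
  · set t : F := matD n F b (eD k.castSucc) (eD k.succ) /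
      matD n F b (eD k.castSucc) (eD k.castSucc) with ht
    have hd := dtri_diag_e_ne hb hQ k.castSucc
    refine ⟨dxS p hqm k t, ⟨t, rfl⟩, ?_⟩
    have hU' : (matD n F (b * (dxS p hqm k t)⁻¹)).BlockTriangular (rho (n + 1)) := by
      rw [map_mul, dxS_inv]
      exact hb.mul (d_X_upper p hqm (Sum.inl k) _ ⟨-t, rfl⟩)
    have hQ' := matD_form (b * (dxS p hqm k t)⁻¹)
    have e0 : matD n F (b * (dxS p hqm k t)⁻¹) (eD k.castSucc) (eD k.succ) = 0 := by
      rw [dxS_inv, map_mul, mat_dxS p hqm, Matrix.mul_sub, Matrix.mul_add, Matrix.mul_one,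
        Matrix.sub_apply, Matrix.add_apply, Matrix.mul_single_apply_same,
        Matrix.mul_single_apply_of_ne (hbj := by simp), sub_zero, ht]
      field_simp
      ring
    have e1 : matD n F (b * (dxS p hqm k t)⁻¹) (fD k.succ) (fD k.castSucc) = 0 := by
      have h := dtri_adj hU' hQ' k
      rw [e0, zero_mul, zero_add] at h
      exact (mul_eq_zero.mp h).resolve_left (dtri_diag_e_ne hU' hQ' _)
    intro u v h1 h2
    rcases winv_piS k u v h1 h2 with ⟨rfl, rfl⟩ | ⟨rfl, rfl⟩ | ⟨rfl, rfl, rfl⟩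
    · exact e0
    · exact e1
    · apply dtri_pre hU' hQ'
      have : matD n F (b * (dxS p hqm (Fin.last n) t)⁻¹) (fD (lst n)) (fD (pre n)) = 0 := by
        have := e1
        rwa [Fin.succ_last] at this
      rw [this, mul_zero]
  · set t : F := matD n F b (eD (pre n)) (fD (lst n)) /
      matD n F b (eD (pre n)) (eD (pre n)) with ht
    have hd := dtri_diag_e_ne hb hQ (pre n)
    refine ⟨dxL p hqm t, ⟨t, rfl⟩, ?_⟩
    have hU' : (matD n F (b * (dxL p hqm t)⁻¹)).BlockTriangular (rho (n + 1)) := by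
      rw [map_mul, dxL_inv]
      exact hb.mul (d_X_upper p hqm (Sum.inr ()) _ ⟨-t, rfl⟩)
    have hQ' := matD_form (b * (dxL p hqm t)⁻¹)
    have e0 : matD n F (b * (dxL p hqm t)⁻¹) (eD (pre n)) (fD (lst n)) = 0 := by
      rw [dxL_inv, map_mul, mat_dxL p hqm, Matrix.mul_sub, Matrix.mul_add, Matrix.mul_one,
        Matrix.sub_apply, Matrix.add_apply, Matrix.mul_single_apply_same,
        Matrix.mul_single_apply_of_ne (hbj := by simp [pre_ne_lst.symm]), sub_zero, ht]
      field_simp
      ring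
    have e1 : matD n F (b * (dxL p hqm t)⁻¹) (eD (lst n)) (fD (pre n)) = 0 := by
      have h := dtri_L hU' hQ'
      rw [e0, zero_mul, zero_add] at h
      exact (mul_eq_zero.mp h).resolve_left (dtri_diag_f_ne hU' hQ' _)
    intro u v h1 h2
    rcases winv_piD u v h1 h2 with ⟨rfl, rfl⟩ | ⟨rfl, rfl⟩ | ⟨rfl, rfl⟩
    · exact e0
    · exact e1
    · apply dtri_pre hU' hQ'
      rw [e1, zero_mul]

theorem d_hC (k : Fin (n + 1) ⊕ Unit) (x : DmG n F) (hx : x ∈ XKD p hqm k) :
    x = 1 ∨ ∃ b₁ : DmG n F, (matD n F b₁).BlockTriangular (rho (n + 1)) ∧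
      ∃ x₁ ∈ XKD p hqm k, sKD p hqm k * x * (sKD p hqm k)⁻¹ = b₁ * sKD p hqm k * x₁ := by
  rcases k with k | k
  · obtain ⟨t, rfl⟩ := hx
    by_cases ht : t = 0
    · left
      rw [ht]
      exact dxS_zero p hqm k
    · right
      refine ⟨dsS p hqm k * dxS p hqm k t * (dsS p hqm k)⁻¹ * (dxS p hqm k (-t⁻¹))⁻¹ *
        (dsS p hqm k)⁻¹, ?_, dxS p hqm k (-t⁻¹), ⟨-t⁻¹, rfl⟩, ?_⟩
      · have e : (dsS p hqm k * dxS p hqm k t * (dsS p hqm k)⁻¹ * (dxS p hqm k (-t⁻¹))⁻¹ *
            (dsS p hqm k)⁻¹).1 = shtD k.castSucc k.succ (castSucc_ne_succ k)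
              (gB t⁻¹ t (-1) (inv_ne_zero ht) ht) := by
          simp only [Subgroup.coe_mul, Subgroup.coe_inv, coe_dsS, coe_dxS]
          rw [← map_inv, ← map_inv, ← map_mul, ← map_mul, ← map_mul, ← map_mul]
          congr 1
          have := gl2_identity' t ht
          calc gN * gT t * gN⁻¹ * (gT (-t⁻¹))⁻¹ * gN⁻¹
              = (gN * gT t * gN⁻¹) * (gT (-t⁻¹))⁻¹ * gN⁻¹ := by group
            _ = _ := by rw [this]; group
        rw [matD_apply, e]
        show (shtMat k.castSucc k.succ (gB t⁻¹ t (-1) (inv_ne_zero ht) ht)).BlockTriangular _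
        exact shtMat_upper (castSucc_lt_succ' k) _ (by rw [coe_gB]; simp)
          (by rw [coe_gB_inv]; simp)
      · have e : sKD p hqm (Sum.inl k) = dsS p hqm k := rfl
        rw [e]
        group
  · obtain ⟨t, rfl⟩ := hx
    by_cases ht : t = 0
    · left
      rw [ht]
      exact dxL_zero p hqm
    · right
      refine ⟨dsL p hqm * dxL p hqm t * (dsL p hqm)⁻¹ * (dxL p hqm (-t⁻¹))⁻¹ *
        (dsL p hqm)⁻¹, ?_, dxL p hqm (-t⁻¹), ⟨-t⁻¹, rfl⟩, ?_⟩
      · have e : (dsL (n := n) p hqm * dxL p hqm t * (dsL p hqm)⁻¹ * (dxL p hqm (-t⁻¹))⁻¹ *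
            (dsL p hqm)⁻¹).1 = shtL n F (gB t⁻¹ t (-1) (inv_ne_zero ht) ht) := by
          simp only [Subgroup.coe_mul, Subgroup.coe_inv, coe_dsL, coe_dxL]
          rw [← map_inv, ← map_inv, ← map_mul, ← map_mul, ← map_mul, ← map_mul]
          congr 1
          have := gl2_identity' t ht
          calc gN * gT t * gN⁻¹ * (gT (-t⁻¹))⁻¹ * gN⁻¹
              = (gN * gT t * gN⁻¹) * (gT (-t⁻¹))⁻¹ * gN⁻¹ := by group
            _ = _ := by rw [this]; group
        rw [matD_apply, e, coe_shtL]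
        apply rconj_upper
        · exact shtMat_upper (by rw [Fin.lt_def]; simp) _ (by rw [coe_gB]; simp)
            (by rw [coe_gB_inv]; simp)
        · intro i j; rfl
        · intro i j; rfl
      · have e : sKD (n := n) p hqm (Sum.inr k) = dsL p hqm := rfl
        rw [e]
        group

/-- the rank one data -/
noncomputable def dSetup : SetupD (DmG n F) (DIdx n) F (Fin (n + 1) ⊕ Unit) where
  mat := matD n F
  ρ := rhoD n
  ρ' := rho (n + 1)
  W := Wg (n + 1)
  s := sKD p hqm
  π := piKD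
  X := XKD p hqm
  mat_inj := matD_injective
  ρ'_inj := rho_inj
  fine := rhoD_fine
  zer := d_zer
  π_mem := piKD_mem
  π_sq := piKD_sq
  π_ne := piKD_ne
  π_inj := piKD_inj
  s_mono := d_s_mono p hqm
  X_upper := d_X_upper p hqm
  X_diag := d_X_diag p hqm
  X_supp := d_X_supp p hqm
  X_ne := d_X_ne p hqm
  orient := d_orient
  hA := d_hA p hqm
  hC := d_hC p hqm

end Setup

end Cfsg.Agent.Lib.Helper1.DBN
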