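import Mathlib
import Cfsg.Agent.Lib.Helper1.DBN9

/-!
# Type `D_{n+2}`: the torus, and isometries with diagonal `e`-columns
-/

set_option autoImplicit false
set_option linter.unusedSectionVars false

namespace Cfsg.Agent.Lib.Helper1.DBN

open Matrix Cfsg.Agent.Lib.Helper14.MatBN Cfsg.Agent.Lib.Helper14.SpBN Cfsg.Agent.Lib.Helper6
  Cfsg.Agent.Lib.Helper14.TriMono Cfsg.Agent.Lib.Helper1.OBN Cfsg.Agent.Lib.Helper1.MatBND

variable {n : ℕ} {F : Type*} [Field F]

theorem d_hdiag [Fintype F] (p : ℕ) [Fact p.Prime] [CharP F p]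
    (hqm : Fintype.card F ≠ 2 ∨ n ≠ 0) (b : DmG n F)
    (hb : (matD n F b).BlockTriangular (rho (n + 1))) :
    ∃ h : DmG n F, matD n F h = Matrix.diagonal (fun i => matD n F b i i) := by
  have hQ := matD_form b
  set M := matD n F b with hM
  have hne : ∀ i, M i i ≠ 0 := by
    rintro (i | i)
    · exact dtri_diag_e_ne hb hQ i
    · exact dtri_diag_f_ne hb hQ i
  have h1 : Matrix.diagonal (fun i => M i i) * Matrix.diagonal (fun i => (M i i)⁻¹) = 1 := by
    rw [Matrix.diagonal_mul_diagonal, ← Matrix.diagonal_one]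
    congr 1
    funext i
    exact mul_inv_cancel₀ (hne i)
  have h1' : Matrix.diagonal (fun i => (M i i)⁻¹) * Matrix.diagonal (fun i => M i i) = 1 := by
    rw [Matrix.diagonal_mul_diagonal, ← Matrix.diagonal_one]
    congr 1
    funext i
    exact inv_mul_cancel₀ (hne i)
  have hform : ∀ x, QD n F (Matrix.diagonal (fun i => M i i) *ᵥ x) = QD n F x := by
    intro x
    rw [QD_apply, QD_apply]
    unfold hyp
    simp only [Matrix.mulVec_diagonal]
    apply Finset.sum_congr rfl
    intro i _
    have := dtri_diag hb hQ i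
    linear_combination (x (Sum.inl i) * x (Sum.inr i)) * this
  set hD : DG n F := mkIso (QD n F) _ _ h1 h1' hform with hhD
  have hu : b.1 * hD⁻¹ ∈ Cfsg.Omega F ⇑(QD n F) := by
    apply mem_Omega_of_unitriD p hqm
    · show (M * Matrix.diagonal (fun i => (M i i)⁻¹)).BlockTriangular (rho (n + 1))
      exact hb.mul (Matrix.blockTriangular_diagonal _)
    · intro i
      show (M * Matrix.diagonal (fun i => (M i i)⁻¹)) i i = 1
      rw [mul_diag_of_blockTriangular (rho (n + 1)) rho_inj hb (Matrix.blockTriangular_diagonal _),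
        Matrix.diagonal_apply_eq]
      exact mul_inv_cancel₀ (hne i)
  have hmem : hD ∈ Cfsg.Omega F ⇑(QD n F) := by
    have : hD = (b.1 * hD⁻¹)⁻¹ * b.1 := by group
    rw [this]
    exact Subgroup.mul_mem _ (Subgroup.inv_mem _ hu) b.2
  exact ⟨⟨hD, hmem⟩, rfl⟩

/-- an isometry whose `e`-columns are multiples of the `e`-basis vectors is triangular -/
theorem dtri_of_cols (g : DG n F) (d : Fin (n + 2) → F)
    (hg : ∀ j, gact (QD n F) g (dv (eD j)) = d j • dv (eD j)) :
    ((g.1 : GL (DIdx n) F) : Matrix (DIdx n) (DIdx n) F).BlockTriangular (rho (n + 1)) := by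
  have hd : ∀ j, d j ≠ 0 := by
    intro j h
    have h1 := hg j
    rw [h, zero_smul, gact_eq_zero_iff] at h1
    have := congrFun h1 (eD j)
    simp at this
  have hinv : ∀ j, gact (QD n F) g⁻¹ (dv (eD j)) = (d j)⁻¹ • dv (eD j) := by
    intro j
    have h1 : gact (QD n F) g⁻¹ (gact (QD n F) g (dv (eD j))) = dv (eD j) := gact_inv_gact _ g _
    rw [hg j, gact_smul] at h1
    calc gact (QD n F) g⁻¹ (dv (eD j))
        = (d j)⁻¹ • (d j • gact (QD n F) g⁻¹ (dv (eD j))) := by
          rw [smul_smul, inv_mul_cancel₀ (hd j), one_smul]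
      _ = (d j)⁻¹ • dv (eD j) := by rw [h1]
  have hrow : ∀ (i : Fin (n + 2)) (s : DIdx n), s ≠ fD i →
      ((g.1 : GL (DIdx n) F) : Matrix (DIdx n) (DIdx n) F) (fD i) s = 0 := by
    intro i s hs
    have h0 := polar_dv_e (gact (QD n F) g (dv s)) i
    rw [← dact_apply, ← h0]
    have h1 : QuadraticMap.polar (⇑(QD n F)) (gact (QD n F) g (dv s)) (dv (eD i)) =
        QuadraticMap.polar (⇑(QD n F)) (gact (QD n F) g (dv s))
          (gact (QD n F) g (gact (QD n F) g⁻¹ (dv (eD i)))) := by
      rw [gact_gact_inv]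
    rw [h1, polar_gact, hinv, QuadraticMap.polar_smul_right, polar_dv_e, smul_eq_mul,
      dv_ne (Ne.symm hs), mul_zero]
  intro r s hrs
  rcases r with i | i
  · rcases s with j | j
    · rw [← dact_apply, hg j]
      have hij : j ≠ i := by
        rintro rfl
        exact lt_irrefl _ hrs
      have : (eD i : DIdx n) ≠ eD j := fun h => hij (Sum.inl_injective h).symm
      rw [Pi.smul_apply, dv_ne this, smul_zero]
    · exfalso
      simp only [rho_inl, rho_inr] at hrs
      have := i.2; have := j.2; omega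
  · apply hrow
    rintro rfl
    exact lt_irrefl _ hrs

/-- the entries of a Siegel transformation -/
theorem dsiegIso_entry (u w : DIdx n → F) (hu : QD n F u = 0)
    (huw : QuadraticMap.polar (⇑(QD n F)) u w = 0) (r s : DIdx n) :
    (((siegIso (QD n F) u w hu huw).1 : GL (DIdx n) F) : Matrix (DIdx n) (DIdx n) F) r s =
      (1 : Matrix (DIdx n) (DIdx n) F) r s +
        (QuadraticMap.polar (⇑(QD n F)) w (dv s) -
          QD n F w * QuadraticMap.polar (⇑(QD n F)) u (dv s)) * u r
          - QuadraticMap.polar (⇑(QD n F)) u (dv s) * w r := by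
  rw [← dact_apply, gact_siegIso]
  simp only [Pi.add_apply, Pi.smul_apply, smul_eq_mul, Matrix.one_apply, Pi.single_apply]
  ring

theorem dMono_mulVec_single {A : Matrix (DIdx n) (DIdx n) F} {π : Equiv.Perm (DIdx n)}
    (hA : IsMono A π) (y : DIdx n) :
    A *ᵥ Pi.single y 1 = A (π y) y • Pi.single (π y) 1 := by
  rw [mulVec_single_one]
  funext x
  rw [Matrix.col_apply, Pi.smul_apply, smul_eq_mul]
  by_cases hx : x = π y
  · rw [hx, Pi.single_eq_same, mul_one]
  · rw [hA x y hx, Pi.single_eq_of_ne hx, mul_zero]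

end Cfsg.Agent.Lib.Helper1.DBN
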