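import Mathlib
import Cfsg.Agent.Lib.Helper1.DBN10

/-!
# Generation of `Ω⁺_{2n+4}(q)` by `B` and `N`: moving basis vectors with the Weyl group
-/

set_option autoImplicit false
set_option linter.unusedSectionVars false

namespace Cfsg.Agent.Lib.Helper1.DBN

open Matrix Cfsg.Agent.Lib.Helper14.MatBN Cfsg.Agent.Lib.Helper14.SpBN Cfsg.Agent.Lib.Helper6
  Cfsg.Agent.Lib.Helper14.TriMono Cfsg.Agent.Lib.Helper1.OBN Cfsg.Agent.Lib.Helper1.MatBND

variable {n : ℕ} {F : Type*} [Field F]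

/-- the action of `Ω` on vectors -/
noncomputable abbrev dav (g : DmG n F) (x : DIdx n → F) : DIdx n → F := gact (QD n F) g.1 x

theorem dav_eq (g : DmG n F) (x : DIdx n → F) : dav g x = matD n F g *ᵥ x := rfl

theorem dav_mul (g h : DmG n F) (x : DIdx n → F) : dav (g * h) x = dav g (dav h x) :=
  gact_mul _ g.1 h.1 x

theorem dav_one (x : DIdx n → F) : dav (1 : DmG n F) x = x := gact_one _ x

theorem dav_smul (g : DmG n F) (c : F) (x : DIdx n → F) : dav g (c • x) = c • dav g x :=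
  gact_smul _ g.1 c x

/-- `l` stabilises the lines `⟨e_j⟩`, `j < i` -/
def DStabE (i : ℕ) (l : DmG n F) : Prop :=
  ∀ j : Fin (n + 2), j.val < i → ∃ c : F, dav l (dv (eD j)) = c • dv (eD j)

theorem dstabE_one (i : ℕ) : DStabE i (1 : DmG n F) := fun j _ => ⟨1, by rw [dav_one, one_smul]⟩

theorem DStabE.mul {i : ℕ} {l m : DmG n F} (hl : DStabE i l) (hm : DStabE i m) :
    DStabE i (l * m) := by
  intro j hj
  obtain ⟨c, hc⟩ := hm j hj
  obtain ⟨d, hd⟩ := hl j hj
  exact ⟨c * d, by rw [dav_mul, hc, dav_smul, hd, smul_smul]⟩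

theorem dstab_ne (l : DmG n F) (j : Fin (n + 2)) (c : F)
    (h : dav l (dv (eD j)) = c • dv (eD j)) : c ≠ 0 := by
  rintro rfl
  rw [zero_smul] at h
  have h1 := (gact_eq_zero_iff _ l.1 _).mp h
  have := congrFun h1 (eD j)
  simp at this

section Gen

variable [Fintype F] (p : ℕ) [Fact p.Prime] [CharP F p] (hqm : Fintype.card F ≠ 2 ∨ n ≠ 0)

/-- the subgroup generated by the triangular and the monomial elements -/
noncomputable def DLL : Subgroup (DmG n F) := (dSetup p hqm).Bor ⊔ (dSetup (n := n) p hqm).Nn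

theorem mem_DLL_of_tri (g : DmG n F) (hg : (matD n F g).BlockTriangular (rho (n + 1))) :
    g ∈ DLL p hqm :=
  (le_sup_left : (dSetup p hqm).Bor ≤ DLL p hqm) hg

theorem sKD_mem_DLL (k : Fin (n + 1) ⊕ Unit) : sKD p hqm k ∈ DLL (n := n) p hqm :=
  (le_sup_right : (dSetup p hqm).Nn ≤ DLL p hqm) ((dSetup p hqm).s_mem_Nn k)

/-- the reflections permute the basis vectors up to scalars -/
theorem dav_sKD (k : Fin (n + 1) ⊕ Unit) (y : DIdx n) :
    ∃ c : F, dav (sKD p hqm k) (dv y) = c • dv (piKD k y) :=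
  ⟨_, dMono_mulVec_single (d_s_mono p hqm k) y⟩

theorem dstabE_sS (i : ℕ) (k : Fin (n + 1)) (hk : i ≤ k.val) :
    DStabE i (sKD p hqm (Sum.inl k)) := by
  intro j hj
  obtain ⟨c, hc⟩ := dav_sKD p hqm (Sum.inl k) (eD j)
  refine ⟨c, ?_⟩
  rw [hc]
  show c • dv (piS k (eD j)) = _
  rw [piS_inl, Equiv.swap_apply_of_ne_of_ne]
  · intro h
    rw [h] at hj
    simp at hj
    omega
  · intro h
    rw [h] at hj
    simp at hj
    omega

theorem dstabE_sL (i : ℕ) (hi : i ≤ n) : DStabE i (sKD (n := n) p hqm (Sum.inr ())) := by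
  intro j hj
  obtain ⟨c, hc⟩ := dav_sKD p hqm (Sum.inr ()) (eD j)
  refine ⟨c, ?_⟩
  rw [hc]
  show c • dv (piD n (eD j)) = _
  rw [piD_e, if_neg, if_neg]
  · intro h
    rw [h] at hj
    simp at hj
    omega
  · intro h
    rw [h] at hj
    simp at hj
    omega

/-- `v` can be moved to a multiple of `e_i` by an element of `⟨B, N⟩` stabilising the lines
`⟨e_j⟩`, `j < i` -/
def DGood (i : Fin (n + 2)) (v : DIdx n → F) : Prop :=
  ∃ l ∈ DLL p hqm, DStabE i.val l ∧ ∃ d : F, dav l v = d • dv (eD i)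

variable {p hqm}

theorem dgood_of_move {i : Fin (n + 2)} {v : DIdx n → F} (m : DmG n F) (hm : m ∈ DLL p hqm)
    (hs : DStabE i.val m) (h : DGood p hqm i (dav m v)) : DGood p hqm i v := by
  obtain ⟨l, hl, hls, d, hd⟩ := h
  exact ⟨l * m, (DLL p hqm).mul_mem hl hm, hls.mul hs, d, by rw [dav_mul, hd]⟩

theorem dgood_smul {i : Fin (n + 2)} {v : DIdx n → F} (c : F) (h : DGood p hqm i v) :
    DGood p hqm i (c • v) := by
  obtain ⟨l, hl, hls, d, hd⟩ := h
  exact ⟨l, hl, hls, c * d, by rw [dav_smul, hd, smul_smul]⟩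

theorem dgood_e_self (i : Fin (n + 2)) : DGood p hqm i (dv (eD i)) :=
  ⟨1, (DLL p hqm).one_mem, dstabE_one _, 1, by rw [dav_one, one_smul]⟩

theorem dgood_e (i : Fin (n + 2)) : ∀ (d : ℕ) (j : Fin (n + 2)), j.val = i.val + d →
    DGood p hqm i (dv (eD j)) := by
  intro d
  induction d with
  | zero =>
    intro j hj
    have : j = i := Fin.ext (by simpa using hj)
    rw [this]
    exact dgood_e_self i
  | succ d ih =>
    intro j hj
    have hlt : i.val + d < n + 1 := by have := j.2; omega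
    set k : Fin (n + 1) := ⟨i.val + d, hlt⟩ with hk
    have hjk : j = k.succ := Fin.ext (by simp [hk, hj]; omega)
    rw [hjk]
    apply dgood_of_move (sKD p hqm (Sum.inl k)) (sKD_mem_DLL p hqm _)
      (dstabE_sS p hqm _ k (by simp [hk]))
    obtain ⟨c, hc⟩ := dav_sKD p hqm (Sum.inl k) (eD k.succ)
    rw [hc]
    show DGood p hqm i (c • dv (piS k (eD k.succ)))
    rw [piS_inl, Equiv.swap_apply_right]
    apply dgood_smul
    apply ih
    simp [hk]

theorem dgood_f (i : Fin (n + 2)) (hi : i.val ≤ n) :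
    ∀ (d : ℕ) (j : Fin (n + 2)), j.val + d = n + 1 → i ≤ j → DGood p hqm i (dv (fD j)) := by
  intro d
  induction d with
  | zero =>
    intro j hj hij
    have : j = lst n := Fin.ext (by simpa using hj)
    rw [this]
    apply dgood_of_move (sKD p hqm (Sum.inr ())) (sKD_mem_DLL p hqm _)
      (dstabE_sL p hqm _ hi)
    obtain ⟨c, hc⟩ := dav_sKD (n := n) p hqm (Sum.inr ()) (fD (lst n))
    rw [hc]
    show DGood p hqm i (c • dv (piD n (fD (lst n))))
    rw [piD_f, if_pos rfl]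
    apply dgood_smul
    exact dgood_e i (n - i.val) (pre n) (by simp only [pre_val]; omega)
  | succ d ih =>
    intro j hj hij
    have hlt : j.val < n + 1 := by omega
    set k : Fin (n + 1) := ⟨j.val, hlt⟩ with hk
    have hjk : j = k.castSucc := Fin.ext rfl
    rw [hjk]
    apply dgood_of_move (sKD p hqm (Sum.inl k)) (sKD_mem_DLL p hqm _)
      (dstabE_sS p hqm _ k (by simpa [hk] using hij))
    obtain ⟨c, hc⟩ := dav_sKD p hqm (Sum.inl k) (fD k.castSucc)
    rw [hc]
    show DGood p hqm i (c • dv (piS k (fD k.castSucc)))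
    rw [piS_inr, Equiv.swap_apply_left]
    apply dgood_smul
    apply ih
    · simp [hk]; omega
    · rw [Fin.le_iff_val_le_val] at hij ⊢
      simp [hk]; omega

end Gen

end Cfsg.Agent.Lib.Helper1.DBN
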