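import Mathlib
import Cfsg.Agent.Lib.Helper1.DBN11

/-!
# Generation of `Ω⁺_{2n+4}(q)` by `B` and `N`: triangular Siegel transformations
-/

set_option autoImplicit false
set_option linter.unusedSectionVars false

namespace Cfsg.Agent.Lib.Helper1.DBN

open Matrix Cfsg.Agent.Lib.Helper14.MatBN Cfsg.Agent.Lib.Helper14.SpBN Cfsg.Agent.Lib.Helper6
  Cfsg.Agent.Lib.Helper14.TriMono Cfsg.Agent.Lib.Helper1.OBN Cfsg.Agent.Lib.Helper1.MatBND

variable {n : ℕ} {F : Type*} [Field F]

theorem QD_comb (j : Fin (n + 2)) (b c : F) :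
    QD n F (b • dv (fD j) + c • dv (eD j)) = b * c := by
  rw [QuadraticMap.map_add (QD n F), QuadraticMap.map_smul (QD n F), QuadraticMap.map_smul (QD n F),
    QD_single_f, QD_single_e,
    QuadraticMap.polar_smul_left, QuadraticMap.polar_smul_right, polar_dv_f', dv_same]
  simp

section Sieg1

variable (j : Fin (n + 2)) (w : DIdx n → F) (hw : ∀ l, l ≤ j → w (fD l) = 0)

include hw in
theorem dsieg1_polar : QuadraticMap.polar (⇑(QD n F)) (dv (eD j)) w = 0 := by
  rw [polar_dv_e']
  exact hw j le_rfl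

/-- a triangular Siegel transformation -/
noncomputable def dsieg1 : DG n F :=
  siegIso (QD n F) (dv (eD j)) w (QD_single_e j) (dsieg1_polar j w hw)

theorem gact_dsieg1 (x : DIdx n → F) :
    gact (QD n F) (dsieg1 j w hw) x =
      x + (QuadraticMap.polar (⇑(QD n F)) w x - QD n F w * x (fD j)) • dv (eD j) +
        (-(x (fD j))) • w := by
  unfold dsieg1
  rw [gact_siegIso, polar_dv_e']

theorem dsieg1_entry (r s : DIdx n) :
    (((dsieg1 j w hw).1 : GL (DIdx n) F) : Matrix (DIdx n) (DIdx n) F) r s =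
      (1 : Matrix (DIdx n) (DIdx n) F) r s +
        (QuadraticMap.polar (⇑(QD n F)) w (dv s) - QD n F w * (dv s : DIdx n → F) (fD j)) *
          (dv (eD j) : DIdx n → F) r - (dv s : DIdx n → F) (fD j) * w r := by
  unfold dsieg1
  rw [dsiegIso_entry, polar_dv_e']

theorem dsieg1_tri :
    (((dsieg1 j w hw).1 : GL (DIdx n) F) : Matrix (DIdx n) (DIdx n) F).BlockTriangular
      (rho (n + 1)) := by
  intro r s hrs
  have hne : r ≠ s := by
    rintro rfl
    exact lt_irrefl _ hrs
  rw [dsieg1_entry, Matrix.one_apply_ne hne, zero_add]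
  by_cases hr : r = eD j
  · subst hr
    rcases s with l | l
    · have hlj : l < j := by simpa using hrs
      rw [polar_dv_e, hw l hlj.le, dv_ne (r := fD j) (s := eD l) (by simp)]
      simp
    · exfalso
      simp only [rho_inl, rho_inr] at hrs
      have := j.2; have := l.2; omega
  · rw [dv_ne hr, mul_zero, zero_sub, neg_eq_zero]
    by_cases hs : s = fD j
    · subst hs
      rcases r with l | l
      · exfalso
        simp only [rho_inl, rho_inr] at hrs
        have := j.2; have := l.2; omega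
      · have hlj : l < j := by
          simp only [rho_inr] at hrs
          have := j.2; have := l.2
          rw [Fin.lt_def]; omega
        rw [hw l hlj.le, mul_zero]
    · rw [dv_ne (Ne.symm hs), zero_mul]

theorem dsieg1_diag (r : DIdx n) :
    (((dsieg1 j w hw).1 : GL (DIdx n) F) : Matrix (DIdx n) (DIdx n) F) r r = 1 := by
  rw [dsieg1_entry, Matrix.one_apply_eq]
  by_cases hr : r = eD j
  · subst hr
    rw [polar_dv_e, hw j le_rfl, dv_ne (r := fD j) (s := eD j) (by simp)]
    simp
  · rw [dv_ne hr, mul_zero, add_zero]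
    by_cases hs : r = fD j
    · subst hs
      rw [hw j le_rfl, mul_zero, sub_zero]
    · rw [dv_ne (Ne.symm hs), zero_mul, sub_zero]

theorem dsieg1_fix (l : Fin (n + 2)) (hl : l ≤ j) :
    gact (QD n F) (dsieg1 j w hw) (dv (eD l)) = dv (eD l) := by
  rw [gact_dsieg1, polar_dv_e, hw l hl, dv_ne (r := fD j) (s := eD l) (by simp)]
  simp

end Sieg1

section Sieg2

variable (j : Fin (n + 2)) (u : DIdx n → F) (hf : ∀ l, u (fD l) = 0)
  (he : ∀ l, j ≤ l → u (eD l) = 0)

include hf in
theorem dsieg2_Q : QD n F u = 0 := by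
  rw [QD_apply]
  unfold hyp
  apply Finset.sum_eq_zero
  intro l _
  have := hf l
  rw [show u (Sum.inr l) = 0 from this, mul_zero]

include hf in
theorem dsieg2_polar_gen (x : DIdx n → F) :
    QuadraticMap.polar (⇑(QD n F)) u x = ∑ l : Fin (n + 2), u (eD l) * x (fD l) := by
  rw [polar_QD]
  apply Finset.sum_congr rfl
  intro l _
  rw [hf l, zero_mul, add_zero]

include he in
theorem dsieg2_polar : QuadraticMap.polar (⇑(QD n F)) u (-dv (fD j)) = 0 := by
  rw [QuadraticMap.polar_neg_right, polar_dv_f, he j le_rfl, neg_zero]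

/-- a triangular Siegel transformation -/
noncomputable def dsieg2 : DG n F :=
  siegIso (QD n F) u (-dv (fD j)) (dsieg2_Q u hf) (dsieg2_polar j u he)

theorem gact_dsieg2 (x : DIdx n → F) :
    gact (QD n F) (dsieg2 j u hf he) x =
      x - x (eD j) • u + QuadraticMap.polar (⇑(QD n F)) u x • dv (fD j) := by
  unfold dsieg2
  rw [gact_siegIso, QuadraticMap.map_neg, QD_single_f, QuadraticMap.polar_neg_left, polar_dv_f']
  funext r
  simp only [Pi.add_apply, Pi.sub_apply, Pi.smul_apply, Pi.neg_apply, smul_eq_mul]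
  ring

theorem dsieg2_entry (r s : DIdx n) :
    (((dsieg2 j u hf he).1 : GL (DIdx n) F) : Matrix (DIdx n) (DIdx n) F) r s =
      (dv s : DIdx n → F) r - (dv s : DIdx n → F) (eD j) * u r +
        QuadraticMap.polar (⇑(QD n F)) u (dv s) * (dv (fD j) : DIdx n → F) r := by
  rw [← dact_apply, gact_dsieg2]
  simp only [Pi.add_apply, Pi.sub_apply, Pi.smul_apply, smul_eq_mul]

theorem dsieg2_tri :
    (((dsieg2 j u hf he).1 : GL (DIdx n) F) : Matrix (DIdx n) (DIdx n) F).BlockTriangular
      (rho (n + 1)) := by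
  intro r s hrs
  have hne : r ≠ s := by
    rintro rfl
    exact lt_irrefl _ hrs
  rw [dsieg2_entry, dv_ne hne, zero_sub]
  have h1 : (dv s : DIdx n → F) (eD j) * u r = 0 := by
    by_cases hs : s = eD j
    · subst hs
      rcases r with l | l
      · have hlj : j ≤ l := by
          have : j < l := by simpa using hrs
          exact this.le
        rw [he l hlj, mul_zero]
      · rw [hf l, mul_zero]
    · rw [dv_ne (Ne.symm hs), zero_mul]
  have h2 : QuadraticMap.polar (⇑(QD n F)) u (dv s) * (dv (fD j) : DIdx n → F) r = 0 := by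
    by_cases hr : r = fD j
    · subst hr
      rcases s with l | l
      · rw [polar_dv_e, hf l, zero_mul]
      · rw [polar_dv_f]
        have hlj : j ≤ l := by
          simp only [rho_inr] at hrs
          have := j.2; have := l.2
          rw [Fin.le_def]; omega
        rw [he l hlj, zero_mul]
    · rw [dv_ne hr, mul_zero]
  rw [h1, h2]
  simp

theorem dsieg2_diag (r : DIdx n) :
    (((dsieg2 j u hf he).1 : GL (DIdx n) F) : Matrix (DIdx n) (DIdx n) F) r r = 1 := by
  rw [dsieg2_entry, dv_same]
  have h1 : (dv r : DIdx n → F) (eD j) * u r = 0 := by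
    by_cases hs : r = eD j
    · subst hs
      rw [he j le_rfl, mul_zero]
    · rw [dv_ne (Ne.symm hs), zero_mul]
  have h2 : QuadraticMap.polar (⇑(QD n F)) u (dv r) * (dv (fD j) : DIdx n → F) r = 0 := by
    by_cases hr : r = fD j
    · subst hr
      rw [polar_dv_f, he j le_rfl, zero_mul]
    · rw [dv_ne hr, mul_zero]
  rw [h1, h2]
  simp

theorem dsieg2_fix (l : Fin (n + 2)) (hl : l ≠ j) :
    gact (QD n F) (dsieg2 j u hf he) (dv (eD l)) = dv (eD l) := by
  rw [gact_dsieg2, polar_dv_e, hf l, dv_ne (r := eD j) (s := eD l) (by simpa using hl.symm)]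
  simp

end Sieg2

end Cfsg.Agent.Lib.Helper1.DBN
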