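import Mathlib
import Cfsg.Agent.Lib.Helper1.DBN12

/-!
# Generation of `Ω⁺_{2n+4}(q)` by `B` and `N`
-/

set_option autoImplicit false
set_option linter.unusedSectionVars false

namespace Cfsg.Agent.Lib.Helper1.DBN

open Matrix Cfsg.Agent.Lib.Helper14.MatBN Cfsg.Agent.Lib.Helper14.SpBN Cfsg.Agent.Lib.Helper6
  Cfsg.Agent.Lib.Helper14.TriMono Cfsg.Agent.Lib.Helper1.OBN Cfsg.Agent.Lib.Helper1.MatBND

variable {n : ℕ} {F : Type*} [Field F] [Fintype F] {p : ℕ} [Fact p.Prime] [CharP F p]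
  {hqm : Fintype.card F ≠ 2 ∨ n ≠ 0}

/-- the Siegel move of the first case -/
theorem dcase1_move (v : DIdx n → F) (hQ : QD n F v = 0) (j : Fin (n + 2)) (hj : v (fD j) ≠ 0)
    (hmin : ∀ l, l < j → v (fD l) = 0) :
    ∃ m ∈ DLL p hqm, (∀ l, l ≤ j → dav m (dv (eD l)) = dv (eD l)) ∧
      dav m v = v (fD j) • dv (fD j) := by
  set b := v (fD j) with hb
  set w : DIdx n → F := b⁻¹ • (v - b • dv (fD j)) with hwdef
  have hw : ∀ l, l ≤ j → w (fD l) = 0 := by
    intro l hl
    rcases hl.lt_or_eq with h | h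
    · simp only [hwdef, Pi.smul_apply, Pi.sub_apply, smul_eq_mul]
      rw [hmin l h, dv_ne (r := fD l) (s := fD j) (by simpa using h.ne)]
      simp
    · subst h
      simp only [hwdef, Pi.smul_apply, Pi.sub_apply, smul_eq_mul]
      rw [dv_same, ← hb]
      simp
  have hΩ : dsieg1 j w hw ∈ Cfsg.Omega F ⇑(QD n F) :=
    mem_Omega_of_unitriD p hqm _ (dsieg1_tri j w hw) (dsieg1_diag j w hw)
  set m : DmG n F := ⟨dsieg1 j w hw, hΩ⟩ with hm
  have hmL : m ∈ DLL p hqm := mem_DLL_of_tri p hqm m (dsieg1_tri j w hw)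
  refine ⟨m, hmL, fun l hl => dsieg1_fix j w hw l hl, ?_⟩
  have hval : ∃ c : F, dav m v = b • dv (fD j) + c • dv (eD j) := by
    refine ⟨QuadraticMap.polar (⇑(QD n F)) w v - QD n F w * v (fD j), ?_⟩
    show gact (QD n F) (dsieg1 j w hw) v = _
    rw [gact_dsieg1, ← hb]
    funext r
    simp only [hwdef, Pi.add_apply, Pi.smul_apply, Pi.sub_apply, smul_eq_mul]
    field_simp
    ring
  obtain ⟨c, hc⟩ := hval
  have hc0 : c = 0 := by
    have h1 : QD n F (dav m v) = QD n F v := Q_gact _ m.1 v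
    rw [hc, QD_comb, hQ] at h1
    rcases mul_eq_zero.mp h1 with h | h
    · exact absurd h hj
    · exact h
  rw [hc, hc0, zero_smul, add_zero]

theorem dgood_case1 (i : Fin (n + 2)) (hi : i.val ≤ n) (v : DIdx n → F) (hQ : QD n F v = 0)
    (hv : ∀ l, l < i → v (fD l) = 0) (j : Fin (n + 2)) (hj : v (fD j) ≠ 0)
    (hmin : ∀ l, l < j → v (fD l) = 0) : DGood p hqm i v := by
  have hij : i ≤ j := by
    by_contra hcon
    exact hj (hv j (not_le.mp hcon))
  obtain ⟨m, hmL, hfix, hval⟩ := dcase1_move (p := p) (hqm := hqm) v hQ j hj hmin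
  have hmS : DStabE i.val m := by
    intro l hl
    refine ⟨1, ?_⟩
    rw [one_smul]
    exact hfix l (le_trans (le_of_lt (Fin.lt_def.mpr hl)) hij)
  apply dgood_of_move m hmL hmS
  rw [hval]
  apply dgood_smul
  exact dgood_f i hi (n + 1 - j.val) j (by have := j.2; omega) hij

theorem dgood_case2 (i : Fin (n + 2)) (v : DIdx n → F) (hf : ∀ l, v (fD l) = 0)
    (j : Fin (n + 2)) (hij : i ≤ j) (hj : v (eD j) ≠ 0)
    (hmax : ∀ l, j < l → v (eD l) = 0) : DGood p hqm i v := by
  set a := v (eD j) with ha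
  set u : DIdx n → F := a⁻¹ • (v - a • dv (eD j)) with hudef
  have huf : ∀ l, u (fD l) = 0 := by
    intro l
    simp only [hudef, Pi.smul_apply, Pi.sub_apply, smul_eq_mul]
    rw [hf l, dv_ne (r := fD l) (s := eD j) (by simp)]
    simp
  have hue : ∀ l, j ≤ l → u (eD l) = 0 := by
    intro l hl
    rcases hl.lt_or_eq with h | h
    · simp only [hudef, Pi.smul_apply, Pi.sub_apply, smul_eq_mul]
      rw [hmax l h, dv_ne (r := eD l) (s := eD j) (by simpa using h.ne')]
      simp
    · subst h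
      simp only [hudef, Pi.smul_apply, Pi.sub_apply, smul_eq_mul]
      rw [dv_same, ← ha]
      simp
  have hΩ : dsieg2 j u huf hue ∈ Cfsg.Omega F ⇑(QD n F) :=
    mem_Omega_of_unitriD p hqm _ (dsieg2_tri j u huf hue) (dsieg2_diag j u huf hue)
  set m : DmG n F := ⟨dsieg2 j u huf hue, hΩ⟩ with hm
  have hmL : m ∈ DLL p hqm := mem_DLL_of_tri p hqm m (dsieg2_tri j u huf hue)
  have hmS : DStabE i.val m := by
    intro l hl
    refine ⟨1, ?_⟩
    rw [one_smul]
    apply dsieg2_fix j u huf hue l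
    intro h
    rw [h] at hl
    exact absurd (Fin.le_def.mp hij) (not_le.mpr hl)
  apply dgood_of_move m hmL hmS
  have hval : dav m v = a • dv (eD j) := by
    show gact (QD n F) (dsieg2 j u huf hue) v = _
    rw [gact_dsieg2, dsieg2_polar_gen u huf, ← ha]
    have : ∑ l : Fin (n + 2), u (eD l) * v (fD l) = 0 := by
      apply Finset.sum_eq_zero
      intro l _
      rw [hf l, mul_zero]
    rw [this, zero_smul, add_zero]
    funext r
    simp only [hudef, Pi.smul_apply, Pi.sub_apply, smul_eq_mul]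
    field_simp
    ring
  rw [hval]
  apply dgood_smul
  exact dgood_e i (j.val - i.val) j (by have := Fin.le_def.mp hij; omega)

/-- a vector without `f`-components pairing nontrivially with `y` has an `e`-component of index
at least `i` -/
theorem exists_e_comp (i : Fin (n + 2)) (v y : DIdx n → F) (hf : ∀ l, v (fD l) = 0)
    (hy : ∀ l, l < i → y (fD l) = 0) (hvy : QuadraticMap.polar (⇑(QD n F)) v y ≠ 0) :
    ∃ j, i ≤ j ∧ v (eD j) ≠ 0 ∧ ∀ l, j < l → v (eD l) = 0 := by
  classical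
  have hexe : ∃ j, i ≤ j ∧ v (eD j) ≠ 0 := by
    by_contra hcon
    push Not at hcon
    apply hvy
    rw [polar_QD]
    apply Finset.sum_eq_zero
    intro l _
    rw [hf l, zero_mul, add_zero]
    by_cases hl : l < i
    · rw [hy l hl, mul_zero]
    · rw [hcon l (not_lt.mp hl), zero_mul]
  obtain ⟨j0, hij0, hj0⟩ := hexe
  have hne : (Finset.univ.filter (fun l => v (eD l) ≠ 0)).Nonempty :=
    ⟨j0, by simpa using hj0⟩
  refine ⟨(Finset.univ.filter (fun l => v (eD l) ≠ 0)).max' hne, ?_, ?_, ?_⟩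
  · exact le_trans hij0 (Finset.le_max' _ j0 (by simpa using hj0))
  · have := Finset.max'_mem _ hne
    simpa using this
  · intro l hl
    by_contra hne'
    have : l ≤ (Finset.univ.filter (fun l => v (eD l) ≠ 0)).max' hne :=
      Finset.le_max' _ l (by simpa using hne')
    exact absurd hl (not_lt.mpr this)

theorem dgood_of_singular (i : Fin (n + 2)) (hi : i.val ≤ n) (v y : DIdx n → F)
    (hQ : QD n F v = 0)
    (hv : ∀ l, l < i → v (fD l) = 0) (hy : ∀ l, l < i → y (fD l) = 0)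
    (hvy : QuadraticMap.polar (⇑(QD n F)) v y ≠ 0) : DGood p hqm i v := by
  classical
  by_cases hex : ∃ j, v (fD j) ≠ 0
  · have hne : (Finset.univ.filter (fun l => v (fD l) ≠ 0)).Nonempty := by
      obtain ⟨l, hl⟩ := hex
      exact ⟨l, by simpa using hl⟩
    obtain ⟨j, hbj, hmin⟩ : ∃ j, v (fD j) ≠ 0 ∧ ∀ l, l < j → v (fD l) = 0 := by
      refine ⟨(Finset.univ.filter (fun l => v (fD l) ≠ 0)).min' hne, ?_, ?_⟩
      · have := Finset.min'_mem _ hne
        simpa using this
      · intro l hl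
        by_contra hne'
        have : (Finset.univ.filter (fun l => v (fD l) ≠ 0)).min' hne ≤ l :=
          Finset.min'_le _ l (by simpa using hne')
        exact absurd hl (not_lt.mpr this)
    exact dgood_case1 i hi v hQ hv j hbj hmin
  · push Not at hex
    obtain ⟨j, hij, haj, hmax⟩ := exists_e_comp i v y hex hy hvy
    exact dgood_case2 i v hex j hij haj hmax

/-- properties of a column of an element stabilising the lines `⟨e_l⟩`, `l < i` -/
theorem col_props (g' : DmG n F) (i : ℕ) (hs0 : DStabE i g') (ii : Fin (n + 2)) (hii : ii.val = i) :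
    QD n F (dav g' (dv (eD ii))) = 0 ∧
      (∀ l, l < ii → dav g' (dv (eD ii)) (fD l) = 0) ∧
      (∀ l, l < ii → dav g' (dv (fD ii)) (fD l) = 0) ∧
      QuadraticMap.polar (⇑(QD n F)) (dav g' (dv (eD ii))) (dav g' (dv (fD ii))) ≠ 0 := by
  have key : ∀ (x : DIdx n → F) (l : Fin (n + 2)), l < ii →
      QuadraticMap.polar (⇑(QD n F)) x (dv (eD l)) = 0 → dav g' x (fD l) = 0 := by
    intro x l hl hx
    obtain ⟨c, hc⟩ := hs0 l (by rw [← hii]; exact Fin.lt_def.mp hl)
    have hc0 := dstab_ne g' l c hc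
    have h1 : QuadraticMap.polar (⇑(QD n F)) (dav g' x) (dav g' (dv (eD l))) =
        QuadraticMap.polar (⇑(QD n F)) x (dv (eD l)) := polar_gact _ g'.1 _ _
    rw [hc, QuadraticMap.polar_smul_right, polar_dv_e, hx, smul_eq_mul] at h1
    rcases mul_eq_zero.mp h1 with h | h
    · exact absurd h hc0
    · exact h
  refine ⟨?_, ?_, ?_, ?_⟩
  · rw [show QD n F (dav g' (dv (eD ii))) = QD n F (dv (eD ii)) from Q_gact _ g'.1 _,
      QD_single_e]
  · intro l hl
    apply key _ l hl
    rw [polar_dv_e, dv_ne (r := fD l) (s := eD ii) (by simp)]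
  · intro l hl
    apply key _ l hl
    rw [polar_dv_e, dv_ne (r := fD l) (s := fD ii) (by simpa using hl.ne)]
  · rw [show QuadraticMap.polar (⇑(QD n F)) (dav g' (dv (eD ii))) (dav g' (dv (fD ii))) =
      QuadraticMap.polar (⇑(QD n F)) (dv (eD ii)) (dv (fD ii)) from polar_gact _ g'.1 _ _,
      polar_dv_f, dv_same]
    exact one_ne_zero

/-- column reduction -/
theorem dexists_stab (g : DmG n F) :
    ∀ i : ℕ, i ≤ n + 1 → ∃ l ∈ DLL p hqm, DStabE i (l * g) := by
  intro i
  induction i with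
  | zero =>
    intro _
    exact ⟨1, (DLL p hqm).one_mem, fun j hj => absurd hj (Nat.not_lt_zero _)⟩
  | succ i ih =>
    intro hi
    obtain ⟨l0, hl0, hs0⟩ := ih (by omega)
    set g' := l0 * g with hg'
    set ii : Fin (n + 2) := ⟨i, by omega⟩ with hii
    obtain ⟨hQ, hv, hy, hvy⟩ := col_props g' i hs0 ii rfl
    obtain ⟨l1, hl1, hs1, d, hd⟩ := dgood_of_singular (p := p) (hqm := hqm) ii
      (by simp [hii]; omega) _ _ hQ hv hy hvy
    refine ⟨l1 * l0, (DLL p hqm).mul_mem hl1 hl0, ?_⟩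
    rw [mul_assoc, ← hg']
    intro j hj
    rcases Nat.lt_succ_iff_lt_or_eq.mp hj with h | h
    · obtain ⟨c, hc⟩ := hs0 j h
      obtain ⟨c', hc'⟩ := hs1 j h
      exact ⟨c * c', by rw [dav_mul, hc, dav_smul, hc', smul_smul]⟩
    · have hj' : j = ii := Fin.ext h
      rw [hj']
      exact ⟨d, by rw [dav_mul, hd]⟩

variable (p hqm)

/-- **Generation**: `Ω⁺_{2n+4}(q)` is generated by its triangular and monomial subgroups. -/
theorem d_hgen : (dSetup p hqm).Bor ⊔ (dSetup (n := n) p hqm).Nn = ⊤ := by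
  rw [eq_top_iff]
  intro g _
  obtain ⟨l, hl, hs⟩ := dexists_stab (p := p) (hqm := hqm) g (n + 1) le_rfl
  set g' := l * g with hg'
  obtain ⟨hQ, hv, hy, hvy⟩ := col_props g' (n + 1) hs (lst n) rfl
  by_cases hfl : dav g' (dv (eD (lst n))) (fD (lst n)) = 0
  · have hf : ∀ l', dav g' (dv (eD (lst n))) (fD l') = 0 := by
      intro l'
      by_cases h : l' = lst n
      · rw [h]; exact hfl
      · exact hv l' (lt_of_le_of_ne (Fin.le_last l') h)
    obtain ⟨j, hij, haj, hmax⟩ := exists_e_comp (lst n) _ _ hf hy hvy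
    obtain ⟨l1, hl1, hs1, d, hd⟩ := dgood_case2 (p := p) (hqm := hqm) (lst n) _ hf j hij haj hmax
    have hall : ∀ j : Fin (n + 2), ∃ c : F, dav (l1 * g') (dv (eD j)) = c • dv (eD j) := by
      intro j
      by_cases hj : j = lst n
      · rw [hj]
        exact ⟨d, by rw [dav_mul, hd]⟩
      · have hlt : j.val < n + 1 := by
          have := lt_of_le_of_ne (Fin.le_last j) hj
          exact this
        obtain ⟨c, hc⟩ := hs j hlt
        obtain ⟨c', hc'⟩ := hs1 j hlt
        exact ⟨c * c', by rw [dav_mul, hc, dav_smul, hc', smul_smul]⟩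
    choose dd hdd using hall
    have htri := dtri_of_cols (l1 * g').1 dd hdd
    have hmem : l1 * g' ∈ DLL p hqm := mem_DLL_of_tri p hqm _ htri
    have hg : g = l⁻¹ * (l1⁻¹ * (l1 * g')) := by rw [hg']; group
    rw [hg]
    exact (DLL p hqm).mul_mem ((DLL p hqm).inv_mem hl)
      ((DLL p hqm).mul_mem ((DLL p hqm).inv_mem hl1) hmem)
  · exfalso
    obtain ⟨m, -, hfix, hval⟩ := dcase1_move (p := p) (hqm := hqm) _ hQ (lst n) hfl hv
    have hall : ∀ j : Fin (n + 2), j ≠ lst n → ∃ c : F, dav (m * g') (dv (eD j)) = c • dv (eD j) := by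
      intro j hj
      have hlt : j.val < n + 1 := by
        have h : j < lst n := lt_of_le_of_ne (Fin.le_last j) hj
        exact h
      obtain ⟨c, hc⟩ := hs j hlt
      exact ⟨c, by rw [dav_mul, hc, dav_smul, hfix j (Fin.le_last j)]⟩
    have hall' : ∀ j : Fin (n + 2), ∃ c : F, j ≠ lst n →
        dav (m * g') (dv (eD j)) = c • dv (eD j) := by
      intro j
      by_cases hj : j = lst n
      · exact ⟨0, fun h => absurd hj h⟩
      · obtain ⟨c, hc⟩ := hall j hj
        exact ⟨c, fun _ => hc⟩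
    choose cc hcc using hall'
    refine not_mem_Omega_of_swap (m * g').1 cc
      (dav g' (dv (eD (lst n))) (fD (lst n))) hcc ?_ (m * g').2
    show dav (m * g') (dv (eD (lst n))) = _
    rw [dav_mul, hval]

end Cfsg.Agent.Lib.Helper1.DBN
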