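import Mathlib
import Cfsg.Agent.Lib.Helper1.DBN13

/-!
# The Steinberg character of `PΩ⁺_{2n+4}(q)`, `(n, q) ≠ (0, 2)`
-/

set_option autoImplicit false
set_option linter.unusedSectionVars false

namespace Cfsg.Agent.Lib.Helper1.DBN

open Matrix Cfsg.Agent.Lib.Helper14.MatBN Cfsg.Agent.Lib.Helper14.SpBN Cfsg.Agent.Lib.Helper6
  Cfsg.Agent.Lib.Helper14.TriMono Cfsg.Agent.Lib.Helper1.OBN Cfsg.Agent.Lib.Helper1.MatBND

variable {n : ℕ} {F : Type*} [Field F] [Fintype F]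

/-- the Steinberg character of `PΩ⁺_{2n+4}(q)` for the form `QD` -/
theorem steinberg_QD (p : ℕ) [Fact p.Prime] [CharP F p]
    (hqm : Fintype.card F ≠ 2 ∨ n ≠ 0) :
    ∃ χ : Cfsg.POmega F ⇑(QD n F) → ℂ, Cfsg.IsIrrCharacter (Cfsg.POmega F ⇑(QD n F)) χ ∧
      ∀ P : Sylow p (Cfsg.POmega F ⇑(QD n F)), χ 1 = Nat.card P ∧
        ∀ x : Cfsg.POmega F ⇑(QD n F), x ∈ P → x ≠ 1 → χ x = 0 := by
  classical
  have : Fintype (DmG n F) := Fintype.ofFinite _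
  exact (dSetup (n := n) p hqm).exists_steinberg p (d_hgen p hqm) (fun u v h => d_hadj u v h)
    (fun u v h => d_hconn u v h) (fun b hb => d_hdiag p hqm b hb)

/-- the Steinberg character of `PΩ⁺_{2n+4}(q)` -/
theorem steinberg_quadFormPlus (p : ℕ) [Fact p.Prime] [CharP F p]
    (hqm : Fintype.card F ≠ 2 ∨ n ≠ 0) :
    ∃ χ : Cfsg.POmega F (Cfsg.quadFormPlus (n + 1 + 1) F) → ℂ,
      Cfsg.IsIrrCharacter (Cfsg.POmega F (Cfsg.quadFormPlus (n + 1 + 1) F)) χ ∧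
      ∀ P : Sylow p (Cfsg.POmega F (Cfsg.quadFormPlus (n + 1 + 1) F)), χ 1 = Nat.card P ∧
        ∀ x : Cfsg.POmega F (Cfsg.quadFormPlus (n + 1 + 1) F), x ∈ P → x ≠ 1 → χ x = 0 := by
  have h := steinberg_QD (n := n) (F := F) p hqm
  rw [hcoeD] at h
  exact h

end Cfsg.Agent.Lib.Helper1.DBN
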