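import Mathlib

set_option autoImplicit false

namespace Cfsg.Agent.Lib.Helper1.Dickson

open Finset

/-- geometric sum -/
def gs (q i : ℕ) : ℕ := ∑ k ∈ range i, q ^ k

theorem gs_mul (q i : ℕ) (hq : 1 ≤ q) : gs q i * (q - 1) + 1 = q ^ i := by
  have := geom_sum_mul_add (q - 1) i
  rw [Nat.sub_add_cancel hq] at this
  exact this

theorem gs_pos (q i : ℕ) (hq : 1 ≤ q) (hi : 0 < i) : 0 < gs q i := by
  unfold gs
  apply Finset.sum_pos
  · intro k _
    exact pow_pos hq k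
  · exact ⟨0, Finset.mem_range.mpr hi⟩

theorem pow_sub_one (q i : ℕ) (hq : 1 ≤ q) : q ^ i - 1 = gs q i * (q - 1) := by
  have := gs_mul q i hq
  omega

/-- `q ^ i ≡ 1 [MOD n * (q - 1)]` iff `n ∣ gs q i`. -/
theorem modEq_iff (q n i : ℕ) (hq : 2 ≤ q) :
    q ^ i ≡ 1 [MOD n * (q - 1)] ↔ n ∣ gs q i := by
  have h1 : 1 ≤ q ^ i := Nat.one_le_pow _ _ (by omega)
  rw [Nat.ModEq.comm, Nat.modEq_iff_dvd' h1, pow_sub_one q i (by omega)]
  exact Nat.mul_dvd_mul_iff_right (by omega)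

/-- If `q ≡ 1 [MOD s]` then `gs q i ≡ i [MOD s]`. -/
theorem gs_modEq (q s i : ℕ) (h : q ≡ 1 [MOD s]) : gs q i ≡ i [MOD s] := by
  unfold gs
  induction i with
  | zero => simp [Nat.ModEq]
  | succ i ih =>
    rw [Finset.sum_range_succ]
    have h1 : q ^ i ≡ 1 [MOD s] := by
      have := h.pow i
      rwa [one_pow] at this
    exact ih.add h1

theorem gs_mul_gs (q r m : ℕ) (hq : 2 ≤ q) : gs q (r * m) = gs q m * gs (q ^ m) r := by
  have h1 := gs_mul q (r * m) (by omega)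
  have h2 := gs_mul q m (by omega)
  have h3 := gs_mul (q ^ m) r (Nat.one_le_pow _ _ (by omega))
  have h4 : q ^ m - 1 = gs q m * (q - 1) := pow_sub_one q m (by omega)
  rw [h4, ← pow_mul, mul_comm m r] at h3
  have h5 : gs q (r * m) * (q - 1) = gs q m * gs (q ^ m) r * (q - 1) := by
    have : gs (q ^ m) r * (gs q m * (q - 1)) = gs q m * gs (q ^ m) r * (q - 1) := by ring
    omega
  exact Nat.eq_of_mul_eq_mul_right (by omega) h5

theorem dvd_of_forall_padicValNat_le {a b : ℕ} (ha : a ≠ 0) (hb : b ≠ 0)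
    (h : ∀ p : ℕ, p.Prime → p ∣ a → padicValNat p a ≤ padicValNat p b) : a ∣ b := by
  rw [← Nat.factorization_le_iff_dvd ha hb]
  intro p
  by_cases hp : p.Prime
  · rw [Nat.factorization_def _ hp, Nat.factorization_def _ hp]
    by_cases hpa : p ∣ a
    · exact h p hp hpa
    · rw [padicValNat.eq_zero_of_not_dvd hpa]
      exact Nat.zero_le _
  · rw [Nat.factorization_eq_zero_of_not_prime _ hp]
    exact Nat.zero_le _

theorem padicValNat_le_of_dvd {a b p : ℕ} [Fact p.Prime] (hb : b ≠ 0) (h : a ∣ b) :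
    padicValNat p a ≤ padicValNat p b := by
  by_cases ha : a = 0
  · rw [ha] at h
    exact absurd (zero_dvd_iff.mp h) hb
  exact (padicValNat_dvd_iff_le hb).mp ((pow_padicValNat_dvd).trans h)


theorem not_dvd_of_dvd_pred {q s : ℕ} (hs : s.Prime) (hq : 1 ≤ q) (h : s ∣ q - 1) : ¬ s ∣ q := by
  intro h2
  have h3 : s ∣ q - (q - 1) := Nat.dvd_sub h2 h
  have h4 : q - (q - 1) = 1 := by omega
  rw [h4] at h3
  exact hs.one_lt.ne' (Nat.dvd_one.mp h3)

theorem padicValNat_two_of_odd_half {x : ℕ} (h2 : 2 ∣ x) (h4 : ¬ 4 ∣ x) : padicValNat 2 x = 1 := by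
  obtain ⟨m, rfl⟩ := h2
  have hm : ¬ 2 ∣ m := by
    intro hm
    apply h4
    obtain ⟨k, rfl⟩ := hm
    exact ⟨k, by ring⟩
  have hm0 : m ≠ 0 := by rintro rfl; exact hm (dvd_zero _)
  rw [padicValNat.mul (by norm_num) hm0, padicValNat.self (by norm_num),
    padicValNat.eq_zero_of_not_dvd hm]

/-- Lifting the exponent for the geometric sum. -/
theorem padicValNat_gs {q s i : ℕ} [hs : Fact s.Prime] (hq : 2 ≤ q) (hsq : s ∣ q - 1)
    (h4 : s = 2 → 4 ∣ q - 1) (hi : i ≠ 0) : padicValNat s (gs q i) = padicValNat s i := by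
  have hnq : ¬ s ∣ q := not_dvd_of_dvd_pred hs.out (by omega) hsq
  have hgs : gs q i ≠ 0 := (gs_pos q i (by omega) (Nat.pos_of_ne_zero hi)).ne'
  have hq1 : q - 1 ≠ 0 := by omega
  have hmul : padicValNat s (q ^ i - 1) = padicValNat s (gs q i) + padicValNat s (q - 1) := by
    rw [pow_sub_one q i (by omega), padicValNat.mul hgs hq1]
  rcases hs.out.eq_two_or_odd' with h2 | hodd
  · subst h2
    have h4' := h4 rfl
    rcases Nat.even_or_odd i with hev | hod
    · have h := padicValNat.pow_two_sub_pow (x := q) (y := 1) (by omega) (by simpa using hsq)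
        hnq hi hev
      rw [one_pow] at h
      have h5 : padicValNat 2 (q + 1) = 1 := by
        apply padicValNat_two_of_odd_half
        · obtain ⟨k, hk⟩ := h4'
          exact ⟨2 * k + 1, by omega⟩
        · rintro ⟨k, hk⟩
          obtain ⟨l, hl⟩ := h4'
          omega
      omega
    · have h5 : gs q i ≡ i [MOD 2] := by
        apply gs_modEq
        obtain ⟨k, hk⟩ := hsq
        have : q = 2 * k + 1 := by omega
        rw [this, Nat.ModEq]
        omega
      have h6 : ¬ 2 ∣ gs q i := by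
        rw [Nat.odd_iff] at hod
        intro h7
        have := Nat.mod_eq_zero_of_dvd h7
        rw [Nat.ModEq] at h5
        omega
      have h7 : ¬ 2 ∣ i := by
        rw [Nat.odd_iff] at hod
        omega
      rw [padicValNat.eq_zero_of_not_dvd h6, padicValNat.eq_zero_of_not_dvd h7]
  · have h := padicValNat.pow_sub_pow (x := q) (y := 1) hodd (by omega) hsq hnq hi
    rw [one_pow] at h
    omega


theorem le_padicValNat_gs_iff {q n s i : ℕ} [hs : Fact s.Prime] (hq : 2 ≤ q) (hsn : s ∣ n)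
    (hsq : s ∣ q - 1) (h2 : 4 ∣ n → 4 ∣ q - 1) (hi : i ≠ 0) :
    padicValNat s n ≤ padicValNat s (gs q i) ↔ padicValNat s n ≤ padicValNat s i := by
  by_cases hc : s = 2 → 4 ∣ q - 1
  · rw [padicValNat_gs hq hsq hc hi]
  · push Not at hc
    obtain ⟨rfl, h4⟩ := hc
    have h4n : ¬ 4 ∣ n := fun h => h4 (h2 h)
    have hn1 : padicValNat 2 n = 1 := padicValNat_two_of_odd_half hsn h4n
    have hgs : gs q i ≠ 0 := (gs_pos q i (by omega) (Nat.pos_of_ne_zero hi)).ne'
    have h5 : gs q i ≡ i [MOD 2] := by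
      apply gs_modEq
      obtain ⟨k, hk⟩ := hsq
      have : q = 2 * k + 1 := by omega
      rw [this, Nat.ModEq]
      omega
    rw [hn1]
    constructor
    · intro h
      have h6 := dvd_of_one_le_padicValNat h
      apply one_le_padicValNat_of_dvd hi
      have := Nat.mod_eq_zero_of_dvd h6
      rw [Nat.ModEq] at h5
      exact Nat.dvd_of_mod_eq_zero (by omega)
    · intro h
      have h6 := dvd_of_one_le_padicValNat h
      apply one_le_padicValNat_of_dvd hgs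
      have := Nat.mod_eq_zero_of_dvd h6
      rw [Nat.ModEq] at h5
      exact Nat.dvd_of_mod_eq_zero (by omega)

theorem dvd_gs_iff {q n i : ℕ} (hq : 2 ≤ q) (hn : n ≠ 0)
    (h1 : ∀ r : ℕ, r.Prime → r ∣ n → r ∣ q - 1) (h2 : 4 ∣ n → 4 ∣ q - 1) (hi : i ≠ 0) :
    n ∣ gs q i ↔ n ∣ i := by
  have hgs : gs q i ≠ 0 := (gs_pos q i (by omega) (Nat.pos_of_ne_zero hi)).ne'
  constructor
  · intro h
    apply dvd_of_forall_padicValNat_le hn hi
    intro p hp hpn
    have := Fact.mk hp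
    rw [← le_padicValNat_gs_iff hq hpn (h1 p hp hpn) h2 hi]
    exact padicValNat_le_of_dvd hgs h
  · intro h
    apply dvd_of_forall_padicValNat_le hn hgs
    intro p hp hpn
    have := Fact.mk hp
    rw [le_padicValNat_gs_iff hq hpn (h1 p hp hpn) h2 hi]
    exact padicValNat_le_of_dvd hi h

theorem forward {q n : ℕ} (hq : 2 ≤ q) (hn : 1 < n)
    (h1 : ∀ r : ℕ, r.Prime → r ∣ n → r ∣ q - 1) (h2 : 4 ∣ n → 4 ∣ q - 1) :
    q ^ n ≡ 1 [MOD n * (q - 1)] ∧ ∀ i : ℕ, 0 < i → i < n → ¬ q ^ i ≡ 1 [MOD n * (q - 1)] := by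
  constructor
  · rw [modEq_iff q n n hq, dvd_gs_iff hq (by omega) h1 h2 (by omega)]
  · intro i hi hin
    rw [modEq_iff q n i hq, dvd_gs_iff hq (by omega) h1 h2 (by omega)]
    intro h
    exact absurd (Nat.le_of_dvd hi h) (by omega)


theorem dvd_pow_sub_one_of_dvd_gs {q s i : ℕ} (hq : 2 ≤ q) (h : s ∣ gs q i) : s ∣ q ^ i - 1 := by
  rw [pow_sub_one q i (by omega)]
  exact Dvd.dvd.mul_right h _

theorem not_dvd_base {q s i : ℕ} (hs : s.Prime) (hq : 2 ≤ q) (hi : i ≠ 0)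
    (h : s ∣ q ^ i - 1) : ¬ s ∣ q := by
  intro h2
  have h3 : s ∣ q ^ i := dvd_pow h2 hi
  have h1 : 1 ≤ q ^ i := Nat.one_le_pow _ _ (by omega)
  have h4 : s ∣ q ^ i - (q ^ i - 1) := Nat.dvd_sub h3 h
  have h5 : q ^ i - (q ^ i - 1) = 1 := by omega
  rw [h5] at h4
  exact hs.one_lt.ne' (Nat.dvd_one.mp h4)

/-- `q ^ gcd(n, s-1) ≡ 1 mod s` when `q ^ n ≡ 1 mod s`. -/
theorem dvd_pow_gcd_sub_one {q s n : ℕ} (hs : s.Prime) (hq : 2 ≤ q) (hn : n ≠ 0)
    (h : s ∣ q ^ n - 1) : s ∣ q ^ Nat.gcd n (s - 1) - 1 := by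
  have hsq : ¬ s ∣ q := not_dvd_base hs hq hn h
  have hcop : q.Coprime s := ((Nat.Prime.coprime_iff_not_dvd hs).mpr hsq).symm
  have h1 := Nat.ModEq.pow_card_sub_one_eq_one hs hcop
  have h2 : s ∣ q ^ (s - 1) - 1 :=
    (Nat.modEq_iff_dvd' (Nat.one_le_pow _ _ (by omega))).mp h1.symm
  rw [← Nat.pow_sub_one_gcd_pow_sub_one]
  exact Nat.dvd_gcd h h2

/-- If `q ^ e ≡ 1 mod s` and `e ∣ m` then `q ^ m ≡ 1 mod s`. -/
theorem modEq_one_of_dvd {q s e m : ℕ} (hq : 2 ≤ q) (h : s ∣ q ^ e - 1) (hem : e ∣ m) :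
    q ^ m ≡ 1 [MOD s] := by
  obtain ⟨k, rfl⟩ := hem
  have h1 : q ^ e ≡ 1 [MOD s] :=
    ((Nat.modEq_iff_dvd' (Nat.one_le_pow _ _ (by omega))).mpr h).symm
  have := h1.pow k
  rwa [one_pow, ← pow_mul] at this

/-- Reduction step: `n ∣ gs q (n / r)` under valuation conditions. -/
theorem dvd_gs_div {q n r m : ℕ} (hq : 2 ≤ q) (hr : r.Prime) (hnrm : n = r * m) (hm : m ≠ 0)
    (h : n ∣ gs q n)
    (hs : ∀ s : ℕ, s.Prime → s ∣ n → s ≠ r → q ^ m ≡ 1 [MOD s])
    (hrv : padicValNat r n ≤ padicValNat r (gs q m)) : n ∣ gs q m := by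
  have hn0 : n ≠ 0 := by rw [hnrm]; exact mul_ne_zero hr.ne_zero hm
  have hgm : gs q m ≠ 0 := (gs_pos q m (by omega) (Nat.pos_of_ne_zero hm)).ne'
  have hgn : gs q n ≠ 0 := (gs_pos q n (by omega) (Nat.pos_of_ne_zero hn0)).ne'
  apply dvd_of_forall_padicValNat_le hn0 hgm
  intro s hsp hsn
  have := Fact.mk hsp
  by_cases hsr : s = r
  · subst hsr
    exact hrv
  · have h1 : gs q n = gs q m * gs (q ^ m) r := by rw [hnrm]; exact gs_mul_gs q r m hq
    have h2 : gs (q ^ m) r ≡ r [MOD s] := gs_modEq _ _ _ (hs s hsp hsn hsr)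
    have h3 : ¬ s ∣ gs (q ^ m) r := by
      intro h4
      have h5 : s ∣ r := (Nat.modEq_zero_iff_dvd.mp
        (h2.symm.trans (Nat.modEq_zero_iff_dvd.mpr h4)))
      exact hsr ((Nat.prime_dvd_prime_iff_eq hsp hr).mp h5)
    have h4 : gs (q ^ m) r ≠ 0 := by rintro h0; exact h3 (h0 ▸ dvd_zero _)
    have h5 := padicValNat_le_of_dvd (p := s) hgn h
    rw [h1, padicValNat.mul hgm h4, padicValNat.eq_zero_of_not_dvd h3, add_zero] at h5
    exact h5


theorem gcd_dvd_of_lt {n r m s : ℕ} (hr : r.Prime) (hnrm : n = r * m) (hs : 2 ≤ s) (hsr : s ≤ r) :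
    Nat.gcd n (s - 1) ∣ m := by
  have h2 : Nat.gcd n (s - 1) ∣ r * m := hnrm ▸ Nat.gcd_dvd_left _ _
  have h3 : (Nat.gcd n (s - 1)).Coprime r := by
    rw [Nat.coprime_comm, Nat.Prime.coprime_iff_not_dvd hr]
    intro h4
    have h5 : r ∣ s - 1 := h4.trans (Nat.gcd_dvd_right _ _)
    have := Nat.le_of_dvd (by omega) h5
    omega
  exact h3.dvd_of_dvd_mul_left h2

theorem backward {q n : ℕ} (hq : 2 ≤ q) (hn : 1 < n) (h : n ∣ gs q n)
    (hmin : ∀ i : ℕ, 0 < i → i < n → ¬ n ∣ gs q i) :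
    (∀ r : ℕ, r.Prime → r ∣ n → r ∣ q - 1) ∧ (4 ∣ n → 4 ∣ q - 1) := by
  have hn0 : n ≠ 0 := by omega
  have hsn : ∀ s : ℕ, s ∣ n → s ∣ q ^ n - 1 :=
    fun s hs => dvd_pow_sub_one_of_dvd_gs hq (hs.trans h)
  have part1 : ∀ r : ℕ, r.Prime → r ∣ n → r ∣ q - 1 := by
    by_contra hbad
    push Not at hbad
    let S := n.primeFactors.filter (fun r => ¬ r ∣ q - 1)
    have hS : S.Nonempty := by
      obtain ⟨r, hr, hrn, hrq⟩ := hbad
      exact ⟨r, Finset.mem_filter.mpr ⟨Nat.mem_primeFactors.mpr ⟨hr, hrn, hn0⟩, hrq⟩⟩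
    obtain ⟨r, hrS, hrmax⟩ := Finset.exists_max_image S id hS
    obtain ⟨hr1, hrq⟩ := Finset.mem_filter.mp hrS
    obtain ⟨hr, hrn, _⟩ := Nat.mem_primeFactors.mp hr1
    obtain ⟨m, hnrm⟩ := hrn
    have hm0 : m ≠ 0 := by rintro rfl; simp at hnrm; omega
    have hmlt : m < n := by
      have := hr.two_le
      rw [hnrm]
      nlinarith [Nat.pos_of_ne_zero hm0]
    have := Fact.mk hr
    have hrodd : Odd r := by
      rcases hr.eq_two_or_odd' with h2 | ho
      · exfalso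
        subst h2
        have h3 := not_dvd_base Nat.prime_two hq hn0 (hsn 2 ⟨m, hnrm⟩)
        apply hrq
        omega
      · exact ho
    refine hmin m (Nat.pos_of_ne_zero hm0) hmlt (dvd_gs_div hq hr hnrm hm0 h ?_ ?_)
    · intro s hs hsn' hsr
      by_cases hsq : s ∣ q - 1
      · exact modEq_one_of_dvd hq (e := 1) (by simpa using hsq) (one_dvd m)
      · have hsS : s ∈ S :=
          Finset.mem_filter.mpr ⟨Nat.mem_primeFactors.mpr ⟨hs, hsn', hn0⟩, hsq⟩
        have hsle : s ≤ r := hrmax s hsS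
        have h1 := dvd_pow_gcd_sub_one hs hq hn0 (hsn s hsn')
        exact modEq_one_of_dvd hq h1 (gcd_dvd_of_lt hr hnrm hs.two_le hsle)
    · have h1 : r ∣ q ^ Nat.gcd n (r - 1) - 1 :=
        dvd_pow_gcd_sub_one hr hq hn0 (hsn r ⟨m, hnrm⟩)
      obtain ⟨k, hk⟩ := gcd_dvd_of_lt hr hnrm hr.two_le le_rfl
      set e := Nat.gcd n (r - 1) with he
      have he0 : e ≠ 0 := by rintro h0; rw [h0, zero_mul] at hk; exact hm0 hk
      have hk0 : k ≠ 0 := by rintro rfl; rw [mul_zero] at hk; exact hm0 hk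
      have hre : ¬ r ∣ e := by
        intro h4
        have h5 : r ∣ r - 1 := h4.trans (Nat.gcd_dvd_right _ _)
        have := Nat.le_of_dvd (by have := hr.two_le; omega) h5
        have := hr.two_le
        omega
      have hrqe : ¬ r ∣ q ^ e := by
        intro h4
        exact not_dvd_base hr hq hn0 (hsn r ⟨m, hnrm⟩) (hr.dvd_of_dvd_pow h4)
      have hlt : 1 < q ^ e := Nat.one_lt_pow he0 (by omega)
      have h2 := padicValNat.pow_sub_pow (x := q ^ e) (y := 1) hrodd hlt h1 hrqe hk0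
      rw [one_pow, ← pow_mul, ← hk] at h2
      have hgm : gs q m ≠ 0 := (gs_pos q m (by omega) (Nat.pos_of_ne_zero hm0)).ne'
      have h3 : padicValNat r (q ^ m - 1) = padicValNat r (gs q m) := by
        rw [pow_sub_one q m (by omega), padicValNat.mul hgm (by omega),
          padicValNat.eq_zero_of_not_dvd hrq, add_zero]
      have h4 : padicValNat r n = 1 + padicValNat r k := by
        rw [hnrm, hk, padicValNat.mul hr.ne_zero (mul_ne_zero he0 hk0), padicValNat.self hr.one_lt,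
          padicValNat.mul he0 hk0, padicValNat.eq_zero_of_not_dvd hre, zero_add]
      have h5 : 1 ≤ padicValNat r (q ^ e - 1) :=
        one_le_padicValNat_of_dvd (by omega) h1
      omega
  refine ⟨part1, fun h4n => ?_⟩
  by_contra h4q
  obtain ⟨m', hm'⟩ := h4n
  have h2n : 2 ∣ n := ⟨2 * m', by omega⟩
  have h2q : 2 ∣ q - 1 := part1 2 Nat.prime_two h2n
  have hnrm : n = 2 * (2 * m') := by omega
  have hm0 : 2 * m' ≠ 0 := by omega
  refine hmin (2 * m') (by omega) (by omega)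
    (dvd_gs_div hq Nat.prime_two hnrm hm0 h ?_ ?_)
  · intro s hs hsn' _
    exact modEq_one_of_dvd hq (e := 1) (by simpa using part1 s hs hsn') (one_dvd _)
  · have hnq : ¬ 2 ∣ q := not_dvd_of_dvd_pred Nat.prime_two (by omega) h2q
    have h1 := padicValNat.pow_two_sub_pow (x := q) (y := 1) (by omega) (by simpa using h2q)
      hnq hm0 (even_two_mul m')
    rw [one_pow] at h1
    have hgm : gs q (2 * m') ≠ 0 := (gs_pos q _ (by omega) (by omega)).ne'
    have h3 : padicValNat 2 (q ^ (2 * m') - 1) =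
        padicValNat 2 (gs q (2 * m')) + padicValNat 2 (q - 1) := by
      rw [pow_sub_one q _ (by omega), padicValNat.mul hgm (by omega)]
    have h4 : padicValNat 2 n = 1 + padicValNat 2 (2 * m') := by
      rw [hnrm, padicValNat.mul (by norm_num) hm0, padicValNat.self (by norm_num)]
    have h5 : 2 ≤ padicValNat 2 (q + 1) := by
      have h6 : 2 ^ 2 ∣ q + 1 := by
        obtain ⟨k, hk⟩ := h2q
        have hk' : ¬ 2 ∣ k := by
          rintro ⟨l, rfl⟩
          exact h4q ⟨l, by omega⟩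
        have : k % 2 = 1 := by omega
        exact ⟨(k + 1) / 2, by omega⟩
      exact (padicValNat_dvd_iff_le (by omega)).mp h6
    omega

end Cfsg.Agent.Lib.Helper1.Dickson
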