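import Mathlib

namespace Cfsg.Agent.Lib.Helper1.DCA

open Finset
open scoped symmDiff
open scoped commutatorElement

variable {n : ℕ}

abbrev K := ZMod 3
abbrev W (n : ℕ) := Finset (Fin n) → K
abbrev A (n : ℕ) := Module.End K (W n)

/-- the Jordan–Wigner sign -/
def sg (k : Fin n) (S : Finset (Fin n)) : K := ∏ i ∈ S, (if i < k then (-1 : K) else 1)

/-- occupation sign -/
def et (k : Fin n) (S : Finset (Fin n)) : K := if k ∈ S then -1 else 1

/-- parity sign -/
def par (S : Finset (Fin n)) : K := ∏ _i ∈ S, (-1 : K)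

lemma symmDiff_single_of_mem {S : Finset (Fin n)} {i : Fin n} (h : i ∈ S) :
    S ∆ {i} = S.erase i := by
  ext x
  simp only [Finset.mem_symmDiff, Finset.mem_singleton, Finset.mem_erase]
  constructor
  · rintro (⟨h1, h2⟩ | ⟨h1, h2⟩)
    · exact ⟨h2, h1⟩
    · exact absurd (h1 ▸ h) h2
  · rintro ⟨h1, h2⟩
    exact Or.inl ⟨h2, h1⟩

lemma symmDiff_single_of_not_mem {S : Finset (Fin n)} {i : Fin n} (h : i ∉ S) :
    S ∆ {i} = insert i S := by
  ext x
  simp only [Finset.mem_symmDiff, Finset.mem_singleton, Finset.mem_insert]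
  constructor
  · rintro (⟨h1, h2⟩ | ⟨h1, h2⟩)
    · exact Or.inr h1
    · exact Or.inl h1
  · rintro (h1 | h1)
    · exact Or.inr ⟨h1, h1 ▸ h⟩
    · exact Or.inl ⟨h1, fun hx => h (hx ▸ h1)⟩

lemma prod_symmDiff_single (w : Fin n → K) (hw : ∀ i, w i * w i = 1) (S : Finset (Fin n))
    (i : Fin n) : ∏ j ∈ S ∆ {i}, w j = w i * ∏ j ∈ S, w j := by
  by_cases h : i ∈ S
  · rw [symmDiff_single_of_mem h, ← Finset.mul_prod_erase S w h, ← mul_assoc, hw, one_mul]
  · rw [symmDiff_single_of_not_mem h, Finset.prod_insert h]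

lemma sg_flip (k i : Fin n) (S : Finset (Fin n)) :
    sg k (S ∆ {i}) = (if i < k then (-1 : K) else 1) * sg k S := by
  unfold sg
  apply prod_symmDiff_single
  intro j
  split_ifs <;> simp

lemma par_flip (i : Fin n) (S : Finset (Fin n)) : par (S ∆ {i}) = - par S := by
  unfold par
  rw [prod_symmDiff_single (fun _ => (-1 : K)) (by intro; simp) S i]
  simp

lemma et_flip (k i : Fin n) (S : Finset (Fin n)) :
    et k (S ∆ {i}) = (if i = k then (-1 : K) else 1) * et k S := by
  unfold et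
  by_cases hik : i = k
  · subst hik
    by_cases h : i ∈ S
    · simp [Finset.mem_symmDiff, h]
    · simp [Finset.mem_symmDiff, h]
  · have : (k ∈ S ∆ {i}) ↔ k ∈ S := by
      simp only [Finset.mem_symmDiff, Finset.mem_singleton]
      constructor
      · rintro (⟨h1, _⟩ | ⟨h1, _⟩)
        · exact h1
        · exact absurd h1.symm hik
      · intro h1
        exact Or.inl ⟨h1, fun h2 => hik h2.symm⟩
    simp [this, hik]

lemma sg_mul_self (k : Fin n) (S : Finset (Fin n)) : sg k S * sg k S = 1 := by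
  unfold sg
  rw [← Finset.prod_mul_distrib]
  apply Finset.prod_eq_one
  intro i _
  split_ifs <;> simp

lemma et_mul_self (k : Fin n) (S : Finset (Fin n)) : et k S * et k S = 1 := by
  unfold et
  split_ifs <;> simp

lemma par_mul_self (S : Finset (Fin n)) : par S * par S = 1 := by
  unfold par
  rw [← Finset.prod_mul_distrib]
  apply Finset.prod_eq_one
  intro i _
  simp

lemma flip_flip (S : Finset (Fin n)) (k : Fin n) : (S ∆ {k}) ∆ {k} = S :=
  symmDiff_symmDiff_cancel_right _ _

lemma flip_comm (S : Finset (Fin n)) (i j : Fin n) : (S ∆ {i}) ∆ {j} = (S ∆ {j}) ∆ {i} :=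
  symmDiff_right_comm _ _ _

/-- Clifford generator (square `1`). -/
def P (k : Fin n) : A n where
  toFun f S := sg k S * f (S ∆ {k})
  map_add' f g := by
    funext S
    simp [mul_add]
  map_smul' c f := by
    funext S
    simp [mul_left_comm]

/-- Clifford generator (square `-1`). -/
def Q (k : Fin n) : A n where
  toFun f S := et k S * sg k S * f (S ∆ {k})
  map_add' f g := by
    funext S
    simp [mul_add]
  map_smul' c f := by
    funext S
    simp [mul_left_comm]

/-- Parity operator. -/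
def Par : A n where
  toFun f S := par S * f S
  map_add' f g := by
    funext S
    simp [mul_add]
  map_smul' c f := by
    funext S
    simp [mul_left_comm]

@[simp] lemma P_apply (k : Fin n) (f : W n) (S) : P k f S = sg k S * f (S ∆ {k}) := rfl
@[simp] lemma Q_apply (k : Fin n) (f : W n) (S) : Q k f S = et k S * sg k S * f (S ∆ {k}) := rfl
@[simp] lemma Par_apply (f : W n) (S) : (Par : A n) f S = par S * f S := rfl

lemma P_sq (k : Fin n) : P k * P k = 1 := by
  apply LinearMap.ext; intro f; funext S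
  simp only [Module.End.mul_apply, P_apply, Module.End.one_apply, flip_flip, sg_flip, lt_irrefl,
    if_false, one_mul]
  rw [← mul_assoc, sg_mul_self, one_mul]

lemma P_anti {i j : Fin n} (h : i ≠ j) : P i * P j = - (P j * P i) := by
  apply LinearMap.ext; intro f; funext S
  simp only [Module.End.mul_apply, P_apply, LinearMap.neg_apply, Pi.neg_apply, sg_flip]
  rw [flip_comm S i j]
  rcases lt_or_gt_of_ne h with h1 | h1
  · simp only [h1, if_true, not_lt_of_gt h1, if_false]
    ring
  · simp only [h1, if_true, not_lt_of_gt h1, if_false]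
    ring


lemma Q_P (i j : Fin n) : Q i * P j = - (P j * Q i) := by
  apply LinearMap.ext; intro f; funext S
  simp only [Module.End.mul_apply, P_apply, Q_apply, LinearMap.neg_apply, Pi.neg_apply, sg_flip,
    et_flip]
  rw [flip_comm S i j]
  rcases lt_trichotomy i j with h1 | h1 | h1
  · have h2 : j ≠ i := (ne_of_lt h1).symm
    simp only [h1, if_true, not_lt_of_gt h1, if_false, h2]
    ring
  · subst h1
    simp only [lt_irrefl, if_false, if_true]
    ring
  · have h2 : j ≠ i := ne_of_lt h1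
    simp only [h1, if_true, not_lt_of_gt h1, if_false, h2]
    ring

lemma Par_P (k : Fin n) : Par * P k = - (P k * Par) := by
  apply LinearMap.ext; intro f; funext S
  simp only [Module.End.mul_apply, P_apply, Par_apply, LinearMap.neg_apply, Pi.neg_apply, par_flip]
  ring

lemma Par_Q (k : Fin n) : Par * Q k = - (Q k * Par) := by
  apply LinearMap.ext; intro f; funext S
  simp only [Module.End.mul_apply, Q_apply, Par_apply, LinearMap.neg_apply, Pi.neg_apply, par_flip]
  ring

/-- vacuum and basis vectors -/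
def dl (S : Finset (Fin n)) : W n := Pi.single S 1

lemma dl_apply (S T : Finset (Fin n)) : dl S T = if T = S then 1 else 0 := by
  unfold dl
  rw [Pi.single_apply]

lemma flip_eq_iff (S T : Finset (Fin n)) (k : Fin n) : T ∆ {k} = S ↔ T = S ∆ {k} := by
  constructor
  · intro h; rw [← h, flip_flip]
  · intro h; rw [h, flip_flip]

lemma mem_flip_self (S : Finset (Fin n)) (k : Fin n) : k ∈ S ∆ {k} ↔ k ∉ S := by
  simp [Finset.mem_symmDiff]

/-- annihilation kills the vacuum -/
lemma PQ_add_vac (k : Fin n) : (P k + Q k) (dl ∅) = 0 := by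
  funext S
  simp only [LinearMap.add_apply, Pi.add_apply, P_apply, Q_apply, dl_apply, Pi.zero_apply]
  by_cases h : S ∆ {k} = ∅
  · have hS : S = {k} := by
      have := (flip_eq_iff ∅ S k).mp h
      rw [this]; simp
    subst hS
    simp [et]
  · simp [h]

/-- creation moves along basis -/
lemma PQ_sub_dl (k : Fin n) (S : Finset (Fin n)) (hk : k ∉ S) :
    (P k - Q k) (dl S) = (2 * sg k (insert k S)) • dl (insert k S) := by
  funext T
  simp only [LinearMap.sub_apply, Pi.sub_apply, P_apply, Q_apply, dl_apply, Pi.smul_apply,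
    smul_eq_mul]
  by_cases h : T = insert k S
  · subst h
    have h1 : (insert k S) ∆ {k} = S := by
      rw [flip_eq_iff, symmDiff_single_of_not_mem hk]
    simp only [h1, if_true, et, Finset.mem_insert_self]
    ring
  · have h1 : T ∆ {k} ≠ S := by
      intro h2
      apply h
      rw [(flip_eq_iff S T k).mp h2, symmDiff_single_of_not_mem hk]
    simp [h, h1]

lemma sg_ne_zero (k : Fin n) (S : Finset (Fin n)) : sg k S ≠ 0 := by
  intro h
  have := sg_mul_self k S
  rw [h] at this
  simp at this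

/-- An endomorphism commuting with all `P k` and `Q k` is a scalar. -/
lemma scalar_of_commute (x : A n) (hP : ∀ k, x * P k = P k * x) (hQ : ∀ k, x * Q k = Q k * x) :
    ∃ c : K, x = c • (1 : A n) := by
  refine ⟨x (dl ∅) ∅, ?_⟩
  -- x vac = c vac
  have hvac : x (dl ∅) = (x (dl ∅) ∅) • dl ∅ := by
    funext T
    by_cases hT : T = ∅
    · subst hT; simp [dl_apply]
    · obtain ⟨k, hk⟩ := Finset.nonempty_iff_ne_empty.mpr hT
      have h0 : (P k + Q k) (x (dl ∅)) = 0 := by
        have : (P k + Q k) * x = x * (P k + Q k) := by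
          rw [add_mul, mul_add, hP, hQ]
        have h1 := LinearMap.congr_fun this (dl ∅)
        simp only [Module.End.mul_apply] at h1
        rw [h1, PQ_add_vac, map_zero]
      have h1 := congrFun h0 (T.erase k)
      simp only [LinearMap.add_apply, Pi.add_apply, P_apply, Q_apply, Pi.zero_apply] at h1
      have h2 : (T.erase k) ∆ {k} = T := by
        rw [symmDiff_single_of_not_mem (Finset.notMem_erase k T), Finset.insert_erase hk]
      rw [h2] at h1
      have h3 : et k (T.erase k) = 1 := by simp [et]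
      rw [h3, one_mul, ← two_mul] at h1
      have h4 : (2 : K) ≠ 0 := by decide
      have h5 := (mul_eq_zero.mp h1).resolve_left h4
      have h6 := (mul_eq_zero.mp h5).resolve_left (sg_ne_zero _ _)
      simp [h6, dl_apply, hT]
  -- x dl S = c dl S
  have hall : ∀ S : Finset (Fin n), x (dl S) = (x (dl ∅) ∅) • dl S := by
    intro S
    induction S using Finset.induction_on with
    | empty => exact hvac
    | insert k S hk ih =>
      have hu : (2 * sg k (insert k S)) ≠ 0 := mul_ne_zero (by decide) (sg_ne_zero _ _)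
      have h1 : dl (insert k S) = (2 * sg k (insert k S))⁻¹ • (P k - Q k) (dl S) := by
        rw [PQ_sub_dl k S hk, smul_smul, inv_mul_cancel₀ hu, one_smul]
      have hc : x * (P k - Q k) = (P k - Q k) * x := by
        rw [mul_sub, sub_mul, hP, hQ]
      have h2 := LinearMap.congr_fun hc (dl S)
      simp only [Module.End.mul_apply] at h2
      rw [h1, map_smul, h2, ih, map_smul, smul_comm]
  apply LinearMap.pi_ext
  intro S c
  have : (Pi.single S c : W n) = c • dl S := by
    unfold dl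
    rw [← Pi.single_smul, smul_eq_mul, mul_one]
  rw [this, map_smul, hall, LinearMap.smul_apply, Module.End.one_apply, smul_comm]


lemma P_Par (k : Fin n) : P k * Par = - (Par * P k) := by
  rw [Par_P, neg_neg]

lemma Q_Par (k : Fin n) : Q k * Par = - (Par * Q k) := by
  rw [Par_Q, neg_neg]

lemma P_Q (i j : Fin n) : P j * Q i = - (Q i * P j) := by
  rw [Q_P, neg_neg]

lemma three_eq_zero : (1 : A n) + 1 + 1 = 0 := by
  calc (1 : A n) + 1 + 1 = ((1 : K) + 1 + 1) • (1 : A n) := by simp [add_smul]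
    _ = 0 := by rw [show (1 : K) + 1 + 1 = 0 by decide, zero_smul]

lemma one_add_one : (1 : A n) + 1 = -1 := by
  have := three_eq_zero (n := n)
  exact eq_neg_of_add_eq_zero_left this

lemma P_injective {i j : Fin n} (h : (P i : A n) = P j) : i = j := by
  by_contra hij
  have h1 := congrFun (LinearMap.congr_fun h (dl ∅)) {i}
  simp only [P_apply, dl_apply] at h1
  have h2 : ({i} : Finset (Fin n)) ∆ {i} = ∅ := by simp
  have h3 : ({i} : Finset (Fin n)) ∆ {j} ≠ ∅ := by
    intro h4
    have h5 := (flip_eq_iff ∅ {i} j).mp h4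
    have h6 : (∅ : Finset (Fin n)) ∆ {j} = {j} := by
      ext x; simp [Finset.mem_symmDiff]
    rw [h6] at h5
    exact hij (Finset.singleton_injective h5)
  rw [h2] at h1
  simp only [h3, if_true, if_false, mul_zero, mul_one] at h1
  exact sg_ne_zero _ _ h1

/-- `x` lifts `σ` up to the sign `s`. -/
def Lifts (s : K) (x : A n) (σ : Equiv.Perm (Fin n)) : Prop :=
  x * Par = s • (Par * x) ∧ (∀ k, x * Q k = s • (Q k * x)) ∧ ∀ k, x * P k = s • (P (σ k) * x)

lemma Lifts.one : Lifts (1 : K) (1 : A n) 1 := by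
  refine ⟨by simp, fun k => by simp, fun k => by simp⟩

lemma Lifts.mul {s t : K} {x y : A n} {σ τ : Equiv.Perm (Fin n)} (hx : Lifts s x σ)
    (hy : Lifts t y τ) : Lifts (s * t) (x * y) (σ * τ) := by
  refine ⟨?_, fun k => ?_, fun k => ?_⟩
  · rw [mul_assoc, hy.1, mul_smul_comm, ← mul_assoc, hx.1, smul_mul_assoc, smul_smul, mul_assoc,
      mul_comm t s]
  · rw [mul_assoc, hy.2.1, mul_smul_comm, ← mul_assoc, hx.2.1, smul_mul_assoc, smul_smul, mul_assoc,
      mul_comm t s]
  · rw [mul_assoc, hy.2.2, mul_smul_comm, ← mul_assoc, hx.2.2, smul_mul_assoc, smul_smul, mul_assoc,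
      mul_comm t s, Equiv.Perm.mul_apply]

/-- the lift of a transposition -/
def T (a b : Fin n) : A n := P a - P b

lemma T_sq {a b : Fin n} (h : a ≠ b) : T a b * T a b = -1 := by
  unfold T
  rw [sub_mul, mul_sub, mul_sub, P_sq, P_sq, P_anti h, ← one_add_one]
  abel

lemma neg_one_smul' (x : A n) : (-1 : K) • x = -x := by
  rw [neg_smul (R := K) (M := A n), one_smul]

lemma T_lifts {a b : Fin n} (h : a ≠ b) : Lifts (-1 : K) (T a b) (Equiv.swap a b) := by
  refine ⟨?_, fun k => ?_, fun k => ?_⟩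
  · unfold T
    rw [sub_mul, mul_sub, P_Par, P_Par]
    rw [neg_one_smul']
    abel
  · unfold T
    rw [sub_mul, mul_sub, P_Q, P_Q]
    rw [neg_one_smul']
    abel
  · unfold T
    rw [neg_one_smul']
    by_cases hka : k = a
    · subst hka
      rw [Equiv.swap_apply_left, sub_mul, mul_sub, P_sq, P_sq]
      abel
    · by_cases hkb : k = b
      · subst hkb
        rw [Equiv.swap_apply_right, sub_mul, mul_sub, P_sq, P_sq]
        abel
      · rw [Equiv.swap_apply_of_ne_of_ne hka hkb, sub_mul, mul_sub,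
          P_anti (Ne.symm hka), P_anti (Ne.symm hkb)]
        abel

/-- sign of a permutation in `K` -/
def sK (σ : Equiv.Perm (Fin n)) : K := ((Equiv.Perm.sign σ : ℤˣ) : ℤ)

lemma sK_swap_mul {a b : Fin n} (h : a ≠ b) (f : Equiv.Perm (Fin n)) :
    sK (Equiv.swap a b * f) = -1 * sK f := by
  unfold sK
  rw [Equiv.Perm.sign_mul, Equiv.Perm.sign_swap h]
  simp

lemma sK_one : sK (1 : Equiv.Perm (Fin n)) = 1 := by
  unfold sK
  simp

lemma exists_lift (σ : Equiv.Perm (Fin n)) : ∃ y : (A n)ˣ, Lifts (sK σ) (y : A n) σ := by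
  induction σ using Equiv.Perm.swap_induction_on with
  | one => exact ⟨1, by rw [sK_one]; exact Lifts.one⟩
  | swap_mul f a b hab ih =>
    obtain ⟨y, hy⟩ := ih
    have hu : T a b * -(T a b) = 1 := by rw [mul_neg (α := A n), T_sq hab, neg_neg]
    have hu' : -(T a b) * T a b = 1 := by rw [neg_mul (α := A n), T_sq hab, neg_neg]
    refine ⟨⟨T a b, -(T a b), hu, hu'⟩ * y, ?_⟩
    rw [sK_swap_mul hab]
    exact (T_lifts hab).mul hy


lemma unit_conj {u : (A n)ˣ} {a b : A n} (h : (u : A n) * a = b * u) :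
    ((u⁻¹ : (A n)ˣ) : A n) * b = a * ((u⁻¹ : (A n)ˣ) : A n) := by
  have h1 : b = u * a * ((u⁻¹ : (A n)ˣ) : A n) := by
    rw [h, mul_assoc, Units.mul_inv, mul_one]
  rw [h1, ← mul_assoc, ← mul_assoc, Units.inv_mul, one_mul]

lemma Lifts.inv {u : (A n)ˣ} {σ : Equiv.Perm (Fin n)} (h : Lifts (1 : K) (u : A n) σ) :
    Lifts (1 : K) (((u⁻¹ : (A n)ˣ)) : A n) σ⁻¹ := by
  obtain ⟨h1, h2, h3⟩ := h
  simp only [one_smul] at h1 h2 h3
  refine ⟨?_, fun k => ?_, fun k => ?_⟩
  · rw [one_smul]; exact unit_conj h1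
  · rw [one_smul]; exact unit_conj (h2 k)
  · rw [one_smul]
    have := h3 (σ⁻¹ k)
    rw [show σ (σ⁻¹ k) = k from by simp] at this
    exact unit_conj this

lemma Lifts.unique {u : (A n)ˣ} {σ τ : Equiv.Perm (Fin n)} (h : Lifts (1 : K) (u : A n) σ)
    (h' : Lifts (1 : K) (u : A n) τ) : σ = τ := by
  ext k
  have h1 := h.2.2 k
  have h2 := h'.2.2 k
  rw [one_smul] at h1 h2
  rw [h1] at h2
  have h3 := (Units.mul_left_inj u).mp h2
  rw [P_injective h3]

/-- The covering group. -/
def Gam (n : ℕ) : Subgroup (A n)ˣ where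
  carrier := {x | ∃ σ ∈ alternatingGroup (Fin n), Lifts (1 : K) (x : A n) σ}
  one_mem' := ⟨1, one_mem _, Lifts.one⟩
  mul_mem' := by
    rintro x y ⟨σ, hσ, hx⟩ ⟨τ, hτ, hy⟩
    refine ⟨σ * τ, mul_mem hσ hτ, ?_⟩
    have := hx.mul hy
    rwa [one_mul] at this
  inv_mem' := by
    rintro x ⟨σ, hσ, hx⟩
    exact ⟨σ⁻¹, inv_mem hσ, hx.inv⟩

noncomputable def phiFun (x : Gam n) : alternatingGroup (Fin n) :=
  ⟨Classical.choose x.2, (Classical.choose_spec x.2).1⟩

lemma phiFun_spec (x : Gam n) :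
    Lifts (1 : K) (((x : (A n)ˣ)) : A n) (phiFun x : Equiv.Perm (Fin n)) :=
  (Classical.choose_spec x.2).2

lemma phiFun_eq (x : Gam n) (σ : Equiv.Perm (Fin n))
    (h : Lifts (1 : K) (((x : (A n)ˣ)) : A n) σ) : (phiFun x : Equiv.Perm (Fin n)) = σ :=
  (phiFun_spec x).unique h

noncomputable def phi : Gam n →* alternatingGroup (Fin n) :=
  MonoidHom.mk' phiFun (by
    intro x y
    apply Subtype.ext
    apply phiFun_eq
    have := (phiFun_spec x).mul (phiFun_spec y)
    rwa [one_mul] at this)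

lemma phi_surjective : Function.Surjective (phi (n := n)) := by
  rintro ⟨σ, hσ⟩
  obtain ⟨y, hy⟩ := exists_lift σ
  have hs : sK σ = 1 := by
    unfold sK
    rw [Equiv.Perm.mem_alternatingGroup.mp hσ]
    simp
  rw [hs] at hy
  refine ⟨⟨y, σ, hσ, hy⟩, ?_⟩
  apply Subtype.ext
  exact phiFun_eq _ σ hy

lemma neg_one_lifts : Lifts (1 : K) (((-1 : (A n)ˣ)) : A n) 1 := by
  refine ⟨?_, fun k => ?_, fun k => ?_⟩ <;> simp

/-- the central involution -/
def zz (n : ℕ) : Gam n := ⟨-1, 1, one_mem _, neg_one_lifts⟩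

lemma A_neg_one_ne_one : (-1 : A n) ≠ 1 := by
  intro h
  have h1 := congrFun (LinearMap.congr_fun h (dl ∅)) ∅
  simp [dl_apply] at h1
  have h2 : ((-1 : K) = 1) → False := by decide
  exact h2 h1

lemma zz_ne_one : zz n ≠ 1 := by
  intro h
  have h1 : ((zz n : (A n)ˣ) : A n) = 1 := by rw [h]; rfl
  exact A_neg_one_ne_one h1

lemma zz_sq : zz n ^ 2 = 1 := by
  apply Subtype.ext
  apply Units.ext
  simp [zz]

lemma zz_central : zz n ∈ Subgroup.center (Gam n) := by
  rw [Subgroup.mem_center_iff]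
  intro g
  apply Subtype.ext
  apply Units.ext
  simp [zz]

lemma ker_phi : (phi (n := n)).ker = Subgroup.zpowers (zz n) := by
  apply le_antisymm
  · intro x hx
    rw [MonoidHom.mem_ker] at hx
    have h1 := phiFun_spec x
    have h2 : (phiFun x : Equiv.Perm (Fin n)) = 1 := by
      have : phi x = phiFun x := rfl
      rw [← this, hx]; rfl
    rw [h2] at h1
    obtain ⟨_, hQ, hP⟩ := h1
    simp only [one_smul, Equiv.Perm.one_apply] at hQ hP
    obtain ⟨c, hc⟩ := scalar_of_commute _ hP hQ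
    have h3 : ∀ c : K, c = 0 ∨ c = 1 ∨ c = -1 := by decide
    rcases h3 c with rfl | rfl | rfl
    · exfalso
      rw [zero_smul] at hc
      have h4 := (x : (A n)ˣ).mul_inv
      rw [hc, zero_mul] at h4
      exact zero_ne_one h4
    · rw [one_smul] at hc
      have : x = 1 := by
        apply Subtype.ext; apply Units.ext; exact hc
      rw [this]; exact one_mem _
    · rw [neg_one_smul'] at hc
      have : x = zz n := by
        apply Subtype.ext; apply Units.ext; rw [hc]; rfl
      rw [this]; exact Subgroup.mem_zpowers _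
  · rw [Subgroup.zpowers_le, MonoidHom.mem_ker]
    apply Subtype.ext
    exact phiFun_eq _ 1 neg_one_lifts


/-- the lift of a transposition, as a unit -/
def TU (a b : Fin n) (h : a ≠ b) : (A n)ˣ :=
  ⟨T a b, -(T a b), by rw [mul_neg (α := A n), T_sq h, neg_neg],
    by rw [neg_mul (α := A n), T_sq h, neg_neg]⟩

lemma TU_val (a b : Fin n) (h : a ≠ b) : ((TU a b h : (A n)ˣ) : A n) = T a b := rfl

lemma T_anti {p q r s : Fin n} (hpr : p ≠ r) (hps : p ≠ s) (hqr : q ≠ r) (hqs : q ≠ s) :
    T p q * T r s = -(T r s * T p q) := by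
  unfold T
  rw [sub_mul, mul_sub, mul_sub, sub_mul, mul_sub, mul_sub, P_anti hpr, P_anti hps, P_anti hqr,
    P_anti hqs]
  abel

/-- lift of a double transposition -/
def TT (a b c d : Fin n) (hab : a ≠ b) (hcd : c ≠ d) : Gam n :=
  ⟨TU a b hab * TU c d hcd, Equiv.swap a b * Equiv.swap c d, by
    rw [Equiv.Perm.mem_alternatingGroup, Equiv.Perm.sign_mul, Equiv.Perm.sign_swap hab,
      Equiv.Perm.sign_swap hcd]; rfl, by
    have := (T_lifts hab).mul (T_lifts hcd)
    rw [show (-1 : K) * -1 = 1 by decide] at this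
    exact this⟩

lemma TT_val (a b c d : Fin n) (hab : a ≠ b) (hcd : c ≠ d) :
    (((TT a b c d hab hcd : Gam n) : (A n)ˣ) : A n) = T a b * T c d := rfl

lemma TT_lifts (a b c d : Fin n) (hab : a ≠ b) (hcd : c ≠ d) :
    Lifts (1 : K) (T a b * T c d) (Equiv.swap a b * Equiv.swap c d) := by
  have := (T_lifts hab).mul (T_lifts hcd)
  rw [show (-1 : K) * -1 = 1 by decide] at this
  exact this

lemma comm_eq_zz {i0 i1 i2 i3 : Fin n} (h01 : i0 ≠ i1) (h02 : i0 ≠ i2) (h03 : i0 ≠ i3)
    (h12 : i1 ≠ i2) (h13 : i1 ≠ i3) (h23 : i2 ≠ i3) :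
    ⁅TT i0 i1 i2 i3 h01 h23, TT i0 i2 i1 i3 h02 h13⁆ = zz n := by
  have key : TT i0 i1 i2 i3 h01 h23 * TT i0 i2 i1 i3 h02 h13 =
      zz n * (TT i0 i2 i1 i3 h02 h13 * TT i0 i1 i2 i3 h01 h23) := by
    apply Subtype.ext
    apply Units.ext
    simp only [Subgroup.coe_mul, Units.val_mul, TT_val]
    have hz : (((zz n : Gam n) : (A n)ˣ) : A n) = -1 := rfl
    rw [hz]
    have hL := (TT_lifts i0 i1 i2 i3 h01 h23).2.2
    simp only [one_smul] at hL
    have e0 : (Equiv.swap i0 i1 * Equiv.swap i2 i3) i0 = i1 := by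
      rw [Equiv.Perm.mul_apply, Equiv.swap_apply_of_ne_of_ne h02 h03, Equiv.swap_apply_left]
    have e1 : (Equiv.swap i0 i1 * Equiv.swap i2 i3) i1 = i0 := by
      rw [Equiv.Perm.mul_apply, Equiv.swap_apply_of_ne_of_ne h12 h13, Equiv.swap_apply_right]
    have e2 : (Equiv.swap i0 i1 * Equiv.swap i2 i3) i2 = i3 := by
      rw [Equiv.Perm.mul_apply, Equiv.swap_apply_left,
        Equiv.swap_apply_of_ne_of_ne h03.symm h13.symm]
    have e3 : (Equiv.swap i0 i1 * Equiv.swap i2 i3) i3 = i2 := by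
      rw [Equiv.Perm.mul_apply, Equiv.swap_apply_right,
        Equiv.swap_apply_of_ne_of_ne h02.symm h12.symm]
    have c1 : (T i0 i1 * T i2 i3) * T i0 i2 = T i1 i3 * (T i0 i1 * T i2 i3) := by
      have a0 := hL i0
      have a2 := hL i2
      rw [e0] at a0
      rw [e2] at a2
      unfold T at a0 a2 ⊢
      rw [mul_sub, a0, a2, ← sub_mul]
    have c2 : (T i0 i1 * T i2 i3) * T i1 i3 = T i0 i2 * (T i0 i1 * T i2 i3) := by
      have a1 := hL i1
      have a3 := hL i3
      rw [e1] at a1
      rw [e3] at a3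
      unfold T at a1 a3 ⊢
      rw [mul_sub, a1, a3, ← sub_mul]
    have c3 : T i1 i3 * T i0 i2 = -(T i0 i2 * T i1 i3) :=
      T_anti h01.symm h12 h03.symm h23.symm
    calc T i0 i1 * T i2 i3 * (T i0 i2 * T i1 i3)
        = (T i0 i1 * T i2 i3 * T i0 i2) * T i1 i3 := by simp only [mul_assoc]
      _ = T i1 i3 * ((T i0 i1 * T i2 i3) * T i1 i3) := by rw [c1, mul_assoc]
      _ = (T i1 i3 * T i0 i2) * (T i0 i1 * T i2 i3) := by rw [c2, mul_assoc]
      _ = -1 * (T i0 i2 * T i1 i3 * (T i0 i1 * T i2 i3)) := by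
          rw [c3, neg_mul (α := A n), neg_mul (α := A n), one_mul]
  rw [commutatorElement_def, key]
  group

theorem double_cover_exists (n : ℕ) (hn : 4 ≤ n) :
    ∃ (Γ : Type) (_ : Group Γ) (_ : Finite Γ) (z : Γ) (_ : z ∈ Subgroup.center Γ),
      orderOf z = 2 ∧ z ∈ commutator Γ ∧ ∃ _ : (Subgroup.zpowers z).Normal,
        Nonempty (Γ ⧸ Subgroup.zpowers z ≃* alternatingGroup (Fin n)) := by
  have : Finite (A n) := DFunLike.finite _
  refine ⟨Gam n, inferInstance, inferInstance, zz n, zz_central, ?_, ?_, ?_⟩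
  · have : Fact (Nat.Prime 2) := ⟨Nat.prime_two⟩
    exact orderOf_eq_prime zz_sq zz_ne_one
  · have h01 : (⟨0, by omega⟩ : Fin n) ≠ ⟨1, by omega⟩ := by
      intro h; simp [Fin.ext_iff] at h
    have h02 : (⟨0, by omega⟩ : Fin n) ≠ ⟨2, by omega⟩ := by
      intro h; simp [Fin.ext_iff] at h
    have h03 : (⟨0, by omega⟩ : Fin n) ≠ ⟨3, by omega⟩ := by
      intro h; simp [Fin.ext_iff] at h
    have h12 : (⟨1, by omega⟩ : Fin n) ≠ ⟨2, by omega⟩ := by
      intro h; simp [Fin.ext_iff] at h
    have h13 : (⟨1, by omega⟩ : Fin n) ≠ ⟨3, by omega⟩ := by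
      intro h; simp [Fin.ext_iff] at h
    have h23 : (⟨2, by omega⟩ : Fin n) ≠ ⟨3, by omega⟩ := by
      intro h; simp [Fin.ext_iff] at h
    rw [← comm_eq_zz h01 h02 h03 h12 h13 h23, commutator_def]
    exact Subgroup.commutator_mem_commutator (Subgroup.mem_top (G := Gam n) _)
      (Subgroup.mem_top (G := Gam n) _)
  · have hN : (Subgroup.zpowers (zz n)).Normal := by
      rw [← ker_phi]; infer_instance
    refine ⟨hN, ⟨?_⟩⟩
    exact (QuotientGroup.quotientMulEquivOfEq ker_phi.symm).trans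
      (QuotientGroup.quotientKerEquivOfSurjective phi phi_surjective)

end Cfsg.Agent.Lib.Helper1.DCA
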