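import Mathlib
import Cfsg.Prelude.Def_Classical
import Cfsg.Prelude.Def_KGroupFacts
import Cfsg.Agent.Lib.Helper1.ExtraspecialOut

/-!
# `O⁻₄(2) ≅ S₅` and `Out(D₈ ∗ Q₈) ≅ S₅` (helper1)

* `refl`, `reflGL`, `reflGL_mem`: orthogonal transvections over `ZMod 2` as isometries;
* `Sing Q`, `singAction`, `nonempty_isometry_equiv_perm`: if distinct nonzero singular vectors are
  never orthogonal and they span, the isometry group is the symmetric group on them;
* `nonempty_O4_equiv`: `isometryGroup (ZMod 2) (quadFormMinus 1 (ZMod 2) 1 1) ≃* Perm (Fin 5)`;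
* `conj_ker_eq_center`, `card_inn_mul`; `out_32_minus` (= S4413).
-/

set_option autoImplicit false
set_option linter.unusedSectionVars false
set_option linter.unusedSimpArgs false

namespace Cfsg.Agent.Lib.Helper1.ESOut

section
variable {ι : Type} [Fintype ι] [DecidableEq ι] (c : Cocycle ι)

theorem zmod2_cases (a : ZMod 2) : a = 0 ∨ a = 1 := by
  fin_cases a
  · left; rfl
  · right; rfl

/-- the reflection (orthogonal transvection) along `u` -/
def refl (u v : ι → ZMod 2) : ι → ZMod 2 := v + c.B v u • u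

theorem refl_add (u v w : ι → ZMod 2) : refl c u (v + w) = refl c u v + refl c u w := by
  unfold refl
  rw [c.B_add_left, add_smul]
  abel

theorem refl_refl (u v : ι → ZMod 2) : refl c u (refl c u v) = v := by
  unfold refl
  rcases zmod2_cases (c.B v u) with h | h
  · rw [h, zero_smul, add_zero, h, zero_smul, add_zero]
  · rw [h, one_smul, c.B_add_left, h, c.B_self, add_zero, one_smul, add_assoc, vec_add_self,
      add_zero]

theorem Q_refl (u : ι → ZMod 2) (hu : c.Q u = 1) (v : ι → ZMod 2) :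
    c.Q (refl c u v) = c.Q v := by
  unfold refl
  rcases zmod2_cases (c.B v u) with h | h
  · rw [h, zero_smul, add_zero]
  · rw [h, one_smul, c.Q_add, hu, h, add_assoc]
    have : (1 : ZMod 2) + 1 = 0 := by decide
    rw [this, add_zero]

/-- the reflection as a linear map -/
def reflLin (u : ι → ZMod 2) : (ι → ZMod 2) →ₗ[ZMod 2] (ι → ZMod 2) :=
  (AddMonoidHom.mk' (refl c u) (refl_add c u)).toZModLinearMap 2

theorem reflLin_apply (u v : ι → ZMod 2) : reflLin c u v = refl c u v := rfl

theorem reflLin_comp (u : ι → ZMod 2) : reflLin c u ∘ₗ reflLin c u = LinearMap.id := by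
  apply LinearMap.ext
  intro v
  simp only [LinearMap.comp_apply, reflLin_apply, refl_refl, LinearMap.id_apply]

/-- the reflection as an element of `GL` -/
noncomputable def reflGL (u : ι → ZMod 2) : Matrix.GeneralLinearGroup ι (ZMod 2) :=
  ⟨LinearMap.toMatrix' (reflLin c u), LinearMap.toMatrix' (reflLin c u),
    by rw [← LinearMap.toMatrix'_comp, reflLin_comp, LinearMap.toMatrix'_id],
    by rw [← LinearMap.toMatrix'_comp, reflLin_comp, LinearMap.toMatrix'_id]⟩

theorem reflGL_mulVec (u v : ι → ZMod 2) :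
    ((reflGL c u : Matrix.GeneralLinearGroup ι (ZMod 2)) : Matrix ι ι (ZMod 2)).mulVec v =
      refl c u v := by
  change (LinearMap.toMatrix' (reflLin c u)).mulVec v = _
  rw [LinearMap.toMatrix'_mulVec]
  rfl

theorem reflGL_mem (Q : (ι → ZMod 2) → ZMod 2) (hQ : ∀ v, Q v = c.β v v) (u : ι → ZMod 2)
    (hu : Q u = 1) : reflGL c u ∈ Cfsg.isometryGroup (ZMod 2) Q := by
  rw [QG.mem_isometryGroup_iff]
  intro v
  rw [reflGL_mulVec, hQ, hQ]
  exact Q_refl c u (by rw [← hu, hQ]; rfl) v

end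

section
variable {ι : Type} [Fintype ι] [DecidableEq ι] (c : Cocycle ι)

/-- nonzero singular vectors -/
abbrev Sing (Q : (ι → ZMod 2) → ZMod 2) : Type := {v : ι → ZMod 2 // v ≠ 0 ∧ Q v = 0}

theorem gl_mulVec_ne_zero (g : Matrix.GeneralLinearGroup ι (ZMod 2)) (v : ι → ZMod 2)
    (hv : v ≠ 0) : (g : Matrix ι ι (ZMod 2)).mulVec v ≠ 0 := by
  intro h
  apply hv
  have h2 := congrArg (fun w => ((g⁻¹ : Matrix.GeneralLinearGroup ι (ZMod 2)) :
      Matrix ι ι (ZMod 2)).mulVec w) h
  simp only [Matrix.mulVec_mulVec] at h2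
  rw [← Matrix.GeneralLinearGroup.coe_mul, inv_mul_cancel] at h2
  simpa using h2

noncomputable instance singAction (Q : (ι → ZMod 2) → ZMod 2) :
    MulAction (Cfsg.isometryGroup (ZMod 2) Q) (Sing Q) where
  smul g s := ⟨((g : Matrix.GeneralLinearGroup ι (ZMod 2)) : Matrix ι ι (ZMod 2)).mulVec s.1,
    gl_mulVec_ne_zero _ _ s.2.1, by
      rw [(QG.mem_isometryGroup_iff Q _).mp g.2]; exact s.2.2⟩
  one_smul s := by
    apply Subtype.ext
    change ((1 : Matrix.GeneralLinearGroup ι (ZMod 2)) : Matrix ι ι (ZMod 2)).mulVec s.1 = s.1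
    simp
  mul_smul g h s := by
    apply Subtype.ext
    change (((g : Matrix.GeneralLinearGroup ι (ZMod 2)) * (h : Matrix.GeneralLinearGroup ι (ZMod 2)) :
      Matrix.GeneralLinearGroup ι (ZMod 2)) : Matrix ι ι (ZMod 2)).mulVec s.1 =
      ((g : Matrix.GeneralLinearGroup ι (ZMod 2)) : Matrix ι ι (ZMod 2)).mulVec
        (((h : Matrix.GeneralLinearGroup ι (ZMod 2)) : Matrix ι ι (ZMod 2)).mulVec s.1)
    rw [Matrix.GeneralLinearGroup.coe_mul, Matrix.mulVec_mulVec]

theorem sing_smul_val (Q : (ι → ZMod 2) → ZMod 2) (g : Cfsg.isometryGroup (ZMod 2) Q)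
    (s : Sing Q) : (g • s).1 =
      ((g : Matrix.GeneralLinearGroup ι (ZMod 2)) : Matrix ι ι (ZMod 2)).mulVec s.1 := rfl

/-- If distinct singular vectors are never orthogonal and the singular vectors span, the isometry
group is the full symmetric group on the singular vectors. -/
theorem nonempty_isometry_equiv_perm (Q : (ι → ZMod 2) → ZMod 2) (hQ : ∀ v, Q v = c.β v v)
    (hB : ∀ s t : Sing Q, s ≠ t → c.B s.1 t.1 = 1)
    (hspan : ∀ g : Matrix.GeneralLinearGroup ι (ZMod 2),
      (∀ s : Sing Q, (g : Matrix ι ι (ZMod 2)).mulVec s.1 = s.1) → g = 1) :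
    Nonempty (Cfsg.isometryGroup (ZMod 2) Q ≃* Equiv.Perm (Sing Q)) := by
  let ρ : Cfsg.isometryGroup (ZMod 2) Q →* Equiv.Perm (Sing Q) := MulAction.toPermHom _ _
  have hinj : Function.Injective ρ := by
    rw [injective_iff_map_eq_one]
    intro g hg
    apply Subtype.ext
    apply hspan
    intro s
    have := congrArg (fun σ : Equiv.Perm (Sing Q) => (σ s).1) hg
    exact this
  have hsurj : Function.Surjective ρ := by
    rw [← MonoidHom.range_eq_top, eq_top_iff, ← Equiv.Perm.closure_isSwap, Subgroup.closure_le]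
    rintro σ ⟨s, t, hst, rfl⟩
    have hQu : Q (s.1 + t.1) = 1 := by
      have := c.Q_add s.1 t.1
      unfold Cocycle.Q at this
      rw [hQ, this, ← hQ, ← hQ, s.2.2, t.2.2, hB s t hst, zero_add, zero_add]
    refine ⟨⟨reflGL c (s.1 + t.1), reflGL_mem c Q hQ _ hQu⟩, ?_⟩
    apply Equiv.ext
    intro w
    apply Subtype.ext
    change ((reflGL c (s.1 + t.1) : Matrix.GeneralLinearGroup ι (ZMod 2)) :
      Matrix ι ι (ZMod 2)).mulVec w.1 = _
    rw [reflGL_mulVec]
    unfold refl
    rw [c.B_add_right]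
    by_cases hws : w = s
    · subst hws
      rw [Equiv.swap_apply_left, c.B_self, hB w t hst, zero_add, one_smul, ← add_assoc,
        vec_add_self, zero_add]
    · by_cases hwt : w = t
      · subst hwt
        rw [Equiv.swap_apply_right, c.B_self, hB w s hws, add_zero, one_smul, add_comm s.1,
          ← add_assoc, vec_add_self, zero_add]
      · rw [Equiv.swap_apply_of_ne_of_ne hws hwt, hB w s hws, hB w t hwt]
        have : (1 : ZMod 2) + 1 = 0 := by decide
        rw [this, zero_smul, add_zero]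
  exact ⟨MulEquiv.ofBijective ρ ⟨hinj, hsurj⟩⟩

end

section
abbrev I4 : Type := (Fin 1 ⊕ Fin 1) ⊕ Fin 2

/-- the minus form in dimension 4 -/
abbrev Q4 : (I4 → ZMod 2) → ZMod 2 := Cfsg.quadFormMinus 1 (ZMod 2) 1 1

set_option maxRecDepth 100000 in
theorem card_sing4 : Fintype.card (Sing Q4) = 5 := by
  decide

set_option maxRecDepth 100000 in
set_option synthInstance.maxSize 2048 in
theorem B4 : ∀ s t : Sing Q4, s ≠ t → (cMinus 1).B s.1 t.1 = 1 := by
  decide


theorem gl_eq_one_of_fix {ι : Type} [Fintype ι] [DecidableEq ι]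
    (g : Matrix.GeneralLinearGroup ι (ZMod 2))
    (h : ∀ j : ι, (g : Matrix ι ι (ZMod 2)).mulVec (Pi.single j 1) = Pi.single j 1) : g = 1 := by
  apply Units.ext
  ext i j
  have := congrFun (h j) i
  simp only [Matrix.mulVec_single_one, Matrix.col_apply] at this
  rw [this]
  simp [Matrix.one_apply, Pi.single_apply, eq_comm]

set_option maxRecDepth 100000 in
theorem span4 (g : Matrix.GeneralLinearGroup I4 (ZMod 2))
    (h : ∀ s : Sing Q4, (g : Matrix I4 I4 (ZMod 2)).mulVec s.1 = s.1) : g = 1 := by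
  have hx := h ⟨Pi.single (Sum.inl (Sum.inl 0)) 1, by decide⟩
  have hy := h ⟨Pi.single (Sum.inl (Sum.inr 0)) 1, by decide⟩
  have h3 := h ⟨Pi.single (Sum.inl (Sum.inl 0)) 1 + Pi.single (Sum.inl (Sum.inr 0)) 1 +
    Pi.single (Sum.inr 0) 1, by decide⟩
  have h4 := h ⟨Pi.single (Sum.inl (Sum.inl 0)) 1 + Pi.single (Sum.inl (Sum.inr 0)) 1 +
    Pi.single (Sum.inr 1) 1, by decide⟩
  simp only at hx hy h3 h4
  rw [Matrix.mulVec_add, Matrix.mulVec_add, hx, hy] at h3 h4
  have h3' := add_left_cancel h3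
  have h4' := add_left_cancel h4
  apply gl_eq_one_of_fix
  rintro ((j | j) | j)
  · have : j = 0 := Subsingleton.elim _ _
    subst this; exact hx
  · have : j = 0 := Subsingleton.elim _ _
    subst this; exact hy
  · fin_cases j
    · exact h3'
    · exact h4'

theorem nonempty_O4_equiv :
    Nonempty (Cfsg.isometryGroup (ZMod 2) Q4 ≃* Equiv.Perm (Fin 5)) := by
  obtain ⟨e⟩ := nonempty_isometry_equiv_perm (cMinus 1) Q4 (cMinus_Q 1) B4 span4
  exact ⟨e.trans (Equiv.permCongrHom (Fintype.equivFinOfCardEq card_sing4))⟩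

end

section
theorem conj_ker_eq_center (P : Type*) [Group P] :
    (MulAut.conj : P →* MulAut P).ker = Subgroup.center P := by
  ext g
  rw [MonoidHom.mem_ker, Subgroup.mem_center_iff]
  constructor
  · intro h x
    have := DFunLike.congr_fun h x
    rw [MulAut.conj_apply, MulAut.one_apply] at this
    calc x * g = g * x * g⁻¹ * g := by rw [this]
      _ = g * x := by group
  · intro h
    apply MulEquiv.ext
    intro x
    rw [MulAut.conj_apply, MulAut.one_apply, ← h x, mul_inv_cancel_right]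

theorem card_inn_mul (P : Type*) [Group P] :
    Nat.card (Cfsg.Inn P) * Nat.card (Subgroup.center P) = Nat.card P := by
  have h1 := Subgroup.card_eq_card_quotient_mul_card_subgroup (MulAut.conj : P →* MulAut P).ker
  rw [Nat.card_congr (QuotientGroup.quotientKerEquivRange (MulAut.conj : P →* MulAut P)).toEquiv,
    conj_ker_eq_center] at h1
  exact h1.symm

theorem out_32_minus {P : Type*} [Group P] [Finite P]
    (hex : Cfsg.IsExtraspecial 2 P) (h32 : Nat.card P = 32)
    (hminus : ∀ A : Subgroup P, Cfsg.IsElementaryAbelian 2 A → Nat.card ↥A ≤ 4) :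
    Nat.card (Cfsg.Inn P) = 16 ∧ Nat.card (MulAut P) = 1920 ∧
      Nonempty (Cfsg.Out P ≃* Equiv.Perm (Fin 5)) := by
  have hno : ¬ ∃ A : Subgroup P, Cfsg.IsElementaryAbelian 2 A ∧ Nat.card ↥A = 2 ^ (2 + 1) := by
    rintro ⟨A, hA, hcard⟩
    have := hminus A hA
    rw [hcard] at this
    norm_num at this
  obtain ⟨f⟩ := (out_extraspecial hex 2 (by norm_num) (by rw [h32]; norm_num)).2 hno
  obtain ⟨g⟩ := nonempty_O4_equiv
  have e : Cfsg.Out P ≃* Equiv.Perm (Fin 5) := f.trans g
  have hinn : Nat.card (Cfsg.Inn P) = 16 := by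
    have := card_inn_mul P
    rw [hex.2, h32] at this
    omega
  refine ⟨hinn, ?_, ⟨e⟩⟩
  have h1 := Subgroup.card_eq_card_quotient_mul_card_subgroup (Cfsg.Inn P)
  have h2 : Nat.card (Equiv.Perm (Fin 5)) = 120 := by
    rw [Nat.card_eq_fintype_card, Fintype.card_perm, Fintype.card_fin]
    rfl
  rw [hinn, Nat.card_congr e.toEquiv, h2] at h1
  rw [h1]

end

end Cfsg.Agent.Lib.Helper1.ESOut
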