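import Mathlib
import Cfsg.Prelude.Def_Solvable
import Cfsg.Agent.Lib.Helper1.Cores
import Cfsg.Agent.Lib.Helper1.Hall
import Cfsg.Agent.Lib.Helper1.Frattini

/-!
Fitting subgroup modulo the Frattini subgroup (Gaschütz).
-/

set_option autoImplicit false

open Subgroup Cfsg

namespace Cfsg.Agent.Lib.Helper1

universe u

variable {G : Type u} [Group G]

theorem frattini_le_fittingSubgroup [Finite G] : frattini G ≤ fittingSubgroup G :=
  le_fittingSubgroup inferInstance frattini_nilpotent

/-- A normal subgroup containing `Φ(G)` whose image modulo `Φ(G)` is a `p`-group lies in `F(G)`. -/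
theorem le_fittingSubgroup_of_isPGroup_map_frattini [Finite G] {p : ℕ} [Fact p.Prime]
    (Q : Subgroup G) [Q.Normal] (hΦ : frattini G ≤ Q)
    (hQ : IsPGroup p (Q.map (QuotientGroup.mk' (frattini G)))) : Q ≤ fittingSubgroup G := by
  have hpp : p.Prime := Fact.out
  obtain ⟨P⟩ : Nonempty (Sylow p Q) := inferInstance
  have hfr := Sylow.normalizer_sup_eq_top P
  have hP'Q : (P : Subgroup Q).map Q.subtype ≤ Q := Subgroup.map_subtype_le _
  have hTQ : (P : Subgroup Q).map Q.subtype ⊔ frattini G ≤ Q := sup_le hP'Q hΦ
  -- Q ≤ P' ⊔ Φ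
  have hQT : Q ≤ (P : Subgroup Q).map Q.subtype ⊔ frattini G := by
    rw [← Subgroup.relIndex_eq_one]
    have h1 : ((P : Subgroup Q).map Q.subtype ⊔ frattini G).relIndex Q ∣
        ((P : Subgroup Q).map Q.subtype).relIndex Q :=
      Subgroup.relIndex_dvd_of_le_left Q le_sup_left
    have h2 : ((P : Subgroup Q).map Q.subtype ⊔ frattini G).relIndex Q ∣
        (frattini G).relIndex Q :=
      Subgroup.relIndex_dvd_of_le_left Q le_sup_right
    have h3 : ((P : Subgroup Q).map Q.subtype).relIndex Q = (P : Subgroup Q).index := by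
      rw [Subgroup.relIndex]
      congr 1
      ext x
      rw [Subgroup.mem_subgroupOf, Subgroup.mem_map]
      constructor
      · rintro ⟨y, hy, hxy⟩
        have : y = x := Subtype.ext hxy
        rwa [← this]
      · intro hx
        exact ⟨x, hx, rfl⟩
    have h4 : (frattini G).relIndex Q = Nat.card (Q.map (QuotientGroup.mk' (frattini G))) := by
      have e1 := card_mul_relIndex_of_le hΦ
      have e2 := card_map_mk_of_le (frattini G) hΦ
      have hpos : 0 < Nat.card (frattini G) := Nat.card_pos
      apply Nat.eq_of_mul_eq_mul_left hpos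
      rw [e1, mul_comm, e2]
    obtain ⟨k, hk⟩ := IsPGroup.iff_card.mp hQ
    rw [h4, hk] at h2
    rw [h3] at h1
    obtain ⟨j, -, hj⟩ := (Nat.dvd_prime_pow hpp).mp h2
    rw [hj] at h1 ⊢
    have hnd : ¬ p ∣ (P : Subgroup Q).index := P.not_dvd_index
    by_contra hne
    have hj0 : j ≠ 0 := by
      intro h0; rw [h0, pow_zero] at hne; exact hne rfl
    exact hnd ((dvd_pow_self p hj0).trans h1)
  -- N(P') = ⊤
  have hN : normalizer (((P : Subgroup Q).map Q.subtype : Subgroup G) : Set G) ⊔ frattini G = ⊤ := by
    rw [eq_top_iff, ← hfr]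
    apply sup_le le_sup_left
    refine hQT.trans (sup_le ?_ le_sup_right)
    exact Subgroup.le_normalizer.trans le_sup_left
  have hP'n : ((P : Subgroup Q).map Q.subtype).Normal :=
    Subgroup.normalizer_eq_top_iff.mp (frattini_nongenerating hN)
  have hP'p : IsPGroup p ((P : Subgroup Q).map Q.subtype) := P.2.map _
  have hP'F : (P : Subgroup Q).map Q.subtype ≤ fittingSubgroup G :=
    (le_pCore hP'n hP'p).trans (pCore_le_fittingSubgroup p)
  exact hQT.trans (sup_le hP'F frattini_le_fittingSubgroup)

theorem fittingSubgroup_quotient_frattini [Finite G] :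
    fittingSubgroup (G ⧸ frattini G) =
      (fittingSubgroup G).map (QuotientGroup.mk' (frattini G)) := by
  apply le_antisymm
  · rw [fittingSubgroup_eq_iSup_primes]
    refine iSup_le fun p => ?_
    have : Fact (p : ℕ).Prime := ⟨p.2⟩
    have hn : (pCore (p : ℕ) (G ⧸ frattini G)).Normal := pCore_normal _
    have hcn : ((pCore (p : ℕ) (G ⧸ frattini G)).comap (QuotientGroup.mk' (frattini G))).Normal :=
      inferInstance
    have hle : frattini G ≤ (pCore (p : ℕ) (G ⧸ frattini G)).comap (QuotientGroup.mk' (frattini G)) := by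
      conv_lhs => rw [← QuotientGroup.ker_mk' (frattini G)]
      exact MonoidHom.ker_le_comap _ _
    have hmc : ((pCore (p : ℕ) (G ⧸ frattini G)).comap (QuotientGroup.mk' (frattini G))).map
        (QuotientGroup.mk' (frattini G)) = pCore (p : ℕ) (G ⧸ frattini G) :=
      Subgroup.map_comap_eq_self_of_surjective (QuotientGroup.mk'_surjective _) _
    have h1 := le_fittingSubgroup_of_isPGroup_map_frattini (p := p) _ hle (by
      rw [hmc]; exact pCore_isPGroup _)
    rw [← hmc]
    exact Subgroup.map_mono h1
  · apply le_fittingSubgroup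
    · have := fittingSubgroup_normal (G := G)
      exact Subgroup.Normal.map this _ (QuotientGroup.mk'_surjective _)
    · have := fittingSubgroup_isNilpotent (G := G)
      exact Group.nilpotent_of_surjective
        ((QuotientGroup.mk' (frattini G)).subgroupMap (fittingSubgroup G))
        ((QuotientGroup.mk' (frattini G)).subgroupMap_surjective (fittingSubgroup G))

end Cfsg.Agent.Lib.Helper1
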