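import Mathlib
import Cfsg.Agent.Lib.Helper1.Basic

/-!
Fixed-point-free complements: even order case.
-/

set_option autoImplicit false

open Subgroup
open Pointwise

namespace Cfsg.Agent.Lib.Helper1

universe u

variable {G : Type u} [Group G]

/-- An involution acting fixed point freely on a finite normal subgroup inverts it. -/
theorem involution_inverts_of_fpf [Finite G] (K : Subgroup G) [K.Normal] (t : G)
    (ht2 : t * t = 1) (hfpf : K ⊓ Subgroup.centralizer {t} = ⊥) :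
    ∀ k ∈ K, t * k * t⁻¹ = k⁻¹ := by
  have htinv : t⁻¹ = t := inv_eq_of_mul_eq_one_left ht2
  let ψ : K → K := fun k => ⟨(k : G)⁻¹ * (t * k * t⁻¹),
    K.mul_mem (K.inv_mem k.2) (Subgroup.Normal.conj_mem inferInstance _ k.2 t)⟩
  have hinj : Function.Injective ψ := by
    intro a b h
    have h1 : (a : G)⁻¹ * (t * a * t⁻¹) = (b : G)⁻¹ * (t * b * t⁻¹) := congrArg Subtype.val h
    have h2 : (b : G) * (a : G)⁻¹ = t * ((b : G) * (a : G)⁻¹) * t⁻¹ := by
      calc (b : G) * (a : G)⁻¹ = b * ((a : G)⁻¹ * (t * a * t⁻¹)) * (t * a * t⁻¹)⁻¹ := by group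
        _ = b * ((b : G)⁻¹ * (t * b * t⁻¹)) * (t * a * t⁻¹)⁻¹ := by rw [h1]
        _ = _ := by group
    have h3 : (b : G) * (a : G)⁻¹ ∈ K ⊓ Subgroup.centralizer {t} := by
      refine Subgroup.mem_inf.mpr ⟨K.mul_mem b.2 (K.inv_mem a.2), ?_⟩
      rw [Subgroup.mem_centralizer_iff]
      intro y hy
      rw [Set.mem_singleton_iff] at hy
      subst hy
      calc y * ((b : G) * (a : G)⁻¹) = (y * ((b : G) * (a : G)⁻¹) * y⁻¹) * y := by group
        _ = (b : G) * (a : G)⁻¹ * y := by rw [← h2]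
    rw [hfpf, Subgroup.mem_bot, mul_inv_eq_one] at h3
    exact Subtype.ext h3.symm
  have hsurj : Function.Surjective ψ := Finite.surjective_of_injective hinj
  intro k hk
  obtain ⟨a, ha⟩ := hsurj ⟨k, hk⟩
  have h1 : k = (a : G)⁻¹ * (t * a * t⁻¹) := (congrArg Subtype.val ha).symm
  rw [h1]
  have e1 : t * ((a : G)⁻¹ * (t * a * t⁻¹)) * t⁻¹ = t * (a : G)⁻¹ * (t * a) * (t⁻¹ * t⁻¹) := by group
  have e2 : ((a : G)⁻¹ * (t * a * t⁻¹))⁻¹ = t * (a : G)⁻¹ * t⁻¹ * a := by group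
  have e3 : t⁻¹ * t⁻¹ = 1 := by rw [htinv, ht2]
  rw [e1, e2, e3, htinv]; group

theorem fpf_even_complement [Finite G] (K H : Subgroup G) [K.Normal]
    (hK : K ≠ ⊥) (hfpf : ∀ h ∈ H, h ≠ 1 → K ⊓ Subgroup.centralizer {h} = ⊥)
    (heven : 2 ∣ Nat.card H) :
    (∃ s ∈ H, orderOf s = 2 ∧ (∀ t ∈ H, orderOf t = 2 → t = s) ∧ ∀ k ∈ K, s * k * s⁻¹ = k⁻¹) ∧
      IsMulCommutative K := by
  have hinvol : ∀ t ∈ H, orderOf t = 2 → ∀ k ∈ K, t * k * t⁻¹ = k⁻¹ := by
    intro t ht hot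
    have ht1 : t ≠ 1 := by
      intro h; rw [h, orderOf_one] at hot; omega
    have ht2 : t * t = 1 := by
      have := pow_orderOf_eq_one t
      rwa [hot, pow_two] at this
    exact involution_inverts_of_fpf K t ht2 (hfpf t ht ht1)
  have : Fact (Nat.Prime 2) := ⟨Nat.prime_two⟩
  obtain ⟨s', hs'⟩ := exists_prime_orderOf_dvd_card' (G := H) 2 heven
  have hs : orderOf (s' : G) = 2 := by rw [Subgroup.orderOf_coe]; exact hs'
  have hsinv := hinvol s' s'.2 hs
  refine ⟨⟨s', s'.2, hs, ?_, hsinv⟩, ?_⟩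
  · intro t ht hot
    have htinv := hinvol t ht hot
    have ht2 : t * t = 1 := by
      have := pow_orderOf_eq_one t
      rwa [hot, pow_two] at this
    by_contra hne
    have hst1 : (s' : G) * t ≠ 1 := by
      intro h
      apply hne
      have h1 : (s' : G) = t⁻¹ := eq_inv_of_mul_eq_one_left h
      rw [h1, inv_eq_of_mul_eq_one_left ht2]
    have hbot := hfpf ((s' : G) * t) (H.mul_mem s'.2 ht) hst1
    apply hK
    rw [eq_bot_iff, ← hbot]
    intro k hk
    refine Subgroup.mem_inf.mpr ⟨hk, ?_⟩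
    rw [Subgroup.mem_centralizer_iff]
    intro y hy
    rw [Set.mem_singleton_iff] at hy
    subst hy
    have h1 := htinv k hk
    have h2 := hsinv k⁻¹ (K.inv_mem hk)
    rw [inv_inv] at h2
    calc (s' : G) * t * k = (s' : G) * (t * k * t⁻¹) * t := by group
      _ = (s' : G) * k⁻¹ * t := by rw [h1]
      _ = ((s' : G) * k⁻¹ * (s' : G)⁻¹) * ((s' : G) * t) := by group
      _ = k * ((s' : G) * t) := by rw [h2]
  · refine ⟨⟨fun a b => ?_⟩⟩
    apply Subtype.ext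
    show (a : G) * b = b * a
    have h1 := hsinv (a * b) (K.mul_mem a.2 b.2)
    have h2 := hsinv a a.2
    have h3 := hsinv b b.2
    have h4 : (s' : G) * ((a : G) * b) * (s' : G)⁻¹ =
        ((s' : G) * a * (s' : G)⁻¹) * ((s' : G) * b * (s' : G)⁻¹) := by group
    rw [h4, h2, h3] at h1
    have h5 : ((a : G)⁻¹ * (b : G)⁻¹)⁻¹ = (((a : G) * b)⁻¹)⁻¹ := by rw [h1]
    rw [inv_inv] at h5
    rw [← h5]; group

end Cfsg.Agent.Lib.Helper1
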