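import Mathlib
import Cfsg.Agent.Lib.Helper1.FrobConj2
import Cfsg.Agent.Lib.Helper1.FpfSylow
import Cfsg.Agent.Lib.Helper1.FpfComplement
import Cfsg.Agent.Lib.Helper1.CoprimeAbelian

/-!
# Helper1 library: Frobenius complements have nontrivial centre

* `frobData_of_fpf`: `FrobData H K` from the fixed-point-free semidirect product hypotheses,
* `center_ne_bot_of_isZGroup`: criterion for Z-groups (all Sylow subgroups cyclic),
* `center_ne_bot_of_fpf` (= S0069).
-/

set_option autoImplicit false

namespace Cfsg.Agent.Lib.Helper1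

open Cfsg.Agent.Lib.Helper10
open scoped commutatorElement

section FpfCenter

variable {G : Type*} [Group G] [Finite G]

/-- The fixed-point-free semidirect product data give `FrobData`. -/
theorem frobData_of_fpf (K H : Subgroup G) [hKn : K.Normal] (hc : Subgroup.IsComplement' K H)
    (hK : K ≠ ⊥) (hH : H ≠ ⊥)
    (hfpf : ∀ h ∈ H, h ≠ 1 → K ⊓ Subgroup.centralizer {h} = ⊥) : FrobData H K := by
  have h1 := Cfsg.Agent.Lib.Helper22.frobenius_of_fpf K H hc.disjoint.eq_bot hc.sup_eq_top hK hH
    (by
      intro h hh hh1 n hn hcomm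
      have : n ∈ K ⊓ Subgroup.centralizer {h} := by
        refine Subgroup.mem_inf.mpr ⟨hn, ?_⟩
        rw [Subgroup.mem_centralizer_singleton_iff]
        exact hcomm.symm
      rwa [hfpf h hh hh1, Subgroup.mem_bot] at this)
  exact ⟨h1.1, h1.2.symm, hKn, hc⟩

/-- In a finite cyclic subgroup, an element whose order divides that of `w` is a power of `w`;
consequently `zpowers w` is normalized by everything normalizing the cyclic subgroup. -/
theorem conj_mem_zpowers_of_isCyclic_normal {H : Type*} [Group H] [Finite H] (N : Subgroup H)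
    [hN : N.Normal] (hcyc : IsCyclic N) {v : H} (hv : v ∈ N) (h : H) :
    h * v * h⁻¹ ∈ Subgroup.zpowers v := by
  apply mem_zpowers_of_orderOf_dvd' N hcyc (hN.conj_mem v hv h) hv
  have : orderOf (h * v * h⁻¹) = orderOf v := by
    have := orderOf_injective (MulAut.conj h).toMonoidHom (MulAut.conj h).injective v
    simpa using this
  rw [this]

/-- A nontrivial finite Z-group in which elements of distinct prime orders `v`, `y` with
`y` normalizing `⟨v⟩` always commute has nontrivial centre. -/
theorem center_ne_bot_of_isZGroup {H : Type*} [Group H] [Finite H] [IsZGroup H] [Nontrivial H]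
    (hstar : ∀ v y : H, (orderOf v).Prime → (orderOf y).Prime → orderOf v ≠ orderOf y →
      (Subgroup.zpowers v).Normal → y * v = v * y) :
    Subgroup.center H ≠ ⊥ := by
  set N : Subgroup H := commutator H with hN
  have hNn : N.Normal := inferInstance
  have hNlt : N < ⊤ := IsZGroup.commutator_lt H
  have hNcyc : IsCyclic N := IsZGroup.isCyclic_commutator H
  have hNcop : (Nat.card N).Coprime N.index := IsZGroup.coprime_commutator_index H
  obtain ⟨B, hB⟩ := Subgroup.exists_right_complement'_of_coprime hNcop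
  have hBcomm : ∀ b₁ ∈ B, ∀ b₂ ∈ B, b₁ * b₂ = b₂ * b₁ := by
    intro b₁ h₁ b₂ h₂
    have h3 : ⁅b₁, b₂⁆ ∈ N ⊓ B := by
      refine Subgroup.mem_inf.mpr ⟨?_, ?_⟩
      · exact Subgroup.commutator_mem_commutator (Subgroup.mem_top _) (Subgroup.mem_top _)
      · exact B.mul_mem (B.mul_mem (B.mul_mem h₁ h₂) (B.inv_mem h₁)) (B.inv_mem h₂)
    rw [hB.disjoint.eq_bot, Subgroup.mem_bot, commutatorElement_eq_one_iff_mul_comm] at h3
    exact h3
  have hBcard : Nat.card B = N.index := hB.symm.index_eq_card.symm
  have hBne : Nat.card B ≠ 1 := by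
    rw [hBcard]
    intro h
    exact hNlt.ne (Subgroup.index_eq_one.mp h)
  obtain ⟨q, hq, hqB⟩ := Nat.exists_prime_and_dvd hBne
  have : Fact q.Prime := ⟨hq⟩
  obtain ⟨y0, hy0⟩ := exists_prime_orderOf_dvd_card' (G := B) q hqB
  set y : H := (y0 : H) with hy
  have hyB : y ∈ B := y0.2
  have hyord : orderOf y = q := by rw [hy, Subgroup.orderOf_coe, hy0]
  have hy1 : y ≠ 1 := by
    intro h
    rw [h, orderOf_one] at hyord
    exact hq.one_lt.ne hyord
  -- `y` centralizes `N`
  have hNc : IsMulCommutative N := by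
    have := hNcyc
    exact ⟨⟨fun a b => (IsCyclic.commGroup (α := N)).mul_comm a b⟩⟩
  have hqN : (Nat.card (Subgroup.zpowers y)).Coprime (Nat.card N) := by
    rw [Nat.card_zpowers, hyord]
    have : q ∣ N.index := hBcard ▸ hqB
    exact (Nat.Coprime.coprime_dvd_right this hNcop).symm
  have hyN : Subgroup.zpowers y ≤ Subgroup.centralizer (N : Set H) := by
    apply le_centralizer_of_centralizes_prime_order (Subgroup.zpowers y) N
      (by rw [Subgroup.normalizer_eq_top]; exact le_top) hqN
    intro v hv hvp a ha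
    have hvq : orderOf v ≠ orderOf y := by
      intro h
      have h1 : orderOf v ∣ Nat.card N := by
        have := orderOf_dvd_natCard (⟨v, hv⟩ : N)
        rwa [Subgroup.orderOf_mk] at this
      rw [h, hyord] at h1
      rw [Nat.card_zpowers, hyord] at hqN
      exact hq.one_lt.ne' (Nat.eq_one_of_dvd_coprimes hqN dvd_rfl h1)
    have hvn : (Subgroup.zpowers v).Normal := by
      refine ⟨fun g hg h => ?_⟩
      obtain ⟨k, rfl⟩ := Subgroup.mem_zpowers_iff.mp hg
      have h1 := conj_mem_zpowers_of_isCyclic_normal N hNcyc hv h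
      have h2 : h * v ^ k * h⁻¹ = (h * v * h⁻¹) ^ k := by
        simp [conj_zpow]
      rw [h2]
      exact Subgroup.zpow_mem _ h1 k
    have hc : y * v = v * y := hstar v y hvp (hyord ▸ hq) hvq hvn
    obtain ⟨k, rfl⟩ := Subgroup.mem_zpowers_iff.mp ha
    exact ((show Commute y v from hc).zpow_left k).eq
  -- `y` is central
  intro hbot
  apply hy1
  have hyc : y ∈ Subgroup.center H := by
    rw [Subgroup.mem_center_iff]
    intro h
    obtain ⟨n, hn, b, hb, rfl⟩ :=
      Cfsg.Agent.Lib.Helper22.exists_mul_of_sup_eq_top N B hB.sup_eq_top h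
    have h1 : n * y = y * n :=
      (Subgroup.mem_centralizer_iff.mp (hyN (Subgroup.mem_zpowers y))) n hn
    have h2 : b * y = y * b := hBcomm b hb y hyB
    calc n * b * y = n * (y * b) := by rw [mul_assoc, h2]
      _ = (n * y) * b := by rw [mul_assoc]
      _ = y * (n * b) := by rw [h1, mul_assoc]
  rw [hbot, Subgroup.mem_bot] at hyc
  exact hyc

/-- A nontrivial group acting fixed-point-freely (Frobenius complement) has nontrivial centre. -/
theorem center_ne_bot_of_fpf (K H : Subgroup G) [hKn : K.Normal]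
    (hc : Subgroup.IsComplement' K H) (hK : K ≠ ⊥) (hH : H ≠ ⊥)
    (hfpf : ∀ h ∈ H, h ≠ 1 → K ⊓ Subgroup.centralizer {h} = ⊥) :
    Subgroup.center H ≠ ⊥ := by
  by_cases heven : 2 ∣ Nat.card H
  · -- the unique involution is central
    obtain ⟨⟨s, hsH, hs2, hsuniq, -⟩, -⟩ := fpf_even_complement K H hK hfpf heven
    intro hbot
    have hsc : (⟨s, hsH⟩ : H) ∈ Subgroup.center H := by
      rw [Subgroup.mem_center_iff]
      intro h
      have h1 : orderOf ((h : G) * s * (h : G)⁻¹) = 2 := by
        have := orderOf_injective (MulAut.conj (h : G)).toMonoidHom (MulAut.conj (h : G)).injective s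
        rw [← hs2]
        simpa using this
      have h2 := hsuniq _ (H.mul_mem (H.mul_mem h.2 hsH) (H.inv_mem h.2)) h1
      apply Subtype.ext
      show (h : G) * s = s * (h : G)
      calc (h : G) * s = ((h : G) * s * (h : G)⁻¹) * h := by group
        _ = s * h := by rw [h2]
    rw [hbot, Subgroup.mem_bot] at hsc
    have : s = 1 := congrArg Subtype.val hsc
    rw [this, orderOf_one] at hs2
    omega
  · -- odd order: `H` is a Z-group
    have hZ : IsZGroup H := by
      refine ⟨fun p hp P => ?_⟩
      have : Fact p.Prime := ⟨hp⟩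
      rcases sylow_isCyclic_or_quaternion_of_fpf K H hK hfpf p P with h | ⟨n, ⟨e⟩⟩
      · exact h
      · exfalso
        apply heven
        have h1 : Nat.card P = 4 * 2 ^ n := by
          rw [Nat.card_congr e.toEquiv, Nat.card_eq_fintype_card, QuaternionGroup.card]
        have h2 : Nat.card P ∣ Nat.card H := Subgroup.card_subgroup_dvd_card _
        rw [h1] at h2
        exact Dvd.dvd.trans ⟨2 * 2 ^ n, by ring⟩ h2
    have hnt : Nontrivial H := by
      rw [← Subgroup.nontrivial_iff_ne_bot] at hH
      exact hH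
    have hFD := frobData_of_fpf K H hc hK hH hfpf
    obtain ⟨V, hVK, hVc, hVne, hHV⟩ := hFD.exists_invariant_abelian
    have hfpfV : ∀ a ∈ H, a ≠ 1 → V ⊓ Subgroup.centralizer {a} = ⊥ := by
      intro a ha ha1
      rw [eq_bot_iff, ← hfpf a ha ha1]
      exact inf_le_inf_right _ hVK
    apply center_ne_bot_of_isZGroup
    intro v y hvp hyq hne hvn
    -- the subgroup `⟨v⟩⟨y⟩` of order `pq`
    set A₀ : Subgroup H := Subgroup.zpowers y ⊔ Subgroup.zpowers v with hA₀
    have hinf : Subgroup.zpowers y ⊓ Subgroup.zpowers v = ⊥ := by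
      apply (Subgroup.disjoint_of_coprime_natCard _).eq_bot
      rw [Nat.card_zpowers, Nat.card_zpowers]
      exact (Nat.coprime_primes hyq hvp).mpr (Ne.symm hne)
    have hA₀card : Nat.card A₀ = orderOf y * orderOf v := by
      have := card_sup_mul_card_inf (Subgroup.zpowers y) (Subgroup.zpowers v)
      rwa [hinf, Subgroup.card_bot, mul_one, Nat.card_zpowers, Nat.card_zpowers] at this
    set A : Subgroup G := A₀.map H.subtype with hA
    have hAH : A ≤ H := Subgroup.map_subtype_le _
    have hAcard : Nat.card A = orderOf y * orderOf v := by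
      rw [hA, Subgroup.card_subtype, hA₀card]
    have hcyc : IsCyclic A := isCyclic_of_fpf_of_card_eq_mul A V hVne (hAH.trans hHV)
      (fun a ha ha1 => hfpfV a (hAH ha) ha1) hyq hvp hAcard
    have hvA : (v : G) ∈ A := ⟨v, le_sup_right (a := Subgroup.zpowers y) (Subgroup.mem_zpowers v), rfl⟩
    have hyA : (y : G) ∈ A := ⟨y, le_sup_left (b := Subgroup.zpowers v) (Subgroup.mem_zpowers y), rfl⟩
    have hcomm := (IsCyclic.commGroup (α := A)).mul_comm ⟨(y : G), hyA⟩ ⟨(v : G), hvA⟩
    apply Subtype.ext
    have h5 : (y : G) * (v : G) = (v : G) * (y : G) := congrArg Subtype.val hcomm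
    exact h5

end FpfCenter

end Cfsg.Agent.Lib.Helper1
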