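import Mathlib
import Cfsg.Prelude.Def_Solvable
import Cfsg.Agent.Lib.Helper1.Nilpotent

set_option autoImplicit false

open Module
open scoped Pointwise

namespace Cfsg.Agent.Lib.Helper1.FF

universe u v w

variable {k : Type u} [Field k] {U : Type w} [AddCommGroup U] [Module k U]

/-- dimension-style freeness of the subspace `X` over the subgroup `S`. -/
def HFOn {H : Type v} [Group H] (ρ : H →* (Module.End k U)ˣ) (S : Subgroup H)
    (X : Submodule k U) : Prop :=
  ∃ W : Submodule k U, (⨆ s ∈ S, W.map ((ρ s : (Module.End k U)ˣ) : Module.End k U)) = X ∧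
    Nat.card S * finrank k W ≤ finrank k X

theorem HFOn.sup {H : Type v} [Group H] (ρ : H →* (Module.End k U)ˣ)
    [FiniteDimensional k U] {S : Subgroup H} {X₁ X₂ : Submodule k U}
    (h₁ : HFOn ρ S X₁) (h₂ : HFOn ρ S X₂) (hd : Disjoint X₁ X₂) : HFOn ρ S (X₁ ⊔ X₂) := by
  obtain ⟨W₁, hW₁, hc₁⟩ := h₁
  obtain ⟨W₂, hW₂, hc₂⟩ := h₂
  refine ⟨W₁ ⊔ W₂, ?_, ?_⟩
  · rw [← hW₁, ← hW₂]
    simp only [Submodule.map_sup, iSup_sup_eq]
  · have h1 : finrank k ↥(W₁ ⊔ W₂) ≤ finrank k W₁ + finrank k W₂ :=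
      Submodule.finrank_add_le_finrank_add_finrank W₁ W₂
    have h2 := Submodule.finrank_sup_add_finrank_inf_eq X₁ X₂
    rw [hd.eq_bot, finrank_bot, add_zero] at h2
    calc Nat.card S * finrank k ↥(W₁ ⊔ W₂) ≤ Nat.card S * (finrank k W₁ + finrank k W₂) :=
          Nat.mul_le_mul_left _ h1
      _ = Nat.card S * finrank k W₁ + Nat.card S * finrank k W₂ := by ring
      _ ≤ finrank k X₁ + finrank k X₂ := add_le_add hc₁ hc₂
      _ = finrank k ↥(X₁ ⊔ X₂) := h2.symm

theorem HFOn.induce {H : Type v} [Group H] (ρ : H →* (Module.End k U)ˣ)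
    [FiniteDimensional k U] [Finite H] {S₀ S : Subgroup H} (hS : S₀ ≤ S)
    {X₀ X : Submodule k U} (h₀ : HFOn ρ S₀ X₀)
    (hX : (⨆ s ∈ S, X₀.map ((ρ s : (Module.End k U)ˣ) : Module.End k U)) = X)
    (hc : Nat.card S * finrank k X₀ ≤ Nat.card S₀ * finrank k X) : HFOn ρ S X := by
  obtain ⟨W, hW, hcW⟩ := h₀
  refine ⟨W, ?_, ?_⟩
  · apply le_antisymm
    · rw [← hX]
      have hWX : W ≤ X₀ := by
        rw [← hW]
        refine le_trans ?_ (le_iSup₂ (1 : H) S₀.one_mem)
        rw [map_one, Units.val_one, Module.End.one_eq_id, Submodule.map_id]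
      exact iSup₂_mono fun s _ => Submodule.map_mono hWX
    · rw [← hX, ← hW]
      refine iSup₂_le fun s hs => ?_
      rw [Submodule.map_iSup]
      refine iSup_le fun s₀ => ?_
      rw [Submodule.map_iSup]
      refine iSup_le fun hs₀ => ?_
      rw [← Submodule.map_comp]
      refine le_trans (le_of_eq ?_) (le_iSup₂ (s * s₀) (S.mul_mem hs (hS hs₀)))
      congr 1
      rw [map_mul]
      rfl
  · have hpos : 0 < Nat.card S₀ := Nat.card_pos
    have : Nat.card S₀ * (Nat.card S * finrank k W) ≤ Nat.card S₀ * finrank k X := by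
      calc Nat.card S₀ * (Nat.card S * finrank k W)
            = Nat.card S * (Nat.card S₀ * finrank k W) := by ring
        _ ≤ Nat.card S * finrank k X₀ := Nat.mul_le_mul_left _ hcW
        _ ≤ Nat.card S₀ * finrank k X := hc
    exact Nat.le_of_mul_le_mul_left this hpos

/-- the subgroup of `GL(U)` stabilising the subspace `X`. -/
def stab (X : Submodule k U) : Subgroup (Module.End k U)ˣ where
  carrier := {g | (∀ x ∈ X, (g : Module.End k U) x ∈ X) ∧
    (∀ x ∈ X, ((g⁻¹ : (Module.End k U)ˣ) : Module.End k U) x ∈ X)}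
  one_mem' := by simp
  mul_mem' := fun {a b} ha hb =>
    ⟨fun x hx => by simpa using ha.1 _ (hb.1 x hx),
     fun x hx => by simpa [mul_inv_rev] using hb.2 _ (ha.2 x hx)⟩
  inv_mem' := fun {a} ha => ⟨ha.2, by simpa using ha.1⟩

theorem mem_stab {X : Submodule k U} {g : (Module.End k U)ˣ} :
    g ∈ stab X ↔ (∀ x ∈ X, (g : Module.End k U) x ∈ X) ∧
    (∀ x ∈ X, ((g⁻¹ : (Module.End k U)ˣ) : Module.End k U) x ∈ X) := Iff.rfl

/-- restriction to an invariant subspace, as a group homomorphism. -/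
def resHom (X : Submodule k U) : stab X →* (Module.End k X)ˣ :=
  MonoidHom.toHomUnits
    { toFun := fun g => ((g : (Module.End k U)ˣ) : Module.End k U).restrict g.2.1
      map_one' := by ext x; simp
      map_mul' := fun a b => by ext x; simp }

@[simp] theorem resHom_apply (X : Submodule k U) (g : stab X) (x : X) :
    (((resHom X g : (Module.End k X)ˣ) : Module.End k X) x : U) =
      ((g : (Module.End k U)ˣ) : Module.End k U) x := rfl

/-- the restricted representation of a subgroup on an invariant subspace. -/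
def resRep {H : Type v} [Group H] (ρ : H →* (Module.End k U)ˣ)
    (S : Subgroup H) (X : Submodule k U) (hX : ∀ s ∈ S, ρ s ∈ stab X) :
    ↥S →* (Module.End k X)ˣ :=
  (resHom X).comp ((ρ.comp S.subtype).codRestrict (stab X) (fun s => hX s s.2))

@[simp] theorem resRep_apply {H : Type v} [Group H] (ρ : H →* (Module.End k U)ˣ)
    (S : Subgroup H) (X : Submodule k U) (hX : ∀ s ∈ S, ρ s ∈ stab X)
    (s : S) (x : X) :
    (((resRep ρ S X hX s : (Module.End k X)ˣ) : Module.End k X) x : U) =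
      ((ρ s : (Module.End k U)ˣ) : Module.End k U) x := rfl

theorem resRep_eq {H : Type v} [Group H] (ρ : H →* (Module.End k U)ˣ)
    (S : Subgroup H) (X : Submodule k U) (hX : ∀ s ∈ S, ρ s ∈ stab X) (s : S) :
    resRep ρ S X hX s = resHom X ⟨ρ s, hX s s.2⟩ := rfl

/-- the restriction of a subgroup of `GL(U)` to an invariant subspace. -/
def resN (𝒩 : Subgroup (Module.End k U)ˣ) (X : Submodule k U) (h𝒩 : 𝒩 ≤ stab X) :
    Subgroup (Module.End k X)ˣ :=
  ((resHom X).comp (Subgroup.inclusion h𝒩)).range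

theorem mem_resN {𝒩 : Subgroup (Module.End k U)ˣ} {X : Submodule k U} {h𝒩 : 𝒩 ≤ stab X}
    {m : (Module.End k X)ˣ} :
    m ∈ resN 𝒩 X h𝒩 ↔ ∃ n, ∃ hn : n ∈ 𝒩, resHom X ⟨n, h𝒩 hn⟩ = m := by
  constructor
  · rintro ⟨⟨n, hn⟩, rfl⟩
    exact ⟨n, hn, rfl⟩
  · rintro ⟨n, hn, rfl⟩
    exact ⟨⟨n, hn⟩, rfl⟩

theorem HFOn.of_res {H : Type v} [Group H] (ρ : H →* (Module.End k U)ˣ)
    [FiniteDimensional k U] (S : Subgroup H) (X : Submodule k U)
    (hX : ∀ s ∈ S, ρ s ∈ stab X)
    (h : HFOn (resRep ρ S X hX) ⊤ ⊤) : HFOn ρ S X := by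
  obtain ⟨W, hW, hc⟩ := h
  refine ⟨W.map X.subtype, ?_, ?_⟩
  · have h1 : ∀ s : S,
        (W.map (((resRep ρ S X hX s : (Module.End k X)ˣ) : Module.End k X))).map X.subtype
        = (W.map X.subtype).map ((ρ s : (Module.End k U)ˣ) : Module.End k U) := by
      intro s
      rw [← Submodule.map_comp, ← Submodule.map_comp]
      congr 1
    have h2 := congrArg (Submodule.map X.subtype) hW
    rw [Submodule.map_subtype_top] at h2
    refine Eq.trans ?_ h2
    simp only [Submodule.map_iSup, Subgroup.mem_top, iSup_pos]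
    rw [iSup_subtype']
    exact (iSup_congr h1).symm
  · have h3 : finrank k ↥(W.map X.subtype) = finrank k W :=
      (Submodule.equivMapOfInjective X.subtype X.injective_subtype W).finrank_eq.symm
    rw [h3]
    have h4 : Nat.card (⊤ : Subgroup S) = Nat.card S := Subgroup.card_top
    rw [h4, finrank_top] at hc
    exact hc

theorem isInternal_of_iSup_of_finrank {ι : Type v} [Fintype ι] [DecidableEq ι]
    (A : ι → Submodule k U) [FiniteDimensional k U] (hs : iSup A = ⊤)
    (hc : ∑ i, finrank k (A i) ≤ finrank k U) : DirectSum.IsInternal A := by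
  have hsurj : Function.Surjective (DirectSum.coeLinearMap A) := by
    rw [← LinearMap.range_eq_top, DirectSum.range_coeLinearMap, hs]
  have hfr : finrank k (DirectSum ι fun i => A i) = ∑ i, finrank k (A i) :=
    Module.finrank_directSum k (fun i => ↥(A i))
  have hle : finrank k U ≤ finrank k (DirectSum ι fun i => A i) :=
    LinearMap.finrank_le_finrank_of_surjective hsurj
  have heq : finrank k (DirectSum ι fun i => A i) = finrank k U := le_antisymm (hfr ▸ hc) hle
  have hinj : Function.Injective (DirectSum.coeLinearMap A) :=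
    (LinearMap.injective_iff_surjective_of_finrank_eq_finrank heq).2 hsurj
  exact ⟨hinj, hsurj⟩

theorem HFOn.isInternal {H : Type v} [Group H] [Finite H] [DecidableEq H]
    (ρ : H →* (Module.End k U)ˣ) [FiniteDimensional k U] (h : HFOn ρ ⊤ ⊤) :
    ∃ W : Submodule k U, DirectSum.IsInternal
      (fun h : H => W.map ((ρ h : (Module.End k U)ˣ) : Module.End k U)) := by
  obtain ⟨W, hW, hc⟩ := h
  haveI : Fintype H := Fintype.ofFinite H
  refine ⟨W, isInternal_of_iSup_of_finrank _ ?_ ?_⟩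
  · simpa using hW
  · have h4 : Nat.card (⊤ : Subgroup H) = Nat.card H := Subgroup.card_top
    rw [h4, finrank_top] at hc
    refine le_trans ?_ hc
    calc ∑ i : H, finrank k ↥(W.map ((ρ i : (Module.End k U)ˣ) : Module.End k U))
          ≤ ∑ _i : H, finrank k W := Finset.sum_le_sum fun i _ => Submodule.finrank_map_le _ _
      _ = Nat.card H * finrank k W := by
          rw [Finset.sum_const, smul_eq_mul, Finset.card_univ, Nat.card_eq_fintype_card]

theorem HFOn.of_subsingleton {H : Type v} [Group H] (ρ : H →* (Module.End k U)ˣ)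
    [Subsingleton U] : HFOn ρ ⊤ ⊤ := by
  refine ⟨⊥, Subsingleton.elim _ _, ?_⟩
  simp

theorem fpf_iff_surj {G : Type*} [Group G] (N : Subgroup G) [Finite N] (r : G)
    (hr : ∀ n ∈ N, r * n * r⁻¹ ∈ N) :
    (∀ n ∈ N, r * n * r⁻¹ = n → n = 1) ↔ (∀ n ∈ N, ∃ m ∈ N, n = m⁻¹ * (r * m * r⁻¹)) := by
  let ψ : N → N := fun m => ⟨(m : G)⁻¹ * (r * m * r⁻¹), N.mul_mem (N.inv_mem m.2) (hr _ m.2)⟩
  have key : ∀ a b : N, ψ a = ψ b → r * ((b : G) * (a : G)⁻¹) * r⁻¹ = (b : G) * (a : G)⁻¹ := by
    intro a b hab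
    have h1 : (a : G)⁻¹ * (r * a * r⁻¹) = (b : G)⁻¹ * (r * b * r⁻¹) := congrArg Subtype.val hab
    have h2 : r * (a : G) * r⁻¹ = (a : G) * ((b : G)⁻¹ * (r * b * r⁻¹)) := by
      rw [← h1]; group
    calc r * ((b : G) * (a : G)⁻¹) * r⁻¹ = (r * b * r⁻¹) * (r * a * r⁻¹)⁻¹ := by group
      _ = (r * b * r⁻¹) * ((a : G) * ((b : G)⁻¹ * (r * b * r⁻¹)))⁻¹ := by rw [h2]
      _ = (b : G) * (a : G)⁻¹ := by group
  constructor
  · intro hfpf
    have hinj : Function.Injective ψ := by
      intro a b hab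
      have h1 := hfpf _ (N.mul_mem b.2 (N.inv_mem a.2)) (key a b hab)
      have h2 : (b : G) = a := by
        have := congrArg (· * (a : G)) h1
        simpa using this
      exact Subtype.ext h2.symm
    have hsurj := Finite.injective_iff_surjective.1 hinj
    intro n hn
    obtain ⟨m, hm⟩ := hsurj ⟨n, hn⟩
    exact ⟨m, m.2, (congrArg Subtype.val hm).symm⟩
  · intro hs n hn hfix
    have hsurj : Function.Surjective ψ := by
      rintro ⟨x, hx⟩
      obtain ⟨m, hm, rfl⟩ := hs x hx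
      exact ⟨⟨m, hm⟩, rfl⟩
    have hinj := Finite.injective_iff_surjective.2 hsurj
    have h1 : ψ ⟨n, hn⟩ = ψ 1 := by
      apply Subtype.ext
      show n⁻¹ * (r * n * r⁻¹) = ((1 : N) : G)⁻¹ * (r * ((1 : N) : G) * r⁻¹)
      rw [hfix]
      simp
    have := hinj h1
    exact congrArg Subtype.val this

/-- the data of a "Frobenius-like" pair: a representation `ρ` of `H` normalising a finite
subgroup `𝒩` of `GL(U)`, fixed-point-freely, with `𝒩` fixing no nonzero vector. -/
structure FData {H : Type v} [Group H] (ρ : H →* (Module.End k U)ˣ)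
    (𝒩 : Subgroup (Module.End k U)ˣ) : Prop where
  fin : Finite 𝒩
  norm : ∀ h, ∀ n ∈ 𝒩, ρ h * n * (ρ h)⁻¹ ∈ 𝒩
  fpf : ∀ h, h ≠ 1 → ∀ n ∈ 𝒩, ρ h * n * (ρ h)⁻¹ = n → n = 1
  cu : ∀ u : U, (∀ n ∈ 𝒩, (n : Module.End k U) u = u) → u = 0

theorem FData.sub {H : Type v} [Group H] {ρ : H →* (Module.End k U)ˣ}
    {𝒩 M : Subgroup (Module.End k U)ˣ} (hD : FData ρ 𝒩) (hM : M ≤ 𝒩)
    (hnorm : ∀ h, ∀ n ∈ M, ρ h * n * (ρ h)⁻¹ ∈ M)
    (hcu : ∀ u : U, (∀ n ∈ M, (n : Module.End k U) u = u) → u = 0) : FData ρ M := by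
  haveI := hD.fin
  exact ⟨Finite.of_injective _ (Subgroup.inclusion_injective hM), hnorm,
    fun h hh n hn => hD.fpf h hh n (hM hn), hcu⟩

theorem FData.res' {H : Type v} [Group H] {ρ : H →* (Module.End k U)ˣ}
    {𝒩 : Subgroup (Module.End k U)ˣ} (hfin : Finite 𝒩)
    (hnorm𝒩 : ∀ h, ∀ n ∈ 𝒩, ρ h * n * (ρ h)⁻¹ ∈ 𝒩)
    (hfpf𝒩 : ∀ h, h ≠ 1 → ∀ n ∈ 𝒩, ρ h * n * (ρ h)⁻¹ = n → n = 1)
    (S : Subgroup H) (X : Submodule k U)
    (hX : ∀ s ∈ S, ρ s ∈ stab X) (h𝒩 : 𝒩 ≤ stab X)
    (hcu : ∀ u ∈ X, (∀ n ∈ 𝒩, (n : Module.End k U) u = u) → u = 0) :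
    FData (resRep ρ S X hX) (resN 𝒩 X h𝒩) := by
  haveI := hfin
  haveI hfin' : Finite (resN 𝒩 X h𝒩) := by
    unfold resN
    exact Finite.of_surjective _ (MonoidHom.rangeRestrict_surjective _)
  have hnorm : ∀ s : S, ∀ m ∈ resN 𝒩 X h𝒩,
      resRep ρ S X hX s * m * (resRep ρ S X hX s)⁻¹ ∈ resN 𝒩 X h𝒩 := by
    intro s m hm
    obtain ⟨n, hn, rfl⟩ := mem_resN.1 hm
    refine mem_resN.2 ⟨ρ s * n * (ρ s)⁻¹, hnorm𝒩 s n hn, ?_⟩
    have h0 : (⟨ρ s * n * (ρ s)⁻¹, h𝒩 (hnorm𝒩 s n hn)⟩ : stab X) =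
        ⟨ρ s, hX s s.2⟩ * ⟨n, h𝒩 hn⟩ * (⟨ρ s, hX s s.2⟩ : stab X)⁻¹ := rfl
    rw [h0, map_mul, map_mul, map_inv, resRep_eq]
  refine ⟨hfin', hnorm, ?_, ?_⟩
  · intro s hs
    have hs' : (s : H) ≠ 1 := fun h => hs (Subtype.ext h)
    rw [fpf_iff_surj (resN 𝒩 X h𝒩) _ (hnorm s)]
    have h1 := (fpf_iff_surj 𝒩 (ρ s) (hnorm𝒩 s)).1 (hfpf𝒩 s hs')
    intro m hm
    obtain ⟨n, hn, rfl⟩ := mem_resN.1 hm
    obtain ⟨n₀, hn₀, hnn⟩ := h1 n hn
    refine ⟨resHom X ⟨n₀, h𝒩 hn₀⟩, mem_resN.2 ⟨n₀, hn₀, rfl⟩, ?_⟩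
    have h0 : (⟨n, h𝒩 hn⟩ : stab X) =
        (⟨n₀, h𝒩 hn₀⟩ : stab X)⁻¹ * (⟨ρ s, hX s s.2⟩ * ⟨n₀, h𝒩 hn₀⟩ *
          (⟨ρ s, hX s s.2⟩ : stab X)⁻¹) := Subtype.ext hnn
    rw [h0, map_mul, map_mul, map_mul, map_inv, map_inv, resRep_eq]
  · intro x hx
    have : (x : U) = 0 := by
      apply hcu _ x.2
      intro n hn
      have := hx (resHom X ⟨n, h𝒩 hn⟩) (mem_resN.2 ⟨n, hn, rfl⟩)
      have h2 := congrArg Subtype.val this
      simpa using h2
    exact Subtype.ext this

theorem FData.res {H : Type v} [Group H] {ρ : H →* (Module.End k U)ˣ}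
    {𝒩 : Subgroup (Module.End k U)ˣ} (hD : FData ρ 𝒩) (S : Subgroup H) (X : Submodule k U)
    (hX : ∀ s ∈ S, ρ s ∈ stab X) (h𝒩 : 𝒩 ≤ stab X) :
    FData (resRep ρ S X hX) (resN 𝒩 X h𝒩) :=
  FData.res' hD.fin hD.norm hD.fpf S X hX h𝒩 (fun u _ hu => hD.cu u hu)

theorem resN_comm {𝒩 : Subgroup (Module.End k U)ˣ} {X : Submodule k U} (h𝒩 : 𝒩 ≤ stab X)
    (hc : ∀ a ∈ 𝒩, ∀ b ∈ 𝒩, a * b = b * a) :
    ∀ a ∈ resN 𝒩 X h𝒩, ∀ b ∈ resN 𝒩 X h𝒩, a * b = b * a := by
  intro a ha b hb
  obtain ⟨n, hn, rfl⟩ := mem_resN.1 ha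
  obtain ⟨m, hm, rfl⟩ := mem_resN.1 hb
  rw [← map_mul, ← map_mul]
  congr 1
  exact Subtype.ext (hc n hn m hm)

theorem card_resN_dvd {𝒩 : Subgroup (Module.End k U)ˣ} {X : Submodule k U} (h𝒩 : 𝒩 ≤ stab X) :
    Nat.card (resN 𝒩 X h𝒩) ∣ Nat.card 𝒩 :=
  Subgroup.card_range_dvd _

theorem resN_nilpotent {𝒩 : Subgroup (Module.End k U)ˣ} {X : Submodule k U} (h𝒩 : 𝒩 ≤ stab X)
    [Group.IsNilpotent 𝒩] : Group.IsNilpotent (resN 𝒩 X h𝒩) :=
  Group.nilpotent_of_surjective _ (MonoidHom.rangeRestrict_surjective _)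

theorem natCast_ne_zero_of_dvd {a b : ℕ} (h : a ∣ b) (hb : (b : k) ≠ 0) : (a : k) ≠ 0 := by
  obtain ⟨c, rfl⟩ := h
  intro ha
  apply hb
  rw [Nat.cast_mul, ha, zero_mul]


theorem dedekind_smul {L : Type*} [Field L] {H : Type v} [Group H] [Fintype H]
    [MulSemiringAction H L] [FaithfulSMul H L] (v : H → L)
    (hv : ∀ a : L, ∑ s, v s * (s • a) = 0) : v = 0 := by
  have h1 : LinearIndependent L (M := L → L) (fun f => f : (L →* L) → L → L) :=
    linearIndependent_monoidHom L L
  have hinj : Function.Injective (fun s : H => MulDistribMulAction.toMonoidHom L s) := by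
    intro s t hst
    apply FaithfulSMul.eq_of_smul_eq_smul (α := L)
    intro a
    exact DFunLike.congr_fun hst a
  have h2 := h1.comp _ hinj
  rw [Fintype.linearIndependent_iff] at h2
  funext s
  apply h2 v
  funext a
  simpa using hv a

/-- normal basis for a finite group acting faithfully on a field. -/
theorem exists_normal_basis {L : Type*} [Field L] {H : Type v} [Group H] [Finite H]
    [MulSemiringAction H L] [FaithfulSMul H L] :
    ∃ (θ : L) (b : Basis H (FixedPoints.subfield H L) L), ∀ h, b h = h • θ := by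
  let E := FixedPoints.subfield H L
  let e : H ≃* (L ≃ₐ[E] L) := FixedPoints.toAlgAutMulEquiv H L
  let b₀ : Basis (L ≃ₐ[E] L) E L := IsGalois.normalBasis E L
  refine ⟨b₀ 1, b₀.reindex e.symm.toEquiv, fun h => ?_⟩
  rw [Basis.reindex_apply]
  simp only [MulEquiv.toEquiv_eq_coe, MulEquiv.coe_toEquiv_symm, MulEquiv.symm_symm]
  rw [IsGalois.normalBasis_apply]
  rfl

theorem matrix_isUnit {L : Type*} [Field L] {H : Type v} [Group H] [Fintype H] [DecidableEq H]
    [MulSemiringAction H L] [FaithfulSMul H L] (θ : L)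
    (b : Basis H (FixedPoints.subfield H L) L) (hb : ∀ h, b h = h • θ) :
    IsUnit (Matrix.of (fun s g : H => (s * g) • θ)) := by
  rw [← Matrix.vecMul_injective_iff_isUnit]
  show Function.Injective (Matrix.vecMulLinear (Matrix.of (fun s g : H => (s * g) • θ)))
  rw [injective_iff_map_eq_zero]
  intro v hv
  apply dedekind_smul
  let f : L →ₗ[FixedPoints.subfield H L] L :=
    { toFun := fun a => ∑ s, v s * (s • a)
      map_add' := fun a c => by
        simp only [smul_add, mul_add, Finset.sum_add_distrib]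
      map_smul' := fun e a => by
        simp only [RingHom.id_apply, Finset.smul_sum]
        refine Finset.sum_congr rfl fun s _ => ?_
        rw [Subfield.smul_def, smul_eq_mul, smul_mul', Subfield.smul_def, smul_eq_mul]
        have : s • (e : L) = e := e.2 s
        rw [this]
        ring }
  have hf : f = 0 := by
    apply b.ext
    intro g
    rw [hb]
    have := congrFun hv g
    simp only [Matrix.vecMulLinear_apply, Matrix.vecMul, dotProduct, Matrix.of_apply,
      Pi.zero_apply] at this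
    simpa [f, mul_smul] using this
  intro a
  exact LinearMap.congr_fun hf a

theorem semilinear_free {k : Type u} [Field k] {U : Type w} [AddCommGroup U] [Module k U]
    [FiniteDimensional k U]
    {L : Type*} [Field L] [Module L U] [SMulCommClass L k U]
    {H : Type v} [Group H] [Finite H] [MulSemiringAction H L] [FaithfulSMul H L]
    (ρ : H →* (Module.End k U)ˣ)
    (hsl : ∀ (h : H) (a : L) (u : U),
      (ρ h : Module.End k U) (a • u) = (h • a) • (ρ h : Module.End k U) u) :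
    HFOn ρ ⊤ ⊤ := by
  classical
  haveI : Fintype H := Fintype.ofFinite H
  obtain ⟨θ, b, hb⟩ := exists_normal_basis (L := L) (H := H)
  set A : Matrix H H L := Matrix.of (fun s g : H => (s * g) • θ) with hA
  have hAu : IsUnit A := matrix_isUnit θ b hb
  have hAB : A * A⁻¹ = 1 := Matrix.mul_nonsing_inv A ((Matrix.isUnit_iff_isUnit_det A).1 hAu)
  have hBA : A⁻¹ * A = 1 := Matrix.nonsing_inv_mul A ((Matrix.isUnit_iff_isUnit_det A).1 hAu)
  set B : Matrix H H L := A⁻¹ with hB
  -- the fixed subspace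
  let Fix : Submodule k U :=
    { carrier := {u | ∀ h : H, (ρ h : Module.End k U) u = u}
      add_mem' := fun {a c} ha hc h => by rw [map_add, ha h, hc h]
      zero_mem' := fun h => map_zero _
      smul_mem' := fun c a ha h => by rw [map_smul, ha h] }
  have hFix : ∀ u, u ∈ Fix ↔ ∀ h : H, (ρ h : Module.End k U) u = u := fun u => Iff.rfl
  have hEFix : ∀ (e : FixedPoints.subfield H L) (u : U), u ∈ Fix → (e : L) • u ∈ Fix := by
    intro e u hu h
    rw [hsl, hu h]
    congr 1
    exact e.2 h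
  let mθ : U →ₗ[k] U := DistribSMul.toLinearMap k U θ
  have hmθ : ∀ u, mθ u = θ • u := fun u => rfl
  -- the trace map
  have hT : ∀ x : U, (∑ s : H, (ρ s : Module.End k U) x) ∈ Fix := by
    intro x r
    rw [map_sum]
    rw [← Equiv.sum_comp (Equiv.mulLeft r) (fun s => (ρ s : Module.End k U) x)]
    refine Finset.sum_congr rfl fun s _ => ?_
    simp [map_mul]
  have hρW : ∀ (h : H) (w : U), w ∈ Fix → (h • θ) • w ∈
      (Fix.map mθ).map ((ρ h : (Module.End k U)ˣ) : Module.End k U) := by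
    intro h w hw
    refine ⟨θ • w, ⟨w, hw, rfl⟩, ?_⟩
    rw [hsl, hw h]
  refine ⟨Fix.map mθ, ?_, ?_⟩
  · rw [eq_top_iff]
    intro u _
    -- u = Σ_g B g 1 • t g
    have h1 : u = ∑ g, B g 1 • ∑ s : H, (ρ s : Module.End k U) ((g • θ) • u) := by
      have h2 : ∀ g, (∑ s : H, (ρ s : Module.End k U) ((g • θ) • u)) =
          ∑ s : H, A s g • (ρ s : Module.End k U) u := by
        intro g
        refine Finset.sum_congr rfl fun s _ => ?_
        rw [hsl, hA, Matrix.of_apply, mul_smul]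
      simp only [h2, Finset.smul_sum, smul_smul]
      rw [Finset.sum_comm]
      have h3 : ∀ s : H, (∑ g, (B g 1 * A s g) • (ρ s : Module.End k U) u) =
          ((1 : Matrix H H L) s 1) • (ρ s : Module.End k U) u := by
        intro s
        rw [← Finset.sum_smul, ← hAB, Matrix.mul_apply]
        congr 1
        exact Finset.sum_congr rfl fun g _ => mul_comm _ _
      simp only [h3, Matrix.one_apply, ite_smul, one_smul, zero_smul]
      simp
    rw [h1]
    refine Submodule.sum_mem _ fun g _ => ?_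
    -- expand B g 1 in the normal basis
    have h4 : B g 1 = ∑ h, ((b.repr (B g 1) h : FixedPoints.subfield H L) : L) * (h • θ) := by
      conv_lhs => rw [← b.sum_repr (B g 1)]
      refine Finset.sum_congr rfl fun h _ => ?_
      rw [hb, Subfield.smul_def, smul_eq_mul]
    rw [h4, Finset.sum_smul]
    refine Submodule.sum_mem _ fun h _ => ?_
    rw [mul_comm, mul_smul]
    refine Submodule.mem_iSup_of_mem h (Submodule.mem_iSup_of_mem (Subgroup.mem_top h) ?_)
    exact hρW h _ (hEFix _ _ (hT _))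
  · -- dimension count
    let Φ : (H → Fix) →ₗ[k] U :=
      { toFun := fun w => ∑ h : H, (h • θ) • (w h : U)
        map_add' := fun w w' => by
          simp only [Pi.add_apply, Submodule.coe_add, smul_add, Finset.sum_add_distrib]
        map_smul' := fun c w => by
          simp only [Pi.smul_apply, Submodule.coe_smul, RingHom.id_apply, Finset.smul_sum]
          refine Finset.sum_congr rfl fun h _ => ?_
          rw [smul_comm] }
    have hΦ : Function.Injective Φ := by
      rw [injective_iff_map_eq_zero]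
      intro w hw
      have h5 : ∀ s : H, ∑ h : H, A s h • (w h : U) = 0 := by
        intro s
        have := congrArg ((ρ s : (Module.End k U)ˣ) : Module.End k U) hw
        rw [map_zero] at this
        rw [← this]
        show _ = ((ρ s : (Module.End k U)ˣ) : Module.End k U) (∑ h : H, (h • θ) • (w h : U))
        rw [map_sum]
        refine Finset.sum_congr rfl fun h _ => ?_
        rw [hsl, (w h).2 s, hA, Matrix.of_apply, mul_smul]
      funext g
      apply Subtype.ext
      show (w g : U) = 0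
      have h6 : (w g : U) = ∑ h : H, ((1 : Matrix H H L) g h) • (w h : U) := by
        simp [Matrix.one_apply]
      rw [h6, ← hBA]
      simp only [Matrix.mul_apply, Finset.sum_smul]
      rw [Finset.sum_comm]
      refine Finset.sum_eq_zero fun s _ => ?_
      have := congrArg (fun x => B g s • x) (h5 s)
      simp only [Finset.smul_sum, smul_smul, smul_zero] at this
      exact this
    have h7 := LinearMap.finrank_le_finrank_of_injective hΦ
    rw [Module.finrank_pi_fintype, Finset.sum_const, Finset.card_univ, smul_eq_mul] at h7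
    have h8 : finrank k ↥(Fix.map mθ) ≤ finrank k Fix := Submodule.finrank_map_le _ _
    have h9 : Nat.card (⊤ : Subgroup H) = Fintype.card H := by
      rw [Subgroup.card_top, Nat.card_eq_fintype_card]
    rw [h9, finrank_top]
    exact le_trans (Nat.mul_le_mul_left _ h8) h7



/-- conjugation by a unit, as an algebra automorphism of `End U`. -/
def cj (g : (Module.End k U)ˣ) : Module.End k U ≃ₐ[k] Module.End k U where
  toFun x := (g : Module.End k U) * x * ((g⁻¹ : (Module.End k U)ˣ) : Module.End k U)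
  invFun x := ((g⁻¹ : (Module.End k U)ˣ) : Module.End k U) * x * (g : Module.End k U)
  left_inv x := by
    simp only [mul_assoc, Units.inv_mul, mul_one]
    rw [← mul_assoc, Units.inv_mul, one_mul]
  right_inv x := by
    simp only [mul_assoc, Units.mul_inv, mul_one]
    rw [← mul_assoc, Units.mul_inv, one_mul]
  map_mul' x y := by
    simp only [mul_assoc]
    rw [← mul_assoc (↑g⁻¹ : Module.End k U) (g : Module.End k U), Units.inv_mul, one_mul]
  map_add' x y := by simp only [mul_add, add_mul]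
  commutes' c := by
    rw [Algebra.algebraMap_eq_smul_one]
    simp

theorem cj_apply (g : (Module.End k U)ˣ) (x : Module.End k U) :
    cj g x = (g : Module.End k U) * x * ((g⁻¹ : (Module.End k U)ˣ) : Module.End k U) := rfl

theorem cj_mul (g h : (Module.End k U)ˣ) (x : Module.End k U) :
    cj (g * h) x = cj g (cj h x) := by
  simp only [cj_apply, mul_inv_rev, Units.val_mul, mul_assoc]

@[simp] theorem cj_one (x : Module.End k U) : cj (1 : (Module.End k U)ˣ) x = x := by
  simp [cj_apply]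

theorem cj_inv_cj (g : (Module.End k U)ˣ) (x : Module.End k U) : cj g⁻¹ (cj g x) = x := by
  rw [← cj_mul, inv_mul_cancel, cj_one]

theorem cj_cj_inv (g : (Module.End k U)ˣ) (x : Module.End k U) : cj g (cj g⁻¹ x) = x := by
  rw [← cj_mul, mul_inv_cancel, cj_one]

theorem cj_unit (g n : (Module.End k U)ˣ) :
    cj g (n : Module.End k U) = ((g * n * g⁻¹ : (Module.End k U)ˣ) : Module.End k U) := by
  simp [cj_apply]

theorem cj_eq_self_iff (g : (Module.End k U)ˣ) (x : Module.End k U) :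
    cj g x = x ↔ (g : Module.End k U) * x = x * (g : Module.End k U) := by
  rw [cj_apply]
  constructor
  · intro h
    calc (g : Module.End k U) * x = (g : Module.End k U) * x * (↑g⁻¹ * g) := by
          rw [Units.inv_mul, mul_one]
      _ = ((g : Module.End k U) * x * ↑g⁻¹) * g := by simp only [mul_assoc]
      _ = x * g := by rw [h]
  · intro h
    rw [h, mul_assoc, Units.mul_inv, mul_one]

theorem range_cj (g : (Module.End k U)ˣ) (x : Module.End k U) :
    LinearMap.range (cj g x) = (LinearMap.range x).map (g : Module.End k U) := by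
  ext u
  simp only [LinearMap.mem_range, Submodule.mem_map, cj_apply, Module.End.mul_apply]
  constructor
  · rintro ⟨v, rfl⟩
    exact ⟨_, ⟨_, rfl⟩, rfl⟩
  · rintro ⟨_, ⟨v, rfl⟩, rfl⟩
    refine ⟨(g : Module.End k U) v, ?_⟩
    have : ((g⁻¹ : (Module.End k U)ˣ) : Module.End k U) ((g : Module.End k U) v) = v := by
      rw [← Module.End.mul_apply, Units.inv_mul, Module.End.one_apply]
    rw [this]

theorem unit_injective (g : (Module.End k U)ˣ) : Function.Injective (g : Module.End k U) := by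
  intro a b hab
  have := congrArg ((g⁻¹ : (Module.End k U)ˣ) : Module.End k U) hab
  simpa [← Module.End.mul_apply] using this

theorem finrank_range_cj [FiniteDimensional k U] (g : (Module.End k U)ˣ) (x : Module.End k U) :
    finrank k (LinearMap.range (cj g x)) = finrank k (LinearMap.range x) := by
  rw [range_cj]
  exact (Submodule.equivMapOfInjective _ (unit_injective g) _).finrank_eq.symm

theorem mem_stab_range_of_comm (g : (Module.End k U)ˣ) (x : Module.End k U)
    (h : (g : Module.End k U) * x = x * (g : Module.End k U)) : g ∈ stab (LinearMap.range x) := by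
  have h' : ((g⁻¹ : (Module.End k U)ˣ) : Module.End k U) * x = x * ↑g⁻¹ := by
    rw [← cj_eq_self_iff, ← (cj_eq_self_iff g x).2 h, cj_inv_cj, (cj_eq_self_iff g x).2 h]
  constructor
  · rintro _ ⟨v, rfl⟩
    exact ⟨(g : Module.End k U) v, by rw [← Module.End.mul_apply, ← h]; rfl⟩
  · rintro _ ⟨v, rfl⟩
    exact ⟨((g⁻¹ : (Module.End k U)ˣ) : Module.End k U) v, by
      rw [← Module.End.mul_apply, ← h']; rfl⟩

theorem mem_stab_ker_of_comm (g : (Module.End k U)ˣ) (x : Module.End k U)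
    (h : (g : Module.End k U) * x = x * (g : Module.End k U)) : g ∈ stab (LinearMap.ker x) := by
  have h' : ((g⁻¹ : (Module.End k U)ˣ) : Module.End k U) * x = x * ↑g⁻¹ := by
    rw [← cj_eq_self_iff, ← (cj_eq_self_iff g x).2 h, cj_inv_cj, (cj_eq_self_iff g x).2 h]
  constructor
  · intro v hv
    rw [LinearMap.mem_ker] at hv ⊢
    rw [← Module.End.mul_apply, ← h, Module.End.mul_apply, hv, map_zero]
  · intro v hv
    rw [LinearMap.mem_ker] at hv ⊢
    rw [← Module.End.mul_apply, ← h', Module.End.mul_apply, hv, map_zero]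

/-! idempotents -/

theorem idem_range_ne_top {e : Module.End k U} (he : e * e = e) (h1 : e ≠ 1) :
    LinearMap.range e ≠ ⊤ := by
  intro h
  apply h1
  ext u
  obtain ⟨v, rfl⟩ : u ∈ LinearMap.range e := h ▸ Submodule.mem_top
  rw [← Module.End.mul_apply, he, Module.End.one_apply]

theorem idem_ker_ne_top {e : Module.End k U} (h0 : e ≠ 0) : LinearMap.ker e ≠ ⊤ := by
  intro h
  apply h0
  ext u
  have : u ∈ LinearMap.ker e := h ▸ Submodule.mem_top
  simpa using this

theorem idem_disjoint {e : Module.End k U} (he : e * e = e) :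
    Disjoint (LinearMap.range e) (LinearMap.ker e) := by
  rw [Submodule.disjoint_def]
  rintro _ ⟨v, rfl⟩ hv
  rw [LinearMap.mem_ker, ← Module.End.mul_apply, he] at hv
  exact hv

theorem idem_sup {e : Module.End k U} (he : e * e = e) :
    LinearMap.range e ⊔ LinearMap.ker e = ⊤ := by
  rw [eq_top_iff]
  intro u _
  have : u = e u + (u - e u) := by abel
  rw [this]
  refine Submodule.add_mem_sup ⟨u, rfl⟩ ?_
  rw [LinearMap.mem_ker, map_sub, ← Module.End.mul_apply, he, sub_self]

theorem idem_apply_of_mem_range {e : Module.End k U} (he : e * e = e) {u : U}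
    (hu : u ∈ LinearMap.range e) : e u = u := by
  obtain ⟨v, rfl⟩ := hu
  rw [← Module.End.mul_apply, he]

/-- absorption: commuting idempotents with `range (e * f) = range e` satisfy `e * f = e`. -/
theorem idem_absorb {e f : Module.End k U} (hf : f * f = f) (hc : e * f = f * e)
    (hr : LinearMap.range e ≤ LinearMap.range (e * f)) : e * f = e := by
  ext u
  obtain ⟨v, hv⟩ : e u ∈ LinearMap.range (e * f) := hr ⟨u, rfl⟩
  have h1 : f * (e * f) = e * f := by rw [hc, ← mul_assoc, hf]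
  calc (e * f) u = f (e u) := by rw [hc]; rfl
    _ = (f * (e * f)) v := by rw [← hv]; rfl
    _ = e u := by rw [h1, hv]

theorem idem_mul_comm {e f : Module.End k U} (he : e * e = e)
    (hf : f * f = f) (hc : e * f = f * e) : (e * f) * (e * f) = e * f := by
  calc (e * f) * (e * f) = e * (f * e) * f := by simp only [mul_assoc]
    _ = e * (e * f) * f := by rw [hc]
    _ = (e * e) * (f * f) := by simp only [mul_assoc]
    _ = e * f := by rw [he, hf]

theorem idem_min_eq [FiniteDimensional k U] {e f : Module.End k U} (he : e * e = e)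
    (hf : f * f = f) (hc : e * f = f * e)
    (h1 : finrank k (LinearMap.range e) ≤ finrank k (LinearMap.range (e * f)))
    (hfr : finrank k (LinearMap.range f) = finrank k (LinearMap.range e)) : e = f := by
  have hle1 : LinearMap.range (e * f) ≤ LinearMap.range e := by
    rintro _ ⟨v, rfl⟩; exact ⟨f v, rfl⟩
  have hle2 : LinearMap.range (e * f) ≤ LinearMap.range f := by
    rw [hc]; rintro _ ⟨v, rfl⟩; exact ⟨e v, rfl⟩
  have hr1 : LinearMap.range (e * f) = LinearMap.range e :=
    Submodule.eq_of_le_of_finrank_le hle1 h1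
  have hr2 : LinearMap.range (e * f) = LinearMap.range f :=
    Submodule.eq_of_le_of_finrank_le hle2 (hfr ▸ h1)
  have a1 : e * f = e := idem_absorb hf hc hr1.ge
  have a2 : f * e = f := idem_absorb he hc.symm (by rw [← hc]; exact hr2.ge)
  rw [← a1, hc, a2]

theorem card_eq_card_image_mul {H X : Type*} [Group H] [Fintype H] [DecidableEq X] (f : H → X)
    (S₀ : Subgroup H) (hS : ∀ g h, f g = f h ↔ g⁻¹ * h ∈ S₀) :
    Fintype.card H = (Finset.univ.image f).card * Nat.card S₀ := by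
  classical
  haveI : Fintype S₀ := Fintype.ofFinite S₀
  rw [← Finset.card_univ, Finset.card_eq_sum_card_fiberwise (f := f) (t := Finset.univ.image f)
    (fun x _ => Finset.mem_image_of_mem f (Finset.mem_univ x))]
  rw [Finset.sum_const_nat (m := Nat.card S₀), mul_comm]
  intro x hx
  obtain ⟨g, -, rfl⟩ := Finset.mem_image.1 hx
  have : (Finset.univ.filter (fun a => f a = f g)) =
      Finset.image (fun s : S₀ => g * (s : H)) Finset.univ := by
    ext a
    rw [Finset.mem_filter, Finset.mem_image]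
    constructor
    · rintro ⟨-, ha⟩
      refine ⟨⟨g⁻¹ * a, (hS g a).1 ha.symm⟩, Finset.mem_univ _, ?_⟩
      simp
    · rintro ⟨s, -, rfl⟩
      refine ⟨Finset.mem_univ _, ((hS g (g * s)).2 ?_).symm⟩
      simp
  rw [this, Finset.card_image_of_injective _ (fun a b hab => Subtype.ext (mul_left_cancel hab)),
    Finset.card_univ, Nat.card_eq_fintype_card]

/-- pairwise orthogonal idempotents: the sum of the ranks is at most the dimension. -/
theorem sum_finrank_range_le [FiniteDimensional k U] (s : Finset (Module.End k U))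
    (hidem : ∀ x ∈ s, x * x = x) (horth : ∀ x ∈ s, ∀ y ∈ s, x ≠ y → x * y = 0) :
    ∑ x ∈ s, finrank k (LinearMap.range x) ≤ finrank k U := by
  classical
  let Φ : U →ₗ[k] (∀ x : s, LinearMap.range (x : Module.End k U)) :=
    LinearMap.pi fun x => (x : Module.End k U).rangeRestrict
  have hΦ : Function.Surjective Φ := by
    intro v
    refine ⟨∑ x : s, (v x : U), ?_⟩
    funext y
    apply Subtype.ext
    show (y : Module.End k U) (∑ x : s, (v x : U)) = v y
    rw [map_sum]
    rw [Finset.sum_eq_single y]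
    · exact idem_apply_of_mem_range (hidem y y.2) (v y).2
    · intro x _ hxy
      obtain ⟨w, hw⟩ := (v x).2
      rw [← hw, ← Module.End.mul_apply, horth y y.2 x x.2 (fun h => hxy (Subtype.ext h.symm))]
      rfl
    · intro h; exact absurd (Finset.mem_univ y) h
  have := LinearMap.finrank_le_finrank_of_surjective hΦ
  rw [Module.finrank_pi_fintype] at this
  rw [← Finset.sum_coe_sort s (fun x => finrank k (LinearMap.range x))]
  exact this



/-- the averaging element of a finite subgroup of `GL(U)`. -/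
noncomputable def avg (Z : Subgroup (Module.End k U)ˣ) [Finite Z] : Module.End k U :=
  ((Nat.card Z : k))⁻¹ • ∑ᶠ z : Z, ((z : (Module.End k U)ˣ) : Module.End k U)

theorem avg_eq (Z : Subgroup (Module.End k U)ˣ) [Finite Z] [Fintype Z] :
    avg Z = ((Nat.card Z : k))⁻¹ • ∑ z : Z, ((z : (Module.End k U)ˣ) : Module.End k U) := by
  rw [avg, finsum_eq_sum_of_fintype]

theorem unit_mul_avg (Z : Subgroup (Module.End k U)ˣ) [Finite Z] {z : (Module.End k U)ˣ}
    (hz : z ∈ Z) : (z : Module.End k U) * avg Z = avg Z := by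
  haveI := Fintype.ofFinite Z
  rw [avg_eq, mul_smul_comm, Finset.mul_sum]
  congr 1
  rw [← Equiv.sum_comp (Equiv.mulLeft (⟨z, hz⟩ : Z))
    (fun w : Z => ((w : (Module.End k U)ˣ) : Module.End k U))]
  refine Finset.sum_congr rfl fun w _ => ?_
  simp

theorem avg_mul_unit (Z : Subgroup (Module.End k U)ˣ) [Finite Z] {z : (Module.End k U)ˣ}
    (hz : z ∈ Z) : avg Z * (z : Module.End k U) = avg Z := by
  haveI := Fintype.ofFinite Z
  rw [avg_eq, smul_mul_assoc, Finset.sum_mul]
  congr 1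
  rw [← Equiv.sum_comp (Equiv.mulRight (⟨z, hz⟩ : Z))
    (fun w : Z => ((w : (Module.End k U)ˣ) : Module.End k U))]
  refine Finset.sum_congr rfl fun w _ => ?_
  simp

theorem avg_idem (Z : Subgroup (Module.End k U)ˣ) [Finite Z] (hZ : (Nat.card Z : k) ≠ 0) :
    avg Z * avg Z = avg Z := by
  haveI := Fintype.ofFinite Z
  have h1 : avg Z * avg Z = ((Nat.card Z : k))⁻¹ •
      ∑ z : Z, (((z : (Module.End k U)ˣ) : Module.End k U) * avg Z) := by
    rw [← Finset.sum_mul, ← smul_mul_assoc, ← avg_eq]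
  have : ∀ z : Z, ((z : (Module.End k U)ˣ) : Module.End k U) * avg Z = avg Z :=
    fun z => unit_mul_avg Z z.2
  rw [h1]
  simp only [this, Finset.sum_const, Finset.card_univ]
  rw [← Nat.card_eq_fintype_card, ← Nat.cast_smul_eq_nsmul k, smul_smul, inv_mul_cancel₀ hZ,
    one_smul]

theorem mem_range_avg (Z : Subgroup (Module.End k U)ˣ) [Finite Z] (hZ : (Nat.card Z : k) ≠ 0)
    (u : U) : u ∈ LinearMap.range (avg Z) ↔ ∀ z ∈ Z, (z : Module.End k U) u = u := by
  constructor
  · rintro ⟨v, rfl⟩ z hz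
    rw [← Module.End.mul_apply, unit_mul_avg Z hz]
  · intro h
    haveI := Fintype.ofFinite Z
    refine ⟨u, ?_⟩
    rw [avg_eq, LinearMap.smul_apply, LinearMap.sum_apply]
    have : ∀ z : Z, ((z : (Module.End k U)ˣ) : Module.End k U) u = u := fun z => h z z.2
    simp only [this, Finset.sum_const, Finset.card_univ]
    rw [← Nat.card_eq_fintype_card, ← Nat.cast_smul_eq_nsmul k, smul_smul, inv_mul_cancel₀ hZ,
      one_smul]

theorem cj_avg (Z : Subgroup (Module.End k U)ˣ) [Finite Z] (g : (Module.End k U)ˣ)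
    (hg : ∀ z ∈ Z, g * z * g⁻¹ ∈ Z) (hg' : ∀ z ∈ Z, g⁻¹ * z * g ∈ Z) :
    cj g (avg Z) = avg Z := by
  haveI := Fintype.ofFinite Z
  rw [avg_eq, map_smul, map_sum]
  congr 1
  let e : Z ≃ Z :=
    { toFun := fun z => ⟨g * z * g⁻¹, hg z z.2⟩
      invFun := fun z => ⟨g⁻¹ * z * g, hg' z z.2⟩
      left_inv := fun z => by apply Subtype.ext; simp [mul_assoc]
      right_inv := fun z => by apply Subtype.ext; simp [mul_assoc] }
  rw [← Equiv.sum_comp e (fun w : Z => ((w : (Module.End k U)ˣ) : Module.End k U))]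
  refine Finset.sum_congr rfl fun w _ => ?_
  rw [cj_unit]
  rfl


/-- the subalgebra of `End U` generated by a subgroup of `GL(U)`. -/
def algOf (𝒩 : Subgroup (Module.End k U)ˣ) : Subalgebra k (Module.End k U) :=
  Algebra.adjoin k (Units.val '' (𝒩 : Set (Module.End k U)ˣ))

theorem unit_mem_algOf {𝒩 : Subgroup (Module.End k U)ˣ} {n : (Module.End k U)ˣ} (hn : n ∈ 𝒩) :
    (n : Module.End k U) ∈ algOf 𝒩 :=
  Algebra.subset_adjoin ⟨n, hn, rfl⟩

theorem algOf_comm {𝒩 : Subgroup (Module.End k U)ˣ} (hc : ∀ a ∈ 𝒩, ∀ b ∈ 𝒩, a * b = b * a) :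
    ∀ x ∈ algOf 𝒩, ∀ y ∈ algOf 𝒩, x * y = y * x := by
  have h1 : ∀ x ∈ algOf 𝒩, ∀ n ∈ 𝒩, (n : Module.End k U) * x = x * n := by
    intro x hx n hn
    have : algOf 𝒩 ≤ Subalgebra.centralizer k {(n : Module.End k U)} := by
      apply Algebra.adjoin_le
      rintro _ ⟨m, hm, rfl⟩
      rw [SetLike.mem_coe, Subalgebra.mem_centralizer_iff]
      intro g hg
      rw [Set.mem_singleton_iff] at hg
      subst hg
      rw [← Units.val_mul, ← Units.val_mul, hc n hn m hm]
    have h2 := this hx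
    rw [Subalgebra.mem_centralizer_iff] at h2
    exact h2 _ rfl
  intro x hx y hy
  have : algOf 𝒩 ≤ Subalgebra.centralizer k {x} := by
    apply Algebra.adjoin_le
    rintro _ ⟨m, hm, rfl⟩
    rw [SetLike.mem_coe, Subalgebra.mem_centralizer_iff]
    intro g hg
    rw [Set.mem_singleton_iff] at hg
    subst hg
    exact (h1 g hx m hm).symm
  have h2 := this hy
  rw [Subalgebra.mem_centralizer_iff] at h2
  exact h2 _ rfl

theorem cj_mem_algOf {𝒩 : Subgroup (Module.End k U)ˣ} (g : (Module.End k U)ˣ)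
    (hg : ∀ n ∈ 𝒩, g * n * g⁻¹ ∈ 𝒩) {x : Module.End k U} (hx : x ∈ algOf 𝒩) :
    cj g x ∈ algOf 𝒩 := by
  have : algOf 𝒩 ≤ (algOf 𝒩).comap (cj g : Module.End k U →ₐ[k] Module.End k U) := by
    apply Algebra.adjoin_le
    rintro _ ⟨m, hm, rfl⟩
    rw [SetLike.mem_coe, Subalgebra.mem_comap]
    show cj g (m : Module.End k U) ∈ algOf 𝒩
    rw [cj_unit]
    exact unit_mem_algOf (hg m hm)
  exact this hx

/-- Maschke for the commutative algebra generated by a finite abelian group of invertible order: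
every principal ideal is generated by an idempotent. -/
theorem exists_idem_of_mem_algOf (𝒩 : Subgroup (Module.End k U)ˣ) [Finite 𝒩]
    (hc : ∀ a ∈ 𝒩, ∀ b ∈ 𝒩, a * b = b * a) (hinv : (Nat.card 𝒩 : k) ≠ 0)
    (x : Module.End k U) (hx : x ∈ algOf 𝒩) :
    ∃ e ∈ algOf 𝒩, e * e = e ∧ x * e = x ∧ ∃ y ∈ algOf 𝒩, e = x * y := by
  classical
  haveI := Fintype.ofFinite 𝒩
  have hcomm := algOf_comm hc
  let I : Submodule k (Module.End k U) :=
    (Subalgebra.toSubmodule (algOf 𝒩)).map (LinearMap.mulLeft k x)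
  have hI : ∀ y, y ∈ I ↔ ∃ r ∈ algOf 𝒩, x * r = y := by
    intro y
    simp only [I, Submodule.mem_map, Subalgebra.mem_toSubmodule, LinearMap.mulLeft_apply]
  have hIR : ∀ y ∈ I, y ∈ algOf 𝒩 := by
    intro y hy
    obtain ⟨r, hr, rfl⟩ := (hI y).1 hy
    exact (algOf 𝒩).mul_mem hx hr
  have hI_mul : ∀ r ∈ algOf 𝒩, ∀ y ∈ I, r * y ∈ I := by
    intro r hr y hy
    obtain ⟨r', hr', rfl⟩ := (hI y).1 hy
    refine (hI _).2 ⟨r * r', (algOf 𝒩).mul_mem hr hr', ?_⟩
    rw [← mul_assoc, ← mul_assoc, hcomm x hx r hr]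
  obtain ⟨C, hC⟩ := Submodule.exists_isCompl I
  let p : Module.End k U →ₗ[k] Module.End k U :=
    I.subtype ∘ₗ Submodule.projectionOnto I C hC
  have hp1 : ∀ y, p y ∈ I := fun y => (Submodule.projectionOnto I C hC y).2
  have hp2 : ∀ y ∈ I, p y = y := by
    intro y hy
    show ((Submodule.projectionOnto I C hC y : I) : Module.End k U) = y
    exact congrArg Subtype.val (Submodule.projectionOnto_apply_left hC ⟨y, hy⟩)
  let π : Module.End k U →ₗ[k] Module.End k U :=
    ((Nat.card 𝒩 : k))⁻¹ • ∑ n : 𝒩,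
      (LinearMap.mulLeft k (((n : (Module.End k U)ˣ)⁻¹ : (Module.End k U)ˣ) : Module.End k U)) ∘ₗ
        p ∘ₗ (LinearMap.mulLeft k ((n : (Module.End k U)ˣ) : Module.End k U))
  have hπ : ∀ y, π y = ((Nat.card 𝒩 : k))⁻¹ • ∑ n : 𝒩,
      ((((n : (Module.End k U)ˣ)⁻¹ : (Module.End k U)ˣ) : Module.End k U) *
        p (((n : (Module.End k U)ˣ) : Module.End k U) * y)) := by
    intro y
    simp only [π, LinearMap.smul_apply, LinearMap.sum_apply, LinearMap.comp_apply,
      LinearMap.mulLeft_apply]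
  have hπI : ∀ y, π y ∈ I := by
    intro y
    rw [hπ]
    refine I.smul_mem _ (Submodule.sum_mem _ fun n _ => ?_)
    exact hI_mul _ (unit_mem_algOf (𝒩.inv_mem n.2)) _ (hp1 _)
  have hπid : ∀ y ∈ I, π y = y := by
    intro y hy
    rw [hπ]
    have : ∀ n : 𝒩, ((((n : (Module.End k U)ˣ)⁻¹ : (Module.End k U)ˣ) : Module.End k U) *
        p (((n : (Module.End k U)ˣ) : Module.End k U) * y)) = y := by
      intro n
      rw [hp2 _ (hI_mul _ (unit_mem_algOf n.2) _ hy), ← mul_assoc, Units.inv_mul, one_mul]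
    simp only [this, Finset.sum_const, Finset.card_univ]
    rw [← Nat.card_eq_fintype_card, ← Nat.cast_smul_eq_nsmul k, smul_smul, inv_mul_cancel₀ hinv,
      one_smul]
  have hπm : ∀ m ∈ 𝒩, ∀ y, π ((m : Module.End k U) * y) = (m : Module.End k U) * π y := by
    intro m hm y
    rw [hπ, hπ, mul_smul_comm, Finset.mul_sum]
    congr 1
    rw [← Equiv.sum_comp (Equiv.mulRight (⟨m, hm⟩ : 𝒩))
      (fun n : 𝒩 => (m : Module.End k U) *
        ((((n : (Module.End k U)ˣ)⁻¹ : (Module.End k U)ˣ) : Module.End k U) *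
        p (((n : (Module.End k U)ˣ) : Module.End k U) * y)))]
    refine Finset.sum_congr rfl fun n _ => ?_
    simp only [Equiv.coe_mulRight, Subgroup.coe_mul, mul_inv_rev, Units.val_mul, mul_assoc]
    rw [← mul_assoc (m : Module.End k U), Units.mul_inv, one_mul]
  have hπr : ∀ r ∈ algOf 𝒩, ∀ y, π (r * y) = r * π y := by
    intro r hr
    induction hr using Algebra.adjoin_induction with
    | mem z hz =>
      obtain ⟨m, hm, rfl⟩ := hz
      exact hπm m hm
    | algebraMap c =>
      intro y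
      rw [Algebra.algebraMap_eq_smul_one, smul_mul_assoc, one_mul, map_smul, smul_mul_assoc,
        one_mul]
    | add a b _ _ ha hb =>
      intro y
      rw [add_mul, map_add, ha, hb, add_mul]
    | mul a b _ _ ha hb =>
      intro y
      rw [mul_assoc, ha, hb, mul_assoc]
  have hxI : x ∈ I := (hI x).2 ⟨1, (algOf 𝒩).one_mem, mul_one x⟩
  have hyI : ∀ y ∈ I, y * π 1 = y := by
    intro y hy
    have := hπr y (hIR y hy) 1
    rw [mul_one, hπid y hy] at this
    exact this.symm
  refine ⟨π 1, hIR _ (hπI 1), hyI _ (hπI 1), hyI x hxI, ?_⟩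
  obtain ⟨r, hr, hr'⟩ := (hI _).1 (hπI 1)
  exact ⟨r, hr, hr'.symm⟩

/-- no nontrivial idempotents implies the algebra is a field. -/
theorem exists_inv_of_no_idem (𝒩 : Subgroup (Module.End k U)ˣ) [Finite 𝒩]
    (hc : ∀ a ∈ 𝒩, ∀ b ∈ 𝒩, a * b = b * a) (hinv : (Nat.card 𝒩 : k) ≠ 0)
    (hid : ∀ e ∈ algOf 𝒩, e * e = e → e = 0 ∨ e = 1)
    (x : Module.End k U) (hx : x ∈ algOf 𝒩) (hx0 : x ≠ 0) : ∃ y ∈ algOf 𝒩, x * y = 1 := by
  obtain ⟨e, he, hee, hxe, y, hy, hey⟩ := exists_idem_of_mem_algOf 𝒩 hc hinv x hx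
  rcases hid e he hee with h0 | h1
  · exfalso
    apply hx0
    rw [← hxe, h0, mul_zero]
  · exact ⟨y, hy, by rw [← hey, h1]⟩



/-- a subalgebra of `End U` that is a field. -/
structure FAlg (k : Type u) [Field k] (U : Type w) [AddCommGroup U] [Module k U] where
  R : Subalgebra k (Module.End k U)
  comm : ∀ x ∈ R, ∀ y ∈ R, x * y = y * x
  inv : ∀ x ∈ R, x ≠ 0 → ∃ y ∈ R, x * y = 1
  nontriv : (1 : Module.End k U) ≠ 0

/-- the underlying type, as a synonym. -/
def FAlg.L (F : FAlg k U) : Type w := ↥F.R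

theorem FAlg.isField (F : FAlg k U) : IsField ↥F.R :=
  ⟨⟨0, 1, fun h => F.nontriv (congrArg Subtype.val h).symm⟩,
    fun a b => Subtype.ext (F.comm a a.2 b b.2),
    fun {a} ha => by
      obtain ⟨y, hy, hay⟩ := F.inv a a.2 (fun h => ha (Subtype.ext h))
      exact ⟨⟨y, hy⟩, Subtype.ext hay⟩⟩

noncomputable instance FAlg.instField (F : FAlg k U) : Field F.L :=
  IsField.toField (R := ↥F.R) F.isField

/-- the inclusion into `End U`. -/
def FAlg.ι (F : FAlg k U) : F.L →+* Module.End k U := F.R.val.toRingHom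

theorem FAlg.ι_apply (F : FAlg k U) (a : F.L) : F.ι a = (a : ↥F.R).1 := rfl

noncomputable instance FAlg.instModule (F : FAlg k U) : Module F.L U := Module.compHom U F.ι

theorem FAlg.smul_def (F : FAlg k U) (a : F.L) (u : U) : a • u = (F.ι a) u := rfl

instance FAlg.instSMulComm (F : FAlg k U) : SMulCommClass F.L k U :=
  ⟨fun a c u => by rw [FAlg.smul_def, FAlg.smul_def, map_smul]⟩

/-- the conjugation action on the field. -/
@[instance_reducible]
noncomputable def FAlg.action (F : FAlg k U) {H : Type v} [Group H] (ρ : H →* (Module.End k U)ˣ)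
    (hst : ∀ h, ∀ x ∈ F.R, cj (ρ h) x ∈ F.R) : MulSemiringAction H F.L where
  smul h a := (⟨cj (ρ h) (a : ↥F.R).1, hst h _ (a : ↥F.R).2⟩ : ↥F.R)
  one_smul a := Subtype.ext (by
    show cj (ρ 1) (a : ↥F.R).1 = (a : ↥F.R).1
    rw [map_one, cj_one])
  mul_smul g h a := Subtype.ext (by
    show cj (ρ (g * h)) (a : ↥F.R).1 = cj (ρ g) (cj (ρ h) (a : ↥F.R).1)
    rw [map_mul, cj_mul])
  smul_zero h := Subtype.ext (map_zero (cj (ρ h)))
  smul_add h a b := Subtype.ext (map_add (cj (ρ h)) _ _)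
  smul_one h := Subtype.ext (map_one (cj (ρ h)))
  smul_mul h a b := Subtype.ext (map_mul (cj (ρ h)) _ _)

theorem FAlg.action_smul (F : FAlg k U) {H : Type v} [Group H] (ρ : H →* (Module.End k U)ˣ)
    (hst : ∀ h, ∀ x ∈ F.R, cj (ρ h) x ∈ F.R) (h : H) (a : F.L) :
    F.ι (letI := F.action ρ hst; h • a) = cj (ρ h) (F.ι a) := rfl

theorem field_case {H : Type v} [Group H] [Finite H] (ρ : H →* (Module.End k U)ˣ)
    [FiniteDimensional k U] (F : FAlg k U)
    (hst : ∀ h, ∀ x ∈ F.R, cj (ρ h) x ∈ F.R)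
    (hfaith : ∀ h : H, (∀ x ∈ F.R, cj (ρ h) x = x) → h = 1) : HFOn ρ ⊤ ⊤ := by
  letI := F.action ρ hst
  haveI : FaithfulSMul H F.L := by
    refine ⟨fun {g h} hgh => ?_⟩
    have h1 : g⁻¹ * h = 1 := by
      apply hfaith
      intro x hx
      have h2 := hgh (⟨x, hx⟩ : ↥F.R)
      have h3 : cj (ρ g) x = cj (ρ h) x := congrArg F.ι h2
      rw [map_mul, cj_mul, ← h3, map_inv, cj_inv_cj]
    exact eq_of_inv_mul_eq_one h1
  apply semilinear_free (L := F.L) ρ
  intro h a u
  rw [FAlg.smul_def, FAlg.smul_def, FAlg.action_smul, cj_apply, Module.End.mul_apply,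
    Module.End.mul_apply, ← Module.End.mul_apply (↑(ρ h)⁻¹ : Module.End k U), Units.inv_mul,
    Module.End.one_apply]


set_option maxHeartbeats 800000 in
theorem abelian_case (k : Type u) [Field k] : ∀ (d : ℕ) (H : Type v) [Group H] [Finite H]
    (U : Type w) [AddCommGroup U] [Module k U] [FiniteDimensional k U]
    (ρ : H →* (Module.End k U)ˣ) (𝒩 : Subgroup (Module.End k U)ˣ),
    finrank k U = d → FData ρ 𝒩 → (∀ a ∈ 𝒩, ∀ b ∈ 𝒩, a * b = b * a) →
    (Nat.card 𝒩 : k) ≠ 0 → HFOn ρ ⊤ ⊤ := by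
  intro d
  induction d using Nat.strong_induction_on with
  | _ d ih =>
  intro H _ _ U _ _ _ ρ 𝒩 hd hD hc hinv
  haveI := hD.fin
  by_cases hU : Subsingleton U
  · exact HFOn.of_subsingleton ρ
  haveI : Nontrivial U := not_subsingleton_iff_nontrivial.1 hU
  classical
  haveI : Fintype H := Fintype.ofFinite H
  have hRcomm := algOf_comm hc
  have hRcj : ∀ h, ∀ x ∈ algOf 𝒩, cj (ρ h) x ∈ algOf 𝒩 :=
    fun h x hx => cj_mem_algOf (ρ h) (hD.norm h) hx
  have hRn : ∀ n ∈ 𝒩, ∀ x ∈ algOf 𝒩, (n : Module.End k U) * x = x * n :=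
    fun n hn x hx => hRcomm _ (unit_mem_algOf hn) _ hx
  -- a minimal nonzero idempotent
  let P : Module.End k U → Prop := fun e => e ∈ algOf 𝒩 ∧ e * e = e ∧ e ≠ 0
  have hP1 : P 1 := ⟨(algOf 𝒩).one_mem, mul_one 1, one_ne_zero⟩
  obtain ⟨ε, hε, hmin⟩ : ∃ ε, P ε ∧ ∀ f, P f →
      finrank k (LinearMap.range ε) ≤ finrank k (LinearMap.range f) := by
    let S : Set ℕ := {m | ∃ e, P e ∧ finrank k (LinearMap.range e) = m}
    have hS : S.Nonempty := ⟨_, 1, hP1, rfl⟩
    obtain ⟨e, he, hem⟩ := Nat.sInf_mem hS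
    refine ⟨e, he, fun f hf => ?_⟩
    rw [hem]
    exact Nat.sInf_le ⟨f, hf, rfl⟩
  have hPcj : ∀ h, P (cj (ρ h) ε) := fun h =>
    ⟨hRcj h ε hε.1, by rw [← map_mul, hε.2.1],
      fun h0 => hε.2.2 ((map_eq_zero_iff _ (cj (ρ h)).injective).1 h0)⟩
  have key : ∀ h, cj (ρ h) ε = ε ∨ ε * cj (ρ h) ε = 0 := by
    intro h
    by_contra hcon
    push Not at hcon
    have hcm : ε * cj (ρ h) ε = cj (ρ h) ε * ε := hRcomm _ hε.1 _ (hPcj h).1
    have hPm : P (ε * cj (ρ h) ε) :=
      ⟨(algOf 𝒩).mul_mem hε.1 (hPcj h).1, idem_mul_comm hε.2.1 (hPcj h).2.1 hcm, hcon.2⟩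
    exact hcon.1 (idem_min_eq hε.2.1 (hPcj h).2.1 hcm (hmin _ hPm) (finrank_range_cj _ _)).symm
  have key2 : ∀ g h, cj (ρ g) ε = cj (ρ h) ε ∨ cj (ρ g) ε * cj (ρ h) ε = 0 := by
    intro g h
    have h1 : cj (ρ g) (cj (ρ (g⁻¹ * h)) ε) = cj (ρ h) ε := by
      rw [← cj_mul, ← map_mul, mul_inv_cancel_left]
    rcases key (g⁻¹ * h) with h2 | h2
    · left
      rw [← h1, h2]
    · right
      rw [← h1, ← map_mul, h2, map_zero]
  -- the orbit of ε
  let f : H → Module.End k U := fun h => cj (ρ h) ε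
  let orb : Finset (Module.End k U) := Finset.univ.image f
  have horb : ∀ x ∈ orb, ∃ h, x = cj (ρ h) ε := by
    intro x hx
    obtain ⟨h, -, rfl⟩ := Finset.mem_image.1 hx
    exact ⟨h, rfl⟩
  have hforb : ∀ h, cj (ρ h) ε ∈ orb := fun h => Finset.mem_image_of_mem f (Finset.mem_univ h)
  have hεorb : ε ∈ orb := by
    have := hforb 1
    rwa [map_one, cj_one] at this
  have horb_idem : ∀ x ∈ orb, x * x = x := by
    intro x hx
    obtain ⟨h, rfl⟩ := horb x hx
    exact (hPcj h).2.1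
  have horb_orth : ∀ x ∈ orb, ∀ y ∈ orb, x ≠ y → x * y = 0 := by
    intro x hx y hy hxy
    obtain ⟨g, rfl⟩ := horb x hx
    obtain ⟨h, rfl⟩ := horb y hy
    exact (key2 g h).resolve_left hxy
  set s : Module.End k U := ∑ x ∈ orb, x with hs
  have hsR : s ∈ algOf 𝒩 := by
    refine Subalgebra.sum_mem _ fun x hx => ?_
    obtain ⟨h, rfl⟩ := horb x hx
    exact (hPcj h).1
  have hxs : ∀ x ∈ orb, x * s = x := by
    intro x hx
    rw [hs, Finset.mul_sum, Finset.sum_eq_single x]
    · exact horb_idem x hx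
    · intro y hy hyx
      exact horb_orth x hx y hy (Ne.symm hyx)
    · intro h; exact absurd hx h
  have hss : s * s = s := by
    conv_lhs => rw [hs, Finset.sum_mul]
    exact Finset.sum_congr rfl fun x hx => hxs x hx
  have hscj : ∀ g, cj (ρ g) s = s := by
    intro g
    have himg : orb.image (cj (ρ g)) = orb := by
      ext x
      constructor
      · intro hx
        obtain ⟨y, hy, rfl⟩ := Finset.mem_image.1 hx
        obtain ⟨h, rfl⟩ := horb y hy
        have := hforb (g * h)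
        rwa [map_mul, cj_mul] at this
      · intro hx
        obtain ⟨h, rfl⟩ := horb x hx
        refine Finset.mem_image.2 ⟨cj (ρ (g⁻¹ * h)) ε, hforb _, ?_⟩
        rw [← cj_mul, ← map_mul, mul_inv_cancel_left]
    rw [hs, map_sum]
    conv_rhs => rw [← himg]
    rw [Finset.sum_image (fun a _ b _ hab => (cj (ρ g)).injective hab)]
  have hs0 : s ≠ 0 := by
    intro h0
    have := hxs ε hεorb
    rw [h0, mul_zero] at this
    exact hε.2.2 this.symm
  have hρs : ∀ h, ((ρ h : (Module.End k U)ˣ) : Module.End k U) * s = s * (ρ h : Module.End k U) :=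
    fun h => (cj_eq_self_iff _ _).1 (hscj h)
  by_cases hs1 : s = 1
  · -- the orbit sums to one
    let S₀ : Subgroup H :=
      { carrier := {h | cj (ρ h) ε = ε}
        one_mem' := by show cj (ρ 1) ε = ε; rw [map_one, cj_one]
        mul_mem' := fun {a b} ha hb => by
          show cj (ρ (a * b)) ε = ε
          rw [map_mul, cj_mul, (show cj (ρ b) ε = ε from hb), (show cj (ρ a) ε = ε from ha)]
        inv_mem' := fun {a} ha => by
          show cj (ρ a⁻¹) ε = ε
          have : cj (ρ a) ε = ε := ha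
          rw [map_inv]
          nth_rewrite 1 [← this]
          rw [cj_inv_cj] }
    have hS₀ : ∀ h, h ∈ S₀ ↔ cj (ρ h) ε = ε := fun h => Iff.rfl
    by_cases hS₀top : S₀ = ⊤
    · -- the field case
      have hall : ∀ h, cj (ρ h) ε = ε := fun h => (hS₀ h).1 (hS₀top ▸ Subgroup.mem_top h)
      have horb1 : orb = {ε} := by
        ext x
        rw [Finset.mem_singleton]
        constructor
        · intro hx
          obtain ⟨h, rfl⟩ := horb x hx
          exact hall h
        · rintro rfl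
          exact hεorb
      have hε1 : ε = 1 := by
        rw [← hs1, hs, horb1, Finset.sum_singleton]
      have hid : ∀ e ∈ algOf 𝒩, e * e = e → e = 0 ∨ e = 1 := by
        intro e he hee
        by_cases h0 : e = 0
        · exact Or.inl h0
        right
        by_contra h1
        have h2 := hmin e ⟨he, hee, h0⟩
        rw [hε1] at h2
        have h3 : LinearMap.range e = ⊤ := by
          apply Submodule.eq_top_of_finrank_eq
          apply le_antisymm (Submodule.finrank_le _)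
          refine le_trans (le_of_eq ?_) h2
          rw [Module.End.one_eq_id, LinearMap.range_id, finrank_top]
        exact idem_range_ne_top hee h1 h3
      have hinvR := exists_inv_of_no_idem 𝒩 hc hinv hid
      let F : FAlg k U := ⟨algOf 𝒩, hRcomm, hinvR, one_ne_zero⟩
      refine field_case ρ F hRcj ?_
      intro h hh
      by_contra hh1
      have h𝒩 : ∀ n ∈ 𝒩, n = 1 := by
        intro n hn
        apply hD.fpf h hh1 n hn
        apply Units.ext
        rw [← cj_unit]
        exact hh _ (unit_mem_algOf hn)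
      obtain ⟨u, hu⟩ := exists_ne (0 : U)
      apply hu
      apply hD.cu
      intro n hn
      rw [h𝒩 n hn, Units.val_one, Module.End.one_apply]
    · -- induce from the stabiliser
      set X₀ : Submodule k U := LinearMap.range ε with hX₀def
      have hX₀ : ∀ h ∈ S₀, ρ h ∈ stab X₀ := fun h hh =>
        mem_stab_range_of_comm _ _ ((cj_eq_self_iff _ _).1 ((hS₀ h).1 hh))
      have h𝒩₀ : 𝒩 ≤ stab X₀ := fun n hn => mem_stab_range_of_comm n ε (hRn n hn ε hε.1)
      have hε1 : ε ≠ 1 := by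
        intro h1
        apply hS₀top
        rw [eq_top_iff]
        intro h _
        rw [hS₀, h1, map_one]
      have hlt : finrank k X₀ < d := by
        rw [← hd]
        exact Submodule.finrank_lt (idem_range_ne_top hε.2.1 hε1)
      have hIH := ih (finrank k X₀) hlt S₀ X₀ (resRep ρ S₀ X₀ hX₀) (resN 𝒩 X₀ h𝒩₀) rfl
        (hD.res S₀ X₀ hX₀ h𝒩₀) (resN_comm h𝒩₀ hc)
        (natCast_ne_zero_of_dvd (card_resN_dvd h𝒩₀) hinv)
      have h0 := HFOn.of_res ρ S₀ X₀ hX₀ hIH
      refine HFOn.induce ρ le_top h0 ?_ ?_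
      · rw [eq_top_iff]
        intro u _
        have hu : u = ∑ x ∈ orb, x u := by
          rw [← LinearMap.sum_apply, ← hs, hs1, Module.End.one_apply]
        rw [hu]
        refine Submodule.sum_mem _ fun x hx => ?_
        obtain ⟨h, rfl⟩ := horb x hx
        refine Submodule.mem_iSup_of_mem h (Submodule.mem_iSup_of_mem (Subgroup.mem_top h) ?_)
        rw [← range_cj]
        exact ⟨u, rfl⟩
      · have hcount : Fintype.card H = orb.card * Nat.card S₀ := by
          apply card_eq_card_image_mul f S₀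
          intro g h
          show cj (ρ g) ε = cj (ρ h) ε ↔ g⁻¹ * h ∈ S₀
          rw [hS₀, map_mul, cj_mul, map_inv]
          constructor
          · intro hgh
            rw [← hgh, cj_inv_cj]
          · intro hgh
            have := congrArg (cj (ρ g)) hgh
            rw [cj_cj_inv] at this
            exact this.symm
        have hsum := sum_finrank_range_le orb horb_idem horb_orth
        have hconst : ∑ x ∈ orb, finrank k (LinearMap.range x) = orb.card * finrank k X₀ := by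
          rw [Finset.sum_const_nat]
          intro x hx
          obtain ⟨h, rfl⟩ := horb x hx
          exact finrank_range_cj _ _
        rw [hconst] at hsum
        rw [Subgroup.card_top, Nat.card_eq_fintype_card, hcount, finrank_top]
        calc orb.card * Nat.card S₀ * finrank k X₀
            = Nat.card S₀ * (orb.card * finrank k X₀) := by ring
          _ ≤ Nat.card S₀ * finrank k U := Nat.mul_le_mul_left _ hsum
  · -- split along the invariant idempotent `s`
    set X₁ : Submodule k U := LinearMap.range s with hX₁def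
    set X₂ : Submodule k U := LinearMap.ker s with hX₂def
    have hX₁ : ∀ h ∈ (⊤ : Subgroup H), ρ h ∈ stab X₁ := fun h _ =>
      mem_stab_range_of_comm _ _ (hρs h)
    have hX₂ : ∀ h ∈ (⊤ : Subgroup H), ρ h ∈ stab X₂ := fun h _ =>
      mem_stab_ker_of_comm _ _ (hρs h)
    have h𝒩₁ : 𝒩 ≤ stab X₁ := fun n hn => mem_stab_range_of_comm n s (hRn n hn s hsR)
    have h𝒩₂ : 𝒩 ≤ stab X₂ := fun n hn => mem_stab_ker_of_comm n s (hRn n hn s hsR)
    have hlt₁ : finrank k X₁ < d := by
      rw [← hd]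
      exact Submodule.finrank_lt (idem_range_ne_top hss hs1)
    have hlt₂ : finrank k X₂ < d := by
      rw [← hd]
      exact Submodule.finrank_lt (idem_ker_ne_top hs0)
    have hIH₁ := ih (finrank k X₁) hlt₁ (⊤ : Subgroup H) X₁ (resRep ρ ⊤ X₁ hX₁) (resN 𝒩 X₁ h𝒩₁) rfl
      (hD.res ⊤ X₁ hX₁ h𝒩₁) (resN_comm h𝒩₁ hc)
      (natCast_ne_zero_of_dvd (card_resN_dvd h𝒩₁) hinv)
    have hIH₂ := ih (finrank k X₂) hlt₂ (⊤ : Subgroup H) X₂ (resRep ρ ⊤ X₂ hX₂) (resN 𝒩 X₂ h𝒩₂) rfl
      (hD.res ⊤ X₂ hX₂ h𝒩₂) (resN_comm h𝒩₂ hc)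
      (natCast_ne_zero_of_dvd (card_resN_dvd h𝒩₂) hinv)
    have h1 := HFOn.of_res ρ ⊤ X₁ hX₁ hIH₁
    have h2 := HFOn.of_res ρ ⊤ X₂ hX₂ hIH₂
    have h3 := HFOn.sup ρ h1 h2 (idem_disjoint hss)
    rwa [idem_sup hss] at h3



/-- a finite `p`-subgroup of `GL(U)` in characteristic `p` fixes a nonzero vector. -/
theorem exists_fixed_of_pgroup (p : ℕ) [hp : Fact p.Prime] [CharP k p] [Nontrivial U]
    (P : Subgroup (Module.End k U)ˣ) [Finite P] (hP : IsPGroup p P) :
    ∃ u : U, u ≠ 0 ∧ ∀ g ∈ P, (g : Module.End k U) u = u := by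
  classical
  obtain ⟨x₀, hx₀⟩ := exists_ne (0 : U)
  letI : Algebra (ZMod p) k := ZMod.algebra k p
  letI : Module (ZMod p) U := Module.compHom U (algebraMap (ZMod p) k)
  have hsmul : ∀ (c : ZMod p) (u : U), c • u = (algebraMap (ZMod p) k c) • u := fun c u => rfl
  let orbS : Set U := Set.range (fun g : P => ((g : (Module.End k U)ˣ) : Module.End k U) x₀)
  let M : Submodule (ZMod p) U := Submodule.span (ZMod p) orbS
  have hfinS : orbS.Finite := Set.finite_range _
  haveI : Module.Finite (ZMod p) M := Module.Finite.span_of_finite (ZMod p) hfinS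
  haveI : Finite M := Module.finite_of_finite (ZMod p)
  have hx₀M : x₀ ∈ M := Submodule.subset_span ⟨1, by simp⟩
  have hinvM : ∀ g ∈ P, ∀ x ∈ M, ((g : (Module.End k U)ˣ) : Module.End k U) x ∈ M := by
    intro g hg x hx
    induction hx using Submodule.span_induction with
    | mem y hy =>
      obtain ⟨h, rfl⟩ := hy
      apply Submodule.subset_span
      refine ⟨⟨g, hg⟩ * h, ?_⟩
      simp
    | zero => rw [map_zero]; exact M.zero_mem
    | add a b _ _ ha hb => rw [map_add]; exact M.add_mem ha hb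
    | smul c a _ ha =>
      rw [hsmul, map_smul, ← hsmul]
      exact M.smul_mem c ha
  letI : MulAction P M :=
    { smul := fun g x => ⟨((g : (Module.End k U)ˣ) : Module.End k U) x, hinvM g g.2 x x.2⟩
      one_smul := fun x => Subtype.ext (by show ((1 : (Module.End k U)ˣ) : Module.End k U) x = x; simp)
      mul_smul := fun g h x => Subtype.ext (by
        show (((g * h : P) : (Module.End k U)ˣ) : Module.End k U) x = _
        simp
        rfl) }
  have hsm : ∀ (g : P) (x : M), ((g • x : M) : U) = ((g : (Module.End k U)ˣ) : Module.End k U) x :=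
    fun g x => rfl
  have hcard : p ∣ Nat.card M := by
    haveI : Nontrivial M := ⟨⟨⟨x₀, hx₀M⟩, 0, fun h => hx₀ (congrArg Subtype.val h)⟩⟩
    haveI : Fintype M := Fintype.ofFinite M
    haveI : Fintype (ZMod p) := ZMod.fintype p
    have h1 : Fintype.card M = Fintype.card (ZMod p) ^ finrank (ZMod p) M := Module.card_eq_pow_finrank
    rw [ZMod.card] at h1
    rw [Nat.card_eq_fintype_card, h1]
    apply dvd_pow_self
    exact (Module.finrank_pos (R := ZMod p) (M := M)).ne'
  have h0 : (0 : M) ∈ MulAction.fixedPoints P M := by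
    intro g
    apply Subtype.ext
    rw [hsm]
    simp
  obtain ⟨b, hb, hb0⟩ := hP.exists_fixed_point_of_prime_dvd_card_of_fixed_point M hcard h0
  refine ⟨b, fun h => hb0 (Subtype.ext h.symm), fun g hg => ?_⟩
  have := hb ⟨g, hg⟩
  exact congrArg Subtype.val this

/-- a nilpotent finite group whose order is divisible by the prime `r` has a nontrivial
characteristic central `r`-subgroup. -/
theorem exists_char_central {G : Type u} [Group G] [Finite G] [hG : Group.IsNilpotent G]
    (r : ℕ) [hr : Fact r.Prime] (hdvd : r ∣ Nat.card G) :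
    ∃ Z : Subgroup G, Z.Characteristic ∧ Z ≠ ⊥ ∧ Z ≤ Subgroup.center G ∧ IsPGroup r Z := by
  obtain ⟨P⟩ : Nonempty (Sylow r G) := inferInstance
  have hPn : (P : Subgroup G).Normal := inferInstance
  haveI hPc : (P : Subgroup G).Characteristic := P.characteristic_of_normal hPn
  have hPbot : (P : Subgroup G) ≠ ⊥ := P.ne_bot_of_dvd_card hdvd
  refine ⟨(P : Subgroup G) ⊓ Subgroup.center G, inferInstance,
    Cfsg.Agent.Lib.Helper1.inf_center_ne_bot_of_normal _ hPbot, inf_le_right,
    P.isPGroup'.to_le inf_le_left⟩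

/-- some prime divisor of `|𝒩|` is invertible in `k`. -/
theorem exists_good_prime {H : Type v} [Group H] {ρ : H →* (Module.End k U)ˣ}
    {𝒩 : Subgroup (Module.End k U)ˣ} (hD : FData ρ 𝒩) [Nontrivial U] :
    ∃ r : ℕ, r.Prime ∧ r ∣ Nat.card 𝒩 ∧ (r : k) ≠ 0 := by
  haveI := hD.fin
  by_contra hcon
  push Not at hcon
  obtain ⟨u₀, hu₀⟩ := exists_ne (0 : U)
  by_cases h1 : Nat.card 𝒩 = 1
  · apply hu₀
    apply hD.cu
    intro n hn
    have : n = 1 := by
      have := (Subgroup.card_eq_one.1 h1)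
      rw [this, Subgroup.mem_bot] at hn
      exact hn
    rw [this, Units.val_one, Module.End.one_apply]
  · set p := ringChar k with hp
    haveI : CharP k p := ringChar.charP k
    have hp1 : p ≠ 1 := CharP.ringChar_ne_one
    have hall : ∀ r : ℕ, r.Prime → r ∣ Nat.card 𝒩 → r = p := by
      intro r hr hdvd
      have h0 := hcon r hr hdvd
      have : p ∣ r := (ringChar.spec k r).1 h0
      rcases (Nat.dvd_prime hr).1 this with h | h
      · exact absurd h hp1
      · exact h.symm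
    have hpp : p.Prime := by
      have := Nat.minFac_prime h1
      rw [← hall _ this (Nat.minFac_dvd _)]
      exact this
    haveI : Fact p.Prime := ⟨hpp⟩
    have hcard : Nat.card 𝒩 = p ^ (Nat.card 𝒩).primeFactorsList.length :=
      Nat.eq_prime_pow_of_unique_prime_dvd Nat.card_pos.ne' (fun {d} hd hdvd => hall d hd hdvd)
    have hPG : IsPGroup p 𝒩 := IsPGroup.of_card hcard
    obtain ⟨u, hu, hfix⟩ := exists_fixed_of_pgroup p 𝒩 hPG
    exact hu (hD.cu u hfix)

/-- a good central subgroup. -/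
theorem exists_good_central {H : Type v} [Group H] {ρ : H →* (Module.End k U)ˣ}
    {𝒩 : Subgroup (Module.End k U)ˣ} (hD : FData ρ 𝒩) [Nontrivial U]
    [hnil : Group.IsNilpotent 𝒩] :
    ∃ Z : Subgroup (Module.End k U)ˣ, Z ≤ 𝒩 ∧ Z ≠ ⊥ ∧ (∀ z ∈ Z, ∀ n ∈ 𝒩, n * z = z * n) ∧
      (Nat.card Z : k) ≠ 0 ∧ ∀ h, ∀ z ∈ Z, ρ h * z * (ρ h)⁻¹ ∈ Z := by
  haveI := hD.fin
  obtain ⟨r, hr, hdvd, hrk⟩ := exists_good_prime hD
  haveI : Fact r.Prime := ⟨hr⟩
  obtain ⟨Z₀, hchar, hne, hcen, hpg⟩ := exists_char_central (G := 𝒩) r hdvd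
  refine ⟨Z₀.map 𝒩.subtype, Subgroup.map_subtype_le Z₀, ?_, ?_, ?_, ?_⟩
  · rw [Ne, Subgroup.map_eq_bot_iff_of_injective _ 𝒩.subtype_injective]
    exact hne
  · rintro _ ⟨z₀, hz₀, rfl⟩ n hn
    have := Subgroup.mem_center_iff.1 (hcen hz₀) ⟨n, hn⟩
    exact congrArg Subtype.val this
  · have h1 : Nat.card (Z₀.map 𝒩.subtype) = Nat.card Z₀ :=
      Nat.card_congr (Z₀.equivMapOfInjective _ 𝒩.subtype_injective).toEquiv.symm
    obtain ⟨a, ha⟩ := IsPGroup.iff_card.1 hpg
    rw [h1, ha, Nat.cast_pow]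
    exact pow_ne_zero _ hrk
  · intro h
    have hg : ∀ n ∈ 𝒩, ρ h * n * (ρ h)⁻¹ ∈ 𝒩 := hD.norm h
    have hg' : ∀ n ∈ 𝒩, (ρ h)⁻¹ * n * ρ h ∈ 𝒩 := by
      intro n hn
      have := hD.norm h⁻¹ n hn
      rwa [map_inv, inv_inv] at this
    let φ : 𝒩 ≃* 𝒩 :=
      { toFun := fun n => ⟨ρ h * n * (ρ h)⁻¹, hg n n.2⟩
        invFun := fun n => ⟨(ρ h)⁻¹ * n * ρ h, hg' n n.2⟩
        left_inv := fun n => by apply Subtype.ext; simp [mul_assoc]
        right_inv := fun n => by apply Subtype.ext; simp [mul_assoc]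
        map_mul' := fun a b => by apply Subtype.ext; simp [mul_assoc] }
    have hφ : Z₀.map φ.toMonoidHom = Z₀ := Subgroup.characteristic_iff_map_eq.1 hchar φ
    rintro _ ⟨z₀, hz₀, rfl⟩
    refine ⟨φ z₀, ?_, rfl⟩
    rw [← hφ]
    exact ⟨z₀, hz₀, rfl⟩


set_option maxHeartbeats 800000 in
theorem nilpotent_case (k : Type u) [Field k] : ∀ (d : ℕ) (H : Type v) [Group H] [Finite H]
    (U : Type w) [AddCommGroup U] [Module k U] [FiniteDimensional k U]
    (ρ : H →* (Module.End k U)ˣ) (𝒩 : Subgroup (Module.End k U)ˣ),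
    finrank k U = d → FData ρ 𝒩 → Group.IsNilpotent 𝒩 → HFOn ρ ⊤ ⊤ := by
  intro d
  induction d using Nat.strong_induction_on with
  | _ d ih =>
  intro H _ _ U _ _ _ ρ 𝒩 hd hD hnil
  haveI := hD.fin
  by_cases hU : Subsingleton U
  · exact HFOn.of_subsingleton ρ
  haveI : Nontrivial U := not_subsingleton_iff_nontrivial.1 hU
  obtain ⟨Z, hZ𝒩, hZbot, hZcen, hZinv, hZnorm⟩ := exists_good_central hD
  haveI : Finite Z := Finite.of_injective _ (Subgroup.inclusion_injective hZ𝒩)
  set e : Module.End k U := avg Z with he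
  have hee : e * e = e := avg_idem Z hZinv
  have hρe : ∀ h, ((ρ h : (Module.End k U)ˣ) : Module.End k U) * e = e * (ρ h : Module.End k U) := by
    intro h
    rw [← cj_eq_self_iff]
    apply cj_avg Z (ρ h) (hZnorm h)
    intro z hz
    have := hZnorm h⁻¹ z hz
    rwa [map_inv, inv_inv] at this
  have hne : ∀ n ∈ 𝒩, (n : Module.End k U) * e = e * (n : Module.End k U) := by
    intro n hn
    rw [← cj_eq_self_iff]
    apply cj_avg Z n
    · intro z hz
      rw [hZcen z hz n hn, mul_inv_cancel_right]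
      exact hz
    · intro z hz
      rw [mul_assoc, ← hZcen z hz n hn, inv_mul_cancel_left]
      exact hz
  set X₁ : Submodule k U := LinearMap.range e with hX₁def
  set X₂ : Submodule k U := LinearMap.ker e with hX₂def
  have hX₁ : ∀ h ∈ (⊤ : Subgroup H), ρ h ∈ stab X₁ := fun h _ =>
    mem_stab_range_of_comm _ _ (hρe h)
  have hX₂ : ∀ h ∈ (⊤ : Subgroup H), ρ h ∈ stab X₂ := fun h _ =>
    mem_stab_ker_of_comm _ _ (hρe h)
  have h𝒩₁ : 𝒩 ≤ stab X₁ := fun n hn => mem_stab_range_of_comm n e (hne n hn)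
  have hZ₂ : Z ≤ stab X₂ := fun n hn => mem_stab_ker_of_comm n e (hne n (hZ𝒩 hn))
  -- X₁ is proper
  have hX₁top : X₁ ≠ ⊤ := by
    intro htop
    apply hZbot
    rw [eq_bot_iff]
    intro z hz
    rw [Subgroup.mem_bot]
    apply Units.ext
    apply LinearMap.ext
    intro u
    have : u ∈ LinearMap.range (avg Z) := by
      rw [← he, ← hX₁def, htop]; exact Submodule.mem_top
    rw [Units.val_one, Module.End.one_apply]
    exact (mem_range_avg Z hZinv u).1 this z hz
  have hlt₁ : finrank k X₁ < d := by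
    rw [← hd]
    exact Submodule.finrank_lt hX₁top
  haveI := resN_nilpotent (𝒩 := 𝒩) h𝒩₁
  have hIH₁ := ih (finrank k X₁) hlt₁ (⊤ : Subgroup H) X₁ (resRep ρ ⊤ X₁ hX₁) (resN 𝒩 X₁ h𝒩₁) rfl
    (hD.res ⊤ X₁ hX₁ h𝒩₁) inferInstance
  have h1 := HFOn.of_res ρ ⊤ X₁ hX₁ hIH₁
  -- the abelian case on X₂
  have hDZ : FData (resRep ρ ⊤ X₂ hX₂) (resN Z X₂ hZ₂) := by
    refine FData.res' inferInstance hZnorm (fun h hh z hz => hD.fpf h hh z (hZ𝒩 hz)) ⊤ X₂ hX₂ hZ₂ ?_
    intro u hu hfix
    have h2 : u ∈ LinearMap.range (avg Z) := (mem_range_avg Z hZinv u).2 hfix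
    have h3 : e u = u := idem_apply_of_mem_range hee h2
    rw [← h3]
    exact hu
  have hZc : ∀ a ∈ Z, ∀ b ∈ Z, a * b = b * a := fun a ha b hb => hZcen b hb a (hZ𝒩 ha)
  have h2 := HFOn.of_res ρ ⊤ X₂ hX₂
    (abelian_case k (finrank k X₂) (⊤ : Subgroup H) X₂ (resRep ρ ⊤ X₂ hX₂) (resN Z X₂ hZ₂) rfl hDZ
      (resN_comm hZ₂ hZc) (natCast_ne_zero_of_dvd (card_resN_dvd hZ₂) hZinv))
  have h3 := HFOn.sup ρ h1 h2 (idem_disjoint hee)
  rwa [idem_sup hee] at h3


theorem frobenius_free {k : Type u} {V : Type w} {A : Type v} [Field k] [AddCommGroup V]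
    [Module k V] [FiniteDimensional k V] [Group A] [Finite A] [DecidableEq A]
    (ρ : Representation k A V) (hρ : Function.Injective ρ)
    (Fk Hc : Subgroup A) [hFn : Fk.Normal] (hHc : Cfsg.IsFrobeniusComplement Hc)
    (hker : Cfsg.frobeniusKernel Hc = (Fk : Set A)) (hnil : Group.IsNilpotent ↥Fk)
    (hCF : ∀ v : V, (∀ f ∈ Fk, ρ f v = v) → v = 0) :
    ∃ W : Submodule k V, DirectSum.IsInternal (fun h : ↥Hc => W.map (ρ (h : A))) := by
  let ρu : A →* (Module.End k V)ˣ := MonoidHom.toHomUnits ρ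
  have hρu : ∀ a, ((ρu a : (Module.End k V)ˣ) : Module.End k V) = ρ a := fun a => rfl
  have hρuinj : Function.Injective ρu := by
    intro a b hab
    apply hρ
    rw [← hρu, ← hρu, hab]
  let ρH : ↥Hc →* (Module.End k V)ˣ := ρu.comp Hc.subtype
  let 𝒩 : Subgroup (Module.End k V)ˣ := Fk.map ρu
  have hD : FData ρH 𝒩 := by
    refine ⟨?_, ?_, ?_, ?_⟩
    · exact Finite.of_surjective _ (ρu.subgroupMap_surjective Fk)
    · rintro h _ ⟨f, hf, rfl⟩
      refine ⟨(h : A) * f * (h : A)⁻¹, hFn.conj_mem f hf _, ?_⟩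
      simp [ρH]
    · rintro h hh _ ⟨f, hf, rfl⟩ hfix
      have h1 : (h : A) * f * (h : A)⁻¹ = f := by
        apply hρuinj
        rw [map_mul, map_mul, map_inv]
        exact hfix
      have hfk : f ∈ Cfsg.frobeniusKernel Hc := by rw [hker]; exact hf
      rcases hfk with hf1 | hfall
      · rw [hf1, map_one]
      · exfalso
        have hfH : f ∉ Hc := by
          intro hfH
          apply hfall 1
          rw [map_one, one_smul]
          exact hfH
        have h2 := hHc.2.2 f hfH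
        have h3 : (h : A) ∈ Hc ⊓ (MulAut.conj f • Hc) := by
          refine ⟨h.2, ?_⟩
          show (h : A) ∈ MulAut.conj f • Hc
          rw [Subgroup.mem_pointwise_smul_iff_inv_smul_mem]
          rw [← map_inv, MulAut.smul_def, MulAut.conj_apply, inv_inv]
          have h4 : f⁻¹ * (h : A) * f = h := by
            calc f⁻¹ * (h : A) * f = f⁻¹ * ((h : A) * f * (h : A)⁻¹) * h := by group
              _ = h := by rw [h1]; group
          rw [h4]
          exact h.2
        rw [h2, Subgroup.mem_bot] at h3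
        exact hh (Subtype.ext h3)
    · intro u hu
      apply hCF
      intro f hf
      rw [← hρu]
      exact hu _ ⟨f, hf, rfl⟩
  haveI : Group.IsNilpotent 𝒩 :=
    Group.nilpotent_of_surjective _ (ρu.subgroupMap_surjective Fk)
  have hfree := nilpotent_case k (finrank k V) ↥Hc V ρH 𝒩 rfl hD inferInstance
  exact HFOn.isInternal ρH hfree

end Cfsg.Agent.Lib.Helper1.FF
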