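import Cfsg.Prelude.Def_GeometricClasses
import Cfsg.Agent.Lib.Helper14.GUConj6
import Cfsg.Agent.Lib.Helper6.Hermitian
import Cfsg.Agent.Lib.Helper6.Unitary

set_option autoImplicit false
set_option linter.unusedSectionVars false

/-! # S5982 support (1): the similarity group of a unitary form in matrix terms -/

namespace Cfsg.Agent.Lib.Helper1.GUS

open Matrix Cfsg Polynomial
open Cfsg.Agent.Lib.Helper6
open Cfsg.Agent.Lib.Helper14.HSemi (sigQ sigQ_apply)
open Cfsg.Agent.Lib.Helper14.HCount (sigQ_sigQ herm_mul_mul herm_eq_dot dual)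
open Cfsg.Agent.Lib.Helper14.GUConj

variable {F : Type*} [Field F] [Fintype F] {q : ℕ} (hF : Fintype.card F = q ^ 2) {n : ℕ}

/-- the standard hermitian form of two images, in matrix terms -/
theorem herm_mulVec (M : Matrix (Fin n) (Fin n) F) (u v : Fin n → F) :
    hermForm n F q (M *ᵥ u) (M *ᵥ v) =
      u ⬝ᵥ ((Mᵀ * M.map (sigQ hF)) *ᵥ (fun i => sigQ hF (v i))) := by
  rw [herm_eq_dot hF]
  have h1 : (fun i => sigQ hF ((M *ᵥ v) i)) = (M.map (sigQ hF)) *ᵥ (fun i => sigQ hF (v i)) := by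
    funext i
    simp only [Matrix.mulVec, dotProduct, map_sum, map_mul, Matrix.map_apply]
  rw [h1, Matrix.dotProduct_mulVec, Matrix.vecMul_mulVec, ← Matrix.dotProduct_mulVec]

/-- similarity with multiplier `c` in matrix terms -/
theorem sim_iff_sharp (M : Matrix (Fin n) (Fin n) F) (c : F) :
    (∀ u v, hermForm n F q (M *ᵥ u) (M *ᵥ v) = c * hermForm n F q u v) ↔
      sharp hF M * M = c • (1 : Matrix (Fin n) (Fin n) F) := by
  have key : Mᵀ * M.map (sigQ hF) = c • (1 : Matrix (Fin n) (Fin n) F) ↔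
      sharp hF M * M = c • (1 : Matrix (Fin n) (Fin n) F) := by
    constructor
    · intro h
      have h2 := congrArg Matrix.transpose h
      rw [Matrix.transpose_mul, Matrix.transpose_transpose, Matrix.transpose_smul,
        Matrix.transpose_one] at h2
      exact h2
    · intro h
      have h2 := congrArg Matrix.transpose h
      rw [Matrix.transpose_mul, Matrix.transpose_smul, Matrix.transpose_one, sharp_eq,
        Matrix.transpose_transpose] at h2
      exact h2
  rw [← key]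
  constructor
  · intro h
    ext i j
    have h3 := h (Pi.single i 1) (Pi.single j 1)
    rw [herm_mulVec hF, herm_eq_dot hF] at h3
    have h4 : (fun k => sigQ hF ((Pi.single j (1 : F) : Fin n → F) k)) = Pi.single j 1 := by
      funext k
      by_cases hk : k = j
      · subst hk; simp
      · simp [Pi.single_eq_of_ne hk]
    rw [h4, Matrix.mulVec_single_one, single_one_dotProduct, single_one_dotProduct] at h3
    rw [Matrix.col_apply] at h3
    rw [h3, Matrix.smul_apply, Matrix.one_apply, Pi.single_apply]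
    by_cases hij : i = j
    · simp [hij]
    · simp [hij]
  · intro h u v
    rw [herm_mulVec hF, h, Matrix.smul_mulVec, Matrix.one_mulVec, dotProduct_smul, herm_eq_dot hF,
      smul_eq_mul]

/-- membership in the similarity group of the standard hermitian form -/
theorem mem_sim_iff (g : GL (Fin n) F) :
    g ∈ Geo.similarityGroup (hermForm n F q) ↔
      ∃ c : F, c ≠ 0 ∧ sharp hF (g : Matrix (Fin n) (Fin n) F) * (g : Matrix (Fin n) (Fin n) F)
        = c • (1 : Matrix (Fin n) (Fin n) F) := by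
  constructor
  · rintro ⟨c, hc⟩
    exact ⟨(c : F), c.ne_zero, (sim_iff_sharp hF _ _).mp hc⟩
  · rintro ⟨c, hc0, hc⟩
    exact ⟨Units.mk0 c hc0, (sim_iff_sharp hF _ _).mpr hc⟩

/-- the multiplier of a similarity is fixed by the involution -/
theorem multiplier_fixed (hn : 0 < n) (M : Matrix (Fin n) (Fin n) F) (c : F)
    (h : sharp hF M * M = c • (1 : Matrix (Fin n) (Fin n) F)) : sigQ hF c = c := by
  have h1 : sharp hF (sharp hF M * M) = sharp hF M * M := by
    rw [sharp_mul, sharp_sharp]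
  rw [h, sharp_smul, sharp_one] at h1
  have h2 := congrFun (congrFun h1 ⟨0, hn⟩) ⟨0, hn⟩
  simpa using h2

/-- a similarity is a scalar multiple of a unitary matrix -/
theorem exists_unitary_smul (hn : 0 < n) (M : Matrix (Fin n) (Fin n) F) (c : F) (hc0 : c ≠ 0)
    (h : sharp hF M * M = c • (1 : Matrix (Fin n) (Fin n) F)) :
    ∃ l : F, l ≠ 0 ∧ l * sigQ hF l = c ∧ sharp hF (l⁻¹ • M) * (l⁻¹ • M) = 1 := by
  have hfix := multiplier_fixed hF hn M c h
  have hne : (conjQ hF : F →+* F) ≠ RingHom.id F := conjQ_ne_id hF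
  obtain ⟨l, hl⟩ := exists_norm (conjQ hF) hne (conjQ_conjQ hF) c hc0 hfix
  have hl' : l * sigQ hF l = c := hl
  have hl0 : l ≠ 0 := by
    rintro rfl
    rw [zero_mul] at hl'
    exact hc0 hl'.symm
  have hs0 : sigQ hF l ≠ 0 := (map_ne_zero (sigQ hF)).mpr hl0
  refine ⟨l, hl0, hl', ?_⟩
  rw [sharp_smul, Matrix.smul_mul, Matrix.mul_smul, h, smul_smul, smul_smul, map_inv₀, ← hl']
  have : (sigQ hF l)⁻¹ * l⁻¹ * (l * sigQ hF l) = 1 := by
    field_simp
  rw [this, one_smul]

include hF in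
/-- a unitary form for `x ↦ x ^ q` is equivalent to the standard one -/
theorem exists_std (f : (Fin n → F) → (Fin n → F) → F) (hf : Geo.IsUnitaryFormPow q f) :
    ∃ P : GL (Fin n) F, ∀ x y,
      hermForm n F q ((P : Matrix (Fin n) (Fin n) F) *ᵥ x) ((P : Matrix (Fin n) (Fin n) F) *ᵥ y)
        = f x y := by
  have hadd : ∀ x y₁ y₂, f x (y₁ + y₂) = f x y₁ + f x y₂ := by
    intro x y₁ y₂
    rw [hf.herm x (y₁ + y₂), hf.add_left, hf.herm x y₁, hf.herm x y₂]
    exact map_add (conjQ hF) _ _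
  have hsmul : ∀ (c : F) x y, f x (c • y) = conjQ hF c * f x y := by
    intro c x y
    rw [hf.herm x (c • y), hf.smul_left, hf.herm x y, mul_pow]
    rfl
  let B : (Fin n → F) →ₛₗ[conjQ hF] (Fin n → F) →ₗ[F] F :=
    LinearMap.mk₂'ₛₗ (conjQ hF) (RingHom.id F) (fun y x => f x y)
      (fun y₁ y₂ x => hadd x y₁ y₂)
      (fun c y x => hsmul c x y)
      (fun y x₁ x₂ => hf.add_left x₁ x₂ y)
      (fun c y x => hf.smul_left c x y)
  have hB : ∀ y x, B y x = f x y := fun y x => rfl
  have hS : B.IsSymm := ⟨fun x y => by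
    change (f y x) ^ q = f x y
    exact (hf.herm x y).symm⟩
  have hN : ∀ u, (∀ v, B u v = 0) → u = 0 := by
    intro u hu
    by_contra hu0
    obtain ⟨⟨x, hx⟩, -⟩ := hf.nondegenerate u hu0
    exact hx (hu x)
  obtain ⟨φ, hφ⟩ := exists_std_herm hF B hS hN n (Module.finrank_fin_fun F)
  let P : GL (Fin n) F := ⟨LinearMap.toMatrix' φ.toLinearMap, LinearMap.toMatrix' φ.symm.toLinearMap,
    by rw [← LinearMap.toMatrix'_comp, LinearEquiv.comp_coe, LinearEquiv.symm_trans_self,
        LinearEquiv.refl_toLinearMap, LinearMap.toMatrix'_id],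
    by rw [← LinearMap.toMatrix'_comp, LinearEquiv.comp_coe, LinearEquiv.self_trans_symm,
        LinearEquiv.refl_toLinearMap, LinearMap.toMatrix'_id]⟩
  refine ⟨P, fun x y => ?_⟩
  have hP : ∀ x, (P : Matrix (Fin n) (Fin n) F) *ᵥ x = φ x := fun x =>
    LinearMap.toMatrix'_mulVec _ x
  rw [hP, hP, hφ, hB]

/-! ### Conjugation invariance -/

/-- the property that every element of `SL_n` of order `r` modulo scalars has an `SL_n`-conjugate
in `S` -/
def FixProp (S : Subgroup (GL (Fin n) F)) (r : ℕ) : Prop :=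
  ∀ x ∈ Geo.specialLinear (Fin n) F,
    (∃ z : F, ((x ^ r : GL (Fin n) F) : Matrix (Fin n) (Fin n) F)
      = z • (1 : Matrix (Fin n) (Fin n) F)) →
    (∀ z : F, (x : Matrix (Fin n) (Fin n) F) ≠ z • (1 : Matrix (Fin n) (Fin n) F)) →
    ∃ g ∈ Geo.specialLinear (Fin n) F, g⁻¹ * x * g ∈ S

theorem sl_normal : (Geo.specialLinear (Fin n) F).Normal := by
  unfold Geo.specialLinear
  exact MonoidHom.normal_ker _

theorem conj_scalar (P : GL (Fin n) F) (z : F) :
    (P : Matrix (Fin n) (Fin n) F) * (z • (1 : Matrix (Fin n) (Fin n) F)) *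
      ((P⁻¹ : GL (Fin n) F) : Matrix (Fin n) (Fin n) F) = z • (1 : Matrix (Fin n) (Fin n) F) := by
  rw [Matrix.mul_smul, Matrix.mul_one, Matrix.smul_mul, ← Units.val_mul, mul_inv_cancel,
    Units.val_one]

theorem fixProp_of_comap (P : GL (Fin n) F) (S : Subgroup (GL (Fin n) F)) (r : ℕ)
    (h : FixProp S r) : FixProp (S.comap (MulAut.conj P).toMonoidHom) r := by
  have hN := sl_normal (F := F) (n := n)
  intro x hx hxr hxs
  have hx' : P * x * P⁻¹ ∈ Geo.specialLinear (Fin n) F := hN.conj_mem x hx P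
  have hpow : (P * x * P⁻¹) ^ r = P * x ^ r * P⁻¹ := conj_pow
  obtain ⟨g', hg', hg'S⟩ := h (P * x * P⁻¹) hx' (by
      obtain ⟨z, hz⟩ := hxr
      refine ⟨z, ?_⟩
      rw [hpow, Units.val_mul, Units.val_mul, hz, conj_scalar]) (by
      intro z hz
      apply hxs z
      have h1 : x = P⁻¹ * (P * x * P⁻¹) * P := by group
      rw [h1, Units.val_mul, Units.val_mul, hz]
      have := conj_scalar (P⁻¹) z
      rw [inv_inv] at this
      exact this)
  refine ⟨P⁻¹ * g' * P, ?_, ?_⟩
  · have := hN.conj_mem g' hg' P⁻¹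
    rwa [inv_inv] at this
  · rw [Subgroup.mem_comap]
    have h2 : (MulAut.conj P).toMonoidHom ((P⁻¹ * g' * P)⁻¹ * x * (P⁻¹ * g' * P))
        = g'⁻¹ * (P * x * P⁻¹) * g' := by
      rw [MulEquiv.coe_toMonoidHom, MulAut.conj_apply]
      group
    rw [h2]
    exact hg'S

theorem comap_comap_conj (P : GL (Fin n) F) (S : Subgroup (GL (Fin n) F)) :
    (S.comap (MulAut.conj P).toMonoidHom).comap (MulAut.conj P⁻¹).toMonoidHom = S := by
  ext y
  rw [Subgroup.mem_comap, Subgroup.mem_comap, MulEquiv.coe_toMonoidHom, MulEquiv.coe_toMonoidHom,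
    MulAut.conj_apply, MulAut.conj_apply]
  have : P * (P⁻¹ * y * P⁻¹⁻¹) * P⁻¹ = y := by group
  rw [this]

theorem fixProp_comap_iff (P : GL (Fin n) F) (S : Subgroup (GL (Fin n) F)) (r : ℕ) :
    FixProp (S.comap (MulAut.conj P).toMonoidHom) r ↔ FixProp S r := by
  constructor
  · intro h
    have := fixProp_of_comap P⁻¹ _ r h
    rwa [comap_comap_conj] at this
  · exact fixProp_of_comap P S r

theorem relIndex_comap_conj (P : GL (Fin n) F) (S : Subgroup (GL (Fin n) F)) :
    (S.comap (MulAut.conj P).toMonoidHom).relIndex (Geo.specialLinear (Fin n) F)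
      = S.relIndex (Geo.specialLinear (Fin n) F) := by
  have hN := sl_normal (F := F) (n := n)
  rw [Subgroup.relIndex_comap]
  congr 1
  ext y
  rw [Subgroup.mem_map]
  constructor
  · rintro ⟨x, hx, rfl⟩
    rw [MulEquiv.coe_toMonoidHom, MulAut.conj_apply]
    exact hN.conj_mem x hx P
  · intro hy
    refine ⟨P⁻¹ * y * P, ?_, ?_⟩
    · have := hN.conj_mem y hy P⁻¹
      rwa [inv_inv] at this
    · rw [MulEquiv.coe_toMonoidHom, MulAut.conj_apply]
      group

/-- the similarity group of an equivalent form -/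
theorem sim_eq_comap (f : (Fin n → F) → (Fin n → F) → F) (P : GL (Fin n) F)
    (hP : ∀ x y, hermForm n F q ((P : Matrix (Fin n) (Fin n) F) *ᵥ x)
      ((P : Matrix (Fin n) (Fin n) F) *ᵥ y) = f x y) :
    Geo.similarityGroup f =
      (Geo.similarityGroup (hermForm n F q)).comap (MulAut.conj P).toMonoidHom := by
  have hinv : ∀ x : Fin n → F, (P : Matrix (Fin n) (Fin n) F) *ᵥ
      (((P⁻¹ : GL (Fin n) F) : Matrix (Fin n) (Fin n) F) *ᵥ x) = x := by
    intro x
    rw [Matrix.mulVec_mulVec, ← Units.val_mul, mul_inv_cancel, Units.val_one, Matrix.one_mulVec]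
  have hconj : ∀ (g : GL (Fin n) F) (x : Fin n → F),
      ((P * g * P⁻¹ : GL (Fin n) F) : Matrix (Fin n) (Fin n) F) *ᵥ
        ((P : Matrix (Fin n) (Fin n) F) *ᵥ x)
      = (P : Matrix (Fin n) (Fin n) F) *ᵥ ((g : Matrix (Fin n) (Fin n) F) *ᵥ x) := by
    intro g x
    rw [Matrix.mulVec_mulVec, Matrix.mulVec_mulVec, ← Units.val_mul, ← Units.val_mul]
    congr 2
    group
  ext g
  rw [Subgroup.mem_comap, MulEquiv.coe_toMonoidHom, MulAut.conj_apply]
  constructor
  · rintro ⟨c, hc⟩
    refine ⟨c, fun u v => ?_⟩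
    rw [← hinv u, ← hinv v, hconj, hconj, hP, hc, hP]
  · rintro ⟨c, hc⟩
    refine ⟨c, fun u v => ?_⟩
    rw [← hP, ← hP, ← hconj, ← hconj, hc]

end Cfsg.Agent.Lib.Helper1.GUS
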