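import Cfsg.Agent.Lib.Helper1.GUS9
import Cfsg.Agent.Lib.Helper13.SquareZero
import Cfsg.Agent.Lib.Helper15.PInv4

set_option autoImplicit false
set_option linter.unusedSectionVars false
set_option linter.style.haveILetI false

/-! # S5982 support (10): involutions modulo scalars in characteristic two -/

namespace Cfsg.Agent.Lib.Helper1.GUS

open Matrix Cfsg Polynomial Finset Module
open Cfsg.Agent.Lib.Helper6
open Cfsg.Agent.Lib.Helper14.HSemi (sigQ sigQ_apply)
open Cfsg.Agent.Lib.Helper14.GUConj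

universe u

variable {F : Type u} [Field F] [Fintype F] {q : ℕ} (hF : Fintype.card F = q ^ 2) {n : ℕ}

/-- a matrix permuting (injectively) the vectors of a basis is conjugate to a unitary matrix -/
theorem exists_conj_unitary_of_basis (Y : Matrix (Fin n) (Fin n) F)
    (b : Basis (Fin n) F (Fin n → F)) (π : Fin n → Fin n) (hπ : Function.Injective π)
    (hY : ∀ j, Y *ᵥ (b j) = b (π j)) :
    ∃ G : GL (Fin n) F,
      sharp hF (((G⁻¹ : GL (Fin n) F) : Matrix (Fin n) (Fin n) F) * Y * (G : Matrix (Fin n) (Fin n) F))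
        * (((G⁻¹ : GL (Fin n) F) : Matrix (Fin n) (Fin n) F) * Y * (G : Matrix (Fin n) (Fin n) F))
        = 1 := by
  classical
  let φ : (Fin n → F) ≃ₗ[F] (Fin n → F) := (Pi.basisFun F (Fin n)).equiv b (Equiv.refl _)
  have hφ : ∀ j, φ (Pi.single j 1) = b j := by
    intro j
    have := (Pi.basisFun F (Fin n)).equiv_apply j b (Equiv.refl _)
    rwa [Pi.basisFun_apply] at this
  let G : GL (Fin n) F := ⟨LinearMap.toMatrix' φ.toLinearMap, LinearMap.toMatrix' φ.symm.toLinearMap,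
    by rw [← LinearMap.toMatrix'_comp, LinearEquiv.comp_coe, LinearEquiv.symm_trans_self,
        LinearEquiv.refl_toLinearMap, LinearMap.toMatrix'_id],
    by rw [← LinearMap.toMatrix'_comp, LinearEquiv.comp_coe, LinearEquiv.self_trans_symm,
        LinearEquiv.refl_toLinearMap, LinearMap.toMatrix'_id]⟩
  have hG : ∀ v, (G : Matrix (Fin n) (Fin n) F) *ᵥ v = φ v := fun v =>
    LinearMap.toMatrix'_mulVec _ v
  have hGi : ∀ v, ((G⁻¹ : GL (Fin n) F) : Matrix (Fin n) (Fin n) F) *ᵥ v = φ.symm v := fun v =>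
    LinearMap.toMatrix'_mulVec _ v
  refine ⟨G, ?_⟩
  set M : Matrix (Fin n) (Fin n) F :=
    ((G⁻¹ : GL (Fin n) F) : Matrix (Fin n) (Fin n) F) * Y * (G : Matrix (Fin n) (Fin n) F) with hM
  have hMv : ∀ j, M *ᵥ Pi.single j 1 = Pi.single (π j) 1 := by
    intro j
    rw [hM, ← Matrix.mulVec_mulVec, ← Matrix.mulVec_mulVec, hG, hφ, hY, hGi, ← hφ (π j),
      LinearEquiv.symm_apply_apply]
  have hMij : ∀ i j, M i j = if i = π j then 1 else 0 := by
    intro i j
    have h1 := congrFun (hMv j) i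
    rw [Matrix.mulVec_single_one, Pi.single_apply] at h1
    exact h1
  ext i j
  rw [Matrix.mul_apply]
  simp only [sharp_apply, hMij]
  by_cases hij : i = j
  · subst hij
    rw [Matrix.one_apply_eq, Finset.sum_eq_single (π i)]
    · simp
    · intro k _ hk
      simp [hk]
    · intro h
      exact absurd (Finset.mem_univ _) h
  · rw [Matrix.one_apply_ne hij]
    apply Finset.sum_eq_zero
    intro k _
    by_cases h1 : k = π i
    · by_cases h2 : k = π j
      · exact absurd (hπ (h1.symm.trans h2)) hij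
      · simp [h2]
    · simp [h1]

/-- from a `GL_n`-conjugate to an `SL_n`-conjugate, given centraliser elements of the right
determinant -/
theorem sl_conj_of_gl_conj (x G : GL (Fin n) F) (S : Subgroup (GL (Fin n) F))
    (hG : G⁻¹ * x * G ∈ S)
    (hcent : ∃ C : Matrix (Fin n) (Fin n) F, C * (x : Matrix (Fin n) (Fin n) F)
      = (x : Matrix (Fin n) (Fin n) F) * C ∧ C.det = ((G : Matrix (Fin n) (Fin n) F).det)⁻¹) :
    ∃ g ∈ Geo.specialLinear (Fin n) F, g⁻¹ * x * g ∈ S := by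
  obtain ⟨C, hCx, hCdet⟩ := hcent
  have hG0 : (G : Matrix (Fin n) (Fin n) F).det ≠ 0 := by
    have := (Matrix.isUnits_det_units G)
    exact this.ne_zero
  have hCu : IsUnit C.det := by
    rw [hCdet]; exact (isUnit_iff_ne_zero.mpr (inv_ne_zero hG0))
  let Cg : GL (Fin n) F := Matrix.GeneralLinearGroup.mk'' C hCu
  have hCg : (Cg : Matrix (Fin n) (Fin n) F) = C := rfl
  have hcomm : Cg * x = x * Cg := by
    apply Units.ext
    rw [Units.val_mul, Units.val_mul, hCg]
    exact hCx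
  refine ⟨Cg * G, ?_, ?_⟩
  · rw [mem_sl_iff, Units.val_mul, Matrix.det_mul, hCg, hCdet, inv_mul_cancel₀ hG0]
  · have h1 : (Cg * G)⁻¹ * x * (Cg * G) = G⁻¹ * x * G := by
      have : Cg⁻¹ * x * Cg = x := by
        rw [mul_assoc, ← hcomm, ← mul_assoc, inv_mul_cancel, one_mul]
      calc (Cg * G)⁻¹ * x * (Cg * G) = G⁻¹ * (Cg⁻¹ * x * Cg) * G := by group
        _ = G⁻¹ * x * G := by rw [this]
    rw [h1]
    exact hG

include hF in
/-- characteristic two: every element of `GL_n` whose square is scalar, itself not scalar, is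
conjugate under `SL_n` to a similarity of the standard hermitian form -/
theorem good_two_even (h2 : (2 : F) = 0) (x : GL (Fin n) F) (z : F)
    (hx : (x : Matrix (Fin n) (Fin n) F) ^ 2 = z • (1 : Matrix (Fin n) (Fin n) F))
    (hns : ∀ z : F, (x : Matrix (Fin n) (Fin n) F) ≠ z • (1 : Matrix (Fin n) (Fin n) F)) :
    ∃ g ∈ Geo.specialLinear (Fin n) F, g⁻¹ * x * g ∈ Geo.similarityGroup (hermForm n F q) := by
  classical
  have hchar : ringChar F = 2 :=
    CharP.ringChar_of_prime_eq_zero Nat.prime_two (by exact_mod_cast h2)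
  obtain ⟨s, hs⟩ := FiniteField.isSquare_of_char_two hchar z
  have hxdet : (x : Matrix (Fin n) (Fin n) F).det ≠ 0 := (Matrix.isUnits_det_units x).ne_zero
  have hn0 : n ≠ 0 := by
    rintro rfl
    apply hns 1
    ext i j
    exact i.elim0
  haveI : Nonempty (Fin n) := ⟨⟨0, Nat.pos_of_ne_zero hn0⟩⟩
  have hz0 : z ≠ 0 := by
    rintro rfl
    have h1 := congrArg Matrix.det hx
    rw [Matrix.det_pow, zero_smul, Matrix.det_zero] at h1
    exact hxdet (pow_eq_zero_iff (two_ne_zero) |>.mp h1)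
  have hs0 : s ≠ 0 := by
    rintro rfl
    rw [mul_zero] at hs
    exact hz0 hs
  set X : (Fin n → F) →ₗ[F] (Fin n → F) := Matrix.toLin' (x : Matrix (Fin n) (Fin n) F) with hX
  have hX2 : X ^ 2 = (s * s) • (1 : (Fin n → F) →ₗ[F] (Fin n → F)) := by
    rw [hX, ← Matrix.toLin'_pow, hx, hs, map_smul, Matrix.toLin'_one]
    rfl
  have hXns : X ≠ s • (1 : (Fin n → F) →ₗ[F] (Fin n → F)) := by
    intro h
    apply hns s
    have h1 := congrArg LinearMap.toMatrix' h
    rw [hX, LinearMap.toMatrix'_toLin', map_smul] at h1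
    rw [h1]
    congr 1
    exact LinearMap.toMatrix'_id
  set N₀ : (Fin n → F) →ₗ[F] (Fin n → F) := X - s • (1 : (Fin n → F) →ₗ[F] (Fin n → F)) with hN₀
  have hN₀N₀ : ∀ v, N₀ (N₀ v) = 0 := Cfsg.Agent.Lib.Helper15.PInv.typeU_sq X s h2 hX2
  obtain ⟨N, hN⟩ : ∃ N : (Fin n → F) →ₗ[F] (Fin n → F), N = s⁻¹ • N₀ := ⟨_, rfl⟩
  have hNapp : ∀ v, N v = s⁻¹ • N₀ v := fun v => by rw [hN]; rfl
  have hNN : N ∘ₗ N = 0 := by
    apply LinearMap.ext
    intro v
    rw [LinearMap.comp_apply, hNapp, hNapp, map_smul, hN₀N₀, smul_zero, smul_zero]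
    rfl
  have hYN : ∀ v, s⁻¹ • X v = v + N v := by
    intro v
    rw [hNapp, hN₀, LinearMap.sub_apply, LinearMap.smul_apply, Module.End.one_apply, smul_sub,
      smul_smul, inv_mul_cancel₀ hs0, one_smul]
    abel
  have hN0 : N ≠ 0 := by
    intro h0
    apply hXns
    apply LinearMap.ext
    intro v
    have h1 := hYN v
    rw [h0, LinearMap.zero_apply, add_zero] at h1
    rw [LinearMap.smul_apply, Module.End.one_apply]
    conv_rhs => rw [← h1]
    rw [smul_smul, mul_inv_cancel₀ hs0, one_smul]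
  -- the adapted basis
  set ρ := finrank F (LinearMap.range N) with hρ
  have hRK : LinearMap.range N ≤ LinearMap.ker N := by
    rintro _ ⟨v, rfl⟩
    rw [LinearMap.mem_ker, ← LinearMap.comp_apply, hNN]
    rfl
  have hrn : finrank F (LinearMap.range N) + finrank F (LinearMap.ker N) = finrank F (Fin n → F) :=
    LinearMap.finrank_range_add_finrank_ker N
  have hle : finrank F (LinearMap.range N) ≤ finrank F (LinearMap.ker N) :=
    Submodule.finrank_mono hRK
  rw [Module.finrank_fin_fun] at hrn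
  obtain ⟨m, hm⟩ : ∃ m, ρ + (ρ + m) = n := ⟨n - (ρ + ρ), by omega⟩
  obtain ⟨B, hB1, hB2⟩ := Cfsg.Agent.Lib.Helper13.exists_adapted_basis N hNN ρ m rfl
    (by rw [Module.finrank_fin_fun]; exact hm)
  -- the new basis
  let c : Fin ρ ⊕ (Fin ρ ⊕ Fin m) → (Fin n → F) :=
    Sum.elim (fun i => B (Sum.inl i))
      (Sum.elim (fun i => B (Sum.inl i) + B (Sum.inr (Sum.inl i))) (fun j => B (Sum.inr (Sum.inr j))))
  let c' : Fin ρ ⊕ (Fin ρ ⊕ Fin m) → (Fin n → F) :=
    Sum.elim (fun i => B (Sum.inl i))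
      (Sum.elim (fun i => B (Sum.inr (Sum.inl i)) - B (Sum.inl i)) (fun j => B (Sum.inr (Sum.inr j))))
  let ψ : (Fin n → F) →ₗ[F] (Fin n → F) := B.constr F c
  let ψ' : (Fin n → F) →ₗ[F] (Fin n → F) := B.constr F c'
  have hψ : ∀ k, ψ (B k) = c k := fun k => B.constr_basis F c k
  have hψ' : ∀ k, ψ' (B k) = c' k := fun k => B.constr_basis F c' k
  have h12 : ψ ∘ₗ ψ' = LinearMap.id := by
    apply B.ext
    intro k
    rw [LinearMap.comp_apply, hψ', LinearMap.id_apply]
    rcases k with i | i | j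
    · exact hψ (Sum.inl i)
    · show ψ (B (Sum.inr (Sum.inl i)) - B (Sum.inl i)) = _
      rw [map_sub, hψ, hψ]
      show B (Sum.inl i) + B (Sum.inr (Sum.inl i)) - B (Sum.inl i) = _
      abel
    · exact hψ (Sum.inr (Sum.inr j))
  have h21 : ψ' ∘ₗ ψ = LinearMap.id := by
    apply B.ext
    intro k
    rw [LinearMap.comp_apply, hψ, LinearMap.id_apply]
    rcases k with i | i | j
    · exact hψ' (Sum.inl i)
    · show ψ' (B (Sum.inl i) + B (Sum.inr (Sum.inl i))) = _
      rw [map_add, hψ', hψ']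
      show B (Sum.inl i) + (B (Sum.inr (Sum.inl i)) - B (Sum.inl i)) = _
      abel
    · exact hψ' (Sum.inr (Sum.inr j))
  let e : (Fin n → F) ≃ₗ[F] (Fin n → F) := LinearEquiv.ofLinearMap ψ ψ' h12 h21
  let B' : Basis (Fin ρ ⊕ (Fin ρ ⊕ Fin m)) F (Fin n → F) := B.map e
  have hB' : ∀ k, B' k = c k := by
    intro k
    rw [Basis.map_apply]
    exact hψ k
  let τ : Fin ρ ⊕ (Fin ρ ⊕ Fin m) → Fin ρ ⊕ (Fin ρ ⊕ Fin m) :=
    Sum.elim (fun i => Sum.inr (Sum.inl i)) (Sum.elim (fun i => Sum.inl i) (fun j => Sum.inr (Sum.inr j)))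
  have hτ : Function.Injective τ := by
    rintro (i | i | j) (i' | i' | j') h <;> simp [τ] at h ⊢ <;> exact h
  have htwo : ∀ v : Fin n → F, v + v = 0 := by
    intro v
    rw [← two_smul F v, h2, zero_smul]
  have hact : ∀ k, s⁻¹ • X (B' k) = B' (τ k) := by
    intro k
    rw [hYN, hB', hB']
    rcases k with i | i | j
    · show B (Sum.inl i) + N (B (Sum.inl i)) = B (Sum.inl i) + B (Sum.inr (Sum.inl i))
      rw [hB1]
    · show B (Sum.inl i) + B (Sum.inr (Sum.inl i)) + N (B (Sum.inl i) + B (Sum.inr (Sum.inl i)))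
        = B (Sum.inl i)
      rw [map_add, hB1, hB2]
      have := htwo (B (Sum.inr (Sum.inl i)))
      rw [add_zero, add_assoc, this, add_zero]
    · show B (Sum.inr (Sum.inr j)) + N (B (Sum.inr (Sum.inr j))) = B (Sum.inr (Sum.inr j))
      rw [hB2, add_zero]
  -- reindexing
  have hcard : Fintype.card (Fin ρ ⊕ (Fin ρ ⊕ Fin m)) = n := by
    rw [Fintype.card_sum, Fintype.card_sum, Fintype.card_fin, Fintype.card_fin]
    exact hm
  let ε : Fin ρ ⊕ (Fin ρ ⊕ Fin m) ≃ Fin n := Fintype.equivFinOfCardEq hcard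
  let b : Basis (Fin n) F (Fin n → F) := B'.reindex ε
  have hb : ∀ i, b i = B' (ε.symm i) := fun i => B'.reindex_apply ε i
  let π : Fin n → Fin n := fun i => ε (τ (ε.symm i))
  have hπ : Function.Injective π := by
    intro i j h
    have := hτ (ε.injective h)
    exact ε.symm.injective this
  have hYb : ∀ j, (s⁻¹ • (x : Matrix (Fin n) (Fin n) F)) *ᵥ (b j) = b (π j) := by
    intro j
    rw [Matrix.smul_mulVec, ← Matrix.toLin'_apply, ← hX, hb, hact, hb]
    show _ = B' (ε.symm (ε (τ (ε.symm j))))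
    rw [Equiv.symm_apply_apply]
  obtain ⟨G, hGu⟩ := exists_conj_unitary_of_basis hF _ b π hπ hYb
  apply sl_conj_of_gl_conj x G
  · rw [mem_sim_iff hF]
    refine ⟨sigQ hF s * s, mul_ne_zero ((map_ne_zero (sigQ hF)).mpr hs0) hs0, ?_⟩
    have h1 : ((G⁻¹ * x * G : GL (Fin n) F) : Matrix (Fin n) (Fin n) F)
        = s • (((G⁻¹ : GL (Fin n) F) : Matrix (Fin n) (Fin n) F)
          * (s⁻¹ • (x : Matrix (Fin n) (Fin n) F)) * (G : Matrix (Fin n) (Fin n) F)) := by
      rw [Units.val_mul, Units.val_mul, Matrix.mul_smul, Matrix.smul_mul, smul_smul,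
        mul_inv_cancel₀ hs0, one_smul]
    rw [h1, sharp_smul, Matrix.smul_mul, Matrix.mul_smul, hGu, smul_smul]
  · obtain ⟨lam, hlam⟩ := FiniteField.isSquare_of_char_two hchar
      ((G : Matrix (Fin n) (Fin n) F).det)⁻¹
    obtain ⟨C, hCX, hCdet⟩ := Cfsg.Agent.Lib.Helper15.PInv.typeU_cent X s h2 hX2 hXns
      ((G : Matrix (Fin n) (Fin n) F).det)⁻¹ ⟨lam, hlam.symm⟩
    refine ⟨LinearMap.toMatrix' C, ?_, ?_⟩
    · have h1 : (x : Matrix (Fin n) (Fin n) F) = LinearMap.toMatrix' X := by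
        rw [hX, LinearMap.toMatrix'_toLin']
      rw [h1, ← LinearMap.toMatrix'_comp, ← LinearMap.toMatrix'_comp, hCX]
    · rw [LinearMap.det_toMatrix', hCdet]

end Cfsg.Agent.Lib.Helper1.GUS
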