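import Cfsg.Agent.Lib.Helper1.GUS10
import Cfsg.Agent.Lib.Helper15.PSub8

set_option autoImplicit false
set_option linter.unusedSectionVars false
set_option linter.style.haveILetI false

/-! # S5982 support (11): involutions modulo scalars in odd characteristic -/

namespace Cfsg.Agent.Lib.Helper1.GUS

open Matrix Cfsg Polynomial Finset Module UniqueFactorizationMonoid
open Cfsg.Agent.Lib.Helper6
open Cfsg.Agent.Lib.Helper14 (irreducible_dvd_minpoly_matrix)
open Cfsg.Agent.Lib.Helper14.HSemi (sigQ sigQ_apply)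
open Cfsg.Agent.Lib.Helper14.GUConj

universe u

variable {F : Type u} [Field F] [Fintype F] {q : ℕ} (hF : Fintype.card F = q ^ 2) {n : ℕ}

/-- a matrix annihilated by a split polynomial has a split characteristic polynomial whose roots
are roots of that polynomial -/
theorem charpoly_eq_prod_of_aeval (x : Matrix (Fin n) (Fin n) F) (G : F[X])
    (hG : aeval x G = 0) (hsp : G.Splits) (hne : G ≠ 0) :
    ∃ a : Fin n → F, (∀ i, G.IsRoot (a i)) ∧ x.charpoly = ∏ i, (X - C (a i)) := by
  classical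
  have hcs : x.charpoly.Splits := by
    rw [charpoly_eq_prod_factors x]
    apply Splits.multisetProd
    intro f hf
    exact hsp.of_dvd hne (factor_dvd_of_aeval x _ hG f hf)
  have h1 := hcs.eq_prod_roots_of_monic (Matrix.charpoly_monic x)
  have hcard : Multiset.card x.charpoly.roots = n := by
    rw [splits_iff_card_roots.mp hcs, Matrix.charpoly_natDegree_eq_dim, Fintype.card_fin]
  obtain ⟨a, ha⟩ := exists_fn_of_multiset x.charpoly.roots n hcard
  refine ⟨a, ?_, ?_⟩
  · intro i
    have hmem : a i ∈ x.charpoly.roots := by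
      rw [← ha]
      exact Multiset.mem_map_of_mem a (Finset.mem_univ_val i)
    have hroot : (X - C (a i)) ∣ x.charpoly := by
      rw [dvd_iff_isRoot]
      exact (Polynomial.mem_roots (Matrix.charpoly_monic x).ne_zero).mp hmem
    have h2 : (X - C (a i)) ∣ G :=
      (irreducible_dvd_minpoly_matrix x _ (irreducible_X_sub_C (a i)) hroot).trans
        (minpoly.dvd F x hG)
    rwa [dvd_iff_isRoot] at h2
  · rw [h1, ← ha, Multiset.map_map]
    rfl

/-- odd characteristic facts -/
theorem odd_facts (p : ℕ) [Fact p.Prime] [CharP F p] (hp2 : p ≠ 2) :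
    (2 : F) ≠ 0 ∧ ringChar F ≠ 2 := by
  have hch : ringChar F = p := ringChar.eq F p
  refine ⟨?_, by rw [hch]; exact hp2⟩
  intro h2
  have h3 : ((2 : ℕ) : F) = 0 := by exact_mod_cast h2
  rw [CharP.cast_eq_zero_iff F p] at h3
  exact hp2 ((Nat.prime_dvd_prime_iff_eq (Fact.out : p.Prime) Nat.prime_two).mp h3)

include hF in
theorem q_odd (p : ℕ) [Fact p.Prime] [CharP F p] (hp2 : p ≠ 2) :
    q % 2 = 1 ∧ Fintype.card F % 4 = 1 := by
  have hodd := FiniteField.odd_card_of_char_ne_two (odd_facts (F := F) p hp2).2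
  have hq2 : q % 2 = 1 := by
    rw [hF, Nat.pow_mod] at hodd
    rcases Nat.mod_two_eq_zero_or_one q with h | h
    · rw [h] at hodd
      simp at hodd
    · exact h
  refine ⟨hq2, ?_⟩
  obtain ⟨t, ht⟩ : ∃ t, q = 2 * t + 1 := ⟨q / 2, by omega⟩
  rw [hF, ht]
  have : (2 * t + 1) ^ 2 = 4 * (t * t + t) + 1 := by ring
  rw [this]
  omega

include hF in
/-- odd characteristic, good case: every element of `SL_n` with scalar square is conjugate into
the similarity group when `(n)_2 ≤ (q ^ 2 - 1)_2` -/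
theorem good_two_odd (p : ℕ) [Fact p.Prime] [CharP F p] (hp2 : p ≠ 2) (hn : 0 < n)
    (hv : padicValNat 2 n ≤ padicValNat 2 (q ^ 2 - 1))
    (x : GL (Fin n) F) (hxs : x ∈ Geo.specialLinear (Fin n) F) (z : F)
    (hx : (x : Matrix (Fin n) (Fin n) F) ^ 2 = z • (1 : Matrix (Fin n) (Fin n) F)) :
    ∃ g ∈ Geo.specialLinear (Fin n) F, g⁻¹ * x * g ∈ Geo.similarityGroup (hermForm n F q) := by
  classical
  obtain ⟨h2, hch⟩ := odd_facts (F := F) p hp2
  obtain ⟨hq2, hq4⟩ := q_odd hF p hp2
  have hdet : (x : Matrix (Fin n) (Fin n) F).det = 1 := (mem_sl_iff x).mp hxs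
  haveI : Nonempty (Fin n) := ⟨⟨0, hn⟩⟩
  have hz0 : z ≠ 0 := by
    rintro rfl
    have h1 := congrArg Matrix.det hx
    rw [Matrix.det_pow, zero_smul, Matrix.det_zero, hdet, one_pow] at h1
    exact one_ne_zero h1
  by_cases hsq : ∃ s : F, s * s = z
  · obtain ⟨s, hs⟩ := hsq
    have hs0 : s ≠ 0 := by
      rintro rfl
      rw [mul_zero] at hs
      exact hz0 hs.symm
    set k := Fintype.card F - 1 with hk
    have hkeven : ∃ t, k = 2 * t := by
      have := FiniteField.odd_card_of_char_ne_two hch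
      exact ⟨k / 2, by omega⟩
    obtain ⟨t, ht⟩ := hkeven
    have hxk : (x : Matrix (Fin n) (Fin n) F) ^ k = 1 := by
      rw [ht, pow_mul, hx, _root_.smul_pow, one_pow, ← hs, ← pow_two, ← pow_mul, ← ht, hk,
        FiniteField.pow_card_sub_one_eq_one s hs0, one_smul]
    have hG : aeval (x : Matrix (Fin n) (Fin n) F) ((X - C s) * (X - C (-s)) : F[X]) = 0 := by
      have : ((X - C s) * (X - C (-s)) : F[X]) = X ^ 2 - C (s * s) := by
        rw [map_neg, map_mul]
        ring
      rw [this, map_sub, map_pow, aeval_X, aeval_C, hx, hs, Algebra.algebraMap_eq_smul_one]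
      exact sub_self _
    have hsp : ((X - C s) * (X - C (-s)) : F[X]).Splits :=
      Splits.mul (Splits.X_sub_C s) (Splits.X_sub_C (-s))
    have hne : ((X - C s) * (X - C (-s)) : F[X]) ≠ 0 :=
      mul_ne_zero (X_sub_C_ne_zero s) (X_sub_C_ne_zero (-s))
    obtain ⟨a, har, hc⟩ := charpoly_eq_prod_of_aeval (x : Matrix (Fin n) (Fin n) F) _ hG hsp hne
    have ha : ∀ i, a i = s ∨ a i = -s := by
      intro i
      have := har i
      rw [IsRoot.def, eval_mul, eval_sub, eval_sub, eval_X, eval_C, eval_C, mul_eq_zero,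
        sub_eq_zero, sub_eq_zero] at this
      exact this
    have ha0 : ∀ i, a i ≠ 0 := by
      intro i
      rcases ha i with h | h <;> rw [h]
      · exact hs0
      · exact neg_ne_zero.mpr hs0
    have hak : ∀ i, a i ^ k = 1 := fun i => FiniteField.pow_card_sub_one_eq_one (a i) (ha0 i)
    apply conj_mem_of_multiset hF p hn x k (card_sub_one_coprime p) hxk a ha0 hak hc s hs0
    apply Multiset.map_congr rfl
    intro i _
    rcases ha i with h | h <;> rw [h]
    · rw [div_self hs0, map_one, inv_one]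
    · rw [neg_div, div_self hs0, map_neg, map_one, inv_neg, inv_one]
  · exfalso
    have hnp : ∀ b : F, b ^ 2 ≠ z := by
      intro b hb
      exact hsq ⟨b, by rw [← pow_two]; exact hb⟩
    have hlin : (Matrix.toLin' (x : Matrix (Fin n) (Fin n) F)) ^ 2
        = z • (1 : (Fin n → F) →ₗ[F] (Fin n → F)) := by
      rw [← Matrix.toLin'_pow, hx, map_smul, Matrix.toLin'_one]
      rfl
    obtain ⟨hdvd, hd⟩ := Cfsg.Agent.Lib.Helper15.PSub.det_of_not_pow 2 Nat.prime_two z hnp _ hlin
    rw [LinearMap.det_toLin', hdet, Module.finrank_fin_fun] at hd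
    rw [Module.finrank_fin_fun] at hdvd
    exact Cfsg.Agent.Lib.Helper15.PSub.false_of_good 2 Nat.prime_two n hn.ne' hdvd z hnp hd.symm
      (by rw [hF]; exact hv) (fun _ _ => hq4)

include hF in
/-- odd characteristic, bad case: a derangement with scalar square when `(q ^ 2 - 1)_2 < (n)_2` -/
theorem bad_two_odd (p : ℕ) [Fact p.Prime] [CharP F p] (hp2 : p ≠ 2) (hn : 0 < n)
    (hv : padicValNat 2 (q ^ 2 - 1) < padicValNat 2 n) :
    ∃ x : GL (Fin n) F, x ∈ Geo.specialLinear (Fin n) F ∧
      (∃ z : F, ((x ^ 2 : GL (Fin n) F) : Matrix (Fin n) (Fin n) F)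
        = z • (1 : Matrix (Fin n) (Fin n) F)) ∧
      (∀ z : F, (x : Matrix (Fin n) (Fin n) F) ≠ z • (1 : Matrix (Fin n) (Fin n) F)) ∧
      ∀ g : GL (Fin n) F, g⁻¹ * x * g ∉ Geo.similarityGroup (hermForm n F q) := by
  classical
  obtain ⟨h2, hch⟩ := odd_facts (F := F) p hp2
  obtain ⟨hq2, hq4⟩ := q_odd hF p hp2
  have hrq : 2 ∣ Fintype.card F - 1 := by omega
  obtain ⟨X, hdet, ⟨c, hXc⟩, hXns, hXinv⟩ := Cfsg.Agent.Lib.Helper15.PSub.bad_i1 (F := F) 2
    Nat.prime_two hrq n hn.ne' (by
      rintro ⟨h1, -⟩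
      rw [hF] at h1
      omega)
  have hc0 : c ≠ 0 := by
    rintro rfl
    have h1 := congrArg LinearMap.det hXc
    rw [map_pow, hdet, LinearMap.det_smul, Module.finrank_fin_fun, zero_pow hn.ne', zero_mul] at h1
    simp at h1
  -- `c` is not a square
  have hcns : ¬ IsSquare c := by
    rintro ⟨w, hw⟩
    have hXX : ∀ v, X (X v) = (w * w) • v := by
      intro v
      have := LinearMap.congr_fun hXc v
      rw [pow_two, Module.End.mul_apply] at this
      rw [this, hw]
      rfl
    obtain ⟨v, hv0⟩ : ∃ v, X v + w • v ≠ 0 := by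
      by_contra hall
      apply hXns (-w)
      apply LinearMap.ext
      intro v
      have := not_exists.mp hall v
      rw [not_not] at this
      rw [LinearMap.smul_apply, Module.End.one_apply, neg_smul]
      exact eq_neg_of_add_eq_zero_left this
    set u := X v + w • v with hu
    have hXu : X u = w • u := by
      rw [hu, map_add, map_smul, hXX, smul_add, smul_smul]
      abel
    have hinv : Submodule.span F {u} ∈ Module.End.invtSubmodule X := by
      rw [Module.End.mem_invtSubmodule]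
      intro y hy
      obtain ⟨a, rfl⟩ := Submodule.mem_span_singleton.mp hy
      rw [Submodule.mem_comap, map_smul, hXu]
      exact Submodule.smul_mem _ _ (Submodule.smul_mem _ _ (Submodule.mem_span_singleton_self u))
    have := hXinv _ hinv
    rw [finrank_span_singleton hv0] at this
    omega
  have hMdet : (LinearMap.toMatrix' X).det = 1 := by rw [LinearMap.det_toMatrix']; exact hdet
  let x : GL (Fin n) F := Matrix.GeneralLinearGroup.mk'' (LinearMap.toMatrix' X)
    (by rw [hMdet]; exact isUnit_one)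
  have hxv : (x : Matrix (Fin n) (Fin n) F) = LinearMap.toMatrix' X := rfl
  have hx2 : (x : Matrix (Fin n) (Fin n) F) ^ 2 = c • (1 : Matrix (Fin n) (Fin n) F) := by
    rw [hxv, pow_two, ← LinearMap.toMatrix'_mul, ← pow_two, hXc, map_smul]
    congr 1
    exact LinearMap.toMatrix'_id
  refine ⟨x, (mem_sl_iff x).mpr (by rw [hxv]; exact hMdet), ⟨c, ?_⟩, ?_, ?_⟩
  · rw [Units.val_pow_eq_pow_val]
    exact hx2
  · intro z hz
    apply hXns z
    have h1 := congrArg Matrix.toLin' hz
    rw [hxv, Matrix.toLin'_toMatrix', map_smul, Matrix.toLin'_one] at h1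
    exact h1
  · intro g hg
    rw [mem_sim_iff hF] at hg
    obtain ⟨c', hc'0, hc'⟩ := hg
    set y : Matrix (Fin n) (Fin n) F := ((g⁻¹ * x * g : GL (Fin n) F) : Matrix (Fin n) (Fin n) F)
      with hy
    have hy2 : y ^ 2 = c • (1 : Matrix (Fin n) (Fin n) F) := by
      have h1 : (g⁻¹ * x * g) ^ 2 = g⁻¹ * x ^ 2 * g := by
        rw [pow_two, pow_two]
        group
      rw [hy, ← Units.val_pow_eq_pow_val, h1, Units.val_mul, Units.val_mul,
        Units.val_pow_eq_pow_val, hx2]
      have := conj_scalar (g⁻¹) c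
      rw [inv_inv] at this
      exact this
    obtain ⟨l, hl0, hlc, hu⟩ := exists_unitary_smul hF hn y c' hc'0 hc'
    set U : Matrix (Fin n) (Fin n) F := l⁻¹ • y with hU
    set μ : F := l⁻¹ * l⁻¹ * c with hμ
    have hU2 : U * U = μ • (1 : Matrix (Fin n) (Fin n) F) := by
      rw [hU, Matrix.smul_mul, Matrix.mul_smul, smul_smul, ← pow_two y, hy2, smul_smul]
    have h3 : sharp hF (U * U) * (U * U) = 1 := by
      rw [sharp_mul, Matrix.mul_assoc, ← Matrix.mul_assoc (sharp hF U) U U, hu, Matrix.one_mul, hu]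
    rw [hU2, sharp_smul, sharp_one, Matrix.smul_mul, Matrix.mul_smul, Matrix.mul_one, smul_smul] at h3
    have h4 := congrFun (congrFun h3 ⟨0, hn⟩) ⟨0, hn⟩
    rw [Matrix.smul_apply, Matrix.one_apply_eq, smul_eq_mul, mul_one, sigQ_apply] at h4
    have hμ0 : μ ≠ 0 := by
      rw [hμ]
      exact mul_ne_zero (mul_ne_zero (inv_ne_zero hl0) (inv_ne_zero hl0)) hc0
    have hμsq : IsSquare μ := by
      rw [FiniteField.isSquare_iff hch hμ0]
      obtain ⟨t, ht⟩ : ∃ t, q = 2 * t + 1 := ⟨q / 2, by omega⟩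
      have h5 : Fintype.card F / 2 = (q + 1) * t := by
        rw [hF, ht]
        have : (2 * t + 1) ^ 2 = 2 * ((2 * t + 1 + 1) * t) + 1 := by ring
        rw [this]
        omega
      rw [h5, pow_mul, pow_succ, h4, one_pow]
    obtain ⟨t, ht⟩ := hμsq
    apply hcns
    refine ⟨t * l, ?_⟩
    have : c = μ * (l * l) := by
      rw [hμ]
      field_simp
    rw [this, ht]
    ring

end Cfsg.Agent.Lib.Helper1.GUS
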