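import Cfsg.Agent.Lib.Helper1.GUS1
import Cfsg.Agent.Lib.Helper16.UnitaryCount3

set_option autoImplicit false
set_option linter.unusedSectionVars false

/-! # S5982 support (3): the primes dividing the index -/

namespace Cfsg.Agent.Lib.Helper1.GUS

open Matrix Cfsg Finset

theorem relIndex_dvd_index_of_normal_right {G : Type*} [Group G] [Finite G] (H K : Subgroup G)
    [K.Normal] : H.relIndex K ∣ H.index := by
  have h1 : K.relIndex (H ⊔ K) = K.relIndex H := Subgroup.relIndex_sup_right H K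
  have hc : ∀ A B : Subgroup G, A ≤ B → Nat.card A * A.relIndex B = Nat.card B := by
    intro A B hAB
    have := Subgroup.relIndex_mul_relIndex ⊥ A B bot_le hAB
    rwa [Subgroup.relIndex_bot_left, Subgroup.relIndex_bot_left] at this
  have e1 := hc K (H ⊔ K) le_sup_right
  have e2 := hc H (H ⊔ K) le_sup_left
  have e3 := hc (H ⊓ K) K inf_le_right
  have e4 := hc (H ⊓ K) H inf_le_left
  rw [Subgroup.inf_relIndex_right] at e3
  rw [Subgroup.inf_relIndex_left] at e4
  rw [h1] at e1
  have hpos : 0 < Nat.card (H ⊓ K : Subgroup G) := Nat.card_pos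
  have hpos2 : 0 < K.relIndex H := by
    rcases Nat.eq_zero_or_pos (K.relIndex H) with h0 | h0
    · rw [h0, mul_zero] at e4
      exact absurd e4.symm (Nat.card_pos).ne'
    · exact h0
  have key : H.relIndex (H ⊔ K) = H.relIndex K := by
    have : Nat.card (H ⊓ K : Subgroup G) * K.relIndex H * H.relIndex (H ⊔ K)
        = Nat.card (H ⊓ K : Subgroup G) * K.relIndex H * H.relIndex K := by
      calc Nat.card (H ⊓ K : Subgroup G) * K.relIndex H * H.relIndex (H ⊔ K)
          = Nat.card H * H.relIndex (H ⊔ K) := by rw [e4]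
        _ = Nat.card K * K.relIndex H := by rw [e2, e1]
        _ = Nat.card (H ⊓ K : Subgroup G) * H.relIndex K * K.relIndex H := by rw [e3]
        _ = Nat.card (H ⊓ K : Subgroup G) * K.relIndex H * H.relIndex K := by ring
    exact Nat.eq_of_mul_eq_mul_left (Nat.mul_pos hpos hpos2) this
  rw [← key]
  exact Subgroup.relIndex_dvd_index_of_le le_sup_left

/-- arithmetic: the order of `GL_n(q²)` against the order of `GU_n(q)` -/
theorem gl_card_factor (q n : ℕ) (hq : 0 < q) :
    ∏ i : Fin n, ((q ^ 2) ^ n - (q ^ 2) ^ (i : ℕ)) =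
      (q ^ (n * (n - 1) / 2) *
          ∏ i ∈ range n, (if Even i then q ^ (i + 1) + 1 else q ^ (i + 1) - 1)) *
        (q ^ (n * (n - 1) / 2) *
          ∏ i ∈ range n, (if Even i then q ^ (i + 1) - 1 else q ^ (i + 1) + 1)) := by
  set Q := q ^ 2 with hQ
  have hQpos : 0 < Q := pow_pos hq 2
  rw [Fin.prod_univ_eq_prod_range (fun i => Q ^ n - Q ^ i) n]
  have h1 : ∏ i ∈ range n, (Q ^ n - Q ^ i) = ∏ i ∈ range n, (Q ^ i * (Q ^ (n - i) - 1)) := by
    apply Finset.prod_congr rfl
    intro i hi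
    rw [Finset.mem_range] at hi
    rw [Nat.mul_sub_one, ← pow_add, Nat.add_sub_cancel' hi.le]
  have h2 : ∏ i ∈ range n, (Q ^ (n - i) - 1) = ∏ j ∈ range n, (Q ^ (j + 1) - 1) := by
    rw [← Finset.prod_range_reflect (fun j => Q ^ (j + 1) - 1) n]
    apply Finset.prod_congr rfl
    intro i hi
    rw [Finset.mem_range] at hi
    have : n - 1 - i + 1 = n - i := by omega
    rw [this]
  have h3 : ∀ j, Q ^ (j + 1) - 1 =
      (if Even j then q ^ (j + 1) + 1 else q ^ (j + 1) - 1) *
        (if Even j then q ^ (j + 1) - 1 else q ^ (j + 1) + 1) := by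
    intro j
    have h4 : Q ^ (j + 1) - 1 = (q ^ (j + 1) + 1) * (q ^ (j + 1) - 1) := by
      rw [hQ, ← pow_mul, mul_comm 2, pow_mul]
      have := Nat.sq_sub_sq (q ^ (j + 1)) 1
      rw [one_pow] at this
      exact this
    by_cases he : Even j
    · rw [if_pos he, if_pos he, h4]
    · rw [if_neg he, if_neg he, h4, mul_comm]
  have h5 : ∏ i ∈ range n, Q ^ i = q ^ (n * (n - 1) / 2) * q ^ (n * (n - 1) / 2) := by
    rw [Finset.prod_pow_eq_pow_sum, Finset.sum_range_id, hQ, ← pow_mul, ← pow_add]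
    congr 1
    omega
  rw [h1, Finset.prod_mul_distrib, h2, h5]
  simp only [h3]
  rw [Finset.prod_mul_distrib]
  ring

variable {F : Type*} [Field F] [Fintype F] {q : ℕ} (hF : Fintype.card F = q ^ 2) {n : ℕ}

include hF in
/-- the index of `GU_n(q)` in `GL_n(q²)` -/
theorem index_GU :
    (Cfsg.GU n F q).index =
      q ^ (n * (n - 1) / 2) *
        ∏ i ∈ range n, (if Even i then q ^ (i + 1) - 1 else q ^ (i + 1) + 1) := by
  have hq : 0 < q := by
    have := Cfsg.Agent.Lib.Helper6.two_le_q hF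
    omega
  have h1 := Subgroup.index_mul_card (Cfsg.GU n F q)
  rw [Matrix.card_GL_field, hF, gl_card_factor q n hq,
    Cfsg.Agent.Lib.Helper16.card_GU hF n] at h1
  have hpos : 0 < q ^ (n * (n - 1) / 2) *
      ∏ i ∈ range n, (if Even i then q ^ (i + 1) + 1 else q ^ (i + 1) - 1) := by
    apply Nat.mul_pos (pow_pos hq _)
    apply Finset.prod_pos
    intro i _
    by_cases he : Even i
    · rw [if_pos he]; omega
    · rw [if_neg he]
      have : 2 ≤ q ^ (i + 1) := by
        calc 2 ≤ q := Cfsg.Agent.Lib.Helper6.two_le_q hF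
          _ = q ^ 1 := (pow_one q).symm
          _ ≤ q ^ (i + 1) := Nat.pow_le_pow_right hq (by omega)
      omega
  rw [mul_comm] at h1
  exact Nat.eq_of_mul_eq_mul_left hpos h1

theorem GU_le_sim : Cfsg.GU n F q ≤ Geo.similarityGroup (hermForm n F q) := by
  intro g hg
  refine ⟨1, fun u v => ?_⟩
  rw [Units.val_one, one_mul]
  exact hg u v

include hF in
/-- a prime dividing the index of the similarity group in `SL_n`, other than the characteristic,
divides one of the numbers `q^j - (-1)^(j+1)`... -/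
theorem exists_dvd_of_dvd_relIndex (r : ℕ) (hr : r.Prime) (hrq : ¬ r ∣ q)
    (h : r ∣ (Geo.similarityGroup (hermForm n F q)).relIndex (Geo.specialLinear (Fin n) F)) :
    ∃ j < n, r ∣ (if Even j then q ^ (j + 1) - 1 else q ^ (j + 1) + 1) := by
  haveI := sl_normal (F := F) (n := n)
  have h1 : (Geo.similarityGroup (hermForm n F q)).relIndex (Geo.specialLinear (Fin n) F)
      ∣ (Cfsg.GU n F q).relIndex (Geo.specialLinear (Fin n) F) :=
    Subgroup.relIndex_dvd_of_le_left _ GU_le_sim
  have h2 : (Cfsg.GU n F q).relIndex (Geo.specialLinear (Fin n) F) ∣ (Cfsg.GU n F q).index :=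
    relIndex_dvd_index_of_normal_right _ _
  have h3 : r ∣ (Cfsg.GU n F q).index := (h.trans h1).trans h2
  rw [index_GU hF] at h3
  rcases (Nat.Prime.dvd_mul hr).mp h3 with h4 | h4
  · exact absurd (hr.dvd_of_dvd_pow h4) hrq
  · obtain ⟨j, hj, hjd⟩ := (Prime.dvd_finsetProd_iff hr.prime _).mp h4
    exact ⟨j, Finset.mem_range.mp hj, hjd⟩

end Cfsg.Agent.Lib.Helper1.GUS
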