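import Cfsg.Agent.Lib.Helper1.GUS11
import Cfsg.Agent.Lib.Helper1.GUS3

set_option autoImplicit false
set_option linter.unusedSectionVars false
set_option linter.style.haveILetI false

/-! # S5982 support (12): the main theorem for the standard hermitian form -/

namespace Cfsg.Agent.Lib.Helper1.GUS

open Matrix Cfsg Polynomial Finset Module
open Cfsg.Agent.Lib.Helper6
open Cfsg.Agent.Lib.Helper14.HSemi (sigQ sigQ_apply)
open Cfsg.Agent.Lib.Helper14.GUConj

universe u

variable {F : Type u} [Field F] [Fintype F] {q : ℕ} (hF : Fintype.card F = q ^ 2) {n : ℕ}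

theorem small_case (n r : ℕ) (hr : r.Prime) (h2 : r ≠ 2) (hn : 3 ≤ n) (hn6 : n ≤ 6) (hrn : r ∣ n)
    (hgap : ¬ (n = 6 ∧ r = 3)) : n = r ∧ (r = 3 ∨ r = 5) := by
  have hr3 : 3 ≤ r := by
    have := hr.two_le
    omega
  have hr6 : r ≤ 6 := (Nat.le_of_dvd (by omega) hrn).trans hn6
  obtain ⟨t, ht⟩ := hrn
  interval_cases r
  · have : t = 1 ∨ t = 2 := by omega
    rcases this with rfl | rfl
    · exact ⟨by omega, Or.inl rfl⟩
    · exact absurd ⟨by omega, rfl⟩ hgap
  · exact absurd hr (by norm_num)
  · have : t = 1 := by omega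
    subst this
    exact ⟨by omega, Or.inr rfl⟩
  · exact absurd hr (by norm_num)

include hF in
/-- an element of order `r ^ 2` when `r ^ 2 ∣ q - 1` -/
theorem exists_order_sq (r : ℕ) (hr : r.Prime) (h : r ^ 2 ∣ q - 1) :
    ∃ w : F, w ≠ 0 ∧ (w ^ r) ^ r = 1 ∧ w ^ r ≠ 1 := by
  classical
  have hq : 2 ≤ q := two_le_q hF
  obtain ⟨g, hg, -⟩ := Cfsg.Agent.Lib.Helper15.PSub.exists_gen (F := F)
  have h1 : q ^ 2 - 1 = (q + 1) * (q - 1) := by
    have := Nat.sq_sub_sq q 1
    rwa [one_pow] at this
  have hdvd : r ^ 2 ∣ Fintype.card F - 1 := by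
    rw [hF, h1]
    exact h.mul_left _
  obtain ⟨d, hd⟩ := hdvd
  have hcard : Fintype.card F - 1 ≠ 0 := by
    have := Fintype.one_lt_card (α := F)
    omega
  have hd0 : d ≠ 0 := by
    rintro rfl
    rw [mul_zero] at hd
    exact hcard hd
  have hord : orderOf (g ^ d) = r ^ 2 := by
    rw [orderOf_pow_of_dvd hd0 (by rw [hg, hd]; exact dvd_mul_left _ _), hg, hd,
      Nat.mul_div_cancel _ (Nat.pos_of_ne_zero hd0)]
  refine ⟨((g ^ d : Fˣ) : F), Units.ne_zero _, ?_, ?_⟩
  · rw [← pow_mul, ← pow_two, ← Units.val_pow_eq_pow_val, ← hord, pow_orderOf_eq_one,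
      Units.val_one]
  · intro h1
    have h2 : (g ^ d) ^ r = 1 := by
      apply Units.ext
      rw [Units.val_pow_eq_pow_val, h1, Units.val_one]
    have h3 := orderOf_dvd_of_pow_eq_one h2
    rw [hord] at h3
    have h4 := Nat.le_of_dvd hr.pos h3
    have h5 : r < r ^ 2 := by
      rw [pow_two]
      exact lt_mul_of_one_lt_left hr.pos hr.one_lt
    omega

include hF in
/-- **Main theorem for the standard hermitian form.** -/
theorem main_std (p : ℕ) [Fact p.Prime] [CharP F p] (hn : 3 ≤ n) (r : ℕ) [hrF : Fact r.Prime]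
    (hr : r = 2 ∨ r ≠ p) (hgap : ¬ (n = 6 ∧ r = 3))
    (hΩ : r ∣ (Geo.similarityGroup (hermForm n F q)).relIndex (Geo.specialLinear (Fin n) F)) :
    FixProp (Geo.similarityGroup (hermForm n F q)) r ↔
      ((r = 2 ∧ (p = 2 ∨ padicValNat 2 n ≤ padicValNat 2 (q ^ 2 - 1))) ∨
        ((r = 3 ∨ r = 5) ∧ n = r ∧ padicValNat r (q - 1) = 1)) := by
  classical
  have hrP : r.Prime := hrF.out
  have hpP : p.Prime := Fact.out
  have hq : 2 ≤ q := two_le_q hF
  constructor
  · intro h
    by_contra hR
    have derange : ∀ x : GL (Fin n) F, x ∈ Geo.specialLinear (Fin n) F →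
        (∃ z : F, ((x ^ r : GL (Fin n) F) : Matrix (Fin n) (Fin n) F)
          = z • (1 : Matrix (Fin n) (Fin n) F)) →
        (∀ g : GL (Fin n) F, g⁻¹ * x * g ∉ Geo.similarityGroup (hermForm n F q)) → False := by
      intro x hx hxr hnot
      obtain ⟨g, -, hg⟩ := h x hx hxr (by
        intro z hz
        apply hnot 1
        rw [inv_one, one_mul, mul_one]
        exact scalar_mem_sim hF x z hz)
      exact hnot g hg
    rcases eq_or_ne r 2 with h2 | h2
    · subst h2
      have hp2 : p ≠ 2 := fun hp => hR (Or.inl ⟨rfl, Or.inl hp⟩)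
      have hv : padicValNat 2 (q ^ 2 - 1) < padicValNat 2 n := by
        by_contra hv
        exact hR (Or.inl ⟨rfl, Or.inr (not_lt.mp hv)⟩)
      obtain ⟨x, hx, hxr, -, hnot⟩ := bad_two_odd hF p hp2 (by omega) hv
      exact derange x hx hxr hnot
    · have hrp : r ≠ p := hr.resolve_left h2
      have hodd : Odd r := hrP.odd_of_ne_two h2
      haveI : Fact (2 < r) := ⟨lt_of_le_of_ne hrP.two_le (Ne.symm h2)⟩
      have hrq' : ¬ r ∣ q := by
        intro hrq
        obtain ⟨k, -, hk⟩ := FiniteField.card F p
        have h1 : r ∣ p ^ (k : ℕ) := by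
          rw [← hk, hF]
          exact hrq.trans (dvd_pow_self q two_ne_zero)
        exact hrp ((Nat.prime_dvd_prime_iff_eq hrP hpP).mp (hrP.dvd_of_dvd_pow h1))
      obtain ⟨j, hj, hd⟩ := exists_dvd_of_dvd_relIndex hF r hrP hrq' hΩ
      by_cases hq1 : r ∣ q - 1
      · obtain ⟨ω, hωr, hω1⟩ := exists_omega hF r hrP hq1
        have hω0 : ω ≠ 0 := by
          rintro rfl
          rw [zero_pow hrP.ne_zero] at hωr
          exact zero_ne_one hωr
        by_cases hn7 : 7 ≤ n
        · obtain ⟨x, hx, hxr, hnot⟩ := exists_derangement_B hF hn7 r hrP hodd hq1 ω hωr hω1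
          exact derange x hx hxr hnot
        · by_cases hrn : r ∣ n
          · obtain ⟨hnr, hr35⟩ := small_case n r hrP h2 hn (by omega) hrn hgap
            have hv1 : padicValNat r (q - 1) ≠ 1 := fun hv => hR (Or.inr ⟨hr35, hnr, hv⟩)
            have hq10 : q - 1 ≠ 0 := by omega
            have hv2 : r ^ 2 ∣ q - 1 := by
              rw [padicValNat_dvd_iff_le hq10]
              have := (padicValNat_dvd_iff_le (p := r) hq10 (n := 1)).mp (by simpa using hq1)
              omega
            obtain ⟨w, hw0, hwr2, hwr1⟩ := exists_order_sq hF r hrP hv2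
            obtain ⟨x, hx, hxr, hnot⟩ := exists_derangement_A hF hn r hrP hodd hq1 w (w ^ r)⁻¹
              (by rw [inv_pow, hwr2, inv_one])
              (by
                intro h1
                apply hwr1
                rw [inv_eq_one] at h1
                exact h1)
              (by rw [inv_inv, hnr])
            exact derange x hx hxr hnot
          · have hcop : Nat.Coprime n r := by
              rw [Nat.coprime_comm]
              exact (Nat.Prime.coprime_iff_not_dvd hrP).mpr hrn
            obtain ⟨m, -, hm⟩ := Nat.exists_mul_mod_eq_one_of_coprime hcop hrP.one_lt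
            obtain ⟨x, hx, hxr, hnot⟩ := exists_derangement_A hF hn r hrP hodd hq1 (ω ^ m) ω⁻¹
              (by rw [inv_pow, hωr, inv_one])
              (by
                intro h1
                apply hω1
                rw [inv_eq_one] at h1
                exact h1)
              (by
                rw [inv_inv, ← pow_mul, mul_comm m n]
                have h1 : n * m = r * (n * m / r) + 1 := by
                  have := Nat.div_add_mod (n * m) r
                  omega
                rw [h1, pow_succ, pow_mul, hωr, one_pow, one_mul])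
            exact derange x hx hxr hnot
      · obtain ⟨x, hx, hxr, hnot⟩ := exists_derangement_nonsplit hF p (by omega) r hrP hrp hq1 j hj hd
        exact derange x hx ⟨1, by rw [hxr, Units.val_one, one_smul]⟩ hnot
  · rintro (⟨rfl, hcase⟩ | ⟨hr35, rfl, hv⟩)
    · intro x hx ⟨z, hz⟩ hns
      rw [Units.val_pow_eq_pow_val] at hz
      by_cases hp2 : p = 2
      · subst hp2
        have h2 : (2 : F) = 0 := by
          have := CharP.cast_eq_zero F 2
          exact_mod_cast this
        exact good_two_even hF h2 x z hz hns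
      · have hv := hcase.resolve_left hp2
        exact good_two_odd hF p hp2 (by omega) hv x hx z hz
    · intro x hx hxr _
      have hr2 : n ≠ 2 := by rcases hr35 with h | h <;> omega
      exact good_special hF p n hrP hr35 (hr.resolve_left hr2) hv x hx hxr

end Cfsg.Agent.Lib.Helper1.GUS
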