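import Cfsg.Agent.Lib.Helper1.GUS1
import Cfsg.Agent.Lib.Helper14.SemiConjFin

set_option autoImplicit false
set_option linter.unusedSectionVars false

/-! # S5982 support (2): conjugacy into the similarity group via characteristic polynomials -/

namespace Cfsg.Agent.Lib.Helper1.GUS

open Matrix Cfsg Polynomial
open Cfsg.Agent.Lib.Helper6
open Cfsg.Agent.Lib.Helper14.HSemi (sigQ sigQ_apply)
open Cfsg.Agent.Lib.Helper14.HCount (sigQ_sigQ herm_mul_mul herm_eq_dot dual
  charpoly_inv_conj_transpose)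
open Cfsg.Agent.Lib.Helper14.GUConj
open Cfsg.Agent.Lib.Helper14 (exists_matrix_conj_of_isSemisimple isSemisimple_toLin'_of_pow_eq_one)

variable {F : Type*} [Field F] [Fintype F] {q : ℕ} (hF : Fintype.card F = q ^ 2) {n : ℕ}

/-- a unitary matrix has self-dual characteristic polynomial -/
theorem selfdual_of_unitary (u : Matrix (Fin n) (Fin n) F) (hu : sharp hF u * u = 1) :
    dual (sigQ hF) u.charpoly = u.charpoly := by
  have hdet : IsUnit u.det := by
    have h := congrArg Matrix.det hu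
    rw [Matrix.det_mul, Matrix.det_one] at h
    exact IsUnit.of_mul_eq_one _ (by rw [mul_comm]; exact h)
  have h1 := charpoly_inv_conj_transpose hF u hdet
  have h2 : ((u.map (sigQ hF))ᵀ)⁻¹ = u := by
    rw [← sharp_eq]
    exact Matrix.inv_eq_right_inv hu
  rw [h2] at h1
  exact h1.symm

/-- centraliser elements of prescribed determinant, matrix form -/
theorem exists_comm_det_matrix (hn : 0 < n) (x : Matrix (Fin n) (Fin n) F) (k : ℕ)
    (hk : (k : F) ≠ 0) (hx : x ^ k = 1) (d : F) :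
    ∃ C : Matrix (Fin n) (Fin n) F, C * x = x * C ∧ C.det = d := by
  haveI : Nonempty (Fin n) := ⟨⟨0, hn⟩⟩
  have hφ : (Matrix.toLin' x) ^ k = 1 := by
    have h : Matrix.toLin' x = Matrix.toLinAlgEquiv' x := rfl
    rw [h, ← map_pow, hx, map_one]
  obtain ⟨c, hcc, hcd⟩ := Cfsg.Agent.Lib.Helper15.exists_comm_det (Matrix.toLin' x) k hk hφ d
  refine ⟨LinearMap.toMatrix' c, ?_, ?_⟩
  · have h1 : x = LinearMap.toMatrix' (Matrix.toLin' x) := (LinearMap.toMatrix'_toLin' _).symm
    conv_lhs => rw [h1]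
    conv_rhs => rw [h1]
    have h2 := congrArg LinearMap.toMatrix' hcc
    rw [Module.End.mul_eq_comp, Module.End.mul_eq_comp, LinearMap.toMatrix'_comp,
      LinearMap.toMatrix'_comp] at h2
    exact h2
  · rw [← hcd]; exact LinearMap.det_toMatrix' c

/-- the order of the multiplicative group is prime to the characteristic -/
theorem card_sub_one_coprime (p : ℕ) [Fact p.Prime] [CharP F p] :
    (Fintype.card F - 1).Coprime p := by
  obtain ⟨k, -, hk⟩ := FiniteField.card F p
  rw [hk]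
  have hp := (Fact.out : p.Prime)
  have h1 : 1 ≤ p ^ (k : ℕ) := Nat.one_le_pow _ _ hp.pos
  have h2 : p ∣ p ^ (k : ℕ) := dvd_pow_self p k.pos.ne'
  rw [Nat.coprime_comm, Nat.Prime.coprime_iff_not_dvd hp]
  intro h3
  have h4 : p ∣ p ^ (k : ℕ) - (p ^ (k : ℕ) - 1) := Nat.dvd_sub h2 h3
  have h5 : p ^ (k : ℕ) - (p ^ (k : ℕ) - 1) = 1 := by omega
  rw [h5] at h4
  exact hp.one_lt.ne' (Nat.dvd_one.mp h4)

/-- a scalar multiple of a matrix of order prime to `p` has order prime to `p` -/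
theorem smul_pow_eq_one (x : Matrix (Fin n) (Fin n) F) (k : ℕ) (hx : x ^ k = 1) (l : F)
    (hl : l ≠ 0) : (l • x) ^ (k * (Fintype.card F - 1)) = 1 := by
  rw [_root_.smul_pow, pow_mul x, hx, one_pow, mul_comm k, pow_mul,
    FiniteField.pow_card_sub_one_eq_one l hl, one_pow, one_smul]

/-- **Criterion.**  A matrix of determinant one and order prime to `p`, one of whose scalar multiples
has self-dual characteristic polynomial, is conjugate under `SL_n` to a similarity of the standard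
hermitian form. -/
theorem conj_mem_of_selfdual (p : ℕ) [Fact p.Prime] [CharP F p] (hn : 0 < n) (x : GL (Fin n) F)
    (k : ℕ) (hk : k.Coprime p) (hx : (x : Matrix (Fin n) (Fin n) F) ^ k = 1) (l : F) (hl : l ≠ 0)
    (hd : dual (sigQ hF) (l⁻¹ • (x : Matrix (Fin n) (Fin n) F)).charpoly
      = (l⁻¹ • (x : Matrix (Fin n) (Fin n) F)).charpoly) :
    ∃ g ∈ Geo.specialLinear (Fin n) F, g⁻¹ * x * g ∈ Geo.similarityGroup (hermForm n F q) := by
  set X : Matrix (Fin n) (Fin n) F := (x : Matrix (Fin n) (Fin n) F) with hX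
  set A : Matrix (Fin n) (Fin n) F := l⁻¹ • X with hA
  set m := k * (Fintype.card F - 1) with hm
  have hmcop : m.Coprime p := Nat.Coprime.mul_left hk (card_sub_one_coprime p)
  have hAm : A ^ m = 1 := smul_pow_eq_one X k hx l⁻¹ (inv_ne_zero hl)
  have hm0 : m ≠ 0 := by
    intro h0
    rw [h0, Nat.coprime_zero_left] at hmcop
    exact (Fact.out : p.Prime).one_lt.ne' hmcop
  have hAdet : IsUnit A.det := by
    have h := congrArg Matrix.det hAm
    rw [Matrix.det_pow, Matrix.det_one] at h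
    exact IsUnit.of_pow_eq_one h hm0
  have hsA : IsUnit (sharp hF A).det := by
    rw [det_sharp]; exact hAdet.map (sigQ hF)
  set B : Matrix (Fin n) (Fin n) F := (sharp hF A)⁻¹ with hB
  have hBc : B.charpoly = A.charpoly := by
    have h1 := charpoly_inv_conj_transpose hF A hAdet
    rw [← sharp_eq] at h1
    rw [hB, h1, hd]
  have hBm : B ^ m = 1 := by
    rw [hB, Matrix.inv_pow', ← sharp_pow, hAm, sharp_one, inv_one]
  have hAss := isSemisimple_toLin'_of_pow_eq_one p A m hmcop hAm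
  have hBss := isSemisimple_toLin'_of_pow_eq_one p B m hmcop hBm
  obtain ⟨P, Q, hPQ, hQP, hPA⟩ := exists_matrix_conj_of_isSemisimple A B hAss hBss hBc.symm
  have hPdet : IsUnit P.det := by
    have h := congrArg Matrix.det hPQ
    rw [Matrix.det_mul, Matrix.det_one] at h
    exact IsUnit.of_mul_eq_one _ h
  have hkey : sharp hF A * P * A = P := by
    rw [Matrix.mul_assoc, hPA, ← Matrix.mul_assoc, hB, Matrix.mul_nonsing_inv _ hsA,
      Matrix.one_mul]
  obtain ⟨W, hWdet, hWu⟩ := exists_unitary_conj hF A P hPdet hkey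
  -- the centraliser element
  have hk0 : (k : F) ≠ 0 := by
    intro h0
    rw [CharP.cast_eq_zero_iff F p] at h0
    have h1 : p ∣ Nat.gcd k p := Nat.dvd_gcd h0 dvd_rfl
    rw [hk] at h1
    exact (Fact.out : p.Prime).one_lt.ne' (Nat.dvd_one.mp h1)
  obtain ⟨C, hCx, hCdet⟩ := exists_comm_det_matrix hn X k hk0 hx (W.det)⁻¹
  have hW0 : W.det ≠ 0 := hWdet.ne_zero
  have hCu : IsUnit C.det := by
    rw [hCdet]; exact (isUnit_iff_ne_zero.mpr (inv_ne_zero hW0))
  let Wg : GL (Fin n) F := Matrix.GeneralLinearGroup.mk'' W hWdet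
  let Cg : GL (Fin n) F := Matrix.GeneralLinearGroup.mk'' C hCu
  have hWg : (Wg : Matrix (Fin n) (Fin n) F) = W := rfl
  have hCg : (Cg : Matrix (Fin n) (Fin n) F) = C := rfl
  have hcomm : Cg * x = x * Cg := by
    apply Units.ext
    rw [Units.val_mul, Units.val_mul, hCg]
    exact hCx
  refine ⟨(Wg * Cg)⁻¹, ?_, ?_⟩
  · unfold Geo.specialLinear
    rw [MonoidHom.mem_ker, map_inv, map_mul, inv_eq_one]
    apply Units.ext
    rw [Units.val_mul, Units.val_one, Matrix.GeneralLinearGroup.val_det_apply,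
      Matrix.GeneralLinearGroup.val_det_apply, hWg, hCg, hCdet, mul_inv_cancel₀ hW0]
  · rw [inv_inv]
    have h1 : Wg * Cg * x * (Wg * Cg)⁻¹ = Wg * x * Wg⁻¹ := by
      rw [mul_assoc Wg Cg x, hcomm]
      group
    rw [h1, mem_sim_iff hF]
    have hWinv : ((Wg⁻¹ : GL (Fin n) F) : Matrix (Fin n) (Fin n) F) = W⁻¹ := by
      rw [Matrix.coe_units_inv, hWg]
    have h2 : ((Wg * x * Wg⁻¹ : GL (Fin n) F) : Matrix (Fin n) (Fin n) F)
        = l • (W * A * W⁻¹) := by
      rw [Units.val_mul, Units.val_mul, hWinv, hWg, hA, Matrix.mul_smul, Matrix.smul_mul,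
        smul_smul, mul_inv_cancel₀ hl, one_smul]
    refine ⟨sigQ hF l * l, mul_ne_zero ((map_ne_zero (sigQ hF)).mpr hl) hl, ?_⟩
    rw [h2, sharp_smul, Matrix.smul_mul, Matrix.mul_smul, hWu, smul_smul]

/-- **Converse.**  If a conjugate of `x` is a similarity of the standard hermitian form then a scalar
multiple of `x` has self-dual characteristic polynomial. -/
theorem selfdual_of_conj_mem (hn : 0 < n) (x g : GL (Fin n) F)
    (h : g⁻¹ * x * g ∈ Geo.similarityGroup (hermForm n F q)) :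
    ∃ l c : F, l ≠ 0 ∧ l * sigQ hF l = c ∧
      sharp hF ((g⁻¹ * x * g : GL (Fin n) F) : Matrix (Fin n) (Fin n) F) *
        ((g⁻¹ * x * g : GL (Fin n) F) : Matrix (Fin n) (Fin n) F)
          = c • (1 : Matrix (Fin n) (Fin n) F) ∧
      dual (sigQ hF) (l⁻¹ • (x : Matrix (Fin n) (Fin n) F)).charpoly
        = (l⁻¹ • (x : Matrix (Fin n) (Fin n) F)).charpoly := by
  obtain ⟨c, hc0, hc⟩ := (mem_sim_iff hF _).mp h
  obtain ⟨l, hl0, hlc, hu⟩ := exists_unitary_smul hF hn _ c hc0 hc
  refine ⟨l, c, hl0, hlc, hc, ?_⟩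
  have h1 := selfdual_of_unitary hF _ hu
  have h2 : l⁻¹ • ((g⁻¹ * x * g : GL (Fin n) F) : Matrix (Fin n) (Fin n) F)
      = ((g⁻¹ : GL (Fin n) F) : Matrix (Fin n) (Fin n) F) *
        (l⁻¹ • (x : Matrix (Fin n) (Fin n) F)) * ((g⁻¹ : GL (Fin n) F) : Matrix (Fin n) (Fin n) F)⁻¹ := by
    rw [Units.val_mul, Units.val_mul, Matrix.mul_smul, Matrix.smul_mul, ← Matrix.coe_units_inv,
      inv_inv]
  rw [h2, Matrix.charpoly_units_conj] at h1
  exact h1

end Cfsg.Agent.Lib.Helper1.GUS
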