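import Cfsg.Agent.Lib.Helper1.GUS2
import Cfsg.Agent.Lib.Helper14.OrdCount4
import Cfsg.Agent.Lib.Helper14.SemiExist

set_option autoImplicit false
set_option linter.unusedSectionVars false
set_option linter.style.haveILetI false

/-! # S5982 support (4): derangements of odd prime order, non-split case -/

namespace Cfsg.Agent.Lib.Helper1.GUS

open Matrix Cfsg Polynomial
open Cfsg.Agent.Lib.Helper6
open Cfsg.Agent.Lib.Helper14.HSemi (sigQ sigQ_apply)
open Cfsg.Agent.Lib.Helper14.HCount (sigQ_sigQ herm_mul_mul herm_eq_dot dual dual_mul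
  charpoly_inv_conj_transpose)
open Cfsg.Agent.Lib.Helper14.GUConj
open Cfsg.Agent.S2568 (cycFactors mem_cycFactors natDegree_of_mem_cycFactors)

theorem nt_pow_neg (r q : ℕ) [Fact (2 < r)] (hq : 0 < q) (j : ℕ)
    (hd : r ∣ (if Even j then q ^ (j + 1) - 1 else q ^ (j + 1) + 1)) :
    (-(q : ZMod r)) ^ (j + 1) = -1 := by
  by_cases he : Even j
  · rw [if_pos he] at hd
    have h1 : ((q ^ (j + 1) - 1 : ℕ) : ZMod r) = 0 := (ZMod.natCast_eq_zero_iff _ _).mpr hd
    rw [Nat.cast_sub (Nat.one_le_pow _ _ hq), Nat.cast_pow, Nat.cast_one, sub_eq_zero] at h1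
    have ho : Odd (j + 1) := he.add_one
    rw [ho.neg_pow, h1]
  · rw [if_neg he] at hd
    have h1 : ((q ^ (j + 1) + 1 : ℕ) : ZMod r) = 0 := (ZMod.natCast_eq_zero_iff _ _).mpr hd
    rw [Nat.cast_add, Nat.cast_pow, Nat.cast_one] at h1
    have ho : Even (j + 1) := (Nat.not_even_iff_odd.mp he).add_one
    rw [ho.neg_pow]
    exact eq_neg_of_add_eq_zero_left h1

theorem nt_nonsplit (r q n : ℕ) [Fact (2 < r)] (hr : r.Prime) (hq1 : ¬ r ∣ q - 1) (hq : 0 < q)
    (j : ℕ) (hj : j < n)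
    (ha : (-(q : ZMod r)) ^ (j + 1) = -1) :
    (¬ ∃ k : ℕ, ((q ^ 2 : ℕ) : ZMod r) ^ k = -((q : ℕ) : ZMod r)) ∧
      2 ≤ orderOf ((q ^ 2 : ℕ) : ZMod r) ∧ orderOf ((q ^ 2 : ℕ) : ZMod r) ≤ n ∧
      ¬ r ∣ q ^ 2 - 1 := by
  set a : ZMod r := -(q : ZMod r) with ha_def
  have hne : (-1 : ZMod r) ≠ 1 := ZMod.neg_one_ne_one
  have hsq : ((q ^ 2 : ℕ) : ZMod r) = a ^ 2 := by
    rw [ha_def, neg_sq, Nat.cast_pow]
  have h2 : a ^ (2 * (j + 1)) = 1 := by
    rw [mul_comm, pow_mul, ha, neg_one_sq]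
  have hnot1 : ¬ r ∣ q ^ 2 - 1 := by
    intro h
    have h1 : ((q ^ 2 - 1 : ℕ) : ZMod r) = 0 := (ZMod.natCast_eq_zero_iff _ _).mpr h
    rw [Nat.cast_sub (Nat.one_le_pow _ _ hq), Nat.cast_pow, Nat.cast_one, sub_eq_zero] at h1
    have h3 : ((q : ZMod r) - 1) * ((q : ZMod r) + 1) = 0 := by
      linear_combination h1
    haveI : Fact r.Prime := ⟨hr⟩
    rcases mul_eq_zero.mp h3 with h4 | h4
    · apply hq1
      rw [← ZMod.natCast_eq_zero_iff, Nat.cast_sub hq, Nat.cast_one]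
      exact h4
    · have h5 : a = 1 := by
        rw [ha_def]
        linear_combination -h4
      rw [h5, one_pow] at ha
      exact hne ha.symm
  refine ⟨?_, ?_, ?_, hnot1⟩
  · rintro ⟨k, hk⟩
    rw [hsq, ← pow_mul] at hk
    have h3 : a ^ (2 * k + (2 * (j + 1) - 1)) = 1 := by
      rw [pow_add, hk, ← pow_succ', show 2 * (j + 1) - 1 + 1 = 2 * (j + 1) by omega, h2]
    have h4 := pow_gcd_eq_one.mpr ⟨h3, h2⟩
    have hcop : Nat.Coprime (2 * k + (2 * (j + 1) - 1)) 2 := by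
      rw [Nat.coprime_two_right]
      exact ⟨k + j, by omega⟩
    rw [Nat.Coprime.gcd_mul_left_cancel_right (j + 1) hcop.symm] at h4
    have h5 : a ^ (j + 1) = 1 := by
      obtain ⟨t, ht⟩ := Nat.gcd_dvd_right (2 * k + (2 * (j + 1) - 1)) (j + 1)
      rw [ht, pow_mul, h4, one_pow]
    rw [ha] at h5
    exact hne h5
  · have h6 : (a ^ 2) ^ (j + 1) = 1 := by rw [← pow_mul]; exact h2
    rw [hsq]
    have hpos : 0 < orderOf (a ^ 2) := by
      rw [orderOf_pos_iff]
      exact isOfFinOrder_iff_pow_eq_one.mpr ⟨j + 1, by omega, h6⟩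
    by_contra hlt
    have h7 : orderOf (a ^ 2) = 1 := by omega
    rw [orderOf_eq_one_iff] at h7
    apply hnot1
    rw [← ZMod.natCast_eq_zero_iff, Nat.cast_sub (Nat.one_le_pow _ _ hq), Nat.cast_one, hsq, h7,
      sub_self]
  · have h6 : (a ^ 2) ^ (j + 1) = 1 := by rw [← pow_mul]; exact h2
    rw [hsq]
    have := Nat.le_of_dvd (by omega) (orderOf_dvd_of_pow_eq_one h6)
    omega

universe u

variable {F : Type u} [Field F] [Fintype F] {q : ℕ} (hF : Fintype.card F = q ^ 2) {n : ℕ}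

include hF in
/-- scalar matrices are similarities -/
theorem scalar_mem_sim (g : GL (Fin n) F) (z : F)
    (hg : (g : Matrix (Fin n) (Fin n) F) = z • (1 : Matrix (Fin n) (Fin n) F)) :
    g ∈ Geo.similarityGroup (hermForm n F q) := by
  rw [mem_sim_iff hF]
  have hz : z ≠ 0 ∨ n = 0 := by
    by_cases hn : n = 0
    · exact Or.inr hn
    · left
      rintro rfl
      rw [zero_smul] at hg
      have h1 : (g : Matrix (Fin n) (Fin n) F) * ((g⁻¹ : GL (Fin n) F) : Matrix (Fin n) (Fin n) F)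
          = 1 := by rw [← Units.val_mul, mul_inv_cancel, Units.val_one]
      rw [hg, Matrix.zero_mul] at h1
      have h2 := congrFun (congrFun h1 ⟨0, Nat.pos_of_ne_zero hn⟩) ⟨0, Nat.pos_of_ne_zero hn⟩
      simp at h2
  rcases hz with hz | hn
  · refine ⟨sigQ hF z * z, mul_ne_zero ((map_ne_zero (sigQ hF)).mpr hz) hz, ?_⟩
    rw [hg, sharp_smul, sharp_one, Matrix.smul_mul, Matrix.one_mul, smul_smul]
  · subst hn
    exact ⟨1, one_ne_zero, Subsingleton.elim _ _⟩

theorem dual_pow (σ : F ≃+* F) (f : F[X]) (m : ℕ) : dual σ (f ^ m) = (dual σ f) ^ m := by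
  induction m with
  | zero => rw [pow_zero, pow_zero]; exact Cfsg.Agent.Lib.Helper14.OrdCount.dual_one σ
  | succ m ih => rw [pow_succ, dual_mul, ih, pow_succ]

/-- powers of a similarity -/
theorem multiplier_pow (y : Matrix (Fin n) (Fin n) F) (c : F)
    (h : sharp hF y * y = c • (1 : Matrix (Fin n) (Fin n) F)) (k : ℕ) :
    sharp hF (y ^ k) * y ^ k = c ^ k • (1 : Matrix (Fin n) (Fin n) F) := by
  induction k with
  | zero => rw [pow_zero, pow_zero, sharp_one, Matrix.one_mul, one_smul]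
  | succ k ih =>
    have h1 : sharp hF (y ^ (k + 1)) * y ^ (k + 1)
        = sharp hF (y ^ k) * (sharp hF y * y) * y ^ k := by
      rw [pow_succ', sharp_mul]
      simp only [Matrix.mul_assoc]
    rw [h1, h, Matrix.mul_smul, Matrix.mul_one, Matrix.smul_mul, ih, smul_smul, pow_succ, mul_comm]

/-- a block matrix `A₀ ⊕ 1` of size `n` -/
theorem exists_block {d : ℕ} (hd : d ≤ n) (A₀ : Matrix (Fin d) (Fin d) F) :
    ∃ x : Matrix (Fin n) (Fin n) F, x.charpoly = A₀.charpoly * (X - 1) ^ (n - d) ∧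
      x.det = A₀.det ∧ ∀ k, A₀ ^ k = 1 → x ^ k = 1 := by
  let e : Fin d ⊕ Fin (n - d) ≃ Fin n := finSumFinEquiv.trans (finCongr (by omega))
  refine ⟨Matrix.reindex e e (Matrix.fromBlocks A₀ 0 0 1), ?_, ?_, ?_⟩
  · rw [Matrix.charpoly_reindex, Matrix.charpoly_fromBlocks_zero₁₂, Matrix.charpoly_one,
      Fintype.card_fin]
  · rw [Matrix.det_reindex_self, Matrix.det_fromBlocks_zero₁₂, Matrix.det_one, mul_one]
  · intro k hk
    have h1 : Matrix.reindex e e (Matrix.fromBlocks A₀ 0 0 (1 : Matrix (Fin (n - d)) (Fin (n - d)) F))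
        = Matrix.reindexAlgEquiv F F e (Matrix.fromBlocks A₀ 0 0 1) := rfl
    rw [h1, ← map_pow, Matrix.fromBlocks_diagonal_pow, hk, one_pow, Matrix.fromBlocks_one, map_one]

include hF in
/-- **Derangements, non-split case.**  If the odd prime `r ≠ p` divides `q^(j+1) - (-1)^(j+1)` with
`j < n` but not `q - 1`, some element of `SL_n(q²)` of order `r` has no conjugate in the similarity
group of the standard hermitian form. -/
theorem exists_derangement_nonsplit (p : ℕ) [Fact p.Prime] [CharP F p] (hn : 0 < n) (r : ℕ)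
    [Fact (2 < r)] (hr : r.Prime) (hrp : r ≠ p) (hq1 : ¬ r ∣ q - 1) (j : ℕ) (hj : j < n)
    (hd : r ∣ (if Even j then q ^ (j + 1) - 1 else q ^ (j + 1) + 1)) :
    ∃ x : GL (Fin n) F, x ∈ Geo.specialLinear (Fin n) F ∧ x ^ r = 1 ∧
      ∀ g : GL (Fin n) F, g⁻¹ * x * g ∉ Geo.similarityGroup (hermForm n F q) := by
  have hqpos : 0 < q := by
    have := two_le_q hF
    omega
  obtain ⟨hnok, hd2, hdn, hnot1⟩ := nt_nonsplit r q n hr hq1 hqpos j hj (nt_pow_neg r q hqpos j hd)
  -- `q` is a power of `p`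
  obtain ⟨e, hqe⟩ : ∃ e, q = p ^ e := by
    obtain ⟨k, -, hk⟩ := FiniteField.card F p
    have h1 : q ∣ p ^ (k : ℕ) := by
      rw [← hk, hF]
      exact dvd_pow_self q (by norm_num)
    obtain ⟨e, -, he⟩ := (Nat.dvd_prime_pow (Fact.out : p.Prime)).mp h1
    exact ⟨e, he⟩
  have hσ : ∀ a, sigQ hF a = a ^ (p ^ e) := fun a => by rw [sigQ_apply, hqe]
  -- an irreducible factor of the cyclotomic polynomial
  have hnu : ¬ IsUnit (cyclotomic r F) := by
    apply Polynomial.not_isUnit_of_natDegree_pos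
    rw [natDegree_cyclotomic, Nat.totient_prime hr]
    have := hr.two_le
    omega
  obtain ⟨P, hPm, hPi, hPdvd⟩ := Polynomial.exists_monic_irreducible_factor _ hnu
  have hP : P ∈ cycFactors F r := (mem_cycFactors r P).mpr ⟨hPi, hPm, hPdvd⟩
  have hPdeg := natDegree_of_mem_cycFactors p r hr hrp P hP
  rw [hF] at hPdeg
  set d := P.natDegree with hd_def
  have hP0 : P.coeff 0 ≠ 0 := Cfsg.Agent.Lib.Helper14.OrdCount.coeff_zero_ne_of_mem r hr P hP
  obtain ⟨A₀, k, hk, hA₀k, hA₀c⟩ :=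
    Cfsg.Agent.Lib.Helper14.exists_matrix_charpoly p d P hPm rfl hP0
  -- `A₀ ^ r = 1`
  have hPX : P ∣ X ^ r - 1 := hPdvd.trans (cyclotomic.dvd_X_pow_sub_one r F)
  have hA₀r : A₀ ^ r = 1 := by
    have h1 : aeval A₀ P = 0 := by rw [← hA₀c]; exact Matrix.aeval_self_charpoly A₀
    obtain ⟨T, hT⟩ := hPX
    have h2 : aeval A₀ (X ^ r - 1 : F[X]) = 0 := by rw [hT, map_mul, h1, zero_mul]
    rw [map_sub, map_pow, aeval_X, map_one, sub_eq_zero] at h2
    exact h2
  obtain ⟨X₀, hXc, hXdet, hXpow⟩ := exists_block (n := n) (by rw [hPdeg]; exact hdn) A₀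
  have hXr : X₀ ^ r = 1 := hXpow r hA₀r
  -- the determinant is one
  have hdet : X₀.det = 1 := by
    have h1 : X₀.det ^ r = 1 := by rw [← Matrix.det_pow, hXr, Matrix.det_one]
    have h0 : X₀.det ≠ 0 := by
      intro h0
      rw [h0, zero_pow hr.ne_zero] at h1
      exact zero_ne_one h1
    have h2 : X₀.det ^ (Fintype.card F - 1) = 1 := FiniteField.pow_card_sub_one_eq_one _ h0
    have h3 := pow_gcd_eq_one.mpr ⟨h1, h2⟩
    have h4 : Nat.gcd r (Fintype.card F - 1) = 1 := by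
      rw [hF]
      exact (Nat.Prime.coprime_iff_not_dvd hr).mpr hnot1
    rw [h4, pow_one] at h3
    exact h3
  have hXu : IsUnit X₀.det := by rw [hdet]; exact isUnit_one
  let x : GL (Fin n) F := Matrix.GeneralLinearGroup.mk'' X₀ hXu
  have hxv : (x : Matrix (Fin n) (Fin n) F) = X₀ := rfl
  refine ⟨x, ?_, ?_, ?_⟩
  · unfold Geo.specialLinear
    rw [MonoidHom.mem_ker]
    apply Units.ext
    rw [Matrix.GeneralLinearGroup.val_det_apply, hxv, hdet, Units.val_one]
  · apply Units.ext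
    rw [Units.val_pow_eq_pow_val, hxv, hXr, Units.val_one]
  · intro g hg
    obtain ⟨c, hc0, hc⟩ := (mem_sim_iff hF _).mp hg
    set y : Matrix (Fin n) (Fin n) F := ((g⁻¹ * x * g : GL (Fin n) F) : Matrix (Fin n) (Fin n) F)
      with hy
    have hyr : y ^ r = 1 := by
      rw [hy, ← Units.val_pow_eq_pow_val]
      have : (g⁻¹ * x * g) ^ r = 1 := by
        have h1 : (g⁻¹ * x * g) ^ r = g⁻¹ * x ^ r * g := by
          have := conj_pow (a := g⁻¹) (b := x) (i := r)
          rwa [inv_inv] at this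
        rw [h1]
        have hxr : x ^ r = 1 := by
          apply Units.ext
          rw [Units.val_pow_eq_pow_val, hxv, hXr, Units.val_one]
        rw [hxr, mul_one, inv_mul_cancel]
      rw [this, Units.val_one]
    have hcr : c ^ r = 1 := by
      have h1 := multiplier_pow hF y c hc r
      rw [hyr, sharp_one, Matrix.one_mul] at h1
      have h2 := congrFun (congrFun h1 ⟨0, hn⟩) ⟨0, hn⟩
      simpa using h2.symm
    have hcfix := multiplier_fixed hF hn y c hc
    have hcq : c ^ (q - 1) = 1 := by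
      rw [sigQ_apply] at hcfix
      have h1 : c ^ (q - 1) * c = 1 * c := by
        rw [← pow_succ, Nat.sub_add_cancel hqpos, hcfix, one_mul]
      exact mul_right_cancel₀ hc0 h1
    have hc1 : c = 1 := by
      have h3 := pow_gcd_eq_one.mpr ⟨hcr, hcq⟩
      rw [(Nat.Prime.coprime_iff_not_dvd hr).mpr hq1, pow_one] at h3
      exact h3
    rw [hc1, one_smul] at hc
    have hsd := selfdual_of_unitary hF y hc
    have hyc : y.charpoly = P * (X - 1) ^ (n - d) := by
      rw [hy, Units.val_mul, Units.val_mul, Matrix.coe_units_inv, Matrix.charpoly_units_conj', hxv,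
        hXc, hA₀c]
    rw [hyc, dual_mul, dual_pow, Cfsg.Agent.Lib.Helper14.OrdCount.dual_X_sub_one] at hsd
    have hne : ((X : F[X]) - 1) ^ (n - d) ≠ 0 := pow_ne_zero _ (X_sub_C_ne_zero (1 : F))
    have hPd : dual (sigQ hF) P = P := mul_right_cancel₀ hne hsd
    have := (Cfsg.Agent.Lib.Helper14.OrdCount.dual_eq_iff p r hr hrp e (sigQ hF) hσ P hP).mp hPd
    apply hnok
    obtain ⟨k', hk'⟩ := this
    refine ⟨k', ?_⟩
    rw [hF, ← hqe] at hk'
    exact hk'

end Cfsg.Agent.Lib.Helper1.GUS
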