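import Cfsg.Agent.Lib.Helper1.GUS4

set_option autoImplicit false
set_option linter.unusedSectionVars false
set_option linter.style.haveILetI false

/-! # S5982 support (5): diagonal elements and multisets of eigenvalues -/

namespace Cfsg.Agent.Lib.Helper1.GUS

open Matrix Cfsg Polynomial Finset
open Cfsg.Agent.Lib.Helper6
open Cfsg.Agent.Lib.Helper14.HSemi (sigQ sigQ_apply)
open Cfsg.Agent.Lib.Helper14.HCount (sigQ_sigQ herm_mul_mul herm_eq_dot dual dual_mul
  charpoly_inv_conj_transpose)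
open Cfsg.Agent.Lib.Helper14.GUConj
open Cfsg.Agent.Lib.Helper14 (exists_matrix_conj_of_isSemisimple isSemisimple_toLin'_of_pow_eq_one)

universe u

variable {F : Type u} [Field F] [Fintype F] {q : ℕ} (hF : Fintype.card F = q ^ 2) {n : ℕ}

/-- the diagonal element of `GL_n` with non-zero entries `a` -/
noncomputable def dgl (a : Fin n → F) (ha : ∀ i, a i ≠ 0) : GL (Fin n) F :=
  ⟨Matrix.diagonal a, Matrix.diagonal (fun i => (a i)⁻¹),
    by
      rw [Matrix.diagonal_mul_diagonal, ← Matrix.diagonal_one]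
      congr 1
      funext i
      exact mul_inv_cancel₀ (ha i),
    by
      rw [Matrix.diagonal_mul_diagonal, ← Matrix.diagonal_one]
      congr 1
      funext i
      exact inv_mul_cancel₀ (ha i)⟩

theorem dgl_val (a : Fin n → F) (ha : ∀ i, a i ≠ 0) :
    ((dgl a ha : GL (Fin n) F) : Matrix (Fin n) (Fin n) F) = Matrix.diagonal a := rfl

theorem dgl_mem_sl (a : Fin n → F) (ha : ∀ i, a i ≠ 0) (hp : ∏ i, a i = 1) :
    dgl a ha ∈ Geo.specialLinear (Fin n) F := by
  unfold Geo.specialLinear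
  rw [MonoidHom.mem_ker]
  apply Units.ext
  rw [Matrix.GeneralLinearGroup.val_det_apply, dgl_val, Matrix.det_diagonal, hp, Units.val_one]

theorem dgl_pow (a : Fin n → F) (ha : ∀ i, a i ≠ 0) (k : ℕ) :
    (((dgl a ha) ^ k : GL (Fin n) F) : Matrix (Fin n) (Fin n) F)
      = Matrix.diagonal (fun i => a i ^ k) := by
  rw [Units.val_pow_eq_pow_val, dgl_val, Matrix.diagonal_pow]
  rfl

theorem charpoly_smul_diagonal (a : Fin n → F) (l : F) :
    (l⁻¹ • Matrix.diagonal a).charpoly = ∏ i, (X - C (a i / l)) := by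
  have h : l⁻¹ • Matrix.diagonal a = Matrix.diagonal (fun i => a i / l) := by
    rw [← Matrix.diagonal_smul]
    congr 1
    funext i
    rw [Pi.smul_apply, smul_eq_mul, div_eq_mul_inv, mul_comm]
  rw [h, Matrix.charpoly_diagonal]

theorem dual_X_sub_C (σ : F ≃+* F) (b : F) (hb : b ≠ 0) :
    dual σ (X - C b) = X - C (σ b)⁻¹ := by
  unfold dual
  have h1 : (X - C b : F[X]).coeff 0 = -b := by simp
  have h2 : (X - C b : F[X]).map (σ : F →+* F) = X - C (σ b) := by simp
  have h3 : (X - C (σ b) : F[X]).reverse = 1 - C (σ b) * X := by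
    have h4 : (X - C (σ b) : F[X]) = 1 * X + C (-(σ b)) := by
      rw [one_mul, map_neg, sub_eq_add_neg]
    have h5 : (1 : F[X]).reverse = 1 := by
      rw [← C_1, reverse_C]
    rw [h4, reverse_add_C, reverse_mul_X, one_mul, natDegree_X, pow_one, map_neg, h5]
    ring
  rw [h1, h2, h3, map_neg]
  have hσb : σ b ≠ 0 := (map_ne_zero σ).mpr hb
  have h6 : C (-(σ b))⁻¹ * (1 - C (σ b) * X) = X - C (σ b)⁻¹ := by
    have h7 : (C (σ b)⁻¹ : F[X]) * C (σ b) = 1 := by
      rw [← C_mul, inv_mul_cancel₀ hσb, C_1]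
    rw [inv_neg, map_neg]
    linear_combination (X : F[X]) * h7
  exact h6

theorem dual_finset_prod (σ : F ≃+* F) {ι : Type*} (s : Finset ι) (f : ι → F[X]) :
    dual σ (∏ i ∈ s, f i) = ∏ i ∈ s, dual σ (f i) := by
  classical
  induction s using Finset.induction_on with
  | empty => rw [Finset.prod_empty, Finset.prod_empty]
             exact Cfsg.Agent.Lib.Helper14.OrdCount.dual_one σ
  | insert a s ha ih => rw [Finset.prod_insert ha, Finset.prod_insert ha, dual_mul, ih]

theorem dual_prod_X_sub_C (σ : F ≃+* F) (b : Fin n → F) (hb : ∀ i, b i ≠ 0) :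
    dual σ (∏ i, (X - C (b i))) = ∏ i, (X - C (σ (b i))⁻¹) := by
  rw [dual_finset_prod]
  apply Finset.prod_congr rfl
  intro i _
  exact dual_X_sub_C σ (b i) (hb i)

theorem prod_X_sub_C_eq_multiset (b : Fin n → F) :
    ∏ i, (X - C (b i)) = ((Finset.univ.val.map b).map (fun a => X - C a)).prod := by
  rw [Multiset.map_map]
  rfl

theorem prod_X_sub_C_inj (b b' : Fin n → F)
    (h : ∏ i, (X - C (b i)) = ∏ i, (X - C (b' i))) :
    Finset.univ.val.map b = Finset.univ.val.map b' := by
  rw [prod_X_sub_C_eq_multiset, prod_X_sub_C_eq_multiset] at h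
  have h1 := congrArg Polynomial.roots h
  rwa [Polynomial.roots_multiset_prod_X_sub_C, Polynomial.roots_multiset_prod_X_sub_C] at h1

theorem prod_X_sub_C_congr (b b' : Fin n → F)
    (h : Finset.univ.val.map b = Finset.univ.val.map b') :
    ∏ i, (X - C (b i)) = ∏ i, (X - C (b' i)) := by
  rw [prod_X_sub_C_eq_multiset, prod_X_sub_C_eq_multiset, h]

/-- a diagonal element with a conjugate in the similarity group has a symmetric multiset of
entries -/
theorem multiset_of_conj_mem (hn : 0 < n) (a : Fin n → F) (ha : ∀ i, a i ≠ 0) (g : GL (Fin n) F)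
    (h : g⁻¹ * dgl a ha * g ∈ Geo.similarityGroup (hermForm n F q)) :
    ∃ l : F, l ≠ 0 ∧ Finset.univ.val.map (fun i => a i / l)
      = Finset.univ.val.map (fun i => (sigQ hF (a i / l))⁻¹) := by
  obtain ⟨l, c, hl0, -, -, hd⟩ := selfdual_of_conj_mem hF hn (dgl a ha) g h
  refine ⟨l, hl0, ?_⟩
  rw [dgl_val, charpoly_smul_diagonal, dual_prod_X_sub_C] at hd
  · exact (prod_X_sub_C_inj _ _ hd).symm
  · intro i
    exact div_ne_zero (ha i) hl0

/-- an element of `SL_n` whose characteristic polynomial splits with a symmetric multiset of roots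
is conjugate into the similarity group -/
theorem conj_mem_of_multiset (p : ℕ) [Fact p.Prime] [CharP F p] (hn : 0 < n) (x : GL (Fin n) F)
    (k : ℕ) (hk : k.Coprime p) (hx : (x : Matrix (Fin n) (Fin n) F) ^ k = 1)
    (a : Fin n → F) (ha : ∀ i, a i ≠ 0) (hak : ∀ i, a i ^ k = 1)
    (hc : (x : Matrix (Fin n) (Fin n) F).charpoly = ∏ i, (X - C (a i)))
    (l : F) (hl : l ≠ 0)
    (hm : Finset.univ.val.map (fun i => a i / l)
      = Finset.univ.val.map (fun i => (sigQ hF (a i / l))⁻¹)) :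
    ∃ g ∈ Geo.specialLinear (Fin n) F, g⁻¹ * x * g ∈ Geo.similarityGroup (hermForm n F q) := by
  apply conj_mem_of_selfdual hF p hn x k hk hx l hl
  set D : Matrix (Fin n) (Fin n) F := Matrix.diagonal a with hD
  have hDk : D ^ k = 1 := by
    rw [hD, Matrix.diagonal_pow, ← Matrix.diagonal_one]
    congr 1
    funext i
    exact hak i
  have hxs := isSemisimple_toLin'_of_pow_eq_one p _ k hk hx
  have hDs := isSemisimple_toLin'_of_pow_eq_one p D k hk hDk
  have hcD : (x : Matrix (Fin n) (Fin n) F).charpoly = D.charpoly := by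
    rw [hc, hD, Matrix.charpoly_diagonal]
  obtain ⟨P, Q, hPQ, hQP, hPx⟩ := exists_matrix_conj_of_isSemisimple _ D hxs hDs hcD
  have hconj : l⁻¹ • (x : Matrix (Fin n) (Fin n) F) = Q * (l⁻¹ • D) * P := by
    rw [Matrix.mul_smul, Matrix.smul_mul, Matrix.mul_assoc, ← hPx, ← Matrix.mul_assoc, hQP,
      Matrix.one_mul]
  have hch : (l⁻¹ • (x : Matrix (Fin n) (Fin n) F)).charpoly = (l⁻¹ • D).charpoly := by
    rw [hconj]
    let U : (Matrix (Fin n) (Fin n) F)ˣ := ⟨Q, P, hQP, hPQ⟩
    have hU : (U : Matrix (Fin n) (Fin n) F) = Q := rfl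
    have hUi : ((U : Matrix (Fin n) (Fin n) F))⁻¹ = P := by
      rw [← Matrix.coe_units_inv]
      rfl
    have := Matrix.charpoly_units_conj U (l⁻¹ • D)
    rwa [hU, hUi] at this
  rw [hch, hD, charpoly_smul_diagonal, dual_prod_X_sub_C]
  · exact (prod_X_sub_C_congr _ _ hm).symm
  · intro i
    exact div_ne_zero (ha i) hl

end Cfsg.Agent.Lib.Helper1.GUS
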