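import Cfsg.Agent.Lib.Helper1.GUS5

set_option autoImplicit false
set_option linter.unusedSectionVars false
set_option linter.style.haveILetI false

/-! # S5982 support (6): derangements of odd prime order, split case -/

namespace Cfsg.Agent.Lib.Helper1.GUS

open Matrix Cfsg Polynomial Finset
open Cfsg.Agent.Lib.Helper6
open Cfsg.Agent.Lib.Helper14.HSemi (sigQ sigQ_apply)
open Cfsg.Agent.Lib.Helper14.HCount (dual dual_mul)
open Cfsg.Agent.Lib.Helper14.GUConj

universe u

variable {F : Type u} [Field F] [Fintype F] {q : ℕ} (hF : Fintype.card F = q ^ 2) {n : ℕ}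

/-- `r`-th roots of unity are fixed by `x ↦ x ^ q` when `r ∣ q - 1` -/
theorem sig_fix_of_pow (r : ℕ) (hrq : r ∣ q - 1) (w : F) (h : w ^ r = 1) : sigQ hF w = w := by
  have hq : 0 < q := by
    have := two_le_q hF
    omega
  obtain ⟨t, ht⟩ := hrq
  rw [sigQ_apply]
  have : q = r * t + 1 := by omega
  rw [this, pow_succ, pow_mul, h, one_pow, one_mul]

include hF in
/-- a primitive `r`-th root of unity -/
theorem exists_omega (r : ℕ) (hr : r.Prime) (hrq : r ∣ q - 1) :
    ∃ w : F, w ^ r = 1 ∧ w ≠ 1 := by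
  classical
  have hq : 2 ≤ q := two_le_q hF
  haveI : Fact r.Prime := ⟨hr⟩
  have hcard : r ∣ Fintype.card Fˣ := by
    rw [Fintype.card_units, hF]
    have h1 : q ^ 2 - 1 = (q + 1) * (q - 1) := by
      have := Nat.sq_sub_sq q 1
      rwa [one_pow] at this
    rw [h1]
    exact hrq.mul_left _
  obtain ⟨u, hu⟩ := exists_prime_orderOf_dvd_card r hcard
  refine ⟨(u : F), ?_, ?_⟩
  · rw [← Units.val_pow_eq_pow_val, ← hu, pow_orderOf_eq_one, Units.val_one]
  · intro h1
    have : u = 1 := Units.ext h1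
    rw [this, orderOf_one] at hu
    exact hr.one_lt.ne hu

theorem cons_replicate_inj {α : Type*} [DecidableEq α] (x y u v : α) (m : ℕ) (hm : 2 ≤ m)
    (h : x ::ₘ Multiset.replicate m u = y ::ₘ Multiset.replicate m v) : u = v ∧ x = y := by
  have huv : u = v := by
    by_contra hne
    have h1 := congrArg (Multiset.count u) h
    rw [Multiset.count_cons, Multiset.count_cons, Multiset.count_replicate_self,
      Multiset.count_replicate, if_neg (Ne.symm hne)] at h1
    split_ifs at h1 <;> omega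
  subst huv
  exact ⟨rfl, (Multiset.cons_inj_left _).mp h⟩

theorem univ_val_map_succ {α : Type*} (m : ℕ) (f : Fin (m + 1) → α) :
    (Finset.univ : Finset (Fin (m + 1))).val.map f
      = f 0 ::ₘ (Finset.univ : Finset (Fin m)).val.map (fun i => f i.succ) := by
  rw [Fin.univ_succ, Finset.cons_val, Multiset.map_cons, Finset.map_val, Multiset.map_map]
  rfl

theorem univ_val_map_const {α : Type*} (m : ℕ) (b : α) :
    (Finset.univ : Finset (Fin m)).val.map (fun _ => b) = Multiset.replicate m b := by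
  rw [Multiset.map_const', Finset.card_val, Finset.card_univ, Fintype.card_fin]

include hF in
/-- **Derangements, split case A.** -/
theorem exists_derangement_A (hn : 3 ≤ n) (r : ℕ) (hr : r.Prime) (hr2 : Odd r) (hrq : r ∣ q - 1)
    (w β : F) (hβr : β ^ r = 1) (hβ1 : β ≠ 1) (hw : w ^ n = β⁻¹) :
    ∃ x : GL (Fin n) F, x ∈ Geo.specialLinear (Fin n) F ∧
      (∃ z : F, ((x ^ r : GL (Fin n) F) : Matrix (Fin n) (Fin n) F)
        = z • (1 : Matrix (Fin n) (Fin n) F)) ∧
      ∀ g : GL (Fin n) F, g⁻¹ * x * g ∉ Geo.similarityGroup (hermForm n F q) := by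
  classical
  obtain ⟨m, rfl⟩ : ∃ m, n = m + 1 := ⟨n - 1, by omega⟩
  have hβ0 : β ≠ 0 := by
    rintro rfl
    rw [zero_pow hr.ne_zero] at hβr
    exact zero_ne_one hβr
  have hw0 : w ≠ 0 := by
    rintro rfl
    rw [zero_pow (by omega)] at hw
    exact inv_ne_zero hβ0 hw.symm
  set a : Fin (m + 1) → F := Fin.cons (w * β) (fun _ => w) with ha_def
  have ha0 : ∀ i, a i ≠ 0 := by
    intro i
    refine Fin.cases ?_ (fun j => ?_) i
    · rw [ha_def, Fin.cons_zero]; exact mul_ne_zero hw0 hβ0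
    · rw [ha_def, Fin.cons_succ]; exact hw0
  have hprod : ∏ i, a i = 1 := by
    rw [Fin.prod_univ_succ, ha_def]
    simp only [Fin.cons_zero, Fin.cons_succ, Finset.prod_const, Finset.card_univ, Fintype.card_fin]
    rw [mul_comm w β, mul_assoc, ← pow_succ', hw, mul_inv_cancel₀ hβ0]
  refine ⟨dgl a ha0, dgl_mem_sl a ha0 hprod, ⟨w ^ r, ?_⟩, ?_⟩
  · rw [dgl_pow, ← Matrix.diagonal_one, ← Matrix.diagonal_smul]
    congr 1
    funext i
    rw [Pi.smul_apply, smul_eq_mul, mul_one]
    refine Fin.cases ?_ (fun j => ?_) i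
    · rw [ha_def, Fin.cons_zero, mul_pow, hβr, mul_one]
    · rw [ha_def, Fin.cons_succ]
  · intro g hg
    obtain ⟨l, hl0, hm⟩ := multiset_of_conj_mem hF (by omega) a ha0 g hg
    rw [univ_val_map_succ, univ_val_map_succ] at hm
    simp only [ha_def, Fin.cons_zero, Fin.cons_succ] at hm
    rw [univ_val_map_const, univ_val_map_const] at hm
    obtain ⟨h1, h2⟩ := cons_replicate_inj _ _ _ _ m (by omega) hm
    have hσβ : sigQ hF β = β := sig_fix_of_pow hF r hrq β hβr
    have hwl : w / l ≠ 0 := div_ne_zero hw0 hl0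
    have h3 : w * β / l = (w / l) * β := by ring
    rw [h3, map_mul, hσβ, mul_inv, ← h1] at h2
    have h4 : β = β⁻¹ := mul_left_cancel₀ hwl h2
    have h5 : β * β = 1 := by
      nth_rewrite 2 [h4]
      exact mul_inv_cancel₀ hβ0
    obtain ⟨t, ht⟩ := hr2
    apply hβ1
    have h6 : β ^ r = β := by
      rw [ht, pow_succ, pow_mul, pow_two, h5, one_pow, one_mul]
    rw [← h6, hβr]

theorem B_multiset (t s w : F) (ht : t ≠ 0) (h1 : w ≠ 1) (h2 : w * w ≠ 1) (hw0 : w ≠ 0)
    (m : ℕ) (hm : 4 ≤ m)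
    (h : (w * t) ::ₘ (w * t) ::ₘ (w⁻¹ * w⁻¹ * t) ::ₘ Multiset.replicate m t
      = (s * w⁻¹) ::ₘ (s * w⁻¹) ::ₘ (s * (w * w)) ::ₘ Multiset.replicate m s) : False := by
  classical
  have hts : t = s := by
    by_contra hne
    have h3 := congrArg (Multiset.count t) h
    simp only [Multiset.count_cons, Multiset.count_replicate_self, Multiset.count_replicate,
      if_neg (Ne.symm hne)] at h3
    split_ifs at h3 <;> omega
  subst hts
  have h3 := congrArg (Multiset.count (w * t)) h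
  have e1 : w * t ≠ t * w⁻¹ := by
    intro h4
    apply h2
    have : w * w * t = t := by
      calc w * w * t = w * (w * t) := by ring
        _ = w * (t * w⁻¹) := by rw [h4]
        _ = t * (w * w⁻¹) := by ring
        _ = t := by rw [mul_inv_cancel₀ hw0, mul_one]
    have h5 : w * w * t = 1 * t := by rw [this, one_mul]
    exact mul_right_cancel₀ ht h5
  have e2 : w * t ≠ t * (w * w) := by
    intro h4
    apply h1
    have h5 : w * (w * t) = 1 * (w * t) := by rw [one_mul]; nth_rewrite 2 [h4]; ring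
    exact mul_right_cancel₀ (mul_ne_zero hw0 ht) h5
  have e3 : w * t ≠ t := by
    intro h4
    apply h1
    have h5 : w * t = 1 * t := by rw [h4, one_mul]
    exact mul_right_cancel₀ ht h5
  simp only [Multiset.count_cons, Multiset.count_replicate, if_true, if_neg e1, if_neg e2,
    if_neg (Ne.symm e3)] at h3
  split_ifs at h3 <;> omega

include hF in
/-- **Derangements, split case B.** -/
theorem exists_derangement_B (hn : 7 ≤ n) (r : ℕ) (hr : r.Prime) (hr2 : Odd r) (hrq : r ∣ q - 1)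
    (w : F) (hwr : w ^ r = 1) (hw1 : w ≠ 1) :
    ∃ x : GL (Fin n) F, x ∈ Geo.specialLinear (Fin n) F ∧
      (∃ z : F, ((x ^ r : GL (Fin n) F) : Matrix (Fin n) (Fin n) F)
        = z • (1 : Matrix (Fin n) (Fin n) F)) ∧
      ∀ g : GL (Fin n) F, g⁻¹ * x * g ∉ Geo.similarityGroup (hermForm n F q) := by
  classical
  obtain ⟨m, rfl⟩ : ∃ m, n = m + 1 + 1 + 1 := ⟨n - 3, by omega⟩
  have hw0 : w ≠ 0 := by
    rintro rfl
    rw [zero_pow hr.ne_zero] at hwr
    exact zero_ne_one hwr
  have hww : w * w ≠ 1 := by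
    intro h5
    obtain ⟨t, ht⟩ := hr2
    apply hw1
    have h6 : w ^ r = w := by
      rw [ht, pow_succ, pow_mul, pow_two, h5, one_pow, one_mul]
    rw [← h6, hwr]
  set a : Fin (m + 1 + 1 + 1) → F :=
    Fin.cons w (Fin.cons w (Fin.cons (w⁻¹ * w⁻¹) (fun _ => 1))) with ha_def
  have ha0 : ∀ i, a i ≠ 0 := by
    intro i
    refine Fin.cases ?_ (fun j => Fin.cases ?_ (fun j' => Fin.cases ?_ (fun j'' => ?_) j') j) i
    · rw [ha_def, Fin.cons_zero]; exact hw0
    · rw [ha_def, Fin.cons_succ, Fin.cons_zero]; exact hw0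
    · rw [ha_def, Fin.cons_succ, Fin.cons_succ, Fin.cons_zero]
      exact mul_ne_zero (inv_ne_zero hw0) (inv_ne_zero hw0)
    · rw [ha_def, Fin.cons_succ, Fin.cons_succ, Fin.cons_succ]; exact one_ne_zero
  have hprod : ∏ i, a i = 1 := by
    rw [Fin.prod_univ_succ, Fin.prod_univ_succ, Fin.prod_univ_succ, ha_def]
    simp only [Fin.cons_zero, Fin.cons_succ, Finset.prod_const_one, mul_one]
    field_simp
  have har : ∀ i, a i ^ r = 1 := by
    intro i
    refine Fin.cases ?_ (fun j => Fin.cases ?_ (fun j' => Fin.cases ?_ (fun j'' => ?_) j') j) i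
    · rw [ha_def, Fin.cons_zero]; exact hwr
    · rw [ha_def, Fin.cons_succ, Fin.cons_zero]; exact hwr
    · rw [ha_def, Fin.cons_succ, Fin.cons_succ, Fin.cons_zero, mul_pow, inv_pow, hwr, inv_one,
        one_mul]
    · rw [ha_def, Fin.cons_succ, Fin.cons_succ, Fin.cons_succ, one_pow]
  refine ⟨dgl a ha0, dgl_mem_sl a ha0 hprod, ⟨1, ?_⟩, ?_⟩
  · rw [dgl_pow, one_smul, ← Matrix.diagonal_one]
    congr 1
    funext i
    exact har i
  · intro g hg
    obtain ⟨l, hl0, hm⟩ := multiset_of_conj_mem hF (by omega) a ha0 g hg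
    rw [univ_val_map_succ, univ_val_map_succ, univ_val_map_succ, univ_val_map_succ,
      univ_val_map_succ, univ_val_map_succ] at hm
    simp only [ha_def, Fin.cons_zero, Fin.cons_succ] at hm
    rw [univ_val_map_const, univ_val_map_const] at hm
    have hσw : sigQ hF w = w := sig_fix_of_pow hF r hrq w hwr
    have hσl : sigQ hF l ≠ 0 := (map_ne_zero (sigQ hF)).mpr hl0
    have f1 : w / l = w * l⁻¹ := div_eq_mul_inv _ _
    have f2 : w⁻¹ * w⁻¹ / l = w⁻¹ * w⁻¹ * l⁻¹ := div_eq_mul_inv _ _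
    have f3 : (1 : F) / l = l⁻¹ := one_div _
    have g1 : (sigQ hF (w * l⁻¹))⁻¹ = sigQ hF l * w⁻¹ := by
      rw [map_mul, map_inv₀, hσw, mul_inv, inv_inv, mul_comm]
    have g2 : (sigQ hF (w⁻¹ * w⁻¹ * l⁻¹))⁻¹ = sigQ hF l * (w * w) := by
      rw [map_mul, map_mul, map_inv₀, map_inv₀, hσw, mul_inv, mul_inv, inv_inv, inv_inv, mul_comm]
    have g3 : (sigQ hF (l⁻¹))⁻¹ = sigQ hF l := by
      rw [map_inv₀, inv_inv]
    rw [f1, f2, f3, g1, g2, g3] at hm
    exact B_multiset l⁻¹ (sigQ hF l) w (inv_ne_zero hl0) hw1 hww hw0 m (by omega) hm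

end Cfsg.Agent.Lib.Helper1.GUS
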