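import Cfsg.Agent.Lib.Helper1.GUS6

set_option autoImplicit false
set_option linter.unusedSectionVars false
set_option linter.style.haveILetI false

/-! # S5982 support (7): characteristic polynomials of elements annihilated by a polynomial -/

namespace Cfsg.Agent.Lib.Helper1.GUS

open Matrix Cfsg Polynomial Finset UniqueFactorizationMonoid
open Cfsg.Agent.Lib.Helper14 (irreducible_dvd_minpoly_matrix)

universe u

variable {F : Type u} [Field F] [DecidableEq F] {n : ℕ}

theorem exists_fn_of_list {α : Type*} (l : List α) (n : ℕ) (h : l.length = n) :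
    ∃ a : Fin n → α, (Finset.univ : Finset (Fin n)).val.map a = (l : Multiset α) := by
  subst h
  refine ⟨fun i => l.get i, ?_⟩
  rw [Fin.univ_val_map, List.ofFn_get]

theorem exists_fn_of_multiset {α : Type*} (R : Multiset α) (n : ℕ) (h : Multiset.card R = n) :
    ∃ a : Fin n → α, (Finset.univ : Finset (Fin n)).val.map a = R := by
  obtain ⟨l, rfl⟩ := Quot.exists_rep R
  exact exists_fn_of_list l n h

/-- the normalized factors of the characteristic polynomial divide every annihilating polynomial -/
theorem factor_dvd_of_aeval (x : Matrix (Fin n) (Fin n) F) (G : F[X]) (hG : aeval x G = 0)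
    (f : F[X]) (hf : f ∈ normalizedFactors x.charpoly) : f ∣ G := by
  have h1 : Irreducible f := irreducible_of_normalized_factor f hf
  have h2 : f ∣ x.charpoly := dvd_of_mem_normalizedFactors hf
  exact (irreducible_dvd_minpoly_matrix x f h1 h2).trans (minpoly.dvd F x hG)

theorem charpoly_eq_prod_factors (x : Matrix (Fin n) (Fin n) F) :
    x.charpoly = (normalizedFactors x.charpoly).prod := by
  have h0 : x.charpoly ≠ 0 := (Matrix.charpoly_monic x).ne_zero
  have h1 := prod_normalizedFactors h0
  have hm : ((normalizedFactors x.charpoly).prod).Monic := by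
    apply Polynomial.monic_multiset_prod_of_monic
    intro f hf
    exact Polynomial.monic_normalize (irreducible_of_factor f hf).ne_zero
  exact (Polynomial.eq_of_monic_of_associated hm (Matrix.charpoly_monic x) h1).symm

/-- a matrix annihilated by an irreducible polynomial has a power of it as characteristic
polynomial -/
theorem charpoly_eq_pow (x : Matrix (Fin n) (Fin n) F) (P : F[X]) (hP : Irreducible P)
    (hPm : P.Monic) (h : aeval x P = 0) : ∃ k, x.charpoly = P ^ k := by
  refine ⟨Multiset.card (normalizedFactors x.charpoly), ?_⟩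
  have h1 : ∀ f ∈ normalizedFactors x.charpoly, f = P := by
    intro f hf
    have h2 := factor_dvd_of_aeval x P h f hf
    have h3 : Irreducible f := irreducible_of_normalized_factor f hf
    have h4 : Associated f P := h3.associated_of_dvd hP h2
    have h5 : f.Monic := by
      rw [← normalize_normalized_factor f hf]
      exact Polynomial.monic_normalize h3.ne_zero
    exact Polynomial.eq_of_monic_of_associated h5 hPm h4
  have h6 : normalizedFactors x.charpoly
      = Multiset.replicate (Multiset.card (normalizedFactors x.charpoly)) P :=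
    Multiset.eq_replicate.mpr ⟨rfl, h1⟩
  conv_lhs => rw [charpoly_eq_prod_factors x, h6, Multiset.prod_replicate]

/-- a matrix of order dividing `r`, over a field with a primitive `r`-th root of unity, has a split
characteristic polynomial with `r`-th roots of unity as roots -/
theorem charpoly_eq_prod_of_pow_eq_one (x : Matrix (Fin n) (Fin n) F) (r : ℕ) (hr : 0 < r)
    (w : F) (hw : IsPrimitiveRoot w r) (hx : x ^ r = 1) :
    ∃ a : Fin n → F, (∀ i, a i ^ r = 1) ∧ x.charpoly = ∏ i, (X - C (a i)) := by
  classical
  have hG : aeval x (X ^ r - 1 : F[X]) = 0 := by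
    rw [map_sub, map_pow, aeval_X, map_one, hx, sub_self]
  have hsp : (X ^ r - 1 : F[X]).Splits := by
    rw [X_pow_sub_one_eq_prod hr hw]
    exact Splits.prod (fun i _ => Splits.X_sub_C i)
  have hne : (X ^ r - 1 : F[X]) ≠ 0 := by
    have := monic_X_pow_sub_C (1 : F) hr.ne'
    rw [map_one] at this
    exact this.ne_zero
  have hcs : x.charpoly.Splits := by
    rw [charpoly_eq_prod_factors x]
    apply Splits.multisetProd
    intro f hf
    exact hsp.of_dvd hne (factor_dvd_of_aeval x _ hG f hf)
  have h1 := hcs.eq_prod_roots_of_monic (Matrix.charpoly_monic x)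
  have hcard : Multiset.card x.charpoly.roots = n := by
    rw [splits_iff_card_roots.mp hcs, Matrix.charpoly_natDegree_eq_dim, Fintype.card_fin]
  obtain ⟨a, ha⟩ := exists_fn_of_multiset x.charpoly.roots n hcard
  refine ⟨a, ?_, ?_⟩
  · intro i
    have hmem : a i ∈ x.charpoly.roots := by
      rw [← ha]
      exact Multiset.mem_map_of_mem a (Finset.mem_univ_val i)
    have hroot : (X - C (a i)) ∣ x.charpoly := by
      rw [dvd_iff_isRoot]
      exact (Polynomial.mem_roots (Matrix.charpoly_monic x).ne_zero).mp hmem
    have h2 : (X - C (a i)) ∣ (X ^ r - 1 : F[X]) :=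
      (irreducible_dvd_minpoly_matrix x _ (irreducible_X_sub_C (a i)) hroot).trans
        (minpoly.dvd F x hG)
    rw [dvd_iff_isRoot, IsRoot.def, eval_sub, eval_pow, eval_X, eval_one, sub_eq_zero] at h2
    exact h2
  · rw [h1, ← ha, Multiset.map_map]
    rfl

end Cfsg.Agent.Lib.Helper1.GUS
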