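import Cfsg.Agent.Lib.Helper1.GUS7

set_option autoImplicit false
set_option linter.unusedSectionVars false
set_option linter.style.haveILetI false

/-! # S5982 support (8): the exceptional cases `n = r ∈ {3, 5}` -/

namespace Cfsg.Agent.Lib.Helper1.GUS

open Matrix Cfsg Polynomial Finset
open Cfsg.Agent.Lib.Helper6
open Cfsg.Agent.Lib.Helper14.HSemi (sigQ sigQ_apply)
open Cfsg.Agent.Lib.Helper14.OrdCount (pow_eq_pow_iff_of_primitive)

universe u

theorem sym_check3 : ∀ e : Fin 3 → ZMod 3, ∑ i, e i = 0 →
    ∃ c : ZMod 3, ∀ v : ZMod 3,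
      (univ.filter (fun i => e i = v)).card = (univ.filter (fun i => e i = c - v)).card := by
  decide +kernel

set_option maxRecDepth 100000 in
theorem sym_check5 : ∀ e : Fin 5 → ZMod 5, ∑ i, e i = 0 →
    ∃ c : ZMod 5, ∀ v : ZMod 5,
      (univ.filter (fun i => e i = v)).card = (univ.filter (fun i => e i = c - v)).card := by
  decide +kernel

variable {F : Type u} [Field F]

/-- transfer of the symmetric-multiset check to roots of unity -/
theorem sym_of_check (r : ℕ) (hr : r.Prime) (w : F) (hw : IsPrimitiveRoot w r)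
    (hcheck : ∀ e : Fin r → ZMod r, ∑ i, e i = 0 → ∃ c : ZMod r, ∀ v : ZMod r,
      (univ.filter (fun i => e i = v)).card = (univ.filter (fun i => e i = c - v)).card)
    (a : Fin r → F) (har : ∀ i, a i ^ r = 1) (hprod : ∏ i, a i = 1) :
    ∃ c₀ : F, c₀ ^ r = 1 ∧
      (Finset.univ : Finset (Fin r)).val.map a
        = (Finset.univ : Finset (Fin r)).val.map (fun i => c₀ / a i) := by
  classical
  haveI : NeZero r := ⟨hr.ne_zero⟩
  have hrpos : 0 < r := hr.pos
  have hex : ∀ i, ∃ k : ℕ, k < r ∧ w ^ k = a i := fun i => hw.eq_pow_of_pow_eq_one (har i)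
  choose k hk hka using hex
  set e : Fin r → ZMod r := fun i => (k i : ZMod r) with he
  have hsum : ∑ i, e i = 0 := by
    have h1 : w ^ (∑ i, k i) = 1 := by
      rw [← Finset.prod_pow_eq_pow_sum]
      simp only [hka]
      exact hprod
    have h2 : r ∣ ∑ i, k i := hw.dvd_of_pow_eq_one _ h1
    rw [he]
    simp only
    rw [← Nat.cast_sum]
    exact (ZMod.natCast_eq_zero_iff _ _).mpr h2
  obtain ⟨c, hc⟩ := hcheck e hsum
  have hw0 : w ≠ 0 := hw.ne_zero hr.ne_zero
  have ha0 : ∀ i, a i ≠ 0 := by
    intro i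
    rw [← hka i]
    exact pow_ne_zero _ hw0
  have hwr : w ^ r = 1 := hw.pow_eq_one
  refine ⟨w ^ c.val, by rw [← pow_mul, mul_comm, pow_mul, hwr, one_pow], ?_⟩
  ext b
  rw [Multiset.count_map, Multiset.count_map, ← Finset.filter_val, ← Finset.filter_val,
    Finset.card_val, Finset.card_val]
  by_cases hb : b ^ r = 1
  · obtain ⟨v, hv, hvb⟩ := hw.eq_pow_of_pow_eq_one hb
    have h1 : (univ.filter (fun i => b = a i)) = univ.filter (fun i => e i = (v : ZMod r)) := by
      ext i
      simp only [Finset.mem_filter, Finset.mem_univ, true_and]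
      rw [← hvb, ← hka i, pow_eq_pow_iff_of_primitive hw hrpos, he]
      simp only
      rw [ZMod.natCast_eq_natCast_iff]
      exact ⟨fun h => h.symm, fun h => h.symm⟩
    have h2 : (univ.filter (fun i => b = w ^ c.val / a i))
        = univ.filter (fun i => e i = c - (v : ZMod r)) := by
      ext i
      simp only [Finset.mem_filter, Finset.mem_univ, true_and]
      rw [eq_div_iff (ha0 i), ← hvb, ← hka i, ← pow_add, pow_eq_pow_iff_of_primitive hw hrpos,
        he]
      simp only
      rw [← ZMod.natCast_eq_natCast_iff, Nat.cast_add, ZMod.natCast_zmod_val]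
      constructor
      · intro h; rw [← h]; ring
      · intro h; rw [h]; ring
    rw [h1, h2]
    exact hc v
  · have h1 : (univ.filter (fun i => b = a i)) = ∅ := by
      rw [Finset.filter_eq_empty_iff]
      intro i _ h
      exact hb (by rw [h]; exact har i)
    have h2 : (univ.filter (fun i => b = w ^ c.val / a i)) = ∅ := by
      rw [Finset.filter_eq_empty_iff]
      intro i _ h
      apply hb
      rw [h, div_pow, har i, div_one, ← pow_mul, mul_comm, pow_mul, hwr, one_pow]
    rw [h1, h2]

end Cfsg.Agent.Lib.Helper1.GUS
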