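import Cfsg.Agent.Lib.Helper1.GUS8
import Cfsg.Agent.Lib.Helper15.PSub4

set_option autoImplicit false
set_option linter.unusedSectionVars false
set_option linter.style.haveILetI false

/-! # S5982 support (9): the good exceptional cases `n = r ∈ {3, 5}`, `(q - 1)_r = r` -/

namespace Cfsg.Agent.Lib.Helper1.GUS

open Matrix Cfsg Polynomial Finset
open Cfsg.Agent.Lib.Helper6
open Cfsg.Agent.Lib.Helper14.HSemi (sigQ sigQ_apply)
open Cfsg.Agent.Lib.Helper14.GUConj

universe u

variable {F : Type u} [Field F] [Fintype F] {q : ℕ} (hF : Fintype.card F = q ^ 2) {n : ℕ}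

/-- determinant of a matrix with split characteristic polynomial -/
theorem det_of_charpoly_prod (x : Matrix (Fin n) (Fin n) F) (a : Fin n → F)
    (hc : x.charpoly = ∏ i, (X - C (a i))) : x.det = ∏ i, a i := by
  rw [Matrix.det_eq_sign_charpoly_coeff, hc, Polynomial.coeff_zero_eq_eval_zero,
    Polynomial.eval_prod, Fintype.card_fin]
  have h1 : ∀ i, Polynomial.eval 0 (X - C (a i)) = (-1) * a i := by
    intro i
    simp
  rw [Finset.prod_congr rfl (fun i _ => h1 i), Finset.prod_mul_distrib, Finset.prod_const,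
    Finset.card_univ, Fintype.card_fin, ← mul_assoc, ← pow_add]
  have : Even (n + n) := ⟨n, rfl⟩
  rw [this.neg_one_pow, one_mul]

theorem mem_sl_iff (x : GL (Fin n) F) :
    x ∈ Geo.specialLinear (Fin n) F ↔ (x : Matrix (Fin n) (Fin n) F).det = 1 := by
  unfold Geo.specialLinear
  rw [MonoidHom.mem_ker]
  constructor
  · intro h
    have := congrArg Units.val h
    rwa [Matrix.GeneralLinearGroup.val_det_apply, Units.val_one] at this
  · intro h
    apply Units.ext
    rw [Matrix.GeneralLinearGroup.val_det_apply, h, Units.val_one]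

/-- no element of order `r ^ 2` when `(q - 1)_r = r`, `r` odd -/
theorem not_sq_dvd (r : ℕ) (hr : r.Prime) (hr2 : r ≠ 2) (hv : padicValNat r (q - 1) = 1) :
    r ∣ q - 1 ∧ ¬ r ^ 2 ∣ q ^ 2 - 1 := by
  haveI : Fact r.Prime := ⟨hr⟩
  have hq1 : q - 1 ≠ 0 := by
    intro h
    rw [h] at hv
    simp at hv
  have hrq : r ∣ q - 1 := by
    have := (padicValNat_dvd_iff_le (p := r) hq1 (n := 1)).mpr (by omega)
    simpa using this
  refine ⟨hrq, ?_⟩
  have hnot2 : ¬ r ^ 2 ∣ q - 1 := by
    intro h
    have := (padicValNat_dvd_iff_le (p := r) hq1 (n := 2)).mp h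
    omega
  have hq1' : ¬ r ∣ q + 1 := by
    intro h
    have h2 : r ∣ 2 := by
      have := Nat.dvd_sub h hrq
      have e : q + 1 - (q - 1) = 2 := by omega
      rwa [e] at this
    have := Nat.le_of_dvd (by norm_num) h2
    have := hr.two_le
    omega
  have h1 : q ^ 2 - 1 = (q + 1) * (q - 1) := by
    have := Nat.sq_sub_sq q 1
    rwa [one_pow] at this
  rw [h1]
  intro h
  have hcop : Nat.Coprime (r ^ 2) (q + 1) :=
    Nat.Coprime.pow_left 2 ((Nat.Prime.coprime_iff_not_dvd hr).mpr hq1')
  exact hnot2 (hcop.dvd_of_dvd_mul_left h)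

include hF in
/-- the good exceptional case: every element of order `r` of `PSL_r` is conjugate into the
similarity group when `r ∈ {3, 5}` and `(q - 1)_r = r` -/
theorem good_special (p : ℕ) [Fact p.Prime] [CharP F p] (r : ℕ) (hr : r.Prime)
    (hr35 : r = 3 ∨ r = 5) (hrp : r ≠ p) (hv : padicValNat r (q - 1) = 1)
    (x : GL (Fin r) F) (hx : x ∈ Geo.specialLinear (Fin r) F)
    (hxr : ∃ z : F, ((x ^ r : GL (Fin r) F) : Matrix (Fin r) (Fin r) F)
      = z • (1 : Matrix (Fin r) (Fin r) F)) :
    ∃ g ∈ Geo.specialLinear (Fin r) F, g⁻¹ * x * g ∈ Geo.similarityGroup (hermForm r F q) := by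
  classical
  haveI : Fact r.Prime := ⟨hr⟩
  have hr2 : r ≠ 2 := by rcases hr35 with rfl | rfl <;> norm_num
  have hrodd : Odd r := hr.odd_of_ne_two hr2
  obtain ⟨hrq, hnsq⟩ := not_sq_dvd (q := q) r hr hr2 hv
  have hdet : (x : Matrix (Fin r) (Fin r) F).det = 1 := (mem_sl_iff x).mp hx
  obtain ⟨z, hz⟩ := hxr
  rw [Units.val_pow_eq_pow_val] at hz
  -- `z ^ r = 1`
  have hzr : z ^ r = 1 := by
    have h1 := congrArg Matrix.det hz
    rw [Matrix.det_pow, hdet, one_pow, Matrix.det_smul, Matrix.det_one, mul_one,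
      Fintype.card_fin] at h1
    exact h1.symm
  have hz0 : z ≠ 0 := by
    rintro rfl
    rw [zero_pow hr.ne_zero] at hzr
    exact zero_ne_one hzr
  -- `z = 1`
  have hz1 : z = 1 := by
    by_contra hne
    have hnp : ∀ b : F, b ^ r ≠ z := by
      intro b hb
      have hb0 : b ≠ 0 := by
        rintro rfl
        rw [zero_pow hr.ne_zero] at hb
        exact hz0 hb.symm
      have hord : orderOf (Units.mk0 b hb0) = r ^ (1 + 1) := by
        apply orderOf_eq_prime_pow
        · intro h
          apply hne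
          have := congrArg Units.val h
          rw [pow_one, Units.val_pow_eq_pow_val, Units.val_mk0, Units.val_one, hb] at this
          exact this
        · apply Units.ext
          rw [Units.val_pow_eq_pow_val, Units.val_mk0, Units.val_one, pow_succ, pow_one, pow_mul,
            hb, hzr]
      apply hnsq
      rw [← hord, ← hF, ← Fintype.card_units]
      exact orderOf_dvd_card
    have hlin : (Matrix.toLin' (x : Matrix (Fin r) (Fin r) F)) ^ r
        = z • (1 : (Fin r → F) →ₗ[F] (Fin r → F)) := by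
      rw [← Matrix.toLin'_pow, hz, map_smul, Matrix.toLin'_one]
      rfl
    have h2 := (Cfsg.Agent.Lib.Helper15.PSub.det_of_not_pow r hr z hnp _ hlin).2
    rw [LinearMap.det_toLin', hdet, Module.finrank_fin_fun, Nat.div_self hr.pos, pow_one,
      (Odd.add_one hrodd).neg_one_pow, one_mul] at h2
    exact hne h2.symm
  subst hz1
  rw [one_smul] at hz
  -- primitive root
  obtain ⟨w, hwr, hw1⟩ := exists_omega hF r hr hrq
  have hw : IsPrimitiveRoot w r := by
    rw [IsPrimitiveRoot.iff_orderOf]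
    exact orderOf_eq_prime hwr hw1
  obtain ⟨a, har, hc⟩ := charpoly_eq_prod_of_pow_eq_one (x : Matrix (Fin r) (Fin r) F) r hr.pos w
    hw hz
  have hprod : ∏ i, a i = 1 := by
    rw [← det_of_charpoly_prod _ a hc, hdet]
  have ha0 : ∀ i, a i ≠ 0 := by
    intro i h0
    have := har i
    rw [h0, zero_pow hr.ne_zero] at this
    exact zero_ne_one this
  have hcheck : ∀ e : Fin r → ZMod r, ∑ i, e i = 0 → ∃ c : ZMod r, ∀ v : ZMod r,
      (univ.filter (fun i => e i = v)).card = (univ.filter (fun i => e i = c - v)).card := by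
    rcases hr35 with rfl | rfl
    · exact sym_check3
    · exact sym_check5
  obtain ⟨c₀, hc₀r, hsym⟩ := sym_of_check r hr w hw hcheck a har hprod
  have hc₀0 : c₀ ≠ 0 := by
    rintro rfl
    rw [zero_pow hr.ne_zero] at hc₀r
    exact zero_ne_one hc₀r
  have hfix : sigQ hF c₀ = c₀ := sig_fix_of_pow hF r hrq c₀ hc₀r
  obtain ⟨l, hl⟩ := exists_norm (conjQ hF) (conjQ_ne_id hF) (conjQ_conjQ hF) c₀ hc₀0 hfix
  have hl' : l * sigQ hF l = c₀ := hl
  have hl0 : l ≠ 0 := by
    rintro rfl
    rw [zero_mul] at hl'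
    exact hc₀0 hl'.symm
  have hs0 : sigQ hF l ≠ 0 := (map_ne_zero (sigQ hF)).mpr hl0
  have hcop : r.Coprime p := (Nat.coprime_primes hr (Fact.out : p.Prime)).mpr hrp
  apply conj_mem_of_multiset hF p hr.pos x r hcop hz a ha0 har hc l hl0
  have h1 : (Finset.univ : Finset (Fin r)).val.map (fun i => a i / l)
      = ((Finset.univ : Finset (Fin r)).val.map a).map (fun t => t / l) := by
    rw [Multiset.map_map]
    rfl
  rw [h1, hsym, Multiset.map_map]
  apply Multiset.map_congr rfl
  intro i _
  simp only [Function.comp]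
  rw [map_div₀, sig_fix_of_pow hF r hrq (a i) (har i), inv_div, ← hl']
  field_simp

end Cfsg.Agent.Lib.Helper1.GUS
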