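import Mathlib
import Cfsg.Prelude.Def_KGroupFacts
import Cfsg.Agent.Lib.Helper9.StemTwoGen
import Cfsg.Agent.Lib.Helper17.Sz8S1

/-!
# S2046-[SD] + [SD'] (helper18's front): a semidihedral group of order 16 has trivial multiplier
-/

set_option autoImplicit false

namespace Cfsg.Agent.Lib.Helper18.HSMult

open Cfsg
open scoped commutatorElement

namespace Helper1

theorem zpowers_normal_of_gens {Λ : Type*} [Group Λ] [Finite Λ] (w : Λ) (X : Set Λ)
    (hX : Subgroup.closure X = ⊤) (h : ∀ x ∈ X, x * w * x⁻¹ ∈ Subgroup.zpowers w) :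
    (Subgroup.zpowers w).Normal := by
  rw [← Subgroup.normalizer_eq_top_iff, eq_top_iff, ← hX, Subgroup.closure_le]
  intro x hx
  apply Subgroup.mem_normalizer_fintype
  intro n hn
  obtain ⟨i, rfl⟩ := Subgroup.mem_zpowers_iff.mp hn
  rw [← conj_zpow]
  exact Subgroup.zpow_mem _ (h x hx) i

theorem commutator_le_of_gens {Λ : Type*} [Group Λ] (W : Subgroup Λ) [hW : W.Normal] (X : Set Λ)
    (hX : Subgroup.closure X = ⊤) (h : ∀ x ∈ X, ∀ y ∈ X, ⁅x, y⁆ ∈ W) : commutator Λ ≤ W := by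
  rw [commutator_def, Subgroup.commutator_le]
  intro g₁ _ g₂ _
  have h1 : g₁ ∈ Subgroup.closure X := hX ▸ Subgroup.mem_top g₁
  have h2 : g₂ ∈ Subgroup.closure X := hX ▸ Subgroup.mem_top g₂
  refine Subgroup.closure_induction₂ (p := fun x y _ _ => ⁅x, y⁆ ∈ W) ?_ ?_ ?_ ?_ ?_ ?_ ?_ h1 h2
  · intro x y hx hy; exact h x hx y hy
  · intro x _; rw [commutatorElement_one_left]; exact W.one_mem
  · intro x _; rw [commutatorElement_one_right]; exact W.one_mem
  · intro x y z _ _ _ hxz hyz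
    have e : ⁅x * y, z⁆ = x * ⁅y, z⁆ * x⁻¹ * ⁅x, z⁆ := by
      simp only [commutatorElement_def]; group
    rw [e]
    exact W.mul_mem (hW.conj_mem _ hyz x) hxz
  · intro y z x _ _ _ hxy hxz
    have e : ⁅x, y * z⁆ = ⁅x, y⁆ * (y * ⁅x, z⁆ * y⁻¹) := by
      simp only [commutatorElement_def]; group
    rw [e]
    exact W.mul_mem hxy (hW.conj_mem _ hxz y)
  · intro x y _ _ hxy
    have e : ⁅x⁻¹, y⁆ = x⁻¹ * ⁅x, y⁆⁻¹ * x⁻¹⁻¹ := by
      simp only [commutatorElement_def]; group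
    rw [e]
    exact hW.conj_mem _ (W.inv_mem hxy) x⁻¹
  · intro x y _ _ hxy
    have e : ⁅x, y⁻¹⁆ = y⁻¹ * ⁅x, y⁆⁻¹ * y⁻¹⁻¹ := by
      simp only [commutatorElement_def]; group
    rw [e]
    exact hW.conj_mem _ (W.inv_mem hxy) y⁻¹

end Helper1

/-- [SD] a semidihedral group of order 16 has trivial multiplier.  (`w = ⁅s̃,r̃⁆ = r̃²k`; `⟨w⟩` is normal with
abelian quotient, `s̃² ` central gives `r̃ = r̃⁹k⁴`, i.e. `w⁴ = 1`; `ker ≤ ⟨w⟩` and `τ (w^i) = r^(2i)`.) -/
theorem ker_eq_bot_of_sd16 {Λ S : Type*} [Group Λ] [Group S] [Finite Λ] (τ : Λ →* S)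
    (hτ : IsStemExtension τ) (r s : S) (hgen : Subgroup.closure {r, s} = ⊤) (hr8 : r ^ 8 = 1)
    (hr4 : r ^ 4 ≠ 1) (hs : s * s = 1) (hsr : s * r * s⁻¹ = r ^ 3) : τ.ker = ⊥ := by
  obtain ⟨hsurj, hcen, hcomm⟩ := hτ
  obtain ⟨R, hR⟩ := hsurj r
  obtain ⟨T, hT⟩ := hsurj s
  set k : Λ := (R ^ 3)⁻¹ * (T * R * T⁻¹) with hk
  have hkker : k ∈ τ.ker := by
    rw [MonoidHom.mem_ker, hk, map_mul, map_inv, map_pow, map_mul, map_mul, map_inv, hR, hT, hsr,
      inv_mul_cancel]
  have hkc : ∀ g : Λ, g * k = k * g := Subgroup.mem_center_iff.mp (hcen hkker)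
  have hkC : ∀ g : Λ, Commute g k := fun g => hkc g
  have hTR : T * R * T⁻¹ = R ^ 3 * k := by rw [hk, mul_inv_cancel_left]
  -- conjugation by `T` of `R ^ n * k`
  have hconj : ∀ n : ℕ, T * (R ^ n * k) * T⁻¹ = (R ^ 3 * k) ^ n * k := by
    intro n
    have e1 : T * (R ^ n * k) * T⁻¹ = T * R ^ n * T⁻¹ * k := by
      calc T * (R ^ n * k) * T⁻¹ = T * R ^ n * (k * T⁻¹) := by simp only [mul_assoc]
        _ = T * R ^ n * (T⁻¹ * k) := by rw [hkc T⁻¹]
        _ = T * R ^ n * T⁻¹ * k := by simp only [mul_assoc]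
    rw [e1, ← conj_pow, hTR]
  set w : Λ := R ^ 2 * k with hw
  have hRw : R * w * R⁻¹ = w := by
    rw [hw, ← mul_assoc, ← pow_succ', pow_succ, mul_assoc (R ^ 2), hkc R, ← mul_assoc,
      mul_inv_cancel_right]
  have hpow : ∀ a b : ℕ, (R ^ a * k) ^ b = R ^ (a * b) * k ^ b := by
    intro a b
    rw [((hkC R).pow_left a).mul_pow, pow_mul]
  have hTw : T * w * T⁻¹ = w ^ 3 := by
    rw [hw, hconj 2, hpow 3 2, hpow 2 3, mul_assoc, ← pow_succ]
  -- `T * T` is central
  have hTT : T * T ∈ τ.ker := by rw [MonoidHom.mem_ker, map_mul, hT, hs]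
  have hTTc : ∀ g : Λ, g * (T * T) = (T * T) * g := Subgroup.mem_center_iff.mp (hcen hTT)
  have hR9 : R = R ^ 9 * k ^ 4 := by
    have e1 : T * (T * R * T⁻¹) * T⁻¹ = R := by
      have : T * (T * R * T⁻¹) * T⁻¹ = (T * T) * R * (T * T)⁻¹ := by group
      rw [this, ← hTTc R, mul_inv_cancel_right]
    have e3 := hconj 3
    rw [← hTR, e1] at e3
    rw [hTR, hpow 3 3, mul_assoc, ← pow_succ] at e3
    exact e3
  have hw4 : w ^ 4 = 1 := by
    rw [hw, hpow 2 4]
    have e : R * (R ^ 8 * k ^ 4) = R * 1 := by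
      rw [← mul_assoc, ← pow_succ', mul_one]
      exact hR9.symm
    exact mul_left_cancel e
  -- generation
  have hXtop : Subgroup.closure ((τ.ker : Set Λ) ∪ {R, T}) = ⊤ := by
    rw [eq_top_iff]
    have h1 := Cfsg.Agent.Lib.Helper9.StemTwoGen.comap_le_closure τ r s R T hR hT
    rw [hgen, Subgroup.comap_top] at h1
    exact h1
  have hWn : (Subgroup.zpowers w).Normal := by
    apply Helper1.zpowers_normal_of_gens w _ hXtop
    intro x hx
    rcases hx with hx | hx | hx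
    · have hxc : ∀ g : Λ, g * x = x * g := Subgroup.mem_center_iff.mp (hcen hx)
      rw [← hxc w, mul_inv_cancel_right]
      exact Subgroup.mem_zpowers w
    · rw [hx, hRw]; exact Subgroup.mem_zpowers w
    · rw [Set.mem_singleton_iff] at hx
      rw [hx, hTw]; exact Subgroup.npow_mem_zpowers w 3
  have hTRw : ⁅T, R⁆ = w := by
    rw [commutatorElement_def, hTR, hw, pow_succ R 2, mul_assoc (R ^ 2), hkc R, ← mul_assoc,
      mul_inv_cancel_right]
  have hcomle : commutator Λ ≤ Subgroup.zpowers w := by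
    apply Helper1.commutator_le_of_gens _ _ hXtop
    have hcentral : ∀ x ∈ τ.ker, ∀ y : Λ, ⁅x, y⁆ = 1 ∧ ⁅y, x⁆ = 1 := by
      intro x hx y
      have hxc : ∀ g : Λ, g * x = x * g := Subgroup.mem_center_iff.mp (hcen hx)
      constructor
      · rw [commutatorElement_eq_one_iff_mul_comm]; exact (hxc y).symm
      · rw [commutatorElement_eq_one_iff_mul_comm]; exact hxc y
    intro x hx y hy
    rcases hx with hx | hx
    · rw [(hcentral x hx y).1]; exact Subgroup.one_mem _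
    rcases hy with hy | hy
    · rw [(hcentral y hy x).2]; exact Subgroup.one_mem _
    rcases hx with hx | hx <;> rcases hy with hy | hy
    · rw [hx, hy, commutatorElement_self]; exact Subgroup.one_mem _
    · rw [Set.mem_singleton_iff] at hy
      rw [hx, hy, ← commutatorElement_inv, hTRw]
      exact Subgroup.inv_mem _ (Subgroup.mem_zpowers w)
    · rw [Set.mem_singleton_iff] at hx
      rw [hx, hy, hTRw]; exact Subgroup.mem_zpowers w
    · rw [Set.mem_singleton_iff] at hx hy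
      rw [hx, hy, commutatorElement_self]; exact Subgroup.one_mem _
  -- the image of `w`
  have hτw : τ w = r ^ 2 := by
    rw [hw, map_mul, map_pow, hR, MonoidHom.mem_ker.mp hkker, mul_one]
  have hord : orderOf (r ^ 2) = 2 ^ (1 + 1) := by
    apply orderOf_eq_prime_pow
    · rw [← pow_mul]; exact hr4
    · rw [← pow_mul]; exact hr8
  rw [Subgroup.eq_bot_iff_forall]
  intro z hz
  obtain ⟨i, rfl⟩ := Subgroup.mem_zpowers_iff.mp (hcomle (hcomm hz))
  rw [MonoidHom.mem_ker, map_zpow, hτw] at hz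
  have hdvd : ((orderOf (r ^ 2) : ℕ) : ℤ) ∣ i := orderOf_dvd_iff_zpow_eq_one.mpr hz
  rw [hord] at hdvd
  obtain ⟨j, rfl⟩ := hdvd
  have h4 : ((2 ^ (1 + 1) : ℕ) : ℤ) = ((4 : ℕ) : ℤ) := by norm_num
  rw [h4, zpow_mul, zpow_natCast, hw4, one_zpow]

/-- [SD'] hence a group with a semidihedral subgroup of odd index has no stem extension with a non-trivial
`2`-group as kernel (`Cfsg.Agent.Lib.Helper7.Sz8.stem_restrict` of Lib/Helper17/Sz8S1) -/
theorem ker_eq_bot_of_sd16_odd_index {Λ U : Type*} [Group Λ] [Group U] [Finite Λ] (τ : Λ →* U)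
    (hτ : IsStemExtension τ) (h2 : IsPGroup 2 τ.ker) (r s : U) (hr8 : r ^ 8 = 1) (hr4 : r ^ 4 ≠ 1)
    (hs : s * s = 1) (hsr : s * r * s⁻¹ = r ^ 3) (hodd : Odd (Subgroup.closure {r, s}).index) :
    τ.ker = ⊥ := by
  set H : Subgroup U := Subgroup.closure {r, s} with hH
  have hstem := Cfsg.Agent.Lib.Helper7.Sz8.stem_restrict τ hτ h2 H hodd
  have hrH : r ∈ H := Subgroup.subset_closure (Set.mem_insert _ _)
  have hsH : s ∈ H := Subgroup.subset_closure (Set.mem_insert_of_mem _ rfl)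
  have hgen : Subgroup.closure {(⟨r, hrH⟩ : H), ⟨s, hsH⟩} = ⊤ := by
    have h0 := Subgroup.closure_closure_coe_preimage (k := ({r, s} : Set U))
    have hset : ((↑) : Subgroup.closure ({r, s} : Set U) → U) ⁻¹' ({r, s} : Set U) =
        {(⟨r, hrH⟩ : H), ⟨s, hsH⟩} := by
      ext x
      simp only [Set.mem_preimage, Set.mem_insert_iff, Set.mem_singleton_iff, Subtype.ext_iff]
    rw [hset] at h0
    exact h0
  have hker := ker_eq_bot_of_sd16 (τ.subgroupComap H) hstem ⟨r, hrH⟩ ⟨s, hsH⟩ hgen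
    (Subtype.ext (by simpa using hr8))
    (fun h => hr4 (by simpa using congrArg Subtype.val h))
    (Subtype.ext (by simpa using hs))
    (Subtype.ext (by simpa using hsr))
  rw [Subgroup.eq_bot_iff_forall]
  intro z hz
  have hzH : z ∈ H.comap τ := by
    rw [Subgroup.mem_comap, MonoidHom.mem_ker.mp hz]; exact H.one_mem
  have hz' : (⟨z, hzH⟩ : H.comap τ) ∈ (τ.subgroupComap H).ker := by
    rw [MonoidHom.mem_ker]
    apply Subtype.ext
    show τ z = 1
    exact MonoidHom.mem_ker.mp hz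
  rw [hker, Subgroup.mem_bot] at hz'
  exact congrArg Subtype.val hz'

end Cfsg.Agent.Lib.Helper18.HSMult
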