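import Mathlib
import Cfsg.Agent.Lib.Helper1.SZ

/-!
Wielandt: G = H1H2 = H1H3 with solvable factors and coprime indices of H2, H3 is solvable.
-/

set_option autoImplicit false

open Subgroup
open Pointwise

namespace Cfsg.Agent.Lib.Helper1

universe u

variable {G : Type u} [Group G]

theorem exists_conj_mem_of_isPGroup_of_not_dvd_index {p : ℕ} [Fact p.Prime] [Finite G]
    (M K : Subgroup G) (hM : IsPGroup p M) (hK : ¬ p ∣ K.index) :
    ∃ g : G, ∀ m ∈ M, g⁻¹ * m * g ∈ K := by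
  obtain ⟨a, ha⟩ := hM.nonempty_fixed_point_of_prime_not_dvd_card (G ⧸ K) (by
    rwa [← Subgroup.index_eq_card])
  induction a using QuotientGroup.induction_on with | _ g => ?_
  refine ⟨g, fun m hm => ?_⟩
  have h1 := ha ⟨m, hm⟩
  have h2 : ((m * g : G) : G ⧸ K) = (g : G ⧸ K) := h1
  rw [QuotientGroup.eq] at h2
  have h3 := K.inv_mem h2
  have h4 : ((m * g)⁻¹ * g)⁻¹ = g⁻¹ * m * g := by group
  rwa [h4] at h3

theorem three_solvable_aux : ∀ (n : ℕ) (G : Type u) [Group G] [Finite G], Nat.card G = n →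
    ∀ H₁ H₂ H₃ : Subgroup G, Group.IsSolvable H₁ → Group.IsSolvable H₂ → Group.IsSolvable H₃ →
    (∀ g : G, ∃ x ∈ H₁, ∃ y ∈ H₂, g = x * y) → (∀ g : G, ∃ x ∈ H₁, ∃ y ∈ H₃, g = x * y) →
    H₂.index.Coprime H₃.index → Group.IsSolvable G := by
  intro n
  induction n using Nat.strong_induction_on with
  | _ n ih =>
  intro G _ _ hn H₁ H₂ H₃ h₁ h₂ h₃ h12 h13 hcop
  by_cases hbot : H₁ = ⊥
  · have hsurj : Function.Surjective H₂.subtype := by
      intro g
      obtain ⟨x, hx, y, hy, rfl⟩ := h12 g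
      rw [hbot, Subgroup.mem_bot] at hx
      exact ⟨⟨y, hy⟩, by simp [hx]⟩
    exact Group.isSolvable_of_surjective hsurj
  have hH1nt : Nontrivial H₁ := (Subgroup.nontrivial_iff_ne_bot H₁).mpr hbot
  have htop : (⊤ : Subgroup H₁) ≠ ⊥ := top_ne_bot
  obtain ⟨p, hp, M', hM'n, -, hM'ne, -, hM'p⟩ :=
    exists_normal_elementary_abelian_le (G := H₁) _ ⊤ rfl htop inferInstance
  have : Fact p.Prime := ⟨hp⟩
  have hMp : IsPGroup p (M'.map H₁.subtype) := by
    rintro ⟨_, m, hm, rfl⟩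
    refine ⟨1, ?_⟩
    rw [pow_one]
    apply Subtype.ext
    have := hM'p m hm
    simpa using congrArg Subtype.val this
  have hMnorm : ∀ h ∈ H₁, ∀ m ∈ M'.map H₁.subtype, h * m * h⁻¹ ∈ M'.map H₁.subtype := by
    rintro h hh _ ⟨m, hm, rfl⟩
    exact ⟨⟨h, hh⟩ * m * ⟨h, hh⟩⁻¹, hM'n.conj_mem m hm ⟨h, hh⟩, by simp⟩
  have hMne : M'.map H₁.subtype ≠ ⊥ := by
    rw [Ne, Subgroup.map_eq_bot_iff_of_injective _ H₁.subtype_injective]; exact hM'ne
  -- key claim
  have key : ∀ K : Subgroup G, Group.IsSolvable K → (∀ g : G, ∃ x ∈ H₁, ∃ y ∈ K, g = x * y) →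
      ¬ p ∣ K.index → ∃ N : Subgroup G, N.Normal ∧ N ≠ ⊥ ∧ Group.IsSolvable N := by
    intro K hKs hHK hpK
    obtain ⟨g, hg⟩ := exists_conj_mem_of_isPGroup_of_not_dvd_index _ K hMp hpK
    have hMK : M'.map H₁.subtype ≤ K := by
      obtain ⟨x, hx, y, hy, rfl⟩ := hHK g
      intro m hm
      have h1 := hg (x * m * x⁻¹) (hMnorm x hx m hm)
      have h2 : (x * y)⁻¹ * (x * m * x⁻¹) * (x * y) = y⁻¹ * m * y := by group
      rw [h2] at h1
      have h3 := K.mul_mem (K.mul_mem hy h1) (K.inv_mem hy)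
      have h4 : y * (y⁻¹ * m * y) * y⁻¹ = m := by group
      rwa [h4] at h3
    have hcore : M'.map H₁.subtype ≤ K.normalCore := by
      intro m hm b
      obtain ⟨x, hx, y, hy, hb⟩ := hHK b⁻¹
      have hb' : b = y⁻¹ * x⁻¹ := by
        rw [← mul_inv_rev, ← hb, inv_inv]
      rw [hb']
      have h1 := hMK (hMnorm x⁻¹ (H₁.inv_mem hx) m hm)
      have h2 := K.mul_mem (K.mul_mem (K.inv_mem hy) h1) hy
      have h3 : y⁻¹ * (x⁻¹ * m * x⁻¹⁻¹) * y = y⁻¹ * x⁻¹ * m * (y⁻¹ * x⁻¹)⁻¹ := by group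
      rwa [h3] at h2
    refine ⟨K.normalCore, inferInstance, ?_, ?_⟩
    · intro h
      rw [h, le_bot_iff] at hcore
      exact hMne hcore
    · exact Group.isSolvable_of_isSolvable_injective (Subgroup.inclusion_injective K.normalCore_le)
  have hN : ∃ N : Subgroup G, N.Normal ∧ N ≠ ⊥ ∧ Group.IsSolvable N := by
    by_cases hp2 : p ∣ H₂.index
    · have hp3 : ¬ p ∣ H₃.index := by
        intro hp3
        exact hp.one_lt.ne' (Nat.eq_one_of_dvd_coprimes hcop hp2 hp3)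
      exact key H₃ h₃ h13 hp3
    · exact key H₂ h₂ h12 hp2
  obtain ⟨N, hNn, hNne, hNs⟩ := hN
  have hQlt : Nat.card (G ⧸ N) < n := by
    rw [← hn]; exact card_quotient_lt_of_ne_bot hNne
  have hmapsolv : ∀ H : Subgroup G, Group.IsSolvable H →
      Group.IsSolvable (H.map (QuotientGroup.mk' N)) := by
    intro H hH
    exact Group.isSolvable_of_surjective ((QuotientGroup.mk' N).subgroupMap_surjective H)
  have hmapfac : ∀ H K : Subgroup G, (∀ g : G, ∃ x ∈ H, ∃ y ∈ K, g = x * y) →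
      ∀ g : G ⧸ N, ∃ x ∈ H.map (QuotientGroup.mk' N), ∃ y ∈ K.map (QuotientGroup.mk' N),
        g = x * y := by
    intro H K hHK g
    induction g using QuotientGroup.induction_on with | _ g => ?_
    obtain ⟨x, hx, y, hy, rfl⟩ := hHK g
    exact ⟨_, Subgroup.mem_map_of_mem _ hx, _, Subgroup.mem_map_of_mem _ hy, rfl⟩
  have hQs : Group.IsSolvable (G ⧸ N) :=
    ih _ hQlt (G ⧸ N) rfl (H₁.map (QuotientGroup.mk' N)) (H₂.map (QuotientGroup.mk' N))
      (H₃.map (QuotientGroup.mk' N)) (hmapsolv _ h₁) (hmapsolv _ h₂) (hmapsolv _ h₃)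
      (hmapfac _ _ h12) (hmapfac _ _ h13)
      (Nat.Coprime.coprime_dvd_left (Subgroup.index_map_dvd H₂ (QuotientGroup.mk'_surjective N))
        (Nat.Coprime.coprime_dvd_right
          (Subgroup.index_map_dvd H₃ (QuotientGroup.mk'_surjective N)) hcop))
  exact Group.isSolvable_of_ker_le_range N.subtype
    (QuotientGroup.mk' N) (by rw [QuotientGroup.ker_mk', Subgroup.range_subtype])

end Cfsg.Agent.Lib.Helper1
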