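import Mathlib
import Cfsg.Prelude.Def_HallClasses
import Cfsg.Agent.Lib.Helper1.ThreeSolvable
import Cfsg.Agent.Lib.Helper4.MinNormal
import Cfsg.Agent.Lib.Helper2.BurnsidePQ

/-!
# Hall properties holding universally (helper1 library, for S3878)

`E_π` (resp. `D_π`) holds in every finite group iff `π` contains at most one prime or all primes.
Counterexamples: `S_s`, `A_{r+1}`, `S_q` (the last via Burnside's `p^a q^b` theorem).
-/

set_option autoImplicit false
set_option linter.style.haveILetI false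

namespace Cfsg.Agent.Lib.Helper1.HallUniversal

open Equiv Equiv.Perm Subgroup

/-- An element of `ℓ`-power order can be conjugated into a subgroup of index prime to `ℓ`. -/
theorem exists_conj_mem_of_pow_eq_one {G : Type*} [Group G] [Finite G] {ℓ : ℕ} [Fact ℓ.Prime]
    (H : Subgroup G) (hH : ¬ ℓ ∣ H.index) (g : G) (k : ℕ) (hg : g ^ ℓ ^ k = 1) :
    ∃ x : G, x * g * x⁻¹ ∈ H := by
  have hP : IsPGroup ℓ (zpowers g) := by
    rintro ⟨y, hy⟩
    obtain ⟨n, rfl⟩ := Subgroup.mem_zpowers_iff.mp hy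
    refine ⟨k, Subtype.ext ?_⟩
    simp only [SubmonoidClass.mk_pow, OneMemClass.coe_one]
    rw [← zpow_natCast, ← zpow_mul, mul_comm, zpow_mul, zpow_natCast, hg, one_zpow]
  obtain ⟨x, hx⟩ := Cfsg.Agent.Lib.Helper1.exists_conj_mem_of_isPGroup_of_not_dvd_index
    (zpowers g) H hP hH
  refine ⟨x⁻¹, ?_⟩
  have := hx g (mem_zpowers g)
  simpa using this

/-- A subgroup of `S_s` (`s` prime) of index prime to `2` and to `s` is everything. -/
theorem perm_prime_eq_top {s : ℕ} (hs : s.Prime) (H : Subgroup (Perm (Fin s)))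
    (h2 : ¬ 2 ∣ H.index) (hsi : ¬ s ∣ H.index) : H = ⊤ := by
  have : Fact s.Prime := ⟨hs⟩
  have : Fact (Nat.Prime 2) := ⟨Nat.prime_two⟩
  have hs2 : 2 ≤ s := hs.two_le
  obtain ⟨n, rfl⟩ : ∃ n, s = n + 2 := ⟨s - 2, by omega⟩
  -- the swap
  let a : Fin (n + 2) := 0
  let b : Fin (n + 2) := 1
  have hab : a ≠ b := by
    simp [a, b]
  have hτ : (swap a b) ^ 2 ^ 1 = 1 := by
    rw [pow_one, pow_two, swap_mul_self]
  obtain ⟨x, hx⟩ := exists_conj_mem_of_pow_eq_one H h2 (swap a b) 1 hτ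
  have hswap : IsSwap (x * swap a b * x⁻¹) := by
    rw [← card_support_eq_two, card_support_conj, card_support_eq_two]
    exact ⟨a, b, hab, rfl⟩
  -- the cycle
  have hσ : (finRotate (n + 2)) ^ (n + 2) ^ 1 = 1 := by
    rw [pow_one]
    have h1 : orderOf (finRotate (n + 2)) = n + 2 := by
      rw [isCycle_finRotate.orderOf, support_finRotate, Finset.card_univ, Fintype.card_fin]
    have h2 := pow_orderOf_eq_one (finRotate (n + 2))
    rwa [h1] at h2
  obtain ⟨y, hy⟩ := exists_conj_mem_of_pow_eq_one H hsi (finRotate (n + 2)) 1 hσ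
  have hcyc : IsCycle (y * finRotate (n + 2) * y⁻¹) := isCycle_finRotate.conj
  have hsupp : (y * finRotate (n + 2) * y⁻¹).support = Finset.univ := by
    apply Finset.eq_univ_of_card
    rw [card_support_conj, support_finRotate, Finset.card_univ]
  have hcl := closure_prime_cycle_swap (by rwa [Fintype.card_fin]) hcyc hsupp hswap
  rw [eq_top_iff, ← hcl, closure_le]
  intro z hz
  rcases hz with rfl | rfl
  · exact hy
  · exact hx

/-- A finite simple group embeds in the symmetric group on the cosets of a proper subgroup. -/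
theorem card_le_factorial_index_of_simple {G : Type*} [Group G] [Finite G] [IsSimpleGroup G]
    (H : Subgroup G) (hH : H ≠ ⊤) : Nat.card G ≤ (H.index).factorial := by
  classical
  have hker : (MulAction.toPermHom G (G ⧸ H)).ker = ⊥ := by
    rcases (MulAction.toPermHom G (G ⧸ H)).normal_ker.eq_bot_or_eq_top with h | h
    · exact h
    · exfalso
      apply hH
      rw [eq_top_iff, ← h, ← Subgroup.normalCore_eq_ker]
      exact Subgroup.normalCore_le H
  have hinj : Function.Injective (MulAction.toPermHom G (G ⧸ H)) :=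
    (MonoidHom.ker_eq_bot_iff _).mp hker
  haveI : Fintype (G ⧸ H) := Fintype.ofFinite _
  have h1 := Nat.card_le_card_of_injective _ hinj
  rw [Nat.card_perm] at h1
  rwa [Subgroup.index_eq_card]

theorem alt_index_ne {r : ℕ} (hr : 2 ≤ r) (H : Subgroup (alternatingGroup (Fin (r + 1))))
    (h5 : 5 ≤ r + 1) (hH : H ≠ ⊤) : H.index ≠ r := by
  intro hidx
  haveI : IsSimpleGroup (alternatingGroup (Fin (r + 1))) :=
    alternatingGroup.isSimpleGroup (by simpa using h5)
  have h1 := card_le_factorial_index_of_simple H hH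
  rw [hidx] at h1
  have h2 : 2 * Nat.card (alternatingGroup (Fin (r + 1))) = (r + 1).factorial := by
    haveI : Nontrivial (Fin (r + 1)) := Fin.nontrivial_iff_two_le.mpr (by omega)
    rw [Nat.card_eq_fintype_card, two_mul_card_alternatingGroup, Fintype.card_perm,
      Fintype.card_fin]
  rw [Nat.factorial_succ] at h2
  have h3 : 0 < r.factorial := Nat.factorial_pos r
  nlinarith


/-- an element of prime order `q` of `S_q` is a `q`-cycle with full support -/
theorem full_cycle_of_orderOf {q : ℕ} (hq : q.Prime) (ν : Perm (Fin q)) (hν : orderOf ν = q) :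
    IsCycle ν ∧ ∀ z, ν z ≠ z := by
  have hc : IsCycle ν := isCycle_of_prime_order'' (by rwa [Fintype.card_fin]) (by
    rw [hν, Fintype.card_fin])
  refine ⟨hc, fun z => ?_⟩
  have h1 : ν.support = Finset.univ := by
    apply Finset.eq_univ_of_card
    rw [← hc.orderOf, hν, Fintype.card_fin]
  rw [← mem_support, h1]
  exact Finset.mem_univ z

/-- A solvable subgroup of `S_q` (`q` prime) of index prime to `q` contains no non-identity
element with two fixed points. -/
theorem perm_prime_solvable_false {q : ℕ} (hq : q.Prime) (H : Subgroup (Perm (Fin q)))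
    (hsolv : Group.IsSolvable H) (hqi : ¬ q ∣ H.index) (τ : Perm (Fin q)) (hτH : τ ∈ H)
    (hτ1 : τ ≠ 1) (x y : Fin q) (hxy : x ≠ y) (hx : τ x = x) (hy : τ y = y) : False := by
  have : Fact q.Prime := ⟨hq⟩
  haveI := hsolv
  have hq2 : 2 ≤ q := hq.two_le
  -- a full cycle in `H`
  have hσ0 : orderOf (finRotate q) = q := by
    rw [(isCycle_finRotate_of_le hq2).orderOf, support_finRotate_of_le hq2, Finset.card_univ,
      Fintype.card_fin]
  have hσ0' : (finRotate q) ^ q ^ 1 = 1 := by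
    rw [pow_one]
    have h2 := pow_orderOf_eq_one (finRotate q)
    rwa [hσ0] at h2
  obtain ⟨c, hc⟩ := exists_conj_mem_of_pow_eq_one H hqi (finRotate q) 1 hσ0'
  set σ := c * finRotate q * c⁻¹ with hσdef
  have hσord : orderOf σ = q := by
    have h := MulEquiv.orderOf_eq (MulAut.conj c) (finRotate q)
    rw [MulAut.conj_apply] at h
    exact h.trans hσ0
  obtain ⟨hσc, hσs⟩ := full_cycle_of_orderOf hq σ hσord
  -- `H` is transitive
  have htrans : ∀ u v : Fin q, ∃ h ∈ H, h u = v := by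
    intro u v
    obtain ⟨i, hi⟩ := hσc.exists_pow_eq (hσs u) (hσs v)
    exact ⟨σ ^ i, H.pow_mem hc i, hi⟩
  -- minimal normal subgroup
  have hnt : Nontrivial H := by
    refine ⟨⟨⟨σ, hc⟩, 1, ?_⟩⟩
    intro h
    have h1 : σ = 1 := congrArg Subtype.val h
    have := hσs x
    rw [h1] at this
    exact this rfl
  obtain ⟨N, hN⟩ := Cfsg.Agent.Lib.Helper4.exists_minNormal (G := H)
  have hNab := hN.le_centralizer
  obtain ⟨ℓ, hℓ, hNℓ⟩ := hN.exists_isPGroup hNab
  obtain ⟨hNn, hNne, -⟩ := hN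
  have : Fact ℓ.Prime := ⟨hℓ⟩
  -- elements of N as permutations
  have hconj : ∀ h ∈ H, ∀ n : H, n ∈ N → ∃ n' : H, n' ∈ N ∧ (n' : Perm (Fin q)) = h * n * h⁻¹ := by
    intro h hh n hn
    exact ⟨⟨h, hh⟩ * n * ⟨h, hh⟩⁻¹, hNn.conj_mem n hn ⟨h, hh⟩, rfl⟩
  have hcomm : ∀ n m : H, n ∈ N → m ∈ N → (n : Perm (Fin q)) * m = m * n := by
    intro n m hn hm
    have := Subgroup.mem_centralizer_iff.mp (hNab hn) m hm
    have h2 := congrArg Subtype.val this
    simpa using h2.symm
  -- if an element of `N` fixes a point it is trivial, given a point-transitive subset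
  -- Step: ℓ = q
  have hℓq : ℓ = q := by
    by_contra hne
    have hnd : ¬ ℓ ∣ Nat.card (Fin q) := by
      rw [Nat.card_eq_fintype_card, Fintype.card_fin]
      intro hd
      exact hne ((Nat.prime_dvd_prime_iff_eq hℓ hq).mp hd)
    obtain ⟨z0, hz0⟩ := hNℓ.nonempty_fixed_point_of_prime_not_dvd_card (Fin q) hnd
    apply hNne
    rw [eq_bot_iff]
    intro n hn
    rw [Subgroup.mem_bot]
    apply Subtype.ext
    ext z
    obtain ⟨h, hh, hhz⟩ := htrans z0 z
    obtain ⟨n', hn', hn'eq⟩ := hconj h⁻¹ (H.inv_mem hh) n hn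
    have h1 : (n' : Perm (Fin q)) z0 = z0 := hz0 ⟨n', hn'⟩
    rw [hn'eq] at h1
    simp only [inv_inv, Perm.coe_mul, Function.comp_apply, hhz] at h1
    have h2 := congrArg h h1
    rw [hhz] at h2
    simpa using congrArg Fin.val h2
  subst hℓq
  -- an element of order ℓ in N
  have hcard : ℓ ∣ Nat.card N := by
    rcases hNℓ.card_eq_or_dvd with h | h
    · exfalso
      apply hNne
      exact Subgroup.eq_bot_of_card_eq N h
    · exact h
  obtain ⟨ν, hν⟩ := exists_prime_orderOf_dvd_card' ℓ hcard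
  have hνord : orderOf ((ν : H) : Perm (Fin ℓ)) = ℓ := by
    rw [Subgroup.orderOf_coe, Subgroup.orderOf_coe, hν]
  obtain ⟨hνc, hνs⟩ := full_cycle_of_orderOf hq _ hνord
  -- freeness of N
  have hfree : ∀ n : H, n ∈ N → ∀ u : Fin ℓ, (n : Perm (Fin ℓ)) u = u → (n : Perm (Fin ℓ)) = 1 := by
    intro n hn u hu
    ext z
    obtain ⟨i, hi⟩ := hνc.exists_pow_eq (hνs u) (hνs z)
    have hνi : ((ν : H) ^ i : H) ∈ N := N.pow_mem ν.2 i
    have h1 := hcomm n ((ν : H) ^ i) hn hνi
    have h2 : ((n : Perm (Fin ℓ)) * (((ν : H) ^ i : H) : Perm (Fin ℓ))) u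
        = ((((ν : H) ^ i : H) : Perm (Fin ℓ)) * n) u := by rw [h1]
    simp only [Perm.coe_mul, Function.comp_apply, hu, SubgroupClass.coe_pow, hi] at h2
    simpa using congrArg Fin.val h2
  -- the final contradiction
  obtain ⟨i, hi⟩ := hνc.exists_pow_eq (hνs x) (hνs y)
  set ρH : H := (ν : H) ^ i with hρH
  have hρN : ρH ∈ N := N.pow_mem ν.2 i
  have hρx : (ρH : Perm (Fin ℓ)) x = y := by
    rw [hρH]; simpa using hi
  obtain ⟨ρ', hρ'N, hρ'eq⟩ := hconj τ hτH ρH hρN
  have hρ'x : (ρ' : Perm (Fin ℓ)) x = y := by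
    rw [hρ'eq]
    have hx' : τ⁻¹ x = x := by
      rw [Perm.inv_eq_iff_eq]; exact hx.symm
    simp only [Perm.coe_mul, Function.comp_apply, hx', hρx, hy]
  have hq1 : ((ρH⁻¹ * ρ' : H) : Perm (Fin ℓ)) = 1 := by
    apply hfree _ (N.mul_mem (N.inv_mem hρN) hρ'N) x
    simp only [Subgroup.coe_mul, Subgroup.coe_inv, Perm.coe_mul, Function.comp_apply, hρ'x]
    rw [Perm.inv_eq_iff_eq]; exact hρx.symm
  have hρeq : (ρ' : Perm (Fin ℓ)) = ρH := by
    have : ρH⁻¹ * ρ' = 1 := Subtype.ext hq1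
    have h3 : ρ' = ρH := by
      rw [inv_mul_eq_one] at this; exact this.symm
    rw [h3]
  have hτρ : τ * (ρH : Perm (Fin ℓ)) = ρH * τ := by
    have h6 : (ρH : Perm (Fin ℓ)) = τ * ρH * τ⁻¹ := hρeq.symm.trans hρ'eq
    calc τ * (ρH : Perm (Fin ℓ)) = τ * ρH * τ⁻¹ * τ := by group
      _ = ρH * τ := by rw [← h6]
  -- ρ is a full cycle
  have hρ1 : (ρH : Perm (Fin ℓ)) ≠ 1 := by
    intro h
    rw [h] at hρx
    exact hxy hρx
  have hρord : orderOf (ρH : Perm (Fin ℓ)) = ℓ := by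
    apply orderOf_eq_prime _ hρ1
    rw [hρH]
    simp only [SubgroupClass.coe_pow]
    rw [← pow_mul, mul_comm, pow_mul]
    have h5 := pow_orderOf_eq_one (((ν : H) : Perm (Fin ℓ)))
    rw [hνord] at h5
    rw [h5, one_pow]
  obtain ⟨hρc, hρs⟩ := full_cycle_of_orderOf hq _ hρord
  apply hτ1
  ext z
  obtain ⟨j, hj⟩ := hρc.exists_pow_eq (hρs x) (hρs z)
  have hcomm2 : τ * (ρH : Perm (Fin ℓ)) ^ j = (ρH : Perm (Fin ℓ)) ^ j * τ := by
    have : Commute τ (ρH : Perm (Fin ℓ)) := hτρ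
    exact (this.pow_right j).eq
  have h4 : (τ * (ρH : Perm (Fin ℓ)) ^ j) x = ((ρH : Perm (Fin ℓ)) ^ j * τ) x := by rw [hcomm2]
  simp only [Perm.coe_mul, Function.comp_apply, hx, hj] at h4
  simpa using congrArg Fin.val h4


/-- The "trivial" sets of primes: at most one prime, or all primes. -/
def Triv (π : Set ℕ) : Prop :=
  (∀ p q : ℕ, p.Prime → q.Prime → p ∈ π → q ∈ π → p = q) ∨ ∀ p : ℕ, p.Prime → p ∈ π

theorem exists_eq_pow_mul_pow (p q : ℕ) :
    ∀ n : ℕ, n ≠ 0 → (∀ ℓ : ℕ, ℓ.Prime → ℓ ∣ n → ℓ = p ∨ ℓ = q) → ∃ a b : ℕ, n = p ^ a * q ^ b := by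
  intro n
  induction n using Nat.strong_induction_on with
  | _ n ih =>
  intro hn h
  by_cases h1 : n = 1
  · exact ⟨0, 0, by simp [h1]⟩
  · have hℓ := Nat.minFac_prime h1
    obtain ⟨m, hm⟩ := Nat.minFac_dvd n
    have hm0 : m ≠ 0 := by rintro rfl; simp at hm; exact hn hm
    have hlt : m < n := by
      have := hℓ.one_lt
      calc m = 1 * m := (one_mul m).symm
        _ < n.minFac * m := by
          apply Nat.mul_lt_mul_of_pos_right this (Nat.pos_of_ne_zero hm0)
        _ = n := hm.symm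
    obtain ⟨a, b, hab⟩ := ih m hlt hm0 (fun ℓ hℓ' hd => h ℓ hℓ' (hm ▸ Dvd.dvd.mul_left hd _))
    rcases h _ hℓ (Nat.minFac_dvd n) with h2 | h2
    · refine ⟨a + 1, b, ?_⟩
      rw [hm, hab, h2]; ring
    · refine ⟨a, b + 1, ?_⟩
      rw [hm, hab, h2]; ring

section Easy

variable {G : Type*} [Group G] [Finite G]

theorem isPiSubgroup_iff_isPGroup {π : Set ℕ} {p₀ : ℕ} (hp₀ : p₀.Prime) (hp₀π : p₀ ∈ π)
    (hπ : ∀ p q : ℕ, p.Prime → q.Prime → p ∈ π → q ∈ π → p = q) (X : Subgroup G) :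
    Cfsg.IsPiSubgroup π X ↔ IsPGroup p₀ X := by
  have : Fact p₀.Prime := ⟨hp₀⟩
  constructor
  · intro h
    have h1 : Nat.card X = p₀ ^ (Nat.card X).primeFactorsList.length := by
      apply Nat.eq_prime_pow_of_unique_prime_dvd Nat.card_pos.ne'
      intro d hd hdvd
      exact hπ d p₀ hd hp₀ (h d hd hdvd) hp₀π
    exact IsPGroup.of_card h1
  · intro h p hp hdvd
    obtain ⟨n, hn⟩ := IsPGroup.iff_card.mp h
    rw [hn] at hdvd
    have := (Nat.prime_dvd_prime_iff_eq hp hp₀).mp (hp.dvd_of_dvd_pow hdvd)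
    rw [this]; exact hp₀π

omit [Finite G] in
theorem isPiSubgroup_iff_eq_bot {π : Set ℕ} (hπ : ∀ p : ℕ, p.Prime → p ∉ π) (X : Subgroup G) :
    Cfsg.IsPiSubgroup π X ↔ X = ⊥ := by
  constructor
  · intro h
    apply Subgroup.eq_bot_of_card_eq
    by_contra h1
    obtain ⟨p, hp, hd⟩ := Nat.exists_prime_and_dvd h1
    exact hπ p hp (h p hp hd)
  · rintro rfl p hp hd
    rw [Subgroup.card_bot] at hd
    exact absurd (Nat.dvd_one.mp hd) hp.one_lt.ne'

theorem epi_of_triv {π : Set ℕ} (hπ : Triv π) : Cfsg.IsEPiGroup π G := by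
  rcases hπ with hπ | hπ
  · by_cases hex : ∃ p₀ : ℕ, p₀.Prime ∧ p₀ ∈ π
    · obtain ⟨p₀, hp₀, hp₀π⟩ := hex
      have : Fact p₀.Prime := ⟨hp₀⟩
      obtain ⟨P⟩ : Nonempty (Sylow p₀ G) := inferInstance
      refine ⟨P, ?_, ?_⟩
      · exact (isPiSubgroup_iff_isPGroup hp₀ hp₀π hπ (P : Subgroup G)).mpr P.2
      · intro p hp hpπ
        rw [hπ p p₀ hp hp₀ hpπ hp₀π]
        exact P.not_dvd_index
    · push Not at hex
      refine ⟨⊥, ?_, ?_⟩
      · exact (isPiSubgroup_iff_eq_bot hex _).mpr rfl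
      · intro p hp hpπ
        exact absurd hpπ (hex p hp)
  · refine ⟨⊤, fun p hp _ => hπ p hp, fun p hp _ => ?_⟩
    rw [Subgroup.index_top]
    exact fun h => hp.one_lt.ne' (Nat.dvd_one.mp h)

theorem dpi_of_triv {π : Set ℕ} (hπ : Triv π) : Cfsg.IsDPiGroup π G := by
  intro H K hH hK
  rcases hπ with hπ | hπ
  · by_cases hex : ∃ p₀ : ℕ, p₀.Prime ∧ p₀ ∈ π
    · obtain ⟨p₀, hp₀, hp₀π⟩ := hex
      have : Fact p₀.Prime := ⟨hp₀⟩
      have key := isPiSubgroup_iff_isPGroup (G := G) hp₀ hp₀π hπ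
      let P : Sylow p₀ G :=
        { toSubgroup := H
          isPGroup' := (key H).mp hH.1
          is_maximal' := fun {Q} hQ hle => le_antisymm (hH.2 ((key Q).mpr hQ) hle) hle }
      let Q : Sylow p₀ G :=
        { toSubgroup := K
          isPGroup' := (key K).mp hK.1
          is_maximal' := fun {Q} hQ hle => le_antisymm (hK.2 ((key Q).mpr hQ) hle) hle }
      obtain ⟨g, hg⟩ := MulAction.exists_smul_eq G P Q
      refine ⟨g, ?_⟩
      have h1 : ((g • P : Sylow p₀ G) : Subgroup G) = K := by rw [hg]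
      rw [← h1, Sylow.coe_subgroup_smul, Subgroup.pointwise_smul_def]
      rfl
    · push Not at hex
      have hH' := (isPiSubgroup_iff_eq_bot hex H).mp hH.1
      have hK' := (isPiSubgroup_iff_eq_bot hex K).mp hK.1
      refine ⟨1, ?_⟩
      rw [hH', hK', Subgroup.map_bot]
  · have hall : ∀ X : Subgroup G, Cfsg.IsPiSubgroup π X := fun X p hp _ => hπ p hp
    have hH' : H = ⊤ := top_le_iff.mp (hH.2 (hall ⊤) le_top)
    have hK' : K = ⊤ := top_le_iff.mp (hK.2 (hall ⊤) le_top)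
    refine ⟨1, ?_⟩
    rw [hH', hK']
    simp

theorem epi_of_dpi {π : Set ℕ} (h : Cfsg.IsDPiGroup π G) : Cfsg.IsEPiGroup π G := by
  classical
  have hfin : {X : Subgroup G | Cfsg.IsPiSubgroup π X}.Finite := Set.toFinite _
  have hbot : (⊥ : Subgroup G) ∈ {X : Subgroup G | Cfsg.IsPiSubgroup π X} := by
    intro p hp hd
    rw [Subgroup.card_bot] at hd
    exact absurd (Nat.dvd_one.mp hd) hp.one_lt.ne'
  obtain ⟨H, -, hH⟩ := hfin.exists_le_maximal hbot
  refine ⟨H, hH.1, ?_⟩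
  intro p hp hpπ hdvd
  have : Fact p.Prime := ⟨hp⟩
  obtain ⟨P⟩ : Nonempty (Sylow p G) := inferInstance
  have hP : (P : Subgroup G) ∈ {X : Subgroup G | Cfsg.IsPiSubgroup π X} := by
    intro ℓ hℓ hd
    obtain ⟨n, hn⟩ := IsPGroup.iff_card.mp P.2
    rw [hn] at hd
    have := (Nat.prime_dvd_prime_iff_eq hℓ hp).mp (hℓ.dvd_of_dvd_pow hd)
    rw [this]; exact hpπ
  obtain ⟨K, hPK, hK⟩ := hfin.exists_le_maximal hP
  obtain ⟨g, hg⟩ := h H K hH hK
  have hcard : Nat.card K = Nat.card H := by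
    rw [hg]
    exact Nat.card_congr (H.equivMapOfInjective _ (MulAut.conj g).injective).symm.toEquiv
  have h1 : Nat.card P ∣ Nat.card H := by
    rw [← hcard]; exact Subgroup.card_dvd_of_le hPK
  rw [P.card_eq_multiplicity] at h1
  have h2 : p ^ ((Nat.card G).factorization p + 1) ∣ Nat.card G := by
    have h3 := Nat.mul_dvd_mul h1 hdvd
    rwa [H.card_mul_index, ← pow_succ] at h3
  exact Nat.pow_succ_factorization_not_dvd Nat.card_pos.ne' hp h2

end Easy







/-- Case `2 ∈ π`, some prime of `π` exceeds the least prime `r ∉ π`: `S_s` has no Hall subgroup. -/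
theorem no_hall_symm {π : Set ℕ} {r s : ℕ} (hr : r.Prime) (hrπ : r ∉ π) (h2 : 2 ∈ π)
    (hs : s.Prime) (hsπ : s ∈ π) (hrs : r < s) (H : Subgroup (Perm (Fin s)))
    (hH : Cfsg.IsPiHall π H) : False := by
  have h1 : H = ⊤ := perm_prime_eq_top hs H (hH.2 2 Nat.prime_two h2) (hH.2 s hs hsπ)
  apply hrπ
  apply hH.1 r hr
  rw [h1, Subgroup.card_top, Nat.card_perm, Nat.card_eq_fintype_card, Fintype.card_fin]
  exact Nat.dvd_factorial hr.pos hrs.le

/-- Case `π` = all primes below the prime `r ≥ 5`: `A_{r+1}` has no Hall subgroup. -/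
theorem no_hall_alt {π : Set ℕ} {r : ℕ} (hr : r.Prime) (h5 : 5 ≤ r) (hrπ : r ∉ π)
    (hlt : ∀ m : ℕ, m.Prime → m < r → m ∈ π)
    (H : Subgroup (alternatingGroup (Fin (r + 1)))) (hH : Cfsg.IsPiHall π H) : False := by
  have hnt : Nontrivial (Fin (r + 1)) := Fin.nontrivial_iff_two_le.mpr (by omega)
  have hcard : 2 * Nat.card (alternatingGroup (Fin (r + 1))) = (r + 1).factorial := by
    rw [Nat.card_eq_fintype_card, two_mul_card_alternatingGroup, Fintype.card_perm,
      Fintype.card_fin]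
  have hodd : Odd r := hr.odd_of_ne_two (by omega)
  -- r divides the order of the group
  have hrG : r ∣ Nat.card (alternatingGroup (Fin (r + 1))) := by
    have h1 : r ∣ 2 * Nat.card (alternatingGroup (Fin (r + 1))) := by
      rw [hcard]; exact Nat.dvd_factorial hr.pos (by omega)
    rcases (Nat.Prime.dvd_mul hr).mp h1 with h | h
    · exfalso
      have := (Nat.prime_dvd_prime_iff_eq hr Nat.prime_two).mp h
      omega
    · exact h
  have hidxG : H.index ∣ (r + 1).factorial := by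
    rw [← hcard]
    exact Dvd.dvd.mul_left (Subgroup.index_dvd_card H) 2
  -- prime divisors of the index
  have hprime : ∀ {ℓ : ℕ}, ℓ.Prime → ℓ ∣ H.index → ℓ = r := by
    intro ℓ hℓ hd
    have h1 : ℓ ≤ r + 1 := (hℓ.dvd_factorial).mp (hd.trans hidxG)
    have h2 : ℓ ≠ r + 1 := by
      rintro rfl
      obtain ⟨k, hk⟩ := hodd
      have h3 : 2 ∣ r + 1 := ⟨k + 1, by omega⟩
      have := (Nat.prime_dvd_prime_iff_eq Nat.prime_two hℓ).mp h3
      omega
    by_contra hne
    have h3 : ℓ < r := by omega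
    exact hH.2 ℓ hℓ (hlt ℓ hℓ h3) hd
  have hidx0 : H.index ≠ 0 := Subgroup.index_ne_zero_of_finite
  have hpow := Nat.eq_prime_pow_of_unique_prime_dvd hidx0 hprime
  set k := (H.index).primeFactorsList.length with hk
  -- k ≤ 1
  have hk1 : k ≤ 1 := by
    by_contra hk2
    have h1 : r ^ 2 ∣ (r + 1).factorial := by
      refine dvd_trans ?_ hidxG
      rw [hpow]
      exact pow_dvd_pow r (by omega)
    rw [Nat.factorial_succ, pow_two] at h1
    obtain ⟨r', rfl⟩ : ∃ r', r = r' + 1 := ⟨r - 1, by omega⟩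
    rw [Nat.factorial_succ] at h1
    have h2 : (r' + 1 + 1) * ((r' + 1) * r'.factorial) = (r' + 1) * ((r' + 1 + 1) * r'.factorial) := by
      ring
    rw [h2] at h1
    have h3 := Nat.dvd_of_mul_dvd_mul_left (by omega) h1
    rcases (Nat.Prime.dvd_mul hr).mp h3 with h | h
    · have := (Nat.dvd_add_right (dvd_refl (r' + 1))).mp h
      have := Nat.le_of_dvd (by omega) this
      omega
    · have := (hr.dvd_factorial).mp h
      omega
  rcases Nat.le_one_iff_eq_zero_or_eq_one.mp hk1 with h0 | h1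
  · rw [h0, pow_zero] at hpow
    have htop : H = ⊤ := Subgroup.index_eq_one.mp hpow
    apply hrπ
    apply hH.1 r hr
    rw [htop, Subgroup.card_top]
    exact hrG
  · rw [h1, pow_one] at hpow
    have hne : H ≠ ⊤ := by
      rintro rfl
      rw [Subgroup.index_top] at hpow
      omega
    exact alt_index_ne (by omega) H (by omega) hne hpow

/-- Case `2 ∉ π`, `p < q` the two least primes of `π`: `S_q` has no Hall subgroup. -/
theorem no_hall_odd {π : Set ℕ} {p q : ℕ} (hp : p.Prime) (hq : q.Prime) (h2 : 2 ∉ π)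
    (hpπ : p ∈ π) (hqπ : q ∈ π) (hpq : p < q)
    (hmin : ∀ m : ℕ, m.Prime → m ∈ π → m ≤ q → m = p ∨ m = q)
    (H : Subgroup (Perm (Fin q))) (hH : Cfsg.IsPiHall π H) : False := by
  have hp2 : p ≠ 2 := fun h => h2 (h ▸ hpπ)
  have hq2 : q ≠ 2 := fun h => h2 (h ▸ hqπ)
  have hpo : Odd p := hp.odd_of_ne_two hp2
  have hqo : Odd q := hq.odd_of_ne_two hq2
  have hp3 : 3 ≤ p := by
    have := hp.two_le; omega
  have hpq2 : p + 2 ≤ q := by
    obtain ⟨a, ha⟩ := hpo
    obtain ⟨b, hb⟩ := hqo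
    omega
  have : Fact p.Prime := ⟨hp⟩
  -- solvability
  have hsolv : Group.IsSolvable H := by
    have hdiv : ∀ ℓ : ℕ, ℓ.Prime → ℓ ∣ Nat.card H → ℓ = p ∨ ℓ = q := by
      intro ℓ hℓ hd
      apply hmin ℓ hℓ (hH.1 ℓ hℓ hd)
      have h1 : ℓ ∣ Nat.card (Perm (Fin q)) := hd.trans (Subgroup.card_subgroup_dvd_card H)
      rw [Nat.card_perm, Nat.card_eq_fintype_card, Fintype.card_fin] at h1
      exact (hℓ.dvd_factorial).mp h1
    obtain ⟨a, b, hab⟩ := exists_eq_pow_mul_pow p q (Nat.card H) Nat.card_pos.ne' hdiv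
    exact Cfsg.Agent.Lib.Helper2.isSolvable_of_card_eq_prime_pow_mul_prime_pow p q hp hq
      (Nat.card H) H rfl ⟨a, b, hab⟩
  -- an element of order p with two fixed points
  classical
  let f : Fin p ≃ {i : Fin q // i ∈ Set.range (Fin.castLE hpq.le)} :=
    Equiv.ofInjective (Fin.castLE hpq.le) (Fin.castLE_injective hpq.le)
  let τ₀ : Perm (Fin q) := extendDomainHom f (finRotate p)
  have hτ₀pow : τ₀ ^ p ^ 1 = 1 := by
    rw [pow_one, ← map_pow]
    have h1 : orderOf (finRotate p) = p := by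
      rw [(isCycle_finRotate_of_le hp.two_le).orderOf, support_finRotate_of_le hp.two_le,
        Finset.card_univ, Fintype.card_fin]
    have h2 := pow_orderOf_eq_one (finRotate p)
    rw [h1] at h2
    rw [h2, map_one]
  have hτ₀ne : τ₀ ≠ 1 := by
    intro h
    have h1 : finRotate p = 1 := extendDomainHom_injective f (by rw [map_one]; exact h)
    have h3 : orderOf (finRotate p) = p := by
      rw [(isCycle_finRotate_of_le hp.two_le).orderOf, support_finRotate_of_le hp.two_le,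
        Finset.card_univ, Fintype.card_fin]
    rw [h1, orderOf_one] at h3
    omega
  have hfix : ∀ b : Fin q, p ≤ b.val → τ₀ b = b := by
    intro b hb
    apply extendDomain_apply_not_subtype
    rintro ⟨a, ha⟩
    have := congrArg Fin.val ha
    simp only [Fin.val_castLE] at this
    have := a.2
    omega
  obtain ⟨c, hc⟩ := exists_conj_mem_of_pow_eq_one H (hH.2 p hp hpπ) τ₀ 1 hτ₀pow
  let b₁ : Fin q := ⟨q - 1, by omega⟩
  let b₂ : Fin q := ⟨q - 2, by omega⟩
  have hb12 : b₁ ≠ b₂ := by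
    intro h
    have := congrArg Fin.val h
    simp only [b₁, b₂] at this
    omega
  refine perm_prime_solvable_false hq H hsolv (hH.2 q hq hqπ) (c * τ₀ * c⁻¹) hc ?_
    (c b₁) (c b₂) (fun h => hb12 (c.injective h)) ?_ ?_
  · intro h
    apply hτ₀ne
    have : τ₀ = c⁻¹ * (c * τ₀ * c⁻¹) * c := by group
    rw [this, h]; group
  · simp only [Perm.coe_mul, Function.comp_apply, Perm.coe_inv, Equiv.symm_apply_apply]
    rw [hfix b₁ (by simp only [b₁]; omega)]
  · simp only [Perm.coe_mul, Function.comp_apply, Perm.coe_inv, Equiv.symm_apply_apply]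
    rw [hfix b₂ (by simp only [b₂]; omega)]






theorem triv_of_epi {π : Set ℕ}
    (h : ∀ (G : Type) [Group G] [Finite G], Cfsg.IsEPiGroup π G) : Triv π := by
  classical
  by_contra hT
  unfold Triv at hT
  push Not at hT
  obtain ⟨⟨p, q, hp, hq, hpπ, hqπ, hpq⟩, ⟨r, hr, hrπ⟩⟩ := hT
  by_cases h2 : 2 ∈ π
  · have hex : ∃ n : ℕ, n.Prime ∧ n ∉ π := ⟨r, hr, hrπ⟩
    obtain ⟨hr₀, hr₀π⟩ := Nat.find_spec hex
    have hlt : ∀ m : ℕ, m.Prime → m < Nat.find hex → m ∈ π := by
      intro m hm hmr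
      by_contra hmπ
      exact Nat.find_min hex hmr ⟨hm, hmπ⟩
    by_cases hs : ∃ s : ℕ, s.Prime ∧ s ∈ π ∧ Nat.find hex < s
    · obtain ⟨s, hs, hsπ, hrs⟩ := hs
      obtain ⟨H, hH⟩ := h (Perm (Fin s))
      exact no_hall_symm hr₀ hr₀π h2 hs hsπ hrs H hH
    · push Not at hs
      have hall : ∀ m : ℕ, m.Prime → m ∈ π → m < Nat.find hex := by
        intro m hm hmπ
        have h1 := hs m hm hmπ
        rcases lt_or_eq_of_le h1 with h3 | h3
        · exact h3
        · exact absurd (h3 ▸ hmπ) hr₀π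
      have h5 : 5 ≤ Nat.find hex := by
        have h1 := hall p hp hpπ
        have h3 := hall q hq hqπ
        have h4 := hp.two_le
        have h6 := hq.two_le
        have h7 : Nat.find hex ≠ 4 := by
          intro h8
          rw [h8] at hr₀
          exact absurd hr₀ (by norm_num)
        omega
      obtain ⟨H, hH⟩ := h (alternatingGroup (Fin (Nat.find hex + 1)))
      exact no_hall_alt hr₀ h5 hr₀π hlt H hH
  · have hex1 : ∃ n : ℕ, n.Prime ∧ n ∈ π := ⟨p, hp, hpπ⟩
    obtain ⟨hp₁, hp₁π⟩ := Nat.find_spec hex1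
    have hmin1 : ∀ m : ℕ, m.Prime → m ∈ π → Nat.find hex1 ≤ m :=
      fun m hm hmπ => Nat.find_min' hex1 ⟨hm, hmπ⟩
    have hex2 : ∃ n : ℕ, n.Prime ∧ n ∈ π ∧ Nat.find hex1 < n := by
      rcases lt_or_gt_of_ne hpq with h3 | h3
      · exact ⟨q, hq, hqπ, lt_of_le_of_lt (hmin1 p hp hpπ) h3⟩
      · exact ⟨p, hp, hpπ, lt_of_le_of_lt (hmin1 q hq hqπ) h3⟩
    obtain ⟨hp₂, hp₂π, hp12⟩ := Nat.find_spec hex2
    have hmin : ∀ m : ℕ, m.Prime → m ∈ π → m ≤ Nat.find hex2 →
        m = Nat.find hex1 ∨ m = Nat.find hex2 := by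
      intro m hm hmπ hle
      by_cases h1 : m = Nat.find hex1
      · left; exact h1
      · right
        have h3 : Nat.find hex1 < m := lt_of_le_of_ne (hmin1 m hm hmπ) (Ne.symm h1)
        have := Nat.find_min' hex2 ⟨hm, hmπ, h3⟩
        omega
    obtain ⟨H, hH⟩ := h (Perm (Fin (Nat.find hex2)))
    exact no_hall_odd hp₁ hp₂ h2 hp₁π hp₂π hp12 hmin H hH


end Cfsg.Agent.Lib.Helper1.HallUniversal
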