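import Mathlib

/-!
Huppert's theorem, part 2: eigenvectors on elementary abelian groups.
-/

set_option autoImplicit false

open Subgroup Polynomial
open scoped commutatorElement

namespace Cfsg.Agent.Lib.Helper1.Huppert

universe u

theorem exists_eigen_add {p : ℕ} [hp : Fact p.Prime] {V : Type*} [AddCommGroup V]
    [Module (ZMod p) V] [Finite V] [Nontrivial V] (f : V →ₗ[ZMod p] V)
    (hf1 : f ^ (p - 1) = 1) : ∃ v : V, v ≠ 0 ∧ ∃ μ : ZMod p, f v = μ • v := by
  have haeval : aeval f (X ^ (p - 1) - 1 : (ZMod p)[X]) = 0 := by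
    rw [map_sub, map_pow, aeval_X, map_one, hf1, sub_self]
  have hdvd1 : minpoly (ZMod p) f ∣ (X ^ (p - 1) - 1 : (ZMod p)[X]) := minpoly.dvd _ _ haeval
  have hdvd2 : (X ^ (p - 1) - 1 : (ZMod p)[X]) ∣ X ^ p - X := by
    refine ⟨X, ?_⟩
    have : (X : (ZMod p)[X]) ^ p = X ^ (p - 1) * X := by
      rw [← pow_succ, Nat.sub_add_cancel hp.out.one_le]
    rw [this]; ring
  have hsplit : Splits (X ^ p - X : (ZMod p)[X]) := by
    have := FiniteField.splits_X_pow_card_sub_X (p := p) (K := ZMod p)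
    rw [Algebra.algebraMap_self, Polynomial.map_id, ZMod.card] at this
    exact this
  have hne : (X ^ p - X : (ZMod p)[X]) ≠ 0 :=
    FiniteField.X_pow_card_sub_X_ne_zero (ZMod p) hp.out.one_lt
  have hms : Splits (minpoly (ZMod p) f) := hsplit.of_dvd hne (hdvd1.trans hdvd2)
  have hint : IsIntegral (ZMod p) f := Algebra.IsIntegral.isIntegral f
  have hdeg : degree (minpoly (ZMod p) f) ≠ 0 := (minpoly.degree_pos hint).ne'
  obtain ⟨μ, hμ⟩ := hms.exists_eval_eq_zero hdeg
  have hev : Module.End.HasEigenvalue f μ := Module.End.hasEigenvalue_of_isRoot hμ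
  obtain ⟨v, hv⟩ := hev.exists_hasEigenvector
  exact ⟨v, hv.2, μ, hv.apply_eq_smul⟩

theorem exists_eigen_aux {p : ℕ} [hp : Fact p.Prime] {N : Type*} [CommGroup N] [Finite N]
    [Nontrivial N] [Module (ZMod p) (Additive N)] (φ : N →* N)
    (hφ : ∀ x, (φ^[p - 1]) x = x) :
    ∃ x : N, x ≠ 1 ∧ ∃ k : ℕ, φ x = x ^ k := by
  have hfapp : ∀ v : Additive N, (AddMonoidHom.toZModLinearMap p (MonoidHom.toAdditive φ)) v
      = Additive.ofMul (φ v.toMul) := fun v => rfl
  have hfpow : ∀ (n : ℕ) (v : Additive N),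
      ((AddMonoidHom.toZModLinearMap p (MonoidHom.toAdditive φ)) ^ n) v
        = Additive.ofMul ((φ^[n]) v.toMul) := by
    intro n
    induction n with
    | zero => intro v; rfl
    | succ n ih =>
      intro v
      rw [pow_succ', Module.End.mul_apply, ih, hfapp, Function.iterate_succ_apply']
      rfl
  have hf1 : (AddMonoidHom.toZModLinearMap p (MonoidHom.toAdditive φ)) ^ (p - 1) = 1 := by
    apply LinearMap.ext
    intro v
    rw [hfpow, hφ]; rfl
  obtain ⟨v, hv0, μ, hv⟩ := exists_eigen_add _ hf1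
  refine ⟨v.toMul, ?_, μ.val, ?_⟩
  · intro e
    exact hv0 (congrArg Additive.ofMul e)
  · have h2 : μ • v = μ.val • v := by
      conv_lhs => rw [← ZMod.natCast_zmod_val μ]
      exact Nat.cast_smul_eq_nsmul (ZMod p) μ.val v
    rw [h2, hfapp] at hv
    exact congrArg Additive.toMul hv

/-- An endomorphism `φ` with `φ^(p-1) = 1` of a nontrivial finite abelian group of exponent `p`
has an eigenvector. -/
theorem exists_eigen {p : ℕ} [hp : Fact p.Prime] {N : Type*} [CommGroup N] [Finite N]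
    [Nontrivial N] (hexp : ∀ x : N, x ^ p = 1) (φ : N →* N) (hφ : ∀ x, (φ^[p - 1]) x = x) :
    ∃ x : N, x ≠ 1 ∧ ∃ k : ℕ, φ x = x ^ k := by
  let _ : Module (ZMod p) (Additive N) := AddCommGroup.zmodModule (n := p) (G := Additive N) (by
    intro x
    exact congrArg Additive.ofMul (hexp x.toMul))
  exact exists_eigen_aux φ hφ


variable {G : Type u} [Group G]

/-- A minimal normal subgroup of exponent `p` on which `G` acts through an abelian group of
exponent dividing `p - 1` has order `p`. -/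
theorem card_eq_of_abelian_action [Finite G] {p : ℕ} [hp : Fact p.Prime] {N : Subgroup G}
    [hNn : N.Normal] (hN : N ≠ ⊥)
    (hcomm : ∀ x ∈ N, ∀ y ∈ N, x * y = y * x) (hexp : ∀ x ∈ N, x ^ p = 1)
    (hmin : ∀ B : Subgroup G, B.Normal → B ≤ N → B = ⊥ ∨ B = N)
    (hab : ∀ g g' : G, ∀ x ∈ N, ⁅g, g'⁆ * x = x * ⁅g, g'⁆)
    (hpow : ∀ g : G, ∀ x ∈ N, g ^ (p - 1) * x = x * g ^ (p - 1)) : Nat.card N = p := by
  let _ : CommGroup N :=
    { (inferInstance : Group N) with mul_comm := fun a b => Subtype.ext (hcomm a a.2 b b.2) }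
  have hnt : Nontrivial N := (Subgroup.nontrivial_iff_ne_bot N).mpr hN
  -- every element acts as a power map
  have hstep : ∀ g : G, ∃ k : ℕ, ∀ y ∈ N, g * y * g⁻¹ = y ^ k := by
    intro g
    set φ : N →* N := (MulAut.conjNormal g : MulAut N).toMonoidHom with hφdef
    have hφapp : ∀ x : N, ((φ x : N) : G) = g * x * g⁻¹ := fun x => rfl
    have hiter : ∀ (n : ℕ) (x : N), (((φ^[n]) x : N) : G) = g ^ n * x * (g ^ n)⁻¹ := by
      intro n
      induction n with
      | zero => intro x; simp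
      | succ n ih =>
        intro x
        rw [Function.iterate_succ_apply', hφapp, ih, pow_succ']
        group
    have hφ : ∀ x : N, (φ^[p - 1]) x = x := by
      intro x
      apply Subtype.ext
      rw [hiter, hpow g x x.2, mul_inv_cancel_right]
    obtain ⟨x₀, hx₀, k, hk⟩ := exists_eigen (p := p) (fun x : N => Subtype.ext (hexp x x.2)) φ hφ
    refine ⟨k, ?_⟩
    -- the eigenspace
    let E : Subgroup G :=
      { carrier := {y | y ∈ N ∧ g * y * g⁻¹ = y ^ k}
        one_mem' := ⟨N.one_mem, by simp⟩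
        mul_mem' := by
          rintro a b ⟨ha, ha'⟩ ⟨hb, hb'⟩
          refine ⟨N.mul_mem ha hb, ?_⟩
          have hc : Commute a b := hcomm a ha b hb
          rw [hc.mul_pow, ← ha', ← hb']; group
        inv_mem' := by
          rintro a ⟨ha, ha'⟩
          refine ⟨N.inv_mem ha, ?_⟩
          rw [inv_pow, ← ha']; group }
    have hEn : E.Normal := by
      refine ⟨fun y hy h => ?_⟩
      obtain ⟨hyN, hy'⟩ := hy
      refine ⟨hNn.conj_mem y hyN h, ?_⟩
      have hc := hab g⁻¹ h⁻¹ y hyN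
      have e1 : g * (h * y * h⁻¹) * g⁻¹ = h * (g * (⁅g⁻¹, h⁻¹⁆ * y) * ⁅g⁻¹, h⁻¹⁆⁻¹ * g⁻¹) * h⁻¹ := by
        rw [commutatorElement_def]; group
      have e2 : g * (y * ⁅g⁻¹, h⁻¹⁆) * ⁅g⁻¹, h⁻¹⁆⁻¹ * g⁻¹ = g * y * g⁻¹ := by group
      rw [e1, hc, e2, hy', conj_pow]
    have hEle : E ≤ N := fun y hy => hy.1
    have hx₀E : (x₀ : G) ∈ E := by
      refine ⟨x₀.2, ?_⟩
      have := congrArg Subtype.val hk
      rw [hφapp] at this
      rw [this]; rfl
    rcases hmin E hEn hEle with h | h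
    · exfalso
      rw [h, Subgroup.mem_bot] at hx₀E
      exact hx₀ (Subtype.ext hx₀E)
    · intro y hy
      rw [← h] at hy
      exact hy.2
  -- pick a nontrivial element
  obtain ⟨⟨x₁, hx₁N⟩, hx₁⟩ := (Subgroup.ne_bot_iff_exists_ne_one).mp hN
  have hx₁' : x₁ ≠ 1 := fun e => hx₁ (Subtype.ext e)
  have hZn : (Subgroup.zpowers x₁).Normal := by
    refine ⟨fun y hy g => ?_⟩
    obtain ⟨j, rfl⟩ := Subgroup.mem_zpowers_iff.mp hy
    obtain ⟨k, hk⟩ := hstep g
    have : g * x₁ ^ j * g⁻¹ = (g * x₁ * g⁻¹) ^ j := by rw [conj_zpow]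
    rw [this, hk x₁ hx₁N]
    exact Subgroup.zpow_mem _ (Subgroup.pow_mem _ (Subgroup.mem_zpowers x₁) k) j
  have hZle : Subgroup.zpowers x₁ ≤ N := (Subgroup.zpowers_le).mpr hx₁N
  rcases hmin _ hZn hZle with h | h
  · exact absurd ((Subgroup.zpowers_eq_bot).mp h) hx₁'
  · rw [← h, Nat.card_zpowers]
    have := orderOf_dvd_of_pow_eq_one (hexp x₁ hx₁N)
    rcases (Nat.dvd_prime hp.out).mp this with h1 | h1
    · exact absurd (orderOf_eq_one_iff.mp h1) hx₁'
    · exact h1

end Cfsg.Agent.Lib.Helper1.Huppert
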