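import Mathlib
import Cfsg.Agent.Lib.Helper1.Huppert1
import Cfsg.Agent.Lib.Helper1.Huppert2
import Cfsg.Agent.Lib.Helper4.Supersolvable

/-!
Huppert's theorem, part 3.
-/

set_option autoImplicit false

open Subgroup
open scoped commutatorElement

namespace Cfsg.Agent.Lib.Helper1.Huppert

universe u

/-- `y` is killed by every homomorphism to an abelian group of exponent dividing `p - 1`. -/
def InVerbal (p : ℕ) {X : Type u} [Group X] (y : X) : Prop :=
  ∀ (Y : Type u) [Group Y], (∀ a b : Y, a * b = b * a) → (∀ a : Y, a ^ (p - 1) = 1) →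
    ∀ f : X →* Y, f y = 1

theorem InVerbal.map {p : ℕ} {X X' : Type u} [Group X] [Group X'] {y : X} (h : InVerbal p y)
    (f : X →* X') : InVerbal p (f y) := by
  intro Y _ hc he g
  exact h Y hc he (g.comp f)

theorem inVerbal_commutator (p : ℕ) {X : Type u} [Group X] (a b : X) : InVerbal p ⁅a, b⁆ := by
  intro Y _ hc he f
  rw [map_commutatorElement, commutatorElement_def, hc (f a) (f b)]
  group

theorem inVerbal_pow (p : ℕ) {X : Type u} [Group X] (a : X) : InVerbal p (a ^ (p - 1)) := by
  intro Y _ hc he f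
  rw [map_pow, he]

theorem InVerbal.pow {p : ℕ} {X : Type u} [Group X] {y : X} (h : InVerbal p y) (j : ℤ) :
    InVerbal p (y ^ j) := by
  intro Y _ hc he f
  rw [map_zpow, h Y hc he f, one_zpow]

/-- an element of the verbal subgroup centralizes every normal subgroup of order `p` -/
theorem InVerbal.commute_of_card_eq {p : ℕ} [hp : Fact p.Prime] {X : Type u} [Group X] {y : X}
    (h : InVerbal p y) (N : Subgroup X) [N.Normal] (hN : Nat.card N = p) :
    ∀ x ∈ N, y * x = x * y := by
  have hN' : Fact (Nat.card N).Prime := ⟨hN.symm ▸ hp.out⟩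
  have hcyc : IsCyclic N := isCyclic_of_prime_card rfl
  let e := IsCyclic.mulAutMulEquiv N
  have hc : ∀ a b : MulAut N, a * b = b * a := by
    intro a b
    apply e.injective
    rw [map_mul, map_mul, mul_comm]
  have he : ∀ a : MulAut N, a ^ (p - 1) = 1 := by
    intro a
    apply e.injective
    rw [map_pow, map_one]
    have := ZMod.units_pow_card_sub_one_eq_one (Nat.card N) (e a)
    have hpe : p - 1 = Nat.card N - 1 := by rw [hN]
    rw [hpe]; exact this
  have h1 := h (MulAut N) hc he (MulAut.conjNormal (H := N))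
  intro x hx
  have h2 : (MulAut.conjNormal y : MulAut N) ⟨x, hx⟩ = ⟨x, hx⟩ := by rw [h1]; rfl
  have h3 : y * x * y⁻¹ = x := congrArg Subtype.val h2
  calc y * x = y * x * y⁻¹ * y := by group
    _ = x * y := by rw [h3]

open Cfsg.Agent.Lib.Helper4 in
/-- In a supersolvable group, `p'`-elements of the verbal subgroup centralize normal
`p`-subgroups. -/
theorem commute_of_inVerbal : ∀ (n : ℕ) (X : Type u) [Group X] [Finite X], Nat.card X = n →
    Cfsg.IsSupersolvable X → ∀ (p : ℕ) [Fact p.Prime] (Q : Subgroup X) [Q.Normal], IsPGroup p Q →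
    ∀ y : X, InVerbal p y → (orderOf y).Coprime p → ∀ x ∈ Q, y * x = x * y := by
  intro n
  induction n using Nat.strong_induction_on with
  | _ n ih =>
    intro X _ _ hcard hX p hp Q hQn hQ y hy hcop x hx
    by_cases hQbot : Q = ⊥
    · rw [hQbot, Subgroup.mem_bot] at hx
      rw [hx, mul_one, one_mul]
    obtain ⟨N, hNQ, hNn, hNp⟩ := exists_normal_prime_le_of_isSupersolvable hX Q hQbot
    have hNcard : Nat.card N = p := by
      have hNpg : IsPGroup p N := hQ.to_le hNQ
      obtain ⟨k, hk⟩ := hNpg.exists_card_eq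
      have h0 : Nat.card N ∣ p ^ k := by rw [hk]
      have h1 : Nat.card N ∣ p := hNp.dvd_of_dvd_pow h0
      exact (Nat.prime_dvd_prime_iff_eq hNp hp.out).mp h1
    have hyN := hy.commute_of_card_eq N hNcard
    have hlt : Nat.card (X ⧸ N) < n := hcard ▸ card_quotient_lt_of_prime N hNp
    have hXq := isSupersolvable_quotient N hX
    have hQq : IsPGroup p (Q.map (QuotientGroup.mk' N)) := hQ.map _
    have hQqn : (Q.map (QuotientGroup.mk' N)).Normal :=
      hQn.map _ (QuotientGroup.mk'_surjective N)
    have hcop' : (orderOf (QuotientGroup.mk' N y)).Coprime p :=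
      Nat.Coprime.coprime_dvd_left (orderOf_map_dvd _ y) hcop
    have key := ih _ hlt (X ⧸ N) rfl hXq p (Q.map (QuotientGroup.mk' N)) hQq
      (QuotientGroup.mk' N y) (hy.map _) hcop' (QuotientGroup.mk' N x)
      (Subgroup.mem_map_of_mem _ hx)
    -- z := y x y⁻¹ x⁻¹ ∈ N
    have hz : y * x * y⁻¹ * x⁻¹ ∈ N := by
      rw [← QuotientGroup.eq_one_iff, QuotientGroup.mk_mul, QuotientGroup.mk_mul,
        QuotientGroup.mk_mul, QuotientGroup.mk_inv, QuotientGroup.mk_inv]
      have key' : (y : X ⧸ N) * (x : X ⧸ N) = (x : X ⧸ N) * (y : X ⧸ N) := key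
      rw [key']; group
    set z := y * x * y⁻¹ * x⁻¹ with hzdef
    have hyz : y * z = z * y := hyN z hz
    have hconj : y * x * y⁻¹ = z * x := by rw [hzdef]; group
    have hiter : ∀ j : ℕ, y ^ j * x * (y ^ j)⁻¹ = z ^ j * x := by
      intro j
      induction j with
      | zero => simp
      | succ j ihj =>
        have hc : Commute y (z ^ j) := (show Commute y z from hyz).pow_right j
        calc y ^ (j + 1) * x * (y ^ (j + 1))⁻¹ = y * (y ^ j * x * (y ^ j)⁻¹) * y⁻¹ := by
              rw [pow_succ']; group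
          _ = y * (z ^ j * x) * y⁻¹ := by rw [ihj]
          _ = (y * z ^ j) * x * y⁻¹ := by group
          _ = (z ^ j * y) * x * y⁻¹ := by rw [hc.eq]
          _ = z ^ j * (y * x * y⁻¹) := by group
          _ = z ^ j * (z * x) := by rw [hconj]
          _ = z ^ (j + 1) * x := by rw [pow_succ]; group
    have hzm : z ^ orderOf y = 1 := by
      have := hiter (orderOf y)
      rw [pow_orderOf_eq_one, one_mul, inv_one, mul_one] at this
      exact (mul_eq_right.mp this.symm)
    have hzp : z ^ p = 1 := by
      have := pow_card_eq_one' (G := N) (x := ⟨z, hz⟩)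
      rw [hNcard] at this
      exact congrArg Subtype.val this
    have hz1 : z = 1 := by
      have e1 := orderOf_dvd_of_pow_eq_one hzm
      have e2 := orderOf_dvd_of_pow_eq_one hzp
      have := Nat.dvd_gcd e1 e2
      rw [hcop.gcd_eq_one, Nat.dvd_one] at this
      exact orderOf_eq_one_iff.mp this
    rw [hz1, one_mul] at hconj
    calc y * x = y * x * y⁻¹ * y := by group
      _ = x * y := by rw [hconj]


variable {G : Type u} [Group G]

open Cfsg.Agent.Lib.Helper4 in
/-- **Huppert**: if every maximal subgroup has prime index, the group is supersolvable. -/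
theorem huppert : ∀ (n : ℕ) (G : Type u) [Group G] [Finite G], Nat.card G = n → Hyp G →
    Cfsg.IsSupersolvable G := by
  intro n
  induction n using Nat.strong_induction_on with
  | _ n ih =>
    intro G _ _ hcard hG
    rcases subsingleton_or_nontrivial G with hs | hnt
    · exact isSupersolvable_of_subsingleton
    have hcard1 : 1 < Nat.card G := Finite.one_lt_card
    obtain ⟨p, hpmem, hpmax⟩ := (Nat.card G).primeFactors.exists_max_image id
      (Nat.nonempty_primeFactors.mpr hcard1)
    have hp : p.Prime := Nat.prime_of_mem_primeFactors hpmem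
    have hpdvd : p ∣ Nat.card G := Nat.dvd_of_mem_primeFactors hpmem
    have : Fact p.Prime := ⟨hp⟩
    have hmax : ∀ q : ℕ, q.Prime → q ∣ Nat.card G → q ≤ p := fun q hq hqd =>
      hpmax q (Nat.mem_primeFactors.mpr ⟨hq, hqd, Nat.card_pos.ne'⟩)
    obtain ⟨P⟩ : Nonempty (Sylow p G) := inferInstance
    have hPn : (P : Subgroup G).Normal := sylow_normal_of_largest hG hmax P
    have hPbot : (P : Subgroup G) ≠ ⊥ := P.ne_bot_of_dvd_card hpdvd
    obtain ⟨N, hNn, hNbot, hNP, hmin⟩ := exists_minimal_normal_le (P : Subgroup G) hPbot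
    have hNC := le_centralizer_of_minimal P.2 hNP hNbot hmin
    have hcomm : ∀ x ∈ N, ∀ y ∈ N, x * y = y * x := by
      intro x hx y hy
      exact (Subgroup.mem_centralizer_iff.mp (hNC hx) y (hNP hy)).symm
    have hexp := pow_eq_one_of_minimal P.2 hNP hNbot hcomm hmin
    have hquot : Cfsg.IsSupersolvable (G ⧸ N) :=
      ih _ (hcard ▸ card_quotient_lt_of_ne_bot hNbot) (G ⧸ N) rfl (hG.quotient N)
    suffices hNprime : (Nat.card N).Prime from isSupersolvable_of_prime_normal N hNprime hquot
    by_cases hA : ∃ M : Subgroup G, IsCoatom M ∧ ¬ N ≤ M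
    · obtain ⟨M, hM, hNM⟩ := hA
      exact card_prime_of_not_le_coatom hG hcomm hmin hM hNM
    push Not at hA
    have hfr : N ≤ frattini G := le_frattini_iff.mpr hA
    have hΦ := frattini_sylow_ne_bot P hNP hNbot hcomm hmin hfr
    obtain ⟨Φ, hΦdef⟩ : ∃ Φ : Subgroup G,
        Φ = (frattini (P : Subgroup G)).map (P : Subgroup G).subtype := ⟨_, rfl⟩
    have hΦn : Φ.Normal := hΦdef ▸ ConjAct.normal_of_characteristic_of_normal
    have hΦbot : Φ ≠ ⊥ := by
      rw [hΦdef, Ne, Subgroup.map_eq_bot_iff_of_injective _ (Subgroup.subtype_injective _)]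
      exact hΦ
    have hquotΦ : Cfsg.IsSupersolvable (G ⧸ Φ) :=
      ih _ (hcard ▸ card_quotient_lt_of_ne_bot hΦbot) (G ⧸ Φ) rfl (hG.quotient Φ)
    obtain ⟨H, hH⟩ := Subgroup.exists_right_complement'_of_coprime (N := (P : Subgroup G))
      P.card_coprime_index
    have hHcard : Nat.card H = (P : Subgroup G).index := hH.symm.index_eq_card.symm
    have hHcop : (Nat.card H).Coprime p := by
      rw [hHcard, Nat.coprime_comm]
      exact (Nat.Prime.coprime_iff_not_dvd hp).mpr P.not_dvd_index
    have hver : ∀ y ∈ H, InVerbal p y → ∀ x ∈ N, y * x = x * y := by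
      intro y hyH hyV
      have hA : Subgroup.zpowers y ≤ centralizer ((P : Subgroup G) : Set G) := by
        apply le_centralizer_of_commutator_le_frattini (Subgroup.zpowers y) (P : Subgroup G)
        · rw [Subgroup.normalizer_eq_top_iff.mpr hPn]; exact le_top
        · have h1 : Nat.card (Subgroup.zpowers y) ∣ Nat.card H :=
            Subgroup.card_dvd_of_le ((Subgroup.zpowers_le).mpr hyH)
          have h2 : (Nat.card (Subgroup.zpowers y)).Coprime p :=
            Nat.Coprime.coprime_dvd_left h1 hHcop
          have h3 : IsPGroup p (frattini (P : Subgroup G)) := P.2.to_subgroup _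
          obtain ⟨k, hk⟩ := h3.exists_card_eq
          rw [hk]
          exact Nat.Coprime.pow_right k h2
        · intro a ha k hk
          obtain ⟨j, rfl⟩ := Subgroup.mem_zpowers_iff.mp ha
          have haV := hyV.pow j
          have haH : y ^ j ∈ H := H.zpow_mem hyH j
          have hacop : (orderOf (y ^ j)).Coprime p := by
            have h1 : orderOf (y ^ j) ∣ Nat.card H := by
              have := orderOf_dvd_natCard (⟨y ^ j, haH⟩ : H)
              rwa [← Subgroup.orderOf_coe] at this
            exact Nat.Coprime.coprime_dvd_left h1 hHcop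
          have hacop' : (orderOf (QuotientGroup.mk' Φ (y ^ j))).Coprime p :=
            Nat.Coprime.coprime_dvd_left (orderOf_map_dvd _ _) hacop
          have hQn : ((P : Subgroup G).map (QuotientGroup.mk' Φ)).Normal :=
            hPn.map _ (QuotientGroup.mk'_surjective Φ)
          have key := commute_of_inVerbal _ (G ⧸ Φ) rfl hquotΦ p
            ((P : Subgroup G).map (QuotientGroup.mk' Φ)) (P.2.map _)
            (QuotientGroup.mk' Φ (y ^ j)) (haV.map _) hacop' (QuotientGroup.mk' Φ k)
            (Subgroup.mem_map_of_mem _ hk)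
          rw [← hΦdef, ← QuotientGroup.eq_one_iff, QuotientGroup.mk_mul, QuotientGroup.mk_mul,
            QuotientGroup.mk_mul, QuotientGroup.mk_inv, QuotientGroup.mk_inv]
          have key' : ((y ^ j : G) : G ⧸ Φ) * (k : G ⧸ Φ) = (k : G ⧸ Φ) * ((y ^ j : G) : G ⧸ Φ) :=
            key
          rw [key']; group
      intro x hx
      have := Subgroup.mem_centralizer_iff.mp (hA (Subgroup.mem_zpowers y)) x (hNP hx)
      exact this.symm
    -- the centralizer of N
    have hCn : (centralizer (N : Set G)).Normal := inferInstance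
    have hPC : (P : Subgroup G) ≤ centralizer (N : Set G) := by
      rw [Subgroup.le_centralizer_iff]; exact hNC
    have hmemC : ∀ g : G, g ∈ centralizer (N : Set G) ↔ ∀ x ∈ N, g * x = x * g := by
      intro g
      rw [Subgroup.mem_centralizer_iff]
      exact ⟨fun h x hx => (h x hx).symm, fun h x hx => (h x hx).symm⟩
    have hdec : ∀ g : G, ∃ h ∈ H, (g : G ⧸ centralizer (N : Set G)) = (h : G ⧸ centralizer (N : Set G)) := by
      intro g
      obtain ⟨u, hu, h, hh, rfl⟩ := IsComplement'.exists_mul_eq hH g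
      refine ⟨h, hh, ?_⟩
      rw [QuotientGroup.mk_mul, (QuotientGroup.eq_one_iff u).mpr (hPC hu), one_mul]
    have hab : ∀ g g' : G, ∀ x ∈ N, ⁅g, g'⁆ * x = x * ⁅g, g'⁆ := by
      intro g g'
      rw [← hmemC, ← QuotientGroup.eq_one_iff]
      obtain ⟨h, hh, e1⟩ := hdec g
      obtain ⟨h', hh', e2⟩ := hdec g'
      have : ((⁅g, g'⁆ : G) : G ⧸ centralizer (N : Set G)) = ((⁅h, h'⁆ : G) : G ⧸ centralizer (N : Set G)) := by
        rw [commutatorElement_def, commutatorElement_def]
        simp only [QuotientGroup.mk_mul, QuotientGroup.mk_inv, e1, e2]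
      rw [this, QuotientGroup.eq_one_iff, hmemC]
      exact hver _ (H.mul_mem (H.mul_mem (H.mul_mem hh hh') (H.inv_mem hh)) (H.inv_mem hh'))
        (inVerbal_commutator p h h')
    have hpow : ∀ g : G, ∀ x ∈ N, g ^ (p - 1) * x = x * g ^ (p - 1) := by
      intro g
      rw [← hmemC, ← QuotientGroup.eq_one_iff]
      obtain ⟨h, hh, e1⟩ := hdec g
      have : ((g ^ (p - 1) : G) : G ⧸ centralizer (N : Set G)) = ((h ^ (p - 1) : G) : G ⧸ centralizer (N : Set G)) := by
        simp only [QuotientGroup.mk_pow, e1]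
      rw [this, QuotientGroup.eq_one_iff, hmemC]
      exact hver _ (H.pow_mem hh _) (inVerbal_pow p h)
    have := card_eq_of_abelian_action hNbot hcomm hexp hmin hab hpow
    rw [this]; exact hp

end Cfsg.Agent.Lib.Helper1.Huppert
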