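import Mathlib
import Cfsg.Agent.Lib.Helper1.AbNormal
import Cfsg.Agent.Lib.Helper1.Frattini

/-!
S4586: `[P : P'] = p²` in terms of the centralizer of `x` on `N / N'`.
-/

set_option autoImplicit false

open Subgroup
open scoped commutatorElement

namespace Cfsg.Agent.Lib.Helper1.IndexP

universe u

variable {P : Type u} [Group P]

theorem card_comap_mk [Finite P] (D : Subgroup P) [D.Normal] (K : Subgroup (P ⧸ D)) :
    Nat.card (K.comap (QuotientGroup.mk' D)) = Nat.card K * Nat.card D := by
  have h1 := Subgroup.card_mul_index (K.comap (QuotientGroup.mk' D))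
  rw [Subgroup.index_comap_of_surjective _ (QuotientGroup.mk'_surjective D)] at h1
  have h2 := Subgroup.card_mul_index K
  have h3 := Subgroup.card_eq_card_quotient_mul_card_subgroup D
  have hpos : 0 < K.index := Nat.pos_of_ne_zero (Subgroup.index_ne_zero_of_finite)
  have : Nat.card (K.comap (QuotientGroup.mk' D)) * K.index =
      Nat.card K * Nat.card D * K.index := by
    rw [h1, h3, ← h2]; ring
  exact Nat.eq_of_mul_eq_mul_right hpos this

/-- key formula: `[P : P'] * |N'| = p * c(x)` -/
theorem index_commutator_mul [Finite P] {p : ℕ} [hp : Fact p.Prime]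
    (N : Subgroup P) [hNn : N.Normal] (hN : N.index = p) {x : P} (hx : x ∉ N) :
    (commutator P).index * Nat.card (commutator N) = p *
      Nat.card {n : N // x * n * x⁻¹ * (n : P)⁻¹ ∈ (commutator N).map N.subtype} := by
  have hpp := hp.out
  obtain ⟨D, hDdef⟩ : ∃ D : Subgroup P, D = (commutator N).map N.subtype := ⟨_, rfl⟩
  have hDn : D.Normal := hDdef ▸ ConjAct.normal_of_characteristic_of_normal
  have hDN : D ≤ N := hDdef ▸ Subgroup.map_subtype_le _
  have hDcard : Nat.card D = Nat.card (commutator N) := by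
    rw [hDdef]
    exact Subgroup.card_map_of_injective (Subgroup.subtype_injective N)
  have hDcomm : D ≤ commutator P := by
    rw [hDdef, _root_.commutator_def, Subgroup.map_commutator, _root_.commutator_def]
    exact Subgroup.commutator_mono le_top le_top
  rw [← hDdef, ← hDcard]
  set π := QuotientGroup.mk' D with hπ
  have hπs : Function.Surjective π := QuotientGroup.mk'_surjective D
  have hker : π.ker = D := QuotientGroup.ker_mk' D
  set Nq : Subgroup (P ⧸ D) := N.map π with hNq
  have hNqn : Nq.Normal := hNn.map π hπs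
  have hNqcomm : ∀ a ∈ Nq, ∀ b ∈ Nq, Commute a b := by
    rintro _ ⟨n, hn, rfl⟩ _ ⟨m, hm, rfl⟩
    show π n * π m = π m * π n
    rw [← map_mul, ← map_mul, hπ, QuotientGroup.mk'_apply, QuotientGroup.mk'_apply,
      QuotientGroup.eq]
    have : (n * m)⁻¹ * (m * n) = ⁅m⁻¹, n⁻¹⁆ := by rw [commutatorElement_def]; group
    rw [this, hDdef]
    refine ⟨⁅(⟨m, hm⟩ : N)⁻¹, (⟨n, hn⟩ : N)⁻¹⁆,
      Subgroup.commutator_mem_commutator (mem_top _) (mem_top _), ?_⟩
    rfl
  have hcomapN : Nq.comap π = N := Subgroup.comap_map_eq_self (hker.symm ▸ hDN)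
  have hxq : π x ∉ Nq := by
    intro h
    have : x ∈ Nq.comap π := h
    rw [hcomapN] at this
    exact hx this
  have hNqidx : Nq.index = p := by
    rw [hNq, Subgroup.index_map_eq N hπs (hker.symm ▸ hDN), hN]
  have hNqco : IsCoatom Nq := isCoatom_of_index_prime (hNqidx ▸ hpp)
  have hgen : Nq ⊔ Subgroup.zpowers (π x) = ⊤ := by
    apply hNqco.2
    refine lt_of_le_of_ne le_sup_left ?_
    intro e
    apply hxq
    rw [e]
    exact (le_sup_right : Subgroup.zpowers (π x) ≤ _) (Subgroup.mem_zpowers _)
  have key := AbNormal.card_eq_card_inf_center_mul_card_commutator hNqn hNqcomm hgen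
  -- cardinalities
  have hcN : Nat.card N = Nat.card Nq * Nat.card D := by
    rw [← card_comap_mk D Nq, hcomapN]
  have hcommQ : commutator (P ⧸ D) = (commutator P).map π := by
    rw [_root_.commutator_def, _root_.commutator_def, Subgroup.map_commutator,
      ← MonoidHom.range_eq_map, MonoidHom.range_eq_top.mpr hπs]
  have hcomapC : (commutator (P ⧸ D)).comap π = commutator P := by
    rw [hcommQ]
    exact Subgroup.comap_map_eq_self (hker.symm ▸ hDcomm)
  have hidx : (commutator P).index = (commutator (P ⧸ D)).index := by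
    rw [← hcomapC, Subgroup.index_comap_of_surjective _ hπs]
  -- the set counted by `c(x)`
  have hS : Nat.card {n : N // x * n * x⁻¹ * (n : P)⁻¹ ∈ D} =
      Nat.card ((Nq ⊓ center (P ⧸ D)).comap π) := by
    have hmem : ∀ g : P, g ∈ (Nq ⊓ center (P ⧸ D)).comap π ↔
        g ∈ N ∧ x * g * x⁻¹ * g⁻¹ ∈ D := by
      intro g
      rw [Subgroup.mem_comap, Subgroup.mem_inf]
      have h1 : π g ∈ Nq ↔ g ∈ N := by
        rw [← hcomapN]; rfl
      rw [h1]
      constructor
      · rintro ⟨hgN, hgc⟩
        refine ⟨hgN, ?_⟩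
        rw [← QuotientGroup.eq_one_iff]
        have := Subgroup.mem_center_iff.mp hgc (π x)
        show π (x * g * x⁻¹ * g⁻¹) = 1
        rw [map_mul, map_mul, map_mul, map_inv, map_inv, this]
        group
      · rintro ⟨hgN, hgD⟩
        refine ⟨hgN, ?_⟩
        have hgx : π x * π g = π g * π x := by
          have : π (x * g * x⁻¹ * g⁻¹) = 1 := (QuotientGroup.eq_one_iff _).mpr hgD
          rw [map_mul, map_mul, map_mul, map_inv, map_inv] at this
          calc π x * π g = π x * π g * (π x)⁻¹ * (π g)⁻¹ * (π g * π x) := by group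
            _ = π g * π x := by rw [this, one_mul]
        have hle : Nq ⊔ Subgroup.zpowers (π x) ≤ centralizer ({π g} : Set (P ⧸ D)) := by
          apply sup_le
          · intro c' hc'
            rw [Subgroup.mem_centralizer_singleton_iff]
            exact (hNqcomm _ hc' _ (h1.mpr hgN)).eq
          · rw [Subgroup.zpowers_le, Subgroup.mem_centralizer_singleton_iff]
            exact hgx
        rw [hgen] at hle
        rw [Subgroup.mem_center_iff]
        intro y
        exact Subgroup.mem_centralizer_singleton_iff.mp (hle (mem_top y))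
    refine Nat.card_congr ⟨fun n => ⟨n.1.1, (hmem _).mpr ⟨n.1.2, n.2⟩⟩,
      fun g => ⟨⟨g.1, ((hmem _).mp g.2).1⟩, ((hmem _).mp g.2).2⟩, fun n => rfl, fun g => rfl⟩
  rw [hS, card_comap_mk, hidx]
  -- arithmetic
  have h1 := Subgroup.card_mul_index (commutator (P ⧸ D))
  have h2 := Subgroup.card_mul_index Nq
  rw [hNqidx] at h2
  -- card Nq = z * q', q' * idx = card Q, card Nq * p = card Q
  have hq'pos : 0 < Nat.card (commutator (P ⧸ D)) := Nat.card_pos
  have h3 : Nat.card (commutator (P ⧸ D)) * (commutator (P ⧸ D)).index =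
      Nat.card (commutator (P ⧸ D)) * (p * Nat.card (Nq ⊓ center (P ⧸ D) : Subgroup (P ⧸ D))) := by
    rw [h1, ← h2, key]; ring
  have h4 := Nat.eq_of_mul_eq_mul_left hq'pos h3
  rw [h4]; ring


theorem index_commutator_iff [Finite P] {p : ℕ} [hp : Fact p.Prime]
    (N : Subgroup P) [hNn : N.Normal] (hN : N.index = p) :
    ((commutator P).index = p ^ 2 ↔ ∀ x : P, x ∉ N →
        Nat.card {n : N // x * n * x⁻¹ * (n : P)⁻¹ ∈ (commutator N).map N.subtype} =
          p * Nat.card (commutator N)) ∧
    ((commutator P).index = p ^ 2 ↔ ∃ x : P, x ∉ N ∧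
        Nat.card {n : N // x * n * x⁻¹ * (n : P)⁻¹ ∈ (commutator N).map N.subtype} =
          p * Nat.card (commutator N)) := by
  have hpp := hp.out
  have hdpos : 0 < Nat.card (commutator N) := Nat.card_pos
  have hiff : ∀ x : P, x ∉ N → ((commutator P).index = p ^ 2 ↔
      Nat.card {n : N // x * n * x⁻¹ * (n : P)⁻¹ ∈ (commutator N).map N.subtype} =
        p * Nat.card (commutator N)) := by
    intro x hx
    have key := index_commutator_mul N hN hx
    constructor
    · intro h
      rw [h] at key
      have : p * (p * Nat.card (commutator N)) = p *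
          Nat.card {n : N // x * n * x⁻¹ * (n : P)⁻¹ ∈ (commutator N).map N.subtype} := by
        rw [← key]; ring
      exact (Nat.eq_of_mul_eq_mul_left hpp.pos this).symm
    · intro h
      rw [h] at key
      have : (commutator P).index * Nat.card (commutator N) =
          p ^ 2 * Nat.card (commutator N) := by rw [key]; ring
      exact Nat.eq_of_mul_eq_mul_right hdpos this
  obtain ⟨x₀, hx₀⟩ : ∃ x : P, x ∉ N := by
    by_contra h
    push Not at h
    have : N = ⊤ := eq_top_iff.mpr fun x _ => h x
    rw [this, Subgroup.index_top] at hN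
    exact hpp.one_lt.ne hN
  refine ⟨⟨fun h x hx => (hiff x hx).mp h, fun h => (hiff x₀ hx₀).mpr (h x₀ hx₀)⟩,
    ⟨fun h => ⟨x₀, hx₀, (hiff x₀ hx₀).mp h⟩, fun ⟨x, hx, h⟩ => (hiff x hx).mpr h⟩⟩

end Cfsg.Agent.Lib.Helper1.IndexP
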