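import Mathlib
import Cfsg.Agent.Lib.Helper28.BSGSPerm

/-!
# Subsets of `Fin n` under packed permutation tables  (helper1, for S1624)

Sets are lists of numbers; equality of sets is tested on bit masks; images under tables of helper28's `BSGSPerm`.
-/

set_option autoImplicit false

namespace Cfsg.Agent.Lib.Helper1.J2U

open Cfsg.Agent.Lib.Helper28.BSGS MulAction
open scoped Pointwise

/-- the subset of `Fin n` given by a list of numbers -/
def fs (n : ℕ) (l : List ℕ) : Finset (Fin n) := Finset.univ.filter (fun a => a.val ∈ l)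

theorem mem_fs {n : ℕ} {l : List ℕ} {a : Fin n} : a ∈ fs n l ↔ a.val ∈ l := by
  simp [fs]

/-- image of a list under a table -/
def imgL (w t : ℕ) (l : List ℕ) : List ℕ := l.map (look w t)

/-- all entries are below `n` -/
def ltAll (n : ℕ) (l : List ℕ) : Bool := l.all fun a => decide (a < n)

theorem ltAll_spec {n : ℕ} {l : List ℕ} (h : ltAll n l = true) : ∀ a ∈ l, a < n := by
  unfold ltAll at h
  rw [List.all_eq_true] at h
  intro a ha
  exact of_decide_eq_true (h a ha)

theorem imgL_lt {n w tu tv : ℕ} (h : pairOK n w tu tv = true) {l : List ℕ} (hl : ∀ a ∈ l, a < n) :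
    ∀ a ∈ imgL w tu l, a < n := by
  intro a ha
  unfold imgL at ha
  rw [List.mem_map] at ha
  obtain ⟨b, hb, rfl⟩ := ha
  exact (pairOK_spec h (hl b hb)).1

theorem smul_fs {n w tu tv : ℕ} (h : pairOK n w tu tv = true) (l : List ℕ) (hl : ∀ a ∈ l, a < n) :
    permOf n w tu tv • fs n l = fs n (imgL w tu l) := by
  ext a
  rw [Finset.mem_smul_finset, mem_fs]
  constructor
  · rintro ⟨b, hb, rfl⟩
    rw [mem_fs] at hb
    unfold imgL
    rw [List.mem_map]
    refine ⟨b.val, hb, ?_⟩
    rw [Equiv.Perm.smul_def, permOf_apply h]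
  · intro ha
    unfold imgL at ha
    rw [List.mem_map] at ha
    obtain ⟨c, hc, hca⟩ := ha
    refine ⟨⟨c, hl c hc⟩, mem_fs.mpr hc, ?_⟩
    apply Fin.ext
    rw [Equiv.Perm.smul_def, permOf_apply h]
    exact hca

/-! ## Bit masks -/

/-- the bit mask of a list -/
def maskOf (l : List ℕ) : ℕ := l.foldr (fun a acc => acc ||| (1 <<< a)) 0

theorem testBit_maskOf (l : List ℕ) (b : ℕ) : (maskOf l).testBit b = decide (b ∈ l) := by
  induction l with
  | nil => simp [maskOf]
  | cons a l ih =>
    have : maskOf (a :: l) = maskOf l ||| (1 <<< a) := rfl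
    rw [this, Nat.testBit_lor, ih, Nat.one_shiftLeft, Nat.testBit_two_pow]
    by_cases h2 : a = b
    · subst h2; simp
    · have h3 : ¬ b = a := fun h => h2 h.symm
      simp [h2, h3]

theorem mem_iff_of_mask {l l' : List ℕ} (h : maskOf l = maskOf l') (b : ℕ) : b ∈ l ↔ b ∈ l' := by
  have := testBit_maskOf l b
  rw [h, testBit_maskOf] at this
  exact decide_eq_decide.mp this.symm

theorem fs_eq_of_mask {n : ℕ} {l l' : List ℕ} (h : maskOf l = maskOf l') : fs n l = fs n l' := by
  ext a
  rw [mem_fs, mem_fs]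
  exact mem_iff_of_mask h a.val

theorem mask_eq_of_fs {n : ℕ} {l l' : List ℕ} (hl : ∀ a ∈ l, a < n) (hl' : ∀ a ∈ l', a < n)
    (h : fs n l = fs n l') : maskOf l = maskOf l' := by
  apply Nat.eq_of_testBit_eq
  intro b
  rw [testBit_maskOf, testBit_maskOf]
  apply decide_eq_decide.mpr
  constructor
  · intro hb
    have : (⟨b, hl b hb⟩ : Fin n) ∈ fs n l := mem_fs.mpr hb
    rw [h] at this
    exact mem_fs.mp this
  · intro hb
    have : (⟨b, hl' b hb⟩ : Fin n) ∈ fs n l' := mem_fs.mpr hb
    rw [← h] at this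
    exact mem_fs.mp this

/-- the family of sets of a list of lists -/
def fam (n : ℕ) (L : List (List ℕ)) : Set (Finset (Fin n)) := {T | ∃ l ∈ L, T = fs n l}

theorem mem_fam {n : ℕ} {L : List (List ℕ)} {T : Finset (Fin n)} : T ∈ fam n L ↔ ∃ l ∈ L, T = fs n l := Iff.rfl

theorem fam_finite (n : ℕ) (L : List (List ℕ)) : (fam n L).Finite := Set.toFinite _

theorem ncard_fam {n : ℕ} (L : List (List ℕ)) (hlt : ∀ l ∈ L, ∀ a ∈ l, a < n)
    (hnd : (L.map maskOf).Nodup) : (fam n L).ncard = L.length := by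
  classical
  have hL : L.Nodup := List.Nodup.of_map _ hnd
  have hinj : ∀ x ∈ L, ∀ y ∈ L, fs n x = fs n y → x = y := by
    intro x hx y hy hxy
    have hm := mask_eq_of_fs (hlt x hx) (hlt y hy) hxy
    exact (List.nodup_map_iff_inj_on hL).mp hnd x hx y hy hm
  have hnd2 : (L.map (fs n)).Nodup := (List.nodup_map_iff_inj_on hL).mpr hinj
  have heq : fam n L = ((L.map (fs n)).toFinset : Set (Finset (Fin n))) := by
    ext T
    rw [mem_fam, Finset.mem_coe, List.mem_toFinset, List.mem_map]
    constructor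
    · rintro ⟨l, hl, rfl⟩; exact ⟨l, hl, rfl⟩
    · rintro ⟨l, hl, rfl⟩; exact ⟨l, hl, rfl⟩
  rw [heq, Set.ncard_coe_finset, List.toFinset_card_of_nodup hnd2, List.length_map]

/-! ## Closure of a family under a generated group -/

section Grp

variable (n w : ℕ) [NeZero n]

/-- closure certificate: the family is mapped into itself by every generator -/
def closOK (gens : List (ℕ × ℕ)) (L : List (List ℕ)) : Bool :=
  gens.all fun g => L.all fun l => (L.map maskOf).contains (maskOf (imgL w g.1 l))

/-- a permutation maps the family into itself -/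
def Stable (F : Set (Finset (Fin n))) (p : Equiv.Perm (Fin n)) : Prop := ∀ T ∈ F, p • T ∈ F

theorem stable_one (F : Set (Finset (Fin n))) : Stable n F 1 := by
  intro T hT
  rwa [one_smul]

theorem stable_mul {F : Set (Finset (Fin n))} {p q : Equiv.Perm (Fin n)} (hp : Stable n F p) (hq : Stable n F q) :
    Stable n F (p * q) := by
  intro T hT
  rw [mul_smul]
  exact hp _ (hq _ hT)

theorem stable_pow {F : Set (Finset (Fin n))} {p : Equiv.Perm (Fin n)} (hp : Stable n F p) (k : ℕ) :
    Stable n F (p ^ k) := by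
  induction k with
  | zero => rw [pow_zero]; exact stable_one n F
  | succ k ih => rw [pow_succ]; exact stable_mul n ih hp

theorem stable_inv {F : Set (Finset (Fin n))} {p : Equiv.Perm (Fin n)} (hp : Stable n F p) :
    Stable n F p⁻¹ := by
  have hpos : 0 < orderOf p := orderOf_pos p
  have h1 : p ^ (orderOf p - 1) * p = 1 := by
    rw [← pow_succ, Nat.sub_add_cancel hpos, pow_orderOf_eq_one]
  have h2 : p⁻¹ = p ^ (orderOf p - 1) := (eq_inv_of_mul_eq_one_left h1).symm
  rw [h2]
  exact stable_pow n hp _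

theorem clos_sound (gens : List (ℕ × ℕ)) (L : List (List ℕ)) (hg : gensOK n w gens = true)
    (hlt : ∀ l ∈ L, ∀ a ∈ l, a < n) (h : closOK w gens L = true) :
    ∀ p ∈ genGroup n w gens, Stable n (fam n L) p := by
  intro p hp
  unfold genGroup at hp
  induction hp using Subgroup.closure_induction with
  | mem s hs =>
    have hs' : s ∈ List.map (fun g => permOf n w g.1 g.2) gens := hs
    rw [List.mem_map] at hs'
    obtain ⟨g, hgm, rfl⟩ := hs'
    rintro T ⟨l, hl, rfl⟩
    rw [smul_fs (gensOK_spec n w hg g hgm) l (hlt l hl)]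
    unfold closOK at h
    rw [List.all_eq_true] at h
    have h1 := h g hgm
    rw [List.all_eq_true] at h1
    have h2 := h1 l hl
    rw [List.contains_iff_mem, List.mem_map] at h2
    obtain ⟨l', hl', hm⟩ := h2
    exact ⟨l', hl', fs_eq_of_mask hm.symm⟩
  | one => exact stable_one n _
  | mul x y _ _ hx hy => exact stable_mul n hx hy
  | inv x _ hx => exact stable_inv n hx

/-! ## Words -/

/-- image of a list under a word of table pairs (the last acts first) -/
def pathL (ws : List (ℕ × ℕ)) (l : List ℕ) : List ℕ := ws.foldr (fun g acc => imgL w g.1 acc) l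

/-- the permutation of a word of table pairs -/
def wordPerm (ws : List (ℕ × ℕ)) : Equiv.Perm (Fin n) := (ws.map fun g => permOf n w g.1 g.2).prod

theorem wordPerm_smul (ws : List (ℕ × ℕ)) (hws : ∀ g ∈ ws, pairOK n w g.1 g.2 = true) (l : List ℕ)
    (hl : ∀ a ∈ l, a < n) :
    wordPerm n w ws • fs n l = fs n (pathL w ws l) ∧ ∀ a ∈ pathL w ws l, a < n := by
  induction ws with
  | nil =>
    unfold wordPerm pathL
    simp only [List.map_nil, List.prod_nil, one_smul, List.foldr_nil]
    exact ⟨trivial, hl⟩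
  | cons g ws ih =>
    obtain ⟨ih1, ih2⟩ := ih (fun g' hg' => hws g' (List.mem_cons_of_mem _ hg'))
    have hg := hws g List.mem_cons_self
    have e1 : wordPerm n w (g :: ws) = permOf n w g.1 g.2 * wordPerm n w ws := by
      unfold wordPerm
      rw [List.map_cons, List.prod_cons]
    have e2 : pathL w (g :: ws) l = imgL w g.1 (pathL w ws l) := rfl
    rw [e1, e2, mul_smul, ih1, smul_fs hg _ ih2]
    exact ⟨rfl, imgL_lt hg ih2⟩

theorem wordPerm_mem (gens ws : List (ℕ × ℕ)) (h : ∀ g ∈ ws, g ∈ gens) :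
    wordPerm n w ws ∈ genGroup n w gens := by
  unfold wordPerm
  apply Subgroup.list_prod_mem
  intro s hs
  rw [List.mem_map] at hs
  obtain ⟨g, hg, rfl⟩ := hs
  exact Subgroup.subset_closure (mem_semGens n w (h g hg))

/-! ## Reachability -/

/-- breadth-first reachability certificate for sets -/
def reachOK (hs : List (ℕ × ℕ)) : List (List ℕ) → List (List ℕ) → Bool
  | _, [] => true
  | seen, l :: ls =>
      (hs.any fun g => seen.any fun s => maskOf (imgL w g.1 s) == maskOf l) && reachOK hs (l :: seen) ls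

theorem reach_sound (hs : List (ℕ × ℕ)) (hhs : ∀ g ∈ hs, pairOK n w g.1 g.2 = true)
    (K : Subgroup (Equiv.Perm (Fin n))) (hK : ∀ g ∈ hs, permOf n w g.1 g.2 ∈ K) (T₀ : Finset (Fin n)) :
    ∀ (todo seen : List (List ℕ)), reachOK w hs seen todo = true →
      (∀ s ∈ seen, (∀ a ∈ s, a < n) ∧ ∃ k ∈ K, k • T₀ = fs n s) →
      ∀ l ∈ todo, (∀ a ∈ l, a < n) ∧ ∃ k ∈ K, k • T₀ = fs n l := by
  intro todo
  induction todo with
  | nil => intro _ _ _ l hl; simp at hl
  | cons l ls ih =>
    intro seen h hseen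
    unfold reachOK at h
    rw [Bool.and_eq_true] at h
    obtain ⟨h1, h2⟩ := h
    rw [List.any_eq_true] at h1
    obtain ⟨g, hg, h3⟩ := h1
    rw [List.any_eq_true] at h3
    obtain ⟨s, hs', h4⟩ := h3
    have hm : maskOf (imgL w g.1 s) = maskOf l := beq_iff_eq.mp h4
    obtain ⟨hslt, k, hk, hks⟩ := hseen s hs'
    have hpair := hhs g hg
    have hl : (∀ a ∈ l, a < n) ∧ ∃ k ∈ K, k • T₀ = fs n l := by
      constructor
      · intro a ha
        exact imgL_lt hpair hslt a ((mem_iff_of_mask hm a).mpr ha)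
      · refine ⟨permOf n w g.1 g.2 * k, K.mul_mem (hK g hg) hk, ?_⟩
        rw [mul_smul, hks, smul_fs hpair s hslt]
        exact fs_eq_of_mask hm
    intro l' hl'
    rcases List.mem_cons.mp hl' with rfl | hmem
    · exact hl
    · apply ih (l :: seen) h2 _ l' hmem
      intro s' hs''
      rcases List.mem_cons.mp hs'' with rfl | hmem'
      · exact hl
      · exact hseen s' hmem'

end Grp

end Cfsg.Agent.Lib.Helper1.J2U
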