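import Cfsg.Agent.Lib.Helper1.J2UD
import Cfsg.Agent.Lib.Helper11.IcoPermData

/-!
# Kernel certificates for S1624 (helper1)
-/

set_option autoImplicit false
set_option maxRecDepth 100000

namespace Cfsg.Agent.Lib.Helper1.J2U.D

open Cfsg.Agent.Lib.Helper28.BSGS Cfsg.Agent.Lib.Helper1.J2U
open Cfsg.Agent.Lib.Helper11.Ico

/-- the hundred sets -/
def LL : List (List ℕ) := l0 :: (O1 ++ O2)

theorem l0_len : l0.length = 63 := by decide +kernel
theorem l0_nodup : nodupB l0 = true := by decide +kernel
theorem l0_lt : ltAll 315 l0 = true := by decide +kernel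

theorem hs_ok : gensOK 315 9 hs = true := by decide +kernel

theorem hs_sift : (hs.all fun g => siftB 315 9 PD.levels [g.1]) = true := by decide +kernel

theorem hs_stab : (hs.all fun g => maskOf (imgL 9 g.1 l0) == maskOf l0) = true := by decide +kernel

theorem LL_len : LL.length = 100 := by decide +kernel
theorem LL_lt : (LL.all fun l => ltAll 315 l) = true := by decide +kernel
theorem LL_nodup : nodupB (LL.map maskOf) = true := by decide +kernel

theorem clos_ok : closOK 9 PD.gens LL = true := by decide +kernel

theorem head1_ok : (maskOf (imgL 9 (PD.gens.getD 7 (0, 0)).1 l0) == maskOf (O1.headD [])) = true := by decide +kernel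
theorem head2_ok : (maskOf (imgL 9 (PD.gens.getD 0 (0, 0)).1 l0) == maskOf (O2.headD [])) = true := by decide +kernel

theorem reach1_ok : reachOK 9 hs [O1.headD []] O1.tail = true := by decide +kernel
theorem reach2_ok : reachOK 9 hs [O2.headD []] O2.tail = true := by decide +kernel

theorem gensA_ok : gensOK 63 6 gensA = true := by decide +kernel
theorem chainA_ok : checkChain 63 6 gensA levelsA = true := by decide +kernel
theorem sizeA : codeSize levelsA = 6048 := by decide +kernel

theorem restr_ok : ((List.range 6).all fun k => (List.range 63).all fun i =>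
    look 9 (hs.getD k (0, 0)).1 (l0.getD i 0) == l0.getD (look 6 (gensA.getD k (0, 0)).1 i) 0) = true := by
  decide +kernel

end Cfsg.Agent.Lib.Helper1.J2U.D
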