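import Mathlib

/-!
# Group-theoretic glue for S1624  (helper1)
-/

set_option autoImplicit false

namespace Cfsg.Agent.Lib.Helper1.J2U

open MulAction
open scoped Pointwise

/-- a homomorphism whose range contains a subgroup at least as large as the source is an isomorphism onto it -/
theorem iso_of_hom_card {H X : Type*} [Group H] [Group X] [Finite H] (r : H →* X) (A : Subgroup X)
    (hA : A ≤ r.range) (hcard : Nat.card H ≤ Nat.card A) : Nonempty (H ≃* A) := by
  have hfin : Finite r.range := Finite.of_surjective r.rangeRestrict r.rangeRestrict_surjective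
  have h1 : Nat.card r.range ≤ Nat.card H := Nat.card_le_card_of_surjective _ r.rangeRestrict_surjective
  have h2 : Nat.card A ≤ Nat.card r.range := Subgroup.card_le_of_le hA
  have hAr : A = r.range := Subgroup.eq_of_le_of_card_ge hA (by omega)
  have hbij : Function.Bijective r.rangeRestrict :=
    Function.Surjective.bijective_of_nat_card_le r.rangeRestrict_surjective (by omega)
  exact ⟨(MulEquiv.ofBijective r.rangeRestrict hbij).trans (MulEquiv.subgroupCongr hAr.symm)⟩

/-! ## Restriction to an invariant subset -/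

section Restr

variable {n m : ℕ}

/-- the enumeration of a subset of `Fin n` by a duplicate-free list of length `m` -/
def enumEquiv (l₀ : List ℕ) (hm : l₀.length = m) (hnd : l₀.Nodup) (hlt : ∀ a ∈ l₀, a < n) :
    Fin m ≃ {a : Fin n // a.val ∈ l₀} where
  toFun i := ⟨⟨l₀[i.val]'(by rw [hm]; exact i.isLt), hlt _ (List.getElem_mem _)⟩, List.getElem_mem _⟩
  invFun a := ⟨l₀.idxOf a.val.val, by rw [← hm]; exact List.idxOf_lt_length_iff.mpr a.2⟩
  left_inv i := by
    apply Fin.ext
    exact hnd.idxOf_getElem _ _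
  right_inv a := by
    apply Subtype.ext
    apply Fin.ext
    exact List.getElem_idxOf _

theorem enumEquiv_val (l₀ : List ℕ) (hm : l₀.length = m) (hnd : l₀.Nodup) (hlt : ∀ a ∈ l₀, a < n) (i : Fin m) :
    ((enumEquiv l₀ hm hnd hlt i).val : Fin n).val = l₀[i.val]'(by rw [hm]; exact i.isLt) := rfl

variable {Γ : Type*} [Group Γ] (j : Γ →* Equiv.Perm (Fin n)) (l₀ : List ℕ) (hm : l₀.length = m) (hnd : l₀.Nodup)
  (hlt : ∀ a ∈ l₀, a < n) (hst : ∀ γ : Γ, ∀ a : Fin n, a.val ∈ l₀ → (j γ a).val ∈ l₀)

/-- the restriction, as a function -/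
def restrFun (γ : Γ) (i : Fin m) : Fin m :=
  (enumEquiv l₀ hm hnd hlt).symm ⟨j γ (enumEquiv l₀ hm hnd hlt i).val, hst γ _ (enumEquiv l₀ hm hnd hlt i).2⟩

theorem enum_restrFun (γ : Γ) (i : Fin m) :
    ((enumEquiv l₀ hm hnd hlt (restrFun j l₀ hm hnd hlt hst γ i)).val : Fin n) =
      j γ (enumEquiv l₀ hm hnd hlt i).val := by
  unfold restrFun
  rw [Equiv.apply_symm_apply]

theorem restrFun_one (i : Fin m) : restrFun j l₀ hm hnd hlt hst 1 i = i := by
  apply (enumEquiv l₀ hm hnd hlt).injective
  apply Subtype.ext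
  rw [enum_restrFun, map_one, Equiv.Perm.one_apply]

theorem restrFun_mul (γ γ' : Γ) (i : Fin m) :
    restrFun j l₀ hm hnd hlt hst (γ * γ') i =
      restrFun j l₀ hm hnd hlt hst γ (restrFun j l₀ hm hnd hlt hst γ' i) := by
  apply (enumEquiv l₀ hm hnd hlt).injective
  apply Subtype.ext
  rw [enum_restrFun, enum_restrFun, enum_restrFun, map_mul, Equiv.Perm.mul_apply]

/-- the restriction, as endomorphisms -/
def restrEnd : Γ →* Function.End (Fin m) where
  toFun γ := restrFun j l₀ hm hnd hlt hst γ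
  map_one' := by
    funext i
    exact restrFun_one j l₀ hm hnd hlt hst i
  map_mul' γ γ' := by
    funext i
    exact restrFun_mul j l₀ hm hnd hlt hst γ γ' i

/-- the restriction of a group of permutations to an invariant subset enumerated by a list -/
def restrHom : Γ →* Equiv.Perm (Fin m) := (restrEnd j l₀ hm hnd hlt hst).toHomPerm

theorem restrHom_apply (γ : Γ) (i : Fin m) :
    (j γ ⟨l₀[i.val]'(by rw [hm]; exact i.isLt), hlt _ (List.getElem_mem _)⟩).val =
      l₀[(restrHom j l₀ hm hnd hlt hst γ i).val]'(by rw [hm]; exact (restrHom j l₀ hm hnd hlt hst γ i).isLt) := by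
  have h1 : restrHom j l₀ hm hnd hlt hst γ i = restrFun j l₀ hm hnd hlt hst γ i := rfl
  have h2 := enum_restrFun j l₀ hm hnd hlt hst γ i
  rw [← h1] at h2
  exact (congrArg Fin.val h2).symm

/-- the restriction is determined by a table check -/
theorem restrHom_eq (γ : Γ) (σ : Equiv.Perm (Fin m))
    (h : ∀ i : Fin m, (j γ ⟨l₀[i.val]'(by rw [hm]; exact i.isLt), hlt _ (List.getElem_mem _)⟩).val =
      l₀[(σ i).val]'(by rw [hm]; exact (σ i).isLt)) :
    restrHom j l₀ hm hnd hlt hst γ = σ := by
  apply Equiv.ext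
  intro i
  have h1 := restrHom_apply j l₀ hm hnd hlt hst γ i
  rw [h i] at h1
  apply Fin.ext
  exact (List.Nodup.getElem_inj_iff hnd).mp h1.symm

end Restr

/-! ## Orbits on cosets of a stabiliser -/

theorem ncard_orbit_quotient_stabilizer {G X : Type*} [Group G] [MulAction G X] (x₀ : X) (g : G) :
    (orbit (stabilizer G x₀) ((g : G ⧸ stabilizer G x₀))).ncard = (orbit (stabilizer G x₀) (g • x₀)).ncard := by
  have hinj := injective_ofQuotientStabilizer G x₀
  have himg : (ofQuotientStabilizer G x₀) '' (orbit (stabilizer G x₀) ((g : G ⧸ stabilizer G x₀))) =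
      orbit (stabilizer G x₀) (g • x₀) := by
    ext y
    constructor
    · rintro ⟨c, ⟨h, rfl⟩, rfl⟩
      refine ⟨h, ?_⟩
      show (h : G) • g • x₀ = ofQuotientStabilizer G x₀ ((h : G) • (g : G ⧸ stabilizer G x₀))
      rw [ofQuotientStabilizer_smul, ofQuotientStabilizer_mk]
    · rintro ⟨h, rfl⟩
      refine ⟨h • (g : G ⧸ stabilizer G x₀), ⟨h, rfl⟩, ?_⟩
      show ofQuotientStabilizer G x₀ ((h : G) • (g : G ⧸ stabilizer G x₀)) = (h : G) • g • x₀
      rw [ofQuotientStabilizer_smul, ofQuotientStabilizer_mk]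
  rw [← himg, Set.ncard_image_of_injective _ hinj]

/-! ## Transport along an isomorphism -/

section Transport

variable {G G' : Type*} [Group G] [Group G'] (e : G ≃* G') (H' : Subgroup G')

/-- the induced map on coset spaces -/
def quotMap : G ⧸ H'.comap e.toMonoidHom → G' ⧸ H' :=
  Quotient.map' e (by
    intro a b hab
    rw [QuotientGroup.leftRel_apply] at hab ⊢
    have : e (a⁻¹ * b) ∈ H' := hab
    rwa [map_mul, map_inv] at this)

theorem quotMap_mk (a : G) : quotMap e H' (a : G ⧸ H'.comap e.toMonoidHom) = ((e a : G') : G' ⧸ H') := rfl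

theorem quotMap_injective : Function.Injective (quotMap e H') := by
  intro c d
  induction c using QuotientGroup.induction_on with
  | H a =>
    induction d using QuotientGroup.induction_on with
    | H b =>
      intro h
      rw [quotMap_mk, quotMap_mk, QuotientGroup.eq] at h
      rw [QuotientGroup.eq]
      show e (a⁻¹ * b) ∈ H'
      rwa [map_mul, map_inv]

theorem ncard_orbit_transport (a : G) :
    (orbit (H'.comap e.toMonoidHom) (a : G ⧸ H'.comap e.toMonoidHom)).ncard =
      (orbit H' ((e a : G') : G' ⧸ H')).ncard := by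
  have himg : (quotMap e H') '' (orbit (H'.comap e.toMonoidHom) (a : G ⧸ H'.comap e.toMonoidHom)) =
      orbit H' ((e a : G') : G' ⧸ H') := by
    ext y
    constructor
    · rintro ⟨c, ⟨h, rfl⟩, rfl⟩
      refine ⟨⟨e h, h.2⟩, ?_⟩
      show (((e h : G') * e a : G') : G' ⧸ H') = quotMap e H' ((((h : G) * a : G)) : G ⧸ H'.comap e.toMonoidHom)
      rw [quotMap_mk, map_mul]
    · rintro ⟨h', rfl⟩
      have hm : e.symm h' ∈ H'.comap e.toMonoidHom := by
        show e (e.symm h') ∈ H'
        rw [MulEquiv.apply_symm_apply]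
        exact h'.2
      refine ⟨(⟨e.symm h', hm⟩ : H'.comap e.toMonoidHom) • (a : G ⧸ H'.comap e.toMonoidHom), ⟨_, rfl⟩, ?_⟩
      show quotMap e H' ((((e.symm h' : G) * a : G)) : G ⧸ H'.comap e.toMonoidHom) =
        ((((h' : G') * e a : G')) : G' ⧸ H')
      rw [quotMap_mk, map_mul, MulEquiv.apply_symm_apply]
  rw [← himg, Set.ncard_image_of_injective _ (quotMap_injective e H')]

include e in
/-- transport of the shape of S1624 along an isomorphism -/
theorem transport_shape {Y : Type*} [Group Y] (i b c : ℕ)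
    (h : ∃ H : Subgroup G', H.index = i ∧ Nonempty (↥H ≃* Y) ∧
      ∃ c₁ c₂ : G' ⧸ H, (orbit ↥H c₁).ncard = b ∧ (orbit ↥H c₂).ncard = c) :
    ∃ H : Subgroup G, H.index = i ∧ Nonempty (↥H ≃* Y) ∧
      ∃ c₁ c₂ : G ⧸ H, (orbit ↥H c₁).ncard = b ∧ (orbit ↥H c₂).ncard = c := by
  obtain ⟨H', hi, ⟨f⟩, c₁, c₂, h1, h2⟩ := h
  refine ⟨H'.comap e.toMonoidHom, ?_, ?_, ?_⟩
  · rw [Subgroup.index_comap_of_surjective H' e.surjective, hi]
  · have hmap : H'.comap e.toMonoidHom = H'.map e.symm.toMonoidHom := Subgroup.comap_equiv_eq_map_symm e H'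
    exact ⟨(MulEquiv.subgroupCongr hmap).trans ((e.symm.subgroupMap H').symm.trans f)⟩
  · induction c₁ using QuotientGroup.induction_on with
    | H a₁ =>
      induction c₂ using QuotientGroup.induction_on with
      | H a₂ =>
        refine ⟨((e.symm a₁ : G) : G ⧸ H'.comap e.toMonoidHom), ((e.symm a₂ : G) : G ⧸ H'.comap e.toMonoidHom), ?_, ?_⟩
        · rw [ncard_orbit_transport, MulEquiv.apply_symm_apply, h1]
        · rw [ncard_orbit_transport, MulEquiv.apply_symm_apply, h2]

end Transport

end Cfsg.Agent.Lib.Helper1.J2U
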