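import Mathlib
import Cfsg.Agent.S0280
import Cfsg.Agent.Lib.Helper16.FieldAutGU
import Cfsg.Agent.Lib.Helper16.IcoAsm
import Cfsg.Agent.Lib.Helper1.J2UG
import Cfsg.Agent.Lib.Helper1.J2UE

/-!
# `PSU(3,3)` on its 63 non-isotropic points  (helper1, for S1624)

A concrete field `F9` with nine elements; `SU(3, F9)` acts on the 63 non-isotropic points of `F9³`; six explicit
matrices induce the six permutations `gensA` of `J2UD`; hence `PSU 3 F9 3 ≃* genGroup 63 6 gensA`.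
-/

set_option autoImplicit false

namespace Cfsg.Agent.Lib.Helper1.J2U

open Cfsg.Agent.Lib.Helper28.BSGS Matrix

/-- the field with nine elements `F₃[i]`, `i² = -1`; the element `a + b i` has code `a + 3 b` -/
structure F9 : Type where
  v : Fin 9
deriving DecidableEq

namespace F9

instance instFintypeF9 : Fintype F9 := Fintype.ofEquiv (Fin 9) ⟨F9.mk, F9.v, fun _ => rfl, fun _ => rfl⟩

/-- the element with a given code -/
def ofNat (k : ℕ) : F9 := ⟨⟨k % 9, Nat.mod_lt _ (by norm_num)⟩⟩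

/-- addition -/
def add (x y : F9) : F9 :=
  ofNat ((x.v.val % 3 + y.v.val % 3) % 3 + 3 * ((x.v.val / 3 + y.v.val / 3) % 3))

/-- multiplication -/
def mul (x y : F9) : F9 :=
  ofNat (((x.v.val % 3) * (y.v.val % 3) + 2 * ((x.v.val / 3) * (y.v.val / 3))) % 3 +
    3 * (((x.v.val % 3) * (y.v.val / 3) + (x.v.val / 3) * (y.v.val % 3)) % 3))

/-- negation -/
def neg (x : F9) : F9 :=
  ofNat ((3 - x.v.val % 3) % 3 + 3 * ((3 - x.v.val / 3) % 3))

/-- `x⁻¹ = x⁷` -/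
def inv (x : F9) : F9 := mul x (mul (mul x x) (mul (mul x x) (mul x x)))

instance instAddF9 : Add F9 := ⟨add⟩
instance instMulF9 : Mul F9 := ⟨mul⟩
instance instNegF9 : Neg F9 := ⟨neg⟩
instance instZeroF9 : Zero F9 := ⟨ofNat 0⟩
instance instOneF9 : One F9 := ⟨ofNat 1⟩
instance instInvF9 : Inv F9 := ⟨inv⟩

instance instFieldF9 : Field F9 where
  add_assoc := by decide
  zero_add := by decide
  add_zero := by decide
  nsmul := nsmulRec
  neg_add_cancel := by decide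
  add_comm := by decide
  zsmul := zsmulRec
  left_distrib := by decide
  right_distrib := by decide
  zero_mul := by decide
  mul_zero := by decide
  mul_assoc := by decide
  one_mul := by decide
  mul_one := by decide
  npow := npowRec
  mul_comm := by decide
  exists_pair_ne := ⟨0, 1, by decide⟩
  mul_inv_cancel := by decide
  inv_zero := by decide
  nnqsmul := _
  qsmul := _

theorem card : Fintype.card F9 = 9 := by decide

theorem card' : Fintype.card F9 = 3 ^ 2 := by decide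

end F9

/-! ## The 63 points -/

/-- the points, as triples of codes; the order matches the list `D.l0` -/
def ptsL : List (ℕ × ℕ × ℕ) :=
  [(1, 3, 8), (1, 8, 3), (1, 4, 5), (1, 5, 4), (1, 7, 3), (1, 3, 7), (1, 4, 4), (1, 7, 7), (0, 1, 1), (1, 0, 0), (1, 5, 5), (1, 8, 8), (1, 0, 3), (1, 3, 0), (0, 1, 2), (1, 1, 0), (1, 1, 8), (1, 0, 1), (1, 5, 1), (1, 8, 1), (1, 4, 7), (1, 1, 5), (1, 7, 4), (1, 2, 0), (1, 4, 2), (1, 0, 2), (1, 2, 4), (1, 8, 5), (1, 7, 2), (1, 2, 7), (1, 5, 8), (0, 1, 0), (0, 1, 6), (1, 4, 3), (1, 8, 6), (1, 6, 4), (1, 2, 8), (1, 7, 6), (1, 2, 5), (1, 5, 6), (1, 8, 2), (1, 7, 1), (1, 4, 1), (1, 5, 2), (1, 6, 0), (1, 7, 5), (1, 4, 6), (1, 3, 4), (1, 8, 7), (1, 5, 3), (0, 1, 3), (1, 4, 8), (1, 6, 7), (1, 3, 5), (1, 7, 8), (1, 1, 7), (1, 8, 4), (1, 6, 5), (1, 5, 7), (1, 0, 6), (1, 1, 4), (0, 0, 1), (1, 6, 8)]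

/-- the six matrices, as lists of codes (row by row) -/
def MsL : List (List ℕ) :=
  [[0, 0, 1, 0, 1, 0, 2, 0, 0], [0, 0, 1, 4, 4, 0, 5, 7, 0], [7, 3, 2, 3, 7, 1, 1, 2, 7], [1, 0, 0, 0, 7, 5, 0, 4, 4], [7, 5, 0, 2, 2, 4, 1, 1, 4], [7, 6, 6, 6, 7, 6, 6, 6, 7]]

/-- the coordinates of the point number `j` -/
def ptN (j : ℕ) (r : Fin 3) : F9 :=
  match r with
  | 0 => F9.ofNat (ptsL.getD j (0, 0, 0)).1
  | 1 => F9.ofNat (ptsL.getD j (0, 0, 0)).2.1
  | 2 => F9.ofNat (ptsL.getD j (0, 0, 0)).2.2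

/-- the point number `j` -/
def pts (j : Fin 63) : Fin 3 → F9 := ptN j.val

/-- `h(v,v)` on a triple -/
def hermT (a b c : F9) : F9 := a * a ^ 3 + b * b ^ 3 + c * c ^ 3

theorem herm_eq (u v : Fin 3 → F9) :
    Cfsg.hermForm 3 F9 3 u v = u 0 * (v 0) ^ 3 + u 1 * (v 1) ^ 3 + u 2 * (v 2) ^ 3 := by
  unfold Cfsg.hermForm
  rw [Fin.sum_univ_three]

set_option maxRecDepth 100000 in
theorem pts_cover : ∀ a b c : F9, hermT a b c = 0 ∨
    ∃ j : Fin 63, ∃ s : F9, s ≠ 0 ∧ a = s * pts j 0 ∧ b = s * pts j 1 ∧ c = s * pts j 2 := by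
  decide +kernel

set_option maxRecDepth 100000 in
theorem pts_unique : ∀ i j : Fin 63, ∀ s : F9, s ≠ 0 →
    (pts i 0 = s * pts j 0 ∧ pts i 1 = s * pts j 1 ∧ pts i 2 = s * pts j 2) → i = j := by
  decide +kernel

end Cfsg.Agent.Lib.Helper1.J2U
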