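import Cfsg.Agent.Lib.Helper1.J2UB

/-!
# The action of `SU(3, F9)` on the 63 points, and `PSU 3 F9 3 ≃* genGroup 63 6 gensA`  (helper1, for S1624)
-/

set_option autoImplicit false

namespace Cfsg.Agent.Lib.Helper1.J2U

open Cfsg.Agent.Lib.Helper28.BSGS Matrix

/-- `v` is a non-zero multiple of the point `j` -/
def OnPt (v : Fin 3 → F9) (j : Fin 63) : Prop := ∃ s : F9, s ≠ 0 ∧ v = s • pts j

theorem exists_onPt (v : Fin 3 → F9) (hv : Cfsg.hermForm 3 F9 3 v v ≠ 0) : ∃ j, OnPt v j := by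
  rcases pts_cover (v 0) (v 1) (v 2) with h | ⟨j, s, hs, h0, h1, h2⟩
  · exfalso
    apply hv
    rw [herm_eq]
    exact h
  · refine ⟨j, s, hs, ?_⟩
    funext r
    rw [Pi.smul_apply, smul_eq_mul]
    fin_cases r
    · exact h0
    · exact h1
    · exact h2

theorem onPt_unique {v : Fin 3 → F9} {j j' : Fin 63} (h : OnPt v j) (h' : OnPt v j') : j = j' := by
  obtain ⟨s, hs, rfl⟩ := h
  obtain ⟨s', hs', h2⟩ := h'
  have h3 : pts j = (s⁻¹ * s') • pts j' := by
    rw [mul_smul, ← h2, smul_smul, inv_mul_cancel₀ hs, one_smul]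
  have hi : s⁻¹ ≠ 0 := by
    have := @inv_ne_zero F9 _ s hs
    exact this
  have hne : s⁻¹ * s' ≠ 0 := by
    have := @mul_ne_zero F9 _ _ _ s⁻¹ s' hi hs'
    exact this
  apply pts_unique j j' (s⁻¹ * s') hne
  have e0 := congrFun h3 0
  have e1 := congrFun h3 1
  have e2 := congrFun h3 2
  rw [Pi.smul_apply, smul_eq_mul] at e0 e1 e2
  exact ⟨e0, e1, e2⟩

theorem herm_pts_ne (j : Fin 63) : Cfsg.hermForm 3 F9 3 (pts j) (pts j) ≠ 0 := by
  rw [herm_eq]
  revert j
  decide +kernel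

/-- the matrix of an element of `SU` -/
def matSU (g : Cfsg.SU 3 F9 3) : Matrix (Fin 3) (Fin 3) F9 := ((g : Matrix.SpecialLinearGroup (Fin 3) F9) : Matrix (Fin 3) (Fin 3) F9)

theorem matSU_mul (g g' : Cfsg.SU 3 F9 3) : matSU (g * g') = matSU g * matSU g' := rfl

theorem matSU_one : matSU 1 = 1 := rfl

theorem herm_matSU (g : Cfsg.SU 3 F9 3) (x y : Fin 3 → F9) :
    Cfsg.hermForm 3 F9 3 (matSU g *ᵥ x) (matSU g *ᵥ y) = Cfsg.hermForm 3 F9 3 x y := g.2 x y

theorem exists_rho (g : Cfsg.SU 3 F9 3) (i : Fin 63) : ∃ j, OnPt (matSU g *ᵥ pts i) j := by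
  apply exists_onPt
  rw [herm_matSU]
  exact herm_pts_ne i

/-- the action on point numbers -/
noncomputable def rhoFun (g : Cfsg.SU 3 F9 3) (i : Fin 63) : Fin 63 := Classical.choose (exists_rho g i)

theorem rhoFun_spec (g : Cfsg.SU 3 F9 3) (i : Fin 63) : OnPt (matSU g *ᵥ pts i) (rhoFun g i) :=
  Classical.choose_spec (exists_rho g i)

theorem rhoFun_eq (g : Cfsg.SU 3 F9 3) (i j : Fin 63) (h : OnPt (matSU g *ᵥ pts i) j) : rhoFun g i = j :=
  onPt_unique (rhoFun_spec g i) h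

theorem rhoFun_one (i : Fin 63) : rhoFun 1 i = i := by
  apply rhoFun_eq
  refine ⟨1, one_ne_zero, ?_⟩
  rw [matSU_one, Matrix.one_mulVec, one_smul]

theorem rhoFun_mul (g g' : Cfsg.SU 3 F9 3) (i : Fin 63) : rhoFun (g * g') i = rhoFun g (rhoFun g' i) := by
  apply rhoFun_eq
  obtain ⟨s', hs', h'⟩ := rhoFun_spec g' i
  obtain ⟨s, hs, h⟩ := rhoFun_spec g (rhoFun g' i)
  have hne : s' * s ≠ 0 := by
    have := @mul_ne_zero F9 _ _ _ s' s hs' hs
    exact this
  refine ⟨s' * s, hne, ?_⟩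
  rw [matSU_mul, ← Matrix.mulVec_mulVec, h', Matrix.mulVec_smul, h, smul_smul]

/-- the action, as endomorphisms -/
noncomputable def rhoEnd : Cfsg.SU 3 F9 3 →* Function.End (Fin 63) where
  toFun g := rhoFun g
  map_one' := by
    funext i
    exact rhoFun_one i
  map_mul' g g' := by
    funext i
    exact rhoFun_mul g g' i

/-- the permutation action of `SU(3, F9)` on the 63 non-isotropic points -/
noncomputable def rho : Cfsg.SU 3 F9 3 →* Equiv.Perm (Fin 63) := rhoEnd.toHomPerm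

theorem rho_apply (g : Cfsg.SU 3 F9 3) (i : Fin 63) : rho g i = rhoFun g i := rfl

theorem rho_eq (g : Cfsg.SU 3 F9 3) (σ : Equiv.Perm (Fin 63)) (h : ∀ i, OnPt (matSU g *ᵥ pts i) (σ i)) :
    rho g = σ := by
  apply Equiv.ext
  intro i
  rw [rho_apply]
  exact rhoFun_eq g i _ (h i)

/-! ## The six matrices -/

/-- the `k`-th matrix -/
def matK (k : ℕ) : Matrix (Fin 3) (Fin 3) F9 := fun r c => F9.ofNat ((MsL.getD k []).getD (3 * r.val + c.val) 0)

set_option maxRecDepth 100000 in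
theorem mats_unitary : ∀ k : Fin 6, ∀ i j : Fin 3,
    matK k 0 i * (matK k 0 j) ^ 3 + matK k 1 i * (matK k 1 j) ^ 3 + matK k 2 i * (matK k 2 j) ^ 3 =
      if i = j then 1 else 0 := by
  decide +kernel

set_option maxRecDepth 100000 in
theorem mats_det : ∀ k : Fin 6,
    matK k 0 0 * matK k 1 1 * matK k 2 2 - matK k 0 0 * matK k 1 2 * matK k 2 1
      - matK k 0 1 * matK k 1 0 * matK k 2 2 + matK k 0 1 * matK k 1 2 * matK k 2 0
      + matK k 0 2 * matK k 1 0 * matK k 2 1 - matK k 0 2 * matK k 1 1 * matK k 2 0 = 1 := by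
  decide +kernel

set_option maxRecDepth 100000 in
theorem mats_table : ∀ k : Fin 6, ∀ i : Fin 63, ∃ s : F9, s ≠ 0 ∧ ∀ r : Fin 3,
    matK k r 0 * pts i 0 + matK k r 1 * pts i 1 + matK k r 2 * pts i 2 =
      s * ptN (look 6 (D.gensA.getD k (0, 0)).1 i) r := by
  decide +kernel

theorem matK_det (k : Fin 6) : (matK k).det = 1 := by
  rw [Matrix.det_fin_three]
  exact mats_det k

theorem matK_pres (k : Fin 6) (x y : Fin 3 → F9) :
    Cfsg.hermForm 3 F9 3 (matK k *ᵥ x) (matK k *ᵥ y) = Cfsg.hermForm 3 F9 3 x y := by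
  revert x y
  rw [Cfsg.Agent.Lib.Helper16.pres_iff F9.card']
  ext i j
  rw [Matrix.mul_apply, Fin.sum_univ_three, Matrix.one_apply]
  simp only [Matrix.transpose_apply, Matrix.map_apply, Cfsg.Agent.Lib.Helper6.conjQ_apply]
  exact mats_unitary k i j

/-- the `k`-th matrix as an element of `SU` -/
def gK (k : Fin 6) : Cfsg.SU 3 F9 3 := ⟨⟨matK k, matK_det k⟩, matK_pres k⟩

theorem matSU_gK (k : Fin 6) : matSU (gK k) = matK k := rfl

open Cfsg.Agent.Lib.Helper16.IcoAsm in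
theorem rho_gK (k : Fin 6) : rho (gK k) = gperm 63 6 D.gensA k.val := by
  apply rho_eq
  intro i
  obtain ⟨s, hs, h⟩ := mats_table k i
  refine ⟨s, hs, ?_⟩
  funext r
  have hlen : k.val < D.gensA.length := by
    have : D.gensA.length = 6 := by decide
    rw [this]; exact k.isLt
  have e1 : (gperm 63 6 D.gensA k.val i).val = look 6 (D.gensA.getD k.val (0, 0)).1 i.val :=
    gperm_apply D.gensA_ok hlen i
  rw [matSU_gK, Pi.smul_apply, smul_eq_mul, Matrix.mulVec, dotProduct, Fin.sum_univ_three]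
  have e2 : pts (gperm 63 6 D.gensA k.val i) r = ptN (look 6 (D.gensA.getD k.val (0, 0)).1 i.val) r := by
    unfold pts
    rw [e1]
  rw [e2]
  exact h r

/-! ## Orders -/

theorem card_PSU : Nat.card (Cfsg.PSU 3 F9 3) = 6048 := by
  have h := Cfsg.Agent.S0280.result (F := F9) (q := 3) F9.card' 3 (by norm_num)
  have e1 : Nat.gcd 3 (3 + 1) = 1 := by decide
  have e2 : (3 : ℕ) ^ (3 * (3 - 1) / 2) * ∏ i ∈ Finset.range 3, (if Even i then 3 ^ (i + 1) + 1 else 3 ^ (i + 1) - 1) = 24192 := by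
    decide
  rw [e1, e2] at h
  omega

theorem center_SU : Subgroup.center (Cfsg.SU 3 F9 3) = ⊥ := by
  have h := Cfsg.Agent.Lib.Helper16.card_center_SU (F := F9) (q := 3) (n := 3) F9.card' (by norm_num)
  have e1 : Nat.gcd 3 (3 + 1) = 1 := by decide
  rw [e1] at h
  exact Subgroup.card_eq_one.mp h

theorem card_SU : Nat.card (Cfsg.SU 3 F9 3) = 6048 := by
  have h := Subgroup.card_eq_card_quotient_mul_card_subgroup (Subgroup.center (Cfsg.SU 3 F9 3))
  rw [card_PSU, center_SU, Subgroup.card_bot, mul_one] at h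
  exact h

/-- `PSU(3,3)` is `SU(3,3)` -/
noncomputable def psuEquivSU : Cfsg.PSU 3 F9 3 ≃* Cfsg.SU 3 F9 3 :=
  (QuotientGroup.quotientMulEquivOfEq center_SU).trans QuotientGroup.quotientBot

instance instFiniteSU9 : Finite (Cfsg.SU 3 F9 3) := Nat.finite_of_card_ne_zero (by rw [card_SU]; norm_num)

open Cfsg.Agent.Lib.Helper16.IcoAsm in
/-- **`PSU(3,3)` is the certified permutation group of degree 63.** -/
theorem psu_iso_A : Nonempty (Cfsg.PSU 3 F9 3 ≃* genGroup 63 6 D.gensA) := by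
  have hA : genGroup 63 6 D.gensA ≤ rho.range := by
    unfold genGroup
    rw [Subgroup.closure_le]
    intro s hs
    obtain ⟨k, hk, rfl⟩ := exists_gperm_of_mem hs
    have hlen : D.gensA.length = 6 := by decide
    rw [hlen] at hk
    exact ⟨gK ⟨k, hk⟩, rho_gK ⟨k, hk⟩⟩
  have hcard : Nat.card (Cfsg.SU 3 F9 3) ≤ Nat.card (genGroup 63 6 D.gensA) := by
    rw [card_SU, (perm_main 63 6 D.gensA D.levelsA D.gensA_ok D.chainA_ok).1, D.sizeA]
  obtain ⟨f⟩ := iso_of_hom_card rho (genGroup 63 6 D.gensA) hA hcard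
  exact ⟨psuEquivSU.trans f⟩

end Cfsg.Agent.Lib.Helper1.J2U
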