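import Cfsg.Agent.Lib.Helper1.J2UC

/-!
# Assembly for S1624 inside the degree-315 Hall–Janko group  (helper1)
-/

set_option autoImplicit false

namespace Cfsg.Agent.Lib.Helper1.J2U

open Cfsg.Agent.Lib.Helper28.BSGS MulAction Cfsg.Agent.Lib.Helper16.IcoAsm
open Cfsg.Agent.Lib.Helper11.Ico
open scoped Pointwise

/-- the Hall–Janko group of degree 315 -/
abbrev PP : Subgroup (Equiv.Perm (Fin 315)) := genGroup 315 9 PD.gens

/-- the 63 points -/
def S0 : Finset (Fin 315) := fs 315 D.l0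

/-- the representatives of the two non-trivial suborbits -/
def T1 : Finset (Fin 315) := fs 315 (D.O1.headD [])
def T2 : Finset (Fin 315) := fs 315 (D.O2.headD [])

theorem l0_lt' : ∀ a ∈ D.l0, a < 315 := ltAll_spec D.l0_lt

theorem LL_lt' : ∀ l ∈ D.LL, ∀ a ∈ l, a < 315 := by
  intro l hl
  have h := D.LL_lt
  rw [List.all_eq_true] at h
  exact ltAll_spec (h l hl)

theorem LL_nodup' : (D.LL.map maskOf).Nodup := nodupB_sound _ D.LL_nodup

theorem l0_mem_LL : D.l0 ∈ D.LL := List.mem_cons_self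

theorem O1_sub : ∀ l ∈ D.O1, l ∈ D.LL := fun l hl =>
  List.mem_cons_of_mem _ (List.mem_append_left _ hl)

theorem O2_sub : ∀ l ∈ D.O2, l ∈ D.LL := fun l hl =>
  List.mem_cons_of_mem _ (List.mem_append_right _ hl)

theorem O1_ne : D.O1 ≠ [] := by decide
theorem O2_ne : D.O2 ≠ [] := by decide

theorem head1_mem : D.O1.headD [] ∈ D.O1 := by
  obtain ⟨a, l, h⟩ := List.exists_cons_of_ne_nil O1_ne
  rw [h]; exact List.mem_cons_self

theorem head2_mem : D.O2.headD [] ∈ D.O2 := by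
  obtain ⟨a, l, h⟩ := List.exists_cons_of_ne_nil O2_ne
  rw [h]; exact List.mem_cons_self

theorem len7 : 7 < PD.gens.length := by decide
theorem len0 : 0 < PD.gens.length := by decide

section Asm

variable (hg : gensOK 315 9 PD.gens = true) (hc : checkChain 315 9 PD.gens PD.levels = true)
  (hsz : codeSize PD.levels = 604800)

include hg hc in
theorem hs_mem_PP : ∀ g ∈ D.hs, permOf 315 9 g.1 g.2 ∈ PP := by
  intro g hgm
  have h1 := D.hs_sift
  rw [List.all_eq_true] at h1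
  have hpair := gensOK_spec 315 9 D.hs_ok g hgm
  exact (perm_main 315 9 PD.gens PD.levels hg hc).2 [g.1] _ (actsByW_single (permOf_apply hpair)) (h1 g hgm)

theorem hs_stab_S0 : ∀ g ∈ D.hs, permOf 315 9 g.1 g.2 • S0 = S0 := by
  intro g hgm
  have h1 := D.hs_stab
  rw [List.all_eq_true] at h1
  have hpair := gensOK_spec 315 9 D.hs_ok g hgm
  unfold S0
  rw [smul_fs hpair D.l0 l0_lt']
  exact fs_eq_of_mask (beq_iff_eq.mp (h1 g hgm))

include hg in
theorem g7_smul : gperm 315 9 PD.gens 7 • S0 = T1 := by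
  have hlen : 7 < PD.gens.length := by decide
  have hpair := gensOK_spec 315 9 hg _ (getD_mem hlen)
  unfold S0 T1 gperm
  rw [smul_fs hpair D.l0 l0_lt']
  exact fs_eq_of_mask (beq_iff_eq.mp D.head1_ok)

include hg in
theorem g0_smul : gperm 315 9 PD.gens 0 • S0 = T2 := by
  have hlen : 0 < PD.gens.length := by decide
  have hpair := gensOK_spec 315 9 hg _ (getD_mem hlen)
  unfold S0 T2 gperm
  rw [smul_fs hpair D.l0 l0_lt']
  exact fs_eq_of_mask (beq_iff_eq.mp D.head2_ok)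

/-- the stabiliser of `S0` in the big group, as a subgroup of the symmetric group -/
def KK : Subgroup (Equiv.Perm (Fin 315)) := stabilizer (Equiv.Perm (Fin 315)) S0 ⊓ PP

include hg hc in
theorem hs_mem_KK : ∀ g ∈ D.hs, permOf 315 9 g.1 g.2 ∈ KK := by
  intro g hgm
  exact ⟨mem_stabilizer_iff.mpr (hs_stab_S0 g hgm), hs_mem_PP hg hc g hgm⟩

include hg hc in
theorem reach1 : ∀ l ∈ D.O1, (∀ a ∈ l, a < 315) ∧ ∃ k ∈ KK, k • T1 = fs 315 l := by
  have hhead : (∀ a ∈ D.O1.headD [], a < 315) ∧ ∃ k ∈ KK, k • T1 = fs 315 (D.O1.headD []) :=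
    ⟨LL_lt' _ (O1_sub _ head1_mem), 1, KK.one_mem, one_smul _ _⟩
  have h := reach_sound 315 9 D.hs (gensOK_spec 315 9 D.hs_ok) KK (hs_mem_KK hg hc) T1 D.O1.tail [D.O1.headD []]
    D.reach1_ok (by
      intro s hs
      rw [List.mem_singleton] at hs
      rw [hs]; exact hhead)
  intro l hl
  obtain ⟨a, t, hat⟩ := List.exists_cons_of_ne_nil O1_ne
  rw [hat] at hl
  rcases List.mem_cons.mp hl with rfl | hmem
  · have : D.O1.headD [] = l := by rw [hat]; rfl
    rw [← this]; exact hhead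
  · apply h
    rw [hat]; exact hmem

include hg hc in
theorem reach2 : ∀ l ∈ D.O2, (∀ a ∈ l, a < 315) ∧ ∃ k ∈ KK, k • T2 = fs 315 l := by
  have hhead : (∀ a ∈ D.O2.headD [], a < 315) ∧ ∃ k ∈ KK, k • T2 = fs 315 (D.O2.headD []) :=
    ⟨LL_lt' _ (O2_sub _ head2_mem), 1, KK.one_mem, one_smul _ _⟩
  have h := reach_sound 315 9 D.hs (gensOK_spec 315 9 D.hs_ok) KK (hs_mem_KK hg hc) T2 D.O2.tail [D.O2.headD []]
    D.reach2_ok (by
      intro s hs
      rw [List.mem_singleton] at hs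
      rw [hs]; exact hhead)
  intro l hl
  obtain ⟨a, t, hat⟩ := List.exists_cons_of_ne_nil O2_ne
  rw [hat] at hl
  rcases List.mem_cons.mp hl with rfl | hmem
  · have : D.O2.headD [] = l := by rw [hat]; rfl
    rw [← this]; exact hhead
  · apply h
    rw [hat]; exact hmem

/-! ### The orbit of `S0` -/

theorem fam_cons (n : ℕ) (l : List ℕ) (L : List (List ℕ)) : fam n (l :: L) = {fs n l} ∪ fam n L := by
  ext T
  simp only [mem_fam, List.mem_cons, Set.mem_union, Set.mem_singleton_iff]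
  constructor
  · rintro ⟨l', rfl | hl', rfl⟩
    · left; rfl
    · right; exact ⟨l', hl', rfl⟩
  · rintro (rfl | ⟨l', hl', rfl⟩)
    · exact ⟨l, Or.inl rfl, rfl⟩
    · exact ⟨l', Or.inr hl', rfl⟩

theorem fam_append (n : ℕ) (L L' : List (List ℕ)) : fam n (L ++ L') = fam n L ∪ fam n L' := by
  ext T
  simp only [mem_fam, List.mem_append, Set.mem_union]
  constructor
  · rintro ⟨l', hl' | hl', rfl⟩
    · left; exact ⟨l', hl', rfl⟩
    · right; exact ⟨l', hl', rfl⟩
  · rintro (⟨l', hl', rfl⟩ | ⟨l', hl', rfl⟩)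
    · exact ⟨l', Or.inl hl', rfl⟩
    · exact ⟨l', Or.inr hl', rfl⟩

theorem smul_PP (g : ↥PP) (T : Finset (Fin 315)) : g • T = (g : Equiv.Perm (Fin 315)) • T := rfl

include hg in
theorem orbit_sub (g : ↥PP) : g • S0 ∈ fam 315 D.LL :=
  clos_sound 315 9 PD.gens D.LL hg LL_lt' D.clos_ok g.1 g.2 S0 ⟨D.l0, l0_mem_LL, rfl⟩

/-- the two coset representatives -/
noncomputable def g7 : ↥PP := ⟨gperm 315 9 PD.gens 7, gperm_mem len7⟩
noncomputable def g0 : ↥PP := ⟨gperm 315 9 PD.gens 0, gperm_mem len0⟩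

theorem coe_g7 : (g7 : Equiv.Perm (Fin 315)) = gperm 315 9 PD.gens 7 := by
  unfold g7
  exact Subtype.coe_mk _ _

theorem coe_g0 : (g0 : Equiv.Perm (Fin 315)) = gperm 315 9 PD.gens 0 := by
  unfold g0
  exact Subtype.coe_mk _ _

include hg in
theorem g7_smul' : g7 • S0 = T1 := by
  rw [smul_PP, coe_g7]
  exact g7_smul hg

include hg in
theorem g0_smul' : g0 • S0 = T2 := by
  rw [smul_PP, coe_g0]
  exact g0_smul hg

include hg hc in
theorem fam_sub_orbit : ∀ T ∈ fam 315 D.LL, T ∈ orbit ↥PP S0 := by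
  rintro T ⟨l, hl, rfl⟩
  rcases List.mem_cons.mp hl with rfl | hl'
  · exact ⟨1, one_smul _ _⟩
  · rcases List.mem_append.mp hl' with h1 | h2
    · obtain ⟨_, k, hk, hkl⟩ := reach1 hg hc l h1
      refine ⟨⟨k, hk.2⟩ * g7, ?_⟩
      show (⟨k, hk.2⟩ * g7 : ↥PP) • S0 = fs 315 l
      rw [mul_smul, g7_smul' hg]
      exact hkl
    · obtain ⟨_, k, hk, hkl⟩ := reach2 hg hc l h2
      refine ⟨⟨k, hk.2⟩ * g0, ?_⟩
      show (⟨k, hk.2⟩ * g0 : ↥PP) • S0 = fs 315 l
      rw [mul_smul, g0_smul' hg]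
      exact hkl

include hg hc in
theorem orbit_eq : orbit ↥PP S0 = fam 315 D.LL := by
  ext T
  constructor
  · rintro ⟨g, rfl⟩
    exact orbit_sub hg g
  · exact fam_sub_orbit hg hc T

include hg hc in
theorem ncard_orbit : (orbit ↥PP S0).ncard = 100 := by
  rw [orbit_eq hg hc, ncard_fam D.LL LL_lt' LL_nodup', D.LL_len]

/-- the subgroup of index 100 -/
abbrev HH : Subgroup ↥PP := stabilizer ↥PP S0

include hg hc in
theorem index_HH : (HH).index = 100 := by
  rw [index_stabilizer, ncard_orbit hg hc]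

include hg hc hsz in
theorem card_HH : Nat.card ↥HH = 6048 := by
  have h1 := Subgroup.index_mul_card HH
  rw [index_HH hg hc, (perm_main 315 9 PD.gens PD.levels hg hc).1, hsz] at h1
  omega

/-! ### The suborbits -/

/-- an element of `KK` as an element of `HH` -/
def toHH (k : Equiv.Perm (Fin 315)) (hk : k ∈ KK) : ↥HH :=
  ⟨⟨k, hk.2⟩, mem_stabilizer_iff.mpr (mem_stabilizer_iff.mp hk.1)⟩

theorem toHH_smul (k : Equiv.Perm (Fin 315)) (hk : k ∈ KK) (T : Finset (Fin 315)) : toHH k hk • T = k • T := rfl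

theorem HH_smul_S0 (h : ↥HH) : h • S0 = S0 := mem_stabilizer_iff.mp h.2

include hg hc in
theorem famO1_sub : fam 315 D.O1 ⊆ orbit ↥HH T1 := by
  rintro T ⟨l, hl, rfl⟩
  obtain ⟨_, k, hk, hkl⟩ := reach1 hg hc l hl
  exact ⟨toHH k hk, (toHH_smul k hk T1).trans hkl⟩

include hg hc in
theorem famO2_sub : fam 315 D.O2 ⊆ orbit ↥HH T2 := by
  rintro T ⟨l, hl, rfl⟩
  obtain ⟨_, k, hk, hkl⟩ := reach2 hg hc l hl
  exact ⟨toHH k hk, (toHH_smul k hk T2).trans hkl⟩

theorem mask_l0_notMem : maskOf D.l0 ∉ (D.O1 ++ D.O2).map maskOf := by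
  have h := LL_nodup'
  unfold D.LL at h
  rw [List.map_cons, List.nodup_cons] at h
  exact h.1

theorem S0_notMem_fam : S0 ∉ fam 315 (D.O1 ++ D.O2) := by
  rintro ⟨l, hl, h⟩
  apply mask_l0_notMem
  have hl' : l ∈ D.LL := List.mem_cons_of_mem _ hl
  have := mask_eq_of_fs l0_lt' (LL_lt' l hl') h
  rw [this]
  exact List.mem_map_of_mem hl

theorem T1_mem : T1 ∈ fam 315 D.O1 := ⟨_, head1_mem, rfl⟩
theorem T2_mem : T2 ∈ fam 315 D.O2 := ⟨_, head2_mem, rfl⟩

theorem T1_ne_S0 : T1 ≠ S0 := by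
  intro h
  apply S0_notMem_fam
  rw [← h, fam_append]
  exact Or.inl T1_mem

theorem T2_ne_S0 : T2 ≠ S0 := by
  intro h
  apply S0_notMem_fam
  rw [← h, fam_append]
  exact Or.inr T2_mem

theorem fam_LL : fam 315 D.LL = {S0} ∪ fam 315 (D.O1 ++ D.O2) := fam_cons 315 D.l0 _

include hg in
theorem orbitHH_sub (T : Finset (Fin 315)) (hT : T ≠ S0) (g : ↥PP) (hgT : g • S0 = T) :
    orbit ↥HH T ⊆ fam 315 (D.O1 ++ D.O2) := by
  rintro U ⟨h, rfl⟩
  have h1 : (h : ↥PP) • T ∈ fam 315 D.LL := by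
    rw [← hgT, ← mul_smul]
    exact orbit_sub hg _
  rw [fam_LL] at h1
  rcases h1 with h1 | h1
  · exfalso
    apply hT
    have h2 : (h : ↥PP) • T = S0 := h1
    have h3 : (h : ↥PP)⁻¹ • S0 = S0 := by
      have := HH_smul_S0 h⁻¹
      exact this
    have h4 : (h : ↥PP)⁻¹ • ((h : ↥PP) • T) = T := inv_smul_smul _ _
    rw [h2, h3] at h4
    exact h4.symm
  · exact h1

theorem disjoint_fam : Disjoint (fam 315 D.O1) (fam 315 D.O2) := by
  rw [Set.disjoint_left]
  rintro T ⟨l, hl, rfl⟩ ⟨l', hl', h⟩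
  have hnd := LL_nodup'
  unfold D.LL at hnd
  rw [List.map_cons, List.nodup_cons, List.map_append] at hnd
  have hd := (List.nodup_append.mp hnd.2).2.2
  have hm := mask_eq_of_fs (LL_lt' l (O1_sub l hl)) (LL_lt' l' (O2_sub l' hl')) h
  exact hd _ (List.mem_map_of_mem hl) _ (List.mem_map_of_mem hl') hm

theorem ncard_fam12 : (fam 315 (D.O1 ++ D.O2)).ncard = 99 := by
  have hnd := LL_nodup'
  unfold D.LL at hnd
  rw [List.map_cons, List.nodup_cons] at hnd
  rw [ncard_fam _ (fun l hl => LL_lt' l (List.mem_cons_of_mem _ hl)) hnd.2]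
  decide

theorem ncard_fam1 : (fam 315 D.O1).ncard = 36 := by
  have hnd := LL_nodup'
  unfold D.LL at hnd
  rw [List.map_cons, List.nodup_cons, List.map_append] at hnd
  rw [ncard_fam _ (fun l hl => LL_lt' l (O1_sub l hl)) (List.nodup_append.mp hnd.2).1]
  decide

theorem ncard_fam2 : (fam 315 D.O2).ncard = 63 := by
  have hnd := LL_nodup'
  unfold D.LL at hnd
  rw [List.map_cons, List.nodup_cons, List.map_append] at hnd
  rw [ncard_fam _ (fun l hl => LL_lt' l (O2_sub l hl)) (List.nodup_append.mp hnd.2).2.1]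
  decide

include hg hc hsz in
theorem orbits_disjoint : Disjoint (orbit ↥HH T1) (orbit ↥HH T2) := by
  rw [Set.disjoint_left]
  intro T h1 h2
  have e1 : orbit ↥HH T = orbit ↥HH T1 := orbit_eq_iff.mpr h1
  have e2 : orbit ↥HH T = orbit ↥HH T2 := orbit_eq_iff.mpr h2
  have hsub : fam 315 (D.O1 ++ D.O2) ⊆ orbit ↥HH T1 := by
    rw [fam_append]
    apply Set.union_subset (famO1_sub hg hc)
    rw [← e1, e2]
    exact famO2_sub hg hc
  have heq : orbit ↥HH T1 = fam 315 (D.O1 ++ D.O2) :=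
    Set.Subset.antisymm (orbitHH_sub hg T1 T1_ne_S0 g7 (g7_smul' hg)) hsub
  have hdvd : (orbit ↥HH T1).ncard ∣ Nat.card ↥HH := by
    rw [← index_stabilizer]
    exact Subgroup.index_dvd_card _
  rw [heq, ncard_fam12, card_HH hg hc hsz] at hdvd
  revert hdvd
  decide

include hg hc hsz in
theorem orbit_T1 : orbit ↥HH T1 = fam 315 D.O1 := by
  apply Set.Subset.antisymm _ (famO1_sub hg hc)
  intro T hT
  have h1 := orbitHH_sub hg T1 T1_ne_S0 g7 (g7_smul' hg) hT
  rw [fam_append] at h1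
  rcases h1 with h1 | h1
  · exact h1
  · exfalso
    exact (Set.disjoint_left.mp (orbits_disjoint hg hc hsz)) hT (famO2_sub hg hc h1)

include hg hc hsz in
theorem orbit_T2 : orbit ↥HH T2 = fam 315 D.O2 := by
  apply Set.Subset.antisymm _ (famO2_sub hg hc)
  intro T hT
  have h1 := orbitHH_sub hg T2 T2_ne_S0 g0 (g0_smul' hg) hT
  rw [fam_append] at h1
  rcases h1 with h1 | h1
  · exfalso
    exact (Set.disjoint_left.mp (orbits_disjoint hg hc hsz)) (famO1_sub hg hc h1) hT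
  · exact h1

include hg hc hsz in
theorem ncard_orbit_c1 : (orbit ↥HH ((g7 : ↥PP) : ↥PP ⧸ HH)).ncard = 36 := by
  rw [ncard_orbit_quotient_stabilizer S0 g7, g7_smul' hg, orbit_T1 hg hc hsz, ncard_fam1]

include hg hc hsz in
theorem ncard_orbit_c2 : (orbit ↥HH ((g0 : ↥PP) : ↥PP ⧸ HH)).ncard = 63 := by
  rw [ncard_orbit_quotient_stabilizer S0 g0, g0_smul' hg, orbit_T2 hg hc hsz, ncard_fam2]

/-! ### The isomorphism with `PSU(3,3)` -/

/-- the inclusion of `HH` into the symmetric group -/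
def jHH : ↥HH →* Equiv.Perm (Fin 315) := (PP.subtype).comp (HH.subtype)

theorem jHH_apply (h : ↥HH) : jHH h = ((h : ↥PP) : Equiv.Perm (Fin 315)) := rfl

theorem l0_nodup' : D.l0.Nodup := nodupB_sound _ D.l0_nodup

theorem jHH_stable : ∀ γ : ↥HH, ∀ a : Fin 315, a.val ∈ D.l0 → (jHH γ a).val ∈ D.l0 := by
  intro γ a ha
  have h1 : a ∈ S0 := mem_fs.mpr ha
  have h2 : jHH γ • a ∈ jHH γ • S0 := Finset.smul_mem_smul_finset h1
  have h3 : jHH γ • S0 = S0 := HH_smul_S0 γ
  rw [h3] at h2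
  exact mem_fs.mp h2

/-- the restriction of `HH` to the 63 points -/
def rHH : ↥HH →* Equiv.Perm (Fin 63) := restrHom jHH D.l0 D.l0_len l0_nodup' l0_lt' jHH_stable

theorem lenhs : D.hs.length = 6 := by decide
theorem lenA : D.gensA.length = 6 := by decide

include hg hc in
theorem hsk_mem_KK (k : ℕ) (hk : k < 6) : gperm 315 9 D.hs k ∈ KK :=
  hs_mem_KK hg hc _ (getD_mem (by rw [lenhs]; exact hk))

include hg hc in
theorem rHH_hs (k : ℕ) (hk : k < 6) :
    rHH (toHH (gperm 315 9 D.hs k) (hsk_mem_KK hg hc k hk)) = gperm 63 6 D.gensA k := by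
  apply restrHom_eq
  intro i
  have e1 : jHH (toHH (gperm 315 9 D.hs k) (hsk_mem_KK hg hc k hk)) = gperm 315 9 D.hs k := rfl
  rw [e1, gperm_apply D.hs_ok (by rw [lenhs]; exact hk)]
  have e2 : (gperm 63 6 D.gensA k i).val = look 6 (gtab D.gensA k) i.val :=
    gperm_apply D.gensA_ok (by rw [lenA]; exact hk) i
  have h := D.restr_ok
  rw [List.all_eq_true] at h
  have h1 := h k (List.mem_range.mpr hk)
  rw [List.all_eq_true] at h1
  have h2 := beq_iff_eq.mp (h1 i.val (List.mem_range.mpr i.isLt))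
  have hi : i.val < D.l0.length := by rw [D.l0_len]; exact i.isLt
  have hi' : (gperm 63 6 D.gensA k i).val < D.l0.length := by rw [D.l0_len]; exact (gperm 63 6 D.gensA k i).isLt
  rw [List.getD_eq_getElem _ _ hi] at h2
  simp only [e2]
  unfold gtab
  have e3 : look 6 (D.gensA.getD k (0, 0)).1 i.val < D.l0.length := by
    have := hi'
    rw [e2] at this
    exact this
  rw [h2, List.getD_eq_getElem _ _ e3]

include hg hc hsz in
theorem HH_iso_A : Nonempty (↥HH ≃* genGroup 63 6 D.gensA) := by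
  have : Finite ↥HH := Nat.finite_of_card_ne_zero (by rw [card_HH hg hc hsz]; norm_num)
  apply iso_of_hom_card rHH
  · unfold genGroup
    rw [Subgroup.closure_le]
    intro s hs
    obtain ⟨k, hk, rfl⟩ := exists_gperm_of_mem hs
    rw [lenA] at hk
    exact ⟨_, rHH_hs hg hc k hk⟩
  · rw [card_HH hg hc hsz, (perm_main 63 6 D.gensA D.levelsA D.gensA_ok D.chainA_ok).1, D.sizeA]

include hg hc hsz in
/-- **S1624 inside the certified permutation group of degree 315.** -/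
theorem main_PP : ∃ H : Subgroup ↥PP, H.index = 100 ∧ Nonempty (↥H ≃* Cfsg.PSU 3 F9 3) ∧
    ∃ c₁ c₂ : ↥PP ⧸ H, (orbit ↥H c₁).ncard = 36 ∧ (orbit ↥H c₂).ncard = 63 := by
  obtain ⟨f⟩ := HH_iso_A hg hc hsz
  obtain ⟨f'⟩ := psu_iso_A
  exact ⟨HH, index_HH hg hc, ⟨f.trans f'.symm⟩, _, _, ncard_orbit_c1 hg hc hsz, ncard_orbit_c2 hg hc hsz⟩

end Asm

/-- **S1624 for any group isomorphic to the certified permutation group of degree 315.** -/
theorem main_of_iso {G : Type} [Group G] (e : G ≃* ↥PP) (hg : gensOK 315 9 PD.gens = true)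
    (hc : checkChain 315 9 PD.gens PD.levels = true) (hsz : codeSize PD.levels = 604800) :
    ∃ H : Subgroup G, H.index = 100 ∧
      (∃ (F : Type) (_ : Field F) (_ : Fintype F), Fintype.card F = 9 ∧ Nonempty (↥H ≃* Cfsg.PSU 3 F 3)) ∧
      ∃ c₁ c₂ : G ⧸ H, (orbit ↥H c₁).ncard = 36 ∧ (orbit ↥H c₂).ncard = 63 := by
  obtain ⟨H, h1, h2, h3⟩ := transport_shape e 100 36 63 (main_PP hg hc hsz)
  exact ⟨H, h1, ⟨F9, inferInstance, inferInstance, F9.card, h2⟩, h3⟩

open Cfsg.Agent.Lib.Helper16.IcoBridge in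
/-- **S1624 from the two sides of the icosian assembly** (helper16's `IcoAsm` interface). -/
theorem S1624_of_asm (hB : BlockB) {gidx : List ℕ} (hP : PermSide 9 gidx.length PD.gens PD.levels)
    (hL : Linked hB 9 gidx PD.gens) :
    ∃ H : Subgroup Cfsg.Spor.J2, H.index = 100 ∧
      (∃ (F : Type) (_ : Field F) (_ : Fintype F), Fintype.card F = 9 ∧ Nonempty (↥H ≃* Cfsg.PSU 3 F 3)) ∧
      ∃ c₁ c₂ : Cfsg.Spor.J2 ⧸ H, (MulAction.orbit ↥H c₁).ncard = 36 ∧ (MulAction.orbit ↥H c₂).ncard = 63 :=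
  main_of_iso (J2Equiv hB hP hL) hP.gens_ok hP.chain_ok hP.size

end Cfsg.Agent.Lib.Helper1.J2U
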