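import Mathlib

/-!
# Conway's characterisation of the rank-24 lattice, part A

Basic facts on an even positive definite integral form without vectors of norm 2 on `Fin 24 → ℤ`:
orthogonal families have at most 24 members, and two short vectors congruent modulo 2 are
equal, opposite, or orthogonal of norm 8.
-/

set_option autoImplicit false

namespace Cfsg.Agent.Lib.Helper1.LC

open Matrix

/-- the underlying group of the lattice -/
abbrev Lam : Type := Fin 24 → ℤ

/-- the bilinear form of a Gram matrix -/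
noncomputable def bf (B : Matrix (Fin 24) (Fin 24) ℤ) : LinearMap.BilinForm ℤ Lam :=
  Matrix.toBilin' B

/-- the norm -/
noncomputable def Q (B : Matrix (Fin 24) (Fin 24) ℤ) (x : Lam) : ℤ := bf B x x

theorem bf_apply (B : Matrix (Fin 24) (Fin 24) ℤ) (x y : Lam) : bf B x y = x ⬝ᵥ (B *ᵥ y) :=
  Matrix.toBilin'_apply' B x y

theorem Q_apply (B : Matrix (Fin 24) (Fin 24) ℤ) (x : Lam) : Q B x = x ⬝ᵥ (B *ᵥ x) :=
  bf_apply B x x

/-- the hypotheses on the Gram matrix -/
structure Hyp (B : Matrix (Fin 24) (Fin 24) ℤ) : Prop where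
  symm : B.IsSymm
  pos : ∀ x : Lam, x ≠ 0 → 0 < Q B x
  even : ∀ x : Lam, (2 : ℤ) ∣ Q B x
  no2 : ∀ x : Lam, Q B x ≠ 2

variable {B : Matrix (Fin 24) (Fin 24) ℤ}

theorem bf_comm (h : Hyp B) (x y : Lam) : bf B x y = bf B y x := by
  rw [bf_apply, bf_apply, Matrix.dotProduct_mulVec, ← Matrix.mulVec_transpose, h.symm.eq,
    dotProduct_comm]

theorem Q_zero : Q B 0 = 0 := by
  simp [Q]

theorem Q_neg (x : Lam) : Q B (-x) = Q B x := by
  simp [Q]

theorem Q_add (h : Hyp B) (x y : Lam) : Q B (x + y) = Q B x + Q B y + 2 * bf B x y := by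
  simp only [Q, map_add, LinearMap.add_apply]
  rw [bf_comm h y x]; ring

theorem Q_sub (h : Hyp B) (x y : Lam) : Q B (x - y) = Q B x + Q B y - 2 * bf B x y := by
  simp only [Q, map_sub, LinearMap.sub_apply]
  rw [bf_comm h y x]; ring

theorem Q_two_smul (z : Lam) : Q B ((2 : ℤ) • z) = 4 * Q B z := by
  simp only [Q, map_smul, LinearMap.smul_apply, smul_eq_mul]
  ring

theorem Q_smul (a : ℤ) (z : Lam) : Q B (a • z) = a * a * Q B z := by
  simp only [Q, map_smul, LinearMap.smul_apply, smul_eq_mul]
  ring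

theorem Q_ge_four (h : Hyp B) (x : Lam) (hx : x ≠ 0) : 4 ≤ Q B x := by
  have h1 := h.pos x hx
  obtain ⟨k, hk⟩ := h.even x
  have h2 := h.no2 x
  omega

theorem Q_eq_zero_iff (h : Hyp B) (x : Lam) : Q B x = 0 ↔ x = 0 := by
  constructor
  · intro hq
    by_contra hx
    have := h.pos x hx
    omega
  · rintro rfl
    exact Q_zero

theorem Q_nonneg (h : Hyp B) (x : Lam) : 0 ≤ Q B x := by
  by_cases hx : x = 0
  · rw [hx, Q_zero]
  · exact (h.pos x hx).le

/-- a family of pairwise orthogonal non-zero vectors has at most 24 members -/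
theorem card_le_of_orth (h : Hyp B) {ι : Type*} [Fintype ι] (w : ι → Lam) (hne : ∀ i, w i ≠ 0)
    (horth : ∀ i j, i ≠ j → bf B (w i) (w j) = 0) : Fintype.card ι ≤ 24 := by
  classical
  have hli : LinearIndependent ℤ w := by
    rw [linearIndependent_iff']
    intro s g hg j hj
    have h1 := congrArg (fun v => bf B v (w j)) hg
    simp only [map_sum, LinearMap.sum_apply, map_smul, LinearMap.smul_apply, smul_eq_mul,
      map_zero, LinearMap.zero_apply] at h1
    rw [Finset.sum_eq_single j] at h1
    · have h2 : 0 < bf B (w j) (w j) := h.pos (w j) (hne j)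
      rcases mul_eq_zero.mp h1 with h3 | h3
      · exact h3
      · omega
    · intro i _ hij
      rw [horth i j hij, mul_zero]
    · intro hj'
      exact absurd hj hj'
  have h2 := hli.fintype_card_le_finrank
  have h3 : Module.finrank ℤ Lam = 24 := by
    simp [Lam]
  omega

/-- reduction modulo 2 -/
def red (x : Lam) : Fin 24 → ZMod 2 := fun i => (x i : ZMod 2)

theorem red_eq_iff (x y : Lam) : red x = red y ↔ ∃ z : Lam, x - y = (2 : ℤ) • z := by
  constructor
  · intro hxy
    have h1 : ∀ i, (2 : ℤ) ∣ x i - y i := by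
      intro i
      have := congrFun hxy i
      simp only [red] at this
      have h2 : ((x i - y i : ℤ) : ZMod 2) = 0 := by
        push_cast
        rw [this, sub_self]
      exact (ZMod.intCast_zmod_eq_zero_iff_dvd _ 2).mp h2
    refine ⟨fun i => (x i - y i) / 2, ?_⟩
    funext i
    simp only [Pi.sub_apply, Pi.smul_apply, smul_eq_mul]
    exact (Int.mul_ediv_cancel' (h1 i)).symm
  · rintro ⟨z, hz⟩
    funext i
    have := congrFun hz i
    simp only [Pi.sub_apply, Pi.smul_apply, smul_eq_mul] at this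
    simp only [red]
    have h2 : ((x i - y i : ℤ) : ZMod 2) = 0 := by
      rw [this]
      push_cast
      have : (2 : ZMod 2) = 0 := by decide
      rw [this, zero_mul]
    push_cast at h2
    exact sub_eq_zero.mp h2

theorem red_neg (x : Lam) : red (-x) = red x := by
  funext i
  simp only [red, Pi.neg_apply, Int.cast_neg]
  generalize ((x i : ℤ) : ZMod 2) = a
  revert a; decide

theorem red_add (x y : Lam) : red (x + y) = red x + red y := by
  funext i
  simp [red]

/-- two short vectors congruent modulo 2 are equal, opposite, or orthogonal of norm 8 -/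
theorem short_pair (h : Hyp B) (x y : Lam) (hx : Q B x ≤ 8) (hy : Q B y ≤ 8)
    (hxy : red x = red y) (h1 : x ≠ y) (h2 : x ≠ -y) :
    Q B x = 8 ∧ Q B y = 8 ∧ bf B x y = 0 := by
  obtain ⟨z, hz⟩ := (red_eq_iff x y).mp hxy
  have hxy' : red x = red (-y) := by rw [red_neg]; exact hxy
  obtain ⟨z', hz'⟩ := (red_eq_iff x (-y)).mp hxy'
  have hz0 : z ≠ 0 := by
    rintro rfl
    rw [smul_zero] at hz
    exact h1 (sub_eq_zero.mp hz)
  have hz0' : z' ≠ 0 := by
    rintro rfl
    rw [smul_zero] at hz'
    exact h2 (sub_eq_zero.mp hz')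
  have e1 : Q B (x - y) = 4 * Q B z := by rw [hz, Q_two_smul]
  have e2 : Q B (x - -y) = 4 * Q B z' := by rw [hz', Q_two_smul]
  rw [Q_sub h] at e1 e2
  rw [Q_neg] at e2
  have e3 : bf B x (-y) = - bf B x y := by simp
  rw [e3] at e2
  have g1 := Q_ge_four h z hz0
  have g2 := Q_ge_four h z' hz0'
  refine ⟨by omega, by omega, by omega⟩

end Cfsg.Agent.Lib.Helper1.LC
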