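import Cfsg.Agent.Lib.Helper1.LCA

/-!
# Conway's characterisation, part B: the counting argument and the orthogonal frame
-/

set_option autoImplicit false

namespace Cfsg.Agent.Lib.Helper1.LC

open Matrix

variable {B : Matrix (Fin 24) (Fin 24) ℤ}

theorem ne_neg_self (x : Lam) (hx : x ≠ 0) : x ≠ -x := by
  intro h
  apply hx
  funext i
  have := congrFun h i
  simp only [Pi.neg_apply, Pi.zero_apply] at this ⊢
  omega

/-- the half of the vectors that are larger than their negatives in the lexicographic order -/
def posH (x : Lam) : Prop := toLex (-x) < toLex x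

theorem posH_or (x : Lam) (hx : x ≠ 0) : posH x ∨ posH (-x) := by
  unfold posH
  rw [neg_neg]
  have h1 : toLex (-x) ≠ toLex x := by
    intro h
    exact ne_neg_self x hx (toLex.injective h).symm
  rcases lt_or_gt_of_ne h1 with h2 | h2
  · exact Or.inl h2
  · exact Or.inr h2

theorem not_posH_both (x : Lam) (h1 : posH x) (h2 : posH (-x)) : False := by
  unfold posH at h1 h2
  rw [neg_neg] at h2
  exact lt_asymm h1 h2

/-- a set of vectors of norm 8 in one class modulo 2, no two of them opposite, has at most 24
members -/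
theorem card_le_of_half (h : Hyp B) (P : Finset Lam) (hQ : ∀ x ∈ P, Q B x = 8)
    (hred : ∀ x ∈ P, ∀ y ∈ P, red x = red y) (hneg : ∀ x ∈ P, ∀ y ∈ P, x ≠ -y) :
    P.card ≤ 24 := by
  have := card_le_of_orth h (fun x : {x // x ∈ P} => (x : Lam))
    (fun x hx0 => by
      have := hQ x.1 x.2
      rw [hx0, Q_zero] at this
      omega)
    (fun x y hxy => by
      have hne : (x : Lam) ≠ y := fun hh => hxy (Subtype.ext hh)
      exact (short_pair h x.1 y.1 (by rw [hQ x.1 x.2]) (by rw [hQ y.1 y.2])
        (hred x.1 x.2 y.1 y.2) hne (hneg x.1 x.2 y.1 y.2)).2.2)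
  rwa [Fintype.card_coe] at this

open Classical in
/-- a set of vectors of norm 8 in one class modulo 2 has at most 48 members, and its positive
half has at most 24 -/
theorem card_fibre8 (h : Hyp B) (F : Finset Lam) (hQ : ∀ x ∈ F, Q B x = 8)
    (hred : ∀ x ∈ F, ∀ y ∈ F, red x = red y) :
    (F.filter posH).card ≤ 24 ∧ F.card ≤ (F.filter posH).card + 24 := by
  have hP : (F.filter posH).card ≤ 24 := by
    apply card_le_of_half h
    · intro x hx; exact hQ x (Finset.mem_filter.mp hx).1
    · intro x hx y hy
      exact hred x (Finset.mem_filter.mp hx).1 y (Finset.mem_filter.mp hy).1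
    · intro x hx y hy hxy
      have h1 := (Finset.mem_filter.mp hx).2
      have h2 := (Finset.mem_filter.mp hy).2
      rw [hxy] at h1
      exact not_posH_both y h2 h1
  have hN : (F.filter (fun x => posH (-x))).card ≤ 24 := by
    apply card_le_of_half h
    · intro x hx; exact hQ x (Finset.mem_filter.mp hx).1
    · intro x hx y hy
      exact hred x (Finset.mem_filter.mp hx).1 y (Finset.mem_filter.mp hy).1
    · intro x hx y hy hxy
      have h1 := (Finset.mem_filter.mp hx).2
      have h2 := (Finset.mem_filter.mp hy).2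
      rw [hxy, neg_neg] at h1
      exact not_posH_both y h1 h2
  refine ⟨hP, ?_⟩
  have hsub : F ⊆ F.filter posH ∪ F.filter (fun x => posH (-x)) := by
    intro x hx
    have hx0 : x ≠ 0 := by
      rintro rfl
      have := hQ 0 hx
      rw [Q_zero] at this
      omega
    rcases posH_or x hx0 with h1 | h1
    · exact Finset.mem_union_left _ (Finset.mem_filter.mpr ⟨hx, h1⟩)
    · exact Finset.mem_union_right _ (Finset.mem_filter.mpr ⟨hx, h1⟩)
  calc F.card ≤ (F.filter posH ∪ F.filter (fun x => posH (-x))).card := Finset.card_le_card hsub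
    _ ≤ (F.filter posH).card + (F.filter (fun x => posH (-x))).card := Finset.card_union_le _ _
    _ ≤ (F.filter posH).card + 24 := by omega

/-- the weight used in the counting argument -/
noncomputable def wt (B : Matrix (Fin 24) (Fin 24) ℤ) (x : Lam) : ℕ :=
  if Q B x = 8 then 1 else if x = 0 then 48 else 24

open Classical in
/-- the short vectors of one class modulo 2 have total weight at most 48 -/
theorem fibre_wt_le (h : Hyp B) (S : Finset Lam) (hS : ∀ x ∈ S, Q B x ≤ 8)
    (c : Fin 24 → ZMod 2) : ∑ x ∈ S.filter (fun x => red x = c), wt B x ≤ 48 := by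
  set F := S.filter (fun x => red x = c) with hF
  have hmem : ∀ x ∈ F, Q B x ≤ 8 ∧ red x = c := by
    intro x hx
    have := Finset.mem_filter.mp hx
    exact ⟨hS x this.1, this.2⟩
  by_cases hall : ∀ x ∈ F, Q B x = 8
  · -- all of norm 8
    have h1 : ∑ x ∈ F, wt B x = F.card := by
      rw [Finset.card_eq_sum_ones]
      apply Finset.sum_congr rfl
      intro x hx
      simp [wt, hall x hx]
    rw [h1]
    have := card_fibre8 h F hall (fun x hx y hy => by rw [(hmem x hx).2, (hmem y hy).2])
    omega
  · push Not at hall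
    obtain ⟨x, hx, hx8⟩ := hall
    -- every other member is x or -x
    have hsub : F ⊆ {x, -x} := by
      intro y hy
      by_contra hne
      simp only [Finset.mem_insert, Finset.mem_singleton, not_or] at hne
      have := short_pair h x y (hmem x hx).1 (hmem y hy).1
        (by rw [(hmem x hx).2, (hmem y hy).2]) (fun hh => hne.1 hh.symm)
        (fun hh => hne.2 (by rw [hh, neg_neg]))
      exact hx8 this.1
    by_cases hx0 : x = 0
    · -- the class of zero
      have hsub' : F ⊆ {0} := by
        intro y hy
        have := hsub hy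
        simp only [hx0, neg_zero, Finset.mem_insert, Finset.mem_singleton, or_self] at this
        simp [this]
      calc ∑ y ∈ F, wt B y ≤ ∑ y ∈ ({0} : Finset Lam), wt B y :=
            Finset.sum_le_sum_of_subset hsub'
        _ = 48 := by simp [wt, Q_zero]
    · have hw : ∀ y ∈ F, wt B y = 24 := by
        intro y hy
        have := hsub hy
        simp only [Finset.mem_insert, Finset.mem_singleton] at this
        rcases this with rfl | rfl
        · simp [wt, hx8, hx0]
        · have : -x ≠ 0 := by simpa using hx0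
          simp [wt, Q_neg, hx8, hx0]
      rw [Finset.sum_congr rfl hw, Finset.sum_const, smul_eq_mul]
      have : F.card ≤ 2 := by
        calc F.card ≤ ({x, -x} : Finset Lam).card := Finset.card_le_card hsub
          _ ≤ 2 := Finset.card_le_two
      omega

open Classical in
/-- **The frame.** Under the three counts, there are 24 pairwise orthogonal vectors of norm 8 that
are pairwise congruent modulo 2. -/
theorem exists_frame (h : Hyp B)
    (h4 : {x : Lam | Q B x = 4}.ncard = 196560)
    (h6 : {x : Lam | Q B x = 6}.ncard = 16773120)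
    (h8 : {x : Lam | Q B x = 8}.ncard = 398034000) :
    ∃ v : Fin 24 → Lam, (∀ i, Q B (v i) = 8) ∧ (∀ i j, i ≠ j → bf B (v i) (v j) = 0) ∧
      ∀ i j, red (v i) = red (v j) := by
  have f4 : {x : Lam | Q B x = 4}.Finite := Set.finite_of_ncard_ne_zero (by rw [h4]; norm_num)
  have f6 : {x : Lam | Q B x = 6}.Finite := Set.finite_of_ncard_ne_zero (by rw [h6]; norm_num)
  have f8 : {x : Lam | Q B x = 8}.Finite := Set.finite_of_ncard_ne_zero (by rw [h8]; norm_num)
  set s4 := f4.toFinset with hs4
  set s6 := f6.toFinset with hs6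
  set s8 := f8.toFinset with hs8
  have c4 : s4.card = 196560 := by rw [← h4, Set.ncard_eq_toFinset_card _ f4]
  have c6 : s6.card = 16773120 := by rw [← h6, Set.ncard_eq_toFinset_card _ f6]
  have c8 : s8.card = 398034000 := by rw [← h8, Set.ncard_eq_toFinset_card _ f8]
  have m4 : ∀ x, x ∈ s4 ↔ Q B x = 4 := by intro x; simp [hs4]
  have m6 : ∀ x, x ∈ s6 ↔ Q B x = 6 := by intro x; simp [hs6]
  have m8 : ∀ x, x ∈ s8 ↔ Q B x = 8 := by intro x; simp [hs8]
  set Sall : Finset Lam := (({0} ∪ s4) ∪ s6) ∪ s8 with hSall
  have mS : ∀ x ∈ Sall, Q B x ≤ 8 := by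
    intro x hx
    simp only [hSall, Finset.mem_union, Finset.mem_singleton, m4, m6, m8] at hx
    rcases hx with ((rfl | hx) | hx) | hx
    · rw [Q_zero]; norm_num
    · omega
    · omega
    · omega
  -- the total weight
  have hsum : ∑ x ∈ Sall, wt B x = 48 * 2 ^ 24 := by
    have d1 : Disjoint (({0} ∪ s4) ∪ s6) s8 := by
      rw [Finset.disjoint_left]
      intro x hx hx8
      simp only [Finset.mem_union, Finset.mem_singleton, m4, m6] at hx
      rw [m8] at hx8
      rcases hx with (rfl | hx) | hx
      · rw [Q_zero] at hx8; omega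
      · omega
      · omega
    have d2 : Disjoint ({0} ∪ s4) s6 := by
      rw [Finset.disjoint_left]
      intro x hx hx6
      simp only [Finset.mem_union, Finset.mem_singleton, m4] at hx
      rw [m6] at hx6
      rcases hx with rfl | hx
      · rw [Q_zero] at hx6; omega
      · omega
    have d3 : Disjoint ({0} : Finset Lam) s4 := by
      rw [Finset.disjoint_left]
      intro x hx hx4
      simp only [Finset.mem_singleton] at hx
      rw [m4, hx, Q_zero] at hx4
      omega
    rw [hSall, Finset.sum_union d1, Finset.sum_union d2, Finset.sum_union d3]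
    have e0 : ∑ x ∈ ({0} : Finset Lam), wt B x = 48 := by simp [wt, Q_zero]
    have e4 : ∑ x ∈ s4, wt B x = 24 * 196560 := by
      rw [Finset.sum_congr rfl (g := fun _ => 24), Finset.sum_const, c4, smul_eq_mul, mul_comm]
      intro x hx
      rw [m4] at hx
      have : x ≠ 0 := by rintro rfl; rw [Q_zero] at hx; omega
      simp [wt, hx, this]
    have e6 : ∑ x ∈ s6, wt B x = 24 * 16773120 := by
      rw [Finset.sum_congr rfl (g := fun _ => 24), Finset.sum_const, c6, smul_eq_mul, mul_comm]
      intro x hx
      rw [m6] at hx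
      have : x ≠ 0 := by rintro rfl; rw [Q_zero] at hx; omega
      simp [wt, hx, this]
    have e8 : ∑ x ∈ s8, wt B x = 398034000 := by
      rw [Finset.sum_congr rfl (g := fun _ => 1), Finset.sum_const, c8, smul_eq_mul, mul_one]
      intro x hx
      rw [m8] at hx
      simp [wt, hx]
    rw [e0, e4, e6, e8]
    norm_num
  -- every class has weight exactly 48
  have htot : ∑ c : Fin 24 → ZMod 2, ∑ x ∈ Sall.filter (fun x => red x = c), wt B x =
      ∑ x ∈ Sall, wt B x :=
    Finset.sum_fiberwise_of_maps_to (fun x _ => Finset.mem_univ _) _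
  have hcard : Fintype.card (Fin 24 → ZMod 2) = 2 ^ 24 := by
    rw [Fintype.card_fun, ZMod.card, Fintype.card_fin]
  have hall : ∀ c ∈ (Finset.univ : Finset (Fin 24 → ZMod 2)),
      ∑ x ∈ Sall.filter (fun x => red x = c), wt B x = 48 := by
    apply (Finset.sum_eq_sum_iff_of_le (fun c _ => fibre_wt_le h Sall mS c)).mp
    rw [htot, hsum, Finset.sum_const, Finset.card_univ, hcard, smul_eq_mul, mul_comm]
  -- pick a vector of norm 8
  have hne : s8.Nonempty := by
    rw [← Finset.card_pos, c8]; norm_num
  obtain ⟨x0, hx0⟩ := hne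
  rw [m8] at hx0
  set F := Sall.filter (fun x => red x = red x0) with hF
  have hmem : ∀ x ∈ F, Q B x ≤ 8 ∧ red x = red x0 := by
    intro x hx
    have := Finset.mem_filter.mp hx
    exact ⟨mS x this.1, this.2⟩
  have hQ : ∀ x ∈ F, Q B x = 8 := by
    intro x hx
    by_cases e1 : x = x0
    · rw [e1]; exact hx0
    by_cases e2 : x = -x0
    · rw [e2, Q_neg]; exact hx0
    exact (short_pair h x x0 (hmem x hx).1 (by omega) (hmem x hx).2 e1 e2).1
  have hFc : F.card = 48 := by
    have h1 : ∑ x ∈ F, wt B x = F.card := by
      rw [Finset.card_eq_sum_ones]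
      apply Finset.sum_congr rfl
      intro x hx
      simp [wt, hQ x hx]
    rw [← h1]
    exact hall (red x0) (Finset.mem_univ _)
  have hred : ∀ x ∈ F, ∀ y ∈ F, red x = red y := by
    intro x hx y hy
    rw [(hmem x hx).2, (hmem y hy).2]
  obtain ⟨hP1, hP2⟩ := card_fibre8 h F hQ hred
  have hP : (F.filter posH).card = 24 := by omega
  let e := Finset.equivFinOfCardEq hP
  refine ⟨fun i => ((e.symm i : {x // x ∈ F.filter posH}) : Lam), ?_, ?_, ?_⟩
  · intro i
    exact hQ _ (Finset.mem_filter.mp (e.symm i).2).1
  · intro i j hij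
    have hx := (e.symm i).2
    have hy := (e.symm j).2
    have hne : ((e.symm i : {x // x ∈ F.filter posH}) : Lam) ≠ (e.symm j : {x // x ∈ F.filter posH}) := by
      intro hh
      exact hij (e.symm.injective (Subtype.ext hh))
    have hneg : ((e.symm i : {x // x ∈ F.filter posH}) : Lam) ≠ -(e.symm j : {x // x ∈ F.filter posH}) := by
      intro hh
      have h1 := (Finset.mem_filter.mp hx).2
      have h2 := (Finset.mem_filter.mp hy).2
      rw [hh] at h1
      exact not_posH_both _ h2 h1
    exact (short_pair h _ _ (by rw [hQ _ (Finset.mem_filter.mp hx).1])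
      (by rw [hQ _ (Finset.mem_filter.mp hy).1])
      (hred _ (Finset.mem_filter.mp hx).1 _ (Finset.mem_filter.mp hy).1) hne hneg).2.2
  · intro i j
    exact hred _ (Finset.mem_filter.mp (e.symm i).2).1 _ (Finset.mem_filter.mp (e.symm j).2).1

end Cfsg.Agent.Lib.Helper1.LC
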