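import Cfsg.Agent.Lib.Helper1.LCB

/-!
# Conway's characterisation, part C: coordinates with respect to the frame
-/

set_option autoImplicit false

namespace Cfsg.Agent.Lib.Helper1.LC

open Matrix

variable {B : Matrix (Fin 24) (Fin 24) ℤ}

/-- the properties of the coordinate lattice that are used afterwards -/
structure CoordLat (L : AddSubgroup (Fin 24 → ℤ)) : Prop where
  e8 : ∀ i, Pi.single i (8 : ℤ) ∈ L
  e4 : ∀ i j, i ≠ j → Pi.single i (4 : ℤ) + Pi.single j (4 : ℤ) ∈ L
  par : ∀ y ∈ L, ∀ i j, (2 : ℤ) ∣ y i - y j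
  dot8 : ∀ y ∈ L, ∀ y' ∈ L, (8 : ℤ) ∣ ∑ i, y i * y' i
  sq16 : ∀ y ∈ L, (16 : ℤ) ∣ ∑ i, y i ^ 2
  min32 : ∀ y ∈ L, y ≠ 0 → 32 ≤ ∑ i, y i ^ 2
  cnt : {y : Fin 24 → ℤ | y ∈ L ∧ ∑ i, y i ^ 2 = 32}.ncard = 196560

/-- coordinates with respect to a frame -/
noncomputable def coord (B : Matrix (Fin 24) (Fin 24) ℤ) (v : Fin 24 → Lam) : Lam →+ Lam where
  toFun x := fun i => bf B x (v i)
  map_zero' := by funext i; simp
  map_add' x y := by funext i; simp

theorem coord_apply (v : Fin 24 → Lam) (x : Lam) (i : Fin 24) :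
    coord B v x i = bf B x (v i) := rfl

section frame

variable (h : Hyp B) (v : Fin 24 → Lam) (hQ : ∀ i, Q B (v i) = 8)
  (horth : ∀ i j, i ≠ j → bf B (v i) (v j) = 0)

include h hQ horth

theorem bf_frame (i j : Fin 24) : bf B (v i) (v j) = if i = j then 8 else 0 := by
  by_cases hij : i = j
  · subst hij
    simp only [if_true]
    exact hQ i
  · simp only [hij, if_false]
    exact horth i j hij

theorem bf_sum_frame (c : Fin 24 → ℤ) (j : Fin 24) :
    bf B (∑ i, c i • v i) (v j) = 8 * c j := by
  simp only [map_sum, LinearMap.sum_apply, map_smul, LinearMap.smul_apply, smul_eq_mul]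
  rw [Finset.sum_eq_single j]
  · rw [bf_frame h v hQ horth, if_pos rfl]; ring
  · intro i _ hij
    rw [bf_frame h v hQ horth, if_neg hij, mul_zero]
  · intro hj
    exact absurd (Finset.mem_univ j) hj

theorem parseval (x : Lam) : (8 : ℤ) • x = ∑ i, bf B x (v i) • v i := by
  by_contra hne
  set w : Lam := (8 : ℤ) • x - ∑ i, bf B x (v i) • v i with hw
  have hw0 : w ≠ 0 := fun h0 => hne (sub_eq_zero.mp h0)
  have hwv : ∀ j, bf B w (v j) = 0 := by
    intro j
    rw [hw, map_sub, LinearMap.sub_apply, bf_sum_frame h v hQ horth, map_smul,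
      LinearMap.smul_apply, smul_eq_mul, sub_self]
  have := card_le_of_orth h (fun o : Option (Fin 24) => o.elim w v)
    (fun o => by
      cases o with
      | none => exact hw0
      | some i =>
        intro h0
        have := hQ i
        simp only [Option.elim] at h0
        rw [h0, Q_zero] at this
        omega)
    (fun o o' hoo => by
      cases o with
      | none =>
        cases o' with
        | none => exact absurd rfl hoo
        | some j => exact hwv j
      | some i =>
        cases o' with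
        | none =>
          simp only [Option.elim]
          rw [bf_comm h]; exact hwv i
        | some j =>
          exact horth i j (fun hh => hoo (by rw [hh])))
  simp at this

theorem coord_dot (x x' : Lam) : ∑ i, coord B v x i * coord B v x' i = 8 * bf B x x' := by
  have h1 : bf B x ((8 : ℤ) • x') = 8 * bf B x x' := by
    rw [map_smul, smul_eq_mul]
  rw [← h1, parseval h v hQ horth x', map_sum]
  apply Finset.sum_congr rfl
  intro i _
  rw [map_smul, smul_eq_mul, coord_apply, coord_apply]
  ring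

theorem coord_sq (x : Lam) : ∑ i, coord B v x i ^ 2 = 8 * Q B x := by
  rw [Q, ← coord_dot h v hQ horth x x]
  apply Finset.sum_congr rfl
  intro i _
  ring

theorem coord_injective : Function.Injective (coord B v) := by
  rw [injective_iff_map_eq_zero]
  intro x hx
  have h1 := coord_sq h v hQ horth x
  rw [hx] at h1
  simp only [Pi.zero_apply, ne_eq, OfNat.ofNat_ne_zero, not_false_eq_true, zero_pow,
    Finset.sum_const_zero] at h1
  have : Q B x = 0 := by omega
  exact (Q_eq_zero_iff h x).mp this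

theorem coord_frame (i : Fin 24) : coord B v (v i) = Pi.single i (8 : ℤ) := by
  funext j
  rw [coord_apply, bf_frame h v hQ horth, Pi.single_apply]
  by_cases hij : i = j
  · simp [hij]
  · have : ¬ j = i := fun hh => hij hh.symm
    simp [hij, this]

theorem coordLat (hred : ∀ i j, red (v i) = red (v j))
    (h4 : {x : Lam | Q B x = 4}.ncard = 196560) :
    CoordLat (coord B v).range := by
  have hdiff : ∀ i j, ∃ z : Lam, v i - v j = (2 : ℤ) • z := fun i j =>
    (red_eq_iff _ _).mp (hred i j)
  refine ⟨?_, ?_, ?_, ?_, ?_, ?_, ?_⟩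
  · intro i
    exact ⟨v i, coord_frame h v hQ horth i⟩
  · intro i j hij
    obtain ⟨z, hz⟩ := hdiff i j
    have h1 : (2 : ℤ) • coord B v z = (Pi.single i (8 : ℤ) - Pi.single j (8 : ℤ) : Fin 24 → ℤ) := by
      rw [← map_zsmul, ← hz, map_sub, coord_frame h v hQ horth, coord_frame h v hQ horth]
    have h2 : coord B v z = (Pi.single i (4 : ℤ) - Pi.single j (4 : ℤ) : Fin 24 → ℤ) := by
      funext k
      have := congrFun h1 k
      simp only [Pi.smul_apply, Pi.sub_apply, Pi.single_apply, smul_eq_mul] at this ⊢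
      split_ifs at this ⊢ <;> omega
    have h3 : (Pi.single i (4 : ℤ) + Pi.single j (4 : ℤ) : Fin 24 → ℤ) =
        ((Pi.single i (4 : ℤ) - Pi.single j (4 : ℤ)) + Pi.single j (8 : ℤ) : Fin 24 → ℤ) := by
      funext k
      simp only [Pi.add_apply, Pi.sub_apply, Pi.single_apply]
      split_ifs <;> omega
    rw [h3]
    exact AddSubgroup.add_mem _ ⟨z, h2⟩ ⟨v j, coord_frame h v hQ horth j⟩
  · rintro y ⟨x, rfl⟩ i j
    obtain ⟨z, hz⟩ := hdiff i j
    refine ⟨bf B x z, ?_⟩
    rw [coord_apply, coord_apply, ← map_sub, hz, map_smul, smul_eq_mul]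
  · rintro y ⟨x, rfl⟩ y' ⟨x', rfl⟩
    exact ⟨bf B x x', coord_dot h v hQ horth x x'⟩
  · rintro y ⟨x, rfl⟩
    obtain ⟨k, hk⟩ := h.even x
    refine ⟨k, ?_⟩
    rw [coord_sq h v hQ horth, hk]; ring
  · rintro y ⟨x, rfl⟩ hy
    have hx : x ≠ 0 := by
      rintro rfl
      exact hy (map_zero _)
    have := Q_ge_four h x hx
    rw [coord_sq h v hQ horth]
    omega
  · rw [← h4]
    have himg : {y : Fin 24 → ℤ | y ∈ (coord B v).range ∧ ∑ i, y i ^ 2 = 32} =
        (coord B v) '' {x : Lam | Q B x = 4} := by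
      ext y
      simp only [Set.mem_ofPred_eq, Set.mem_image]
      constructor
      · rintro ⟨⟨x, rfl⟩, hs⟩
        rw [coord_sq h v hQ horth] at hs
        exact ⟨x, by omega, rfl⟩
      · rintro ⟨x, hx, rfl⟩
        refine ⟨⟨x, rfl⟩, ?_⟩
        rw [coord_sq h v hQ horth, hx]; norm_num
    rw [himg]
    exact Set.ncard_image_of_injective _ (coord_injective h v hQ horth)

end frame

end Cfsg.Agent.Lib.Helper1.LC
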