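import Cfsg.Agent.Lib.Helper1.LCC

/-!
# Conway's characterisation, part D: the coordinate lattice and its binary code
-/

set_option autoImplicit false

namespace Cfsg.Agent.Lib.Helper1.LC

variable {L : AddSubgroup (Fin 24 → ℤ)}

theorem sum_sq_single (i : Fin 24) (a : ℤ) :
    ∑ k, (Pi.single i a : Fin 24 → ℤ) k ^ 2 = a ^ 2 := by
  rw [Finset.sum_eq_single i]
  · simp
  · intro k _ hk
    simp [Pi.single_apply, hk]
  · intro hh
    exact absurd (Finset.mem_univ i) hh

theorem sum_single (i : Fin 24) (a : ℤ) :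
    ∑ k, (Pi.single i a : Fin 24 → ℤ) k = a := by
  rw [Finset.sum_eq_single i]
  · simp
  · intro k _ hk
    simp [Pi.single_apply, hk]
  · intro hh
    exact absurd (Finset.mem_univ i) hh

namespace CoordLat

variable (hL : CoordLat L)
include hL

theorem e4m (i j : Fin 24) (hij : i ≠ j) :
    (Pi.single i (4 : ℤ) - Pi.single j (4 : ℤ) : Fin 24 → ℤ) ∈ L := by
  have h3 : (Pi.single i (4 : ℤ) - Pi.single j (4 : ℤ) : Fin 24 → ℤ) =
      ((Pi.single i (4 : ℤ) + Pi.single j (4 : ℤ)) - Pi.single j (8 : ℤ) : Fin 24 → ℤ) := by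
    funext k
    simp only [Pi.add_apply, Pi.sub_apply, Pi.single_apply]
    split_ifs <;> omega
  rw [h3]
  exact L.sub_mem (hL.e4 i j hij) (hL.e8 j)

/-- vectors divisible by 4 with sum divisible by 8 are in the lattice -/
theorem L0_le (z : Fin 24 → ℤ) (h4 : ∀ i, (4 : ℤ) ∣ z i) (h8 : (8 : ℤ) ∣ ∑ i, z i) : z ∈ L := by
  have hz : z = ∑ i, ((Pi.single i (z i) : Fin 24 → ℤ) - Pi.single 0 (z i)) +
      Pi.single 0 (∑ i, z i) := by
    rw [Finset.sum_sub_distrib, Finset.univ_sum_single]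
    have : ∑ i, (Pi.single 0 (z i) : Fin 24 → ℤ) = Pi.single 0 (∑ i, z i) := by
      funext k
      rw [Finset.sum_apply]
      by_cases hk : k = 0
      · subst hk; simp
      · simp [Pi.single_apply, hk]
    rw [this, sub_add_cancel]
  rw [hz]
  apply L.add_mem
  · apply L.sum_mem
    intro i _
    obtain ⟨a, ha⟩ := h4 i
    by_cases hi : i = 0
    · rw [hi, sub_self]; exact L.zero_mem
    · have : ((Pi.single i (z i) : Fin 24 → ℤ) - Pi.single 0 (z i)) =
          a • ((Pi.single i (4 : ℤ) : Fin 24 → ℤ) - Pi.single 0 (4 : ℤ)) := by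
        funext k
        simp only [Pi.sub_apply, Pi.single_apply, Pi.smul_apply, smul_eq_mul, ha]
        split_ifs <;> ring
      rw [this]
      exact L.zsmul_mem (hL.e4m i 0 hi) a
  · obtain ⟨m, hm⟩ := h8
    have : (Pi.single 0 (∑ i, z i) : Fin 24 → ℤ) = m • (Pi.single 0 (8 : ℤ) : Fin 24 → ℤ) := by
      funext k
      simp only [Pi.single_apply, Pi.smul_apply, smul_eq_mul, hm]
      split_ifs <;> ring
    rw [this]
    exact L.zsmul_mem (hL.e8 0) m

/-- a lattice vector divisible by 4 has sum divisible by 8 -/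
theorem sum_of_four (y : Fin 24 → ℤ) (hy : y ∈ L) (h4 : ∀ i, (4 : ℤ) ∣ y i) :
    (8 : ℤ) ∣ ∑ i, y i := by
  by_contra h8
  have h4s : (4 : ℤ) ∣ ∑ i, y i := Finset.dvd_sum (fun i _ => h4 i)
  set z : Fin 24 → ℤ := y - Pi.single 0 4 with hz
  have hz4 : ∀ i, (4 : ℤ) ∣ z i := by
    intro i
    simp only [hz, Pi.sub_apply, Pi.single_apply]
    have := h4 i
    split_ifs <;> omega
  have hzs : ∑ i, z i = ∑ i, y i - 4 := by
    simp only [hz, Pi.sub_apply, Finset.sum_sub_distrib, sum_single]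
  have hz8 : (8 : ℤ) ∣ ∑ i, z i := by
    rw [hzs]
    omega
  have hzL := hL.L0_le z hz4 hz8
  have h1 : (Pi.single 0 (4 : ℤ) : Fin 24 → ℤ) ∈ L := by
    have : (Pi.single 0 (4 : ℤ) : Fin 24 → ℤ) = y - z := by rw [hz]; abel
    rw [this]
    exact L.sub_mem hy hzL
  have h2 := hL.min32 _ h1 (by
    intro h0
    have := congrFun h0 0
    simp at this)
  rw [sum_sq_single] at h2
  norm_num at h2

/-- all coordinates of a lattice vector have the same parity -/
theorem even_or_odd (y : Fin 24 → ℤ) (hy : y ∈ L) :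
    (∀ i, (2 : ℤ) ∣ y i) ∨ (∀ i, ¬ (2 : ℤ) ∣ y i) := by
  by_cases h0 : (2 : ℤ) ∣ y 0
  · left
    intro i
    have := hL.par y hy i 0
    omega
  · right
    intro i
    have := hL.par y hy i 0
    omega

/-- changing `z` by an even vector of sum divisible by 4 keeps `2 • z` in the lattice -/
theorem two_smul_mem_of_congr (z s : Fin 24 → ℤ) (hz : (2 : ℤ) • z ∈ L)
    (h2 : ∀ i, (2 : ℤ) ∣ z i - s i) (h4 : (4 : ℤ) ∣ ∑ i, (z i - s i)) : (2 : ℤ) • s ∈ L := by
  have h1 : (2 : ℤ) • z - (2 : ℤ) • s ∈ L := by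
    apply hL.L0_le
    · intro i
      simp only [Pi.sub_apply, Pi.smul_apply, smul_eq_mul]
      have := h2 i
      omega
    · have : ∑ i, ((2 : ℤ) • z - (2 : ℤ) • s) i = 2 * ∑ i, (z i - s i) := by
        rw [Finset.mul_sum]
        apply Finset.sum_congr rfl
        intro i _
        simp only [Pi.sub_apply, Pi.smul_apply, smul_eq_mul]
        ring
      rw [this]
      omega
  have : (2 : ℤ) • s = (2 : ℤ) • z - ((2 : ℤ) • z - (2 : ℤ) • s) := by abel
  rw [this]
  exact L.sub_mem hz h1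

end CoordLat

/-- reduction modulo 2 as a homomorphism -/
def redHom : (Fin 24 → ℤ) →+ (Fin 24 → ZMod 2) where
  toFun := red
  map_zero' := by funext i; simp [red]
  map_add' := red_add

theorem red_apply (z : Fin 24 → ℤ) (i : Fin 24) : red z i = (z i : ZMod 2) := rfl

theorem red_ne_zero_iff (z : Fin 24 → ℤ) (i : Fin 24) : red z i ≠ 0 ↔ ¬ (2 : ℤ) ∣ z i := by
  rw [red_apply, Ne, ZMod.intCast_zmod_eq_zero_iff_dvd]
  rfl

/-- the binary code of the coordinate lattice -/
def code (L : AddSubgroup (Fin 24 → ℤ)) : Submodule (ZMod 2) (Fin 24 → ZMod 2) where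
  carrier := {c | ∃ z : Fin 24 → ℤ, (2 : ℤ) • z ∈ L ∧ red z = c}
  add_mem' := by
    rintro c c' ⟨z, hz, rfl⟩ ⟨z', hz', rfl⟩
    refine ⟨z + z', ?_, red_add z z'⟩
    rw [smul_add]
    exact L.add_mem hz hz'
  zero_mem' := ⟨0, by simp, by funext i; simp [red]⟩
  smul_mem' := by
    rintro a c ⟨z, hz, rfl⟩
    have ha : a = 0 ∨ a = 1 := by revert a; decide
    rcases ha with rfl | rfl
    · exact ⟨0, by simp, by funext i; simp [red]⟩
    · exact ⟨z, hz, by simp⟩

theorem mem_code (c : Fin 24 → ZMod 2) :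
    c ∈ code L ↔ ∃ z : Fin 24 → ℤ, (2 : ℤ) • z ∈ L ∧ red z = c := Iff.rfl

/-- the number of odd coordinates -/
theorem hammingNorm_red (z : Fin 24 → ℤ) :
    hammingNorm (red z) = (Finset.univ.filter (fun i => ¬ (2 : ℤ) ∣ z i)).card := by
  unfold hammingNorm
  congr 1
  ext i
  simp only [Finset.mem_filter, Finset.mem_univ, true_and]
  exact red_ne_zero_iff z i

theorem sq_sub_ite_dvd (a : ℤ) : (4 : ℤ) ∣ a ^ 2 - (if ¬ (2 : ℤ) ∣ a then 1 else 0) := by
  by_cases h : (2 : ℤ) ∣ a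
  · obtain ⟨k, rfl⟩ := h
    simp only [dvd_mul_right, not_true_eq_false, if_false, sub_zero]
    exact ⟨k ^ 2, by ring⟩
  · simp only [h, not_false_eq_true, if_true]
    have : a % 2 = 1 := by omega
    obtain ⟨k, hk⟩ : ∃ k, a = 2 * k + 1 := ⟨a / 2, by omega⟩
    subst hk
    exact ⟨k ^ 2 + k, by ring⟩

namespace CoordLat

variable (hL : CoordLat L)
include hL

theorem code_orth (c c' : Fin 24 → ZMod 2) (hc : c ∈ code L) (hc' : c' ∈ code L) :
    ∑ i, c i * c' i = 0 := by
  obtain ⟨z, hz, rfl⟩ := hc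
  obtain ⟨z', hz', rfl⟩ := hc'
  have h1 := hL.dot8 _ hz _ hz'
  have h2 : ∑ i, ((2 : ℤ) • z) i * ((2 : ℤ) • z') i = 4 * ∑ i, z i * z' i := by
    rw [Finset.mul_sum]
    apply Finset.sum_congr rfl
    intro i _
    simp only [Pi.smul_apply, smul_eq_mul]
    ring
  rw [h2] at h1
  have h3 : (2 : ℤ) ∣ ∑ i, z i * z' i := by omega
  have h4 : ((∑ i, z i * z' i : ℤ) : ZMod 2) = 0 :=
    (ZMod.intCast_zmod_eq_zero_iff_dvd _ 2).mpr h3
  rw [← h4]
  push_cast
  rfl

theorem code_four_dvd (c : Fin 24 → ZMod 2) (hc : c ∈ code L) : 4 ∣ hammingNorm c := by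
  obtain ⟨z, hz, rfl⟩ := hc
  have h1 := hL.sq16 _ hz
  have h2 : ∑ i, ((2 : ℤ) • z) i ^ 2 = 4 * ∑ i, z i ^ 2 := by
    rw [Finset.mul_sum]
    apply Finset.sum_congr rfl
    intro i _
    simp only [Pi.smul_apply, smul_eq_mul]
    ring
  rw [h2] at h1
  have h3 : (4 : ℤ) ∣ ∑ i, z i ^ 2 := by omega
  have h4 : (4 : ℤ) ∣ ∑ i, (z i ^ 2 - (if ¬ (2 : ℤ) ∣ z i then 1 else 0)) :=
    Finset.dvd_sum (fun i _ => sq_sub_ite_dvd (z i))
  rw [Finset.sum_sub_distrib] at h4
  have h5 : (∑ i, (if ¬ (2 : ℤ) ∣ z i then (1 : ℤ) else 0)) = (hammingNorm (red z) : ℤ) := by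
    rw [hammingNorm_red, Finset.card_filter]
    push_cast
    rfl
  rw [h5] at h4
  have h6 : (4 : ℤ) ∣ (hammingNorm (red z) : ℤ) := by omega
  exact_mod_cast h6

/-- a non-zero code word has weight at least 8 -/
theorem code_weight_ge (c : Fin 24 → ZMod 2) (hc : c ∈ code L) (hc0 : c ≠ 0) :
    8 ≤ hammingNorm c := by
  classical
  obtain ⟨z, hz, rfl⟩ := hc
  set D := Finset.univ.filter (fun i => ¬ (2 : ℤ) ∣ z i) with hD
  have hDne : D.Nonempty := by
    rw [Finset.nonempty_iff_ne_empty]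
    intro hemp
    apply hc0
    funext i
    by_contra hi
    have : i ∈ D := by
      rw [hD, Finset.mem_filter]
      exact ⟨Finset.mem_univ _, (red_ne_zero_iff z i).mp hi⟩
    rw [hemp] at this
    simp at this
  obtain ⟨i0, hi0⟩ := hDne
  -- the two candidate representatives
  set s0 : Fin 24 → ℤ := fun i => if i ∈ D then 1 else 0 with hs0
  have hcong0 : ∀ i, (2 : ℤ) ∣ z i - s0 i := by
    intro i
    simp only [hs0]
    by_cases hi : i ∈ D
    · have := (Finset.mem_filter.mp hi).2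
      simp only [hi, if_true]
      omega
    · have : (2 : ℤ) ∣ z i := by
        by_contra hh
        exact hi (Finset.mem_filter.mpr ⟨Finset.mem_univ _, hh⟩)
      simp only [hi, if_false]
      omega
  have hsumdvd : (2 : ℤ) ∣ ∑ i, (z i - s0 i) := Finset.dvd_sum (fun i _ => hcong0 i)
  -- choose the sign at `i0`
  obtain ⟨s, hs2, hs4, hsq⟩ : ∃ s : Fin 24 → ℤ, (∀ i, (2 : ℤ) ∣ z i - s i) ∧
      ((4 : ℤ) ∣ ∑ i, (z i - s i)) ∧ ∀ i, s i ^ 2 = if i ∈ D then 1 else 0 := by
    by_cases h4 : (4 : ℤ) ∣ ∑ i, (z i - s0 i)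
    · refine ⟨s0, hcong0, h4, ?_⟩
      intro i
      simp only [hs0]
      split_ifs <;> norm_num
    · refine ⟨(s0 - Pi.single i0 (2 : ℤ) : Fin 24 → ℤ), ?_, ?_, ?_⟩
      · intro i
        have := hcong0 i
        simp only [Pi.sub_apply, Pi.single_apply]
        split_ifs <;> omega
      · have : ∑ i, (z i - (s0 - Pi.single i0 (2 : ℤ) : Fin 24 → ℤ) i) = ∑ i, (z i - s0 i) + 2 := by
          have : ∀ i, z i - (s0 - Pi.single i0 (2 : ℤ) : Fin 24 → ℤ) i = (z i - s0 i) +
              (Pi.single i0 (2 : ℤ) : Fin 24 → ℤ) i := by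
            intro i
            simp only [Pi.sub_apply]
            ring
          rw [Finset.sum_congr rfl (fun i _ => this i), Finset.sum_add_distrib, sum_single]
        rw [this]
        omega
      · intro i
        simp only [Pi.sub_apply, Pi.single_apply, hs0]
        by_cases hi : i = i0
        · subst hi
          simp [hi0]
        · simp only [hi, if_false, sub_zero]
          split_ifs <;> norm_num
  have hmem := hL.two_smul_mem_of_congr z s hz hs2 hs4
  have hne : (2 : ℤ) • s ≠ 0 := by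
    intro h0
    have := congrFun h0 i0
    simp only [Pi.smul_apply, smul_eq_mul, Pi.zero_apply] at this
    have h1 := hsq i0
    simp only [hi0, if_true] at h1
    have : s i0 = 0 := by omega
    rw [this] at h1
    norm_num at h1
  have h32 := hL.min32 _ hmem hne
  have hsum : ∑ i, ((2 : ℤ) • s) i ^ 2 = 4 * (D.card : ℤ) := by
    have : ∀ i, ((2 : ℤ) • s) i ^ 2 = 4 * (if i ∈ D then 1 else 0) := by
      intro i
      simp only [Pi.smul_apply, smul_eq_mul]
      rw [mul_pow, hsq i]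
      norm_num
    rw [Finset.sum_congr rfl (fun i _ => this i), ← Finset.mul_sum]
    congr 1
    rw [Finset.sum_ite_mem, Finset.univ_inter, Finset.sum_const, nsmul_eq_mul, mul_one]
  rw [hsum] at h32
  rw [hammingNorm_red]
  have : (8 : ℤ) ≤ (D.card : ℤ) := by omega
  exact_mod_cast this

end CoordLat

end Cfsg.Agent.Lib.Helper1.LC
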