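import Cfsg.Agent.Lib.Helper1.LCD

/-!
# Conway's characterisation, part E: size bounds for the code (self-orthogonality, packing)
-/

set_option autoImplicit false

namespace Cfsg.Agent.Lib.Helper1.LC

variable {L : AddSubgroup (Fin 24 → ℤ)}

/-- the standard dot product on binary words of length 24 -/
noncomputable def dotF : LinearMap.BilinForm (ZMod 2) (Fin 24 → ZMod 2) :=
  Matrix.toBilin' (1 : Matrix (Fin 24) (Fin 24) (ZMod 2))

theorem dotF_apply (x y : Fin 24 → ZMod 2) : dotF x y = ∑ i, x i * y i := by
  rw [dotF, Matrix.toBilin'_apply', Matrix.one_mulVec]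
  rfl

theorem dotF_nondegenerate : dotF.Nondegenerate :=
  LinearMap.BilinForm.nondegenerate_toBilin'_of_det_ne_zero' _ (by rw [Matrix.det_one]; exact one_ne_zero)

/-- a self-orthogonal binary code of length 24 has dimension at most 12 -/
theorem finrank_le_of_orth (C : Submodule (ZMod 2) (Fin 24 → ZMod 2))
    (horth : ∀ c ∈ C, ∀ c' ∈ C, ∑ i, c i * c' i = 0) :
    Module.finrank (ZMod 2) C ≤ 12 := by
  have hle : C ≤ dotF.orthogonal C := by
    intro c hc
    rw [LinearMap.BilinForm.mem_orthogonal_iff]
    intro c' hc'
    show dotF c' c = 0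
    rw [dotF_apply]
    exact horth c' hc' c hc
  have h1 := Submodule.finrank_mono hle
  rw [LinearMap.BilinForm.finrank_orthogonal dotF_nondegenerate] at h1
  have h2 : Module.finrank (ZMod 2) (Fin 24 → ZMod 2) = 24 := by simp
  rw [h2] at h1
  omega

theorem natCard_submodule (C : Submodule (ZMod 2) (Fin 24 → ZMod 2)) :
    Nat.card C = 2 ^ Module.finrank (ZMod 2) C := by
  rw [Module.natCard_eq_pow_finrank (K := ZMod 2), Nat.card_zmod]

/-- support of a binary word -/
def supp (c : Fin 24 → ZMod 2) : Finset (Fin 24) := Finset.univ.filter (fun i => c i ≠ 0)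

theorem card_supp (c : Fin 24 → ZMod 2) : (supp c).card = hammingNorm c := rfl

theorem supp_add_subset (c c' : Fin 24 → ZMod 2) :
    supp (c + c') ⊆ (supp c \ supp c') ∪ (supp c' \ supp c) := by
  intro i hi
  simp only [supp, Finset.mem_filter, Finset.mem_univ, true_and, Pi.add_apply,
    Finset.mem_union, Finset.mem_sdiff] at hi ⊢
  generalize c i = a at hi ⊢
  generalize c' i = b at hi ⊢
  revert a b
  decide

open Classical in
/-- the words of weight 8 of a code -/
noncomputable def octadSet (C : Submodule (ZMod 2) (Fin 24 → ZMod 2)) :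
    Finset (Fin 24 → ZMod 2) :=
  Finset.univ.filter (fun c => c ∈ C ∧ hammingNorm c = 8)

open Classical in
/-- the packing bound: a binary code of length 24 and minimum weight 8 has at most 759 words of
weight 8 -/
theorem octadSet_card_le (C : Submodule (ZMod 2) (Fin 24 → ZMod 2))
    (hmin : ∀ c ∈ C, c ≠ 0 → 8 ≤ hammingNorm c) : (octadSet C).card ≤ 759 := by
  have hdisj : ((octadSet C : Finset (Fin 24 → ZMod 2)) : Set (Fin 24 → ZMod 2)).PairwiseDisjoint
      (fun c => (supp c).powersetCard 5) := by
    intro c hc c' hc' hne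
    rw [Function.onFun, Finset.disjoint_left]
    intro T hT hT'
    rw [Finset.mem_powersetCard] at hT hT'
    have hc1 := (Finset.mem_filter.mp hc).2
    have hc1' := (Finset.mem_filter.mp hc').2
    have hsub : T ⊆ supp c' ∩ supp c := Finset.subset_inter hT'.1 hT.1
    have h5 : 5 ≤ (supp c' ∩ supp c).card := by
      rw [← hT.2]; exact Finset.card_le_card hsub
    have h5' : 5 ≤ (supp c ∩ supp c').card := by rwa [Finset.inter_comm]
    have hw : hammingNorm (c + c') ≤ 6 := by
      rw [← card_supp]
      calc (supp (c + c')).card ≤ ((supp c \ supp c') ∪ (supp c' \ supp c)).card :=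
            Finset.card_le_card (supp_add_subset c c')
        _ ≤ (supp c \ supp c').card + (supp c' \ supp c).card := Finset.card_union_le _ _
        _ ≤ 6 := by
          rw [Finset.card_sdiff, Finset.card_sdiff, card_supp, card_supp, hc1.2, hc1'.2]
          omega
    have hmem : c + c' ∈ C := C.add_mem hc1.1 hc1'.1
    have hne0 : c + c' ≠ 0 := by
      intro h0
      apply hne
      funext i
      have := congrFun h0 i
      simp only [Pi.add_apply, Pi.zero_apply] at this
      generalize c i = a at this ⊢
      generalize c' i = b at this ⊢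
      revert a b
      decide
    have := hmin _ hmem hne0
    omega
  have h1 := Finset.card_biUnion hdisj
  have h2 : ∑ c ∈ octadSet C, ((supp c).powersetCard 5).card = 56 * (octadSet C).card := by
    rw [Finset.sum_congr rfl (g := fun _ => 56), Finset.sum_const, smul_eq_mul, mul_comm]
    intro c hc
    rw [Finset.card_powersetCard, card_supp, (Finset.mem_filter.mp hc).2.2]
    decide
  have h3 : ((octadSet C).biUnion (fun c => (supp c).powersetCard 5)).card ≤
      ((Finset.univ : Finset (Fin 24)).powersetCard 5).card := by
    apply Finset.card_le_card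
    intro T hT
    rw [Finset.mem_biUnion] at hT
    obtain ⟨c, _, hT⟩ := hT
    rw [Finset.mem_powersetCard] at hT ⊢
    exact ⟨Finset.subset_univ _, hT.2⟩
  rw [Finset.card_powersetCard, Finset.card_univ, Fintype.card_fin] at h3
  have h4 : Nat.choose 24 5 = 42504 := by decide
  rw [h1, h2, h4] at h3
  omega

end Cfsg.Agent.Lib.Helper1.LC
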