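import Cfsg.Agent.Lib.Helper1.LCE

/-!
# Conway's characterisation, part F: the minimal vectors of the coordinate lattice
-/

set_option autoImplicit false
set_option maxRecDepth 4000

namespace Cfsg.Agent.Lib.Helper1.LC

open Classical

variable {L : AddSubgroup (Fin 24 → ℤ)}

/-! ### vectors of the shape `(±4, ±4, 0, …)` -/

/-- the vector `±4 e_i ± 4 e_j` -/
def vecA (p : (Fin 24 × Fin 24) × (Bool × Bool)) : Fin 24 → ℤ :=
  Pi.single p.1.1 (if p.2.1 then 4 else -4) + Pi.single p.1.2 (if p.2.2 then 4 else -4)

/-- all vectors `±4 e_i ± 4 e_j`, `i < j` -/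
def FA : Finset (Fin 24 → ℤ) :=
  ((Finset.univ.filter (fun q : Fin 24 × Fin 24 => q.1 < q.2)) ×ˢ
    (Finset.univ : Finset (Bool × Bool))).image vecA

set_option maxRecDepth 100000 in
theorem card_lt_pairs : (Finset.univ.filter (fun q : Fin 24 × Fin 24 => q.1 < q.2)).card = 276 := by
  decide

theorem FA_card : FA.card ≤ 1104 := by
  refine Finset.card_image_le.trans ?_
  rw [Finset.card_product, card_lt_pairs]
  decide

theorem sq_le_one_of_sq_le_two (a : ℤ) (h : a ^ 2 ≤ 2) : a = 0 ∨ a = 1 ∨ a = -1 := by
  have h1 : a ≤ 1 := by nlinarith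
  have h2 : -1 ≤ a := by nlinarith
  omega

/-- an integer vector of norm 2 is `±e_i ± e_j` -/
theorem norm_two (u : Fin 24 → ℤ) (hu : ∑ i, u i ^ 2 = 2) :
    ∃ i j : Fin 24, i < j ∧ ∃ a b : Bool,
      u = Pi.single i (if a then 1 else -1) + Pi.single j (if b then 1 else -1) := by
  have hb : ∀ i, u i = 0 ∨ u i = 1 ∨ u i = -1 := by
    intro i
    apply sq_le_one_of_sq_le_two
    rw [← hu]
    exact Finset.single_le_sum (f := fun i => u i ^ 2) (fun j _ => sq_nonneg (u j))
      (Finset.mem_univ i)
  set T := Finset.univ.filter (fun i => u i ≠ 0) with hT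
  have hsq : ∀ i, u i ^ 2 = if i ∈ T then 1 else 0 := by
    intro i
    simp only [hT, Finset.mem_filter, Finset.mem_univ, true_and]
    rcases hb i with h | h | h <;> simp [h]
  have hcard : (T.card : ℤ) = 2 := by
    rw [← hu, Finset.sum_congr rfl (fun i _ => hsq i), Finset.sum_ite_mem, Finset.univ_inter,
      Finset.sum_const, nsmul_eq_mul, mul_one]
  have hcard' : T.card = 2 := by exact_mod_cast hcard
  obtain ⟨i, j, hij, hTij⟩ := Finset.card_eq_two.mp hcard'
  have hmem : ∀ k, u k ≠ 0 ↔ (k = i ∨ k = j) := by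
    intro k
    have : k ∈ T ↔ k ∈ ({i, j} : Finset (Fin 24)) := by rw [hTij]
    simpa [hT] using this
  -- without loss of generality `i < j`
  have key : ∀ i j : Fin 24, i < j → (∀ k, u k ≠ 0 ↔ (k = i ∨ k = j)) →
      ∃ a b : Bool, u = Pi.single i (if a then 1 else -1) + Pi.single j (if b then 1 else -1) := by
    intro i j hlt hm
    have hi : u i ≠ 0 := (hm i).mpr (Or.inl rfl)
    have hj : u j ≠ 0 := (hm j).mpr (Or.inr rfl)
    refine ⟨decide (u i = 1), decide (u j = 1), ?_⟩
    funext k
    simp only [Pi.add_apply, Pi.single_apply]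
    by_cases hki : k = i
    · subst hki
      have hkj : k ≠ j := ne_of_lt hlt
      simp only [if_true, hkj, if_false, add_zero]
      rcases hb k with h | h | h
      · exact absurd h hi
      · simp [h]
      · simp [h]
    · by_cases hkj : k = j
      · subst hkj
        simp only [hki, if_false, if_true, zero_add]
        rcases hb k with h | h | h
        · exact absurd h hj
        · simp [h]
        · simp [h]
      · simp only [hki, hkj, if_false, add_zero]
        by_contra hne
        rcases (hm k).mp hne with h | h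
        · exact hki h
        · exact hkj h
  rcases lt_or_gt_of_ne hij with hlt | hlt
  · exact ⟨i, j, hlt, key i j hlt hmem⟩
  · exact ⟨j, i, hlt, key j i hlt (fun k => by rw [hmem k]; exact Or.comm)⟩

theorem mem_FA_of_norm_two (u : Fin 24 → ℤ) (hu : ∑ i, u i ^ 2 = 2) : (4 : ℤ) • u ∈ FA := by
  obtain ⟨i, j, hij, a, b, rfl⟩ := norm_two u hu
  rw [FA, Finset.mem_image]
  refine ⟨((i, j), (a, b)), ?_, ?_⟩
  · rw [Finset.mem_product, Finset.mem_filter]
    exact ⟨⟨Finset.mem_univ _, hij⟩, Finset.mem_univ _⟩
  · funext k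
    simp only [vecA, Pi.add_apply, Pi.single_apply, Pi.smul_apply, smul_eq_mul]
    cases a <;> cases b <;> split_ifs <;> norm_num

/-! ### vectors of the shape `(±2)^8` on an octad -/

/-- the vector with entries `-2` on `T`, `2` on the rest of the support of `c`, `0` elsewhere -/
def yT (c : Fin 24 → ZMod 2) (T : Finset (Fin 24)) : Fin 24 → ℤ :=
  fun i => if i ∈ supp c then (if i ∈ T then -2 else 2) else 0

/-- the lattice vectors of shape `(±2)^8` on the support of `c` -/
noncomputable def FBc (L : AddSubgroup (Fin 24 → ℤ)) (c : Fin 24 → ZMod 2) :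
    Finset (Fin 24 → ℤ) :=
  ((supp c).powerset.filter (fun T => yT c T ∈ L)).image (yT c)

/-- all lattice vectors of shape `(±2)^8` on the octads of the code -/
noncomputable def FB (L : AddSubgroup (Fin 24 → ℤ)) : Finset (Fin 24 → ℤ) :=
  (octadSet (code L)).biUnion (FBc L)

theorem FBc_card (hL : CoordLat L) (c : Fin 24 → ZMod 2) (hc : hammingNorm c = 8) :
    (FBc L c).card ≤ 128 := by
  refine Finset.card_image_le.trans ?_
  have hne : (supp c).Nonempty := by
    rw [← Finset.card_pos, card_supp, hc]; norm_num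
  obtain ⟨i0, hi0⟩ := hne
  have h1 : ((supp c).powerset.filter (fun T => yT c T ∈ L)).card ≤
      ((supp c).erase i0).powerset.card := by
    apply Finset.card_le_card_of_injOn (fun T => T.erase i0)
    · intro T hT
      rw [Finset.mem_coe, Finset.mem_filter, Finset.mem_powerset] at hT
      rw [Finset.mem_coe, Finset.mem_powerset]
      exact Finset.erase_subset_erase i0 hT.1
    · intro T hT T' hT' hTT
      rw [Finset.mem_coe, Finset.mem_filter, Finset.mem_powerset] at hT hT'
      simp only at hTT
      by_contra hne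
      -- the two vectors differ by `±4 e_{i0}`
      have hdiff : ∀ k, k ≠ i0 → (k ∈ T ↔ k ∈ T') := by
        intro k hk
        have := congrArg (fun S : Finset (Fin 24) => k ∈ S) hTT
        simpa [Finset.mem_erase, hk] using this
      have hi0' : ¬ (i0 ∈ T ↔ i0 ∈ T') := by
        intro hiff
        apply hne
        ext k
        by_cases hk : k = i0
        · rw [hk]; exact hiff
        · exact hdiff k hk
      have hsub : yT c T - yT c T' ∈ L := L.sub_mem hT.2 hT'.2
      have hval : (yT c T - yT c T') = Pi.single i0 (4 : ℤ) ∨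
          (yT c T - yT c T') = Pi.single i0 (-4 : ℤ) := by
        by_cases h1 : i0 ∈ T
        · have h2 : i0 ∉ T' := fun h2 => hi0' ⟨fun _ => h2, fun _ => h1⟩
          right
          funext k
          simp only [Pi.sub_apply, yT, Pi.single_apply]
          by_cases hk : k = i0
          · subst hk
            simp [hi0, h1, h2]
          · simp only [hk, if_false]
            by_cases hks : k ∈ supp c
            · simp only [hks, if_true]
              by_cases hkT : k ∈ T
              · have := (hdiff k hk).mp hkT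
                simp [hkT, this]
              · have : k ∉ T' := fun hh => hkT ((hdiff k hk).mpr hh)
                simp [hkT, this]
            · simp [hks]
        · have h2 : i0 ∈ T' := by
            by_contra h2
            exact hi0' ⟨fun h => absurd h h1, fun h => absurd h h2⟩
          left
          funext k
          simp only [Pi.sub_apply, yT, Pi.single_apply]
          by_cases hk : k = i0
          · subst hk
            simp [hi0, h1, h2]
          · simp only [hk, if_false]
            by_cases hks : k ∈ supp c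
            · simp only [hks, if_true]
              by_cases hkT : k ∈ T
              · have := (hdiff k hk).mp hkT
                simp [hkT, this]
              · have : k ∉ T' := fun hh => hkT ((hdiff k hk).mpr hh)
                simp [hkT, this]
            · simp [hks]
      rcases hval with hv | hv
      · rw [hv] at hsub
        have := hL.min32 _ hsub (by
          intro h0
          have := congrFun h0 i0
          simp at this)
        rw [sum_sq_single] at this
        norm_num at this
      · rw [hv] at hsub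
        have := hL.min32 _ hsub (by
          intro h0
          have := congrFun h0 i0
          simp at this)
        rw [sum_sq_single] at this
        norm_num at this
  refine h1.trans ?_
  rw [Finset.card_powerset, Finset.card_erase_of_mem hi0, card_supp, hc]
  norm_num

theorem FB_card (hL : CoordLat L) : (FB L).card ≤ 128 * (octadSet (code L)).card := by
  refine Finset.card_biUnion_le.trans ?_
  calc ∑ c ∈ octadSet (code L), (FBc L c).card ≤ ∑ _c ∈ octadSet (code L), 128 := by
        apply Finset.sum_le_sum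
        intro c hc
        exact FBc_card hL c (Finset.mem_filter.mp hc).2.2
    _ = 128 * (octadSet (code L)).card := by
        rw [Finset.sum_const, smul_eq_mul, mul_comm]

/-- an even minimal vector is of one of the first two shapes -/
theorem even_min_mem (hL : CoordLat L) (y : Fin 24 → ℤ) (hy : y ∈ L)
    (hs : ∑ i, y i ^ 2 = 32) (he : ∀ i, (2 : ℤ) ∣ y i) : y ∈ FA ∪ FB L := by
  set z : Fin 24 → ℤ := fun i => y i / 2 with hz
  have hyz : y = (2 : ℤ) • z := by
    funext i
    simp only [hz, Pi.smul_apply, smul_eq_mul]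
    exact (Int.mul_ediv_cancel' (he i)).symm
  have hzL : (2 : ℤ) • z ∈ L := by rw [← hyz]; exact hy
  have hzs : ∑ i, z i ^ 2 = 8 := by
    have : ∑ i, y i ^ 2 = 4 * ∑ i, z i ^ 2 := by
      rw [Finset.mul_sum]
      apply Finset.sum_congr rfl
      intro i _
      rw [hyz]
      simp only [Pi.smul_apply, smul_eq_mul]
      ring
    omega
  set D := Finset.univ.filter (fun i => ¬ (2 : ℤ) ∣ z i) with hD
  by_cases hDe : D = ∅
  · -- all coordinates of `z` are even
    have hz2 : ∀ i, (2 : ℤ) ∣ z i := by
      intro i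
      by_contra hh
      have : i ∈ D := Finset.mem_filter.mpr ⟨Finset.mem_univ _, hh⟩
      rw [hDe] at this
      simp at this
    set u : Fin 24 → ℤ := fun i => z i / 2 with hu
    have hzu : z = (2 : ℤ) • u := by
      funext i
      simp only [hu, Pi.smul_apply, smul_eq_mul]
      exact (Int.mul_ediv_cancel' (hz2 i)).symm
    have hus : ∑ i, u i ^ 2 = 2 := by
      have : ∑ i, z i ^ 2 = 4 * ∑ i, u i ^ 2 := by
        rw [Finset.mul_sum]
        apply Finset.sum_congr rfl
        intro i _
        rw [hzu]
        simp only [Pi.smul_apply, smul_eq_mul]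
        ring
      omega
    have : y = (4 : ℤ) • u := by
      rw [hyz, hzu, smul_smul]
      norm_num
    rw [this]
    exact Finset.mem_union_left _ (mem_FA_of_norm_two u hus)
  · -- the odd support is an octad
    have hc : red z ∈ code L := ⟨z, hzL, rfl⟩
    have hc0 : red z ≠ 0 := by
      intro h0
      apply hDe
      rw [Finset.eq_empty_iff_forall_notMem]
      intro i hi
      have := (Finset.mem_filter.mp hi).2
      rw [← red_ne_zero_iff] at this
      exact this (by rw [h0]; rfl)
    have h8 := hL.code_weight_ge _ hc hc0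
    rw [hammingNorm_red] at h8
    change 8 ≤ D.card at h8
    -- the squares
    have hterm : ∀ i, 0 ≤ z i ^ 2 - (if i ∈ D then 1 else 0) := by
      intro i
      by_cases hi : i ∈ D
      · simp only [hi, if_true]
        have : z i ≠ 0 := by
          intro h0
          have := (Finset.mem_filter.mp hi).2
          rw [h0] at this
          exact this (dvd_zero _)
        have : 0 < z i ^ 2 := by positivity
        omega
      · simp only [hi, if_false, sub_zero]
        positivity
    have hsum : ∑ i, (z i ^ 2 - (if i ∈ D then 1 else 0)) = 8 - (D.card : ℤ) := by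
      rw [Finset.sum_sub_distrib, hzs, Finset.sum_ite_mem, Finset.univ_inter, Finset.sum_const,
        nsmul_eq_mul, mul_one]
    have hnn : 0 ≤ ∑ i, (z i ^ 2 - (if i ∈ D then 1 else 0)) :=
      Finset.sum_nonneg (fun i _ => hterm i)
    have hD8 : D.card = 8 := by
      have : (D.card : ℤ) ≤ 8 := by omega
      have : D.card ≤ 8 := by exact_mod_cast this
      omega
    have hzero : ∀ i, z i ^ 2 - (if i ∈ D then 1 else 0) = 0 := by
      have h0 : ∑ i, (z i ^ 2 - (if i ∈ D then 1 else 0)) = 0 := by
        rw [hsum, hD8]; norm_num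
      intro i
      exact (Finset.sum_eq_zero_iff_of_nonneg (fun i _ => hterm i)).mp h0 i (Finset.mem_univ i)
    have hsupp : supp (red z) = D := by
      ext i
      simp only [supp, hD, Finset.mem_filter, Finset.mem_univ, true_and]
      exact red_ne_zero_iff z i
    have hwt : hammingNorm (red z) = 8 := by rw [hammingNorm_red]; exact hD8
    apply Finset.mem_union_right
    rw [FB, Finset.mem_biUnion]
    refine ⟨red z, Finset.mem_filter.mpr ⟨Finset.mem_univ _, hc, hwt⟩, ?_⟩
    rw [FBc, Finset.mem_image]
    have hyT : yT (red z) (D.filter (fun i => z i = -1)) = y := by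
      funext i
      simp only [yT, hsupp, Finset.mem_filter]
      rw [hyz]
      simp only [Pi.smul_apply, smul_eq_mul]
      have h0 := hzero i
      by_cases hi : i ∈ D
      · simp only [hi, if_true, true_and] at h0 ⊢
        have h1 : z i ^ 2 = 1 := by omega
        have h2 : z i = 1 ∨ z i = -1 := by
          have : (z i - 1) * (z i + 1) = 0 := by ring_nf; omega
          rcases mul_eq_zero.mp this with h | h
          · left; omega
          · right; omega
        rcases h2 with h | h
        · simp [h]
        · simp [h]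
      · simp only [hi, if_false, sub_zero] at h0 ⊢
        have : z i = 0 := by
          have := pow_eq_zero_iff (n := 2) (by norm_num) |>.mp h0
          exact this
        rw [this]; norm_num
    refine ⟨D.filter (fun i => z i = -1), ?_, hyT⟩
    rw [Finset.mem_filter, Finset.mem_powerset, hsupp, hyT]
    exact ⟨Finset.filter_subset _ _, hy⟩

/-! ### vectors of the shape `(∓3, ±1^23)` -/

/-- the pattern of residues modulo 4 of an odd vector -/
def tau (y : Fin 24 → ℤ) : Fin 24 → ZMod 2 := fun j => (((y j - 1) / 2 : ℤ) : ZMod 2)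

/-- the odd minimal vector with given position of the `±3` and pattern of residues -/
def dec (p : Fin 24 × (Fin 24 → ZMod 2)) : Fin 24 → ℤ :=
  fun j => if j = p.1 then (if p.2 j = 1 then 3 else -3) else (if p.2 j = 1 then -1 else 1)

/-- candidates for the odd minimal vectors -/
noncomputable def FC (L : AddSubgroup (Fin 24 → ℤ)) (t : Fin 24 → ZMod 2) :
    Finset (Fin 24 → ℤ) :=
  ((Finset.univ : Finset (Fin 24)) ×ˢ
    (Finset.univ.filter (fun c : Fin 24 → ZMod 2 => c ∈ code L))).image (fun p => dec (p.1, t + p.2))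

theorem FC_card (t : Fin 24 → ZMod 2) : (FC L t).card ≤ 24 * Nat.card (code L) := by
  refine Finset.card_image_le.trans ?_
  rw [Finset.card_product, Finset.card_univ, Fintype.card_fin]
  have : (Finset.univ.filter (fun c : Fin 24 → ZMod 2 => c ∈ code L)).card = Nat.card (code L) := by
    rw [Nat.card_eq_fintype_card, Fintype.card_subtype]
  rw [this]

theorem odd_sq (a : ℤ) (h : ¬ (2 : ℤ) ∣ a) : (8 : ℤ) ∣ a ^ 2 - 1 ∧ 0 ≤ a ^ 2 - 1 := by
  have ha0 : a ≠ 0 := by
    rintro rfl
    exact h (dvd_zero _)
  have hpos : 0 < a ^ 2 := by positivity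
  refine ⟨?_, by omega⟩
  obtain ⟨k, hk⟩ : ∃ k, a = 2 * k + 1 := ⟨a / 2, by omega⟩
  subst hk
  have h2 : (2 : ℤ) ∣ k * (k + 1) := by
    rcases Int.even_or_odd k with ⟨m, hm⟩ | ⟨m, hm⟩
    · exact ⟨m * (k + 1), by rw [hm]; ring⟩
    · exact ⟨k * (m + 1), by rw [hm]; ring⟩
  obtain ⟨m, hm⟩ := h2
  exact ⟨m, by linear_combination 4 * hm⟩

/-- an odd vector of norm 32 has one entry `±3` and all others `±1` -/
theorem odd_shape (y : Fin 24 → ℤ) (ho : ∀ i, ¬ (2 : ℤ) ∣ y i) (hs : ∑ i, y i ^ 2 = 32) :
    ∃ i, (y i = 3 ∨ y i = -3) ∧ ∀ j, j ≠ i → (y j = 1 ∨ y j = -1) := by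
  have hsum : ∑ i, (y i ^ 2 - 1) = 8 := by
    rw [Finset.sum_sub_distrib, hs]
    simp
  have hex : ∃ i, y i ^ 2 - 1 ≠ 0 := by
    by_contra hall
    push Not at hall
    rw [Finset.sum_congr rfl (fun i _ => hall i)] at hsum
    simp at hsum
  obtain ⟨i, hi⟩ := hex
  have hi8 : 8 ≤ y i ^ 2 - 1 := by
    obtain ⟨⟨k, hk⟩, h0⟩ := odd_sq (y i) (ho i)
    omega
  have hrest : ∑ j ∈ Finset.univ.erase i, (y j ^ 2 - 1) = 8 - (y i ^ 2 - 1) := by
    rw [← hsum, ← Finset.add_sum_erase _ _ (Finset.mem_univ i)]
    ring
  have hnn : 0 ≤ ∑ j ∈ Finset.univ.erase i, (y j ^ 2 - 1) :=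
    Finset.sum_nonneg (fun j _ => (odd_sq (y j) (ho j)).2)
  have hi9 : y i ^ 2 - 1 = 8 := by omega
  have hzero : ∀ j ∈ Finset.univ.erase i, y j ^ 2 - 1 = 0 := by
    have h0 : ∑ j ∈ Finset.univ.erase i, (y j ^ 2 - 1) = 0 := by rw [hrest, hi9]; norm_num
    exact (Finset.sum_eq_zero_iff_of_nonneg (fun j _ => (odd_sq (y j) (ho j)).2)).mp h0
  refine ⟨i, ?_, ?_⟩
  · have : (y i - 3) * (y i + 3) = 0 := by ring_nf; omega
    rcases mul_eq_zero.mp this with h | h
    · left; omega
    · right; omega
  · intro j hj
    have := hzero j (Finset.mem_erase.mpr ⟨hj, Finset.mem_univ _⟩)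
    have : (y j - 1) * (y j + 1) = 0 := by ring_nf; omega
    rcases mul_eq_zero.mp this with h | h
    · left; omega
    · right; omega

theorem tau_three : ((((3 : ℤ) - 1) / 2 : ℤ) : ZMod 2) = 1 := by decide
theorem tau_mthree : ((((-3 : ℤ) - 1) / 2 : ℤ) : ZMod 2) = 0 := by decide
theorem tau_one : ((((1 : ℤ) - 1) / 2 : ℤ) : ZMod 2) = 0 := by decide
theorem tau_mone : ((((-1 : ℤ) - 1) / 2 : ℤ) : ZMod 2) = 1 := by decide

theorem dec_tau (y : Fin 24 → ℤ) (i : Fin 24) (hi : y i = 3 ∨ y i = -3)
    (hj : ∀ j, j ≠ i → (y j = 1 ∨ y j = -1)) : dec (i, tau y) = y := by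
  funext j
  by_cases hji : j = i
  · subst hji
    rcases hi with h | h
    · have ht : tau y j = 1 := by simp only [tau, h]; exact tau_three
      simp only [dec, if_true, ht, h]
    · have ht : tau y j = 0 := by simp only [tau, h]; exact tau_mthree
      have h01 : (0 : ZMod 2) ≠ 1 := by decide
      simp only [dec, if_true, ht, h01, if_false, h]
  · rcases hj j hji with h | h
    · have ht : tau y j = 0 := by simp only [tau, h]; exact tau_one
      have h01 : (0 : ZMod 2) ≠ 1 := by decide
      simp only [dec, hji, if_false, ht, h01, h]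
    · have ht : tau y j = 1 := by simp only [tau, h]; exact tau_mone
      simp only [dec, hji, if_false, ht, if_true, h]

/-- the residue patterns of two odd lattice vectors differ by a code word -/
theorem tau_sub_mem (y y' : Fin 24 → ℤ) (hy : y ∈ L) (hy' : y' ∈ L)
    (ho : ∀ i, ¬ (2 : ℤ) ∣ y i) (ho' : ∀ i, ¬ (2 : ℤ) ∣ y' i) :
    ∃ c ∈ code L, tau y = tau y' + c := by
  set z : Fin 24 → ℤ := fun i => (y i - y' i) / 2 with hz
  have h2 : ∀ i, (2 : ℤ) ∣ y i - y' i := by
    intro i
    have := ho i
    have := ho' i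
    omega
  have hzL : (2 : ℤ) • z ∈ L := by
    have : (2 : ℤ) • z = y - y' := by
      funext i
      simp only [hz, Pi.smul_apply, smul_eq_mul, Pi.sub_apply]
      exact Int.mul_ediv_cancel' (h2 i)
    rw [this]
    exact L.sub_mem hy hy'
  refine ⟨red z, ⟨z, hzL, rfl⟩, ?_⟩
  funext i
  simp only [tau, red, Pi.add_apply, hz]
  have e : (y i - 1) / 2 = (y' i - 1) / 2 + (y i - y' i) / 2 := by
    have := ho i
    have := ho' i
    omega
  rw [e]
  push_cast
  rfl

/-- an odd minimal vector is among the candidates -/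
theorem odd_min_mem (y y' : Fin 24 → ℤ) (hy : y ∈ L) (hy' : y' ∈ L)
    (ho : ∀ i, ¬ (2 : ℤ) ∣ y i) (ho' : ∀ i, ¬ (2 : ℤ) ∣ y' i) (hs : ∑ i, y i ^ 2 = 32) :
    y ∈ FC L (tau y') := by
  obtain ⟨i, hi, hj⟩ := odd_shape y ho hs
  obtain ⟨c, hc, hct⟩ := tau_sub_mem y y' hy hy' ho ho'
  rw [FC, Finset.mem_image]
  refine ⟨(i, c), ?_, ?_⟩
  · simp [hc]
  · simp only
    rw [← hct]
    exact dec_tau y i hi hj

/-! ### the count -/

/-- the fundamental inequality for the number of minimal vectors -/
theorem count_bound (hL : CoordLat L) :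
    196560 ≤ 1104 + 128 * (octadSet (code L)).card + 24 * Nat.card (code L) ∧
    ∃ y ∈ L, ∀ i, ¬ (2 : ℤ) ∣ y i := by
  have hA8 := octadSet_card_le (code L) (fun c hc hc0 => hL.code_weight_ge c hc hc0)
  by_cases hodd : ∃ y ∈ L, ∀ i, ¬ (2 : ℤ) ∣ y i
  · refine ⟨?_, hodd⟩
    obtain ⟨y', hy', ho'⟩ := hodd
    have hsub : {y : Fin 24 → ℤ | y ∈ L ∧ ∑ i, y i ^ 2 = 32} ⊆
        ((FA ∪ FB L ∪ FC L (tau y') : Finset (Fin 24 → ℤ)) : Set (Fin 24 → ℤ)) := by
      rintro y ⟨hy, hs⟩
      rw [Finset.mem_coe]
      rcases hL.even_or_odd y hy with he | ho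
      · exact Finset.mem_union_left _ (even_min_mem hL y hy hs he)
      · exact Finset.mem_union_right _ (odd_min_mem y y' hy hy' ho ho' hs)
    have h1 := Set.ncard_le_ncard hsub (Finset.finite_toSet _)
    rw [hL.cnt, Set.ncard_coe_finset] at h1
    have h2 : (FA ∪ FB L ∪ FC L (tau y')).card ≤ (FA ∪ FB L).card + (FC L (tau y')).card :=
      Finset.card_union_le _ _
    have h3 : (FA ∪ FB L).card ≤ FA.card + (FB L).card := Finset.card_union_le _ _
    have h4 := FA_card
    have h5 := FB_card hL
    have h6 := FC_card (L := L) (tau y')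
    omega
  · exfalso
    have hsub : {y : Fin 24 → ℤ | y ∈ L ∧ ∑ i, y i ^ 2 = 32} ⊆
        ((FA ∪ FB L : Finset (Fin 24 → ℤ)) : Set (Fin 24 → ℤ)) := by
      rintro y ⟨hy, hs⟩
      rw [Finset.mem_coe]
      rcases hL.even_or_odd y hy with he | ho
      · exact even_min_mem hL y hy hs he
      · exact absurd ⟨y, hy, ho⟩ hodd
    have h1 := Set.ncard_le_ncard hsub (Finset.finite_toSet _)
    rw [hL.cnt, Set.ncard_coe_finset] at h1
    have h3 : (FA ∪ FB L).card ≤ FA.card + (FB L).card := Finset.card_union_le _ _
    have h4 := FA_card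
    have h5 := FB_card hL
    omega

/-- the code has dimension 12 -/
theorem code_finrank (hL : CoordLat L) : Module.finrank (ZMod 2) (code L) = 12 := by
  have h1 := (count_bound hL).1
  have hA8 := octadSet_card_le (code L) (fun c hc hc0 => hL.code_weight_ge c hc hc0)
  have h2 := finrank_le_of_orth (code L) (fun c hc c' hc' => hL.code_orth c c' hc hc')
  have h3 := natCard_submodule (code L)
  have h4 : 4096 ≤ Nat.card (code L) := by omega
  rw [h3] at h4
  by_contra hne
  have h5 : Module.finrank (ZMod 2) (code L) ≤ 11 := by omega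
  have h6 : 2 ^ Module.finrank (ZMod 2) (code L) ≤ 2 ^ 11 :=
    Nat.pow_le_pow_right (by norm_num) h5
  omega

end Cfsg.Agent.Lib.Helper1.LC
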