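import Cfsg.Agent.Lib.Helper1.LCF

/-!
# Conway's characterisation, part G: the coordinate lattice in terms of its code and an odd vector
-/

set_option autoImplicit false
set_option maxRecDepth 4000

namespace Cfsg.Agent.Lib.Helper1.LC

variable {L : AddSubgroup (Fin 24 → ℤ)}

/-- the sign that makes an odd number congruent to 1 modulo 4 -/
def sgn4 (a : ℤ) : ℤ := if a % 4 = 1 then 1 else -1

theorem sgn4_cases (a : ℤ) : sgn4 a = 1 ∨ sgn4 a = -1 := by
  unfold sgn4; split_ifs <;> simp

theorem sgn4_mul_self (a : ℤ) : sgn4 a * sgn4 a = 1 := by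
  rcases sgn4_cases a with h | h <;> rw [h] <;> norm_num

theorem sgn4_congr (a : ℤ) (ha : ¬ (2 : ℤ) ∣ a) : (4 : ℤ) ∣ a - sgn4 a := by
  unfold sgn4
  split_ifs with h <;> omega

/-- the indicator word of the coordinates congruent to `k` modulo 4 -/
def ind (w : Fin 24 → ℤ) (k : ℤ) : Fin 24 → ZMod 2 :=
  fun i => if w i ≡ k [ZMOD 4] then 1 else 0

theorem ind_congr (w : Fin 24 → ℤ) (k k' : ℤ) (h : k ≡ k' [ZMOD 4]) : ind w k = ind w k' := by
  funext i
  simp only [ind]
  have : w i ≡ k [ZMOD 4] ↔ w i ≡ k' [ZMOD 4] :=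
    ⟨fun h1 => h1.trans h, fun h1 => h1.trans h.symm⟩
  simp only [this]

theorem red_eq_of_iff (s : Fin 24 → ℤ) (c : Fin 24 → ZMod 2)
    (h : ∀ i, (¬ (2 : ℤ) ∣ s i) ↔ c i = 1) : red s = c := by
  funext i
  by_cases hi : (2 : ℤ) ∣ s i
  · have h1 : red s i = 0 := by
      rw [red_apply]; exact (ZMod.intCast_zmod_eq_zero_iff_dvd _ 2).mpr hi
    have h2 : c i ≠ 1 := fun hh => ((h i).mpr hh) hi
    rw [h1]
    generalize c i = a at h2 ⊢
    revert a; decide
  · have h1 : red s i ≠ 0 := (red_ne_zero_iff s i).mpr hi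
    have h2 : c i = 1 := (h i).mp hi
    rw [h2]
    generalize red s i = a at h1 ⊢
    revert a; decide

theorem ind_eq_one_iff (w : Fin 24 → ℤ) (k : ℤ) (i : Fin 24) :
    ind w k i = 1 ↔ (4 : ℤ) ∣ w i - k := by
  have h1 : w i ≡ k [ZMOD 4] ↔ (4 : ℤ) ∣ w i - k := by
    rw [Int.modEq_comm, Int.modEq_iff_dvd]
  unfold ind
  by_cases h : w i ≡ k [ZMOD 4]
  · rw [if_pos h]; exact ⟨fun _ => h1.mp h, fun _ => rfl⟩
  · rw [if_neg h]
    exact ⟨fun hh => absurd hh (by decide), fun hh => absurd (h1.mpr hh) h⟩

theorem zmod2_ext (a b : ZMod 2) (h : a = 1 ↔ b = 1) : a = b := by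
  revert a b; decide

theorem zmod2_add_one (a : ZMod 2) : a + 1 = 1 ↔ ¬ a = 1 := by
  revert a; decide

/-- if all coordinates are congruent to `k0` or `k0 + 2` modulo 4 and the indicator word of `k0` is
in a code containing the all-ones word, so are all indicator words -/
theorem ind_mem_of {C : Submodule (ZMod 2) (Fin 24 → ZMod 2)} (hone : (1 : Fin 24 → ZMod 2) ∈ C)
    (w : Fin 24 → ℤ) (k0 : ℤ) (hk0 : ind w k0 ∈ C)
    (hw : ∀ i, (4 : ℤ) ∣ w i - k0 ∨ (4 : ℤ) ∣ w i - (k0 + 2)) : ∀ k : ℤ, ind w k ∈ C := by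
  intro k
  have hr : (k - k0) % 4 = 0 ∨ (k - k0) % 4 = 1 ∨ (k - k0) % 4 = 2 ∨ (k - k0) % 4 = 3 := by omega
  rcases hr with h | h | h | h
  · have : ind w k = ind w k0 := by
      funext i
      apply zmod2_ext
      rw [ind_eq_one_iff, ind_eq_one_iff]
      omega
    rw [this]; exact hk0
  · have : ind w k = 0 := by
      funext i
      apply zmod2_ext
      rw [ind_eq_one_iff]
      have := hw i
      simp only [Pi.zero_apply]
      constructor
      · intro hh; omega
      · intro hh; exact absurd hh (by decide)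
    rw [this]; exact C.zero_mem
  · have : ind w k = ind w k0 + 1 := by
      funext i
      apply zmod2_ext
      rw [Pi.add_apply, Pi.one_apply, zmod2_add_one, ind_eq_one_iff, ind_eq_one_iff]
      have := hw i
      omega
    rw [this]; exact C.add_mem hk0 hone
  · have : ind w k = 0 := by
      funext i
      apply zmod2_ext
      rw [ind_eq_one_iff]
      have := hw i
      simp only [Pi.zero_apply]
      constructor
      · intro hh; omega
      · intro hh; exact absurd hh (by decide)
    rw [this]; exact C.zero_mem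

section odd

variable (hL : CoordLat L) (y0 : Fin 24 → ℤ) (hy0 : y0 ∈ L) (ho : ∀ i, ¬ (2 : ℤ) ∣ y0 i)
include hL hy0 ho

/-- Lemma S: the signed sum of an even lattice vector is divisible by 8 -/
theorem signed_sum_even (t : Fin 24 → ℤ) (ht : t ∈ L) (he : ∀ i, (2 : ℤ) ∣ t i) :
    (8 : ℤ) ∣ ∑ i, sgn4 (y0 i) * t i := by
  have h1 := hL.dot8 t ht y0 hy0
  have h2 : (8 : ℤ) ∣ ∑ i, t i * (y0 i - sgn4 (y0 i)) := by
    apply Finset.dvd_sum
    intro i _
    obtain ⟨a, ha⟩ := he i
    obtain ⟨b, hb⟩ := sgn4_congr (y0 i) (ho i)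
    exact ⟨a * b, by rw [ha, hb]; ring⟩
  have h3 : ∑ i, sgn4 (y0 i) * t i = ∑ i, t i * y0 i - ∑ i, t i * (y0 i - sgn4 (y0 i)) := by
    rw [← Finset.sum_sub_distrib]
    apply Finset.sum_congr rfl
    intro i _
    ring
  rw [h3]
  exact dvd_sub h1 h2

/-- Lemma S0: the signed sum of the odd vector is 4 modulo 8 -/
theorem signed_sum_odd : (8 : ℤ) ∣ ∑ i, sgn4 (y0 i) * y0 i - 4 := by
  have h1 := hL.sq16 y0 hy0
  have h2 : (16 : ℤ) ∣ ∑ i, (sgn4 (y0 i) * y0 i - 1) ^ 2 := by
    apply Finset.dvd_sum
    intro i _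
    obtain ⟨b, hb⟩ := sgn4_congr (y0 i) (ho i)
    have e : sgn4 (y0 i) * y0 i - 1 = sgn4 (y0 i) * (y0 i - sgn4 (y0 i)) := by
      have := sgn4_mul_self (y0 i)
      linear_combination this
    rw [e, hb]
    exact ⟨(sgn4 (y0 i)) ^ 2 * b ^ 2, by ring⟩
  have h3 : ∑ i, (sgn4 (y0 i) * y0 i - 1) ^ 2 =
      ∑ i, y0 i ^ 2 - 2 * ∑ i, sgn4 (y0 i) * y0 i + 24 := by
    have : ∀ i, (sgn4 (y0 i) * y0 i - 1) ^ 2 = y0 i ^ 2 - 2 * (sgn4 (y0 i) * y0 i) + 1 := by
      intro i
      have := sgn4_mul_self (y0 i)
      linear_combination (y0 i) ^ 2 * this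
    rw [Finset.sum_congr rfl (fun i _ => this i), Finset.sum_add_distrib, Finset.sum_sub_distrib,
      ← Finset.mul_sum]
    simp
  rw [h3] at h2
  omega

/-- Lemma E: an even vector with code word in the code and signed sum divisible by 8 is in the
lattice -/
theorem even_mem (s : Fin 24 → ℤ) (hs : red s ∈ code L)
    (h8 : (8 : ℤ) ∣ ∑ i, sgn4 (y0 i) * ((2 : ℤ) • s) i) : (2 : ℤ) • s ∈ L := by
  obtain ⟨zz, hzz, hred⟩ := hs
  have h2 : ∀ i, (2 : ℤ) ∣ s i - zz i := by
    intro i
    have := congrFun hred i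
    rw [red_apply, red_apply] at this
    have h3 : ((s i - zz i : ℤ) : ZMod 2) = 0 := by
      push_cast; rw [this, sub_self]
    exact (ZMod.intCast_zmod_eq_zero_iff_dvd _ 2).mp h3
  set u : Fin 24 → ℤ := (2 : ℤ) • s - (2 : ℤ) • zz with hu
  have hu4 : ∀ i, (4 : ℤ) ∣ u i := by
    intro i
    simp only [hu, Pi.sub_apply, Pi.smul_apply, smul_eq_mul]
    have := h2 i
    omega
  have hS := signed_sum_even hL y0 hy0 ho _ hzz (fun i => ⟨zz i, by simp⟩)
  have hsu : (8 : ℤ) ∣ ∑ i, sgn4 (y0 i) * u i := by
    have : ∑ i, sgn4 (y0 i) * u i =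
        ∑ i, sgn4 (y0 i) * ((2 : ℤ) • s) i - ∑ i, sgn4 (y0 i) * ((2 : ℤ) • zz) i := by
      rw [← Finset.sum_sub_distrib]
      apply Finset.sum_congr rfl
      intro i _
      simp only [hu, Pi.sub_apply]
      ring
    rw [this]
    exact dvd_sub h8 hS
  have hdiff : (8 : ℤ) ∣ ∑ i, (1 - sgn4 (y0 i)) * u i := by
    apply Finset.dvd_sum
    intro i _
    obtain ⟨b, hb⟩ := hu4 i
    rcases sgn4_cases (y0 i) with h | h
    · rw [h]; simp
    · rw [h, hb]; exact ⟨b, by ring⟩
  have hsum : (8 : ℤ) ∣ ∑ i, u i := by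
    have : ∑ i, u i = ∑ i, (1 - sgn4 (y0 i)) * u i + ∑ i, sgn4 (y0 i) * u i := by
      rw [← Finset.sum_add_distrib]
      apply Finset.sum_congr rfl
      intro i _
      ring
    rw [this]
    exact dvd_add hdiff hsu
  have huL := hL.L0_le u hu4 hsum
  have : (2 : ℤ) • s = u + (2 : ℤ) • zz := by rw [hu]; abel
  rw [this]
  exact L.add_mem huL hzz

omit hL in
theorem one_mem_code : (1 : Fin 24 → ZMod 2) ∈ code L := by
  refine ⟨y0, L.zsmul_mem hy0 2, ?_⟩
  apply red_eq_of_iff
  intro i
  simp [ho i]

/-- **The coordinate lattice is described by its code and the signs of an odd vector.** -/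
theorem mem_iff (w : Fin 24 → ℤ) :
    (fun i => sgn4 (y0 i) * w i) ∈ L ↔
      ∃ m : ℤ, (∀ i, w i ≡ m [ZMOD 2]) ∧ (∑ i, w i ≡ 4 * m [ZMOD 8]) ∧
        ∀ k : ℤ, ind w k ∈ code L := by
  set t : Fin 24 → ℤ := fun i => sgn4 (y0 i) * w i with ht
  have hwt : ∀ i, w i = sgn4 (y0 i) * t i := by
    intro i
    simp only [ht]
    rw [← mul_assoc, sgn4_mul_self, one_mul]
  have hti : ∀ i, t i = sgn4 (y0 i) * w i := fun i => rfl
  have hone := one_mem_code (L := L) y0 hy0 ho
  have hsumw : ∑ i, w i = ∑ i, sgn4 (y0 i) * t i := Finset.sum_congr rfl (fun i _ => hwt i)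
  constructor
  · intro htL
    rcases hL.even_or_odd t htL with he | hodd
    · -- even case
      have hwe : ∀ i, (2 : ℤ) ∣ w i := by
        intro i
        have := he i
        rw [hti i] at this
        rcases sgn4_cases (y0 i) with h | h <;> rw [h] at this <;> omega
      refine ⟨0, ?_, ?_, ?_⟩
      · intro i
        exact (Int.modEq_zero_iff_dvd).mpr (hwe i)
      · have h1 := signed_sum_even hL y0 hy0 ho t htL he
        rw [hsumw]
        exact (Int.modEq_zero_iff_dvd).mpr h1
      · set s : Fin 24 → ℤ := fun i => t i / 2 with hs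
        have hts : t = (2 : ℤ) • s := by
          funext i
          simp only [hs, Pi.smul_apply, smul_eq_mul]
          exact (Int.mul_ediv_cancel' (he i)).symm
        have hsc : red s ∈ code L := ⟨s, by rw [← hts]; exact htL, rfl⟩
        have h2 : red s = ind w 2 := by
          apply red_eq_of_iff
          intro i
          rw [ind_eq_one_iff]
          have e1 : t i = 2 * s i := by rw [hts]; simp
          have e2 := hwt i
          rcases sgn4_cases (y0 i) with h | h <;> rw [h] at e2 <;> omega
        rw [h2] at hsc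
        exact ind_mem_of hone w 2 hsc (fun i => by have := hwe i; omega)
    · -- odd case
      have hwo : ∀ i, ¬ (2 : ℤ) ∣ w i := by
        intro i
        have := hodd i
        rw [hti i] at this
        rcases sgn4_cases (y0 i) with h | h <;> rw [h] at this <;> omega
      have hdL : t - y0 ∈ L := L.sub_mem htL hy0
      have hde : ∀ i, (2 : ℤ) ∣ (t - y0) i := by
        intro i
        have := hodd i
        have := ho i
        simp only [Pi.sub_apply]
        omega
      refine ⟨1, ?_, ?_, ?_⟩
      · intro i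
        have := hwo i
        simp only [Int.ModEq]
        omega
      · have h1 := signed_sum_even hL y0 hy0 ho (t - y0) hdL hde
        have h0 := signed_sum_odd hL y0 hy0 ho
        have : ∑ i, sgn4 (y0 i) * (t - y0) i = ∑ i, w i - ∑ i, sgn4 (y0 i) * y0 i := by
          rw [hsumw, ← Finset.sum_sub_distrib]
          apply Finset.sum_congr rfl
          intro i _
          simp only [Pi.sub_apply]
          ring
        rw [this] at h1
        simp only [Int.ModEq]
        omega
      · set s : Fin 24 → ℤ := fun i => (t - y0) i / 2 with hs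
        have hts : t - y0 = (2 : ℤ) • s := by
          funext i
          simp only [hs, Pi.smul_apply, smul_eq_mul]
          exact (Int.mul_ediv_cancel' (hde i)).symm
        have hsc : red s ∈ code L := ⟨s, by rw [← hts]; exact hdL, rfl⟩
        have h2 : red s = ind w 3 := by
          apply red_eq_of_iff
          intro i
          rw [ind_eq_one_iff]
          have e1 : t i - y0 i = 2 * s i := by
            have := congrFun hts i
            simpa using this
          have e2 := hwt i
          have e3 := sgn4_congr (y0 i) (ho i)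
          rcases sgn4_cases (y0 i) with h | h <;> rw [h] at e2 e3 <;> omega
        rw [h2] at hsc
        exact ind_mem_of hone w 3 hsc (fun i => by have := hwo i; omega)
  · rintro ⟨m, hpar, hsum, hk⟩
    by_cases hm : (2 : ℤ) ∣ m
    · -- even case
      have hwe : ∀ i, (2 : ℤ) ∣ w i := by
        intro i
        have := hpar i
        simp only [Int.ModEq] at this
        omega
      have hte : ∀ i, (2 : ℤ) ∣ t i := by
        intro i
        rw [hti i]
        exact Dvd.dvd.mul_left (hwe i) _
      set s : Fin 24 → ℤ := fun i => t i / 2 with hs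
      have hts : t = (2 : ℤ) • s := by
        funext i
        simp only [hs, Pi.smul_apply, smul_eq_mul]
        exact (Int.mul_ediv_cancel' (hte i)).symm
      have h2 : red s = ind w 2 := by
        apply red_eq_of_iff
        intro i
        rw [ind_eq_one_iff]
        have e1 : t i = 2 * s i := by rw [hts]; simp
        have e2 := hwt i
        rcases sgn4_cases (y0 i) with h | h <;> rw [h] at e2 <;> omega
      have hsc : red s ∈ code L := by rw [h2]; exact hk 2
      rw [hts]
      apply even_mem hL y0 hy0 ho s hsc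
      rw [← hts, ← hsumw]
      simp only [Int.ModEq] at hsum
      omega
    · -- odd case
      have hwo : ∀ i, ¬ (2 : ℤ) ∣ w i := by
        intro i
        have := hpar i
        simp only [Int.ModEq] at this
        omega
      have hto : ∀ i, ¬ (2 : ℤ) ∣ t i := by
        intro i
        have := hwo i
        rw [hti i]
        rcases sgn4_cases (y0 i) with h | h <;> rw [h] <;> omega
      have hde : ∀ i, (2 : ℤ) ∣ (t - y0) i := by
        intro i
        have := hto i
        have := ho i
        simp only [Pi.sub_apply]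
        omega
      set s : Fin 24 → ℤ := fun i => (t - y0) i / 2 with hs
      have hts : t - y0 = (2 : ℤ) • s := by
        funext i
        simp only [hs, Pi.smul_apply, smul_eq_mul]
        exact (Int.mul_ediv_cancel' (hde i)).symm
      have h2 : red s = ind w 3 := by
        apply red_eq_of_iff
        intro i
        rw [ind_eq_one_iff]
        have e1 : t i - y0 i = 2 * s i := by
          have := congrFun hts i
          simpa using this
        have e2 := hwt i
        have e3 := sgn4_congr (y0 i) (ho i)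
        rcases sgn4_cases (y0 i) with h | h <;> rw [h] at e2 e3 <;> omega
      have hsc : red s ∈ code L := by rw [h2]; exact hk 3
      have hmem : (2 : ℤ) • s ∈ L := by
        apply even_mem hL y0 hy0 ho s hsc
        rw [← hts]
        have h0 := signed_sum_odd hL y0 hy0 ho
        have : ∑ i, sgn4 (y0 i) * (t - y0) i = ∑ i, w i - ∑ i, sgn4 (y0 i) * y0 i := by
          rw [hsumw, ← Finset.sum_sub_distrib]
          apply Finset.sum_congr rfl
          intro i _
          simp only [Pi.sub_apply]
          ring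
        rw [this]
        simp only [Int.ModEq] at hsum
        omega
      have : t = (2 : ℤ) • s + y0 := by rw [← hts]; abel
      rw [this]
      exact L.add_mem hmem hy0

end odd

end Cfsg.Agent.Lib.Helper1.LC
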