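import Cfsg.Agent.Lib.Helper1.LCG
import Cfsg.Agent.S0375
import Cfsg.Agent.Lib.Helper4.Leech

/-!
# Conway's characterisation, part H: identification with the standard coordinates

The code of the coordinate lattice is a doubly even self-dual code of length 24 and minimal
weight 8, so it is the standard one up to a permutation of the coordinates; the coordinate lattice
is then the standard one up to that permutation and sign changes.
-/

set_option autoImplicit false
set_option maxRecDepth 4000

namespace Cfsg.Agent.Lib.Helper1.LC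

open Matrix Cfsg

variable {L : AddSubgroup (Fin 24 → ℤ)}

/-- the coordinate lattice is the standard lattice up to a permutation and sign changes -/
theorem exists_coords (hL : CoordLat L) :
    ∃ (e : Fin 24 ≃ GolayPt) (ε : Fin 24 → ℤ), (∀ i, ε i * ε i = 1) ∧
      ∀ z : GolayPt → ℤ, z ∈ leechLattice ↔ (fun i => ε i * z (e i)) ∈ L := by
  obtain ⟨y0, hy0, ho⟩ := (count_bound hL).2
  have hno4 : ∀ w ∈ code L, hammingNorm w ≠ 4 := by
    intro w hw h4
    by_cases h0 : w = 0
    · subst h0; simp at h4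
    · have := hL.code_weight_ge w hw h0; omega
  obtain ⟨e, he⟩ := Cfsg.Agent.S0375.result (code L) (code_finrank hL)
    (fun v hv w hw => hL.code_orth v w hv hw) (fun w hw => hL.code_four_dvd w hw) hno4
  refine ⟨e, fun i => sgn4 (y0 i), fun i => sgn4_mul_self _, ?_⟩
  intro z
  rw [Cfsg.Agent.Lib.Helper4.mem_leechLattice_iff, Cfsg.Agent.Lib.Helper4.mem_leechSet_iff,
    mem_iff hL y0 hy0 ho (fun i => z (e i))]
  constructor
  · rintro ⟨m, h1, h2, h3⟩
    refine ⟨m, fun i => h1 (e i), ?_, fun k => ?_⟩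
    · rw [Equiv.sum_comp e z]; exact h2
    · exact (he (Cfsg.Agent.Lib.Helper4.wd z k)).mp (h3 k)
  · rintro ⟨m, h1, h2, h3⟩
    refine ⟨m, fun p => ?_, ?_, fun k => ?_⟩
    · have := h1 (e.symm p)
      simpa using this
    · rw [← Equiv.sum_comp e z]; exact h2
    · exact (he (Cfsg.Agent.Lib.Helper4.wd z k)).mpr (h3 k)

/-- **Conway's characterisation**, in terms of the form `Q B`. -/
theorem leech_char {B : Matrix (Fin 24) (Fin 24) ℤ} (h : Hyp B)
    (h4 : {x : Lam | Q B x = 4}.ncard = 196560)
    (h6 : {x : Lam | Q B x = 6}.ncard = 16773120)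
    (h8 : {x : Lam | Q B x = 8}.ncard = 398034000) :
    ∃ f : (Fin 24 → ℤ) ≃+ Cfsg.leechLattice, ∀ x : Fin 24 → ℤ,
      Cfsg.sqNorm ((f x : Cfsg.leechLattice) : Cfsg.GolayPt → ℤ) = 8 * Q B x := by
  obtain ⟨v, hQ, horth, hred⟩ := exists_frame h h4 h6 h8
  have hL := coordLat h v hQ horth hred h4
  obtain ⟨e, ε, hε, hmem⟩ := exists_coords hL
  let g : Lam →+ (GolayPt → ℤ) :=
    { toFun := fun x p => ε (e.symm p) * coord B v x (e.symm p)
      map_zero' := by funext p; simp
      map_add' := fun x y => by funext p; simp [mul_add] }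
  have hgdef : ∀ x p, g x p = ε (e.symm p) * coord B v x (e.symm p) := fun x p => rfl
  have hback : ∀ x, (fun i => ε i * g x (e i)) = coord B v x := by
    intro x
    funext i
    rw [hgdef, Equiv.symm_apply_apply, ← mul_assoc, hε, one_mul]
  have hg : ∀ x, g x ∈ leechLattice := by
    intro x
    rw [hmem, hback]
    exact ⟨x, rfl⟩
  let f0 : Lam →+ leechLattice := g.codRestrict leechLattice hg
  have hf0 : ∀ x, ((f0 x : leechLattice) : GolayPt → ℤ) = g x := fun x => rfl
  have hinj : Function.Injective f0 := by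
    intro x y hxy
    apply coord_injective h v hQ horth
    rw [← hback x, ← hback y, ← hf0 x, ← hf0 y, hxy]
  have hsurj : Function.Surjective f0 := by
    rintro ⟨z, hz⟩
    have hz' := (hmem z).mp hz
    obtain ⟨x, hx⟩ := hz'
    refine ⟨x, Subtype.ext ?_⟩
    funext p
    rw [hf0, hgdef]
    have h1 := congrFun hx (e.symm p)
    simp only [Equiv.apply_symm_apply] at h1
    rw [h1, ← mul_assoc, hε, one_mul]
  refine ⟨AddEquiv.ofBijective f0 ⟨hinj, hsurj⟩, ?_⟩
  intro x
  have h1 : ((AddEquiv.ofBijective f0 ⟨hinj, hsurj⟩ x : leechLattice) : GolayPt → ℤ) = g x := rfl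
  rw [h1]
  unfold Cfsg.sqNorm
  rw [← coord_sq h v hQ horth x, ← Equiv.sum_comp e]
  apply Finset.sum_congr rfl
  intro i _
  rw [hgdef, Equiv.symm_apply_apply, mul_pow, sq (ε i), hε, one_mul]

end Cfsg.Agent.Lib.Helper1.LC
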