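import Mathlib
import Cfsg.Agent.Lib.Helper1.DBN14
import Cfsg.Agent.Lib.Helper16.OrthEmbed
import Cfsg.Agent.Lib.Helper21.OrtM1

/-!
# Type `²D_{n+2}`: the base change from `O⁻_{2n+4}(F)` to `O⁺_{2n+4}(K)`, `K` a quadratic extension
-/

set_option autoImplicit false
set_option linter.unusedSectionVars false

namespace Cfsg.Agent.Lib.Helper1.MBN

open Matrix Cfsg.Agent.Lib.Helper14.MatBN Cfsg.Agent.Lib.Helper14.SpBN Cfsg.Agent.Lib.Helper6
  Cfsg.Agent.Lib.Helper14.TriMono Cfsg.Agent.Lib.Helper1.OBN Cfsg.Agent.Lib.Helper1.MatBND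
  Cfsg.Agent.Lib.Helper1.DBN Cfsg.Agent.Lib.Helper16 Cfsg.Agent.Lib.Helper15

/-- the indices of the minus type form -/
abbrev MIdx (n : ℕ) := (Fin (n + 1) ⊕ Fin (n + 1)) ⊕ Fin 2

/-- a quadratic extension splitting the binary form `z₁² + a z₁ z₂ + b z₂²` -/
structure SplitDat (F K : Type*) [Field F] [Field K] [Algebra F K] (a b : F) where
  /-- a root -/
  β : K
  /-- the other root -/
  β' : K
  hsum : β + β' = algebraMap F K a
  hprod : β * β' = algebraMap F K b
  hne : β ≠ β'
  hspan : ∀ z : K, ∃ x y : F, z = algebraMap F K x + β * algebraMap F K y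

variable {n : ℕ} {F : Type*} [Field F] {K : Type*} [Field K] [Algebra F K] {a b : F}

/-- the minus type form -/
noncomputable abbrev QM (n : ℕ) (F : Type*) [Field F] (a b : F) : QuadraticForm F (MIdx n → F) :=
  QMinus F (n + 1) a b

/-- the isometry group of the minus type form -/
abbrev MG (n : ℕ) (F : Type*) [Field F] (a b : F) := ↥(Cfsg.isometryGroup F ⇑(QM n F a b))

theorem hcoeM : ⇑(QM n F a b) = Cfsg.quadFormMinus (n + 1) F a b :=
  funext (QMinus_apply F (n + 1) a b)

variable (S : SplitDat F K a b)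

/-- the embedding of `F^{2n+4}` into `K^{2n+4}` -/
noncomputable def Psi (v : MIdx n → F) : DIdx n → K :=
  splitMap (n + 1) S.β S.β' (fun i => algebraMap F K (v i))

theorem Psi_add (u v : MIdx n → F) : Psi S (u + v) = Psi S u + Psi S v := by
  unfold Psi
  rw [← map_add]
  congr 1
  funext i
  simp

theorem Psi_smul (c : F) (v : MIdx n → F) : Psi S (c • v) = algebraMap F K c • Psi S v := by
  unfold Psi
  rw [← map_smul]
  congr 1
  funext i
  simp

theorem Psi_zero : Psi S (0 : MIdx n → F) = 0 := by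
  unfold Psi
  have : (fun i => algebraMap F K ((0 : MIdx n → F) i)) = 0 := by
    funext i
    simp
  rw [this, map_zero]

theorem Psi_neg (v : MIdx n → F) : Psi S (-v) = -Psi S v := by
  have h := Psi_add S v (-v)
  rw [add_neg_cancel, Psi_zero] at h
  exact eq_neg_of_add_eq_zero_right h.symm

theorem Psi_sub (u v : MIdx n → F) : Psi S (u - v) = Psi S u - Psi S v := by
  rw [sub_eq_add_neg, Psi_add, Psi_neg, sub_eq_add_neg]

theorem Psi_e (v : MIdx n → F) (i : Fin (n + 1)) :
    Psi S v (eD i.castSucc) = algebraMap F K (v (Sum.inl (Sum.inl i))) :=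
  splitMap_inl_castSucc (n + 1) S.β S.β' _ i

theorem Psi_f (v : MIdx n → F) (i : Fin (n + 1)) :
    Psi S v (fD i.castSucc) = algebraMap F K (v (Sum.inl (Sum.inr i))) :=
  splitMap_inr_castSucc (n + 1) S.β S.β' _ i

theorem Psi_elst (v : MIdx n → F) :
    Psi S v (eD (lst n)) =
      algebraMap F K (v (Sum.inr 0)) + S.β * algebraMap F K (v (Sum.inr 1)) :=
  splitMap_inl_last (n + 1) S.β S.β' _

theorem Psi_flst (v : MIdx n → F) :
    Psi S v (fD (lst n)) =
      algebraMap F K (v (Sum.inr 0)) + S.β' * algebraMap F K (v (Sum.inr 1)) :=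
  splitMap_inr_last (n + 1) S.β S.β' _

theorem QD_split (y : MIdx n → K) :
    QD n K (splitMap (n + 1) S.β S.β' y) =
      Cfsg.quadFormMinus (n + 1) K (algebraMap F K a) (algebraMap F K b) y := by
  rw [hcoeD, quadFormPlus_splitMap, S.hsum, S.hprod]

theorem QD_Psi (v : MIdx n → F) : QD n K (Psi S v) = algebraMap F K (QM n F a b v) := by
  unfold Psi
  rw [QD_split, hcoeM]
  exact quadFormMinus_map (algebraMap F K) (n + 1) a b v

theorem polar_Psi (u v : MIdx n → F) :
    QuadraticMap.polar (⇑(QD n K)) (Psi S u) (Psi S v) =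
      algebraMap F K (QuadraticMap.polar (⇑(QM n F a b)) u v) := by
  unfold QuadraticMap.polar
  rw [← Psi_add, QD_Psi, QD_Psi, QD_Psi, map_sub, map_sub]

theorem Psi_injective : Function.Injective (Psi (n := n) S) := by
  intro u v h
  unfold Psi at h
  have h1 := splitMap_injective (n + 1) S.β S.β' S.hne h
  funext i
  exact (algebraMap F K).injective (congrFun h1 i)

theorem exists_split (x : DIdx n → K) : ∃ y : MIdx n → K, x = splitMap (n + 1) S.β S.β' y := by
  obtain ⟨y, hy⟩ := (splitEquiv (n + 1) S.β S.β' S.hne).surjective x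
  exact ⟨y, hy.symm⟩

/-- the matrix of an isometry after the base change, in the split coordinates -/
noncomputable def psiMat (M : Matrix (MIdx n) (MIdx n) F) : Matrix (DIdx n) (DIdx n) K :=
  LinearMap.toMatrix' ((splitEquiv (n + 1) S.β S.β' S.hne).toLinearMap ∘ₗ
    Matrix.toLin' (M.map (algebraMap F K)) ∘ₗ (splitEquiv (n + 1) S.β S.β' S.hne).symm.toLinearMap)

theorem psiMat_split (M : Matrix (MIdx n) (MIdx n) F) (y : MIdx n → K) :
    psiMat S M *ᵥ splitMap (n + 1) S.β S.β' y =
      splitMap (n + 1) S.β S.β' (M.map (algebraMap F K) *ᵥ y) := by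
  unfold psiMat
  rw [← Matrix.toLin'_apply, Matrix.toLin'_toMatrix']
  simp only [LinearMap.coe_comp, LinearEquiv.coe_coe, Function.comp_apply]
  rw [← splitEquiv_apply (n + 1) S.β S.β' S.hne y, LinearEquiv.symm_apply_apply,
    Matrix.toLin'_apply]
  rfl

theorem map_mulVec_map (M : Matrix (MIdx n) (MIdx n) F) (v : MIdx n → F) :
    M.map (algebraMap F K) *ᵥ (fun i => algebraMap F K (v i)) =
      fun i => algebraMap F K ((M *ᵥ v) i) := by
  funext i
  simp only [Matrix.mulVec, dotProduct, Matrix.map_apply, map_sum, map_mul]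

theorem psiMat_Psi (M : Matrix (MIdx n) (MIdx n) F) (v : MIdx n → F) :
    psiMat S M *ᵥ Psi S v = Psi S (M *ᵥ v) := by
  unfold Psi
  rw [psiMat_split, map_mulVec_map]

theorem psiMat_mul (M N : Matrix (MIdx n) (MIdx n) F) :
    psiMat S (M * N) = psiMat S M * psiMat S N := by
  apply matrix_ext_mulVec
  intro x
  obtain ⟨y, rfl⟩ := exists_split S x
  rw [← Matrix.mulVec_mulVec, psiMat_split, psiMat_split, psiMat_split, Matrix.map_mul,
    Matrix.mulVec_mulVec]

theorem psiMat_one : psiMat S (1 : Matrix (MIdx n) (MIdx n) F) = 1 := by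
  apply matrix_ext_mulVec
  intro x
  obtain ⟨y, rfl⟩ := exists_split S x
  rw [psiMat_split, Matrix.map_one _ (map_zero _) (map_one _), Matrix.one_mulVec,
    Matrix.one_mulVec]

theorem psiMat_form (g : MG n F a b) (x : DIdx n → K) :
    QD n K (psiMat S ((g.1 : GL (MIdx n) F) : Matrix (MIdx n) (MIdx n) F) *ᵥ x) = QD n K x := by
  obtain ⟨y, rfl⟩ := exists_split S x
  rw [psiMat_split, QD_split, QD_split]
  apply quadFormMinus_extend (algebraMap F K) S.β S.hspan
  intro v
  have h := g.2 v v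
  have h1 : QM n F a b (((g.1 : GL (MIdx n) F) : Matrix (MIdx n) (MIdx n) F) *ᵥ v) =
      QM n F a b v := h
  rw [QMinus_apply, QMinus_apply] at h1
  exact h1

/-- the base change `O⁻_{2n+4}(F) → O⁺_{2n+4}(K)` -/
noncomputable def psi : MG n F a b →* DG n K where
  toFun g := mkIso (QD n K) (psiMat S ((g.1 : GL (MIdx n) F) : Matrix (MIdx n) (MIdx n) F))
    (psiMat S (((g⁻¹).1 : GL (MIdx n) F) : Matrix (MIdx n) (MIdx n) F))
    (by
      rw [← psiMat_mul, ← Units.val_mul, ← Subgroup.coe_mul, mul_inv_cancel]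
      exact psiMat_one S)
    (by
      rw [← psiMat_mul, ← Units.val_mul, ← Subgroup.coe_mul, inv_mul_cancel]
      exact psiMat_one S)
    (psiMat_form S g)
  map_one' := by
    apply Subtype.ext
    apply Units.ext
    exact psiMat_one S
  map_mul' g h := by
    apply Subtype.ext
    apply Units.ext
    show psiMat S (((g * h).1 : GL (MIdx n) F) : Matrix (MIdx n) (MIdx n) F) = _
    rw [Subgroup.coe_mul, Units.val_mul, psiMat_mul]
    rfl

theorem coe_psi (g : MG n F a b) :
    (((psi S g).1 : GL (DIdx n) K) : Matrix (DIdx n) (DIdx n) K) =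
      psiMat S ((g.1 : GL (MIdx n) F) : Matrix (MIdx n) (MIdx n) F) := rfl

theorem gact_psi (g : MG n F a b) (v : MIdx n → F) :
    gact (QD n K) (psi S g) (Psi S v) = Psi S (gact (QM n F a b) g v) := by
  unfold gact
  rw [coe_psi, psiMat_Psi]

theorem psi_injective : Function.Injective (psi (n := n) S) := by
  intro g h hgh
  apply iso_ext_gact
  intro v
  apply Psi_injective S
  rw [← gact_psi, ← gact_psi, hgh]

end Cfsg.Agent.Lib.Helper1.MBN
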