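import Mathlib
import Cfsg.Agent.Lib.Helper1.MBN1

/-!
# Type `²D_{n+2}`: basis vectors and Siegel transformations under the base change
-/

set_option autoImplicit false
set_option linter.unusedSectionVars false

namespace Cfsg.Agent.Lib.Helper1.MBN

open Matrix Cfsg.Agent.Lib.Helper14.MatBN Cfsg.Agent.Lib.Helper14.SpBN Cfsg.Agent.Lib.Helper6
  Cfsg.Agent.Lib.Helper14.TriMono Cfsg.Agent.Lib.Helper1.OBN Cfsg.Agent.Lib.Helper1.MatBND
  Cfsg.Agent.Lib.Helper1.DBN Cfsg.Agent.Lib.Helper16 Cfsg.Agent.Lib.Helper15

variable {n : ℕ} {F : Type*} [Field F] {K : Type*} [Field K] [Algebra F K] {a b : F}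
  (S : SplitDat F K a b)

/-- isometries of `K^{2n+4}` are determined by their values on the `F`-rational vectors -/
theorem psi_ext {h h' : DG n K}
    (H : ∀ v : MIdx n → F, gact (QD n K) h (Psi S v) = gact (QD n K) h' (Psi S v)) : h = h' := by
  apply iso_ext_gact
  intro x
  obtain ⟨y, rfl⟩ := exists_split S x
  have key : (Matrix.toLin' ((h.1 : GL (DIdx n) K) : Matrix (DIdx n) (DIdx n) K)) ∘ₗ
      splitMap (n + 1) S.β S.β' =
      (Matrix.toLin' ((h'.1 : GL (DIdx n) K) : Matrix (DIdx n) (DIdx n) K)) ∘ₗ
        splitMap (n + 1) S.β S.β' := by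
    apply LinearMap.pi_ext
    intro i c
    have e : (Pi.single i c : MIdx n → K) =
        c • (fun j => algebraMap F K ((Pi.single i 1 : MIdx n → F) j)) := by
      funext j
      by_cases hj : j = i
      · subst hj
        simp
      · simp [Pi.single_apply, hj]
    rw [e, map_smul, map_smul]
    congr 1
    exact H (Pi.single i 1)
  exact LinearMap.congr_fun key y

theorem psi_eq_of (g : MG n F a b) (h : DG n K)
    (H : ∀ v : MIdx n → F, Psi S (gact (QM n F a b) g v) = gact (QD n K) h (Psi S v)) :
    psi S g = h := by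
  apply psi_ext S
  intro v
  rw [gact_psi, H]

/-- Siegel transformations go to Siegel transformations -/
theorem psi_siegIso (u w : MIdx n → F) (hu : QM n F a b u = 0)
    (huw : QuadraticMap.polar (⇑(QM n F a b)) u w = 0) :
    psi S (siegIso (QM n F a b) u w hu huw) =
      siegIso (QD n K) (Psi S u) (Psi S w) (by rw [QD_Psi, hu, map_zero])
        (by rw [polar_Psi, huw, map_zero]) := by
  apply psi_eq_of
  intro v
  rw [gact_siegIso, gact_siegIso, Psi_add, Psi_add, Psi_smul, Psi_smul, polar_Psi, polar_Psi,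
    QD_Psi, map_sub, map_mul, map_neg]

/-- the basis vectors `eᵢ` of `F^{2n+4}` -/
abbrev me (i : Fin (n + 1)) : MIdx n → F := Pi.single (Sum.inl (Sum.inl i)) 1
/-- the basis vectors `fᵢ` of `F^{2n+4}` -/
abbrev mf (i : Fin (n + 1)) : MIdx n → F := Pi.single (Sum.inl (Sum.inr i)) 1
/-- the basis vectors of the anisotropic plane -/
abbrev mz (j : Fin 2) : MIdx n → F := Pi.single (Sum.inr j) 1

theorem Psi_me (i : Fin (n + 1)) : Psi S (me i : MIdx n → F) = dv (eD i.castSucc) := by
  funext r
  rcases r with j | j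
  · refine Fin.lastCases ?_ (fun j' => ?_) j
    · have h1 := Psi_elst S (me i : MIdx n → F)
      rw [show (eD (lst n) : DIdx n) = Sum.inl (Fin.last (n + 1)) from rfl] at h1
      rw [h1]
      have : (Sum.inl (Fin.last (n + 1)) : DIdx n) ≠ eD i.castSucc := by
        intro h
        have := Sum.inl_injective h
        exact (Fin.castSucc_lt_last i).ne this.symm
      rw [dv_ne this]
      simp
    · have h1 := Psi_e S (me i : MIdx n → F) j'
      rw [show (eD j'.castSucc : DIdx n) = Sum.inl j'.castSucc from rfl] at h1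
      rw [h1]
      by_cases hij : j' = i
      · subst hij
        simp
      · have : (Sum.inl j'.castSucc : DIdx n) ≠ eD i.castSucc := by
          intro h
          exact hij (Fin.castSucc_injective _ (Sum.inl_injective h))
        have e0 : (me i : MIdx n → F) (Sum.inl (Sum.inl j')) = 0 := by
          apply Pi.single_eq_of_ne
          intro h
          exact hij (Sum.inl_injective (Sum.inl_injective h))
        rw [dv_ne this, e0, map_zero]
  · refine Fin.lastCases ?_ (fun j' => ?_) j
    · have h1 := Psi_flst S (me i : MIdx n → F)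
      rw [show (fD (lst n) : DIdx n) = Sum.inr (Fin.last (n + 1)) from rfl] at h1
      rw [h1]
      have : (Sum.inr (Fin.last (n + 1)) : DIdx n) ≠ eD i.castSucc := by simp
      rw [dv_ne this]
      simp
    · have h1 := Psi_f S (me i : MIdx n → F) j'
      rw [show (fD j'.castSucc : DIdx n) = Sum.inr j'.castSucc from rfl] at h1
      rw [h1]
      have : (Sum.inr j'.castSucc : DIdx n) ≠ eD i.castSucc := by simp
      rw [dv_ne this]
      simp

theorem Psi_mf (i : Fin (n + 1)) : Psi S (mf i : MIdx n → F) = dv (fD i.castSucc) := by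
  funext r
  rcases r with j | j
  · refine Fin.lastCases ?_ (fun j' => ?_) j
    · have h1 := Psi_elst S (mf i : MIdx n → F)
      rw [show (eD (lst n) : DIdx n) = Sum.inl (Fin.last (n + 1)) from rfl] at h1
      rw [h1]
      have : (Sum.inl (Fin.last (n + 1)) : DIdx n) ≠ fD i.castSucc := by simp
      rw [dv_ne this]
      simp
    · have h1 := Psi_e S (mf i : MIdx n → F) j'
      rw [show (eD j'.castSucc : DIdx n) = Sum.inl j'.castSucc from rfl] at h1
      rw [h1]
      have : (Sum.inl j'.castSucc : DIdx n) ≠ fD i.castSucc := by simp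
      rw [dv_ne this]
      simp
  · refine Fin.lastCases ?_ (fun j' => ?_) j
    · have h1 := Psi_flst S (mf i : MIdx n → F)
      rw [show (fD (lst n) : DIdx n) = Sum.inr (Fin.last (n + 1)) from rfl] at h1
      rw [h1]
      have : (Sum.inr (Fin.last (n + 1)) : DIdx n) ≠ fD i.castSucc := by
        intro h
        have := Sum.inr_injective h
        exact (Fin.castSucc_lt_last i).ne this.symm
      rw [dv_ne this]
      simp
    · have h1 := Psi_f S (mf i : MIdx n → F) j'
      rw [show (fD j'.castSucc : DIdx n) = Sum.inr j'.castSucc from rfl] at h1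
      rw [h1]
      by_cases hij : j' = i
      · subst hij
        simp
      · have : (Sum.inr j'.castSucc : DIdx n) ≠ fD i.castSucc := by
          intro h
          exact hij (Fin.castSucc_injective _ (Sum.inr_injective h))
        have e0 : (mf i : MIdx n → F) (Sum.inl (Sum.inr j')) = 0 := by
          apply Pi.single_eq_of_ne
          intro h
          exact hij (Sum.inr_injective (Sum.inl_injective h))
        rw [dv_ne this, e0, map_zero]

theorem Psi_mz0 : Psi S (mz 0 : MIdx n → F) = dv (eD (lst n)) + dv (fD (lst n)) := by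
  funext r
  rcases r with j | j
  · refine Fin.lastCases ?_ (fun j' => ?_) j
    · have h1 := Psi_elst S (mz 0 : MIdx n → F)
      rw [show (eD (lst n) : DIdx n) = Sum.inl (Fin.last (n + 1)) from rfl] at h1
      rw [h1, Pi.add_apply]
      have e1 : (dv (eD (lst n)) : DIdx n → K) (Sum.inl (Fin.last (n + 1))) = 1 := dv_same _
      have e2 : (dv (fD (lst n)) : DIdx n → K) (Sum.inl (Fin.last (n + 1))) = 0 :=
        dv_ne (by simp)
      rw [e1, e2]
      simp
    · have h1 := Psi_e S (mz 0 : MIdx n → F) j'
      rw [show (eD j'.castSucc : DIdx n) = Sum.inl j'.castSucc from rfl] at h1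
      rw [h1, Pi.add_apply]
      have e1 : (dv (eD (lst n)) : DIdx n → K) (Sum.inl j'.castSucc) = 0 := by
        apply dv_ne
        intro h
        exact (Fin.castSucc_lt_last j').ne (Sum.inl_injective h)
      have e2 : (dv (fD (lst n)) : DIdx n → K) (Sum.inl j'.castSucc) = 0 := dv_ne (by simp)
      rw [e1, e2]
      simp
  · refine Fin.lastCases ?_ (fun j' => ?_) j
    · have h1 := Psi_flst S (mz 0 : MIdx n → F)
      rw [show (fD (lst n) : DIdx n) = Sum.inr (Fin.last (n + 1)) from rfl] at h1
      rw [h1, Pi.add_apply]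
      have e1 : (dv (eD (lst n)) : DIdx n → K) (Sum.inr (Fin.last (n + 1))) = 0 :=
        dv_ne (by simp)
      have e2 : (dv (fD (lst n)) : DIdx n → K) (Sum.inr (Fin.last (n + 1))) = 1 := dv_same _
      rw [e1, e2]
      simp
    · have h1 := Psi_f S (mz 0 : MIdx n → F) j'
      rw [show (fD j'.castSucc : DIdx n) = Sum.inr j'.castSucc from rfl] at h1
      rw [h1, Pi.add_apply]
      have e1 : (dv (eD (lst n)) : DIdx n → K) (Sum.inr j'.castSucc) = 0 := dv_ne (by simp)
      have e2 : (dv (fD (lst n)) : DIdx n → K) (Sum.inr j'.castSucc) = 0 := by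
        apply dv_ne
        intro h
        exact (Fin.castSucc_lt_last j').ne (Sum.inr_injective h)
      rw [e1, e2]
      simp

theorem Psi_mz1 :
    Psi S (mz 1 : MIdx n → F) = S.β • dv (eD (lst n)) + S.β' • dv (fD (lst n)) := by
  funext r
  rcases r with j | j
  · refine Fin.lastCases ?_ (fun j' => ?_) j
    · have h1 := Psi_elst S (mz 1 : MIdx n → F)
      rw [show (eD (lst n) : DIdx n) = Sum.inl (Fin.last (n + 1)) from rfl] at h1
      rw [h1, Pi.add_apply, Pi.smul_apply, Pi.smul_apply]
      have e1 : (dv (eD (lst n)) : DIdx n → K) (Sum.inl (Fin.last (n + 1))) = 1 := dv_same _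
      have e2 : (dv (fD (lst n)) : DIdx n → K) (Sum.inl (Fin.last (n + 1))) = 0 :=
        dv_ne (by simp)
      rw [e1, e2]
      simp
    · have h1 := Psi_e S (mz 1 : MIdx n → F) j'
      rw [show (eD j'.castSucc : DIdx n) = Sum.inl j'.castSucc from rfl] at h1
      rw [h1, Pi.add_apply, Pi.smul_apply, Pi.smul_apply]
      have e1 : (dv (eD (lst n)) : DIdx n → K) (Sum.inl j'.castSucc) = 0 := by
        apply dv_ne
        intro h
        exact (Fin.castSucc_lt_last j').ne (Sum.inl_injective h)
      have e2 : (dv (fD (lst n)) : DIdx n → K) (Sum.inl j'.castSucc) = 0 := dv_ne (by simp)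
      rw [e1, e2]
      simp
  · refine Fin.lastCases ?_ (fun j' => ?_) j
    · have h1 := Psi_flst S (mz 1 : MIdx n → F)
      rw [show (fD (lst n) : DIdx n) = Sum.inr (Fin.last (n + 1)) from rfl] at h1
      rw [h1, Pi.add_apply, Pi.smul_apply, Pi.smul_apply]
      have e1 : (dv (eD (lst n)) : DIdx n → K) (Sum.inr (Fin.last (n + 1))) = 0 :=
        dv_ne (by simp)
      have e2 : (dv (fD (lst n)) : DIdx n → K) (Sum.inr (Fin.last (n + 1))) = 1 := dv_same _
      rw [e1, e2]
      simp
    · have h1 := Psi_f S (mz 1 : MIdx n → F) j'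
      rw [show (fD j'.castSucc : DIdx n) = Sum.inr j'.castSucc from rfl] at h1
      rw [h1, Pi.add_apply, Pi.smul_apply, Pi.smul_apply]
      have e1 : (dv (eD (lst n)) : DIdx n → K) (Sum.inr j'.castSucc) = 0 := dv_ne (by simp)
      have e2 : (dv (fD (lst n)) : DIdx n → K) (Sum.inr j'.castSucc) = 0 := by
        apply dv_ne
        intro h
        exact (Fin.castSucc_lt_last j').ne (Sum.inr_injective h)
      rw [e1, e2]
      simp

theorem beta_sub_ne : S.β' - S.β ≠ 0 := sub_ne_zero.mpr (Ne.symm S.hne)

/-- the isotropic vector `e_{n+1}` of `K^{2n+4}` in terms of rational vectors -/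
theorem dv_elst : (dv (eD (lst n)) : DIdx n → K) =
    (S.β' - S.β)⁻¹ • (S.β' • Psi S (mz 0 : MIdx n → F) - Psi S (mz 1 : MIdx n → F)) := by
  rw [Psi_mz0, Psi_mz1]
  have h := beta_sub_ne S
  funext r
  simp only [Pi.smul_apply, Pi.sub_apply, Pi.add_apply, smul_eq_mul]
  field_simp
  ring

/-- the isotropic vector `f_{n+1}` of `K^{2n+4}` in terms of rational vectors -/
theorem dv_flst : (dv (fD (lst n)) : DIdx n → K) =
    (S.β' - S.β)⁻¹ • (Psi S (mz 1 : MIdx n → F) - S.β • Psi S (mz 0 : MIdx n → F)) := by
  rw [Psi_mz0, Psi_mz1]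
  have h := beta_sub_ne S
  funext r
  simp only [Pi.smul_apply, Pi.sub_apply, Pi.add_apply, smul_eq_mul]
  field_simp
  ring

end Cfsg.Agent.Lib.Helper1.MBN
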