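import Mathlib
import Cfsg.Agent.Lib.Helper1.MBN2
import Cfsg.Agent.Lib.Helper6.SiegelOmega

/-!
# Type `²D_{n+2}`: membership in `Ω⁻_{2n+4}(F)`
-/

set_option autoImplicit false
set_option linter.unusedSectionVars false

namespace Cfsg.Agent.Lib.Helper1.MBN

open Matrix Cfsg.Agent.Lib.Helper14.MatBN Cfsg.Agent.Lib.Helper14.SpBN Cfsg.Agent.Lib.Helper6
  Cfsg.Agent.Lib.Helper14.TriMono Cfsg.Agent.Lib.Helper1.OBN Cfsg.Agent.Lib.Helper1.MatBND
  Cfsg.Agent.Lib.Helper1.DBN Cfsg.Agent.Lib.Helper16 Cfsg.Agent.Lib.Helper15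

variable {n : ℕ} {F : Type*} [Field F] {K : Type*} [Field K] [Algebra F K] {a b : F}
  (S : SplitDat F K a b)

/-- an isometry mapping the lines `⟨e_l⟩`, `l ≤ n`, to themselves and `e_{n+1}` to `⟨f_{n+1}⟩` has
family character `-1` -/
theorem famD_of_swap (g : DG n K) (c : Fin (n + 2) → K) (d : K)
    (h1 : ∀ l, l ≠ lst n → gact (QD n K) g (dv (eD l)) = c l • dv (eD l))
    (h2 : gact (QD n K) g (dv (eD (lst n))) = d • dv (fD (lst n))) :
    famD n K g = -1 := by
  have e2 : famD n K (rD n K * g) = 1 := by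
    apply famD_of_block
    intro i j
    rw [← dact_apply, gact_mul]
    by_cases hj : j = lst n
    · rw [hj, h2, gact_smul]
      show (d • (rMat n K *ᵥ dv (fD (lst n)))) (fD i) = 0
      rw [Pi.smul_apply, rMat_mulVec, piL_inr]
      by_cases hi : i = lst n
      · rw [if_pos hi, dv_ne (by simp), smul_zero]
      · rw [if_neg hi, dv_ne (by simpa using hi), smul_zero]
    · rw [h1 j hj, gact_smul]
      show (c j • (rMat n K *ᵥ dv (eD j))) (fD i) = 0
      rw [Pi.smul_apply, rMat_mulVec, piL_inr]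
      by_cases hi : i = lst n
      · rw [if_pos hi, dv_ne (by simpa using fun h => hj h.symm), smul_zero]
      · rw [if_neg hi, dv_ne (by simp), smul_zero]
  rw [map_mul, famD_rD] at e2
  have : famD n K g = (-1 : ℤˣ) * ((-1 : ℤˣ) * famD n K g) := by
    rw [← mul_assoc]
    simp
  rw [this, e2, mul_one]

/-- reflections go to reflections -/
theorem psi_reflIso (y : MIdx n → F) (hy : QM n F a b y ≠ 0) :
    psi S (reflIso (QM n F a b) y hy) =
      reflIso (QD n K) (Psi S y) (by
        rw [QD_Psi]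
        exact (map_ne_zero _).mpr hy) := by
  apply psi_eq_of
  intro v
  rw [gact_reflIso, gact_reflIso, Psi_sub, Psi_smul, polar_Psi, QD_Psi, map_mul, map_inv₀]

/-- the base change maps `Ω⁻(F)` into `Ω⁺(K)` -/
theorem psi_mem_Omega (g : MG n F a b) (hg : g ∈ Cfsg.Omega F ⇑(QM n F a b)) :
    psi S g ∈ Cfsg.Omega K ⇑(QD n K) := by
  have h1 : Subgroup.map (psi S) (commutator (MG n F a b)) ≤ commutator (DG n K) := by
    rw [commutator_def, Subgroup.map_commutator, commutator_def]
    exact Subgroup.commutator_mono le_top le_top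
  exact h1 (Subgroup.mem_map_of_mem _ hg)

/-- the Dickson invariant on `O⁻_{2n+4}(F)` -/
noncomputable def delM : MG n F a b →* ℤˣ := (famD n K).comp (psi S)

theorem delM_apply (g : MG n F a b) : delM S g = famD n K (psi S g) := rfl

theorem delM_eq_one_of_mem (g : MG n F a b) (hg : g ∈ Cfsg.Omega F ⇑(QM n F a b)) :
    delM S g = 1 :=
  famD_eq_one_of_mem _ (psi_mem_Omega S g hg)

theorem QM_mz0 : QM n F a b (mz 0) = 1 := by
  rw [QMinus_apply]
  unfold Cfsg.quadFormMinus
  simp

theorem QM_mz0_ne : QM n F a b (mz 0) ≠ 0 := by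
  rw [QM_mz0]
  exact one_ne_zero

/-- the reflection of the anisotropic plane -/
noncomputable def rW (n : ℕ) (F : Type*) [Field F] (a b : F) : MG n F a b :=
  reflIso (QM n F a b) (mz 0) QM_mz0_ne

theorem psi_rW_e (l : Fin (n + 2)) (hl : l ≠ lst n) :
    gact (QD n K) (psi S (rW n F a b)) (dv (eD l)) = dv (eD l) := by
  unfold rW
  rw [psi_reflIso, gact_reflIso, Psi_mz0, QuadraticMap.polar_add_left, polar_dv_e', polar_dv_f',
    dv_ne (by simp), dv_ne (by simpa using fun h => hl h.symm)]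
  simp

theorem psi_rW_elst :
    gact (QD n K) (psi S (rW n F a b)) (dv (eD (lst n))) = (-1 : K) • dv (fD (lst n)) := by
  unfold rW
  rw [psi_reflIso, gact_reflIso, Psi_mz0, QuadraticMap.polar_add_left, polar_dv_e', polar_dv_f',
    dv_ne (by simp), dv_same, QuadraticMap.map_add (QD n K), QD_single_e, QD_single_f, polar_dv_e',
    dv_same]
  funext r
  simp only [Pi.sub_apply, Pi.smul_apply, Pi.add_apply, smul_eq_mul]
  ring

theorem delM_rW : delM S (rW n F a b) = -1 := by
  rw [delM_apply]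
  exact famD_of_swap _ (fun _ => 1) (-1) (fun l hl => by rw [psi_rW_e S l hl, one_smul])
    (psi_rW_elst S)

section Fin

variable [Fintype F]
  (hab : ∀ x y : F, x ^ 2 + a * x * y + b * y ^ 2 = 0 → x = 0 ∧ y = 0)

include hab in
theorem index_OmegaM_odd (h2 : (2 : F) ≠ 0) : (Cfsg.Omega F ⇑(QM n F a b)).index = 4 := by
  classical
  apply index_Omega' (QM n F a b) h2
    (Cfsg.Agent.Lib.Helper21.OrtM.nondegenerate_QMinus (n + 1) a b hab)
  simp only [Fintype.card_sum, Fintype.card_fin]
  omega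

include hab in
theorem index_OmegaM_two (h2 : (2 : F) = 0) (hqm : Fintype.card F ≠ 2 ∨ n ≠ 0) :
    (Cfsg.Omega F ⇑(QM n F a b)).index = 2 := by
  classical
  apply index_Omega_two' (QM n F a b) h2
    (Cfsg.Agent.Lib.Helper21.OrtM.nondegenerate_QMinus (n + 1) a b hab)
  · simp only [Fintype.card_sum, Fintype.card_fin]
    omega
  · rcases hqm with h | h
    · exact Or.inl h
    · right
      simp only [Fintype.card_sum, Fintype.card_fin]
      omega

include hab in
/-- in characteristic two `Ω⁻` is the kernel of the Dickson invariant -/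
theorem mem_OmegaM_of_delM (h2 : (2 : F) = 0) (hqm : Fintype.card F ≠ 2 ∨ n ≠ 0)
    (g : MG n F a b) (hg : delM S g = 1) : g ∈ Cfsg.Omega F ⇑(QM n F a b) := by
  classical
  have hle : Cfsg.Omega F ⇑(QM n F a b) ≤ (delM S).ker := fun x hx =>
    delM_eq_one_of_mem S x hx
  have hsurj : Function.Surjective (delM (n := n) S) := by
    intro x
    rcases Int.units_eq_one_or x with rfl | rfl
    · exact ⟨1, map_one _⟩
    · exact ⟨rW n F a b, delM_rW S⟩
  have hker : (delM (n := n) S).ker.index = 2 := by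
    rw [Subgroup.index_ker, MonoidHom.range_eq_top.mpr hsurj]
    simp
  have h1 := Subgroup.relIndex_mul_index hle
  rw [hker, index_OmegaM_two hab h2 hqm] at h1
  have h3 : (Cfsg.Omega F ⇑(QM n F a b)).relIndex (delM S).ker = 1 := by omega
  exact Subgroup.relIndex_eq_one.mp h3 hg

include hab in
/-- elements of `p`-power order whose base change has vanishing lower left block lie in `Ω⁻` -/
theorem mem_OmegaM_of_pow_block (p : ℕ) [hp : Fact p.Prime] [CharP F p]
    (hqm : Fintype.card F ≠ 2 ∨ n ≠ 0) (g : MG n F a b) (k : ℕ) (hg : g ^ (p ^ k) = 1)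
    (hblock : ∀ i j,
      (((psi S g).1 : GL (DIdx n) K) : Matrix (DIdx n) (DIdx n) K) (fD i) (eD j) = 0) :
    g ∈ Cfsg.Omega F ⇑(QM n F a b) := by
  by_cases h2 : (2 : F) = 0
  · exact mem_OmegaM_of_delM S hab h2 hqm g (famD_of_block _ hblock)
  · have hp2 : p ≠ 2 := by
      rintro rfl
      apply h2
      have h1 : ((2 : ℕ) : F) = 0 := CharP.cast_eq_zero F 2
      exact_mod_cast h1
    have hcop : Nat.Coprime 4 (orderOf g) := by
      have hdvd : orderOf g ∣ p ^ k := orderOf_dvd_of_pow_eq_one hg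
      apply Nat.Coprime.coprime_dvd_right hdvd
      apply Nat.Coprime.pow_right
      have h4 : (4 : ℕ) = 2 ^ 2 := by norm_num
      rw [h4]
      apply Nat.Coprime.pow_left
      rw [Nat.coprime_primes Nat.prime_two hp.out]
      exact fun h => hp2 h.symm
    obtain ⟨m, hm⟩ := exists_pow_eq_self_of_coprime hcop
    rw [← hm]
    apply Subgroup.pow_mem
    have := Subgroup.pow_index_mem (Cfsg.Omega F ⇑(QM n F a b)) g
    rwa [index_OmegaM_odd hab h2] at this

include hab in
/-- isometries whose base change is unitriangular lie in `Ω⁻` -/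
theorem mem_OmegaM_of_unitri (p : ℕ) [Fact p.Prime] [CharP F p] [CharP K p]
    (hqm : Fintype.card F ≠ 2 ∨ n ≠ 0) (g : MG n F a b)
    (hU : (((psi S g).1 : GL (DIdx n) K) : Matrix (DIdx n) (DIdx n) K).BlockTriangular
      (rho (n + 1)))
    (hd : ∀ i, (((psi S g).1 : GL (DIdx n) K) : Matrix (DIdx n) (DIdx n) K) i i = 1) :
    g ∈ Cfsg.Omega F ⇑(QM n F a b) := by
  obtain ⟨k, hk⟩ := unitri_pow_eq_one (rho (n + 1)) rho_inj p hU hd
  apply mem_OmegaM_of_pow_block S hab p hqm g k
  · apply psi_injective S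
    rw [map_pow, map_one]
    apply Subtype.ext
    apply Units.ext
    rw [Subgroup.coe_pow, Units.val_pow_eq_pow_val]
    exact hk
  · intro i j
    apply hU
    simp only [rho_inl, rho_inr]
    have := i.2; have := j.2
    omega

end Fin

end Cfsg.Agent.Lib.Helper1.MBN
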