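import Mathlib
import Cfsg.Agent.Lib.Helper1.MBN3

/-!
# Type `²D_{n+2}`: the minus type form on the basis vectors, rational Siegel transformations
-/

set_option autoImplicit false
set_option linter.unusedSectionVars false

namespace Cfsg.Agent.Lib.Helper1.MBN

open Matrix Cfsg.Agent.Lib.Helper14.MatBN Cfsg.Agent.Lib.Helper14.SpBN Cfsg.Agent.Lib.Helper6
  Cfsg.Agent.Lib.Helper14.TriMono Cfsg.Agent.Lib.Helper1.OBN Cfsg.Agent.Lib.Helper1.MatBND
  Cfsg.Agent.Lib.Helper1.DBN Cfsg.Agent.Lib.Helper16 Cfsg.Agent.Lib.Helper15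

variable {n : ℕ} {F : Type*} [Field F] {K : Type*} [Field K] [Algebra F K] {a b : F}

/-- the index of `eᵢ` -/
abbrev ce (i : Fin (n + 1)) : MIdx n := Sum.inl (Sum.inl i)
/-- the index of `fᵢ` -/
abbrev cf (i : Fin (n + 1)) : MIdx n := Sum.inl (Sum.inr i)
/-- the indices of the anisotropic plane -/
abbrev cz (j : Fin 2) : MIdx n := Sum.inr j

theorem polar_me (x : MIdx n → F) (i : Fin (n + 1)) :
    QuadraticMap.polar (⇑(QM n F a b)) x (me i) = x (cf i) := by
  rw [polar_QMinus]
  simp [Pi.single_apply, Finset.sum_ite_eq']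

theorem polar_mf (x : MIdx n → F) (i : Fin (n + 1)) :
    QuadraticMap.polar (⇑(QM n F a b)) x (mf i) = x (ce i) := by
  rw [polar_QMinus]
  simp [Pi.single_apply, Finset.sum_ite_eq']

theorem polar_me' (i : Fin (n + 1)) (x : MIdx n → F) :
    QuadraticMap.polar (⇑(QM n F a b)) (me i) x = x (cf i) := by
  rw [QuadraticMap.polar_comm, polar_me]

theorem polar_mf' (i : Fin (n + 1)) (x : MIdx n → F) :
    QuadraticMap.polar (⇑(QM n F a b)) (mf i) x = x (ce i) := by
  rw [QuadraticMap.polar_comm, polar_mf]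

theorem polar_mz0 (x : MIdx n → F) :
    QuadraticMap.polar (⇑(QM n F a b)) (mz 0) x = 2 * x (cz 0) + a * x (cz 1) := by
  rw [polar_QMinus]
  simp

theorem polar_mz1 (x : MIdx n → F) :
    QuadraticMap.polar (⇑(QM n F a b)) (mz 1) x = a * x (cz 0) + 2 * b * x (cz 1) := by
  rw [polar_QMinus]
  simp

theorem QM_me (i : Fin (n + 1)) : QM n F a b (me i) = 0 := by
  rw [QMinus_apply]
  unfold Cfsg.quadFormMinus
  simp [Pi.single_apply]

theorem QM_mf (i : Fin (n + 1)) : QM n F a b (mf i) = 0 := by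
  rw [QMinus_apply]
  unfold Cfsg.quadFormMinus
  simp [Pi.single_apply]

theorem QM_mz1 : QM n F a b (mz 1) = b := by
  rw [QMinus_apply]
  unfold Cfsg.quadFormMinus
  simp

theorem me_same (i : Fin (n + 1)) : (me i : MIdx n → F) (ce i) = 1 := Pi.single_eq_same _ _
theorem mf_same (i : Fin (n + 1)) : (mf i : MIdx n → F) (cf i) = 1 := Pi.single_eq_same _ _
theorem me_ne {r : MIdx n} {i : Fin (n + 1)} (h : r ≠ ce i) : (me i : MIdx n → F) r = 0 :=
  Pi.single_eq_of_ne h _
theorem mf_ne {r : MIdx n} {i : Fin (n + 1)} (h : r ≠ cf i) : (mf i : MIdx n → F) r = 0 :=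
  Pi.single_eq_of_ne h _

theorem QM_comb (j : Fin (n + 1)) (c d : F) :
    QM n F a b (c • mf j + d • me j) = c * d := by
  rw [QuadraticMap.map_add (QM n F a b), QuadraticMap.map_smul (QM n F a b),
    QuadraticMap.map_smul (QM n F a b), QM_mf, QM_me, QuadraticMap.polar_smul_left,
    QuadraticMap.polar_smul_right, polar_mf', me_same]
  simp

section Sieg1

variable (j : Fin (n + 1)) (w : MIdx n → F) (hw : ∀ l, l ≤ j → w (cf l) = 0)

include hw in
theorem msieg1_polar : QuadraticMap.polar (⇑(QM n F a b)) (me j) w = 0 := by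
  rw [polar_me']
  exact hw j le_rfl

/-- a rational Siegel transformation, triangular after the base change -/
noncomputable def msieg1 : MG n F a b :=
  siegIso (QM n F a b) (me j) w (QM_me j) (msieg1_polar j w hw)

theorem gact_msieg1 (x : MIdx n → F) :
    gact (QM n F a b) (msieg1 j w hw) x =
      x + (QuadraticMap.polar (⇑(QM n F a b)) w x - QM n F a b w * x (cf j)) • me j +
        (-(x (cf j))) • w := by
  unfold msieg1
  rw [gact_siegIso, polar_me']

theorem msieg1_fix (l : Fin (n + 1)) (hl : l ≤ j) :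
    gact (QM n F a b) (msieg1 (a := a) (b := b) j w hw) (me l) = me l := by
  rw [gact_msieg1, polar_me, hw l hl, me_ne (by simp)]
  simp

variable (S : SplitDat F K a b)

include hw in
theorem Psi_w_f (l : Fin (n + 2)) (hl : l ≤ j.castSucc) : Psi S w (fD l) = 0 := by
  revert hl
  refine Fin.lastCases ?_ (fun l' => ?_) l
  · intro hl
    exfalso
    exact absurd (Fin.castSucc_lt_last j) (not_lt.mpr hl)
  · intro hl
    rw [Psi_f, hw l' (by simpa using hl), map_zero]

theorem psi_msieg1 :
    psi S (msieg1 (a := a) (b := b) j w hw) =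
      dsieg1 j.castSucc (Psi S w) (Psi_w_f j w hw S) := by
  apply psi_eq_of
  intro v
  rw [gact_msieg1, gact_dsieg1, Psi_add, Psi_add, Psi_smul, Psi_smul, Psi_me, polar_Psi, QD_Psi,
    Psi_f, map_sub, map_mul, map_neg]

end Sieg1

section Sieg2

variable (j : Fin (n + 1)) (u : MIdx n → F) (hf : ∀ l, u (cf l) = 0) (hz : ∀ k, u (cz k) = 0)
  (he : ∀ l, j ≤ l → u (ce l) = 0)

include hf hz in
theorem msieg2_Q : QM n F a b u = 0 := by
  rw [QMinus_apply]
  unfold Cfsg.quadFormMinus
  have h0 := hz 0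
  have h1 := hz 1
  simp only [cz] at h0 h1
  rw [h0, h1]
  have : ∑ i : Fin (n + 1), u (Sum.inl (Sum.inl i)) * u (Sum.inl (Sum.inr i)) = 0 := by
    apply Finset.sum_eq_zero
    intro l _
    rw [show u (Sum.inl (Sum.inr l)) = 0 from hf l, mul_zero]
  rw [this]
  ring

include he in
theorem msieg2_polar : QuadraticMap.polar (⇑(QM n F a b)) u (-mf j) = 0 := by
  rw [QuadraticMap.polar_neg_right, polar_mf, he j le_rfl, neg_zero]

/-- a rational Siegel transformation, triangular after the base change -/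
noncomputable def msieg2 : MG n F a b :=
  siegIso (QM n F a b) u (-mf j) (msieg2_Q u hf hz) (msieg2_polar j u he)

theorem gact_msieg2 (x : MIdx n → F) :
    gact (QM n F a b) (msieg2 j u hf hz he) x =
      x - x (ce j) • u + QuadraticMap.polar (⇑(QM n F a b)) u x • mf j := by
  unfold msieg2
  rw [gact_siegIso, QuadraticMap.map_neg, QM_mf, QuadraticMap.polar_neg_left, polar_mf']
  funext r
  simp only [Pi.add_apply, Pi.sub_apply, Pi.smul_apply, Pi.neg_apply, smul_eq_mul]
  ring

include hf hz in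
theorem msieg2_polar_gen (x : MIdx n → F) :
    QuadraticMap.polar (⇑(QM n F a b)) u x = ∑ l : Fin (n + 1), u (ce l) * x (cf l) := by
  rw [polar_QMinus]
  have h0 := hz 0
  have h1 := hz 1
  simp only [cz] at h0 h1
  rw [h0, h1]
  have : ∀ l : Fin (n + 1), u (Sum.inl (Sum.inl l)) * x (Sum.inl (Sum.inr l)) +
      u (Sum.inl (Sum.inr l)) * x (Sum.inl (Sum.inl l)) = u (ce l) * x (cf l) := by
    intro l
    rw [show u (Sum.inl (Sum.inr l)) = 0 from hf l, zero_mul, add_zero]
  simp only [this]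
  ring

theorem msieg2_fix (l : Fin (n + 1)) (hl : l ≠ j) :
    gact (QM n F a b) (msieg2 (a := a) (b := b) j u hf hz he) (me l) = me l := by
  rw [gact_msieg2, polar_me, hf l, me_ne (by simpa using hl.symm)]
  simp

variable (S : SplitDat F K a b)

include hf hz in
theorem Psi_u_f (l : Fin (n + 2)) : Psi S u (fD l) = 0 := by
  refine Fin.lastCases ?_ (fun l' => ?_) l
  · have := Psi_flst S u
    rw [this, show u (Sum.inr 0) = 0 from hz 0, show u (Sum.inr 1) = 0 from hz 1]
    simp
  · rw [Psi_f, hf l', map_zero]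

include he hz in
theorem Psi_u_e (l : Fin (n + 2)) (hl : j.castSucc ≤ l) : Psi S u (eD l) = 0 := by
  revert hl
  refine Fin.lastCases ?_ (fun l' => ?_) l
  · intro _
    have := Psi_elst S u
    rw [this, show u (Sum.inr 0) = 0 from hz 0, show u (Sum.inr 1) = 0 from hz 1]
    simp
  · intro hl
    rw [Psi_e, he l' (by simpa using hl), map_zero]

theorem psi_msieg2 :
    psi S (msieg2 (a := a) (b := b) j u hf hz he) =
      dsieg2 j.castSucc (Psi S u) (Psi_u_f u hf hz S) (Psi_u_e j u hz he S) := by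
  apply psi_eq_of
  intro v
  rw [gact_msieg2, gact_dsieg2, Psi_add, Psi_sub, Psi_smul, Psi_smul, Psi_mf, polar_Psi, Psi_e]

end Sieg2

end Cfsg.Agent.Lib.Helper1.MBN
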