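import Mathlib
import Cfsg.Agent.Lib.Helper1.MBN4

/-!
# Type `²D_{n+2}`: the reflections and their inversion sets
-/

set_option autoImplicit false
set_option linter.unusedSectionVars false

namespace Cfsg.Agent.Lib.Helper1.MBN

open Matrix Cfsg.Agent.Lib.Helper14.MatBN Cfsg.Agent.Lib.Helper14.SpBN
  Cfsg.Agent.Lib.Helper14.TriMono Cfsg.Agent.Lib.Helper1.DBN

variable {n : ℕ}

/-- the indices moved by the short reflection -/
def midR (n : ℕ) (x : DIdx n) : Prop := n ≤ rhoD n x ∧ rhoD n x ≤ n + 2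

instance (x : DIdx n) : Decidable (midR n x) := by unfold midR; infer_instance

theorem midR_swap (x : DIdx n) : midR n x.swap ↔ midR n x := by
  unfold midR
  rw [rhoD_swap]
  have := rhoD_le x
  omega

/-- the underlying function of the short reflection -/
def piMf (n : ℕ) (x : DIdx n) : DIdx n := if midR n x then x.swap else x

theorem piMf_invol : Function.Involutive (piMf n) := by
  intro x
  unfold piMf
  by_cases h : midR n x
  · rw [if_pos h, if_pos ((midR_swap x).mpr h), Sum.swap_swap]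
  · rw [if_neg h, if_neg h]

/-- the short reflection `(e_n f_n)(e_{n+1} f_{n+1})` -/
def piM (n : ℕ) : Equiv.Perm (DIdx n) := piMf_invol.toPerm (piMf n)

theorem piM_apply (x : DIdx n) : piM n x = if midR n x then x.swap else x := rfl

theorem piM_sq : piM n * piM n = 1 := by
  ext x
  show piMf n (piMf n x) = x
  exact piMf_invol x

theorem rhoD_piM (x : DIdx n) :
    rhoD n (piM n x) = if n ≤ rhoD n x ∧ rhoD n x ≤ n + 2 then 2 * n + 2 - rhoD n x
      else rhoD n x := by
  rw [piM_apply]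
  by_cases h : midR n x
  · have h' : n ≤ rhoD n x ∧ rhoD n x ≤ n + 2 := h
    rw [if_pos h, if_pos h', rhoD_swap]
  · have h' : ¬ (n ≤ rhoD n x ∧ rhoD n x ≤ n + 2) := h
    rw [if_neg h, if_neg h']

theorem piM_mem_Wg : piM n ∈ Wg (n + 1) := by
  intro x
  rw [piM_apply, piM_apply]
  by_cases h : midR n x
  · rw [if_pos h, if_pos ((midR_swap x).mpr h)]
  · rw [if_neg h, if_neg (fun h' => h ((midR_swap x).mp h'))]

theorem piM_e_of_lt (i : Fin (n + 2)) (h : i.val < n) : piM n (eD i) = eD i := by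
  rw [piM_apply, if_neg]
  unfold midR
  simp only [rhoD_e]
  omega

theorem piM_f_of_lt (i : Fin (n + 2)) (h : i.val < n) : piM n (fD i) = fD i := by
  rw [piM_apply, if_neg]
  unfold midR
  simp only [rhoD_f]
  omega

theorem piM_e_of_le (i : Fin (n + 2)) (h : n ≤ i.val) : piM n (eD i) = fD i := by
  rw [piM_apply, if_pos]
  · rfl
  · unfold midR
    simp only [rhoD_e]
    have := i.2
    omega

theorem piM_f_of_le (i : Fin (n + 2)) (h : n ≤ i.val) : piM n (fD i) = eD i := by
  rw [piM_apply, if_pos]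
  · rfl
  · unfold midR
    simp only [rhoD_f]
    have := i.2
    omega

/-- the permutations allowed in `N`: they commute with the swap of the two halves and preserve
the middle pair -/
def WM (n : ℕ) : Subgroup (Equiv.Perm (DIdx n)) where
  carrier := {σ | σ ∈ Wg (n + 1) ∧ ∀ x, rhoD n (σ x) = n + 1 ↔ rhoD n x = n + 1}
  mul_mem' := by
    rintro σ τ ⟨h1, h2⟩ ⟨h3, h4⟩
    refine ⟨(Wg (n + 1)).mul_mem h1 h3, fun x => ?_⟩
    rw [Equiv.Perm.mul_apply, h2, h4]
  one_mem' := ⟨(Wg (n + 1)).one_mem, fun x => Iff.rfl⟩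
  inv_mem' := by
    rintro σ ⟨h1, h2⟩
    refine ⟨(Wg (n + 1)).inv_mem h1, fun x => ?_⟩
    have := h2 (σ⁻¹ x)
    have e : σ (σ⁻¹ x) = x := σ.apply_symm_apply x
    rw [e] at this
    exact this.symm

theorem piM_mem : piM n ∈ WM n := by
  refine ⟨piM_mem_Wg, fun x => ?_⟩
  rw [rhoD_piM]
  have := rhoD_le x
  split_ifs <;> omega

theorem piS_mem_WM (k : Fin n) : piS (n := n + 1) k.castSucc ∈ WM n := by
  refine ⟨piS_mem _, fun x => ?_⟩
  have hk := k.2
  rcases x with i | i
  · rw [rhoD_piS_e]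
    simp only [rhoD_e, Fin.val_castSucc]
    split_ifs <;> omega
  · rw [rhoD_piS_f]
    simp only [rhoD_f, Fin.val_castSucc]
    have := i.2
    split_ifs <;> omega

/-- the reflections -/
def piKM : Fin n ⊕ Unit → Equiv.Perm (DIdx n) :=
  Sum.elim (fun k => piS (n := n + 1) k.castSucc) (fun _ => piM n)

theorem piKM_sq (k : Fin n ⊕ Unit) : piKM k * piKM k = 1 := by
  rcases k with k | k
  · exact piS_sq _
  · exact piM_sq

theorem piKM_mem (k : Fin n ⊕ Unit) : piKM k ∈ WM n := by
  rcases k with k | k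
  · exact piS_mem_WM k
  · exact piM_mem

theorem piKM_ne (k : Fin n ⊕ Unit) : piKM k ≠ 1 := by
  rcases k with k | k
  · exact piKD_ne (Sum.inl k.castSucc)
  · intro h
    have := congrArg (fun f : Equiv.Perm (DIdx n) => f (eD (pre n))) h
    simp only [piKM, Sum.elim_inr, Equiv.Perm.one_apply] at this
    rw [piM_e_of_le _ (by simp)] at this
    cases this

theorem piKM_inj : Function.Injective (piKM (n := n)) := by
  rintro (k | k) (k' | k') h
  · have h1 : (Sum.inl k.castSucc : Fin (n + 1) ⊕ Unit) = Sum.inl k'.castSucc := piKD_inj h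
    exact congrArg Sum.inl (Fin.castSucc_injective _ (Sum.inl_injective h1))
  · exfalso
    have h1 := congrArg (fun f : Equiv.Perm (DIdx n) => f (eD (lst n))) h
    simp only [piKM, Sum.elim_inl, Sum.elim_inr, piS_inl] at h1
    rw [piM_e_of_le _ (by simp)] at h1
    cases h1
  · exfalso
    have h1 := congrArg (fun f : Equiv.Perm (DIdx n) => f (eD (lst n))) h
    simp only [piKM, Sum.elim_inl, Sum.elim_inr, piS_inl] at h1
    rw [piM_e_of_le _ (by simp)] at h1
    cases h1
  · rfl

/-- the pairs weakly inverted by `piM` -/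
theorem winv_piM (u v : DIdx n) (h1 : rhoD n u < rhoD n v)
    (h2 : rhoD n (piM n v) ≤ rhoD n (piM n u)) :
    (rhoD n u = n ∧ rhoD n v = n + 1) ∨ (rhoD n u = n ∧ rhoD n v = n + 2) ∨
      (rhoD n u = n + 1 ∧ rhoD n v = n + 2) := by
  rw [rhoD_piM, rhoD_piM] at h2
  have := rhoD_le u
  have := rhoD_le v
  split_ifs at h2 <;> omega

theorem inPi_piM (u v : DIdx n) :
    InPi (rhoD n) (piM n) u v ↔
      (rhoD n u = n ∧ rhoD n v = n + 1) ∨ (rhoD n u = n ∧ rhoD n v = n + 2) ∨
        (rhoD n u = n + 1 ∧ rhoD n v = n + 2) := by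
  constructor
  · rintro ⟨h1, h2⟩
    exact winv_piM u v h1 h2.le
  · intro h
    unfold InPi
    rw [rhoD_piM, rhoD_piM]
    have := rhoD_le u
    have := rhoD_le v
    split_ifs <;> omega

theorem rhoD_eq_pre {x : DIdx n} (h : rhoD n x = n) : x = eD (pre n) := by
  rcases x with i | i
  · exact congrArg _ (Fin.ext h)
  · exfalso
    simp only [rhoD_f] at h
    have := i.2
    omega

theorem rhoD_eq_pre' {x : DIdx n} (h : rhoD n x = n + 2) : x = fD (pre n) := by
  rcases x with i | i
  · exfalso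
    simp only [rhoD_e] at h
    have := i.2
    omega
  · apply congrArg
    apply Fin.ext
    simp only [rhoD_f] at h
    simp only [pre_val]
    have := i.2
    omega

theorem rhoD_eq_mid {x : DIdx n} (h : rhoD n x = n + 1) : x = eD (lst n) ∨ x = fD (lst n) := by
  rcases x with i | i
  · left
    exact congrArg _ (Fin.ext h)
  · right
    apply congrArg
    apply Fin.ext
    simp only [rhoD_f] at h
    simp only [lst_val]
    have := i.2
    omega

/-- the pairs weakly inverted by the long reflections -/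
theorem winv_piSM (k : Fin n) (u v : DIdx n) (h1 : rhoD n u < rhoD n v)
    (h2 : rhoD n (piS (n := n + 1) k.castSucc v) ≤ rhoD n (piS (n := n + 1) k.castSucc u)) :
    (u = eD k.castSucc.castSucc ∧ v = eD k.castSucc.succ) ∨
      (u = fD k.castSucc.succ ∧ v = fD k.castSucc.castSucc) := by
  rcases winv_piS k.castSucc u v h1 h2 with h | h | ⟨h, -, -⟩
  · exact Or.inl h
  · exact Or.inr h
  · exfalso
    exact (Fin.castSucc_lt_last k).ne h

theorem m_hadj (u v : DIdx n) (h : rhoD n v = rhoD n u + 1) :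
    ∃ k, InPi (rhoD n) (piKM k) u v := by
  by_cases hmid : n ≤ rhoD n u ∧ rhoD n v ≤ n + 2
  · refine ⟨Sum.inr (), ?_⟩
    show InPi (rhoD n) (piM n) u v
    rw [inPi_piM]
    omega
  · rcases u with i | i <;> rcases v with j | j <;>
      simp only [rhoD_e, rhoD_f] at h hmid <;> have hi := i.2 <;> have hj := j.2
    · refine ⟨Sum.inl ⟨i.val, by omega⟩, ?_⟩
      show InPi (rhoD n) (piS _) _ _
      rw [inPiD_piS]
      left
      exact ⟨congrArg _ (Fin.ext rfl), congrArg _ (Fin.ext (by simpa using h))⟩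
    · exfalso; omega
    · exfalso; omega
    · refine ⟨Sum.inl ⟨j.val, by omega⟩, ?_⟩
      show InPi (rhoD n) (piS _) _ _
      rw [inPiD_piS]
      right
      exact ⟨congrArg _ (Fin.ext (by simp only [Fin.val_succ, Fin.val_castSucc]; omega)),
        congrArg _ (Fin.ext rfl)⟩

theorem m_orient (σ : Equiv.Perm (DIdx n)) (hσ : σ ∈ WM n) (k : Fin n ⊕ Unit) :
    (∀ u v, InPi (rhoD n) (piKM k) u v → rhoD n (σ u) < rhoD n (σ v)) ∨
      (∀ u v, InPi (rhoD n) (piKM k) u v → rhoD n (σ v) < rhoD n (σ u)) := by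
  rcases k with k | k
  · exact d_orient σ hσ.1 (Sum.inl k.castSucc)
  · have hsw : ∀ x, rhoD n (σ x.swap) = 2 * n + 2 - rhoD n (σ x) := by
      intro x
      rw [hσ.1 x, rhoD_swap]
    have hmid := hσ.2
    have hr := rhoD_le (σ (eD (pre n)))
    have hne : rhoD n (σ (eD (pre n))) ≠ n + 1 := by
      intro h
      have := (hmid _).mp h
      simp at this
    have hf : rhoD n (σ (fD (pre n))) = 2 * n + 2 - rhoD n (σ (eD (pre n))) := hsw (eD (pre n))
    rcases lt_or_gt_of_ne hne with hlt | hgt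
    · left
      intro u v huv
      rcases (inPi_piM u v).mp huv with ⟨h1, h2⟩ | ⟨h1, h2⟩ | ⟨h1, h2⟩
      · rw [rhoD_eq_pre h1, (hmid v).mpr h2]
        exact hlt
      · rw [rhoD_eq_pre h1, rhoD_eq_pre' h2, hf]
        omega
      · rw [rhoD_eq_pre' h2, (hmid u).mpr h1, hf]
        omega
    · right
      intro u v huv
      rcases (inPi_piM u v).mp huv with ⟨h1, h2⟩ | ⟨h1, h2⟩ | ⟨h1, h2⟩
      · rw [rhoD_eq_pre h1, (hmid v).mpr h2]
        exact hgt
      · rw [rhoD_eq_pre h1, rhoD_eq_pre' h2, hf]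
        omega
      · rw [rhoD_eq_pre' h2, (hmid u).mpr h1, hf]
        omega

end Cfsg.Agent.Lib.Helper1.MBN
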