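import Mathlib
import Cfsg.Agent.Lib.Helper1.MBN5

/-!
# Type `²D_{n+2}`: the group `Ω⁻_{2n+4}(F)`, its matrices over `K`, a triangularity criterion
-/

set_option autoImplicit false
set_option linter.unusedSectionVars false

namespace Cfsg.Agent.Lib.Helper1.MBN

open Matrix Cfsg.Agent.Lib.Helper14.MatBN Cfsg.Agent.Lib.Helper14.SpBN Cfsg.Agent.Lib.Helper6
  Cfsg.Agent.Lib.Helper14.TriMono Cfsg.Agent.Lib.Helper1.OBN Cfsg.Agent.Lib.Helper1.MatBND
  Cfsg.Agent.Lib.Helper1.DBN Cfsg.Agent.Lib.Helper16 Cfsg.Agent.Lib.Helper15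

variable {n : ℕ} {F : Type*} [Field F] {K : Type*} [Field K] [Algebra F K] {a b : F}
  (S : SplitDat F K a b)

/-- the group `Ω⁻_{2n+4}(F)` -/
abbrev MmG (n : ℕ) (F : Type*) [Field F] (a b : F) := ↥(Cfsg.Omega F ⇑(QM n F a b))

/-- the matrices over `K` in the split coordinates -/
noncomputable def matM : MmG n F a b →* Matrix (DIdx n) (DIdx n) K :=
  (Units.coeHom (Matrix (DIdx n) (DIdx n) K)).comp
    ((Cfsg.isometryGroup K ⇑(QD n K)).subtype.comp
      ((psi S).comp (Cfsg.Omega F ⇑(QM n F a b)).subtype))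

theorem matM_apply (g : MmG n F a b) :
    matM S g = (((psi S g.1).1 : GL (DIdx n) K) : Matrix (DIdx n) (DIdx n) K) := rfl

theorem matM_injective : Function.Injective (matM (n := n) S) := by
  intro g h e
  apply Subtype.ext
  apply psi_injective S
  apply Subtype.ext
  apply Units.ext
  exact e

theorem matM_form (g : MmG n F a b) (x : DIdx n → K) :
    QD n K (matM S g *ᵥ x) = QD n K x :=
  (psi S g.1).2 x x

/-- the action on `F^{2n+4}` -/
noncomputable abbrev mav (g : MmG n F a b) (v : MIdx n → F) : MIdx n → F :=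
  gact (QM n F a b) g.1 v

theorem mav_mul (g h : MmG n F a b) (v : MIdx n → F) : mav (g * h) v = mav g (mav h v) :=
  gact_mul _ g.1 h.1 v

theorem mav_one (v : MIdx n → F) : mav (1 : MmG n F a b) v = v := gact_one _ v

theorem mav_smul (g : MmG n F a b) (c : F) (v : MIdx n → F) : mav g (c • v) = c • mav g v :=
  gact_smul _ g.1 c v

theorem mav_add (g : MmG n F a b) (u v : MIdx n → F) : mav g (u + v) = mav g u + mav g v :=
  gact_add _ g.1 u v

theorem mav_sub (g : MmG n F a b) (u v : MIdx n → F) : mav g (u - v) = mav g u - mav g v :=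
  gact_sub _ g.1 u v

theorem mav_neg (g : MmG n F a b) (v : MIdx n → F) : mav g (-v) = -mav g v :=
  gact_neg _ g.1 v

theorem mav_inv_of (g : MmG n F a b) (u v : MIdx n → F) (h : mav g u = v) : mav g⁻¹ v = u := by
  rw [← h]
  exact gact_inv_gact _ g.1 u

theorem matM_Psi (g : MmG n F a b) (v : MIdx n → F) :
    matM S g *ᵥ Psi S v = Psi S (mav g v) :=
  gact_psi S g.1 v

theorem matM_col_e (g : MmG n F a b) (j : Fin (n + 1)) :
    matM S g *ᵥ dv (eD j.castSucc) = Psi S (mav g (me j)) := by
  rw [← Psi_me S, matM_Psi]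

theorem matM_col_f (g : MmG n F a b) (j : Fin (n + 1)) :
    matM S g *ᵥ dv (fD j.castSucc) = Psi S (mav g (mf j)) := by
  rw [← Psi_mf S, matM_Psi]

theorem matM_col_elst (g : MmG n F a b) :
    matM S g *ᵥ dv (eD (lst n)) =
      (S.β' - S.β)⁻¹ • (S.β' • Psi S (mav g (mz 0)) - Psi S (mav g (mz 1))) := by
  rw [dv_elst S, Matrix.mulVec_smul, Matrix.mulVec_sub, Matrix.mulVec_smul, matM_Psi, matM_Psi]

theorem matM_col_flst (g : MmG n F a b) :
    matM S g *ᵥ dv (fD (lst n)) =
      (S.β' - S.β)⁻¹ • (Psi S (mav g (mz 1)) - S.β • Psi S (mav g (mz 0))) := by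
  rw [dv_flst S, Matrix.mulVec_smul, Matrix.mulVec_sub, Matrix.mulVec_smul, matM_Psi, matM_Psi]

theorem matM_entry (g : MmG n F a b) (r s : DIdx n) :
    matM S g r s = (matM S g *ᵥ dv s) r := by
  rw [Matrix.mulVec_single_one]
  rfl

/-- an isometry whose columns `e_j`, `j ≤ n`, are multiples of the basis vectors and whose column
`e_{n+1}` has no `f_{n+1}`-component is triangular -/
theorem dtri_of_cols' (g : DG n K) (d : Fin (n + 2) → K)
    (hg : ∀ j, j ≠ lst n → gact (QD n K) g (dv (eD j)) = d j • dv (eD j))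
    (hl : gact (QD n K) g (dv (eD (lst n))) (fD (lst n)) = 0) :
    ((g.1 : GL (DIdx n) K) : Matrix (DIdx n) (DIdx n) K).BlockTriangular (rho (n + 1)) := by
  have hd : ∀ j, j ≠ lst n → d j ≠ 0 := by
    intro j hj h
    have h1 := hg j hj
    rw [h, zero_smul, gact_eq_zero_iff] at h1
    have := congrFun h1 (eD j)
    simp at this
  have hinv : ∀ j, j ≠ lst n → gact (QD n K) g⁻¹ (dv (eD j)) = (d j)⁻¹ • dv (eD j) := by
    intro j hj
    have h1 : gact (QD n K) g⁻¹ (gact (QD n K) g (dv (eD j))) = dv (eD j) := gact_inv_gact _ g _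
    rw [hg j hj, gact_smul] at h1
    calc gact (QD n K) g⁻¹ (dv (eD j))
        = (d j)⁻¹ • (d j • gact (QD n K) g⁻¹ (dv (eD j))) := by
          rw [smul_smul, inv_mul_cancel₀ (hd j hj), one_smul]
      _ = (d j)⁻¹ • dv (eD j) := by rw [h1]
  have hrow : ∀ (i : Fin (n + 2)) (s : DIdx n), i ≠ lst n → s ≠ fD i →
      ((g.1 : GL (DIdx n) K) : Matrix (DIdx n) (DIdx n) K) (fD i) s = 0 := by
    intro i s hi hs
    have h0 := polar_dv_e (gact (QD n K) g (dv s)) i
    rw [← dact_apply, ← h0]
    have h1 : QuadraticMap.polar (⇑(QD n K)) (gact (QD n K) g (dv s)) (dv (eD i)) =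
        QuadraticMap.polar (⇑(QD n K)) (gact (QD n K) g (dv s))
          (gact (QD n K) g (gact (QD n K) g⁻¹ (dv (eD i)))) := by
      rw [gact_gact_inv]
    rw [h1, polar_gact, hinv i hi, QuadraticMap.polar_smul_right, polar_dv_e, smul_eq_mul,
      dv_ne (Ne.symm hs), mul_zero]
  intro r s hrs
  rcases r with i | i
  · rcases s with j | j
    · have hji : j < i := by simpa using hrs
      have hj : j ≠ lst n := fun h => by
        rw [h] at hji
        exact absurd (Fin.le_last i) (not_le.mpr hji)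
      rw [← dact_apply, hg j hj]
      have : (eD i : DIdx n) ≠ eD j := fun h => hji.ne (Sum.inl_injective h).symm
      rw [Pi.smul_apply, dv_ne this, smul_zero]
    · exfalso
      simp only [rho_inl, rho_inr] at hrs
      have := i.2; have := j.2; omega
  · by_cases hi : i = lst n
    · subst hi
      rcases s with j | j
      · by_cases hj : j = lst n
        · subst hj
          rw [← dact_apply]
          exact hl
        · rw [← dact_apply, hg j hj, Pi.smul_apply, dv_ne (by simp), smul_zero]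
      · exfalso
        simp only [rho_inr, lst_val] at hrs
        have := j.2; omega
    · apply hrow i s hi
      rintro rfl
      exact lt_irrefl _ hrs

section Tri

variable [Fintype K] (p : ℕ) [Fact p.Prime] [CharP K p] (hK : Fintype.card K ≠ 2)

include p hK in
/-- an element of `Ω⁻` stabilising the lines `⟨e_j⟩`, `j ≤ n`, is triangular over `K` -/
theorem mtri_of_cols (g : MmG n F a b) (d : Fin (n + 1) → F)
    (hg : ∀ j, mav g (me j) = d j • me j) :
    (matM S g).BlockTriangular (rho (n + 1)) := by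
  have hqm : Fintype.card K ≠ 2 ∨ n ≠ 0 := Or.inl hK
  set x : DmG n K := ⟨psi S g.1, psi_mem_Omega S g.1 g.2⟩ with hx
  set dd : Fin (n + 2) → K := fun j =>
    Fin.lastCases (0 : K) (fun j' => algebraMap F K (d j')) j with hdd
  have hcols : ∀ j, j ≠ lst n → dav x (dv (eD j)) = dd j • dv (eD j) := by
    intro j
    refine Fin.lastCases ?_ (fun j' => ?_) j
    · intro h
      exact absurd rfl h
    · intro _
      show matM S g *ᵥ dv (eD j'.castSucc) = _
      rw [matM_col_e, hg j', Psi_smul, Psi_me, hdd]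
      simp
  have hQ : QD n K (dav x (dv (eD (lst n)))) = 0 := by
    rw [show QD n K (dav x (dv (eD (lst n)))) = QD n K (dv (eD (lst n))) from Q_gact _ x.1 _,
      QD_single_e]
  have hv : ∀ l, l < lst n → dav x (dv (eD (lst n))) (fD l) = 0 := by
    intro l hl
    have hne : l ≠ lst n := hl.ne
    have hc0 : dd l ≠ 0 := by
      intro h
      have h1 := hcols l hne
      rw [h, zero_smul] at h1
      have h2 := (gact_eq_zero_iff _ x.1 _).mp h1
      have := congrFun h2 (eD l)
      simp at this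
    have h1 : QuadraticMap.polar (⇑(QD n K)) (dav x (dv (eD (lst n)))) (dav x (dv (eD l))) =
        QuadraticMap.polar (⇑(QD n K)) (dv (eD (lst n))) (dv (eD l)) := polar_gact _ x.1 _ _
    rw [hcols l hne, QuadraticMap.polar_smul_right, polar_dv_e, polar_dv_e,
      dv_ne (r := fD l) (s := eD (lst n)) (by simp), smul_eq_mul] at h1
    rcases mul_eq_zero.mp h1 with h | h
    · exact absurd h hc0
    · exact h
  by_cases hfl : dav x (dv (eD (lst n))) (fD (lst n)) = 0
  · exact dtri_of_cols' x.1 dd hcols hfl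
  · exfalso
    obtain ⟨m, -, hfix, hval⟩ := dcase1_move (p := p) (hqm := hqm) _ hQ (lst n) hfl hv
    have hcc : ∀ j : Fin (n + 2), j ≠ lst n → dav (m * x) (dv (eD j)) = dd j • dv (eD j) := by
      intro j hj
      rw [dav_mul, hcols j hj, dav_smul, hfix j (Fin.le_last j)]
    refine not_mem_Omega_of_swap (m * x).1 dd
      (dav x (dv (eD (lst n))) (fD (lst n))) hcc ?_ (m * x).2
    show dav (m * x) (dv (eD (lst n))) = _
    rw [dav_mul, hval]

end Tri

end Cfsg.Agent.Lib.Helper1.MBN
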