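import Mathlib
import Cfsg.Agent.Lib.Helper1.MBN6

/-!
# Type `²D_{n+2}`: Siegel transformations in `Ω⁻`, the long root elements
-/

set_option autoImplicit false
set_option linter.unusedSectionVars false
set_option linter.unusedSimpArgs false

namespace Cfsg.Agent.Lib.Helper1.MBN

open Matrix Cfsg.Agent.Lib.Helper14.MatBN Cfsg.Agent.Lib.Helper14.SpBN Cfsg.Agent.Lib.Helper6
  Cfsg.Agent.Lib.Helper14.TriMono Cfsg.Agent.Lib.Helper1.OBN Cfsg.Agent.Lib.Helper1.MatBND
  Cfsg.Agent.Lib.Helper1.DBN Cfsg.Agent.Lib.Helper16 Cfsg.Agent.Lib.Helper15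

variable {n : ℕ} {F : Type*} [Field F] {K : Type*} [Field K] [Algebra F K] {a b : F}

section General

variable {ι : Type} [Fintype ι] [DecidableEq ι] (Q : QuadraticForm F (ι → F))

theorem siegIso_congr2 (u u' w w' : ι → F) (hu : Q u = 0)
    (huw : QuadraticMap.polar (⇑Q) u w = 0) (h1 : u = u') (h2 : w = w') :
    siegIso Q u w hu huw = siegIso Q u' w' (h1 ▸ hu) (h1 ▸ h2 ▸ huw) := by
  subst h1; subst h2; rfl

theorem siegIso_pow (u w : ι → F) (hu : Q u = 0) (huw : QuadraticMap.polar (⇑Q) u w = 0)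
    (k : ℕ) : (siegIso Q u w hu huw) ^ k =
      siegIso Q u ((k : F) • w) hu (by rw [QuadraticMap.polar_smul_right, huw, smul_zero]) := by
  induction k with
  | zero =>
    rw [pow_zero]
    rw [siegIso_congr Q u (((0 : ℕ) : F) • w) 0 hu _ (by simp)]
    exact (siegIso_zero Q u hu).symm
  | succ k ih =>
    rw [pow_succ, ih, siegIso_mul]
    apply siegIso_congr
    rw [Nat.cast_succ, add_smul, one_smul]

theorem siegIso_pow_char (p : ℕ) [CharP F p] (u w : ι → F) (hu : Q u = 0)
    (huw : QuadraticMap.polar (⇑Q) u w = 0) : (siegIso Q u w hu huw) ^ p = 1 := by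
  rw [siegIso_pow, siegIso_congr Q u (((p : ℕ) : F) • w) 0 hu _
    (by rw [CharP.cast_eq_zero, zero_smul])]
  exact siegIso_zero Q u hu

/-- the symmetry of the Siegel transformations in two singular vectors -/
theorem siegIso_symm (u w : ι → F) (hu : Q u = 0) (hw : Q w = 0)
    (huw : QuadraticMap.polar (⇑Q) u w = 0) :
    siegIso Q u w hu huw = siegIso Q w (-u) hw
      (by rw [QuadraticMap.polar_neg_right, QuadraticMap.polar_comm, huw, neg_zero]) := by
  apply iso_ext_gact
  intro x
  rw [gact_siegIso, gact_siegIso, QuadraticMap.map_neg, hu, hw]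
  simp only [QuadraticMap.polar_neg_left, zero_mul, sub_zero]
  funext r
  simp only [Pi.add_apply, Pi.smul_apply, Pi.neg_apply, smul_eq_mul]
  ring

end General

section Mem

variable (S : SplitDat F K a b) [Fintype F]
  (hab : ∀ x y : F, x ^ 2 + a * x * y + b * y ^ 2 = 0 → x = 0 ∧ y = 0)
  (p : ℕ) [Fact p.Prime] [CharP F p]

include S hab p in
/-- Siegel transformations with singular vector in the span of the `eᵢ` lie in `Ω⁻` -/
theorem msiegE_mem (hqm : Fintype.card F ≠ 2 ∨ n ≠ 0) (u w : MIdx n → F)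
    (hf : ∀ l, u (cf l) = 0) (hz : ∀ k, u (cz k) = 0)
    (huw : QuadraticMap.polar (⇑(QM n F a b)) u w = 0) :
    siegIso (QM n F a b) u w (msieg2_Q u hf hz) huw ∈ Cfsg.Omega F ⇑(QM n F a b) := by
  apply mem_OmegaM_of_pow_block S hab p hqm _ 1
  · rw [pow_one]
    exact siegIso_pow_char (QM n F a b) p u w _ huw
  · intro i j
    rw [psi_siegIso, dsiegIso_entry, Matrix.one_apply_ne (by simp), polar_dv_e, Psi_u_f u hf hz S,
      polar_dv_e, Psi_u_f u hf hz S]
    simp

end Mem

section Long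

variable (k : Fin n)

theorem xL_hf (t : F) (l : Fin (n + 1)) : (t • (me k.castSucc : MIdx n → F)) (cf l) = 0 := by
  rw [Pi.smul_apply, me_ne (by simp), smul_zero]

theorem xL_hz (t : F) (j : Fin 2) : (t • (me k.castSucc : MIdx n → F)) (cz j) = 0 := by
  rw [Pi.smul_apply, me_ne (by simp), smul_zero]

theorem xL_he (t : F) (l : Fin (n + 1)) (hl : k.succ ≤ l) :
    (t • (me k.castSucc : MIdx n → F)) (ce l) = 0 := by
  have : l ≠ k.castSucc := by
    intro h
    rw [h] at hl
    exact absurd (Fin.castSucc_lt_succ (i := k)) (not_lt.mpr hl)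
  rw [Pi.smul_apply, me_ne (by simpa using this), smul_zero]

/-- the long root elements `e_{k+1} ↦ e_{k+1} - t e_k`, `f_k ↦ f_k + t f_{k+1}` -/
noncomputable def xL (t : F) : MG n F a b :=
  msieg2 k.succ (t • me k.castSucc) (xL_hf k t) (xL_hz k t) (xL_he k t)

theorem gact_xL (t : F) (v : MIdx n → F) :
    gact (QM n F a b) (xL k t) v =
      v - (t * v (ce k.succ)) • me k.castSucc + (t * v (cf k.castSucc)) • mf k.succ := by
  unfold xL
  rw [gact_msieg2, QuadraticMap.polar_smul_left, polar_me', smul_smul, smul_eq_mul,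
    mul_comm (v (ce k.succ)) t]

theorem yL_Q (t : F) : QM n F a b (t • (me k.succ : MIdx n → F)) = 0 := by
  rw [QuadraticMap.map_smul, QM_me, smul_zero]

theorem yL_polar (t : F) :
    QuadraticMap.polar (⇑(QM n F a b)) (t • (me k.succ : MIdx n → F)) (-mf k.castSucc) = 0 := by
  rw [QuadraticMap.polar_smul_left, QuadraticMap.polar_neg_right, polar_mf,
    me_ne (by simpa using (Fin.castSucc_lt_succ (i := k)).ne)]
  simp

/-- the opposite long root elements `e_k ↦ e_k - t e_{k+1}`, `f_{k+1} ↦ f_{k+1} + t f_k` -/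
noncomputable def yL (t : F) : MG n F a b :=
  siegIso (QM n F a b) (t • me k.succ) (-mf k.castSucc) (yL_Q k t) (yL_polar k t)

theorem gact_yL (t : F) (v : MIdx n → F) :
    gact (QM n F a b) (yL k t) v =
      v - (t * v (ce k.castSucc)) • me k.succ + (t * v (cf k.succ)) • mf k.castSucc := by
  unfold yL
  rw [gact_siegIso, QuadraticMap.map_neg, QM_mf, QuadraticMap.polar_neg_left, polar_mf',
    QuadraticMap.polar_smul_left, polar_me']
  funext r
  simp only [Pi.add_apply, Pi.sub_apply, Pi.smul_apply, Pi.neg_apply, smul_eq_mul]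
  ring

/-- the monomial elements of the long roots -/
noncomputable def nL (t : F) : MG n F a b := xL k (-t⁻¹) * yL k t * xL k (-t⁻¹)

theorem ce_ne_succ : (ce k.castSucc : MIdx n) ≠ ce k.succ := by
  intro h
  exact (Fin.castSucc_lt_succ (i := k)).ne (Sum.inl_injective (Sum.inl_injective h))

theorem cf_ne_succ : (cf k.castSucc : MIdx n) ≠ cf k.succ := by
  intro h
  exact (Fin.castSucc_lt_succ (i := k)).ne (Sum.inr_injective (Sum.inl_injective h))

theorem xL_me_i (t : F) :
    gact (QM n F a b) (xL k t) (me k.castSucc) = me k.castSucc := by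
  rw [gact_xL, me_ne (ce_ne_succ k).symm, me_ne (by simp)]
  simp

theorem xL_me_j (t : F) :
    gact (QM n F a b) (xL k t) (me k.succ) = me k.succ - t • me k.castSucc := by
  rw [gact_xL, me_same, me_ne (by simp)]
  simp

theorem xL_mf_i (t : F) :
    gact (QM n F a b) (xL k t) (mf k.castSucc) = mf k.castSucc + t • mf k.succ := by
  rw [gact_xL, mf_same, mf_ne (by simp)]
  simp

theorem xL_mf_j (t : F) :
    gact (QM n F a b) (xL k t) (mf k.succ) = mf k.succ := by
  rw [gact_xL, mf_ne (by simp), mf_ne (cf_ne_succ k)]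
  simp

theorem yL_me_i (t : F) :
    gact (QM n F a b) (yL k t) (me k.castSucc) = me k.castSucc - t • me k.succ := by
  rw [gact_yL, me_same, me_ne (by simp)]
  simp

theorem yL_me_j (t : F) :
    gact (QM n F a b) (yL k t) (me k.succ) = me k.succ := by
  rw [gact_yL, me_ne (ce_ne_succ k), me_ne (by simp)]
  simp

theorem yL_mf_i (t : F) :
    gact (QM n F a b) (yL k t) (mf k.castSucc) = mf k.castSucc := by
  rw [gact_yL, mf_ne (by simp), mf_ne (cf_ne_succ k).symm]
  simp

theorem yL_mf_j (t : F) :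
    gact (QM n F a b) (yL k t) (mf k.succ) = mf k.succ + t • mf k.castSucc := by
  rw [gact_yL, mf_same, mf_ne (by simp)]
  simp

/-- vectors without components at the indices of the root are fixed -/
theorem xL_fix (t : F) (v : MIdx n → F) (h1 : v (ce k.succ) = 0) (h2 : v (cf k.castSucc) = 0) :
    gact (QM n F a b) (xL k t) v = v := by
  rw [gact_xL, h1, h2]
  simp

theorem yL_fix (t : F) (v : MIdx n → F) (h1 : v (ce k.castSucc) = 0) (h2 : v (cf k.succ) = 0) :
    gact (QM n F a b) (yL k t) v = v := by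
  rw [gact_yL, h1, h2]
  simp

theorem nL_me_i (t : F) (ht : t ≠ 0) :
    gact (QM n F a b) (nL k t) (me k.castSucc) = (-t) • me k.succ := by
  unfold nL
  simp only [gact_mul, gact_sub, gact_add, gact_smul, xL_me_i, xL_me_j, xL_mf_i, xL_mf_j,
    yL_me_i, yL_me_j, yL_mf_i, yL_mf_j]
  funext r
  simp only [Pi.sub_apply, Pi.smul_apply, smul_eq_mul]
  field_simp
  ring

theorem nL_me_j (t : F) (ht : t ≠ 0) :
    gact (QM n F a b) (nL k t) (me k.succ) = t⁻¹ • me k.castSucc := by
  unfold nL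
  simp only [gact_mul, gact_sub, gact_add, gact_smul, xL_me_i, xL_me_j, xL_mf_i, xL_mf_j,
    yL_me_i, yL_me_j, yL_mf_i, yL_mf_j]
  funext r
  simp only [Pi.sub_apply, Pi.smul_apply, smul_eq_mul]
  field_simp
  ring

theorem nL_mf_i (t : F) (ht : t ≠ 0) :
    gact (QM n F a b) (nL k t) (mf k.castSucc) = (-t⁻¹) • mf k.succ := by
  unfold nL
  simp only [gact_mul, gact_sub, gact_add, gact_smul, xL_me_i, xL_me_j, xL_mf_i, xL_mf_j,
    yL_me_i, yL_me_j, yL_mf_i, yL_mf_j]
  funext r
  simp only [Pi.add_apply, Pi.smul_apply, smul_eq_mul]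
  field_simp
  ring

theorem nL_mf_j (t : F) (ht : t ≠ 0) :
    gact (QM n F a b) (nL k t) (mf k.succ) = t • mf k.castSucc := by
  unfold nL
  simp only [gact_mul, gact_sub, gact_add, gact_smul, xL_me_i, xL_me_j, xL_mf_i, xL_mf_j,
    yL_me_i, yL_me_j, yL_mf_i, yL_mf_j]
  funext r
  simp only [Pi.add_apply, Pi.smul_apply, smul_eq_mul]
  field_simp
  ring

theorem nL_fix (t : F) (v : MIdx n → F) (h1 : v (ce k.succ) = 0) (h2 : v (cf k.castSucc) = 0)
    (h3 : v (ce k.castSucc) = 0) (h4 : v (cf k.succ) = 0) :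
    gact (QM n F a b) (nL k t) v = v := by
  unfold nL
  rw [gact_mul, gact_mul, xL_fix k _ v h1 h2, yL_fix k _ v h3 h4, xL_fix k _ v h1 h2]

end Long

end Cfsg.Agent.Lib.Helper1.MBN
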