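import Mathlib
import Cfsg.Agent.Lib.Helper1.MBN7

/-!
# Type `²D_{n+2}`: the short root elements
-/

set_option autoImplicit false
set_option linter.unusedSectionVars false
set_option linter.unusedSimpArgs false

namespace Cfsg.Agent.Lib.Helper1.MBN

open Matrix Cfsg.Agent.Lib.Helper14.MatBN Cfsg.Agent.Lib.Helper14.SpBN Cfsg.Agent.Lib.Helper6
  Cfsg.Agent.Lib.Helper14.TriMono Cfsg.Agent.Lib.Helper1.OBN Cfsg.Agent.Lib.Helper1.MatBND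
  Cfsg.Agent.Lib.Helper1.DBN Cfsg.Agent.Lib.Helper16 Cfsg.Agent.Lib.Helper15

variable {n : ℕ} {F : Type*} [Field F] {a b : F}

/-- the vectors of the anisotropic plane -/
def wv (z₁ z₂ : F) : MIdx n → F := z₁ • mz 0 + z₂ • mz 1

/-- the binary form -/
def qW (a b z₁ z₂ : F) : F := z₁ ^ 2 + a * z₁ * z₂ + b * z₂ ^ 2

/-- its polar form -/
def bW (a b z₁ z₂ t₁ t₂ : F) : F := 2 * z₁ * t₁ + a * (z₁ * t₂ + z₂ * t₁) + 2 * b * z₂ * t₂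

theorem wv_ce (z₁ z₂ : F) (l : Fin (n + 1)) : (wv z₁ z₂ : MIdx n → F) (ce l) = 0 := by
  simp [wv, Pi.single_apply]

theorem wv_cf (z₁ z₂ : F) (l : Fin (n + 1)) : (wv z₁ z₂ : MIdx n → F) (cf l) = 0 := by
  simp [wv, Pi.single_apply]

theorem wv_cz0 (z₁ z₂ : F) : (wv z₁ z₂ : MIdx n → F) (cz 0) = z₁ := by
  simp [wv, Pi.single_apply]

theorem wv_cz1 (z₁ z₂ : F) : (wv z₁ z₂ : MIdx n → F) (cz 1) = z₂ := by
  simp [wv, Pi.single_apply]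

theorem wv_zero : (wv 0 0 : MIdx n → F) = 0 := by
  simp [wv]

theorem wv_smul (c z₁ z₂ : F) : c • (wv z₁ z₂ : MIdx n → F) = wv (c * z₁) (c * z₂) := by
  unfold wv
  rw [smul_add, smul_smul, smul_smul]

theorem wv_add (z₁ z₂ t₁ t₂ : F) :
    (wv z₁ z₂ : MIdx n → F) + wv t₁ t₂ = wv (z₁ + t₁) (z₂ + t₂) := by
  unfold wv
  rw [add_smul, add_smul]
  abel

theorem wv_neg (z₁ z₂ : F) : -(wv z₁ z₂ : MIdx n → F) = wv (-z₁) (-z₂) := by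
  unfold wv
  rw [neg_smul, neg_smul, neg_add]

theorem wv_injective (z₁ z₂ t₁ t₂ : F) (h : (wv z₁ z₂ : MIdx n → F) = wv t₁ t₂) :
    z₁ = t₁ ∧ z₂ = t₂ := by
  constructor
  · have := congrFun h (cz 0)
    rwa [wv_cz0, wv_cz0] at this
  · have := congrFun h (cz 1)
    rwa [wv_cz1, wv_cz1] at this

theorem QM_wv (z₁ z₂ : F) : QM n F a b (wv z₁ z₂) = qW a b z₁ z₂ := by
  rw [QMinus_apply]
  unfold Cfsg.quadFormMinus qW
  have h0 := wv_cz0 (n := n) z₁ z₂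
  have h1 := wv_cz1 (n := n) z₁ z₂
  simp only [cz] at h0 h1
  rw [h0, h1]
  have : ∑ i : Fin (n + 1), (wv z₁ z₂ : MIdx n → F) (Sum.inl (Sum.inl i)) *
      (wv z₁ z₂ : MIdx n → F) (Sum.inl (Sum.inr i)) = 0 := by
    apply Finset.sum_eq_zero
    intro l _
    rw [show (wv z₁ z₂ : MIdx n → F) (Sum.inl (Sum.inl l)) = 0 from wv_ce z₁ z₂ l, zero_mul]
  rw [this, zero_add]

theorem polar_wv (z₁ z₂ : F) (x : MIdx n → F) :
    QuadraticMap.polar (⇑(QM n F a b)) (wv z₁ z₂) x =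
      (2 * z₁ + a * z₂) * x (cz 0) + (a * z₁ + 2 * b * z₂) * x (cz 1) := by
  unfold wv
  rw [QuadraticMap.polar_add_left, QuadraticMap.polar_smul_left, QuadraticMap.polar_smul_left,
    polar_mz0, polar_mz1]
  simp only [smul_eq_mul]
  ring

theorem polar_wv_wv (z₁ z₂ t₁ t₂ : F) :
    QuadraticMap.polar (⇑(QM n F a b)) (wv z₁ z₂) (wv t₁ t₂) = bW a b z₁ z₂ t₁ t₂ := by
  rw [polar_wv, wv_cz0, wv_cz1]
  unfold bW
  ring

theorem polar_wv_me (z₁ z₂ : F) (l : Fin (n + 1)) :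
    QuadraticMap.polar (⇑(QM n F a b)) (wv z₁ z₂) (me l) = 0 := by
  rw [polar_me, wv_cf]

theorem polar_wv_mf (z₁ z₂ : F) (l : Fin (n + 1)) :
    QuadraticMap.polar (⇑(QM n F a b)) (wv z₁ z₂) (mf l) = 0 := by
  rw [polar_mf, wv_ce]

section Short

/-- the short root elements -/
noncomputable def xS (z₁ z₂ : F) : MG n F a b :=
  msieg1 (Fin.last n) (wv z₁ z₂) (fun l _ => wv_cf z₁ z₂ l)

theorem yS_polar (z₁ z₂ : F) :
    QuadraticMap.polar (⇑(QM n F a b)) (mf (Fin.last n)) (wv z₁ z₂) = 0 := by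
  rw [polar_mf', wv_ce]

/-- the opposite short root elements -/
noncomputable def yS (z₁ z₂ : F) : MG n F a b :=
  siegIso (QM n F a b) (mf (Fin.last n)) (wv z₁ z₂) (QM_mf _) (yS_polar z₁ z₂)

theorem gact_xS (z₁ z₂ : F) (x : MIdx n → F) :
    gact (QM n F a b) (xS z₁ z₂) x =
      x + (QuadraticMap.polar (⇑(QM n F a b)) (wv z₁ z₂) x -
        qW a b z₁ z₂ * x (cf (Fin.last n))) • me (Fin.last n) +
        (-(x (cf (Fin.last n)))) • wv z₁ z₂ := by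
  unfold xS
  rw [gact_msieg1, QM_wv]

theorem gact_yS (z₁ z₂ : F) (x : MIdx n → F) :
    gact (QM n F a b) (yS z₁ z₂) x =
      x + (QuadraticMap.polar (⇑(QM n F a b)) (wv z₁ z₂) x -
        qW a b z₁ z₂ * x (ce (Fin.last n))) • mf (Fin.last n) +
        (-(x (ce (Fin.last n)))) • wv z₁ z₂ := by
  unfold yS
  rw [gact_siegIso, polar_mf', QM_wv]

/-- the vectors of the four dimensional space spanned by `e_n`, `f_n` and the anisotropic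
plane -/
def v4 (α β t₁ t₂ : F) : MIdx n → F :=
  α • me (Fin.last n) + β • mf (Fin.last n) + wv t₁ t₂

theorem v4_cf (α β t₁ t₂ : F) : (v4 α β t₁ t₂ : MIdx n → F) (cf (Fin.last n)) = β := by
  unfold v4
  rw [Pi.add_apply, Pi.add_apply, Pi.smul_apply, Pi.smul_apply, wv_cf, mf_same,
    me_ne (by simp)]
  simp

theorem v4_ce (α β t₁ t₂ : F) : (v4 α β t₁ t₂ : MIdx n → F) (ce (Fin.last n)) = α := by
  unfold v4
  rw [Pi.add_apply, Pi.add_apply, Pi.smul_apply, Pi.smul_apply, wv_ce, me_same,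
    mf_ne (by simp)]
  simp

theorem polar_wv_v4 (z₁ z₂ α β t₁ t₂ : F) :
    QuadraticMap.polar (⇑(QM n F a b)) (wv z₁ z₂) (v4 α β t₁ t₂) = bW a b z₁ z₂ t₁ t₂ := by
  unfold v4
  rw [QuadraticMap.polar_add_right, QuadraticMap.polar_add_right,
    QuadraticMap.polar_smul_right, QuadraticMap.polar_smul_right, polar_wv_me, polar_wv_mf,
    polar_wv_wv]
  simp

theorem xS_v4 (z₁ z₂ α β t₁ t₂ : F) :
    gact (QM n F a b) (xS z₁ z₂) (v4 α β t₁ t₂) =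
      v4 (α - β * qW a b z₁ z₂ + bW a b z₁ z₂ t₁ t₂) β (t₁ - β * z₁) (t₂ - β * z₂) := by
  rw [gact_xS, polar_wv_v4, v4_cf]
  unfold v4 wv
  funext r
  simp only [Pi.add_apply, Pi.smul_apply, smul_eq_mul]
  ring

theorem yS_v4 (z₁ z₂ α β t₁ t₂ : F) :
    gact (QM n F a b) (yS z₁ z₂) (v4 α β t₁ t₂) =
      v4 α (β - α * qW a b z₁ z₂ + bW a b z₁ z₂ t₁ t₂) (t₁ - α * z₁) (t₂ - α * z₂) := by
  rw [gact_yS, polar_wv_v4, v4_ce]
  unfold v4 wv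
  funext r
  simp only [Pi.add_apply, Pi.smul_apply, smul_eq_mul]
  ring

/-- vectors orthogonal to the four dimensional space are fixed -/
theorem xS_fix (z₁ z₂ : F) (x : MIdx n → F) (h1 : x (cf (Fin.last n)) = 0)
    (h2 : x (cz 0) = 0) (h3 : x (cz 1) = 0) : gact (QM n F a b) (xS z₁ z₂) x = x := by
  rw [gact_xS, polar_wv, h1, h2, h3]
  simp

theorem yS_fix (z₁ z₂ : F) (x : MIdx n → F) (h1 : x (ce (Fin.last n)) = 0)
    (h2 : x (cz 0) = 0) (h3 : x (cz 1) = 0) : gact (QM n F a b) (yS z₁ z₂) x = x := by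
  rw [gact_yS, polar_wv, h1, h2, h3]
  simp

/-- the monomial elements of the short root -/
noncomputable def nS (z₁ z₂ : F) : MG n F a b :=
  xS ((qW a b z₁ z₂)⁻¹ * z₁) ((qW a b z₁ z₂)⁻¹ * z₂) * yS z₁ z₂ *
    xS ((qW a b z₁ z₂)⁻¹ * z₁) ((qW a b z₁ z₂)⁻¹ * z₂)

theorem qW_smul (c z₁ z₂ : F) : qW a b (c * z₁) (c * z₂) = c * c * qW a b z₁ z₂ := by
  unfold qW
  ring

theorem bW_smul_left (c z₁ z₂ t₁ t₂ : F) :
    bW a b (c * z₁) (c * z₂) t₁ t₂ = c * bW a b z₁ z₂ t₁ t₂ := by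
  unfold bW
  ring

theorem bW_sub_right (z₁ z₂ t₁ t₂ u₁ u₂ : F) :
    bW a b z₁ z₂ (t₁ - u₁) (t₂ - u₂) = bW a b z₁ z₂ t₁ t₂ - bW a b z₁ z₂ u₁ u₂ := by
  unfold bW
  ring

theorem bW_mul_right (s z₁ z₂ u₁ u₂ : F) :
    bW a b z₁ z₂ (s * u₁) (s * u₂) = s * bW a b z₁ z₂ u₁ u₂ := by
  unfold bW
  ring

theorem bW_self (z₁ z₂ : F) : bW a b z₁ z₂ z₁ z₂ = 2 * qW a b z₁ z₂ := by
  unfold bW qW
  ring

theorem nS_v4 (z₁ z₂ : F) (hq : qW a b z₁ z₂ ≠ 0) (α β t₁ t₂ : F) :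
    gact (QM n F a b) (nS z₁ z₂) (v4 α β t₁ t₂) =
      v4 (-(qW a b z₁ z₂)⁻¹ * β) (-(qW a b z₁ z₂) * α)
        (t₁ - (qW a b z₁ z₂)⁻¹ * bW a b z₁ z₂ t₁ t₂ * z₁)
        (t₂ - (qW a b z₁ z₂)⁻¹ * bW a b z₁ z₂ t₁ t₂ * z₂) := by
  unfold nS
  rw [gact_mul, gact_mul, xS_v4, yS_v4, xS_v4]
  simp only [bW_sub_right, bW_mul_right, bW_self, bW_smul_left, qW_smul]
  set q := qW a b z₁ z₂ with hqdef
  set B := bW a b z₁ z₂ t₁ t₂ with hBdef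
  unfold v4 wv
  funext r
  simp only [Pi.add_apply, Pi.smul_apply, smul_eq_mul]
  field_simp
  ring

theorem nS_fix (z₁ z₂ : F) (x : MIdx n → F) (h0 : x (ce (Fin.last n)) = 0)
    (h1 : x (cf (Fin.last n)) = 0) (h2 : x (cz 0) = 0) (h3 : x (cz 1) = 0) :
    gact (QM n F a b) (nS z₁ z₂) x = x := by
  unfold nS
  rw [gact_mul, gact_mul, xS_fix _ _ x h1 h2 h3, yS_fix _ _ x h0 h2 h3, xS_fix _ _ x h1 h2 h3]

theorem v4_me : (v4 1 0 0 0 : MIdx n → F) = me (Fin.last n) := by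
  unfold v4
  rw [wv_zero]
  simp

theorem v4_mf : (v4 0 1 0 0 : MIdx n → F) = mf (Fin.last n) := by
  unfold v4
  rw [wv_zero]
  simp

theorem v4_wv (t₁ t₂ : F) : (v4 0 0 t₁ t₂ : MIdx n → F) = wv t₁ t₂ := by
  unfold v4
  simp

theorem nS_me (z₁ z₂ : F) (hq : qW a b z₁ z₂ ≠ 0) :
    gact (QM n F a b) (nS z₁ z₂) (me (Fin.last n)) = (-(qW a b z₁ z₂)) • mf (Fin.last n) := by
  rw [← v4_me, nS_v4 z₁ z₂ hq]
  unfold bW
  unfold v4
  simp only [mul_zero, zero_mul, mul_one, add_zero, sub_zero, zero_smul, zero_add, wv_zero]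

theorem nS_mf (z₁ z₂ : F) (hq : qW a b z₁ z₂ ≠ 0) :
    gact (QM n F a b) (nS z₁ z₂) (mf (Fin.last n)) = (-(qW a b z₁ z₂)⁻¹) • me (Fin.last n) := by
  rw [← v4_mf, nS_v4 z₁ z₂ hq]
  unfold bW
  unfold v4
  simp only [mul_zero, zero_mul, mul_one, add_zero, sub_zero, zero_smul, zero_add, wv_zero]

theorem nS_wv (z₁ z₂ : F) (hq : qW a b z₁ z₂ ≠ 0) (t₁ t₂ : F) :
    gact (QM n F a b) (nS z₁ z₂) (wv t₁ t₂) =
      wv (t₁ - (qW a b z₁ z₂)⁻¹ * bW a b z₁ z₂ t₁ t₂ * z₁)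
        (t₂ - (qW a b z₁ z₂)⁻¹ * bW a b z₁ z₂ t₁ t₂ * z₂) := by
  rw [← v4_wv, nS_v4 z₁ z₂ hq]
  unfold v4
  simp only [mul_zero, zero_smul, zero_add]

end Short

end Cfsg.Agent.Lib.Helper1.MBN
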