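import Mathlib
import Cfsg.Agent.Lib.Helper1.MBN8

/-!
# Type `²D_{n+2}`: the root elements and the reflections lie in `Ω⁻`
-/

set_option autoImplicit false
set_option linter.unusedSectionVars false
set_option linter.unusedSimpArgs false

namespace Cfsg.Agent.Lib.Helper1.MBN

open Matrix Cfsg.Agent.Lib.Helper14.MatBN Cfsg.Agent.Lib.Helper14.SpBN Cfsg.Agent.Lib.Helper6
  Cfsg.Agent.Lib.Helper14.TriMono Cfsg.Agent.Lib.Helper1.OBN Cfsg.Agent.Lib.Helper1.MatBND
  Cfsg.Agent.Lib.Helper1.DBN Cfsg.Agent.Lib.Helper16 Cfsg.Agent.Lib.Helper15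

variable {n : ℕ} {F : Type*} [Field F] {K : Type*} [Field K] [Algebra F K] {a b : F}

section Rot

theorem QM_mz1_ne (hb : b ≠ 0) : QM n F a b (mz 1) ≠ 0 := by
  rw [QM_mz1]
  exact hb

/-- a rotation of the anisotropic plane without fixed vectors -/
noncomputable def rotW (hb : b ≠ 0) : MG n F a b :=
  reflIso (QM n F a b) (mz 0) QM_mz0_ne * reflIso (QM n F a b) (mz 1) (QM_mz1_ne hb)

theorem mz_cz00 : (mz 0 : MIdx n → F) (cz 0) = 1 := Pi.single_eq_same _ _
theorem mz_cz11 : (mz 1 : MIdx n → F) (cz 1) = 1 := Pi.single_eq_same _ _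
theorem mz_cz01 : (mz 0 : MIdx n → F) (cz 1) = 0 := Pi.single_eq_of_ne (by simp) _
theorem mz_cz10 : (mz 1 : MIdx n → F) (cz 0) = 0 := Pi.single_eq_of_ne (by simp) _

theorem rotW_me (hb : b ≠ 0) (l : Fin (n + 1)) :
    gact (QM n F a b) (rotW hb) (me l) = me l := by
  unfold rotW
  rw [gact_mul, gact_reflIso, gact_reflIso, polar_mz1, polar_mz0]
  simp only [Pi.sub_apply, Pi.smul_apply, me_ne (show (cz 0 : MIdx n) ≠ ce l by simp),
    me_ne (show (cz 1 : MIdx n) ≠ ce l by simp), mz_cz10, mz_cz11]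
  simp

theorem rotW_wv (hb : b ≠ 0) (z₁ z₂ : F) :
    gact (QM n F a b) (rotW hb) (wv z₁ z₂) =
      wv (-z₁ + a * z₂ + a ^ 2 / b * z₁) (-z₂ - a / b * z₁) := by
  unfold rotW
  rw [gact_mul, gact_reflIso, gact_reflIso, QM_mz0, QM_mz1, polar_mz1, polar_mz0]
  simp only [Pi.sub_apply, Pi.smul_apply, wv_cz0, wv_cz1, mz_cz10, mz_cz11, smul_eq_mul]
  unfold wv
  funext r
  simp only [Pi.sub_apply, Pi.add_apply, Pi.smul_apply, smul_eq_mul]
  field_simp
  ring

variable (S : SplitDat F K a b)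

include S in
theorem disc_ne : 4 * b - a ^ 2 ≠ 0 := by
  intro h
  have h1 : (S.β - S.β') ^ 2 = algebraMap F K (a ^ 2 - 4 * b) := by
    rw [map_sub, map_pow, map_mul, ← S.hsum, ← S.hprod]
    simp only [map_ofNat]
    ring
  have h2 : a ^ 2 - 4 * b = 0 := by linear_combination (-1 : F) * h
  rw [h2, map_zero] at h1
  exact sub_ne_zero.mpr S.hne (pow_eq_zero_iff (two_ne_zero) |>.mp h1)

include S in
/-- the short root elements are commutators -/
theorem xS_mem (hb : b ≠ 0) (t₁ t₂ : F) :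
    (xS t₁ t₂ : MG n F a b) ∈ Cfsg.Omega F ⇑(QM n F a b) := by
  obtain ⟨D, hDdef⟩ : ∃ D : F, D = 4 * b - a ^ 2 := ⟨_, rfl⟩
  have hD : D ≠ 0 := by
    rw [hDdef]
    exact disc_ne S
  set z₁ : F := b * (-2 * t₁ - a * t₂) / D with hz₁
  set z₂ : F := (a * t₁ + (a ^ 2 - 2 * b) * t₂) / D with hz₂
  have key : (xS t₁ t₂ : MG n F a b) = rotW hb * xS z₁ z₂ * (rotW hb)⁻¹ * (xS z₁ z₂)⁻¹ := by
    unfold xS msieg1
    rw [conj_siegIso, siegIso_inv,
      siegIso_congr2 (QM n F a b) (gact (QM n F a b) (rotW hb) (me (Fin.last n))) (me (Fin.last n))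
        (gact (QM n F a b) (rotW hb) (wv z₁ z₂)) (gact (QM n F a b) (rotW hb) (wv z₁ z₂)) _ _
        (rotW_me hb _) rfl, siegIso_mul]
    apply siegIso_congr
    rw [rotW_wv, wv_neg, wv_add]
    congr 1
    · rw [hz₁, hz₂]
      field_simp
      subst hDdef
      ring
    · rw [hz₁, hz₂]
      field_simp
      subst hDdef
      ring
  rw [key]
  exact Subgroup.commutator_mem_commutator (Subgroup.mem_top _) (Subgroup.mem_top _)

end Rot

end Cfsg.Agent.Lib.Helper1.MBN
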