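import Mathlib
import Cfsg.Agent.Lib.Helper1.MBN9

/-!
# Type `²D_{n+2}`: the root elements and the reflections as elements of `Ω⁻`
-/

set_option autoImplicit false
set_option linter.unusedSectionVars false
set_option linter.unusedSimpArgs false

namespace Cfsg.Agent.Lib.Helper1.MBN

open Matrix Cfsg.Agent.Lib.Helper14.MatBN Cfsg.Agent.Lib.Helper14.SpBN Cfsg.Agent.Lib.Helper6
  Cfsg.Agent.Lib.Helper14.TriMono Cfsg.Agent.Lib.Helper1.OBN Cfsg.Agent.Lib.Helper1.MatBND
  Cfsg.Agent.Lib.Helper1.DBN Cfsg.Agent.Lib.Helper16 Cfsg.Agent.Lib.Helper15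

variable {n : ℕ} {F : Type*} [Field F] {K : Type*} [Field K] [Algebra F K] {a b : F}

section Mem

variable (S : SplitDat F K a b) [Fintype F]
  (hab : ∀ x y : F, x ^ 2 + a * x * y + b * y ^ 2 = 0 → x = 0 ∧ y = 0)
  (p : ℕ) [Fact p.Prime] [CharP F p]

include hab in
theorem b_ne : b ≠ 0 := by
  intro h
  have := hab 0 1 (by rw [h]; ring)
  exact one_ne_zero this.2

include hab in
theorem qW_ne (z₁ z₂ : F) (h : ¬ (z₁ = 0 ∧ z₂ = 0)) : qW a b z₁ z₂ ≠ 0 := fun h0 =>
  h (hab z₁ z₂ h0)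

include S hab p in
theorem msieg1_mem (j : Fin (n + 1)) (w : MIdx n → F) (hw : ∀ l, l ≤ j → w (cf l) = 0) :
    (msieg1 j w hw : MG n F a b) ∈ Cfsg.Omega F ⇑(QM n F a b) := by
  by_cases hqm : Fintype.card F ≠ 2 ∨ n ≠ 0
  · exact msiegE_mem S hab p hqm (me j) w (fun l => me_ne (by simp)) (fun k => me_ne (by simp))
      (msieg1_polar j w hw)
  · push Not at hqm
    obtain ⟨-, hn⟩ := hqm
    subst hn
    have : Subsingleton (Fin (0 + 1)) := inferInstanceAs (Subsingleton (Fin 1))
    have hj : j = Fin.last 0 := Subsingleton.elim _ _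
    subst hj
    have hzz : ∀ k : Fin 2, w (cz k) =
        (wv (w (cz 0)) (w (cz 1)) + w (ce (Fin.last 0)) • me (Fin.last 0) : MIdx 0 → F) (cz k) := by
      rw [Fin.forall_fin_two]
      constructor
      · rw [Pi.add_apply, Pi.smul_apply, wv_cz0, me_ne (by simp)]
        simp
      · rw [Pi.add_apply, Pi.smul_apply, wv_cz1, me_ne (by simp)]
        simp
    have hdec : w = wv (w (cz 0)) (w (cz 1)) + w (ce (Fin.last 0)) • me (Fin.last 0) := by
      funext r
      rcases r with (i | i) | k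
      · have hi : i = Fin.last 0 := Subsingleton.elim _ _
        subst hi
        rw [Pi.add_apply, Pi.smul_apply, wv_ce, me_same]
        simp
      · have hi : i = Fin.last 0 := Subsingleton.elim _ _
        subst hi
        rw [Pi.add_apply, Pi.smul_apply, wv_cf, me_ne (by simp)]
        simpa using hw (Fin.last 0) le_rfl
      · exact hzz k
    have key : (msieg1 (Fin.last 0) w hw : MG 0 F a b) = xS (w (cz 0)) (w (cz 1)) := by
      unfold xS msieg1
      rw [siegIso_congr (QM 0 F a b) (me (Fin.last 0)) w _ (QM_me _) _ hdec]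
      exact siegIso_add_smul (QM 0 F a b) _ _ _ (QM_me _) _
    rw [key]
    exact xS_mem S (b_ne hab) _ _

include S hab p in
theorem msieg2_mem (j : Fin (n + 1)) (u : MIdx n → F) (hf : ∀ l, u (cf l) = 0)
    (hz : ∀ k, u (cz k) = 0) (he : ∀ l, j ≤ l → u (ce l) = 0) :
    (msieg2 j u hf hz he : MG n F a b) ∈ Cfsg.Omega F ⇑(QM n F a b) := by
  by_cases hqm : Fintype.card F ≠ 2 ∨ n ≠ 0
  · exact msiegE_mem S hab p hqm u (-mf j) hf hz (msieg2_polar j u he)
  · push Not at hqm
    obtain ⟨-, hn⟩ := hqm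
    subst hn
    have : Subsingleton (Fin (0 + 1)) := inferInstanceAs (Subsingleton (Fin 1))
    have hu : u = 0 := by
      funext r
      rcases r with (i | i) | k
      · exact he i (by rw [Subsingleton.elim j i])
      · exact hf i
      · exact hz k
    have key : (msieg2 j u hf hz he : MG 0 F a b) = 1 := by
      apply iso_ext_gact
      intro x
      rw [gact_msieg2, gact_one, hu]
      simp
    rw [key]
    exact Subgroup.one_mem _

theorem QM_sub_ne (j : Fin (n + 1)) : QM n F a b (me j - mf j) ≠ 0 := by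
  rw [Q_sub, QM_me, QM_mf, polar_mf, me_same]
  simp

include S hab in
theorem yS_mem (z₁ z₂ : F) : (yS z₁ z₂ : MG n F a b) ∈ Cfsg.Omega F ⇑(QM n F a b) := by
  set t : MG n F a b := reflIso (QM n F a b) (me (Fin.last n) - mf (Fin.last n)) (QM_sub_ne _)
    with ht
  have h1 : gact (QM n F a b) t (me (Fin.last n)) = mf (Fin.last n) := by
    rw [ht, gact_reflIso, Q_sub, QM_me, QM_mf, polar_mf, me_same, polar_me, Pi.sub_apply, mf_same,
      me_ne (by simp)]
    funext r
    simp only [Pi.sub_apply, Pi.smul_apply, smul_eq_mul]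
    norm_num
  have h2 : gact (QM n F a b) t (wv z₁ z₂) = wv z₁ z₂ := by
    rw [ht, gact_reflIso, QuadraticMap.polar_comm, polar_wv, Pi.sub_apply, Pi.sub_apply,
      me_ne (by simp), me_ne (by simp), mf_ne (by simp), mf_ne (by simp)]
    simp
  have key : (yS z₁ z₂ : MG n F a b) = t * xS z₁ z₂ * t⁻¹ := by
    unfold yS xS msieg1
    rw [conj_siegIso]
    exact siegIso_congr2 (QM n F a b) _ _ _ _ _ _ h1.symm h2.symm
  rw [key]
  exact (inferInstance : (Cfsg.Omega F ⇑(QM n F a b)).Normal).conj_mem _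
    (xS_mem S (b_ne hab) _ _) _

include S hab p in
theorem xL_mem (k : Fin n) (t : F) : (xL k t : MG n F a b) ∈ Cfsg.Omega F ⇑(QM n F a b) :=
  msieg2_mem S hab p _ _ _ _ _

include S hab p in
theorem yL_mem (k : Fin n) (t : F) : (yL k t : MG n F a b) ∈ Cfsg.Omega F ⇑(QM n F a b) := by
  have hn : n ≠ 0 := fun h => by
    subst h
    exact k.elim0
  exact msiegE_mem S hab p (Or.inr hn) (t • me k.succ) (-mf k.castSucc)
    (fun l => by rw [Pi.smul_apply, me_ne (by simp), smul_zero])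
    (fun j => by rw [Pi.smul_apply, me_ne (by simp), smul_zero]) (yL_polar k t)

include S hab p in
theorem nL_mem (k : Fin n) (t : F) : (nL k t : MG n F a b) ∈ Cfsg.Omega F ⇑(QM n F a b) :=
  Subgroup.mul_mem _ (Subgroup.mul_mem _ (xL_mem S hab p k _) (yL_mem S hab p k _))
    (xL_mem S hab p k _)

include S hab in
theorem nS_mem (z₁ z₂ : F) : (nS z₁ z₂ : MG n F a b) ∈ Cfsg.Omega F ⇑(QM n F a b) :=
  Subgroup.mul_mem _ (Subgroup.mul_mem _ (xS_mem S (b_ne hab) _ _) (yS_mem S hab _ _))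
    (xS_mem S (b_ne hab) _ _)

/-- the long root elements in `Ω⁻` -/
noncomputable def xLm (k : Fin n) (t : F) : MmG n F a b := ⟨xL k t, xL_mem S hab p k t⟩

/-- the long reflections in `Ω⁻` -/
noncomputable def sLm (k : Fin n) : MmG n F a b := ⟨nL k 1, nL_mem S hab p k 1⟩

/-- the short root elements in `Ω⁻` -/
noncomputable def xSm (z₁ z₂ : F) : MmG n F a b := ⟨xS z₁ z₂, xS_mem S (b_ne hab) z₁ z₂⟩

/-- the short reflection in `Ω⁻` -/
noncomputable def sSm : MmG n F a b := ⟨nS 1 0, nS_mem S hab 1 0⟩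

/-- the root subgroups -/
def XKM : Fin n ⊕ Unit → Set (MmG n F a b) :=
  Sum.elim (fun k => Set.range (xLm S hab p k)) (fun _ => {x | ∃ z₁ z₂, x = xSm S hab z₁ z₂})

/-- the reflections -/
noncomputable def sKM : Fin n ⊕ Unit → MmG n F a b :=
  Sum.elim (sLm S hab p) (fun _ => sSm S hab)

end Mem

end Cfsg.Agent.Lib.Helper1.MBN
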