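import Mathlib
import Cfsg.Agent.Lib.Helper1.MBN10

/-!
# Type `²D_{n+2}`: the root subgroups over `K`
-/

set_option autoImplicit false
set_option linter.unusedSectionVars false
set_option linter.unusedSimpArgs false

namespace Cfsg.Agent.Lib.Helper1.MBN

open Matrix Cfsg.Agent.Lib.Helper14.MatBN Cfsg.Agent.Lib.Helper14.SpBN Cfsg.Agent.Lib.Helper6
  Cfsg.Agent.Lib.Helper14.TriMono Cfsg.Agent.Lib.Helper1.OBN Cfsg.Agent.Lib.Helper1.MatBND
  Cfsg.Agent.Lib.Helper1.DBN Cfsg.Agent.Lib.Helper16 Cfsg.Agent.Lib.Helper15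

variable {n : ℕ} {F : Type*} [Field F] {K : Type*} [Field K] [Algebra F K] {a b : F}
  (S : SplitDat F K a b)

theorem psi_xL (k : Fin n) (t : F) :
    psi S (xL k t : MG n F a b) =
      dsieg2 k.succ.castSucc (Psi S (t • me k.castSucc))
        (Psi_u_f _ (xL_hf k t) (xL_hz k t) S) (Psi_u_e k.succ _ (xL_hz k t) (xL_he k t) S) :=
  psi_msieg2 _ _ _ _ _ S

theorem psi_xS (z₁ z₂ : F) :
    psi S (xS z₁ z₂ : MG n F a b) =
      dsieg1 (Fin.last n).castSucc (Psi S (wv z₁ z₂))
        (Psi_w_f (Fin.last n) _ (fun l _ => wv_cf z₁ z₂ l) S) :=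
  psi_msieg1 _ _ _ S

theorem Psi_xL_u (k : Fin n) (t : F) :
    Psi S (t • (me k.castSucc : MIdx n → F)) =
      algebraMap F K t • dv (eD k.castSucc.castSucc) := by
  rw [Psi_smul, Psi_me]

theorem Psi_wv (z₁ z₂ : F) :
    Psi S (wv z₁ z₂ : MIdx n → F) =
      (algebraMap F K z₁ + S.β * algebraMap F K z₂) • dv (eD (lst n)) +
        (algebraMap F K z₁ + S.β' * algebraMap F K z₂) • dv (fD (lst n)) := by
  unfold wv
  rw [Psi_add, Psi_smul, Psi_smul, Psi_mz0, Psi_mz1]
  funext r
  simp only [Pi.add_apply, Pi.smul_apply, smul_eq_mul]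
  ring

/-- the rational vectors of the anisotropic plane are supported on the middle pair -/
theorem rhoD_of_Psi_wv (z₁ z₂ : F) (r : DIdx n) (h : Psi S (wv z₁ z₂ : MIdx n → F) r ≠ 0) :
    rhoD n r = n + 1 := by
  rcases r with l | l
  · revert h
    refine Fin.lastCases ?_ (fun l' => ?_) l
    · intro _
      rfl
    · intro h
      exfalso
      apply h
      have := Psi_e S (wv z₁ z₂ : MIdx n → F) l'
      rw [show (eD l'.castSucc : DIdx n) = Sum.inl l'.castSucc from rfl] at this
      rw [this, show (wv z₁ z₂ : MIdx n → F) (Sum.inl (Sum.inl l')) = 0 from wv_ce z₁ z₂ l',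
        map_zero]
  · revert h
    refine Fin.lastCases ?_ (fun l' => ?_) l
    · intro _
      simp only [rhoD_f, Fin.val_last]
      omega
    · intro h
      exfalso
      apply h
      have := Psi_f S (wv z₁ z₂ : MIdx n → F) l'
      rw [show (fD l'.castSucc : DIdx n) = Sum.inr l'.castSucc from rfl] at this
      rw [this, show (wv z₁ z₂ : MIdx n → F) (Sum.inl (Sum.inr l')) = 0 from wv_cf z₁ z₂ l',
        map_zero]

section Setup

variable [Fintype F]
  (hab : ∀ x y : F, x ^ 2 + a * x * y + b * y ^ 2 = 0 → x = 0 ∧ y = 0)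
  (p : ℕ) [Fact p.Prime] [CharP F p]

theorem matM_xLm (k : Fin n) (t : F) :
    matM S (xLm S hab p k t) =
      (((psi S (xL k t : MG n F a b)).1 : GL (DIdx n) K) : Matrix (DIdx n) (DIdx n) K) := rfl

theorem matM_xSm (z₁ z₂ : F) :
    matM S (xSm S hab z₁ z₂) =
      (((psi S (xS z₁ z₂ : MG n F a b)).1 : GL (DIdx n) K) : Matrix (DIdx n) (DIdx n) K) := rfl

theorem m_X_upper (k : Fin n ⊕ Unit) (x : MmG n F a b) (hx : x ∈ XKM S hab p k) :
    (matM S x).BlockTriangular (rho (n + 1)) := by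
  rcases k with k | k
  · obtain ⟨t, rfl⟩ := hx
    rw [matM_xLm, psi_xL]
    exact dsieg2_tri _ _ _ _
  · obtain ⟨z₁, z₂, rfl⟩ := hx
    rw [matM_xSm, psi_xS]
    exact dsieg1_tri _ _ _

theorem m_X_diag (k : Fin n ⊕ Unit) (x : MmG n F a b) (hx : x ∈ XKM S hab p k) (i : DIdx n) :
    matM S x i i = 1 := by
  rcases k with k | k
  · obtain ⟨t, rfl⟩ := hx
    rw [matM_xLm, psi_xL]
    exact dsieg2_diag _ _ _ _ i
  · obtain ⟨z₁, z₂, rfl⟩ := hx
    rw [matM_xSm, psi_xS]
    exact dsieg1_diag _ _ _ i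

theorem m_X_supp (k : Fin n ⊕ Unit) (x : MmG n F a b) (hx : x ∈ XKM S hab p k) (u v : DIdx n)
    (huv : u ≠ v) (hne : matM S x u v ≠ 0) : InPi (rhoD n) (piKM k) u v := by
  rcases k with k | k
  · obtain ⟨t, rfl⟩ := hx
    show InPi (rhoD n) (piS k.castSucc) u v
    rw [inPiD_piS]
    rw [matM_xLm, psi_xL, dsieg2_entry, dv_ne huv, zero_sub, Psi_xL_u, QuadraticMap.polar_smul_left,
      polar_dv_e', Pi.smul_apply, smul_eq_mul, smul_eq_mul] at hne
    by_cases h1 : v = eD k.succ.castSucc
    · left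
      subst h1
      rw [dv_same, dv_ne (r := fD k.castSucc.castSucc) (s := eD k.succ.castSucc) (by simp),
        mul_zero, zero_mul, add_zero, one_mul] at hne
      have h2 : u = eD k.castSucc.castSucc := by
        by_contra h
        rw [dv_ne h, mul_zero, neg_zero] at hne
        exact hne rfl
      rw [h2, Fin.succ_castSucc]
      exact ⟨rfl, rfl⟩
    · right
      rw [dv_ne (Ne.symm h1), zero_mul, neg_zero, zero_add] at hne
      have h2 : u = fD k.succ.castSucc := by
        by_contra h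
        rw [dv_ne h, mul_zero] at hne
        exact hne rfl
      have h3 : v = fD k.castSucc.castSucc := by
        by_contra h
        rw [dv_ne (Ne.symm h), mul_zero, zero_mul] at hne
        exact hne rfl
      rw [h2, h3, Fin.succ_castSucc]
      exact ⟨rfl, rfl⟩
  · obtain ⟨z₁, z₂, rfl⟩ := hx
    show InPi (rhoD n) (piM n) u v
    rw [inPi_piM]
    rw [matM_xSm, psi_xS, dsieg1_entry, Matrix.one_apply_ne huv, zero_add] at hne
    have hpre : rhoD n (eD (Fin.last n).castSucc : DIdx n) = n := rfl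
    have hpre' : rhoD n (fD (Fin.last n).castSucc : DIdx n) = n + 2 := by
      simp only [rhoD_f, Fin.val_castSucc, Fin.val_last]
      omega
    by_cases h1 : u = eD (Fin.last n).castSucc
    · subst h1
      by_cases h2 : v = fD (Fin.last n).castSucc
      · subst h2
        right; left
        exact ⟨hpre, hpre'⟩
      · left
        refine ⟨hpre, ?_⟩
        rw [dv_ne (Ne.symm h2), mul_zero, sub_zero, zero_mul, sub_zero, dv_same, mul_one] at hne
        rcases v with l | l
        · rw [polar_dv_e] at hne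
          have := rhoD_of_Psi_wv S z₁ z₂ _ hne
          simp only [rhoD_f] at this
          simp only [rhoD_e]
          have := l.2
          omega
        · rw [polar_dv_f] at hne
          have := rhoD_of_Psi_wv S z₁ z₂ _ hne
          simp only [rhoD_e] at this
          simp only [rhoD_f]
          have := l.2
          omega
    · rw [dv_ne h1, mul_zero, zero_sub] at hne
      have h2 : v = fD (Fin.last n).castSucc := by
        by_contra h
        rw [dv_ne (Ne.symm h), zero_mul, neg_zero] at hne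
        exact hne rfl
      subst h2
      right; right
      rw [dv_same, one_mul] at hne
      exact ⟨rhoD_of_Psi_wv S z₁ z₂ _ (neg_ne_zero.mp hne), hpre'⟩

theorem m_X_ne (k : Fin n ⊕ Unit) : ∃ x ∈ XKM S hab p k, x ≠ 1 := by
  rcases k with k | k
  · refine ⟨xLm S hab p k 1, ⟨1, rfl⟩, fun h => ?_⟩
    have h1 : (xL k 1 : MG n F a b) = 1 := congrArg Subtype.val h
    have h2 := xL_me_j (a := a) (b := b) k (1 : F)
    rw [h1, gact_one] at h2
    have h3 := congrFun h2 (ce k.castSucc)
    rw [Pi.sub_apply, Pi.smul_apply, me_same, me_ne (ce_ne_succ k)] at h3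
    simp at h3
  · refine ⟨xSm S hab 1 0, ⟨1, 0, rfl⟩, fun h => ?_⟩
    have h1 : (xS 1 0 : MG n F a b) = 1 := congrArg Subtype.val h
    have h2 := xS_v4 (n := n) (a := a) (b := b) 1 0 0 1 0 0
    rw [h1, gact_one] at h2
    have h3 := congrFun h2 (cz 0)
    unfold v4 at h3
    simp only [Pi.add_apply, Pi.smul_apply, wv_cz0, me_ne (show (cz 0 : MIdx n) ≠ ce _ by simp),
      mf_ne (show (cz 0 : MIdx n) ≠ cf _ by simp)] at h3
    simp at h3

theorem m_zer (g : MmG n F a b) (hg : (matM S g).BlockTriangular (rho (n + 1))) (u v : DIdx n)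
    (huv : u ≠ v) (h : rhoD n u = rhoD n v) : matM S g u v = 0 := by
  rcases rhoD_eq huv h with ⟨rfl, rfl⟩ | ⟨rfl, rfl⟩
  · exact dtri_zer hg (matM_form S g)
  · exact dtri_f_e hg _ _

end Setup

end Cfsg.Agent.Lib.Helper1.MBN
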