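import Mathlib
import Cfsg.Agent.Lib.Helper1.MBN11

/-!
# Type `²D_{n+2}`: the reflections are monomial over `K`
-/

set_option autoImplicit false
set_option linter.unusedSectionVars false
set_option linter.unusedSimpArgs false

namespace Cfsg.Agent.Lib.Helper1.MBN

open Matrix Cfsg.Agent.Lib.Helper14.MatBN Cfsg.Agent.Lib.Helper14.SpBN Cfsg.Agent.Lib.Helper6
  Cfsg.Agent.Lib.Helper14.TriMono Cfsg.Agent.Lib.Helper1.OBN Cfsg.Agent.Lib.Helper1.MatBND
  Cfsg.Agent.Lib.Helper1.DBN Cfsg.Agent.Lib.Helper16 Cfsg.Agent.Lib.Helper15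

variable {n : ℕ} {F : Type*} [Field F] {K : Type*} [Field K] [Algebra F K] {a b : F}
  (S : SplitDat F K a b)

theorem isMono_of_cols (M : Matrix (DIdx n) (DIdx n) K) (π : Equiv.Perm (DIdx n))
    (h : ∀ j, ∃ c : K, M *ᵥ dv j = c • dv (π j)) : IsMono M π := by
  intro i j hij
  obtain ⟨c, hc⟩ := h j
  have h1 : M i j = (M *ᵥ dv j) i := by
    rw [Matrix.mulVec_single_one]
    rfl
  rw [h1, hc, Pi.smul_apply, dv_ne hij, smul_zero]

section Setup

variable [Fintype F]
  (hab : ∀ x y : F, x ^ 2 + a * x * y + b * y ^ 2 = 0 → x = 0 ∧ y = 0)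
  (p : ℕ) [Fact p.Prime] [CharP F p]

theorem mav_sLm (k : Fin n) (v : MIdx n → F) :
    mav (sLm S hab p k) v = gact (QM n F a b) (nL k 1) v := rfl

theorem mav_sSm (v : MIdx n → F) :
    mav (sSm S hab) v = gact (QM n F a b) (nS 1 0) v := rfl

theorem mav_xLm (k : Fin n) (t : F) (v : MIdx n → F) :
    mav (xLm S hab p k t) v = gact (QM n F a b) (xL k t) v := rfl

theorem mav_xSm (z₁ z₂ : F) (v : MIdx n → F) :
    mav (xSm S hab z₁ z₂) v = gact (QM n F a b) (xS z₁ z₂) v := rfl

theorem sLm_col (k : Fin n) (j : DIdx n) :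
    ∃ c : K, matM S (sLm S hab p k) *ᵥ dv j = c • dv (piS (n := n + 1) k.castSucc j) := by
  have hk1 : (k.castSucc.castSucc : Fin (n + 2)) ≠ lst n :=
    (Fin.castSucc_lt_last _).ne
  have hk2 : (k.castSucc.succ : Fin (n + 2)) ≠ lst n := by
    rw [Fin.succ_castSucc]
    exact (Fin.castSucc_lt_last _).ne
  have hz0 : mav (sLm S hab p k) (mz 0) = mz 0 := by
    rw [mav_sLm]
    exact nL_fix k 1 _ (Pi.single_eq_of_ne (by simp) _) (Pi.single_eq_of_ne (by simp) _)
      (Pi.single_eq_of_ne (by simp) _) (Pi.single_eq_of_ne (by simp) _)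
  have hz1 : mav (sLm S hab p k) (mz 1) = mz 1 := by
    rw [mav_sLm]
    exact nL_fix k 1 _ (Pi.single_eq_of_ne (by simp) _) (Pi.single_eq_of_ne (by simp) _)
      (Pi.single_eq_of_ne (by simp) _) (Pi.single_eq_of_ne (by simp) _)
  rcases j with l | l
  · rw [piS_inl]
    refine Fin.lastCases ?_ (fun l' => ?_) l
    · refine ⟨1, ?_⟩
      rw [show (Sum.inl (Fin.last (n + 1)) : DIdx n) = eD (lst n) from rfl, matM_col_elst, hz0, hz1,
        ← dv_elst S, Equiv.swap_apply_of_ne_of_ne (Ne.symm hk1) (Ne.symm hk2), one_smul]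
    · rw [show (Sum.inl l'.castSucc : DIdx n) = eD l'.castSucc from rfl, matM_col_e, mav_sLm]
      by_cases h1 : l' = k.castSucc
      · subst h1
        refine ⟨algebraMap F K (-1), ?_⟩
        rw [nL_me_i k 1 one_ne_zero, Psi_smul, Psi_me, Equiv.swap_apply_left, Fin.succ_castSucc]
      · by_cases h2 : l' = k.succ
        · subst h2
          refine ⟨algebraMap F K (1⁻¹), ?_⟩
          rw [nL_me_j k 1 one_ne_zero, Psi_smul, Psi_me, ← Fin.succ_castSucc,
            Equiv.swap_apply_right]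
        · refine ⟨1, ?_⟩
          rw [nL_fix k 1 _ (me_ne (by simpa using Ne.symm h2)) (me_ne (by simp))
            (me_ne (by simpa using Ne.symm h1)) (me_ne (by simp)), Psi_me, one_smul,
            Equiv.swap_apply_of_ne_of_ne]
          · intro h
            exact h1 (Fin.castSucc_injective _ h)
          · rw [Fin.succ_castSucc]
            intro h
            exact h2 (Fin.castSucc_injective _ h)
  · rw [piS_inr]
    refine Fin.lastCases ?_ (fun l' => ?_) l
    · refine ⟨1, ?_⟩
      rw [show (Sum.inr (Fin.last (n + 1)) : DIdx n) = fD (lst n) from rfl, matM_col_flst, hz0, hz1,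
        ← dv_flst S, Equiv.swap_apply_of_ne_of_ne (Ne.symm hk1) (Ne.symm hk2), one_smul]
    · rw [show (Sum.inr l'.castSucc : DIdx n) = fD l'.castSucc from rfl, matM_col_f, mav_sLm]
      by_cases h1 : l' = k.castSucc
      · subst h1
        refine ⟨algebraMap F K (-1⁻¹), ?_⟩
        rw [nL_mf_i k 1 one_ne_zero, Psi_smul, Psi_mf, Equiv.swap_apply_left, Fin.succ_castSucc]
      · by_cases h2 : l' = k.succ
        · subst h2
          refine ⟨algebraMap F K 1, ?_⟩
          rw [nL_mf_j k 1 one_ne_zero, Psi_smul, Psi_mf, ← Fin.succ_castSucc,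
            Equiv.swap_apply_right]
        · refine ⟨1, ?_⟩
          rw [nL_fix k 1 _ (mf_ne (by simp)) (mf_ne (by simpa using Ne.symm h1))
            (mf_ne (by simp)) (mf_ne (by simpa using Ne.symm h2)), Psi_mf, one_smul,
            Equiv.swap_apply_of_ne_of_ne]
          · intro h
            exact h1 (Fin.castSucc_injective _ h)
          · rw [Fin.succ_castSucc]
            intro h
            exact h2 (Fin.castSucc_injective _ h)

theorem qW_one_zero : qW a b 1 0 = 1 := by
  unfold qW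
  ring

theorem mz0_eq : (mz 0 : MIdx n → F) = wv 1 0 := by
  unfold wv
  simp

theorem mz1_eq : (mz 1 : MIdx n → F) = wv 0 1 := by
  unfold wv
  simp

theorem sSm_mz0 : mav (sSm (n := n) S hab) (mz 0) = wv (-1) 0 := by
  rw [mav_sSm, mz0_eq, nS_wv 1 0 (by rw [qW_one_zero]; exact one_ne_zero), qW_one_zero]
  unfold bW
  congr 1 <;> ring

theorem sSm_mz1 : mav (sSm (n := n) S hab) (mz 1) = wv (-a) 1 := by
  rw [mav_sSm, mz1_eq, nS_wv 1 0 (by rw [qW_one_zero]; exact one_ne_zero), qW_one_zero]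
  unfold bW
  congr 1 <;> ring

theorem sSm_col (j : DIdx n) :
    ∃ c : K, matM S (sSm S hab) *ᵥ dv j = c • dv (piM n j) := by
  have hq : qW a b 1 0 ≠ 0 := by rw [qW_one_zero]; exact one_ne_zero
  have hβ := beta_sub_ne S
  rcases j with l | l
  · refine Fin.lastCases ?_ (fun l' => ?_) l
    · refine ⟨-1, ?_⟩
      rw [show (Sum.inl (Fin.last (n + 1)) : DIdx n) = eD (lst n) from rfl, matM_col_elst,
        sSm_mz0, sSm_mz1, Psi_wv, Psi_wv, piM_e_of_le _ (by simp)]
      have ha : algebraMap F K a = S.β + S.β' := S.hsum.symm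
      funext r
      simp only [Pi.smul_apply, Pi.sub_apply, Pi.add_apply, smul_eq_mul, map_neg, map_one,
        map_zero, map_add, ha]
      field_simp
      ring
    · rw [show (Sum.inl l'.castSucc : DIdx n) = eD l'.castSucc from rfl, matM_col_e, mav_sSm]
      by_cases h1 : l' = Fin.last n
      · subst h1
        refine ⟨algebraMap F K (-(qW a b 1 0)), ?_⟩
        rw [nS_me 1 0 hq, Psi_smul, Psi_mf, piM_e_of_le _ (by simp)]
      · refine ⟨1, ?_⟩
        rw [nS_fix 1 0 _ (me_ne (by simpa using Ne.symm h1)) (me_ne (by simp)) (me_ne (by simp))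
          (me_ne (by simp)), Psi_me, one_smul, piM_e_of_lt]
        simp only [Fin.val_castSucc]
        exact lt_of_le_of_ne (Nat.lt_succ_iff.mp l'.2) (fun h => h1 (Fin.ext h))
  · refine Fin.lastCases ?_ (fun l' => ?_) l
    · refine ⟨-1, ?_⟩
      rw [show (Sum.inr (Fin.last (n + 1)) : DIdx n) = fD (lst n) from rfl, matM_col_flst,
        sSm_mz0, sSm_mz1, Psi_wv, Psi_wv, piM_f_of_le _ (by simp)]
      have ha : algebraMap F K a = S.β + S.β' := S.hsum.symm
      funext r
      simp only [Pi.smul_apply, Pi.sub_apply, Pi.add_apply, smul_eq_mul, map_neg, map_one,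
        map_zero, map_add, ha]
      field_simp
      ring
    · rw [show (Sum.inr l'.castSucc : DIdx n) = fD l'.castSucc from rfl, matM_col_f, mav_sSm]
      by_cases h1 : l' = Fin.last n
      · subst h1
        refine ⟨algebraMap F K (-(qW a b 1 0)⁻¹), ?_⟩
        rw [nS_mf 1 0 hq, Psi_smul, Psi_me, piM_f_of_le _ (by simp)]
      · refine ⟨1, ?_⟩
        rw [nS_fix 1 0 _ (mf_ne (by simp)) (mf_ne (by simpa using Ne.symm h1)) (mf_ne (by simp))
          (mf_ne (by simp)), Psi_mf, one_smul, piM_f_of_lt]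
        simp only [Fin.val_castSucc]
        exact lt_of_le_of_ne (Nat.lt_succ_iff.mp l'.2) (fun h => h1 (Fin.ext h))

theorem m_s_mono (k : Fin n ⊕ Unit) : IsMono (matM S (sKM S hab p k)) (piKM k) := by
  rcases k with k | k
  · exact isMono_of_cols _ _ (sLm_col S hab p k)
  · exact isMono_of_cols _ _ (sSm_col S hab)

end Setup

end Cfsg.Agent.Lib.Helper1.MBN
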