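import Mathlib
import Cfsg.Agent.Lib.Helper1.MBN12

/-!
# Type `²D_{n+2}`: the axiom `hA`
-/

set_option autoImplicit false
set_option linter.unusedSectionVars false
set_option linter.unusedSimpArgs false

namespace Cfsg.Agent.Lib.Helper1.MBN

open Matrix Cfsg.Agent.Lib.Helper14.MatBN Cfsg.Agent.Lib.Helper14.SpBN Cfsg.Agent.Lib.Helper6
  Cfsg.Agent.Lib.Helper14.TriMono Cfsg.Agent.Lib.Helper1.OBN Cfsg.Agent.Lib.Helper1.MatBND
  Cfsg.Agent.Lib.Helper1.DBN Cfsg.Agent.Lib.Helper16 Cfsg.Agent.Lib.Helper15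

variable {n : ℕ} {F : Type*} [Field F] {K : Type*} [Field K] [Algebra F K] {a b : F}
  (S : SplitDat F K a b)

section Setup

variable [Fintype F]
  (hab : ∀ x y : F, x ^ 2 + a * x * y + b * y ^ 2 = 0 → x = 0 ∧ y = 0)
  (p : ℕ) [Fact p.Prime] [CharP F p]

theorem xLm_inv_me_j (k : Fin n) (t : F) :
    mav (xLm S hab p k t)⁻¹ (me k.succ) = me k.succ + t • me k.castSucc := by
  apply mav_inv_of
  rw [mav_add, mav_smul, mav_xLm, mav_xLm, xL_me_j, xL_me_i]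
  abel

theorem xLm_inv_fix (k : Fin n) (t : F) (v : MIdx n → F) (h1 : v (ce k.succ) = 0)
    (h2 : v (cf k.castSucc) = 0) : mav (xLm S hab p k t)⁻¹ v = v := by
  apply mav_inv_of
  rw [mav_xLm]
  exact xL_fix k t v h1 h2

theorem xLm_inv (k : Fin n) (t : F) : (xLm S hab p k t)⁻¹ = xLm S hab p k (-t) := by
  rw [inv_eq_iff_mul_eq_one]
  apply Subtype.ext
  apply iso_ext_gact
  intro v
  show gact (QM n F a b) (xL k t * xL k (-t)) v = gact (QM n F a b) 1 v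
  rw [gact_mul, gact_one, gact_xL, gact_xL]
  simp only [Pi.add_apply, Pi.sub_apply, Pi.smul_apply, me_ne (ce_ne_succ k).symm,
    me_ne (show (cf k.castSucc : MIdx n) ≠ ce _ by simp),
    mf_ne (show (ce k.succ : MIdx n) ≠ cf _ by simp), mf_ne (cf_ne_succ k)]
  funext r
  simp only [Pi.add_apply, Pi.sub_apply, Pi.smul_apply, smul_eq_mul]
  ring

theorem xSm_inv_wv (z₁ z₂ t₁ t₂ : F) :
    mav (xSm (n := n) S hab z₁ z₂)⁻¹ (wv t₁ t₂) =
      wv t₁ t₂ - bW a b z₁ z₂ t₁ t₂ • me (Fin.last n) := by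
  apply mav_inv_of
  rw [mav_xSm]
  have e : (wv t₁ t₂ - bW a b z₁ z₂ t₁ t₂ • me (Fin.last n) : MIdx n → F) =
      v4 (-(bW a b z₁ z₂ t₁ t₂)) 0 t₁ t₂ := by
    unfold v4
    funext r
    simp only [Pi.add_apply, Pi.sub_apply, Pi.smul_apply, smul_eq_mul]
    ring
  rw [e, xS_v4]
  unfold v4
  funext r
  simp only [Pi.add_apply, Pi.sub_apply, Pi.smul_apply, smul_eq_mul]
  ring_nf

theorem xSm_inv (z₁ z₂ : F) :
    (xSm (n := n) S hab z₁ z₂)⁻¹ = xSm S hab (-z₁) (-z₂) := by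
  rw [inv_eq_iff_mul_eq_one]
  apply Subtype.ext
  apply iso_ext_gact
  intro v
  show gact (QM n F a b) (xS z₁ z₂ * xS (-z₁) (-z₂)) v = gact (QM n F a b) 1 v
  rw [gact_mul, gact_one, gact_xS, gact_xS, polar_wv, polar_wv]
  simp only [Pi.add_apply, Pi.smul_apply, me_ne (show (cf (Fin.last n) : MIdx n) ≠ ce _ by simp),
    me_ne (show (cz 0 : MIdx n) ≠ ce _ by simp), me_ne (show (cz 1 : MIdx n) ≠ ce _ by simp),
    wv_cf, wv_cz0, wv_cz1]
  unfold wv qW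
  funext r
  simp only [Pi.add_apply, Pi.sub_apply, Pi.smul_apply, smul_eq_mul]
  ring

/-- the diagonal entries of a triangular element are rational -/
theorem mdiag_e (g : MmG n F a b) (i j : Fin (n + 1)) :
    matM S g (eD i.castSucc) (eD j.castSucc) = algebraMap F K (mav g (me j) (ce i)) := by
  rw [matM_entry, matM_col_e, Psi_e]

theorem m_hA_long (k : Fin n) (g : MmG n F a b)
    (hb : (matM S g).BlockTriangular (rho (n + 1))) :
    ∃ x ∈ XKM S hab p (Sum.inl k), ∀ u v, rhoD n u < rhoD n v →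
      rhoD n (piKM (Sum.inl k) v) ≤ rhoD n (piKM (Sum.inl k) u) →
      matM S (g * x⁻¹) u v = 0 := by
  have hQ := matM_form S g
  have hd := dtri_diag_e_ne hb hQ k.castSucc.castSucc
  rw [mdiag_e] at hd
  have hd' : mav g (me k.castSucc) (ce k.castSucc) ≠ 0 := fun h => hd (by rw [h, map_zero])
  set t : F := -(mav g (me k.succ) (ce k.castSucc)) / mav g (me k.castSucc) (ce k.castSucc)
    with ht
  refine ⟨xLm S hab p k t, ⟨t, rfl⟩, ?_⟩
  have hU' : (matM S (g * (xLm S hab p k t)⁻¹)).BlockTriangular (rho (n + 1)) := by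
    rw [map_mul, xLm_inv]
    exact hb.mul (m_X_upper S hab p (Sum.inl k) _ ⟨-t, rfl⟩)
  have hQ' := matM_form S (g * (xLm S hab p k t)⁻¹)
  have e0 : matM S (g * (xLm S hab p k t)⁻¹) (eD k.castSucc.castSucc) (eD k.castSucc.succ) = 0 := by
    rw [Fin.succ_castSucc, mdiag_e, mav_mul, xLm_inv_me_j, mav_add, mav_smul, Pi.add_apply,
      Pi.smul_apply, smul_eq_mul, ht]
    rw [div_mul_cancel₀ _ hd', add_neg_cancel, map_zero]
  have e1 : matM S (g * (xLm S hab p k t)⁻¹) (fD k.castSucc.succ) (fD k.castSucc.castSucc) = 0 := by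
    have h := dtri_adj hU' hQ' k.castSucc
    rw [e0, zero_mul, zero_add] at h
    exact (mul_eq_zero.mp h).resolve_left (dtri_diag_e_ne hU' hQ' _)
  intro u v h1 h2
  rcases winv_piSM k u v h1 h2 with ⟨rfl, rfl⟩ | ⟨rfl, rfl⟩
  · exact e0
  · exact e1

theorem mdiag_e_elst (g : MmG n F a b) (i : Fin (n + 1)) :
    matM S g (eD i.castSucc) (eD (lst n)) =
      (S.β' - S.β)⁻¹ * (S.β' * algebraMap F K (mav g (mz 0) (ce i)) -
        algebraMap F K (mav g (mz 1) (ce i))) := by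
  rw [matM_entry, matM_col_elst, Pi.smul_apply, Pi.sub_apply, Pi.smul_apply, Psi_e, Psi_e,
    smul_eq_mul, smul_eq_mul]

theorem mdiag_e_flst (g : MmG n F a b) (i : Fin (n + 1)) :
    matM S g (eD i.castSucc) (fD (lst n)) =
      (S.β' - S.β)⁻¹ * (algebraMap F K (mav g (mz 1) (ce i)) -
        S.β * algebraMap F K (mav g (mz 0) (ce i))) := by
  rw [matM_entry, matM_col_flst, Pi.smul_apply, Pi.sub_apply, Pi.smul_apply, Psi_e, Psi_e,
    smul_eq_mul, smul_eq_mul]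

theorem m_hA_short (g : MmG n F a b)
    (hb : (matM S g).BlockTriangular (rho (n + 1))) :
    ∃ x ∈ XKM S hab p (Sum.inr ()), ∀ u v, rhoD n u < rhoD n v →
      rhoD n (piKM (n := n) (Sum.inr ()) v) ≤ rhoD n (piKM (n := n) (Sum.inr ()) u) →
      matM S (g * x⁻¹) u v = 0 := by
  have hQ := matM_form S g
  have hd := dtri_diag_e_ne hb hQ (pre n)
  rw [show pre n = (Fin.last n).castSucc from rfl, mdiag_e] at hd
  have hd' : mav g (me (Fin.last n)) (ce (Fin.last n)) ≠ 0 := fun h => hd (by rw [h, map_zero])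
  have hD := disc_ne S
  obtain ⟨d, hdd⟩ : ∃ d, d = mav g (me (Fin.last n)) (ce (Fin.last n)) := ⟨_, rfl⟩
  obtain ⟨c₀, hc₀⟩ : ∃ c, c = mav g (mz 0) (ce (Fin.last n)) := ⟨_, rfl⟩
  obtain ⟨c₁, hc₁⟩ : ∃ c, c = mav g (mz 1) (ce (Fin.last n)) := ⟨_, rfl⟩
  obtain ⟨D, hDD⟩ : ∃ D, D = 4 * b - a ^ 2 := ⟨_, rfl⟩
  rw [← hdd] at hd'
  rw [← hDD] at hD
  set z₁ : F := (2 * b * c₀ - a * c₁) / (d * D) with hz₁
  set z₂ : F := (2 * c₁ - a * c₀) / (d * D) with hz₂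
  refine ⟨xSm S hab z₁ z₂, ⟨z₁, z₂, rfl⟩, ?_⟩
  have hU' : (matM S (g * (xSm S hab z₁ z₂)⁻¹)).BlockTriangular (rho (n + 1)) := by
    rw [map_mul, xSm_inv]
    exact hb.mul (m_X_upper S hab p (Sum.inr ()) _ ⟨-z₁, -z₂, rfl⟩)
  have hQ' := matM_form S (g * (xSm S hab z₁ z₂)⁻¹)
  have k0 : mav (g * (xSm S hab z₁ z₂)⁻¹) (mz 0) (ce (Fin.last n)) = 0 := by
    rw [mav_mul, mz0_eq, xSm_inv_wv, mav_sub, mav_smul, ← mz0_eq, Pi.sub_apply, Pi.smul_apply,
      smul_eq_mul, ← hdd, ← hc₀, hz₁, hz₂]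
    unfold bW
    field_simp
    rw [hDD]
    ring
  have k1 : mav (g * (xSm S hab z₁ z₂)⁻¹) (mz 1) (ce (Fin.last n)) = 0 := by
    rw [mav_mul, mz1_eq, xSm_inv_wv, mav_sub, mav_smul, ← mz1_eq, Pi.sub_apply, Pi.smul_apply,
      smul_eq_mul, ← hdd, ← hc₁, hz₁, hz₂]
    unfold bW
    field_simp
    rw [hDD]
    ring
  have e0 : matM S (g * (xSm S hab z₁ z₂)⁻¹) (eD (pre n)) (eD (lst n)) = 0 := by
    rw [show pre n = (Fin.last n).castSucc from rfl, mdiag_e_elst, k0, k1]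
    simp
  have e0' : matM S (g * (xSm S hab z₁ z₂)⁻¹) (eD (pre n)) (fD (lst n)) = 0 := by
    rw [show pre n = (Fin.last n).castSucc from rfl, mdiag_e_flst, k0, k1]
    simp
  have e1 : matM S (g * (xSm S hab z₁ z₂)⁻¹) (fD (lst n)) (fD (pre n)) = 0 := by
    have h := dtri_adj hU' hQ' (Fin.last n)
    rw [Fin.succ_last] at h
    rw [show (Fin.last n).castSucc = pre n from rfl, show Fin.last (n + 1) = lst n from rfl, e0,
      zero_mul, zero_add] at h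
    exact (mul_eq_zero.mp h).resolve_left (dtri_diag_e_ne hU' hQ' _)
  have e2 : matM S (g * (xSm S hab z₁ z₂)⁻¹) (eD (lst n)) (fD (pre n)) = 0 := by
    have h := dtri_L hU' hQ'
    rw [e0', zero_mul, zero_add] at h
    exact (mul_eq_zero.mp h).resolve_left (dtri_diag_f_ne hU' hQ' _)
  have e3 : matM S (g * (xSm S hab z₁ z₂)⁻¹) (eD (pre n)) (fD (pre n)) = 0 := by
    apply dtri_pre hU' hQ'
    rw [e2, zero_mul]
  intro u v h1 h2
  rcases winv_piM u v h1 h2 with ⟨hu, hv⟩ | ⟨hu, hv⟩ | ⟨hu, hv⟩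
  · rw [rhoD_eq_pre hu]
    rcases rhoD_eq_mid hv with rfl | rfl
    · exact e0
    · exact e0'
  · rw [rhoD_eq_pre hu, rhoD_eq_pre' hv]
    exact e3
  · rw [rhoD_eq_pre' hv]
    rcases rhoD_eq_mid hu with rfl | rfl
    · exact e2
    · exact e1

theorem m_hA (k : Fin n ⊕ Unit) (g : MmG n F a b)
    (hb : (matM S g).BlockTriangular (rho (n + 1))) :
    ∃ x ∈ XKM S hab p k, ∀ u v, rhoD n u < rhoD n v →
      rhoD n (piKM k v) ≤ rhoD n (piKM k u) → matM S (g * x⁻¹) u v = 0 := by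
  rcases k with k | k
  · exact m_hA_long S hab p k g hb
  · exact m_hA_short S hab p g hb

end Setup

end Cfsg.Agent.Lib.Helper1.MBN
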