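import Mathlib
import Cfsg.Agent.Lib.Helper1.MBN13

/-!
# Type `²D_{n+2}`: the axiom `hC`
-/

set_option autoImplicit false
set_option linter.unusedSectionVars false
set_option linter.unusedSimpArgs false

namespace Cfsg.Agent.Lib.Helper1.MBN

open Matrix Cfsg.Agent.Lib.Helper14.MatBN Cfsg.Agent.Lib.Helper14.SpBN Cfsg.Agent.Lib.Helper6
  Cfsg.Agent.Lib.Helper14.TriMono Cfsg.Agent.Lib.Helper1.OBN Cfsg.Agent.Lib.Helper1.MatBND
  Cfsg.Agent.Lib.Helper1.DBN Cfsg.Agent.Lib.Helper16 Cfsg.Agent.Lib.Helper15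

variable {n : ℕ} {F : Type*} [Field F] {K : Type*} [Field K] [Algebra F K] {a b : F}
  (S : SplitDat F K a b)

section Setup

variable [Fintype F]
  (hab : ∀ x y : F, x ^ 2 + a * x * y + b * y ^ 2 = 0 → x = 0 ∧ y = 0)
  (p : ℕ) [Fact p.Prime] [CharP F p]

section Long

variable (k : Fin n)

theorem sLm_me_i : mav (sLm S hab p k) (me k.castSucc) = -me k.succ := by
  rw [mav_sLm, nL_me_i k 1 one_ne_zero]
  simp

theorem sLm_me_j : mav (sLm S hab p k) (me k.succ) = me k.castSucc := by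
  rw [mav_sLm, nL_me_j k 1 one_ne_zero]
  simp

theorem sLm_inv_me_i : mav (sLm S hab p k)⁻¹ (me k.castSucc) = me k.succ :=
  mav_inv_of _ _ _ (sLm_me_j S hab p k)

theorem sLm_inv_me_j : mav (sLm S hab p k)⁻¹ (me k.succ) = -me k.castSucc := by
  apply mav_inv_of
  rw [mav_neg, sLm_me_i, neg_neg]

theorem xLm_me_i (t : F) : mav (xLm S hab p k t) (me k.castSucc) = me k.castSucc := by
  rw [mav_xLm, xL_me_i]

theorem xLm_me_j (t : F) :
    mav (xLm S hab p k t) (me k.succ) = me k.succ - t • me k.castSucc := by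
  rw [mav_xLm, xL_me_j]

theorem xLm_inv_me_i (t : F) : mav (xLm S hab p k t)⁻¹ (me k.castSucc) = me k.castSucc :=
  mav_inv_of _ _ _ (xLm_me_i S hab p k t)

theorem sLm_fix_me (j : Fin (n + 1)) (h1 : j ≠ k.castSucc) (h2 : j ≠ k.succ) :
    mav (sLm S hab p k) (me j) = me j := by
  rw [mav_sLm]
  exact nL_fix k 1 _ (me_ne (by simpa using Ne.symm h2)) (me_ne (by simp))
    (me_ne (by simpa using Ne.symm h1)) (me_ne (by simp))

theorem sLm_inv_fix_me (j : Fin (n + 1)) (h1 : j ≠ k.castSucc) (h2 : j ≠ k.succ) :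
    mav (sLm S hab p k)⁻¹ (me j) = me j :=
  mav_inv_of _ _ _ (sLm_fix_me S hab p k j h1 h2)

theorem xLm_fix_me (t : F) (j : Fin (n + 1)) (h2 : j ≠ k.succ) :
    mav (xLm S hab p k t) (me j) = me j := by
  rw [mav_xLm]
  exact xL_fix k t _ (me_ne (by simpa using Ne.symm h2)) (me_ne (by simp))

theorem xLm_inv_fix_me (t : F) (j : Fin (n + 1)) (h2 : j ≠ k.succ) :
    mav (xLm S hab p k t)⁻¹ (me j) = me j :=
  mav_inv_of _ _ _ (xLm_fix_me S hab p k t j h2)

theorem xLm_zero : xLm S hab p k 0 = 1 := by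
  apply Subtype.ext
  apply iso_ext_gact
  intro v
  show gact (QM n F a b) (xL k 0) v = gact (QM n F a b) 1 v
  rw [gact_xL, gact_one]
  simp

end Long

section Short

theorem sSm_v4 (α β t₁ t₂ : F) :
    mav (sSm (n := n) S hab) (v4 α β t₁ t₂) = v4 (-β) (-α) (-t₁ - a * t₂) t₂ := by
  rw [mav_sSm, nS_v4 1 0 (by rw [qW_one_zero]; exact one_ne_zero), qW_one_zero]
  unfold bW
  congr 1 <;> ring

theorem sSm_inv_v4 (α β t₁ t₂ : F) :
    mav (sSm (n := n) S hab)⁻¹ (v4 α β t₁ t₂) = v4 (-β) (-α) (-t₁ - a * t₂) t₂ := by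
  apply mav_inv_of
  rw [sSm_v4]
  congr 1 <;> ring

theorem xSm_v4 (z₁ z₂ α β t₁ t₂ : F) :
    mav (xSm (n := n) S hab z₁ z₂) (v4 α β t₁ t₂) =
      v4 (α - β * qW a b z₁ z₂ + bW a b z₁ z₂ t₁ t₂) β (t₁ - β * z₁) (t₂ - β * z₂) := by
  rw [mav_xSm, xS_v4]

theorem xSm_inv_v4 (z₁ z₂ α β t₁ t₂ : F) :
    mav (xSm (n := n) S hab z₁ z₂)⁻¹ (v4 α β t₁ t₂) =
      v4 (α - β * qW a b z₁ z₂ - bW a b z₁ z₂ t₁ t₂) β (t₁ + β * z₁) (t₂ + β * z₂) := by
  rw [xSm_inv, xSm_v4]
  unfold qW bW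
  congr 1 <;> ring

theorem sSm_fix_me (j : Fin (n + 1)) (h : j ≠ Fin.last n) :
    mav (sSm S hab) (me j) = me j := by
  rw [mav_sSm]
  exact nS_fix 1 0 _ (me_ne (by simpa using Ne.symm h)) (me_ne (by simp)) (me_ne (by simp))
    (me_ne (by simp))

theorem sSm_inv_fix_me (j : Fin (n + 1)) (h : j ≠ Fin.last n) :
    mav (sSm S hab)⁻¹ (me j) = me j :=
  mav_inv_of _ _ _ (sSm_fix_me S hab j h)

theorem xSm_fix_me (z₁ z₂ : F) (j : Fin (n + 1)) :
    mav (xSm S hab z₁ z₂) (me j) = me j := by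
  rw [mav_xSm]
  exact xS_fix z₁ z₂ _ (me_ne (by simp)) (me_ne (by simp)) (me_ne (by simp))

theorem xSm_inv_fix_me (z₁ z₂ : F) (j : Fin (n + 1)) :
    mav (xSm S hab z₁ z₂)⁻¹ (me j) = me j :=
  mav_inv_of _ _ _ (xSm_fix_me S hab z₁ z₂ j)

theorem xSm_zero : xSm (n := n) S hab 0 0 = 1 := by
  apply Subtype.ext
  apply iso_ext_gact
  intro v
  show gact (QM n F a b) (xS 0 0) v = gact (QM n F a b) 1 v
  rw [gact_xS, gact_one, wv_zero]
  unfold qW
  simp

end Short

section Tri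

variable [Fintype K] [CharP K p] (hK : Fintype.card K ≠ 2)

include hK in
theorem m_hC_long (k : Fin n) (x : MmG n F a b) (hx : x ∈ XKM S hab p (Sum.inl k)) :
    x = 1 ∨ ∃ b₁ : MmG n F a b, (matM S b₁).BlockTriangular (rho (n + 1)) ∧
      ∃ x₁ ∈ XKM S hab p (Sum.inl k),
        sKM S hab p (Sum.inl k) * x * (sKM S hab p (Sum.inl k))⁻¹ =
          b₁ * sKM S hab p (Sum.inl k) * x₁ := by
  obtain ⟨t, rfl⟩ := hx
  by_cases ht : t = 0
  · left
    rw [ht]
    exact xLm_zero S hab p k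
  · right
    have hne : k.castSucc ≠ k.succ := (Fin.castSucc_lt_succ (i := k)).ne
    set bL : MmG n F a b := sLm S hab p k * xLm S hab p k t * (sLm S hab p k)⁻¹ *
      (xLm S hab p k (-t⁻¹))⁻¹ * (sLm S hab p k)⁻¹ with hbL
    refine ⟨bL, ?_, xLm S hab p k (-t⁻¹), ⟨-t⁻¹, rfl⟩, ?_⟩
    · have h1 : (matM S (bL * xLm S hab p k t)).BlockTriangular (rho (n + 1)) := by
        apply mtri_of_cols S p hK _
          (fun j => if j = k.castSucc then -t⁻¹ else if j = k.succ then -t else 1)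
        intro j
        by_cases h1 : j = k.castSucc
        · subst h1
          rw [if_pos rfl, hbL]
          simp only [mav_mul, mav_add, mav_sub, mav_smul, mav_neg, sLm_me_i, sLm_me_j,
            sLm_inv_me_i, sLm_inv_me_j, xLm_me_i, xLm_me_j, xLm_inv_me_i, xLm_inv_me_j]
          funext r
          simp only [Pi.add_apply, Pi.sub_apply, Pi.neg_apply, Pi.smul_apply, smul_eq_mul]
          field_simp
          ring
        · by_cases h2 : j = k.succ
          · subst h2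
            rw [if_neg h1, if_pos rfl, hbL]
            simp only [mav_mul, mav_add, mav_sub, mav_smul, mav_neg, sLm_me_i, sLm_me_j,
              sLm_inv_me_i, sLm_inv_me_j, xLm_me_i, xLm_me_j, xLm_inv_me_i, xLm_inv_me_j]
            funext r
            simp only [Pi.add_apply, Pi.sub_apply, Pi.neg_apply, Pi.smul_apply, smul_eq_mul]
            field_simp
            ring
          · rw [if_neg h1, if_neg h2, hbL, one_smul]
            simp only [mav_mul, xLm_fix_me S hab p k _ j h2, sLm_inv_fix_me S hab p k j h1 h2,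
              xLm_inv_fix_me S hab p k _ j h2, sLm_fix_me S hab p k j h1 h2]
      have h2 : matM S bL = matM S (bL * xLm S hab p k t) * matM S (xLm S hab p k (-t)) := by
        rw [← map_mul, ← xLm_inv, mul_inv_cancel_right]
      rw [h2]
      exact h1.mul (m_X_upper S hab p (Sum.inl k) _ ⟨-t, rfl⟩)
    · show sLm S hab p k * xLm S hab p k t * (sLm S hab p k)⁻¹ = bL * sLm S hab p k * _
      rw [hbL]
      group

include hK in
theorem m_hC_short (x : MmG n F a b) (hx : x ∈ XKM S hab p (Sum.inr ())) :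
    x = 1 ∨ ∃ b₁ : MmG n F a b, (matM S b₁).BlockTriangular (rho (n + 1)) ∧
      ∃ x₁ ∈ XKM S hab p (Sum.inr ()),
        sKM S hab p (Sum.inr ()) * x * (sKM S hab p (Sum.inr ()))⁻¹ =
          b₁ * sKM S hab p (Sum.inr ()) * x₁ := by
  obtain ⟨z₁, z₂, rfl⟩ := hx
  by_cases hz : z₁ = 0 ∧ z₂ = 0
  · left
    rw [hz.1, hz.2]
    exact xSm_zero S hab
  · right
    have hq0 := qW_ne hab z₁ z₂ hz
    obtain ⟨q, hq⟩ : ∃ q, q = qW a b z₁ z₂ := ⟨_, rfl⟩
    rw [← hq] at hq0
    set bS : MmG n F a b := sSm S hab * xSm S hab z₁ z₂ * (sSm S hab)⁻¹ *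
      (xSm S hab (-(z₁ + a * z₂) / q) (z₂ / q))⁻¹ * (sSm S hab)⁻¹ with hbS
    refine ⟨bS, ?_, xSm S hab (-(z₁ + a * z₂) / q) (z₂ / q), ⟨_, _, rfl⟩, ?_⟩
    · apply mtri_of_cols S p hK _ (fun j => if j = Fin.last n then q⁻¹ else 1)
      intro j
      by_cases h1 : j = Fin.last n
      · subst h1
        rw [if_pos rfl, hbS, ← v4_me]
        simp only [mav_mul, sSm_v4, sSm_inv_v4, xSm_v4, xSm_inv_v4]
        have e : q⁻¹ • (v4 1 0 0 0 : MIdx n → F) = v4 q⁻¹ 0 0 0 := by
          unfold v4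
          rw [wv_zero]
          simp
        rw [e, ← hq]
        unfold qW bW
        congr 1
        · field_simp
          rw [hq]
          unfold qW
          ring
        · field_simp
          rw [hq]
          unfold qW
          ring
        · field_simp
          rw [hq]
          unfold qW
          ring
        · field_simp
          rw [hq]
          unfold qW
          ring
      · rw [if_neg h1, hbS, one_smul]
        simp only [mav_mul, sSm_fix_me S hab j h1, sSm_inv_fix_me S hab j h1,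
          xSm_fix_me S hab _ _ j, xSm_inv_fix_me S hab _ _ j]
    · show sSm S hab * xSm S hab z₁ z₂ * (sSm S hab)⁻¹ = bS * sSm S hab * _
      rw [hbS]
      group

include hK in
theorem m_hC (k : Fin n ⊕ Unit) (x : MmG n F a b) (hx : x ∈ XKM S hab p k) :
    x = 1 ∨ ∃ b₁ : MmG n F a b, (matM S b₁).BlockTriangular (rho (n + 1)) ∧
      ∃ x₁ ∈ XKM S hab p k, sKM S hab p k * x * (sKM S hab p k)⁻¹ = b₁ * sKM S hab p k * x₁ := by
  rcases k with k | k
  · exact m_hC_long S hab p hK k x hx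
  · exact m_hC_short S hab p hK x hx

end Tri

end Setup

end Cfsg.Agent.Lib.Helper1.MBN
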