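import Mathlib
import Cfsg.Agent.Lib.Helper1.MBN14

/-!
# Type `²D_{n+2}`: the rank one data and generation by `B` and `N`
-/

set_option autoImplicit false
set_option linter.unusedSectionVars false
set_option linter.unusedSimpArgs false

namespace Cfsg.Agent.Lib.Helper1.MBN

open Matrix Cfsg.Agent.Lib.Helper14.MatBN Cfsg.Agent.Lib.Helper14.SpBN Cfsg.Agent.Lib.Helper6
  Cfsg.Agent.Lib.Helper14.TriMono Cfsg.Agent.Lib.Helper1.OBN Cfsg.Agent.Lib.Helper1.MatBND
  Cfsg.Agent.Lib.Helper1.DBN Cfsg.Agent.Lib.Helper16 Cfsg.Agent.Lib.Helper15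

variable {n : ℕ} {F : Type*} [Field F] {K : Type*} [Field K] [Algebra F K] {a b : F}
  (S : SplitDat F K a b)

/-- `l` stabilises the lines `⟨e_j⟩`, `j < i` -/
def MStabE (i : ℕ) (l : MmG n F a b) : Prop :=
  ∀ j : Fin (n + 1), j.val < i → ∃ c : F, mav l (me j) = c • me j

theorem mstabE_one (i : ℕ) : MStabE i (1 : MmG n F a b) :=
  fun j _ => ⟨1, by rw [mav_one, one_smul]⟩

theorem MStabE.mul {i : ℕ} {l m : MmG n F a b} (hl : MStabE i l) (hm : MStabE i m) :
    MStabE i (l * m) := by
  intro j hj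
  obtain ⟨c, hc⟩ := hm j hj
  obtain ⟨d, hd⟩ := hl j hj
  exact ⟨c * d, by rw [mav_mul, hc, mav_smul, hd, smul_smul]⟩

theorem mstab_ne (l : MmG n F a b) (j : Fin (n + 1)) (c : F)
    (h : mav l (me j) = c • me j) : c ≠ 0 := by
  rintro rfl
  rw [zero_smul] at h
  have h1 := (gact_eq_zero_iff _ l.1 _).mp h
  have := congrFun h1 (ce j)
  rw [me_same] at this
  simp at this

section Setup

variable [Fintype F]
  (hab : ∀ x y : F, x ^ 2 + a * x * y + b * y ^ 2 = 0 → x = 0 ∧ y = 0)
  (p : ℕ) [Fact p.Prime] [CharP F p] [Fintype K] [CharP K p] (hK : Fintype.card K ≠ 2)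

/-- the rank one data of `Ω⁻_{2n+4}(F)` -/
noncomputable def mSetup : SetupD (MmG n F a b) (DIdx n) K (Fin n ⊕ Unit) where
  mat := matM S
  ρ := rhoD n
  ρ' := rho (n + 1)
  W := WM n
  s := sKM S hab p
  π := piKM
  X := XKM S hab p
  mat_inj := matM_injective S
  ρ'_inj := rho_inj
  fine := rhoD_fine
  zer := m_zer S
  π_mem := piKM_mem
  π_sq := piKM_sq
  π_ne := piKM_ne
  π_inj := piKM_inj
  s_mono := m_s_mono S hab p
  X_upper := m_X_upper S hab p
  X_diag := m_X_diag S hab p
  X_supp := m_X_supp S hab p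
  X_ne := m_X_ne S hab p
  orient := m_orient
  hA := m_hA S hab p
  hC := m_hC S hab p hK

/-- the subgroup generated by the triangular and the monomial elements -/
noncomputable def MLL : Subgroup (MmG n F a b) :=
  (mSetup S hab p hK).Bor ⊔ (mSetup (n := n) S hab p hK).Nn

theorem mem_MLL_of_tri (g : MmG n F a b) (hg : (matM S g).BlockTriangular (rho (n + 1))) :
    g ∈ MLL S hab p hK :=
  (le_sup_left : (mSetup S hab p hK).Bor ≤ MLL S hab p hK) hg

theorem sKM_mem_MLL (k : Fin n ⊕ Unit) : sKM S hab p k ∈ MLL (n := n) S hab p hK :=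
  (le_sup_right : (mSetup S hab p hK).Nn ≤ MLL S hab p hK) ((mSetup S hab p hK).s_mem_Nn k)

theorem mstabE_sL (i : ℕ) (k : Fin n) (hk : i ≤ k.val) :
    MStabE i (sKM S hab p (Sum.inl k)) := by
  intro j hj
  refine ⟨1, ?_⟩
  rw [one_smul]
  refine sLm_fix_me S hab p k j ?_ ?_
  · intro h
    rw [h] at hj
    simp at hj
    omega
  · intro h
    rw [h] at hj
    simp at hj
    omega

theorem mstabE_sS (i : ℕ) (hi : i ≤ n) : MStabE i (sKM (n := n) S hab p (Sum.inr ())) := by
  intro j hj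
  refine ⟨1, ?_⟩
  rw [one_smul]
  refine sSm_fix_me S hab j ?_
  intro h
  rw [h] at hj
  simp at hj
  omega

/-- `v` can be moved to a multiple of `e_i` by an element of `⟨B, N⟩` stabilising the lines
`⟨e_j⟩`, `j < i` -/
def MGood (i : Fin (n + 1)) (v : MIdx n → F) : Prop :=
  ∃ l ∈ MLL S hab p hK, MStabE i.val l ∧ ∃ d : F, mav l v = d • me i

variable {S hab p hK}

theorem mgood_of_move {i : Fin (n + 1)} {v : MIdx n → F} (m : MmG n F a b)
    (hm : m ∈ MLL S hab p hK) (hs : MStabE i.val m) (h : MGood S hab p hK i (mav m v)) :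
    MGood S hab p hK i v := by
  obtain ⟨l, hl, hls, d, hd⟩ := h
  exact ⟨l * m, (MLL S hab p hK).mul_mem hl hm, hls.mul hs, d, by rw [mav_mul, hd]⟩

theorem mgood_smul {i : Fin (n + 1)} {v : MIdx n → F} (c : F) (h : MGood S hab p hK i v) :
    MGood S hab p hK i (c • v) := by
  obtain ⟨l, hl, hls, d, hd⟩ := h
  exact ⟨l, hl, hls, c * d, by rw [mav_smul, hd, smul_smul]⟩

theorem mgood_e_self (i : Fin (n + 1)) : MGood S hab p hK i (me i) :=
  ⟨1, (MLL S hab p hK).one_mem, mstabE_one _, 1, by rw [mav_one, one_smul]⟩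

theorem mgood_e (i : Fin (n + 1)) : ∀ (d : ℕ) (j : Fin (n + 1)), j.val = i.val + d →
    MGood S hab p hK i (me j) := by
  intro d
  induction d with
  | zero =>
    intro j hj
    have : j = i := Fin.ext (by simpa using hj)
    rw [this]
    exact mgood_e_self i
  | succ d ih =>
    intro j hj
    have hlt : i.val + d < n := by have := j.2; omega
    set k : Fin n := ⟨i.val + d, hlt⟩ with hk
    have hjk : j = k.succ := Fin.ext (by simp [hk, hj]; omega)
    rw [hjk]
    apply mgood_of_move (sKM S hab p (Sum.inl k)) (sKM_mem_MLL S hab p hK _)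
      (mstabE_sL S hab p _ k (by simp [hk]))
    show MGood S hab p hK i (mav (sLm S hab p k) (me k.succ))
    rw [sLm_me_j]
    apply ih
    simp [hk]

theorem mgood_f (i : Fin (n + 1)) :
    ∀ (d : ℕ) (j : Fin (n + 1)), j.val + d = n → i ≤ j → MGood S hab p hK i (mf j) := by
  intro d
  induction d with
  | zero =>
    intro j hj hij
    have : j = Fin.last n := Fin.ext (by simpa using hj)
    rw [this]
    apply mgood_of_move (sKM S hab p (Sum.inr ())) (sKM_mem_MLL S hab p hK _)
      (mstabE_sS S hab p _ (Nat.lt_succ_iff.mp i.2))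
    show MGood S hab p hK i (mav (sSm S hab) (mf (Fin.last n)))
    rw [mav_sSm, nS_mf 1 0 (by rw [qW_one_zero]; exact one_ne_zero)]
    apply mgood_smul
    exact mgood_e i (n - i.val) (Fin.last n) (by simp only [Fin.val_last]; have := i.2; omega)
  | succ d ih =>
    intro j hj hij
    have hlt : j.val < n := by omega
    set k : Fin n := ⟨j.val, hlt⟩ with hk
    have hjk : j = k.castSucc := Fin.ext rfl
    rw [hjk]
    apply mgood_of_move (sKM S hab p (Sum.inl k)) (sKM_mem_MLL S hab p hK _)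
      (mstabE_sL S hab p _ k (by simpa [hk] using hij))
    show MGood S hab p hK i (mav (sLm S hab p k) (mf k.castSucc))
    rw [mav_sLm, nL_mf_i k 1 one_ne_zero]
    apply mgood_smul
    apply ih
    · simp [hk]; omega
    · rw [Fin.le_iff_val_le_val] at hij ⊢
      simp [hk]; omega

end Setup

end Cfsg.Agent.Lib.Helper1.MBN
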