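import Mathlib
import Cfsg.Agent.Lib.Helper1.MBN15

/-!
# Type `²D_{n+2}`: generation of `Ω⁻_{2n+4}(q)` by `B` and `N`
-/

set_option autoImplicit false
set_option linter.unusedSectionVars false
set_option linter.unusedSimpArgs false

namespace Cfsg.Agent.Lib.Helper1.MBN

open Matrix Cfsg.Agent.Lib.Helper14.MatBN Cfsg.Agent.Lib.Helper14.SpBN Cfsg.Agent.Lib.Helper6
  Cfsg.Agent.Lib.Helper14.TriMono Cfsg.Agent.Lib.Helper1.OBN Cfsg.Agent.Lib.Helper1.MatBND
  Cfsg.Agent.Lib.Helper1.DBN Cfsg.Agent.Lib.Helper16 Cfsg.Agent.Lib.Helper15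

variable {n : ℕ} {F : Type*} [Field F] {K : Type*} [Field K] [Algebra F K] {a b : F}
  {S : SplitDat F K a b} [Fintype F]
  {hab : ∀ x y : F, x ^ 2 + a * x * y + b * y ^ 2 = 0 → x = 0 ∧ y = 0}
  {p : ℕ} [Fact p.Prime] [CharP F p] [Fintype K] [CharP K p] {hK : Fintype.card K ≠ 2}

/-- the Siegel move of the first case -/
theorem mcase1_move (v : MIdx n → F) (hQ : QM n F a b v = 0) (j : Fin (n + 1))
    (hj : v (cf j) ≠ 0) (hmin : ∀ l, l < j → v (cf l) = 0) :
    ∃ m ∈ MLL S hab p hK, (∀ l, l ≤ j → mav m (me l) = me l) ∧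
      mav m v = v (cf j) • mf j := by
  set c := v (cf j) with hc
  set w : MIdx n → F := c⁻¹ • (v - c • mf j) with hwdef
  have hw : ∀ l, l ≤ j → w (cf l) = 0 := by
    intro l hl
    rcases hl.lt_or_eq with h | h
    · simp only [hwdef, Pi.smul_apply, Pi.sub_apply, smul_eq_mul]
      rw [hmin l h, mf_ne (r := cf l) (i := j) (by simpa using h.ne)]
      simp
    · subst h
      simp only [hwdef, Pi.smul_apply, Pi.sub_apply, smul_eq_mul]
      rw [mf_same, ← hc]
      simp
  set m : MmG n F a b := ⟨msieg1 j w hw, msieg1_mem S hab p j w hw⟩ with hm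
  have hmL : m ∈ MLL S hab p hK := by
    apply mem_MLL_of_tri
    have e : matM S m =
        (((psi S (msieg1 j w hw : MG n F a b)).1 : GL (DIdx n) K) : Matrix (DIdx n) (DIdx n) K) :=
      rfl
    rw [e, psi_msieg1]
    exact dsieg1_tri _ _ _
  refine ⟨m, hmL, fun l hl => msieg1_fix j w hw l hl, ?_⟩
  have hval : ∃ d : F, mav m v = c • mf j + d • me j := by
    refine ⟨QuadraticMap.polar (⇑(QM n F a b)) w v - QM n F a b w * v (cf j), ?_⟩
    show gact (QM n F a b) (msieg1 j w hw) v = _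
    rw [gact_msieg1, ← hc]
    funext r
    simp only [hwdef, Pi.add_apply, Pi.smul_apply, Pi.sub_apply, smul_eq_mul]
    field_simp
    ring
  obtain ⟨d, hd⟩ := hval
  have hd0 : d = 0 := by
    have h1 : QM n F a b (mav m v) = QM n F a b v := Q_gact _ m.1 v
    rw [hd, QM_comb, hQ] at h1
    rcases mul_eq_zero.mp h1 with h | h
    · exact absurd h hj
    · exact h
  rw [hd, hd0, zero_smul, add_zero]

theorem mgood_case1 (i : Fin (n + 1)) (v : MIdx n → F) (hQ : QM n F a b v = 0)
    (hv : ∀ l, l < i → v (cf l) = 0) (j : Fin (n + 1)) (hj : v (cf j) ≠ 0)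
    (hmin : ∀ l, l < j → v (cf l) = 0) : MGood S hab p hK i v := by
  have hij : i ≤ j := by
    by_contra hcon
    exact hj (hv j (not_le.mp hcon))
  obtain ⟨m, hmL, hfix, hval⟩ := mcase1_move (S := S) (hab := hab) (p := p) (hK := hK) v hQ j hj hmin
  have hmS : MStabE i.val m := by
    intro l hl
    refine ⟨1, ?_⟩
    rw [one_smul]
    exact hfix l (le_trans (le_of_lt (Fin.lt_def.mpr hl)) hij)
  apply mgood_of_move m hmL hmS
  rw [hval]
  apply mgood_smul
  exact mgood_f i (n - j.val) j (by have := j.2; omega) hij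

theorem mgood_case2 (i : Fin (n + 1)) (v : MIdx n → F) (hf : ∀ l, v (cf l) = 0)
    (hz : ∀ k, v (cz k) = 0)
    (j : Fin (n + 1)) (hij : i ≤ j) (hj : v (ce j) ≠ 0)
    (hmax : ∀ l, j < l → v (ce l) = 0) : MGood S hab p hK i v := by
  set c := v (ce j) with hc
  set u : MIdx n → F := c⁻¹ • (v - c • me j) with hudef
  have huf : ∀ l, u (cf l) = 0 := by
    intro l
    simp only [hudef, Pi.smul_apply, Pi.sub_apply, smul_eq_mul]
    rw [hf l, me_ne (r := cf l) (i := j) (by simp)]
    simp
  have huz : ∀ k, u (cz k) = 0 := by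
    intro k
    simp only [hudef, Pi.smul_apply, Pi.sub_apply, smul_eq_mul]
    rw [hz k, me_ne (r := cz k) (i := j) (by simp)]
    simp
  have hue : ∀ l, j ≤ l → u (ce l) = 0 := by
    intro l hl
    rcases hl.lt_or_eq with h | h
    · simp only [hudef, Pi.smul_apply, Pi.sub_apply, smul_eq_mul]
      rw [hmax l h, me_ne (r := ce l) (i := j) (by simpa using h.ne')]
      simp
    · subst h
      simp only [hudef, Pi.smul_apply, Pi.sub_apply, smul_eq_mul]
      rw [me_same, ← hc]
      simp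
  set m : MmG n F a b := ⟨msieg2 j u huf huz hue, msieg2_mem S hab p j u huf huz hue⟩ with hm
  have hmL : m ∈ MLL S hab p hK := by
    apply mem_MLL_of_tri
    have e : matM S m =
        (((psi S (msieg2 j u huf huz hue : MG n F a b)).1 : GL (DIdx n) K) :
          Matrix (DIdx n) (DIdx n) K) := rfl
    rw [e, psi_msieg2]
    exact dsieg2_tri _ _ _ _
  have hmS : MStabE i.val m := by
    intro l hl
    refine ⟨1, ?_⟩
    rw [one_smul]
    apply msieg2_fix j u huf huz hue l
    intro h
    rw [h] at hl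
    exact absurd (Fin.le_def.mp hij) (not_le.mpr hl)
  apply mgood_of_move m hmL hmS
  have hval : mav m v = c • me j := by
    show gact (QM n F a b) (msieg2 j u huf huz hue) v = _
    rw [gact_msieg2, msieg2_polar_gen u huf huz, ← hc]
    have : ∑ l : Fin (n + 1), u (ce l) * v (cf l) = 0 := by
      apply Finset.sum_eq_zero
      intro l _
      rw [hf l, mul_zero]
    rw [this, zero_smul, add_zero]
    funext r
    simp only [hudef, Pi.smul_apply, Pi.sub_apply, smul_eq_mul]
    field_simp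
    ring
  rw [hval]
  apply mgood_smul
  exact mgood_e i (j.val - i.val) j (by have := Fin.le_def.mp hij; omega)

/-- a singular vector without `f`-components lies in the span of the `eᵢ` -/
theorem mz_zero_of_singular (v : MIdx n → F) (hQ : QM n F a b v = 0) (hf : ∀ l, v (cf l) = 0)
    (hab : ∀ x y : F, x ^ 2 + a * x * y + b * y ^ 2 = 0 → x = 0 ∧ y = 0) :
    ∀ k, v (cz k) = 0 := by
  rw [QMinus_apply] at hQ
  unfold Cfsg.quadFormMinus at hQ
  have : ∑ i : Fin (n + 1), v (Sum.inl (Sum.inl i)) * v (Sum.inl (Sum.inr i)) = 0 := by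
    apply Finset.sum_eq_zero
    intro l _
    rw [show v (Sum.inl (Sum.inr l)) = 0 from hf l, mul_zero]
  rw [this, zero_add] at hQ
  have h := hab _ _ hQ
  rw [Fin.forall_fin_two]
  exact h

/-- a vector in the span of the `eᵢ` pairing nontrivially with `y` has an `e`-component of index
at least `i` -/
theorem mexists_e_comp (i : Fin (n + 1)) (v y : MIdx n → F) (hf : ∀ l, v (cf l) = 0)
    (hz : ∀ k, v (cz k) = 0)
    (hy : ∀ l, l < i → y (cf l) = 0) (hvy : QuadraticMap.polar (⇑(QM n F a b)) v y ≠ 0) :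
    ∃ j, i ≤ j ∧ v (ce j) ≠ 0 ∧ ∀ l, j < l → v (ce l) = 0 := by
  classical
  have hexe : ∃ j, i ≤ j ∧ v (ce j) ≠ 0 := by
    by_contra hcon
    push Not at hcon
    apply hvy
    rw [msieg2_polar_gen v hf hz]
    apply Finset.sum_eq_zero
    intro l _
    by_cases hl : l < i
    · rw [hy l hl, mul_zero]
    · rw [hcon l (not_lt.mp hl), zero_mul]
  obtain ⟨j0, hij0, hj0⟩ := hexe
  have hne : (Finset.univ.filter (fun l => v (ce l) ≠ 0)).Nonempty :=
    ⟨j0, by simpa using hj0⟩
  refine ⟨(Finset.univ.filter (fun l => v (ce l) ≠ 0)).max' hne, ?_, ?_, ?_⟩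
  · exact le_trans hij0 (Finset.le_max' _ j0 (by simpa using hj0))
  · have := Finset.max'_mem _ hne
    simpa using this
  · intro l hl
    by_contra hne'
    have : l ≤ (Finset.univ.filter (fun l => v (ce l) ≠ 0)).max' hne :=
      Finset.le_max' _ l (by simpa using hne')
    exact absurd hl (not_lt.mpr this)

theorem mgood_of_singular (i : Fin (n + 1)) (v y : MIdx n → F)
    (hQ : QM n F a b v = 0)
    (hv : ∀ l, l < i → v (cf l) = 0) (hy : ∀ l, l < i → y (cf l) = 0)
    (hvy : QuadraticMap.polar (⇑(QM n F a b)) v y ≠ 0) : MGood S hab p hK i v := by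
  classical
  by_cases hex : ∃ j, v (cf j) ≠ 0
  · have hne : (Finset.univ.filter (fun l => v (cf l) ≠ 0)).Nonempty := by
      obtain ⟨l, hl⟩ := hex
      exact ⟨l, by simpa using hl⟩
    obtain ⟨j, hbj, hmin⟩ : ∃ j, v (cf j) ≠ 0 ∧ ∀ l, l < j → v (cf l) = 0 := by
      refine ⟨(Finset.univ.filter (fun l => v (cf l) ≠ 0)).min' hne, ?_, ?_⟩
      · have := Finset.min'_mem _ hne
        simpa using this
      · intro l hl
        by_contra hne'
        have : (Finset.univ.filter (fun l => v (cf l) ≠ 0)).min' hne ≤ l :=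
          Finset.min'_le _ l (by simpa using hne')
        exact absurd hl (not_lt.mpr this)
    exact mgood_case1 i v hQ hv j hbj hmin
  · push Not at hex
    have hz := mz_zero_of_singular v hQ hex hab
    obtain ⟨j, hij, haj, hmax⟩ := mexists_e_comp i v y hex hz hy hvy
    exact mgood_case2 i v hex hz j hij haj hmax

/-- properties of a column of an element stabilising the lines `⟨e_l⟩`, `l < i` -/
theorem mcol_props (g' : MmG n F a b) (i : ℕ) (hs0 : MStabE i g') (ii : Fin (n + 1))
    (hii : ii.val = i) :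
    QM n F a b (mav g' (me ii)) = 0 ∧
      (∀ l, l < ii → mav g' (me ii) (cf l) = 0) ∧
      (∀ l, l < ii → mav g' (mf ii) (cf l) = 0) ∧
      QuadraticMap.polar (⇑(QM n F a b)) (mav g' (me ii)) (mav g' (mf ii)) ≠ 0 := by
  have key : ∀ (x : MIdx n → F) (l : Fin (n + 1)), l < ii →
      QuadraticMap.polar (⇑(QM n F a b)) x (me l) = 0 → mav g' x (cf l) = 0 := by
    intro x l hl hx
    obtain ⟨c, hc⟩ := hs0 l (by rw [← hii]; exact Fin.lt_def.mp hl)
    have hc0 := mstab_ne g' l c hc
    have h1 : QuadraticMap.polar (⇑(QM n F a b)) (mav g' x) (mav g' (me l)) =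
        QuadraticMap.polar (⇑(QM n F a b)) x (me l) := polar_gact _ g'.1 _ _
    rw [hc, QuadraticMap.polar_smul_right, polar_me, hx, smul_eq_mul] at h1
    rcases mul_eq_zero.mp h1 with h | h
    · exact absurd h hc0
    · exact h
  refine ⟨?_, ?_, ?_, ?_⟩
  · rw [show QM n F a b (mav g' (me ii)) = QM n F a b (me ii) from Q_gact _ g'.1 _, QM_me]
  · intro l hl
    apply key _ l hl
    rw [polar_me, me_ne (by simp)]
  · intro l hl
    apply key _ l hl
    rw [polar_me, mf_ne (by simpa using hl.ne)]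
  · rw [show QuadraticMap.polar (⇑(QM n F a b)) (mav g' (me ii)) (mav g' (mf ii)) =
      QuadraticMap.polar (⇑(QM n F a b)) (me ii) (mf ii) from polar_gact _ g'.1 _ _,
      polar_mf, me_same]
    exact one_ne_zero

/-- column reduction -/
theorem mexists_stab (g : MmG n F a b) :
    ∀ i : ℕ, i ≤ n + 1 → ∃ l ∈ MLL S hab p hK, MStabE i (l * g) := by
  intro i
  induction i with
  | zero =>
    intro _
    exact ⟨1, (MLL S hab p hK).one_mem, fun j hj => absurd hj (Nat.not_lt_zero _)⟩
  | succ i ih =>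
    intro hi
    obtain ⟨l0, hl0, hs0⟩ := ih (by omega)
    set g' := l0 * g with hg'
    set ii : Fin (n + 1) := ⟨i, by omega⟩ with hii
    obtain ⟨hQ, hv, hy, hvy⟩ := mcol_props g' i hs0 ii rfl
    obtain ⟨l1, hl1, hs1, d, hd⟩ := mgood_of_singular (S := S) (hab := hab) (p := p) (hK := hK) ii
      _ _ hQ hv hy hvy
    refine ⟨l1 * l0, (MLL S hab p hK).mul_mem hl1 hl0, ?_⟩
    rw [mul_assoc, ← hg']
    intro j hj
    rcases Nat.lt_succ_iff_lt_or_eq.mp hj with h | h
    · obtain ⟨c, hc⟩ := hs0 j h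
      obtain ⟨c', hc'⟩ := hs1 j h
      exact ⟨c * c', by rw [mav_mul, hc, mav_smul, hc', smul_smul]⟩
    · have hj' : j = ii := Fin.ext h
      rw [hj']
      exact ⟨d, by rw [mav_mul, hd]⟩

variable (S hab p hK)

/-- **Generation**: `Ω⁻_{2n+4}(q)` is generated by its triangular and monomial subgroups. -/
theorem m_hgen : (mSetup S hab p hK).Bor ⊔ (mSetup (n := n) S hab p hK).Nn = ⊤ := by
  rw [eq_top_iff]
  intro g _
  obtain ⟨l, hl, hs⟩ := mexists_stab (S := S) (hab := hab) (p := p) (hK := hK) g (n + 1) le_rfl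
  set g' := l * g with hg'
  have hall : ∀ j : Fin (n + 1), ∃ c : F, mav g' (me j) = c • me j := fun j => hs j j.2
  choose dd hdd using hall
  have htri := mtri_of_cols S p hK g' dd hdd
  have hmem : g' ∈ MLL S hab p hK := mem_MLL_of_tri S hab p hK _ htri
  have hg : g = l⁻¹ * g' := by rw [hg']; group
  rw [hg]
  exact (MLL S hab p hK).mul_mem ((MLL S hab p hK).inv_mem hl) hmem

end Cfsg.Agent.Lib.Helper1.MBN
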