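import Mathlib
import Cfsg.Agent.Lib.Helper1.MBN16

/-!
# Type `²D_{n+2}`: the diagonal part of a triangular element
-/

set_option autoImplicit false
set_option linter.unusedSectionVars false
set_option linter.unusedSimpArgs false

namespace Cfsg.Agent.Lib.Helper1.MBN

open Matrix Cfsg.Agent.Lib.Helper14.MatBN Cfsg.Agent.Lib.Helper14.SpBN Cfsg.Agent.Lib.Helper6
  Cfsg.Agent.Lib.Helper14.TriMono Cfsg.Agent.Lib.Helper1.OBN Cfsg.Agent.Lib.Helper1.MatBND
  Cfsg.Agent.Lib.Helper1.DBN Cfsg.Agent.Lib.Helper16 Cfsg.Agent.Lib.Helper15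

variable {n : ℕ} {F : Type*} [Field F] {K : Type*} [Field K] [Algebra F K] {a b : F}
  (S : SplitDat F K a b)

/-- an isometry over `K` which preserves the rational vectors comes from an isometry over `F` -/
theorem exists_psi_eq (g' : DG n K) (A : Matrix (MIdx n) (MIdx n) F)
    (H : ∀ v : MIdx n → F, gact (QD n K) g' (Psi S v) = Psi S (A *ᵥ v)) :
    ∃ g : MG n F a b, psi S g = g' := by
  have hinj : Function.Injective A.mulVec := by
    intro u v huv
    apply Psi_injective S
    have h1 : gact (QD n K) g' (Psi S u) = gact (QD n K) g' (Psi S v) := by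
      rw [H, H]
      exact congrArg _ huv
    have := congrArg (gact (QD n K) g'⁻¹) h1
    rwa [gact_inv_gact, gact_inv_gact] at this
  have hunit : IsUnit A := Matrix.mulVec_injective_iff_isUnit.mp hinj
  have hdet : IsUnit A.det := (Matrix.isUnit_iff_isUnit_det A).mp hunit
  have hform : ∀ x, QM n F a b (A *ᵥ x) = QM n F a b x := by
    intro x
    apply (algebraMap F K).injective
    rw [← QD_Psi S, ← QD_Psi S, ← H]
    exact Q_gact _ g' _
  refine ⟨mkIso (QM n F a b) A A⁻¹ (Matrix.mul_nonsing_inv A hdet)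
    (Matrix.nonsing_inv_mul A hdet) hform, ?_⟩
  apply psi_eq_of
  intro v
  rw [gact_mkIso, H]

theorem Psi_sum {ι : Type*} (s : Finset ι) (f : ι → MIdx n → F) :
    Psi S (∑ i ∈ s, f i) = ∑ i ∈ s, Psi S (f i) := by
  classical
  induction s using Finset.induction_on with
  | empty => simp [Psi_zero]
  | insert i s hi ih => rw [Finset.sum_insert hi, Finset.sum_insert hi, Psi_add, ih]

/-- it suffices to check rationality on the basis vectors -/
theorem Psi_ext_basis (L : Matrix (DIdx n) (DIdx n) K) (A : Matrix (MIdx n) (MIdx n) F)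
    (H : ∀ i : MIdx n, L *ᵥ Psi S (Pi.single i 1) = Psi S (A *ᵥ Pi.single i 1))
    (v : MIdx n → F) : L *ᵥ Psi S v = Psi S (A *ᵥ v) := by
  have hv : v = ∑ i, v i • (Pi.single i 1 : MIdx n → F) := by
    funext r
    rw [Finset.sum_apply]
    simp [Pi.single_apply]
  conv_lhs => rw [hv]
  conv_rhs => rw [hv]
  rw [Psi_sum, Matrix.mulVec_sum, Matrix.mulVec_sum, Psi_sum]
  apply Finset.sum_congr rfl
  intro i _
  rw [Psi_smul, Matrix.mulVec_smul, Matrix.mulVec_smul, Psi_smul, H]

theorem mdiag_f (g : MmG n F a b) (i j : Fin (n + 1)) :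
    matM S g (fD i.castSucc) (fD j.castSucc) = algebraMap F K (mav g (mf j) (cf i)) := by
  rw [matM_entry, matM_col_f, Psi_f]

section Lst

variable (g : MmG n F a b) (hb : (matM S g).BlockTriangular (rho (n + 1)))

include hb in
theorem mlst_e0 : matM S g (eD (lst n)) (eD (lst n)) =
    algebraMap F K (mav g (mz 0) (cz 0)) + S.β * algebraMap F K (mav g (mz 0) (cz 1)) := by
  have h := congrFun (matM_Psi S g (mz 0)) (eD (lst n))
  rw [Psi_mz0, Matrix.mulVec_add, Pi.add_apply, ← matM_entry, ← matM_entry,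
    dtri_zer hb (matM_form S g), add_zero, Psi_elst] at h
  exact h

include hb in
theorem mlst_f0 : matM S g (fD (lst n)) (fD (lst n)) =
    algebraMap F K (mav g (mz 0) (cz 0)) + S.β' * algebraMap F K (mav g (mz 0) (cz 1)) := by
  have h := congrFun (matM_Psi S g (mz 0)) (fD (lst n))
  rw [Psi_mz0, Matrix.mulVec_add, Pi.add_apply, ← matM_entry, ← matM_entry,
    dtri_f_e hb, zero_add, Psi_flst] at h
  exact h

include hb in
theorem mlst_e1 : S.β * matM S g (eD (lst n)) (eD (lst n)) =
    algebraMap F K (mav g (mz 1) (cz 0)) + S.β * algebraMap F K (mav g (mz 1) (cz 1)) := by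
  have h := congrFun (matM_Psi S g (mz 1)) (eD (lst n))
  rw [Psi_mz1, Matrix.mulVec_add, Matrix.mulVec_smul, Matrix.mulVec_smul, Pi.add_apply,
    Pi.smul_apply, Pi.smul_apply, ← matM_entry, ← matM_entry,
    dtri_zer hb (matM_form S g), smul_zero, add_zero, Psi_elst, smul_eq_mul] at h
  exact h

include hb in
theorem mlst_f1 : S.β' * matM S g (fD (lst n)) (fD (lst n)) =
    algebraMap F K (mav g (mz 1) (cz 0)) + S.β' * algebraMap F K (mav g (mz 1) (cz 1)) := by
  have h := congrFun (matM_Psi S g (mz 1)) (fD (lst n))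
  rw [Psi_mz1, Matrix.mulVec_add, Matrix.mulVec_smul, Matrix.mulVec_smul, Pi.add_apply,
    Pi.smul_apply, Pi.smul_apply, ← matM_entry, ← matM_entry,
    dtri_f_e hb, smul_zero, zero_add, Psi_flst, smul_eq_mul] at h
  exact h

end Lst

/-- the block diagonal part of the matrix over `F` -/
noncomputable def surg (g : MmG n F a b) : Matrix (MIdx n) (MIdx n) F :=
  Matrix.of fun r s => if r = s ∨ (r.isRight ∧ s.isRight) then mav g (Pi.single s 1) r else 0

theorem surg_me (g : MmG n F a b) (j : Fin (n + 1)) :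
    surg g *ᵥ me j = mav g (me j) (ce j) • me j := by
  funext r
  rw [Matrix.mulVec_single_one]
  show surg g r (ce j) = _
  unfold surg
  rw [Matrix.of_apply, Pi.smul_apply, smul_eq_mul]
  by_cases h : r = ce j
  · subst h
    rw [if_pos (Or.inl rfl), me_same, mul_one]
  · rw [if_neg (by simp [h]), me_ne h, mul_zero]

theorem surg_mf (g : MmG n F a b) (j : Fin (n + 1)) :
    surg g *ᵥ mf j = mav g (mf j) (cf j) • mf j := by
  funext r
  rw [Matrix.mulVec_single_one]
  show surg g r (cf j) = _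
  unfold surg
  rw [Matrix.of_apply, Pi.smul_apply, smul_eq_mul]
  by_cases h : r = cf j
  · subst h
    rw [if_pos (Or.inl rfl), mf_same, mul_one]
  · rw [if_neg (by simp [h]), mf_ne h, mul_zero]

theorem surg_mz (g : MmG n F a b) (k : Fin 2) :
    surg g *ᵥ mz k = wv (mav g (mz k) (cz 0)) (mav g (mz k) (cz 1)) := by
  funext r
  rw [Matrix.mulVec_single_one]
  show surg g r (cz k) = _
  unfold surg
  rw [Matrix.of_apply]
  rcases r with (i | i) | i
  · rw [if_neg (by simp)]
    exact (wv_ce _ _ i).symm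
  · rw [if_neg (by simp)]
    exact (wv_cf _ _ i).symm
  · rw [if_pos (Or.inr ⟨rfl, rfl⟩)]
    revert i
    rw [Fin.forall_fin_two]
    exact ⟨(wv_cz0 _ _).symm, (wv_cz1 _ _).symm⟩

section Setup

variable [Fintype F]
  (hab : ∀ x y : F, x ^ 2 + a * x * y + b * y ^ 2 = 0 → x = 0 ∧ y = 0)
  (p : ℕ) [Fact p.Prime] [CharP F p] [CharP K p]

include hab p in
theorem m_hdiag_pos (hqm : Fintype.card F ≠ 2 ∨ n ≠ 0) (g : MmG n F a b)
    (hb : (matM S g).BlockTriangular (rho (n + 1))) :
    ∃ h : MmG n F a b, matM S h = Matrix.diagonal (fun i => matM S g i i) := by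
  have hQ := matM_form S g
  set M := matM S g with hM
  have hne : ∀ i, M i i ≠ 0 := by
    rintro (i | i)
    · exact dtri_diag_e_ne hb hQ i
    · exact dtri_diag_f_ne hb hQ i
  have h1 : Matrix.diagonal (fun i => M i i) * Matrix.diagonal (fun i => (M i i)⁻¹) = 1 := by
    rw [Matrix.diagonal_mul_diagonal, ← Matrix.diagonal_one]
    congr 1
    funext i
    exact mul_inv_cancel₀ (hne i)
  have h1' : Matrix.diagonal (fun i => (M i i)⁻¹) * Matrix.diagonal (fun i => M i i) = 1 := by
    rw [Matrix.diagonal_mul_diagonal, ← Matrix.diagonal_one]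
    congr 1
    funext i
    exact inv_mul_cancel₀ (hne i)
  have hform : ∀ x, QD n K (Matrix.diagonal (fun i => M i i) *ᵥ x) = QD n K x := by
    intro x
    rw [QD_apply, QD_apply]
    unfold hyp
    simp only [Matrix.mulVec_diagonal]
    apply Finset.sum_congr rfl
    intro i _
    have := dtri_diag hb hQ i
    linear_combination (x (Sum.inl i) * x (Sum.inr i)) * this
  set hD : DG n K := mkIso (QD n K) _ _ h1 h1' hform with hhD
  have hdv : ∀ r : DIdx n, Matrix.diagonal (fun i => M i i) *ᵥ dv r = M r r • dv r := by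
    intro r
    funext s
    rw [Matrix.mulVec_diagonal, Pi.smul_apply, smul_eq_mul]
    by_cases h : s = r
    · subst h
      rfl
    · rw [dv_ne h, mul_zero, mul_zero]
  have hH : ∀ v : MIdx n → F, gact (QD n K) hD (Psi S v) = Psi S (surg g *ᵥ v) := by
    intro v
    rw [hhD, gact_mkIso]
    apply Psi_ext_basis
    rintro ((j | j) | k)
    · show _ *ᵥ Psi S (me j) = Psi S (surg g *ᵥ me j)
      rw [surg_me, Psi_smul, Psi_me, hdv, hM, mdiag_e]
    · show _ *ᵥ Psi S (mf j) = Psi S (surg g *ᵥ mf j)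
      rw [surg_mf, Psi_smul, Psi_mf, hdv, hM, mdiag_f]
    · revert k
      rw [Fin.forall_fin_two]
      constructor
      · show _ *ᵥ Psi S (mz 0) = Psi S (surg g *ᵥ mz 0)
        rw [surg_mz, Psi_wv, Psi_mz0, Matrix.mulVec_add, hdv, hdv, hM, mlst_e0 S g hb,
          mlst_f0 S g hb]
      · show _ *ᵥ Psi S (mz 1) = Psi S (surg g *ᵥ mz 1)
        rw [surg_mz, Psi_wv, Psi_mz1, Matrix.mulVec_add, Matrix.mulVec_smul, Matrix.mulVec_smul,
          hdv, hdv, smul_smul, smul_smul, hM, mlst_e1 S g hb, mlst_f1 S g hb]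
  obtain ⟨h0, hh0⟩ := exists_psi_eq S hD (surg g) hH
  have hu : g.1 * h0⁻¹ ∈ Cfsg.Omega F ⇑(QM n F a b) := by
    have e : (((psi S (g.1 * h0⁻¹)).1 : GL (DIdx n) K) : Matrix (DIdx n) (DIdx n) K) =
        M * Matrix.diagonal (fun i => (M i i)⁻¹) := by
      rw [map_mul, map_inv, hh0]
      rfl
    apply mem_OmegaM_of_unitri S hab p hqm
    · rw [e]
      exact hb.mul (Matrix.blockTriangular_diagonal _)
    · intro i
      rw [e, mul_diag_of_blockTriangular (rho (n + 1)) rho_inj hb
        (Matrix.blockTriangular_diagonal _), Matrix.diagonal_apply_eq]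
      exact mul_inv_cancel₀ (hne i)
  have hmem : h0 ∈ Cfsg.Omega F ⇑(QM n F a b) := by
    have : h0 = (g.1 * h0⁻¹)⁻¹ * g.1 := by group
    rw [this]
    exact Subgroup.mul_mem _ (Subgroup.inv_mem _ hu) g.2
  refine ⟨⟨h0, hmem⟩, ?_⟩
  rw [matM_apply]
  show (((psi S h0).1 : GL (DIdx n) K) : Matrix (DIdx n) (DIdx n) K) = _
  rw [hh0]
  rfl

include hab p in
theorem m_hdiag_zero (hn : n = 0) (g : MmG n F a b)
    (hb : (matM S g).BlockTriangular (rho (n + 1))) :
    ∃ h : MmG n F a b, matM S h = Matrix.diagonal (fun i => matM S g i i) := by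
  obtain ⟨x, hx, hzero⟩ := m_hA_short S hab p g hb
  refine ⟨g * x⁻¹, ?_⟩
  have hxinv : x⁻¹ ∈ XKM S hab p (Sum.inr ()) := by
    obtain ⟨z₁, z₂, rfl⟩ := hx
    exact ⟨-z₁, -z₂, xSm_inv S hab z₁ z₂⟩
  have hxu := m_X_upper S hab p (Sum.inr ()) _ hxinv
  have hxd := m_X_diag S hab p (Sum.inr ()) _ hxinv
  have hU' : (matM S (g * x⁻¹)).BlockTriangular (rho (n + 1)) := by
    rw [map_mul]
    exact hb.mul hxu
  ext u v
  by_cases huv : u = v
  · subst huv
    rw [Matrix.diagonal_apply_eq, map_mul,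
      mul_diag_of_blockTriangular (rho (n + 1)) rho_inj hb hxu, hxd, mul_one]
  · rw [Matrix.diagonal_apply_ne _ huv]
    rcases lt_or_gt_of_ne (fun h => huv (rho_inj h)) with h | h
    · by_cases hρ : rhoD n u = rhoD n v
      · exact m_zer S _ hU' u v huv hρ
      · have h1 : rhoD n u < rhoD n v := by
          rcases lt_or_gt_of_ne hρ with h' | h'
          · exact h'
          · exact absurd (rhoD_fine v u h') (not_lt.mpr h.le)
        apply hzero u v h1
        show rhoD n (piM n v) ≤ rhoD n (piM n u)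
        rw [rhoD_piM, rhoD_piM]
        have := rhoD_le u
        have := rhoD_le v
        subst hn
        split_ifs <;> omega
    · exact hU' h

include hab p in
theorem m_hdiag (g : MmG n F a b)
    (hb : (matM S g).BlockTriangular (rho (n + 1))) :
    ∃ h : MmG n F a b, matM S h = Matrix.diagonal (fun i => matM S g i i) := by
  by_cases hn : n = 0
  · exact m_hdiag_zero S hab p hn g hb
  · exact m_hdiag_pos S hab p (Or.inr hn) g hb

end Setup

end Cfsg.Agent.Lib.Helper1.MBN
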