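import Mathlib
import Cfsg.Agent.Lib.Helper1.MBN17
import Cfsg.Agent.Lib.Helper6.ExtQuad

/-!
# The Steinberg character of `PΩ⁻_{2n+4}(q)`
-/

set_option autoImplicit false
set_option linter.unusedSectionVars false

namespace Cfsg.Agent.Lib.Helper1.MBN

open Matrix Cfsg.Agent.Lib.Helper14.MatBN Cfsg.Agent.Lib.Helper14.SpBN Cfsg.Agent.Lib.Helper6
  Cfsg.Agent.Lib.Helper14.TriMono Cfsg.Agent.Lib.Helper1.OBN Cfsg.Agent.Lib.Helper1.MatBND
  Cfsg.Agent.Lib.Helper1.DBN Cfsg.Agent.Lib.Helper16 Cfsg.Agent.Lib.Helper15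

universe u

variable {n : ℕ} {F : Type u} [Field F] [Fintype F] {a b : F}

/-- the Steinberg character of `PΩ⁻_{2n+4}(q)` for the form `QM`, given a splitting field -/
theorem steinberg_QM_of_split {K : Type u} [Field K] [Algebra F K] (S : SplitDat F K a b)
    (hab : ∀ x y : F, x ^ 2 + a * x * y + b * y ^ 2 = 0 → x = 0 ∧ y = 0)
    (p : ℕ) [Fact p.Prime] [CharP F p] [Fintype K] [CharP K p] (hK : Fintype.card K ≠ 2) :
    ∃ χ : Cfsg.POmega F ⇑(QM n F a b) → ℂ, Cfsg.IsIrrCharacter (Cfsg.POmega F ⇑(QM n F a b)) χ ∧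
      ∀ P : Sylow p (Cfsg.POmega F ⇑(QM n F a b)), χ 1 = Nat.card P ∧
        ∀ x : Cfsg.POmega F ⇑(QM n F a b), x ∈ P → x ≠ 1 → χ x = 0 := by
  classical
  exact (mSetup (n := n) S hab p hK).exists_steinberg p (m_hgen S hab p hK)
    (fun u v h => m_hadj u v h) (fun u v h => d_hconn u v h)
    (fun g hg => m_hdiag S hab p g hg)

/-- a splitting field exists -/
theorem exists_splitDat
    (hab : ∀ x y : F, x ^ 2 + a * x * y + b * y ^ 2 = 0 → x = 0 ∧ y = 0)
    (p : ℕ) [Fact p.Prime] [CharP F p] :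
    ∃ (K : Type u) (_ : Field K) (_ : Algebra F K) (_ : Fintype K) (_ : CharP K p)
      (_ : SplitDat F K a b), Fintype.card K ≠ 2 := by
  classical
  obtain ⟨K, iK, aK, h2⟩ := Cfsg.Agent.Lib.Helper6.ExtQuad.exists_quadExt a b hab
  have hfd : Module.Finite F K := Module.finite_of_finrank_pos (by rw [h2]; norm_num)
  have hfin : Finite K := Module.finite_of_finite F
  let fK : Fintype K := Fintype.ofFinite K
  have hchar : CharP K p := charP_of_injective_algebraMap (algebraMap F K).injective p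
  obtain ⟨β, β', hsum, hprod, hne⟩ := exists_roots_of_anisotropic h2 a b hab
  have hβ : β ∉ (algebraMap F K).range := by
    rintro ⟨b₀, hb₀⟩
    have h1 : β' = algebraMap F K (a - b₀) := by
      rw [map_sub, hb₀]; linear_combination hsum
    have h3 : b₀ * (a - b₀) = b := by
      apply (algebraMap F K).injective
      rw [map_mul, hb₀, ← h1, hprod]
    have h4 := hab (-b₀) 1 (by linear_combination (-1 : F) * h3)
    exact one_ne_zero h4.2
  have hspan : ∀ z : K, ∃ x y : F, z = algebraMap F K x + β * algebraMap F K y :=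
    exists_decomp_of_not_mem h2 β hβ
  refine ⟨K, iK, aK, fK, hchar, ⟨β, β', hsum, hprod, hne, hspan⟩, ?_⟩
  have hc := Module.card_eq_pow_finrank (K := F) (V := K)
  rw [h2] at hc
  rw [hc]
  have : 2 ≤ Fintype.card F := Fintype.one_lt_card
  nlinarith

/-- the Steinberg character of `PΩ⁻_{2n+4}(q)` -/
theorem steinberg_quadFormMinus
    (hab : ∀ x y : F, x ^ 2 + a * x * y + b * y ^ 2 = 0 → x = 0 ∧ y = 0)
    (p : ℕ) [Fact p.Prime] [CharP F p] :
    ∃ χ : Cfsg.POmega F (Cfsg.quadFormMinus (n + 1) F a b) → ℂ,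
      Cfsg.IsIrrCharacter (Cfsg.POmega F (Cfsg.quadFormMinus (n + 1) F a b)) χ ∧
      ∀ P : Sylow p (Cfsg.POmega F (Cfsg.quadFormMinus (n + 1) F a b)), χ 1 = Nat.card P ∧
        ∀ x : Cfsg.POmega F (Cfsg.quadFormMinus (n + 1) F a b), x ∈ P → x ≠ 1 → χ x = 0 := by
  obtain ⟨K, iK, aK, fK, hchar, S, hK⟩ := exists_splitDat (a := a) (b := b) hab p
  have h := steinberg_QM_of_split (n := n) S hab p hK
  rw [hcoeM] at h
  exact h

end Cfsg.Agent.Lib.Helper1.MBN
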