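import Mathlib
import Cfsg.Agent.Lib.Helper1.Hall

/-!
# Helper1 library: `p`-groups of maximal class (Suzuki's criterion)

* `nilpotencyClass_eq_one_of_comm`,
* `nilpotencyClass_of_card_centralizer`: `|X| = p ^ n`, `|C_X(a)| = p ^ 2` ⇒ class `n - 1`,
* `nilpotencyClass_of_self_centralizing` (= S0112): self-centralizing subgroup of order `p ^ 2`.
-/

set_option autoImplicit false

namespace Cfsg.Agent.Lib.Helper1

open scoped commutatorElement

section MaxClass

universe u

theorem nilpotencyClass_eq_one_of_comm {X : Type*} [Group X] [Nontrivial X]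
    [Group.IsNilpotent X] (h : ∀ a b : X, a * b = b * a) : Group.nilpotencyClass X = 1 := by
  have hc : IsMulCommutative X := ⟨⟨h⟩⟩
  have h1 : Group.nilpotencyClass X ≤ 1 := by
    rw [← Subgroup.upperCentralSeries_eq_top_iff_nilpotencyClass_le, Subgroup.upperCentralSeries_one,
      Subgroup.center_eq_top_iff]
    exact hc
  have h2 : Group.nilpotencyClass X ≠ 0 := by
    rw [Ne, Group.nilpotencyClass_zero_iff_subsingleton]
    exact not_subsingleton X
  omega

/-- Suzuki: a group of order `p ^ n` with an element whose centralizer has order `p ^ 2` has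
nilpotency class `n - 1`. -/
theorem nilpotencyClass_of_card_centralizer (p : ℕ) [Fact p.Prime] :
    ∀ (n : ℕ) (X : Type u) [Group X] [Finite X], Nat.card X = p ^ n →
      ∀ a : X, Nat.card (Subgroup.centralizer {a}) = p ^ 2 → Group.nilpotencyClass X = n - 1 := by
  have hp : p.Prime := Fact.out
  intro n
  induction n with
  | zero =>
    intro X _ _ hX a ha
    exfalso
    have h1 : Nat.card (Subgroup.centralizer {a}) ≤ Nat.card X :=
      Nat.le_of_dvd Nat.card_pos (Subgroup.card_subgroup_dvd_card _)
    rw [ha, hX, pow_zero] at h1
    have := hp.two_le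
    nlinarith
  | succ n ih =>
    intro X _ _ hX a ha
    have hXp : IsPGroup p X := IsPGroup.of_card hX
    have hnil : Group.IsNilpotent X := hXp.isNilpotent
    have hnt : Nontrivial X := by
      rw [← Finite.one_lt_card_iff_nontrivial, hX]
      exact Nat.one_lt_pow (by omega) hp.one_lt
    by_cases haZ : a ∈ Subgroup.center X
    · -- `X` has order `p ^ 2`
      have htop : Subgroup.centralizer {a} = ⊤ := by
        rw [eq_top_iff]
        intro x _
        rw [Subgroup.mem_centralizer_singleton_iff]
        exact ((Subgroup.mem_center_iff.mp haZ) x)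
      rw [htop, Subgroup.card_top, hX] at ha
      have hn : n + 1 = 2 := Nat.pow_right_injective hp.two_le ha
      have hcomm : ∀ x y : X, x * y = y * x :=
        (IsPGroup.isMulCommutative_of_card_eq_prime_sq (hn ▸ hX)).is_comm.comm
      rw [nilpotencyClass_eq_one_of_comm hcomm]
      omega
    · -- main case: `a` is not central
      set Z : Subgroup X := Subgroup.center X with hZdef
      have hZle : Z ≤ Subgroup.centralizer {a} := by
        intro z hz
        rw [Subgroup.mem_centralizer_singleton_iff]
        exact ((Subgroup.mem_center_iff.mp hz) a).symm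
      have haC : a ∈ Subgroup.centralizer {a} := Subgroup.mem_centralizer_singleton_iff.mpr rfl
      have hZne : Z ≠ ⊥ := by
        have := hXp.center_nontrivial
        rw [hZdef, ← Subgroup.nontrivial_iff_ne_bot]
        exact this
      have hZcard : Nat.card Z = p := by
        have h1 : Nat.card Z ∣ p ^ 2 := ha ▸ Subgroup.card_dvd_of_le hZle
        obtain ⟨k, hk, hkZ⟩ := (Nat.dvd_prime_pow hp).mp h1
        have hk0 : k ≠ 0 := by
          rintro rfl
          rw [pow_zero] at hkZ
          exact hZne (Subgroup.card_eq_one.mp hkZ)
        have hk2 : k ≠ 2 := by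
          rintro rfl
          have : Z = Subgroup.centralizer {a} :=
            Subgroup.eq_of_le_of_card_ge hZle (by rw [ha, hkZ])
          exact haZ (this ▸ haC)
        have : k = 1 := by omega
        rw [hkZ, this, pow_one]
      -- the quotient
      have hQcard : Nat.card (X ⧸ Z) = p ^ n := by
        have h1 := Subgroup.card_eq_card_quotient_mul_card_subgroup Z
        rw [hX, hZcard, pow_succ] at h1
        exact (Nat.eq_of_mul_eq_mul_right hp.pos h1).symm
      have hQp : IsPGroup p (X ⧸ Z) := IsPGroup.of_card hQcard
      set ā : X ⧸ Z := (a : X ⧸ Z) with hā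
      have hā1 : ā ≠ 1 := fun h => haZ ((QuotientGroup.eq_one_iff a).mp h)
      have hQnt : Nontrivial (X ⧸ Z) := ⟨⟨ā, 1, hā1⟩⟩
      set B : Subgroup (X ⧸ Z) := Subgroup.centralizer {ā} with hB
      have hāB : ā ∈ B := Subgroup.mem_centralizer_singleton_iff.mpr rfl
      -- upper bound for `|B|`
      set N' : Subgroup X := B.comap (QuotientGroup.mk' Z) with hN'
      have hN'card : Nat.card N' = Nat.card B * p := by rw [hN', card_comap_mk, hZcard]
      have hmemZ : ∀ x ∈ N', ⁅a, x⁆ ∈ Z := by
        intro x hx
        rw [← QuotientGroup.eq_one_iff]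
        have h1 : ((⁅a, x⁆ : X) : X ⧸ Z) = ⁅ā, (x : X ⧸ Z)⁆ := by
          simp [commutatorElement_def, hā]
        rw [h1, commutatorElement_eq_one_iff_mul_comm]
        have h2 : (x : X ⧸ Z) ∈ B := hx
        rw [hB, Subgroup.mem_centralizer_singleton_iff] at h2
        exact h2.symm
      let κ : N' →* Z :=
        { toFun := fun x => ⟨⁅a, (x : X)⁆, hmemZ x x.2⟩
          map_one' := by apply Subtype.ext; simp
          map_mul' := by
            intro x y
            apply Subtype.ext
            show ⁅a, (x : X) * (y : X)⁆ = ⁅a, (x : X)⁆ * ⁅a, (y : X)⁆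
            have h1 : ⁅a, (x : X) * (y : X)⁆ =
                ⁅a, (x : X)⁆ * ((x : X) * ⁅a, (y : X)⁆ * (x : X)⁻¹) := by
              simp only [commutatorElement_def]; group
            rw [h1]
            congr 1
            have := (Subgroup.mem_center_iff.mp (hmemZ y y.2)) (x : X)
            rw [this, mul_inv_cancel_right] }
      have hker : Nat.card κ.ker ≤ p ^ 2 := by
        rw [← ha]
        refine Nat.card_le_card_of_injective
          (fun x => ⟨((x : N') : X), ?_⟩) ?_
        · have hx : κ (x : N') = 1 := x.2
          have hx' : ⁅a, ((x : N') : X)⁆ = 1 := congrArg Subtype.val hx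
          rw [commutatorElement_eq_one_iff_mul_comm] at hx'
          rw [Subgroup.mem_centralizer_singleton_iff]
          exact hx'.symm
        · intro x y hxy
          simp only [Subtype.mk.injEq] at hxy
          exact Subtype.ext (Subtype.ext hxy)
      have hrange : Nat.card κ.range ≤ p := by
        rw [← hZcard]
        exact Nat.le_of_dvd Nat.card_pos (Subgroup.card_subgroup_dvd_card _)
      have hBle : Nat.card B ≤ p ^ 2 := by
        have h1 : Nat.card N' = Nat.card κ.ker * Nat.card κ.range := by
          rw [← Subgroup.index_ker, Subgroup.card_mul_index]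
        have h2 : Nat.card B * p ≤ p ^ 2 * p := by
          rw [← hN'card, h1]
          exact Nat.mul_le_mul hker hrange
        exact Nat.le_of_mul_le_mul_right h2 hp.pos
      -- lower bound for `|B|`
      have hBcard : Nat.card B = p ^ 2 := by
        have h1 : Nat.card B ∣ p ^ n := hQcard ▸ Subgroup.card_subgroup_dvd_card B
        obtain ⟨j, hj, hjB⟩ := (Nat.dvd_prime_pow hp).mp h1
        have hj2 : j ≤ 2 := by
          by_contra hlt
          push Not at hlt
          have : p ^ 3 ≤ p ^ j := Nat.pow_le_pow_right hp.pos hlt
          have h3 : p ^ 2 < p ^ 3 := Nat.pow_lt_pow_right hp.one_lt (by omega)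
          omega
        have hj0 : j ≠ 0 := by
          rintro rfl
          rw [pow_zero] at hjB
          have := Subgroup.card_eq_one.mp hjB
          rw [this, Subgroup.mem_bot] at hāB
          exact hā1 hāB
        have hj1 : j ≠ 1 := by
          rintro rfl
          rw [pow_one] at hjB
          -- the centre of the quotient equals `B`
          have hcle : Subgroup.center (X ⧸ Z) ≤ B := by
            intro z hz
            rw [hB, Subgroup.mem_centralizer_singleton_iff]
            exact ((Subgroup.mem_center_iff.mp hz) ā).symm
          have hcne : Subgroup.center (X ⧸ Z) ≠ ⊥ := by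
            have := hQp.center_nontrivial
            rw [← Subgroup.nontrivial_iff_ne_bot]
            exact this
          have hccard : Nat.card (Subgroup.center (X ⧸ Z)) = p := by
            have h2 : Nat.card (Subgroup.center (X ⧸ Z)) ∣ p := hjB ▸ Subgroup.card_dvd_of_le hcle
            rcases (Nat.dvd_prime hp).mp h2 with h3 | h3
            · exact absurd (Subgroup.card_eq_one.mp h3) hcne
            · exact h3
          have hceq : Subgroup.center (X ⧸ Z) = B :=
            Subgroup.eq_of_le_of_card_ge hcle (by rw [hccard, hjB])
          have hāc : ā ∈ Subgroup.center (X ⧸ Z) := hceq ▸ hāB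
          have hBtop : B = ⊤ := by
            rw [eq_top_iff]
            intro x _
            rw [hB, Subgroup.mem_centralizer_singleton_iff]
            exact ((Subgroup.mem_center_iff.mp hāc) x)
          have hQp' : Nat.card (X ⧸ Z) = p := by
            rw [← Subgroup.card_top (G := X ⧸ Z), ← hBtop, hjB]
          have hcyc : IsCyclic (X ⧸ Z) := isCyclic_of_prime_card hQp'
          have hcomm := (QuotientGroup.mk' Z).isMulCommutative_of_isCyclic_of_ker_le_center
            (by rw [QuotientGroup.ker_mk'])
          apply haZ
          rw [Subgroup.mem_center_iff]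
          intro g
          exact hcomm.is_comm.comm g a
        have : j = 2 := by omega
        rw [hjB, this]
      -- induction
      have hIH := ih (X ⧸ Z) hQcard ā hBcard
      have hq : Group.nilpotencyClass (X ⧸ Z) = Group.nilpotencyClass X - 1 :=
        Group.nilpotencyClass_quotient_center
      have hne0 : Group.nilpotencyClass X ≠ 0 := by
        rw [Ne, Group.nilpotencyClass_zero_iff_subsingleton]
        exact not_subsingleton X
      have hn2 : 2 ≤ n := by
        have h1 : Nat.card B ≤ Nat.card (X ⧸ Z) :=
          Nat.le_of_dvd Nat.card_pos (Subgroup.card_subgroup_dvd_card _)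
        rw [hBcard, hQcard] at h1
        exact (Nat.pow_le_pow_iff_right hp.one_lt).mp h1
      omega

/-- A `p`-group with a self-centralizing subgroup of order `p ^ 2` is of maximal class. -/
theorem nilpotencyClass_of_self_centralizing {X : Type u} [Group X] [Finite X] {p : ℕ}
    [Fact p.Prime] (n : ℕ) (hX : Nat.card X = p ^ n) (A : Subgroup X) (hA : Nat.card A = p ^ 2)
    (hC : Subgroup.centralizer (A : Set X) = A) : Group.nilpotencyClass X = n - 1 := by
  have hp : p.Prime := Fact.out
  have hXp : IsPGroup p X := IsPGroup.of_card hX
  suffices h : ∃ a : X, Subgroup.centralizer {a} = A by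
    obtain ⟨a, ha⟩ := h
    exact nilpotencyClass_of_card_centralizer p n X hX a (by rw [ha, hA])
  have hAcomm : ∀ x ∈ A, ∀ y ∈ A, x * y = y * x := by
    intro x hx y hy
    have := (IsPGroup.isMulCommutative_of_card_eq_prime_sq hA).is_comm.comm
      (⟨x, hx⟩ : A) ⟨y, hy⟩
    exact congrArg Subtype.val this
  have hZA : Subgroup.center X ≤ A := by
    rw [← hC]
    exact Subgroup.center_le_centralizer _
  by_cases hAZ : A ≤ Subgroup.center X
  · refine ⟨1, ?_⟩
    rw [← hC]
    have h1 : Subgroup.centralizer ({1} : Set X) = ⊤ := by
      rw [eq_top_iff]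
      intro x _
      rw [Subgroup.mem_centralizer_singleton_iff]
      simp
    have h2 : Subgroup.centralizer (A : Set X) = ⊤ := by
      rw [eq_top_iff]
      intro x _
      rw [Subgroup.mem_centralizer_iff]
      intro y hy
      exact ((Subgroup.mem_center_iff.mp (hAZ hy)) x).symm
    rw [h1, h2]
  · obtain ⟨a, haA, haZ⟩ := SetLike.not_le_iff_exists.mp hAZ
    refine ⟨a, ?_⟩
    apply le_antisymm
    · -- `A = ⟨a⟩ Z(X)`
      set W : Subgroup X := Subgroup.zpowers a ⊔ Subgroup.center X with hW
      have hWA : W ≤ A := sup_le (Subgroup.zpowers_le.mpr haA) hZA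
      have hnt : Nontrivial X := ⟨⟨a, 1, fun h => haZ (h ▸ Subgroup.one_mem _)⟩⟩
      have hZne : Subgroup.center X ≠ ⊥ := by
        have := hXp.center_nontrivial
        rw [← Subgroup.nontrivial_iff_ne_bot]
        exact this
      have hWcard : Nat.card W = p ^ 2 := by
        have h1 : Nat.card W ∣ p ^ 2 := hA ▸ Subgroup.card_dvd_of_le hWA
        obtain ⟨k, hk, hkW⟩ := (Nat.dvd_prime_pow hp).mp h1
        have h2 : Nat.card (Subgroup.center X) ∣ Nat.card W :=
          Subgroup.card_dvd_of_le le_sup_right
        have h3 : Nat.card (Subgroup.center X) ≠ Nat.card W := by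
          intro h
          have : Subgroup.center X = W := Subgroup.eq_of_le_of_card_ge le_sup_right h.ge
          apply haZ
          rw [this]
          exact le_sup_left (a := Subgroup.zpowers a) (Subgroup.mem_zpowers a)
        have h4 : Nat.card (Subgroup.center X) ≠ 1 := fun h => hZne (Subgroup.card_eq_one.mp h)
        rw [hkW] at h2 h3
        obtain ⟨j, hj, hjZ⟩ := (Nat.dvd_prime_pow hp).mp h2
        rw [hjZ] at h3 h4
        have hj0 : j ≠ 0 := by rintro rfl; simp at h4
        have hjk : j ≠ k := by rintro rfl; exact h3 rfl
        have : k = 2 := by omega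
        rw [hkW, this]
      have hWeq : W = A := Subgroup.eq_of_le_of_card_ge hWA (by rw [hWcard, hA])
      intro x hx
      rw [← hC, Subgroup.mem_centralizer_iff]
      have hle : W ≤ Subgroup.centralizer {x} := by
        apply sup_le
        · rw [Subgroup.zpowers_le, Subgroup.mem_centralizer_singleton_iff]
          exact (Subgroup.mem_centralizer_singleton_iff.mp hx).symm
        · intro z hz
          rw [Subgroup.mem_centralizer_singleton_iff]
          exact ((Subgroup.mem_center_iff.mp hz) x).symm
      intro y hy
      have := hle (hWeq ▸ hy)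
      rw [Subgroup.mem_centralizer_singleton_iff] at this
      exact this
    · intro x hx
      rw [Subgroup.mem_centralizer_singleton_iff]
      exact hAcomm x hx a haA

end MaxClass

end Cfsg.Agent.Lib.Helper1
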