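import Mathlib
import Cfsg.Agent.Lib.Helper1.AbNormal
import Cfsg.Agent.Lib.Helper1.Frattini
import Cfsg.Agent.Lib.Helper1.Extraspecial
import Cfsg.Agent.Lib.Helper1.ExtraspecialOrder
import Cfsg.Agent.Lib.Helper1.ClassTwo
import Cfsg.Agent.Lib.Helper1.Nilpotent

/-!
Groups of order `p⁴` and related facts on `p`-groups.
-/

set_option autoImplicit false

open Subgroup
open scoped commutatorElement

namespace Cfsg.Agent.Lib.Helper1.OrderP4

universe u

variable {P : Type u} [Group P]

theorem comm_of_center_eq_top (h : center P = ⊤) : ∀ a b : P, a * b = b * a := by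
  intro a b
  have : b ∈ center P := h ▸ mem_top b
  exact (Subgroup.mem_center_iff.mp this a)

theorem center_eq_top_of_comm (h : ∀ a b : P, a * b = b * a) : center P = ⊤ := by
  rw [eq_top_iff]
  intro x _
  rw [Subgroup.mem_center_iff]
  intro g
  exact h g x

theorem commutator_eq_bot_of_comm (h : ∀ a b : P, a * b = b * a) : commutator P = ⊥ := by
  rw [commutator_eq_bot_iff_center_eq_top]
  exact center_eq_top_of_comm h

/-- a group whose centre has prime index is abelian (so this cannot happen) -/
theorem center_index_ne_prime [Finite P] {p : ℕ} (hp : p.Prime) : (center P).index ≠ p := by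
  intro h
  have hcard : Nat.card (P ⧸ center P) = p := by rw [← Subgroup.index_eq_card, h]
  have : Fact p.Prime := ⟨hp⟩
  have hcyc : IsCyclic (P ⧸ center P) := isCyclic_of_prime_card hcard
  have hcomm : ∀ a b : P, a * b = b * a := by
    have hc := MonoidHom.isMulCommutative_of_isCyclic_of_ker_le_center (QuotientGroup.mk' (center P))
      (by rw [QuotientGroup.ker_mk'])
    exact fun a b => hc.is_comm.comm a b
  rw [center_eq_top_of_comm hcomm, Subgroup.index_top] at h
  exact hp.one_lt.ne h

/-- If the centre of a finite `p`-group has index `p²` then the derived subgroup has order `p`. -/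
theorem card_commutator_of_index_center [Finite P] {p : ℕ} [hp : Fact p.Prime] (hP : IsPGroup p P)
    (hZ : (center P).index = p ^ 2) : Nat.card (commutator P) = p := by
  have hpp := hp.out
  obtain ⟨a, ha⟩ : ∃ a : P, a ∉ center P := by
    by_contra h
    push Not at h
    have : center P = ⊤ := eq_top_iff.mpr fun x _ => h x
    rw [this, Subgroup.index_top] at hZ
    have := hpp.one_lt
    nlinarith
  set A : Subgroup P := center P ⊔ Subgroup.zpowers a with hA
  have hZA : center P ≤ A := le_sup_left
  have haA : a ∈ A := (le_sup_right : Subgroup.zpowers a ≤ A) (Subgroup.mem_zpowers a)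
  have hcomm : ∀ x ∈ A, ∀ y ∈ A, Commute x y := by
    have hS : ∀ x ∈ ((center P : Set P) ∪ {a}), ∀ y ∈ ((center P : Set P) ∪ {a}), x * y = y * x := by
      rintro x (hx | hx) y hy
      · exact (Subgroup.mem_center_iff.mp hx y).symm
      · rcases hy with hy | hy
        · exact Subgroup.mem_center_iff.mp hy x
        · rw [Set.mem_singleton_iff] at hx hy; rw [hx, hy]
    have hc := Subgroup.isMulCommutative_closure hS
    rw [Subgroup.closure_union, Subgroup.closure_eq, ← Subgroup.zpowers_eq_closure, ← hA] at hc
    intro x hx y hy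
    exact congrArg Subtype.val (hc.is_comm.comm (⟨x, hx⟩ : A) ⟨y, hy⟩)
  have hAtop : A ≠ ⊤ := by
    intro h
    apply ha
    rw [Subgroup.mem_center_iff]
    intro g
    exact (hcomm g (h ▸ mem_top g) a haA).eq
  have hAidx : A.index = p := by
    have h1 : A.index ∣ p ^ 2 := hZ ▸ Subgroup.index_dvd_of_le hZA
    obtain ⟨m, hm, hm'⟩ := (Nat.dvd_prime_pow hpp).mp h1
    have h2 := Subgroup.relIndex_mul_index hZA
    interval_cases m
    · rw [pow_zero] at hm'
      exact absurd (Subgroup.index_eq_one.mp hm') hAtop
    · rw [pow_one] at hm'; exact hm'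
    · exfalso
      rw [hm', hZ] at h2
      have h3 : (center P).relIndex A = 1 :=
        Nat.eq_of_mul_eq_mul_right (pow_pos hpp.pos 2) (by rw [h2, one_mul])
      exact ha (Subgroup.relIndex_eq_one.mp h3 haA)
  have hAco : IsCoatom A := isCoatom_of_index_prime (hAidx ▸ hpp)
  have hAn : A.Normal := IsPGroup.normal_of_isCoatom hP hAco
  obtain ⟨b, hb⟩ : ∃ b : P, b ∉ A := by
    by_contra h
    push Not at h
    exact hAtop (eq_top_iff.mpr fun x _ => h x)
  have hgen : A ⊔ Subgroup.zpowers b = ⊤ := by
    apply hAco.2
    refine lt_of_le_of_ne le_sup_left ?_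
    intro e
    apply hb
    rw [e]
    exact (le_sup_right : Subgroup.zpowers b ≤ _) (Subgroup.mem_zpowers b)
  have key := AbNormal.card_eq_card_inf_center_mul_card_commutator hAn hcomm hgen
  rw [inf_of_le_right hZA] at key
  have h1 := Subgroup.card_mul_index A
  have h2 := Subgroup.card_mul_index (center P)
  rw [hAidx] at h1
  rw [hZ] at h2
  have hZpos : 0 < Nat.card (center P) := Nat.card_pos
  have h3 : Nat.card (center P) * Nat.card (commutator P) * p = Nat.card (center P) * p ^ 2 := by
    rw [← key, h1, h2]
  have h4 : Nat.card (commutator P) * p = p * p := by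
    have : Nat.card (center P) * (Nat.card (commutator P) * p) = Nat.card (center P) * (p * p) := by
      rw [← mul_assoc, h3, sq]
    exact Nat.eq_of_mul_eq_mul_left hZpos this
  exact Nat.eq_of_mul_eq_mul_right hpp.pos h4

/-- In a group of order `p⁴` with `|P'| = p`, the centre has index `p²`. -/
theorem index_center_of_card_commutator [Finite P] {p : ℕ} [hp : Fact p.Prime]
    (hP4 : Nat.card P = p ^ 4) (hD : Nat.card (commutator P) = p) : (center P).index = p ^ 2 := by
  have hpp := hp.out
  have hP : IsPGroup p P := IsPGroup.of_card hP4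
  have hDZ : commutator P ≤ center P := le_center_of_normal_of_card_prime hP _ hD
  have hcl : ∀ a b : P, ⁅a, b⁆ ∈ center P := fun a b =>
    hDZ (Subgroup.commutator_mem_commutator (mem_top a) (mem_top b))
  have h1 : (center P).index ∣ p ^ 4 := hP4 ▸ Subgroup.index_dvd_card _
  obtain ⟨m, hm, hm'⟩ := (Nat.dvd_prime_pow hpp).mp h1
  have hmul := Subgroup.card_mul_index (center P)
  interval_cases m
  · exfalso
    rw [pow_zero] at hm'
    have hc := comm_of_center_eq_top (Subgroup.index_eq_one.mp hm')
    rw [commutator_eq_bot_of_comm hc, Subgroup.card_bot] at hD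
    exact hpp.one_lt.ne hD
  · exfalso
    rw [pow_one] at hm'
    exact center_index_ne_prime hpp hm'
  · exact hm'
  · exfalso
    rw [hm', hP4] at hmul
    have hZ : Nat.card (center P) = p := by
      have : Nat.card (center P) * p ^ 3 = p * p ^ 3 := by rw [hmul]; ring
      exact Nat.eq_of_mul_eq_mul_right (pow_pos hpp.pos 3) this
    obtain ⟨k, hk⟩ := card_eq_pow_of_inf_centralizer_le hcl hZ (p ^ 4) ⊤
      (by rw [Subgroup.card_top, hP4]) le_top
      (by rw [Subgroup.coe_top, Subgroup.centralizer_univ]; exact inf_le_right)
    have := Nat.pow_right_injective hpp.two_le hk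
    omega
  · exfalso
    rw [hm', hP4] at hmul
    have hZ : Nat.card (center P) = 1 := by
      have : Nat.card (center P) * p ^ 4 = 1 * p ^ 4 := by rw [hmul]; ring
      exact Nat.eq_of_mul_eq_mul_right (pow_pos hpp.pos 4) this
    have hnt : Nontrivial P := by
      rw [← Finite.one_lt_card_iff_nontrivial, hP4]
      exact Nat.one_lt_pow (by norm_num) hpp.one_lt
    have := hP.center_nontrivial
    rw [← Finite.one_lt_card_iff_nontrivial] at this
    omega


/-- In a nonabelian finite `p`-group, `p²` divides the index of the derived subgroup. -/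
theorem sq_dvd_index_commutator [Finite P] {p : ℕ} [hp : Fact p.Prime] (hP : IsPGroup p P)
    (hnc : ¬ ∀ a b : P, a * b = b * a) : p ^ 2 ∣ (commutator P).index := by
  have hpp := hp.out
  obtain ⟨n, hn⟩ := hP.exists_card_eq
  have h1 : (commutator P).index ∣ p ^ n := hn ▸ Subgroup.index_dvd_card _
  obtain ⟨m, hm, hm'⟩ := (Nat.dvd_prime_pow hpp).mp h1
  have hnil : Group.IsNilpotent P := hP.isNilpotent
  have hnt : Nontrivial P := by
    by_contra h
    rw [not_nontrivial_iff_subsingleton] at h
    exact hnc fun a b => Subsingleton.elim _ _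
  have hlt : commutator P < ⊤ := Group.IsSolvable.commutator_lt_top_of_nontrivial P
  rcases Nat.lt_or_ge m 2 with hm2 | hm2
  · exfalso
    interval_cases m
    · rw [pow_zero] at hm'
      exact hlt.ne (Subgroup.index_eq_one.mp hm')
    · rw [pow_one] at hm'
      have hco : IsCoatom (commutator P) := isCoatom_of_index_prime (hm' ▸ hpp)
      obtain ⟨x, hx⟩ : ∃ x : P, x ∉ commutator P := by
        by_contra h
        push Not at h
        exact hlt.ne (eq_top_iff.mpr fun x _ => h x)
      have hcyc : Subgroup.zpowers x = ⊤ := by
        by_contra hne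
        obtain ⟨M, hM, hle⟩ := (eq_top_or_exists_le_coatom _).resolve_left hne
        have h2 : commutator P ≤ M :=
          (IsPGroup.commutator_le_frattini hP).trans (le_frattini_iff.mp le_rfl M hM)
        have h3 : commutator P = M := by
          by_contra hne'
          exact hM.1 (hco.2 M (lt_of_le_of_ne h2 hne'))
        exact hx (h3 ▸ hle (Subgroup.mem_zpowers x))
      apply hnc
      intro a b
      obtain ⟨i, rfl⟩ := Subgroup.mem_zpowers_iff.mp (hcyc ▸ mem_top a)
      obtain ⟨j, rfl⟩ := Subgroup.mem_zpowers_iff.mp (hcyc ▸ mem_top b)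
      rw [← zpow_add, ← zpow_add, add_comm]
  · rw [hm']; exact pow_dvd_pow p hm2

theorem commutator_le_center_of_class_le_two [hnil : Group.IsNilpotent P]
    (h : Group.nilpotencyClass P ≤ 2) : commutator P ≤ center P := by
  have h1 := Subgroup.lowerCentralSeries_eq_bot_iff_nilpotencyClass_le.mpr h
  apply commutator_le_center_of_class_two
  rw [← h1]
  rfl

theorem class_le_two_of_commutator_le_center [hnil : Group.IsNilpotent P]
    (h : commutator P ≤ center P) : Group.nilpotencyClass P ≤ 2 := by
  rw [← Subgroup.lowerCentralSeries_eq_bot_iff_nilpotencyClass_le]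
  have : (⊤ : Subgroup P).lowerCentralSeries 2 = ⁅commutator P, (⊤ : Subgroup P)⁆ := rfl
  rw [this, Subgroup.commutator_eq_bot_iff_le_centralizer, Subgroup.coe_top,
    Subgroup.centralizer_univ]
  exact h

/-- order `p⁴`: `[P : P'] = p²` iff class `3`. -/
theorem index_commutator_iff_class [Finite P] {p : ℕ} [hp : Fact p.Prime]
    (hP4 : Nat.card P = p ^ 4) :
    (commutator P).index = p ^ 2 ↔ Group.nilpotencyClass P = 3 := by
  have hpp := hp.out
  have hP : IsPGroup p P := IsPGroup.of_card hP4
  have hnil : Group.IsNilpotent P := hP.isNilpotent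
  have hle3 : Group.nilpotencyClass P ≤ 3 := by
    have := nilpotencyClass_le_of_card_pow (p := p) 4 P hP4
    simpa using this
  have hmul := Subgroup.card_mul_index (commutator P)
  constructor
  · intro hidx
    have hnc : ¬ ∀ a b : P, a * b = b * a := by
      intro hc
      rw [commutator_eq_bot_of_comm hc, Subgroup.index_bot, hP4] at hidx
      have := Nat.pow_right_injective hpp.two_le hidx
      omega
    by_contra hne
    have hle2 : Group.nilpotencyClass P ≤ 2 := by omega
    have hDZ := commutator_le_center_of_class_le_two hle2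
    have h1 : (center P).index ∣ p ^ 2 := hidx ▸ Subgroup.index_dvd_of_le hDZ
    obtain ⟨m, hm, hm'⟩ := (Nat.dvd_prime_pow hpp).mp h1
    interval_cases m
    · rw [pow_zero] at hm'
      exact hnc (comm_of_center_eq_top (Subgroup.index_eq_one.mp hm'))
    · rw [pow_one] at hm'
      exact center_index_ne_prime hpp hm'
    · have hD := card_commutator_of_index_center hP hm'
      rw [hD, hidx, hP4] at hmul
      have : p ^ 3 = p ^ 4 := by rw [← hmul]; ring
      have := Nat.pow_right_injective hpp.two_le this
      omega
  · intro hcl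
    have hnc : ¬ ∀ a b : P, a * b = b * a := by
      intro hc
      have h1 : commutator P ≤ center P := by
        rw [commutator_eq_bot_of_comm hc]; exact bot_le
      have := class_le_two_of_commutator_le_center h1
      omega
    have hsq := sq_dvd_index_commutator hP hnc
    obtain ⟨k, hk⟩ := (hP.to_subgroup (commutator P)).exists_card_eq
    have h1 : (commutator P).index ∣ p ^ 4 := hP4 ▸ Subgroup.index_dvd_card _
    obtain ⟨m, hm, hm'⟩ := (Nat.dvd_prime_pow hpp).mp h1
    rw [hk, hm', hP4, ← pow_add] at hmul
    have hkm : k + m = 4 := Nat.pow_right_injective hpp.two_le hmul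
    have hm2 : 2 ≤ m := by
      rw [hm'] at hsq
      exact (Nat.pow_dvd_pow_iff_le_right hpp.one_lt).mp hsq
    have hk2 : k = 2 := by
      by_contra hk2
      have hk01 : k = 0 ∨ k = 1 := by omega
      rcases hk01 with h0 | h1'
      · rw [h0, pow_zero] at hk
        have hbot := Subgroup.card_eq_one.mp hk
        have h1 : commutator P ≤ center P := by rw [hbot]; exact bot_le
        have := class_le_two_of_commutator_le_center h1
        omega
      · rw [h1', pow_one] at hk
        have h1 : commutator P ≤ center P := le_center_of_normal_of_card_prime hP _ hk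
        have := class_le_two_of_commutator_le_center h1
        omega
    have : m = 2 := by omega
    rw [hm', this]

end Cfsg.Agent.Lib.Helper1.OrderP4
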