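import Mathlib
import Cfsg.Agent.Lib.Helper1.OrderP4

/-!
`p`-groups of maximal class: the lower central series and normal subgroups.
-/

set_option autoImplicit false

open Subgroup
open scoped commutatorElement

namespace Cfsg.Agent.Lib.Helper1.MaxClassLcs

universe u

variable {G : Type u} [Group G]

/-- if the lower central series stabilizes at step `i`, it stays there -/
theorem lcs_const_of_eq {i : ℕ}
    (h : (⊤ : Subgroup G).lowerCentralSeries (i + 1) = (⊤ : Subgroup G).lowerCentralSeries i) :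
    ∀ j, i ≤ j → (⊤ : Subgroup G).lowerCentralSeries j = (⊤ : Subgroup G).lowerCentralSeries i := by
  intro j hj
  induction j, hj using Nat.le_induction with
  | base => rfl
  | succ j hj ih =>
    rw [Subgroup.lowerCentralSeries_succ, ih, ← Subgroup.lowerCentralSeries_succ, h]

/-- exponents of the orders of the lower central series in a group of maximal class -/
theorem card_lcs [Finite G] {p : ℕ} [hp : Fact p.Prime] (n : ℕ) (hG : Nat.card G = p ^ n)
    (hcl : Group.nilpotencyClass G = n - 1) (hn : 3 ≤ n) :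
    ∀ i, 1 ≤ i → i ≤ n - 1 → Nat.card ((⊤ : Subgroup G).lowerCentralSeries i) = p ^ (n - 1 - i) := by
  have hpp := hp.out
  have hP : IsPGroup p G := IsPGroup.of_card hG
  have hnil : Group.IsNilpotent G := hP.isNilpotent
  -- exponents
  have hex : ∀ i, ∃ e, Nat.card ((⊤ : Subgroup G).lowerCentralSeries i) = p ^ e :=
    fun i => (hP.to_subgroup _).exists_card_eq
  choose e he using hex
  have hbot : ∀ i, (⊤ : Subgroup G).lowerCentralSeries i = ⊥ ↔ n - 1 ≤ i := by
    intro i
    rw [Subgroup.lowerCentralSeries_eq_bot_iff_nilpotencyClass_le, hcl]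
  have he0 : ∀ i, e i = 0 ↔ n - 1 ≤ i := by
    intro i
    rw [← hbot i, ← Subgroup.card_eq_one, he i]
    constructor
    · intro h; rw [h, pow_zero]
    · intro h
      by_contra h0
      have := Nat.one_lt_pow h0 hpp.one_lt
      omega
  have hstrict : ∀ i, i < n - 1 → e (i + 1) < e i := by
    intro i hi
    have hle : (⊤ : Subgroup G).lowerCentralSeries (i + 1) ≤ (⊤ : Subgroup G).lowerCentralSeries i :=
      Subgroup.lowerCentralSeries_antitone _ (Nat.le_succ i)
    have hne : (⊤ : Subgroup G).lowerCentralSeries (i + 1) ≠ (⊤ : Subgroup G).lowerCentralSeries i := by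
      intro h
      have h1 := lcs_const_of_eq h (n - 1) hi.le
      have h2 := (hbot (n - 1)).mpr le_rfl
      rw [h2] at h1
      have := (hbot i).mp h1.symm
      omega
    have hlt := card_lt_of_lt (lt_of_le_of_ne hle hne)
    rw [he, he] at hlt
    exact (Nat.pow_lt_pow_iff_right hpp.one_lt).mp hlt
  -- e 1 ≤ n - 2
  have hnc : ¬ ∀ a b : G, a * b = b * a := by
    intro hc
    have h1 : commutator G ≤ center G := by
      rw [OrderP4.commutator_eq_bot_of_comm hc]; exact bot_le
    have := OrderP4.class_le_two_of_commutator_le_center h1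
    -- class ≤ 1 actually; use commutator = ⊥ ↔ class ≤ 1
    have h2 : (⊤ : Subgroup G).lowerCentralSeries 1 = ⊥ := OrderP4.commutator_eq_bot_of_comm hc
    have := (hbot 1).mp h2
    omega
  have he1 : e 1 + 2 ≤ n := by
    have hsq := OrderP4.sq_dvd_index_commutator hP hnc
    have hmul := Subgroup.card_mul_index (commutator G)
    have hc1 : Nat.card (commutator G) = p ^ e 1 := he 1
    obtain ⟨k, hk⟩ := hsq
    rw [hc1, hk, hG] at hmul
    -- p^(e 1) * (p^2 * k) = p^n
    have hdvd : p ^ (e 1 + 2) ∣ p ^ n := ⟨k, by rw [← hmul, pow_add]; ring⟩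
    exact (Nat.pow_dvd_pow_iff_le_right hpp.one_lt).mp hdvd
  have hupper : ∀ i, 1 ≤ i → i ≤ n - 1 → e i + 1 + i ≤ n := by
    intro i hi
    induction i, hi using Nat.le_induction with
    | base => intro _; omega
    | succ i hi ih =>
      intro hin
      have := ih (by omega)
      have := hstrict i (by omega)
      omega
  have hlower : ∀ k i, i + k = n - 1 → k ≤ e i := by
    intro k
    induction k with
    | zero => intro i _; exact Nat.zero_le _
    | succ k ih =>
      intro i hi
      have := ih (i + 1) (by omega)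
      have := hstrict i (by omega)
      omega
  intro i hi1 hin
  rw [he i]
  congr 1
  have h1 := hupper i hi1 hin
  have h2 := hlower (n - 1 - i) i (by omega)
  omega

theorem index_lcs [Finite G] {p : ℕ} [hp : Fact p.Prime] (n : ℕ) (hG : Nat.card G = p ^ n)
    (hcl : Group.nilpotencyClass G = n - 1) (hn : 3 ≤ n) (i : ℕ) (hi1 : 1 ≤ i) (hin : i ≤ n - 1) :
    ((⊤ : Subgroup G).lowerCentralSeries i).index = p ^ (i + 1) := by
  have hpp := hp.out
  have h1 := card_lcs n hG hcl hn i hi1 hin
  have h2 := Subgroup.card_mul_index ((⊤ : Subgroup G).lowerCentralSeries i)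
  rw [h1, hG] at h2
  have h3 : p ^ n = p ^ (n - 1 - i) * p ^ (i + 1) := by
    rw [← pow_add]; congr 1; omega
  rw [h3] at h2
  exact Nat.eq_of_mul_eq_mul_left (pow_pos hpp.pos _) h2

/-- normal subgroups of index `p ^ r`, `r ≥ 2`, are terms of the lower central series -/
theorem eq_lcs_of_normal [Finite G] {p : ℕ} [hp : Fact p.Prime] (n : ℕ) (hG : Nat.card G = p ^ n)
    (hcl : Group.nilpotencyClass G = n - 1) (hn : 3 ≤ n) (N : Subgroup G) [N.Normal] (r : ℕ)
    (hr : 2 ≤ r) (hN : N.index = p ^ r) : N = (⊤ : Subgroup G).lowerCentralSeries (r - 1) := by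
  have hpp := hp.out
  have hrn : r ≤ n := by
    have : p ^ r ∣ p ^ n := by rw [← hN, ← hG]; exact Subgroup.index_dvd_card N
    exact (Nat.pow_dvd_pow_iff_le_right hpp.one_lt).mp this
  have hQ : Nat.card (G ⧸ N) = p ^ r := by rw [← Subgroup.index_eq_card, hN]
  have hQp : IsPGroup p (G ⧸ N) := IsPGroup.of_card hQ
  have hQnil : Group.IsNilpotent (G ⧸ N) := hQp.isNilpotent
  have hclQ : Group.nilpotencyClass (G ⧸ N) ≤ r - 1 := by
    have := nilpotencyClass_le_of_card_pow (p := p) r (G ⧸ N) hQ
    have h2 : max 1 (r - 1) = r - 1 := by omega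
    rwa [h2] at this
  have hle : (⊤ : Subgroup G).lowerCentralSeries (r - 1) ≤ N := by
    have h1 := Subgroup.lowerCentralSeries_eq_bot_iff_nilpotencyClass_le.mpr hclQ
    have h2 := Subgroup.map_lowerCentralSeries (⊤ : Subgroup G) (QuotientGroup.mk' N) (r - 1)
    rw [← MonoidHom.range_eq_map, MonoidHom.range_eq_top.mpr (QuotientGroup.mk'_surjective N),
      h1] at h2
    rw [← QuotientGroup.ker_mk' N]
    exact (Subgroup.map_eq_bot_iff _).mp h2
  have hidx := index_lcs n hG hcl hn (r - 1) (by omega) (by omega)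
  have hr1 : r - 1 + 1 = r := by omega
  rw [hr1] at hidx
  have h3 := Subgroup.relIndex_mul_index hle
  rw [hidx, hN] at h3
  have h4 : ((⊤ : Subgroup G).lowerCentralSeries (r - 1)).relIndex N = 1 :=
    Nat.eq_of_mul_eq_mul_right (pow_pos hpp.pos r) (by rw [h3, one_mul])
  exact le_antisymm (Subgroup.relIndex_eq_one.mp h4) hle


/-- a non-cyclic group of order `p²` has exactly `p + 1` subgroups of order `p` -/
theorem card_subgroups_of_order_p {Q : Type*} [Group Q] [Finite Q] {p : ℕ} [hp : Fact p.Prime]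
    (hQ : Nat.card Q = p ^ 2) (hnc : ¬ IsCyclic Q) :
    Nat.card {H : Subgroup Q // Nat.card H = p} = p + 1 := by
  classical
  have hpp := hp.out
  have hord : ∀ x : Q, x ≠ 1 → orderOf x = p := by
    intro x hx
    have h1 : orderOf x ∣ p ^ 2 := hQ ▸ orderOf_dvd_natCard x
    obtain ⟨m, hm, hm'⟩ := (Nat.dvd_prime_pow hpp).mp h1
    interval_cases m
    · rw [pow_zero] at hm'
      exact absurd (orderOf_eq_one_iff.mp hm') hx
    · rw [pow_one] at hm'; exact hm'
    · exfalso
      apply hnc
      exact isCyclic_of_orderOf_eq_card x (by rw [hm', hQ])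
  have : Fintype {H : Subgroup Q // Nat.card H = p} := Fintype.ofFinite _
  -- the sigma type
  let F : {H : Subgroup Q // Nat.card H = p} → Type _ := fun H => {x : Q // x ∈ H.1 ∧ x ≠ 1}
  have hFcard : ∀ H, Nat.card (F H) = p - 1 := by
    intro H
    have e : F H ≃ {y : H.1 // y ≠ 1} :=
      ⟨fun x => ⟨⟨x.1, x.2.1⟩, fun h => x.2.2 (congrArg Subtype.val h)⟩,
        fun y => ⟨y.1.1, y.1.2, fun h => y.2 (Subtype.ext h)⟩, fun x => rfl, fun y => rfl⟩
    rw [Nat.card_congr e]
    have : Fintype H.1 := Fintype.ofFinite _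
    rw [Nat.card_eq_fintype_card, Fintype.card_subtype_compl, Fintype.card_subtype_eq,
      ← Nat.card_eq_fintype_card, H.2]
  let f : (Σ H, F H) → {x : Q // x ≠ 1} := fun y => ⟨y.2.1, y.2.2.2⟩
  have hzp : ∀ (H : Subgroup Q), Nat.card H = p → ∀ x ∈ H, x ≠ 1 → Subgroup.zpowers x = H := by
    intro H hH x hx hx1
    apply Subgroup.eq_of_le_of_card_ge ((Subgroup.zpowers_le).mpr hx)
    rw [Nat.card_zpowers, hord x hx1, hH]
  have hf : Function.Bijective f := by
    constructor
    · rintro ⟨H, x, hx, hx1⟩ ⟨H', x', hx', hx1'⟩ h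
      have hxx : x = x' := congrArg Subtype.val h
      subst hxx
      have hHH : H = H' := Subtype.ext ((hzp H.1 H.2 x hx hx1).symm.trans (hzp H'.1 H'.2 x hx' hx1))
      subst hHH
      rfl
    · rintro ⟨x, hx⟩
      exact ⟨⟨⟨Subgroup.zpowers x, by rw [Nat.card_zpowers, hord x hx]⟩, x,
        Subgroup.mem_zpowers x, hx⟩, rfl⟩
  have h1 : Nat.card (Σ H, F H) = Nat.card {x : Q // x ≠ 1} := Nat.card_eq_of_bijective f hf
  have h2 : Nat.card {x : Q // x ≠ 1} = p ^ 2 - 1 := by
    have : Fintype Q := Fintype.ofFinite _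
    rw [Nat.card_eq_fintype_card, Fintype.card_subtype_compl, Fintype.card_subtype_eq,
      ← Nat.card_eq_fintype_card, hQ]
  rw [Nat.card_sigma] at h1
  simp only [hFcard, Finset.sum_const, Finset.card_univ, smul_eq_mul] at h1
  rw [h2, ← Nat.card_eq_fintype_card] at h1
  have hp1 : 0 < p - 1 := Nat.sub_pos_of_lt hpp.one_lt
  have h3 : p ^ 2 - 1 = (p + 1) * (p - 1) := by
    have : 1 ≤ p := hpp.one_lt.le
    zify [this, Nat.one_le_pow 2 p hpp.pos]
    ring
  rw [h3] at h1
  exact Nat.eq_of_mul_eq_mul_right hp1 h1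

/-- a `p`-group of maximal class has exactly `p + 1` normal subgroups of index `p` -/
theorem card_normal_index_p [Finite G] {p : ℕ} [hp : Fact p.Prime] (n : ℕ) (hG : Nat.card G = p ^ n)
    (hcl : Group.nilpotencyClass G = n - 1) (hn : 3 ≤ n) :
    Nat.card {N : Subgroup G // N.Normal ∧ N.index = p} = p + 1 := by
  have hpp := hp.out
  have hP : IsPGroup p G := IsPGroup.of_card hG
  have hidx : (commutator G).index = p ^ 2 := index_lcs n hG hcl hn 1 le_rfl (by omega)
  have hQ : Nat.card (G ⧸ commutator G) = p ^ 2 := by rw [← Subgroup.index_eq_card, hidx]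
  set π := QuotientGroup.mk' (commutator G) with hπ
  have hπs : Function.Surjective π := QuotientGroup.mk'_surjective _
  have hker : π.ker = commutator G := QuotientGroup.ker_mk' _
  have hnc : ¬ IsCyclic (G ⧸ commutator G) := by
    intro hc
    obtain ⟨g, hg⟩ := hc.exists_generator
    obtain ⟨x, rfl⟩ := hπs g
    have hsup : Subgroup.zpowers x ⊔ commutator G = ⊤ := by
      rw [eq_top_iff]
      intro y _
      obtain ⟨k, hk⟩ := Subgroup.mem_zpowers_iff.mp (hg (π y))
      have : (x ^ k)⁻¹ * y ∈ commutator G := by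
        rw [← hker, MonoidHom.mem_ker, map_mul, map_inv, map_zpow, hk, inv_mul_cancel]
      have e : y = x ^ k * ((x ^ k)⁻¹ * y) := by group
      rw [e]
      exact Subgroup.mul_mem _ ((le_sup_left : Subgroup.zpowers x ≤ _)
        (Subgroup.zpow_mem _ (Subgroup.mem_zpowers x) k)) ((le_sup_right : commutator G ≤ _) this)
    have hsup' : Subgroup.zpowers x ⊔ frattini G = ⊤ := by
      rw [eq_top_iff, ← hsup]
      exact sup_le_sup_left (IsPGroup.commutator_le_frattini hP) _
    have htop := frattini_nongenerating hsup'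
    -- G cyclic, hence abelian: class ≤ 1
    have hc : ∀ a b : G, a * b = b * a := by
      intro a b
      obtain ⟨i, rfl⟩ := Subgroup.mem_zpowers_iff.mp (htop ▸ mem_top a)
      obtain ⟨j, rfl⟩ := Subgroup.mem_zpowers_iff.mp (htop ▸ mem_top b)
      rw [← zpow_add, ← zpow_add, add_comm]
    have h1 := OrderP4.commutator_eq_bot_of_comm hc
    rw [h1, Subgroup.index_bot, hG] at hidx
    have := Nat.pow_right_injective hpp.two_le hidx
    omega
  rw [← card_subgroups_of_order_p hQ hnc]
  have hle : ∀ N : Subgroup G, N.Normal → N.index = p → commutator G ≤ N := by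
    intro N hN hi
    have hc : Nat.card (G ⧸ N) = p := by rw [← Subgroup.index_eq_card, hi]
    have hcyc : IsCyclic (G ⧸ N) := isCyclic_of_prime_card hc
    rw [← Subgroup.Normal.quotient_commutative_iff_commutator_le]
    exact ⟨⟨fun a b => by
      let _ := IsCyclic.commGroup (α := G ⧸ N)
      exact mul_comm a b⟩⟩
  refine Nat.card_congr ⟨fun N => ⟨N.1.map π, ?_⟩, fun H => ⟨H.1.comap π, ?_, ?_⟩, ?_, ?_⟩
  · have h1 := Subgroup.card_mul_index (N.1.map π)
    rw [Subgroup.index_map_eq N.1 hπs (hker.symm ▸ hle N.1 N.2.1 N.2.2), N.2.2, hQ, sq] at h1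
    exact Nat.eq_of_mul_eq_mul_right hpp.pos h1
  · have hHn : H.1.Normal := by
      refine ⟨fun h hh g => ?_⟩
      have hcomm : g * h = h * g := by
        obtain ⟨a, rfl⟩ := hπs g
        obtain ⟨b, rfl⟩ := hπs h
        rw [← map_mul, ← map_mul, hπ, QuotientGroup.mk'_apply, QuotientGroup.mk'_apply,
          QuotientGroup.eq]
        have : (a * b)⁻¹ * (b * a) = ⁅b⁻¹, a⁻¹⁆ := by rw [commutatorElement_def]; group
        rw [this]
        exact Subgroup.commutator_mem_commutator (mem_top _) (mem_top _)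
      rw [hcomm, mul_inv_cancel_right]; exact hh
    exact hHn.comap π
  · rw [Subgroup.index_comap_of_surjective _ hπs]
    have h1 := Subgroup.card_mul_index H.1
    rw [H.2, hQ, sq] at h1
    exact Nat.eq_of_mul_eq_mul_left hpp.pos h1
  · intro N
    apply Subtype.ext
    exact Subgroup.comap_map_eq_self (hker.symm ▸ hle N.1 N.2.1 N.2.2)
  · intro H
    apply Subtype.ext
    exact Subgroup.map_comap_eq_self_of_surjective hπs H.1

end Cfsg.Agent.Lib.Helper1.MaxClassLcs
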