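import Cfsg.Agent.Lib.Helper1.ThompsonNPC3

set_option autoImplicit false
set_option linter.unusedSectionVars false
open scoped commutatorElement

namespace Cfsg.Agent.Lib.Helper1

namespace NilpMax

open Subgroup Cfsg Cfsg.Agent.Lib.Helper13

universe u

/-- A finite nilpotent group has a normal `p`-complement. -/
theorem hasNPC_of_isNilpotent {p : ℕ} [Fact p.Prime] : ∀ n : ℕ, ∀ (X : Type u) [Group X] [Finite X],
    Nat.card X = n → Group.IsNilpotent X → HasNormalPComplement p X := by
  intro n
  induction n using Nat.strong_induction_on with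
  | _ n ih =>
  intro X _ _ hn hnil
  have hp : p.Prime := Fact.out
  have hOn : (pPrimeCore p X).Normal := Cfsg.Agent.Lib.Helper1.pPrimeCore_normal p
  have hOcop : (Nat.card (pPrimeCore p X)).Coprime p := Cfsg.Agent.Lib.Helper1.pPrimeCore_coprime p
  by_cases hO : pPrimeCore p X = ⊥
  · -- `X` is a `p`-group
    apply hasNormalPComplement_of_isPGroup
    have hcard : Nat.card X = p ^ (Nat.card X).primeFactorsList.length := by
      apply Nat.eq_prime_pow_of_unique_prime_dvd Nat.card_pos.ne'
      intro q hq hqd
      by_contra hqp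
      have : Fact q.Prime := ⟨hq⟩
      obtain ⟨Q⟩ : Nonempty (Sylow q X) := inferInstance
      have hQn : (Q : Subgroup X).Normal :=
        Sylow.normal_of_normalizerCondition Group.normalizerCondition_of_isNilpotent Q
      have hQcop : (Nat.card (Q : Subgroup X)).Coprime p := by
        obtain ⟨k, hk⟩ := Q.isPGroup'.exists_card_eq
        rw [hk]
        exact Nat.Coprime.pow_left k ((Nat.coprime_primes hq hp).mpr hqp)
      have hle : (Q : Subgroup X) ≤ pPrimeCore p X := Cfsg.Agent.Lib.Helper1.le_pPrimeCore hQn hQcop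
      rw [hO] at hle
      have hQbot : (Q : Subgroup X) = ⊥ := eq_bot_iff.mpr hle
      have h1 : q ∣ Nat.card (Q : Subgroup X) := by
        rw [Q.card_eq_multiplicity]
        have : (Nat.card X).factorization q ≠ 0 := by
          intro h0
          rcases (Nat.factorization_eq_zero_iff _ _).mp h0 with h | h | h
          · exact h hq
          · exact h hqd
          · exact Nat.card_pos.ne' h
        exact dvd_pow_self q this
      rw [hQbot, Subgroup.card_bot] at h1
      exact hq.one_lt.ne' (Nat.dvd_one.mp h1)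
    exact IsPGroup.of_card hcard
  · have hlt : Nat.card (X ⧸ pPrimeCore p X) < n := by
      rw [← hn]
      exact card_quotient_lt_of_ne_bot hO
    have hq : HasNormalPComplement p (X ⧸ pPrimeCore p X) :=
      ih _ hlt (X ⧸ pPrimeCore p X) rfl inferInstance
    exact hasNormalPComplement_of_quotient _ hOcop hq

section Step

variable {G : Type u} [Group G] [Finite G]

/-- a subgroup `X ≤ M` normalized by the core-free maximal subgroup `M` has normalizer `M` -/
theorem normalizer_eq_of_coatom (M : Subgroup G) (hmax : IsCoatom M)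
    (hcf : ∀ N : Subgroup G, N.Normal → N ≤ M → N = ⊥) (X : Subgroup G) (hXM : X ≤ M) (hXne : X ≠ ⊥)
    (hMX : M ≤ normalizer (X : Set G)) : normalizer (X : Set G) = M := by
  have hne : normalizer (X : Set G) ≠ ⊤ := by
    intro h
    exact hXne (hcf X (Subgroup.normalizer_eq_top_iff.mp h) hXM)
  rcases eq_or_lt_of_le hMX with h | h
  · exact h.symm
  · exact absurd (hmax.2 _ h) hne

/-- **Step**: the group has a normal `p`-complement for every prime `p` dividing the order of a
core-free nilpotent maximal subgroup of odd order. -/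
theorem hasNPC_of_coatom (M : Subgroup G) (hmax : IsCoatom M) (hnil : Group.IsNilpotent M)
    (hodd : Odd (Nat.card M)) (hcf : ∀ N : Subgroup G, N.Normal → N ≤ M → N = ⊥)
    {p : ℕ} [Fact p.Prime] (hpM : p ∣ Nat.card M) : HasNormalPComplement p G := by
  have hp : p.Prime := Fact.out
  have hp2 : p ≠ 2 := by
    rintro rfl
    exact (Nat.not_even_iff_odd.mpr hodd) (even_iff_two_dvd.mpr hpM)
  obtain ⟨PM⟩ : Nonempty (Sylow p M) := inferInstance
  have hPMn : (PM : Subgroup M).Normal :=
    Sylow.normal_of_normalizerCondition Group.normalizerCondition_of_isNilpotent PM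
  set P : Subgroup G := (PM : Subgroup M).map M.subtype with hP
  have hPM : P ≤ M := Subgroup.map_subtype_le _
  have hPp : IsPGroup p P := PM.isPGroup'.map _
  have hPne : P ≠ ⊥ := by
    intro h
    have h1 : Nat.card P = Nat.card (PM : Subgroup M) :=
      Subgroup.card_map_of_injective M.subtype_injective
    rw [h, Subgroup.card_bot, PM.card_eq_multiplicity] at h1
    have : (Nat.card M).factorization p ≠ 0 := by
      intro h0
      rcases (Nat.factorization_eq_zero_iff _ _).mp h0 with h | h | h
      · exact h hp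
      · exact h hpM
      · exact Nat.card_pos.ne' h
    have h2 : p ∣ 1 := by
      rw [h1]; exact dvd_pow_self p this
    exact hp.one_lt.ne' (Nat.dvd_one.mp h2)
  have hMNP : M ≤ normalizer (P : Set G) := by
    have h1 := Subgroup.le_normalizer_map (H := (PM : Subgroup M)) M.subtype
    rw [Subgroup.normalizer_eq_top_iff.mpr hPMn] at h1
    intro m hm
    exact h1 ⟨⟨m, hm⟩, Subgroup.mem_top _, rfl⟩
  have hNP : normalizer (P : Set G) = M := normalizer_eq_of_coatom M hmax hcf P hPM hPne hMNP
  -- `P` is a Sylow subgroup of `G`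
  obtain ⟨S, hPS⟩ := hPp.exists_le_sylow
  have hPS' : P = S := by
    by_contra hne
    have hlt : P < (S : Subgroup G) := lt_of_le_of_ne hPS hne
    have hlt2 := lt_inf_normalizer_of_lt (S : Subgroup G) P S.isPGroup' hlt
    rw [hNP] at hlt2
    -- `S ⊓ M` is a `p`-subgroup of `M` containing `P`
    have h1 : IsPGroup p (((S : Subgroup G) ⊓ M).subgroupOf M) :=
      (S.isPGroup'.to_le inf_le_left).comap_subtype
    have h2 : (PM : Subgroup M) ≤ ((S : Subgroup G) ⊓ M).subgroupOf M := by
      intro x hx
      rw [Subgroup.mem_subgroupOf]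
      exact hlt2.le ⟨x, hx, rfl⟩
    have h3 := PM.is_maximal' h1 h2
    have h4 : (S : Subgroup G) ⊓ M ≤ P := by
      intro x hx
      have hxM : x ∈ M := hx.2
      have : (⟨x, hxM⟩ : M) ∈ ((S : Subgroup G) ⊓ M).subgroupOf M := Subgroup.mem_subgroupOf.mpr hx
      rw [h3] at this
      exact ⟨⟨x, hxM⟩, this, rfl⟩
    exact absurd (lt_of_lt_of_le hlt2 h4) (lt_irrefl _)
  have hW₁ := ThompsonNPC.isCharPFunctor_thompson.{u} (p := p)
  have hW₂ := ThompsonNPC.isCharPFunctor_center.{u} (p := p)
  have hSP : normalizer ((S : Subgroup G) : Set G) = M := hPS' ▸ hNP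
  have hSM : (S : Subgroup G) ≤ M := hPS' ▸ hPM
  have hSne : (S : Subgroup G) ≠ ⊥ := hPS' ▸ hPne
  have hMnpc : HasNormalPComplement p ↥M := hasNPC_of_isNilpotent _ ↥M rfl hnil
  apply ThompsonNPC.thompson_npc hp2 S
  · -- the normalizer of `J(S)`
    have hJne : thompsonSubgroupOf p (S : Subgroup G) ≠ ⊥ :=
      inducedFunctor_ne_bot hW₁ (S : Subgroup G) S.isPGroup' hSne
    have hJM : thompsonSubgroupOf p (S : Subgroup G) ≤ M :=
      (inducedFunctor_le (W := fun (Q : Type u) [Group Q] => thompsonSubgroup p Q) (S : Subgroup G)).trans hSM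
    have hMJ : M ≤ normalizer (thompsonSubgroupOf p (S : Subgroup G) : Set G) := by
      rw [← hSP]
      exact normalizer_le_normalizer_inducedFunctor hW₁ (S : Subgroup G) S.isPGroup'
    rw [normalizer_eq_of_coatom M hmax hcf _ hJM hJne hMJ]
    exact hMnpc
  · -- the centralizer of `Z(S)`
    have hZeq := ThompsonNPC.inducedFunctor_center (S : Subgroup G)
    have hZne : (S : Subgroup G) ⊓ centralizer ((S : Subgroup G) : Set G) ≠ ⊥ := by
      rw [← hZeq]
      exact inducedFunctor_ne_bot hW₂ (S : Subgroup G) S.isPGroup' hSne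
    have hZM : (S : Subgroup G) ⊓ centralizer ((S : Subgroup G) : Set G) ≤ M := inf_le_left.trans hSM
    have hMZ : M ≤ normalizer (((S : Subgroup G) ⊓ centralizer ((S : Subgroup G) : Set G) : Subgroup G) : Set G) := by
      rw [← hSP, ← hZeq]
      exact normalizer_le_normalizer_inducedFunctor hW₂ (S : Subgroup G) S.isPGroup'
    have hNZ := normalizer_eq_of_coatom M hmax hcf _ hZM hZne hMZ
    apply ThompsonNPC.npc_mono _ hMnpc
    rw [← hNZ]
    exact Subgroup.centralizer_le_normalizer _

end Step

section Main

variable {G : Type u} [Group G] [Finite G]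

/-- a minimal normal subgroup is a `p`-group or a `p'`-group when `G` has a normal `p`-complement -/
theorem isPGroup_or_not_dvd {p : ℕ} [Fact p.Prime] (h : HasNormalPComplement p G) (N : Subgroup G)
    [hN : N.Normal] (hmin : ∀ N' : Subgroup G, N'.Normal → N' ≤ N → N' = ⊥ ∨ N' = N) :
    IsPGroup p N ∨ ¬ p ∣ Nat.card N := by
  have hp : p.Prime := Fact.out
  obtain ⟨K, hKn, hKcop, k, hk⟩ := hasNormalPComplement_iff_exists.mp h
  have hNK : (N ⊓ K).Normal := inferInstance
  rcases hmin (N ⊓ K) hNK inf_le_left with h0 | h0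
  · left
    let f : N →* G ⧸ K := (QuotientGroup.mk' K).comp N.subtype
    have hf : Function.Injective f := by
      rw [injective_iff_map_eq_one]
      intro x hx
      have h1 : (x : G) ∈ K := (QuotientGroup.eq_one_iff (x : G)).mp hx
      have h2 : (x : G) ∈ N ⊓ K := ⟨x.2, h1⟩
      rw [h0, Subgroup.mem_bot] at h2
      exact Subtype.ext h2
    have h1 : Nat.card N ∣ Nat.card (G ⧸ K) := Subgroup.card_dvd_of_injective f hf
    rw [← Subgroup.index_eq_card, hk] at h1
    obtain ⟨j, -, hj⟩ := (Nat.dvd_prime_pow hp).mp h1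
    exact IsPGroup.of_card hj
  · right
    have hle : N ≤ K := by rw [← h0]; exact inf_le_right
    intro hd
    have h1 : p ∣ Nat.card K := dvd_trans hd (Subgroup.card_dvd_of_le hle)
    exact hp.one_lt.ne' (Nat.eq_one_of_dvd_coprimes hKcop h1 (dvd_refl p))

/-- a nontrivial normal subgroup of order prime to the order of a solvable maximal subgroup is a
group of prime power order -/
theorem isSolvable_of_coprime_coatom (M : Subgroup G) (hmax : IsCoatom M) [hM : Group.IsSolvable M]
    (N : Subgroup G) [hN : N.Normal] (hNne : N ≠ ⊥) (hcop : (Nat.card M).Coprime (Nat.card N)) :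
    Group.IsSolvable N := by
  have hMN : M ⊓ N = ⊥ := disjoint_iff.mp (Subgroup.disjoint_of_coprime_natCard hcop)
  have hcard : Nat.card N ≠ 1 := by
    rwa [Ne, Subgroup.card_eq_one]
  set q := (Nat.card N).minFac with hq
  have hqp : q.Prime := Nat.minFac_prime hcard
  have : Fact q.Prime := ⟨hqp⟩
  have hqN : q ∣ Nat.card N := Nat.minFac_dvd _
  have hact : CoprimeAct M N := by
    refine ⟨?_, hcop, Or.inl hM⟩
    rw [Subgroup.normalizer_eq_top_iff.mpr hN]; exact le_top
  obtain ⟨Q, hQ⟩ := hact.exists_invariant_sylow q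
  set Q' : Subgroup G := (Q : Subgroup N).map N.subtype with hQ'
  have hQ'N : Q' ≤ N := Subgroup.map_subtype_le _
  have hQ'q : IsPGroup q Q' := Q.isPGroup'.map _
  have hQ'ne : Q' ≠ ⊥ := by
    intro h
    have h1 : Nat.card Q' = Nat.card (Q : Subgroup N) :=
      Subgroup.card_map_of_injective N.subtype_injective
    rw [h, Subgroup.card_bot, Q.card_eq_multiplicity] at h1
    have : (Nat.card N).factorization q ≠ 0 := by
      intro h0
      rcases (Nat.factorization_eq_zero_iff _ _).mp h0 with h | h | h
      · exact h hqp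
      · exact h hqN
      · exact Nat.card_pos.ne' h
    have h2 : q ∣ 1 := by
      rw [h1]; exact dvd_pow_self q this
    exact hqp.one_lt.ne' (Nat.dvd_one.mp h2)
  have htop : M ⊔ Q' = ⊤ := by
    rcases eq_or_lt_of_le (le_sup_left : M ≤ M ⊔ Q') with h | h
    · exfalso
      apply hQ'ne
      have h1 : Q' ≤ M := by rw [h]; exact le_sup_right
      rw [eq_bot_iff, ← hMN]
      exact le_inf h1 hQ'N
    · exact hmax.2 _ h
  have hNQ : N ≤ Q' := by
    intro x hx
    have h1 : x ∈ ((M ⊔ Q' : Subgroup G) : Set G) := by rw [htop]; exact Set.mem_univ x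
    rw [Subgroup.coe_mul_of_left_le_normalizer_right M Q' hQ] at h1
    obtain ⟨m, hm, y, hy, rfl⟩ := Set.mem_mul.mp h1
    have hmN : m ∈ N := by
      have : m = (m * y) * y⁻¹ := by group
      rw [this]
      exact N.mul_mem hx (N.inv_mem (hQ'N hy))
    have hm1 : m ∈ M ⊓ N := ⟨hm, hmN⟩
    rw [hMN, Subgroup.mem_bot] at hm1
    rw [hm1, one_mul]
    exact hy
  have hNeq : Q' = N := le_antisymm hQ'N hNQ
  have hNq : IsPGroup q N := hNeq ▸ hQ'q
  have := hNq.isNilpotent
  infer_instance

/-- **Thompson**: a finite group with a nilpotent maximal subgroup of odd order is solvable. -/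
theorem isSolvable_of_nilpotent_odd_coatom : ∀ n : ℕ, ∀ (G : Type u) [Group G] [Finite G],
    Nat.card G = n → ∀ M : Subgroup G, IsCoatom M → Group.IsNilpotent M → Odd (Nat.card M) →
    Group.IsSolvable G := by
  intro n
  induction n using Nat.strong_induction_on with
  | _ n ih =>
  intro G _ _ hn M hmax hnil hodd
  by_cases hcore : ∃ N : Subgroup G, N.Normal ∧ N ≤ M ∧ N ≠ ⊥
  · obtain ⟨N, hNn, hNM, hNne⟩ := hcore
    set π := QuotientGroup.mk' N with hπ
    have hπs : Function.Surjective π := QuotientGroup.mk'_surjective N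
    have hcomap : (M.map π).comap π = M := by
      rw [Subgroup.comap_map_eq, hπ, QuotientGroup.ker_mk', sup_of_le_left hNM]
    have hco : IsCoatom (M.map π) := by
      constructor
      · intro h
        apply hmax.1
        rw [← hcomap, h, Subgroup.comap_top]
      · intro L hL
        have h1 : M < L.comap π := by
          rw [← hcomap]
          exact (Subgroup.comap_lt_comap_of_surjective hπs).mpr hL
        have h2 := hmax.2 _ h1
        rw [← Subgroup.map_comap_eq_self_of_surjective hπs L, h2, Subgroup.map_top_of_surjective _ hπs]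
    have hnil' : Group.IsNilpotent (M.map π) :=
      Group.nilpotent_of_surjective (π.subgroupMap M) (π.subgroupMap_surjective M)
    have hodd' : Odd (Nat.card (M.map π)) := Odd.of_dvd_nat hodd (Subgroup.card_map_dvd M π)
    have hlt : Nat.card (G ⧸ N) < n := by
      rw [← hn]
      exact card_quotient_lt_of_ne_bot hNne
    have hsolq : Group.IsSolvable (G ⧸ N) := ih _ hlt (G ⧸ N) rfl (M.map π) hco hnil' hodd'
    have hsolM : Group.IsSolvable M := inferInstance
    have hsolN : Group.IsSolvable N :=
      Group.isSolvable_of_isSolvable_injective (Subgroup.inclusion_injective hNM)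
    exact Group.isSolvable_of_ker_le_range N.subtype π (by rw [hπ, QuotientGroup.ker_mk', Subgroup.range_subtype])
  · push Not at hcore
    have hcf : ∀ N : Subgroup G, N.Normal → N ≤ M → N = ⊥ := by
      intro N hN hNM
      by_contra hne
      exact hne (hcore N hN hNM)
    -- a minimal normal subgroup
    have htopne : (⊤ : Subgroup G) ≠ ⊥ := by
      intro h
      apply hmax.1
      rw [eq_top_iff, h]; exact bot_le
    obtain ⟨N, ⟨hNn, hNne⟩, hNmin⟩ := Set.exists_min_image {N : Subgroup G | N.Normal ∧ N ≠ ⊥}
      (fun N => Nat.card N) (Set.toFinite _) ⟨⊤, inferInstance, htopne⟩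
    have hmin : ∀ N' : Subgroup G, N'.Normal → N' ≤ N → N' = ⊥ ∨ N' = N := by
      intro N' hN' hle
      by_cases h0 : N' = ⊥
      · exact Or.inl h0
      · right
        exact Subgroup.eq_of_le_of_card_ge hle (hNmin N' ⟨hN', h0⟩)
    have hNM : ¬ N ≤ M := fun h => hNne (hcf N hNn h)
    have htop : M ⊔ N = ⊤ := by
      rcases eq_or_lt_of_le (le_sup_left : M ≤ M ⊔ N) with h | h
      · exfalso
        apply hNM
        rw [h]; exact le_sup_right
      · exact hmax.2 _ h
    have hsolM : Group.IsSolvable M := inferInstance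
    -- the quotient is solvable
    have hsolq : Group.IsSolvable (G ⧸ N) := by
      let f : M →* G ⧸ N := (QuotientGroup.mk' N).comp M.subtype
      have hf : Function.Surjective f := by
        intro y
        obtain ⟨g, rfl⟩ := QuotientGroup.mk'_surjective N y
        have h1 : g ∈ ((M ⊔ N : Subgroup G) : Set G) := by rw [htop]; exact Set.mem_univ g
        rw [Subgroup.mul_normal M N] at h1
        obtain ⟨m, hm, y, hy, rfl⟩ := Set.mem_mul.mp h1
        refine ⟨⟨m, hm⟩, ?_⟩
        show QuotientGroup.mk' N m = QuotientGroup.mk' N (m * y)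
        have hy1 : (QuotientGroup.mk' N) y = 1 := (QuotientGroup.eq_one_iff y).mpr hy
        rw [map_mul, hy1, mul_one]
      exact Group.isSolvable_of_surjective hf
    -- `N` is solvable
    have hsolN : Group.IsSolvable N := by
      by_cases h : ∃ p : ℕ, p.Prime ∧ p ∣ Nat.card M ∧ IsPGroup p N
      · obtain ⟨p, hp, -, hpN⟩ := h
        have : Fact p.Prime := ⟨hp⟩
        have := hpN.isNilpotent
        infer_instance
      · push Not at h
        apply isSolvable_of_coprime_coatom M hmax N hNne
        apply Nat.Coprime.symm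
        apply Nat.coprime_of_dvd
        intro k hk hkN hkM
        have : Fact k.Prime := ⟨hk⟩
        have hnpc : HasNormalPComplement k G := hasNPC_of_coatom M hmax hnil hodd hcf hkM
        rcases isPGroup_or_not_dvd hnpc N hmin with h1 | h1
        · exact h k hk hkM h1
        · exact h1 hkN
    exact Group.isSolvable_of_ker_le_range N.subtype (QuotientGroup.mk' N)
      (by rw [QuotientGroup.ker_mk', Subgroup.range_subtype])

end Main

end NilpMax

end Cfsg.Agent.Lib.Helper1
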