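import Mathlib
import Cfsg.Prelude
import Cfsg.Agent.Lib.Helper1.Schmidt
import Cfsg.Agent.Lib.Helper1.CoprimeSylow
import Cfsg.Agent.Lib.Helper1.NilpotentMaximal
import Cfsg.Agent.Lib.Helper1.ItoFactor
import Cfsg.Agent.Lib.Helper10.CNFrob
import Cfsg.Agent.Lib.Helper13.Frobenius

set_option autoImplicit false

namespace Cfsg.Agent.Lib.Helper1.MaxNilp

open Cfsg Cfsg.Agent.Lib.Helper1

universe u

variable {G : Type u} [Group G] [Finite G]

/-- every proper subgroup lies in a coatom -/
theorem exists_coatom_ge {H : Subgroup G} (hH : H ≠ ⊤) : ∃ M : Subgroup G, IsCoatom M ∧ H ≤ M := by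
  rcases eq_top_or_exists_le_coatom H with h | ⟨M, hM, hHM⟩
  · exact absurd h hH
  · exact ⟨M, hM, hHM⟩

/-- under the hypothesis, every proper subgroup of order divisible by `p` is nilpotent -/
theorem isNilpotent_of_proper {p : ℕ}
    (h : ∀ M : Subgroup G, IsCoatom M → p ∣ Nat.card M → Group.IsNilpotent M)
    {H : Subgroup G} (hH : H ≠ ⊤) (hp : p ∣ Nat.card H) : Group.IsNilpotent H := by
  obtain ⟨M, hM, hHM⟩ := exists_coatom_ge hH
  exact isNilpotent_of_le hHM (h M hM (hp.trans (Subgroup.card_dvd_of_le hHM)))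

/-- the case of a nontrivial normal `p`-subgroup -/
theorem exists_of_normal_pgroup {p : ℕ} [Fact p.Prime]
    (h : ∀ M : Subgroup G, IsCoatom M → p ∣ Nat.card M → Group.IsNilpotent M)
    (M : Subgroup G) (hM : IsCoatom M) (hMnil : ¬ Group.IsNilpotent M)
    (R : Subgroup G) [hRn : R.Normal] (hR : IsPGroup p R) (hR1 : R ≠ ⊥) :
    ∃ Z K : Subgroup G, Z.Normal ∧ K.Normal ∧ Z ⊓ K = ⊥ ∧ Z ⊔ K = ⊤ ∧ Nat.card Z = p ∧
      Cfsg.IsMinimalNonNilpotent K ∧ ¬ p ∣ Nat.card K := by
  have hp : p.Prime := Fact.out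
  have hpM : ¬ p ∣ Nat.card M := fun hd => hMnil (h M hM hd)
  obtain ⟨k, hk⟩ := IsPGroup.iff_card.mp hR
  have hcop : (Nat.card R).Coprime (Nat.card M) := by
    rw [hk]; exact Nat.Coprime.pow_left _ ((Nat.Prime.coprime_iff_not_dvd hp).mpr hpM)
  have hRM : R ⊓ M = ⊥ := disjoint_iff.mp (Subgroup.disjoint_of_coprime_natCard hcop)
  have hRnt : Nontrivial ↥R := (Subgroup.nontrivial_iff_ne_bot R).mpr hR1
  have hpR : p ∣ Nat.card R := by
    rcases hR.card_eq_or_dvd with h1 | h1
    · exfalso
      have := (Subgroup.card_eq_one).mp h1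
      exact hR1 this
    · exact h1
  -- orders of elements
  have hordR : ∀ r ∈ R, ∀ m ∈ M, (orderOf r).Coprime (orderOf m) := by
    intro r hr m hm
    exact Nat.Coprime.coprime_dvd_left (Subgroup.orderOf_dvd_natCard R hr)
      (Nat.Coprime.coprime_dvd_right (Subgroup.orderOf_dvd_natCard M hm) hcop)
  -- key: proper subgroups of `M`
  have key : ∀ M₁ : Subgroup G, M₁ ≤ M → M₁ ≠ M → Group.IsNilpotent ↥(R ⊔ M₁) := by
    intro M₁ h1 h2
    apply isNilpotent_of_proper h
    · intro htop
      apply h2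
      apply le_antisymm h1
      intro x hx
      have hx' : x ∈ R ⊔ M₁ := by rw [htop]; trivial
      obtain ⟨r, hr, hrx⟩ := ItoFactor.mem_sup_normal_iff.mp hx'
      have hrM : r ∈ M := by
        have : r = (r * x) * x⁻¹ := by group
        rw [this]
        exact M.mul_mem (h1 hrx) (M.inv_mem hx)
      have hr1 : r = 1 := by
        have : r ∈ R ⊓ M := Subgroup.mem_inf.mpr ⟨hr, hrM⟩
        rw [hRM] at this
        exact Subgroup.mem_bot.mp this
      rw [hr1, one_mul] at hrx
      exact hrx
    · exact hpR.trans (Subgroup.card_dvd_of_le le_sup_left)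
  have hcomm : ∀ M₁ : Subgroup G, M₁ ≤ M → M₁ ≠ M → ∀ r ∈ R, ∀ m ∈ M₁, r * m = m * r := by
    intro M₁ h1 h2 r hr m hm
    exact Cfsg.Agent.Lib.Helper10.commute_of_mem_of_isNilpotent (key M₁ h1 h2)
      (Subgroup.mem_sup_left hr) (Subgroup.mem_sup_right hm) (hordR r hr m (h1 hm))
  -- `M` is minimal non-nilpotent
  have hMmin : Cfsg.IsMinimalNonNilpotent ↥M := by
    refine ⟨hMnil, ?_⟩
    intro H hH
    have h1 : H.map M.subtype ≤ M := Subgroup.map_subtype_le H
    have h2 : H.map M.subtype ≠ M := by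
      intro heq
      apply hH
      rw [eq_top_iff]
      intro x _
      have : (x : G) ∈ H.map M.subtype := by rw [heq]; exact x.2
      obtain ⟨y, hy, hyx⟩ := Subgroup.mem_map.mp this
      have : y = x := Subtype.ext hyx
      rw [← this]; exact hy
    have h3 : Group.IsNilpotent ↥(H.map M.subtype) :=
      isNilpotent_of_le le_sup_right (key _ h1 h2)
    exact Group.nilpotent_of_surjective
      ((H.equivMapOfInjective M.subtype M.subtype_injective).symm.toMonoidHom)
      (H.equivMapOfInjective M.subtype M.subtype_injective).symm.surjective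
  -- `M` centralizes `R`
  have hMR : ∀ r ∈ R, ∀ m ∈ M, r * m = m * r := by
    intro r hr m hm
    apply hcomm (Subgroup.zpowers m) (by rw [Subgroup.zpowers_le]; exact hm) _ r hr m
      (Subgroup.mem_zpowers m)
    intro heq
    apply hMnil
    have hcyc : IsCyclic ↥(Subgroup.zpowers m) := inferInstance
    rw [heq] at hcyc
    have hc : IsMulCommutative ↥M := ⟨⟨fun a b => (IsCyclic.commGroup (α := ↥M)).mul_comm a b⟩⟩
    exact ⟨⟨1, Subgroup.upperCentralSeries_one_eq_top_iff.mpr hc⟩⟩
  -- a central element of order `p` in `R`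
  have hcn : Nontrivial (Subgroup.center ↥R) := hR.center_nontrivial
  have hpc : p ∣ Nat.card (Subgroup.center ↥R) := by
    rcases (hR.to_subgroup (Subgroup.center ↥R)).card_eq_or_dvd with h1 | h1
    · exfalso
      have h2 := (Subgroup.card_eq_one).mp h1
      exact (Subgroup.nontrivial_iff_ne_bot _).mp hcn h2
    · exact h1
  obtain ⟨z', hz'⟩ := exists_prime_orderOf_dvd_card' p hpc
  set z : G := ((z' : ↥R) : G) with hz
  have hzo : orderOf z = p := by
    rw [hz, Subgroup.orderOf_coe, Subgroup.orderOf_coe]; exact hz'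
  have hzR : z ∈ R := (z' : ↥R).2
  have hzc : ∀ r ∈ R, r * z = z * r := by
    intro r hr
    have := Subgroup.mem_center_iff.mp z'.2 ⟨r, hr⟩
    exact congrArg Subtype.val this
  have hRMtop : R ⊔ M = ⊤ := by
    by_contra hne
    have h1 : M ≤ R ⊔ M := le_sup_right
    have h2 : R ⊔ M = M := by
      rcases (hM.le_iff.mp h1) with h3 | h3
      · exact absurd h3 hne
      · exact h3
    have h3 : R ≤ M := by rw [← h2]; exact le_sup_left
    apply hR1
    rw [← hRM]; exact (inf_eq_left.mpr h3).symm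
  have hzcen : z ∈ Subgroup.center G := by
    rw [Subgroup.mem_center_iff]
    have : (⊤ : Subgroup G) ≤ Subgroup.centralizer {z} := by
      rw [← hRMtop, sup_le_iff]
      constructor
      · intro r hr
        rw [Subgroup.mem_centralizer_singleton_iff]
        exact hzc r hr
      · intro m hm
        rw [Subgroup.mem_centralizer_singleton_iff]
        exact (hMR z hzR m hm).symm
    intro g
    have := this (Subgroup.mem_top g)
    rw [Subgroup.mem_centralizer_singleton_iff] at this
    exact this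
  have hZcen : Subgroup.zpowers z ≤ Subgroup.center G := by
    rw [Subgroup.zpowers_le]; exact hzcen
  have hZn : (Subgroup.zpowers z).Normal := by
    constructor
    intro n hn g
    have := Subgroup.mem_center_iff.mp (hZcen hn) g
    rw [this, mul_inv_cancel_right]
    exact hn
  have hZR : Subgroup.zpowers z ≤ R := by rw [Subgroup.zpowers_le]; exact hzR
  have hZM : Subgroup.zpowers z ⊓ M = ⊥ := by
    rw [eq_bot_iff, ← hRM]
    exact inf_le_inf_right _ hZR
  have hz1 : z ≠ 1 := by
    intro h1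
    rw [h1, orderOf_one] at hzo
    exact hp.one_lt.ne hzo
  have hZMtop : Subgroup.zpowers z ⊔ M = ⊤ := by
    by_contra hne
    have h1 : M ≤ Subgroup.zpowers z ⊔ M := le_sup_right
    have h2 : Subgroup.zpowers z ⊔ M = M := by
      rcases (hM.le_iff.mp h1) with h3 | h3
      · exact absurd h3 hne
      · exact h3
    have h3 : z ∈ M := by rw [← h2]; exact Subgroup.mem_sup_left (Subgroup.mem_zpowers z)
    have : z ∈ R ⊓ M := Subgroup.mem_inf.mpr ⟨hzR, h3⟩
    rw [hRM] at this
    exact hz1 (Subgroup.mem_bot.mp this)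
  have hMn : M.Normal := by
    rw [← Subgroup.normalizer_eq_top_iff, eq_top_iff, ← hZMtop, sup_le_iff]
    refine ⟨?_, Subgroup.le_normalizer⟩
    exact hZcen.trans (Subgroup.center_le_normalizer _)
  refine ⟨Subgroup.zpowers z, M, hZn, hMn, hZM, hZMtop, ?_, hMmin, hpM⟩
  rw [Nat.card_zpowers, hzo]

/-- the case without nontrivial normal `p`-subgroups is impossible -/
theorem false_of_no_normal_pgroup {p : ℕ} [Fact p.Prime] (hpG : p ∣ Nat.card G)
    (h : ∀ M : Subgroup G, IsCoatom M → p ∣ Nat.card M → Group.IsNilpotent M)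
    (M : Subgroup G) (hM : IsCoatom M) (hMnil : ¬ Group.IsNilpotent M)
    (hno : ∀ R : Subgroup G, R.Normal → IsPGroup p R → R = ⊥) : False := by
  have hp : p.Prime := Fact.out
  have hpM : ¬ p ∣ Nat.card M := fun hd => hMnil (h M hM hd)
  -- `G` has a normal `p`-complement
  have hnpc : Cfsg.HasNormalPComplement p G := by
    rw [Cfsg.Agent.Lib.Helper13.hasNormalPComplement_iff_local]
    intro Q hQ hQ1
    have hN : Subgroup.normalizer (Q : Set G) ≠ ⊤ := by
      intro htop
      exact hQ1 (hno Q (Subgroup.normalizer_eq_top_iff.mp htop) hQ)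
    have hpQ : p ∣ Nat.card Q := by
      rcases hQ.card_eq_or_dvd with h1 | h1
      · exact absurd ((Subgroup.card_eq_one).mp h1) hQ1
      · exact h1
    have hnil : Group.IsNilpotent ↥(Subgroup.normalizer (Q : Set G)) :=
      isNilpotent_of_proper h hN (hpQ.trans (Subgroup.card_dvd_of_le Subgroup.le_normalizer))
    exact NilpMax.hasNPC_of_isNilpotent _ _ rfl hnil
  obtain ⟨P, K, hKn, hK⟩ := hnpc
  obtain ⟨hKcop, k, hk⟩ := Cfsg.Agent.Lib.Helper13.coprime_and_index_of_isComplement' K P hK
  have hPne : (P : Subgroup G) ≠ ⊥ := P.ne_bot_of_dvd_card hpG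
  have hpP : p ∣ Nat.card (P : Subgroup G) := P.dvd_card_of_dvd_card hpG
  have hMK : M ≤ K := by
    intro x hx
    apply Cfsg.Agent.Lib.Helper13.mem_of_coprime_of_index_pow K hk x
    exact Nat.Coprime.coprime_dvd_left (Subgroup.orderOf_dvd_natCard M hx)
      ((Nat.Prime.coprime_iff_not_dvd hp).mpr hpM).symm
  have hKtop : K ≠ ⊤ := by
    intro htop
    rw [htop, Subgroup.card_top] at hKcop
    exact (Nat.Prime.coprime_iff_not_dvd hp).mp hKcop.symm hpG
  have hMeqK : M = K := by
    rcases hM.le_iff.mp hMK with h1 | h1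
    · exact absurd h1 hKtop
    · exact h1.symm
  have hKnil : ¬ Group.IsNilpotent ↥K := by rw [← hMeqK]; exact hMnil
  have hKP : K ⊓ (P : Subgroup G) = ⊥ := disjoint_iff.mp hK.disjoint
  have hsup : K ⊔ (P : Subgroup G) = ⊤ := hK.sup_eq_top
  obtain ⟨a, ha⟩ := IsPGroup.iff_card.mp P.isPGroup'
  have hordPK : ∀ x ∈ (P : Subgroup G), ∀ y ∈ K, (orderOf x).Coprime (orderOf y) := by
    intro x hx y hy
    have h1 : orderOf x ∣ p ^ a := by rw [← ha]; exact Subgroup.orderOf_dvd_natCard _ hx
    have h2 : orderOf y ∣ Nat.card K := Subgroup.orderOf_dvd_natCard _ hy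
    exact Nat.Coprime.coprime_dvd_left h1
      (Nat.Coprime.coprime_dvd_right h2 (Nat.Coprime.pow_left _ hKcop.symm))
  have hact : CoprimeAct (P : Subgroup G) K := by
    refine ⟨?_, ?_, Or.inl ?_⟩
    · rw [Subgroup.normalizer_eq_top_iff.mpr hKn]; exact le_top
    · rw [ha]; exact Nat.Coprime.pow_left _ hKcop.symm
    · have : Group.IsNilpotent ↥(P : Subgroup G) := P.isPGroup'.isNilpotent
      infer_instance
  -- `P` centralizes an invariant Sylow `q`-subgroup of `K` for each prime `q`
  have hcent : ∀ q : ℕ, q.Prime → q ^ (Nat.card K).factorization q ∣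
      Nat.card ↥(K ⊓ Subgroup.centralizer ((P : Subgroup G) : Set G)) := by
    intro q hq
    have : Fact q.Prime := ⟨hq⟩
    obtain ⟨Q, hQ⟩ := hact.exists_invariant_sylow q
    set Q' : Subgroup G := (Q : Subgroup K).map K.subtype with hQ'
    have hQK : Q' ≤ K := Subgroup.map_subtype_le _
    have hQcard : Nat.card Q' = q ^ (Nat.card K).factorization q := by
      rw [← Q.card_eq_multiplicity]
      exact (Nat.card_congr ((Q : Subgroup K).equivMapOfInjective _ K.subtype_injective).toEquiv).symm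
    have hcomm : ∀ x ∈ (P : Subgroup G), ∀ y ∈ Q', x * y = y * x := by
      intro x hx y hy
      by_cases hN : Subgroup.normalizer (Q' : Set G) = ⊤
      · have hQn : Q'.Normal := Subgroup.normalizer_eq_top_iff.mp hN
        have hH : Q' ⊔ (P : Subgroup G) ≠ ⊤ := by
          intro htop
          apply hKnil
          have hKQ : K ≤ Q' := by
            intro z hz
            have hz' : z ∈ Q' ⊔ (P : Subgroup G) := by rw [htop]; trivial
            obtain ⟨n, hn, hnz⟩ := ItoFactor.mem_sup_normal_iff.mp hz'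
            have h1 : n * z ∈ K ⊓ (P : Subgroup G) :=
              Subgroup.mem_inf.mpr ⟨K.mul_mem (hQK hn) hz, hnz⟩
            rw [hKP, Subgroup.mem_bot] at h1
            have h2 : z = n⁻¹ := by
              rw [eq_inv_iff_mul_eq_one, mul_eq_one_iff_eq_inv.mp h1]; group
            rw [h2]; exact Q'.inv_mem hn
          have hKpg : IsPGroup q ↥K := by
            intro g
            have hg : (g : G) ∈ Q' := hKQ g.2
            obtain ⟨g', hg', hgg'⟩ := Subgroup.mem_map.mp hg
            have : g' = g := Subtype.ext hgg'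
            rw [this] at hg'
            obtain ⟨j, hj⟩ := Q.isPGroup' ⟨g, hg'⟩
            refine ⟨j, ?_⟩
            have := congrArg Subtype.val hj
            simpa using this
          exact hKpg.isNilpotent
        have hnil : Group.IsNilpotent ↥(Q' ⊔ (P : Subgroup G)) :=
          isNilpotent_of_proper h hH (hpP.trans (Subgroup.card_dvd_of_le le_sup_right))
        exact Cfsg.Agent.Lib.Helper10.commute_of_mem_of_isNilpotent hnil
          (Subgroup.mem_sup_right hx) (Subgroup.mem_sup_left hy) (hordPK x hx y (hQK hy))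
      · have hnil : Group.IsNilpotent ↥(Subgroup.normalizer (Q' : Set G)) :=
          isNilpotent_of_proper h hN (hpP.trans (Subgroup.card_dvd_of_le hQ))
        exact Cfsg.Agent.Lib.Helper10.commute_of_mem_of_isNilpotent hnil
          (hQ hx) (Subgroup.le_normalizer hy) (hordPK x hx y (hQK hy))
    have hle : Q' ≤ K ⊓ Subgroup.centralizer ((P : Subgroup G) : Set G) := by
      intro y hy
      refine Subgroup.mem_inf.mpr ⟨hQK hy, ?_⟩
      rw [Subgroup.mem_centralizer_iff]
      intro x hx
      exact hcomm x hx y hy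
    rw [← hQcard]
    exact Subgroup.card_dvd_of_le hle
  have hdvd : Nat.card K ∣ Nat.card ↥(K ⊓ Subgroup.centralizer ((P : Subgroup G) : Set G)) := by
    rw [Nat.dvd_iff_prime_pow_dvd_dvd]
    intro q j hq hj
    have hK0 : Nat.card K ≠ 0 := Nat.card_pos.ne'
    have hjle : j ≤ (Nat.card K).factorization q :=
      (hq.pow_dvd_iff_le_factorization hK0).mp hj
    exact (pow_dvd_pow q hjle).trans (hcent q hq)
  have hKC : K ⊓ Subgroup.centralizer ((P : Subgroup G) : Set G) = K :=
    Subgroup.eq_of_le_of_card_ge inf_le_left (Nat.le_of_dvd Nat.card_pos hdvd)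
  have hKcen : K ≤ Subgroup.centralizer ((P : Subgroup G) : Set G) := by
    rw [← hKC]; exact inf_le_right
  have hPn : (P : Subgroup G).Normal := by
    rw [← Subgroup.normalizer_eq_top_iff, eq_top_iff, ← hsup, sup_le_iff]
    exact ⟨hKcen.trans (Subgroup.centralizer_le_normalizer _), Subgroup.le_normalizer⟩
  exact hPne (hno _ hPn P.isPGroup')

/-- converse: in `Z × K` with `|Z| = p` and `K` minimal non-nilpotent of order prime to `p`, every
maximal subgroup of order divisible by `p` is nilpotent -/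
theorem isNilpotent_of_decomp {p : ℕ} [Fact p.Prime] (Z K : Subgroup G) (hZn : Z.Normal)
    (hKn : K.Normal) (hZK : Z ⊓ K = ⊥) (hsup : Z ⊔ K = ⊤) (hZ : Nat.card Z = p)
    (hKmin : Cfsg.IsMinimalNonNilpotent K) (hpK : ¬ p ∣ Nat.card K)
    (M : Subgroup G) (hM : IsCoatom M) (hpM : p ∣ Nat.card M) : Group.IsNilpotent M := by
  have hp : p.Prime := Fact.out
  have hZcyc : IsCyclic ↥Z := isCyclic_of_prime_card hZ
  -- `Z` is central
  have hZcen : Z ≤ Subgroup.center G := by
    intro z hz
    rw [Subgroup.mem_center_iff]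
    have : (⊤ : Subgroup G) ≤ Subgroup.centralizer {z} := by
      rw [← hsup, sup_le_iff]
      constructor
      · intro y hy
        rw [Subgroup.mem_centralizer_singleton_iff]
        have := (IsCyclic.commGroup (α := ↥Z)).mul_comm ⟨y, hy⟩ ⟨z, hz⟩
        exact congrArg Subtype.val this
      · intro y hy
        rw [Subgroup.mem_centralizer_singleton_iff]
        exact ((Subgroup.commute_of_normal_of_disjoint Z K hZn hKn (disjoint_iff.mpr hZK) z y hz hy).eq).symm
    intro g
    have := this (Subgroup.mem_top g)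
    rw [Subgroup.mem_centralizer_singleton_iff] at this
    exact this
  have hcopK : ∀ k ∈ K, k ^ p = 1 → k = 1 := by
    intro k hk hkp
    have h1 : orderOf k ∣ p := orderOf_dvd_of_pow_eq_one hkp
    have h2 : orderOf k ∣ Nat.card K := Subgroup.orderOf_dvd_natCard K hk
    rcases (Nat.dvd_prime hp).mp h1 with h3 | h3
    · exact orderOf_eq_one_iff.mp h3
    · exact absurd (h3 ▸ h2) hpK
  have hZpow : ∀ z ∈ Z, z ^ p = 1 := by
    intro z hz
    have : (⟨z, hz⟩ : ↥Z) ^ Nat.card ↥Z = 1 := pow_card_eq_one'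
    rw [hZ] at this
    exact congrArg Subtype.val this
  -- decomposition of elements
  have hdec : ∀ x : G, ∃ z ∈ Z, z * x ∈ K := by
    intro x
    have hx : x ∈ Z ⊔ K := by rw [hsup]; trivial
    exact ItoFactor.mem_sup_normal_iff.mp hx
  -- `Z ≤ M`
  obtain ⟨x', hx'⟩ := exists_prime_orderOf_dvd_card' p hpM
  have hxo : orderOf (x' : G) = p := by rw [Subgroup.orderOf_coe]; exact hx'
  have hxZ : (x' : G) ∈ Z := by
    obtain ⟨z, hz, hzx⟩ := hdec (x' : G)
    have hcomm : Commute z (x' : G) := (Subgroup.mem_center_iff.mp (hZcen hz) (x' : G)).symm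
    have h1 : (z * (x' : G)) ^ p = 1 := by
      rw [hcomm.mul_pow, hZpow z hz, one_mul, ← hxo, pow_orderOf_eq_one]
    have h2 := hcopK _ hzx h1
    have h3 : (x' : G) = z⁻¹ := by
      rw [eq_inv_iff_mul_eq_one, ← h2]
      exact hcomm.eq.symm
    rw [h3]; exact Z.inv_mem hz
  have hZM : Z ≤ M := by
    have h1 : Subgroup.zpowers (x' : G) ≤ Z := by rw [Subgroup.zpowers_le]; exact hxZ
    have h2 : Subgroup.zpowers (x' : G) = Z := by
      apply Subgroup.eq_of_le_of_card_ge h1
      rw [Nat.card_zpowers, hxo, hZ]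
    rw [← h2, Subgroup.zpowers_le]
    exact x'.2
  -- `M ⊓ K` is nilpotent
  have hLK : M ⊓ K ≠ K := by
    intro heq
    have hKM : K ≤ M := by rw [← heq]; exact inf_le_left
    apply hM.1
    rw [eq_top_iff, ← hsup]
    exact sup_le hZM hKM
  have hLnil : Group.IsNilpotent ↥(M ⊓ K) := by
    have h1 : (M ⊓ K).subgroupOf K ≠ ⊤ := by
      intro htop
      apply hLK
      apply le_antisymm inf_le_right
      exact Subgroup.subgroupOf_eq_top.mp htop
    have h2 := hKmin.2 _ h1
    exact Group.nilpotent_of_surjective (Subgroup.subgroupOfEquivOfLe (inf_le_right : M ⊓ K ≤ K)).toMonoidHom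
      (Subgroup.subgroupOfEquivOfLe (inf_le_right : M ⊓ K ≤ K)).surjective
  -- the map `M → G ⧸ Z`
  let f : ↥M →* G ⧸ Z := (QuotientGroup.mk' Z).comp M.subtype
  have hker : f.rangeRestrict.ker ≤ Subgroup.center ↥M := by
    intro m hm
    rw [MonoidHom.ker_rangeRestrict, MonoidHom.mem_ker] at hm
    have hmZ : (m : G) ∈ Z := by
      have : (QuotientGroup.mk' Z) (m : G) = 1 := hm
      rwa [QuotientGroup.mk'_apply, QuotientGroup.eq_one_iff] at this
    rw [Subgroup.mem_center_iff]
    intro g
    exact Subtype.ext (Subgroup.mem_center_iff.mp (hZcen hmZ) (g : G))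
  have hrange : f.range ≤ (M ⊓ K).map (QuotientGroup.mk' Z) := by
    rintro _ ⟨m, rfl⟩
    obtain ⟨z, hz, hzm⟩ := hdec (m : G)
    refine Subgroup.mem_map.mpr ⟨z * (m : G), Subgroup.mem_inf.mpr ⟨M.mul_mem (hZM hz) m.2, hzm⟩, ?_⟩
    change (QuotientGroup.mk' Z) (z * (m : G)) = (QuotientGroup.mk' Z) (m : G)
    rw [map_mul]
    have : (QuotientGroup.mk' Z) z = 1 := by
      rw [QuotientGroup.mk'_apply, QuotientGroup.eq_one_iff]; exact hz
    rw [this, one_mul]
  have hmapnil : Group.IsNilpotent ↥((M ⊓ K).map (QuotientGroup.mk' Z)) :=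
    Group.nilpotent_of_surjective ((QuotientGroup.mk' Z).subgroupMap (M ⊓ K))
      ((QuotientGroup.mk' Z).subgroupMap_surjective (M ⊓ K))
  have hrnil : Group.IsNilpotent ↥f.range := isNilpotent_of_le hrange hmapnil
  exact Subgroup.isNilpotent_of_ker_le_center f.rangeRestrict hker

end Cfsg.Agent.Lib.Helper1.MaxNilp
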