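import Cfsg.Agent.Lib.Helper11.MinDeg.Defs

/-!
# Transvections `tv v φ` in `SL_n(F)`: the algebraic API (piece F3a of the S2140 front)

Products, inverses, conjugates and commutators of the transvections `tv v φ = 1 + v φᵀ`, and the
description of Mathlib's `lineStab (F ∙ v)` (here `A v`) and of `A2 v w` by transvections.
-/

set_option autoImplicit false

namespace Cfsg.Agent.Lib.Helper11.MinDeg

open Matrix

section F3a
variable {F : Type*} [Field F] {n : ℕ}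

/-- two elements of `SL_n(F)` with the same action on vectors are equal -/
theorem sl_ext {g h : SpecialLinearGroup (Fin n) F} (H : ∀ w : Fin n → F, g • w = h • w) :
    g = h :=
  Subtype.ext (Matrix.ext_iff_smul.2 H)

theorem tvMat_zero (v : Fin n → F) : tvMat v (0 : Fin n → F) = 1 := by
  unfold tvMat
  have : vecMulVec v (0 : Fin n → F) = 0 := by
    ext i j
    simp [vecMulVec_apply]
  rw [this, add_zero]

theorem vecMul_tvMat (v φ ψ : Fin n → F) : ψ ᵥ* tvMat v φ = ψ + (ψ ⬝ᵥ v) • φ := by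
  unfold tvMat
  rw [vecMul_add, vecMul_one]
  congr 1
  ext j
  simp only [vecMul, vecMulVec_apply, dotProduct, Pi.smul_apply, smul_eq_mul, Finset.sum_mul]
  apply Finset.sum_congr rfl
  intro i _
  ring

theorem det_tvMat' (v φ : Fin n → F) : (tvMat v φ).det = 1 + φ ⬝ᵥ v := by
  unfold tvMat
  have : vecMulVec v φ = replicateCol Unit v * replicateRow Unit φ := by
    ext i j
    simp [vecMulVec_apply, Matrix.mul_apply]
  rw [this, det_one_add_replicateCol_mul_replicateRow]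

theorem tv_zero (v : Fin n → F) : tv v (0 : Fin n → F) = 1 := by
  apply sl_ext
  intro w
  rw [tv_smul (by simp), one_smul]
  simp

theorem tv_mul_tv {v φ ψ : Fin n → F} (hφ : φ ⬝ᵥ v = 0) (hψ : ψ ⬝ᵥ v = 0) :
    tv v φ * tv v ψ = tv v (φ + ψ) := by
  have h : (φ + ψ) ⬝ᵥ v = 0 := by rw [add_dotProduct, hφ, hψ, add_zero]
  apply sl_ext
  intro w
  rw [mul_smul, tv_smul hψ, tv_smul hφ, tv_smul h, dotProduct_add, dotProduct_smul, hφ,
    add_dotProduct]
  ext i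
  simp only [Pi.add_apply, Pi.smul_apply, smul_eq_mul]
  ring

/-- same functional, different directions -/
theorem tv_mul_tv' {v w ψ : Fin n → F} (hv : ψ ⬝ᵥ v = 0) (hw : ψ ⬝ᵥ w = 0) :
    tv v ψ * tv w ψ = tv (v + w) ψ := by
  have h : ψ ⬝ᵥ (v + w) = 0 := by rw [dotProduct_add, hv, hw, add_zero]
  apply sl_ext
  intro u
  rw [mul_smul, tv_smul hw, tv_smul hv, tv_smul h, dotProduct_add, dotProduct_smul, hw]
  ext i
  simp only [Pi.add_apply, Pi.smul_apply, smul_eq_mul]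
  ring

theorem tv_inv {v φ : Fin n → F} (h : φ ⬝ᵥ v = 0) : (tv v φ)⁻¹ = tv v (-φ) := by
  have h' : (-φ) ⬝ᵥ v = 0 := by rw [neg_dotProduct, h, neg_zero]
  apply inv_eq_of_mul_eq_one_right
  rw [tv_mul_tv h h', add_neg_cancel, tv_zero]

theorem tv_pow {v φ : Fin n → F} (h : φ ⬝ᵥ v = 0) (k : ℕ) : (tv v φ) ^ k = tv v (k • φ) := by
  induction k with
  | zero => rw [pow_zero, zero_smul, tv_zero]
  | succ k ih =>
    have hk : (k • φ) ⬝ᵥ v = 0 := by rw [smul_dotProduct, h, smul_zero]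
    rw [pow_succ, ih, tv_mul_tv hk h, succ_nsmul]

theorem tv_smul_left (c : F) (v φ : Fin n → F) : tv (c • v) φ = tv v (c • φ) := by
  have e1 : φ ⬝ᵥ (c • v) = c * (φ ⬝ᵥ v) := by rw [dotProduct_smul, smul_eq_mul]
  have e2 : (c • φ) ⬝ᵥ v = c * (φ ⬝ᵥ v) := by rw [smul_dotProduct, smul_eq_mul]
  by_cases h : c * (φ ⬝ᵥ v) = 0
  · apply sl_ext
    intro w
    rw [tv_smul (e1.trans h), tv_smul (e2.trans h), smul_dotProduct]
    ext i
    simp only [Pi.add_apply, Pi.smul_apply, smul_eq_mul]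
    ring
  · apply Subtype.ext
    show tvM (c • v) φ = tvM v (c • φ)
    unfold tvM
    rw [if_neg (by rw [e1]; exact h), if_neg (by rw [e2]; exact h)]

theorem tv_injective {v : Fin n → F} (hv : v ≠ 0) {φ ψ : Fin n → F} (hφ : φ ⬝ᵥ v = 0)
    (hψ : ψ ⬝ᵥ v = 0) (h : tv v φ = tv v ψ) : φ = ψ := by
  apply dotProduct_eq
  intro w
  have h1 : tv v φ • w = tv v ψ • w := by rw [h]
  rw [tv_smul hφ, tv_smul hψ] at h1
  have h2 : (φ ⬝ᵥ w - ψ ⬝ᵥ w) • v = 0 := by
    rw [sub_smul]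
    exact sub_eq_zero.mpr (add_left_cancel h1)
  rcases smul_eq_zero.mp h2 with h3 | h3
  · exact sub_eq_zero.mp h3
  · exact absurd h3 hv

theorem tv_eq_one_iff {v φ : Fin n → F} (hv : v ≠ 0) (h : φ ⬝ᵥ v = 0) : tv v φ = 1 ↔ φ = 0 := by
  constructor
  · intro h1
    rw [← tv_zero v] at h1
    exact tv_injective hv h (by simp) h1
  · intro h1
    rw [h1, tv_zero]

theorem coe_inv_mul_coe (g : SpecialLinearGroup (Fin n) F) :
    ((g⁻¹ : SpecialLinearGroup (Fin n) F) : Matrix (Fin n) (Fin n) F) *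
      (g : Matrix (Fin n) (Fin n) F) = 1 := by
  have h : ((g⁻¹ * g : SpecialLinearGroup (Fin n) F) : Matrix (Fin n) (Fin n) F) = 1 := by
    rw [inv_mul_cancel]
    rfl
  exact h

theorem dot_inv_smul (g : SpecialLinearGroup (Fin n) F) (φ w : Fin n → F) :
    φ ⬝ᵥ (g⁻¹ • w) =
      (φ ᵥ* ((g⁻¹ : SpecialLinearGroup (Fin n) F) : Matrix (Fin n) (Fin n) F)) ⬝ᵥ w :=
  dotProduct_mulVec φ _ w

/-- the functional `φ ∘ g⁻¹` as a row vector -/
theorem conj_dot (g : SpecialLinearGroup (Fin n) F) (v φ : Fin n → F) :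
    (φ ᵥ* ((g⁻¹ : SpecialLinearGroup (Fin n) F) : Matrix (Fin n) (Fin n) F)) ⬝ᵥ (g • v) = φ ⬝ᵥ v := by
  have h1 := dot_inv_smul g φ (g • v)
  rw [inv_smul_smul] at h1
  exact h1.symm

theorem conj_tv (g : SpecialLinearGroup (Fin n) F) {v φ : Fin n → F} (h : φ ⬝ᵥ v = 0) :
    g * tv v φ * g⁻¹ =
      tv (g • v) (φ ᵥ* ((g⁻¹ : SpecialLinearGroup (Fin n) F) : Matrix (Fin n) (Fin n) F)) := by
  have h' := (conj_dot g v φ).trans h
  apply sl_ext
  intro w
  have e1 : (g * tv v φ * g⁻¹) • w = w + (φ ⬝ᵥ (g⁻¹ • w)) • (g • v) := by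
    rw [mul_smul, mul_smul, tv_smul h, smul_add, smul_inv_smul, smul_comm]
  exact e1.trans ((congrArg (fun c => w + c • (g • v)) (dot_inv_smul g φ w)).trans
    (tv_smul h' w).symm)

/-- conjugating `tv v φ` by `tv y ξ`: `φ ∘ (tv y ξ)⁻¹ = φ - (φ ⬝ y) ξ` -/
theorem tv_conj_tv {y ξ v φ : Fin n → F} (hξ : ξ ⬝ᵥ y = 0) (h : φ ⬝ᵥ v = 0) :
    tv y ξ * tv v φ * (tv y ξ)⁻¹ = tv (v + (ξ ⬝ᵥ v) • y) (φ - (φ ⬝ᵥ y) • ξ) := by
  have hξ' : (-ξ) ⬝ᵥ y = 0 := by rw [neg_dotProduct, hξ, neg_zero]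
  rw [conj_tv _ h, tv_smul hξ, tv_inv hξ, tv_coe hξ', vecMul_tvMat, smul_neg, sub_eq_add_neg]

/-- Chevalley commutator formula -/
theorem comm_tv {v φ v' φ' : Fin n → F} (h1 : φ ⬝ᵥ v = 0) (h2 : φ' ⬝ᵥ v' = 0)
    (h3 : φ ⬝ᵥ v' = 0) :
    tv v' φ' * tv v φ * (tv v' φ')⁻¹ * (tv v φ)⁻¹ = tv v' ((φ' ⬝ᵥ v) • φ) := by
  have h4 : φ ⬝ᵥ ((φ' ⬝ᵥ v) • v') = 0 := by rw [dotProduct_smul, h3, smul_zero]
  rw [tv_conj_tv h2 h1, h3, zero_smul, sub_zero, add_comm v, ← tv_mul_tv' h4 h1, mul_assoc,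
    mul_inv_cancel, mul_one, tv_smul_left]

theorem tv_mem_A {v φ : Fin n → F} (h : φ ⬝ᵥ v = 0) : tv v φ ∈ A v := by
  rw [SpecialLinearGroup.mem_lineStab_iff]
  intro w
  rw [tv_smul h, add_sub_cancel_left]
  exact Submodule.smul_mem _ _ (Submodule.mem_span_singleton_self v)

theorem mem_A_iff {v : Fin n → F} (hv : v ≠ 0) (g : SpecialLinearGroup (Fin n) F) :
    g ∈ A v ↔ ∃ φ : Fin n → F, φ ⬝ᵥ v = 0 ∧ g = tv v φ := by
  constructor
  · intro hg
    rw [SpecialLinearGroup.mem_lineStab_iff] at hg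
    have hcol : ∀ j : Fin n, ∃ c : F, c • v = g • (Pi.single j (1 : F) : Fin n → F) -
        (Pi.single j (1 : F) : Fin n → F) :=
      fun j => Submodule.mem_span_singleton.mp (hg _)
    choose φ hφ using hcol
    have hmat : (g : Matrix (Fin n) (Fin n) F) = tvMat v φ := by
      ext i j
      have h0 : g • (Pi.single j (1 : F) : Fin n → F) =
          (g : Matrix (Fin n) (Fin n) F) *ᵥ (Pi.single j (1 : F) : Fin n → F) := rfl
      have h1 := congrFun (hφ j) i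
      rw [h0, mulVec_single_one] at h1
      simp only [Pi.smul_apply, smul_eq_mul, Pi.sub_apply, col_apply] at h1
      unfold tvMat
      rw [Matrix.add_apply, vecMulVec_apply, Matrix.one_apply]
      rw [Pi.single_apply] at h1
      by_cases hij : i = j
      · rw [if_pos hij] at h1 ⊢
        rw [mul_comm]
        linear_combination -h1
      · rw [if_neg hij] at h1 ⊢
        rw [mul_comm]
        linear_combination -h1
    have hdet : φ ⬝ᵥ v = 0 := by
      have h1 := g.2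
      rw [hmat, det_tvMat'] at h1
      exact add_eq_left.mp h1
    refine ⟨φ, hdet, ?_⟩
    apply Subtype.ext
    rw [hmat, tv_coe hdet]
  · rintro ⟨φ, hφ, rfl⟩
    exact tv_mem_A hφ

theorem mem_A2_iff {v : Fin n → F} (hv : v ≠ 0) (w : Fin n → F)
    (g : SpecialLinearGroup (Fin n) F) :
    g ∈ A2 v w ↔ ∃ φ : Fin n → F, φ ⬝ᵥ v = 0 ∧ φ ⬝ᵥ w = 0 ∧ g = tv v φ := by
  unfold A2
  rw [Subgroup.mem_inf, mem_A_iff hv, MulAction.mem_stabilizer_iff]
  constructor
  · rintro ⟨⟨φ, hφ, rfl⟩, hw⟩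
    refine ⟨φ, hφ, ?_, rfl⟩
    rw [tv_smul hφ] at hw
    have h1 : (φ ⬝ᵥ w) • v = 0 := add_eq_left.mp hw
    rcases smul_eq_zero.mp h1 with h2 | h2
    · exact h2
    · exact absurd h2 hv
  · rintro ⟨φ, hφ, hw, rfl⟩
    refine ⟨⟨φ, hφ, rfl⟩, ?_⟩
    rw [tv_smul hφ, hw, zero_smul, add_zero]

theorem A_comm (v : Fin n → F) {x y : SpecialLinearGroup (Fin n) F} (hx : x ∈ A v) (hy : y ∈ A v) :
    x * y = y * x := by
  by_cases hv : v = 0
  · subst hv
    have h1 : ∀ z : SpecialLinearGroup (Fin n) F, z ∈ A (0 : Fin n → F) → z = 1 := by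
      intro z hz
      rw [SpecialLinearGroup.mem_lineStab_iff] at hz
      apply sl_ext
      intro w
      have := hz w
      rw [Submodule.span_zero_singleton, Submodule.mem_bot] at this
      rw [one_smul]
      exact sub_eq_zero.mp this
    rw [h1 x hx, h1 y hy]
  · exact SpecialLinearGroup.lineStab_isMulCommutative_of_span' v hv x y hx hy

/-- `A (g • v) = g (A v) g⁻¹` -/
theorem mem_A_smul_iff (g x : SpecialLinearGroup (Fin n) F) (v : Fin n → F) :
    x ∈ A (g • v) ↔ g⁻¹ * x * g ∈ A v := by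
  rw [SpecialLinearGroup.mem_lineStab_iff, SpecialLinearGroup.mem_lineStab_iff]
  constructor
  · intro h w
    obtain ⟨c, hc⟩ := Submodule.mem_span_singleton.mp (h (g • w))
    rw [Submodule.mem_span_singleton]
    refine ⟨c, ?_⟩
    have : (g⁻¹ * x * g) • w - w = g⁻¹ • (x • g • w - g • w) := by
      rw [smul_sub, mul_smul, mul_smul, inv_smul_smul]
    rw [this, ← hc, smul_comm, inv_smul_smul]
  · intro h w
    obtain ⟨c, hc⟩ := Submodule.mem_span_singleton.mp (h (g⁻¹ • w))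
    rw [Submodule.mem_span_singleton]
    refine ⟨c, ?_⟩
    have : x • w - w = g • ((g⁻¹ * x * g) • g⁻¹ • w - g⁻¹ • w) := by
      rw [smul_sub, mul_smul, mul_smul, smul_inv_smul, smul_inv_smul]
    rw [this, ← hc]
    exact (smul_comm g c v).symm

theorem A_smul_scalar {c : F} (hc : c ≠ 0) (v : Fin n → F) : A (c • v) = A v := by
  show SpecialLinearGroup.lineStab (F ∙ (c • v)) = SpecialLinearGroup.lineStab (F ∙ v)
  rw [Submodule.span_singleton_smul_eq (IsUnit.mk0 c hc)]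

theorem A2_smul_scalar {c : F} (hc : c ≠ 0) (v w : Fin n → F) : A2 (c • v) w = A2 v w := by
  unfold A2
  rw [A_smul_scalar hc]

/-- `A2 (g • v) (g • w) = g (A2 v w) g⁻¹` -/
theorem mem_A2_smul_iff (g x : SpecialLinearGroup (Fin n) F) (v w : Fin n → F) :
    x ∈ A2 (g • v) (g • w) ↔ g⁻¹ * x * g ∈ A2 v w := by
  unfold A2
  rw [Subgroup.mem_inf, Subgroup.mem_inf, mem_A_smul_iff, MulAction.mem_stabilizer_iff,
    MulAction.mem_stabilizer_iff]
  apply and_congr Iff.rfl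
  rw [mul_smul, mul_smul, inv_smul_eq_iff]

/-- separating functional: for `u` outside a subspace `S` -/
theorem exists_dual {S : Submodule F (Fin n → F)} {u : Fin n → F} (hu : u ∉ S) :
    ∃ ξ : Fin n → F, (∀ s ∈ S, ξ ⬝ᵥ s = 0) ∧ ξ ⬝ᵥ u = 1 := by
  obtain ⟨f, hf, hfu⟩ := LinearMap.exists_extend_of_notMem (0 : S →ₗ[F] F) hu (1 : F)
  have key : ∀ w : Fin n → F, f w = (fun i => f (fun j => if i = j then 1 else 0)) ⬝ᵥ w := by
    intro w
    rw [LinearMap.pi_apply_eq_sum_univ f w, dotProduct]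
    apply Finset.sum_congr rfl
    intro i _
    rw [smul_eq_mul, mul_comm]
  refine ⟨fun i => f (fun j => if i = j then 1 else 0), ?_, ?_⟩
  · intro s hs
    rw [← key]
    have := congrArg (fun g : S →ₗ[F] F => g ⟨s, hs⟩) hf
    simpa using this
  · rw [← key, hfu]

end F3a

end Cfsg.Agent.Lib.Helper11.MinDeg
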