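import Cfsg.Agent.Lib.Helper1.NilpotentMaximal
import Cfsg.Agent.Lib.Helper17.PResidual
import Cfsg.Agent.S0078

set_option autoImplicit false
set_option linter.unusedSectionVars false
open scoped commutatorElement

namespace Cfsg.Agent.Lib.Helper1

namespace NilpMax

open Subgroup Cfsg Cfsg.Agent.Lib.Helper13

universe u

section ClassTwo

variable {G : Type u} [Group G] [Finite G]

/-- The Sylow `p`-subgroup of a core-free nilpotent maximal subgroup `M` is a Sylow subgroup `S`
of the group; `M` is the normalizer of every nontrivial normal subgroup of `S`, and `S` contains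
every `p`-subgroup of `M`. -/
theorem exists_sylow_of_coatom (M : Subgroup G) (hmax : IsCoatom M) (hnil : Group.IsNilpotent M)
    (hcf : ∀ N : Subgroup G, N.Normal → N ≤ M → N = ⊥)
    {p : ℕ} [Fact p.Prime] (hpM : p ∣ Nat.card M) :
    ∃ S : Sylow p G, (S : Subgroup G) ≤ M ∧ (S : Subgroup G) ≠ ⊥ ∧
      (∀ U : Subgroup G, U ≤ S → U ≠ ⊥ → (S : Subgroup G) ≤ normalizer (U : Set G) →
        normalizer (U : Set G) = M) ∧
      (∀ Q : Subgroup G, IsPGroup p Q → Q ≤ M → Q ≤ S) ∧
      (S : Subgroup G) ⊓ (pResidual p M).map M.subtype = ⊥ := by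
  have hp : p.Prime := Fact.out
  obtain ⟨PM⟩ : Nonempty (Sylow p M) := inferInstance
  have hPMn : (PM : Subgroup M).Normal :=
    Sylow.normal_of_normalizerCondition Group.normalizerCondition_of_isNilpotent PM
  set P : Subgroup G := (PM : Subgroup M).map M.subtype with hP
  have hPM : P ≤ M := Subgroup.map_subtype_le _
  have hPp : IsPGroup p P := PM.isPGroup'.map _
  have hPne : P ≠ ⊥ := by
    intro h
    have h1 : Nat.card P = Nat.card (PM : Subgroup M) :=
      Subgroup.card_map_of_injective M.subtype_injective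
    rw [h, Subgroup.card_bot, PM.card_eq_multiplicity] at h1
    have : (Nat.card M).factorization p ≠ 0 := by
      intro h0
      rcases (Nat.factorization_eq_zero_iff _ _).mp h0 with h | h | h
      · exact h hp
      · exact h hpM
      · exact Nat.card_pos.ne' h
    have h2 : p ∣ 1 := by
      rw [h1]; exact dvd_pow_self p this
    exact hp.one_lt.ne' (Nat.dvd_one.mp h2)
  -- the normal `p`-complement of `M`
  obtain ⟨KM, hKMn, hKMcop, k, hKMk⟩ :=
    hasNormalPComplement_iff_exists.mp (hasNPC_of_isNilpotent (p := p) _ ↥M rfl hnil)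
  have hdisj : Disjoint (PM : Subgroup M) KM := by
    apply Subgroup.disjoint_of_coprime_natCard
    obtain ⟨j, hj⟩ := PM.isPGroup'.exists_card_eq
    rw [hj]
    exact (Nat.Coprime.pow_right j hKMcop).symm
  have hcomm : ∀ x ∈ (PM : Subgroup M), ∀ y ∈ KM, Commute x y := fun x hx y hy =>
    Subgroup.commute_of_normal_of_disjoint _ _ hPMn hKMn hdisj x y hx hy
  have hKMp : IsPGroup p (↥M ⧸ KM) := by
    apply IsPGroup.of_card (n := k)
    rw [← Subgroup.index_eq_card, hKMk]
  have hsup : (PM : Subgroup M) ⊔ KM = ⊤ :=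
    Cfsg.Agent.Lib.Helper17.sup_eq_top_of_index_coprime PM.not_dvd_index hKMp
  -- `M` normalizes the normal subgroups of `P`
  have hMU : ∀ U : Subgroup G, U ≤ P → P ≤ normalizer (U : Set G) → M ≤ normalizer (U : Set G) := by
    intro U hUP hPU
    have h1 : (⊤ : Subgroup M) ≤ (normalizer (U : Set G)).subgroupOf M := by
      rw [← hsup]
      apply sup_le
      · intro x hx
        rw [Subgroup.mem_subgroupOf]
        exact hPU ⟨x, hx, rfl⟩
      · intro y hy
        rw [Subgroup.mem_subgroupOf, Subgroup.mem_normalizer_iff]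
        have hyc : ∀ u ∈ U, (y : G) * u * (y : G)⁻¹ = u := by
          intro u hu
          obtain ⟨x, hx, rfl⟩ := hUP hu
          have := (hcomm x hx y hy).eq
          have h2 : (x : G) * (y : G) = (y : G) * (x : G) := congrArg Subtype.val this
          show (y : G) * (x : G) * (y : G)⁻¹ = (x : G)
          rw [← h2]; group
        intro u
        constructor
        · intro hu
          rw [hyc u hu]; exact hu
        · intro hu
          have h3 := hyc _ hu
          have h4 : (y : G) * u * (y : G)⁻¹ = u := by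
            have : (y : G)⁻¹ * ((y : G) * ((y : G) * u * (y : G)⁻¹) * (y : G)⁻¹) * (y : G) =
                (y : G)⁻¹ * ((y : G) * u * (y : G)⁻¹) * (y : G) := by rw [h3]
            have e1 : (y : G)⁻¹ * ((y : G) * ((y : G) * u * (y : G)⁻¹) * (y : G)⁻¹) * (y : G) =
                (y : G) * u * (y : G)⁻¹ := by group
            have e2 : (y : G)⁻¹ * ((y : G) * u * (y : G)⁻¹) * (y : G) = u := by group
            rw [e1, e2] at this
            exact this
          rw [← h4]; exact hu
    intro m hm
    have := h1 (Subgroup.mem_top (⟨m, hm⟩ : M))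
    exact Subgroup.mem_subgroupOf.mp this
  have hNU : ∀ U : Subgroup G, U ≤ P → U ≠ ⊥ → P ≤ normalizer (U : Set G) →
      normalizer (U : Set G) = M := fun U hUP hUne hPU =>
    normalizer_eq_of_coatom M hmax hcf U (hUP.trans hPM) hUne (hMU U hUP hPU)
  have hNP : normalizer (P : Set G) = M := hNU P le_rfl hPne Subgroup.le_normalizer
  -- `p`-subgroups of `M` lie in `P`
  have hQP : ∀ Q : Subgroup G, IsPGroup p Q → Q ≤ M → Q ≤ P := by
    intro Q hQ hQM
    have h1 : IsPGroup p (Q.subgroupOf M) := hQ.comap_subtype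
    obtain ⟨R, hR⟩ := h1.exists_le_sylow
    have hRPM : R = PM := by
      obtain ⟨g, hg⟩ := MulAction.exists_smul_eq M PM R
      rw [← hg]
      exact Sylow.smul_eq_of_normal (P := PM) (g := g)
    intro x hx
    have : (⟨x, hQM hx⟩ : M) ∈ (PM : Subgroup M) := by
      rw [← hRPM]
      exact hR (Subgroup.mem_subgroupOf.mpr hx)
    exact ⟨⟨x, hQM hx⟩, this, rfl⟩
  -- `P` is a Sylow subgroup of `G`
  obtain ⟨S, hPS⟩ := hPp.exists_le_sylow
  have hPS' : P = S := by
    by_contra hne
    have hlt : P < (S : Subgroup G) := lt_of_le_of_ne hPS hne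
    have hlt2 := lt_inf_normalizer_of_lt (S : Subgroup G) P S.isPGroup' hlt
    rw [hNP] at hlt2
    have h4 : (S : Subgroup G) ⊓ M ≤ P := hQP _ (S.isPGroup'.to_le inf_le_left) inf_le_right
    exact absurd (lt_of_lt_of_le hlt2 h4) (lt_irrefl _)
  refine ⟨S, hPS' ▸ hPM, hPS' ▸ hPne, ?_, ?_, ?_⟩
  · intro U hU hUne hSU
    exact hNU U (hPS' ▸ hU) hUne (hPS' ▸ hSU)
  · intro Q hQ hQM
    exact hPS' ▸ hQP Q hQ hQM
  · rw [← hPS', eq_bot_iff]
    rintro x ⟨⟨y, hy, rfl⟩, ⟨z, hz, hzy⟩⟩
    have hyz : z = y := Subtype.ext hzy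
    rw [hyz] at hz
    have hzK : y ∈ KM := Cfsg.Agent.Lib.Helper17.pResidual_le_of_quotient_isPGroup hKMp hz
    have : y ∈ (PM : Subgroup M) ⊓ KM := ⟨hy, hzK⟩
    rw [disjoint_iff.mp hdisj, Subgroup.mem_bot] at this
    rw [Subgroup.mem_bot, this]; rfl

/-- **Step** (class at most two): the group has a normal `p`-complement for every prime `p`
dividing the order of a core-free nilpotent maximal subgroup of class at most two
(Grün's theorem for `p`-normal groups). -/
theorem hasNPC_of_coatom_class_two (M : Subgroup G) (hmax : IsCoatom M) (hnil : Group.IsNilpotent M)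
    (hcl : Group.nilpotencyClass ↥M ≤ 2) (hcf : ∀ N : Subgroup G, N.Normal → N ≤ M → N = ⊥)
    {p : ℕ} [Fact p.Prime] (hpM : p ∣ Nat.card M) : HasNormalPComplement p G := by
  have hp : p.Prime := Fact.out
  obtain ⟨S, hSM, hSne, hNU, hQS, hres⟩ := exists_sylow_of_coatom M hmax hnil hcf hpM
  -- class two
  have hlcs : (⊤ : Subgroup M).lowerCentralSeries 2 = ⊥ :=
    Subgroup.lowerCentralSeries_eq_bot_iff_nilpotencyClass_le.mpr hcl
  have hcl2M : ∀ x y z : M, ⁅⁅x, y⁆, z⁆ = 1 := by
    intro x y z
    have h1 : ⁅⁅x, y⁆, z⁆ ∈ (⊤ : Subgroup M).lowerCentralSeries 2 := by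
      rw [Subgroup.lowerCentralSeries_succ, Subgroup.lowerCentralSeries_succ,
        Subgroup.lowerCentralSeries_zero]
      exact Subgroup.commutator_mem_commutator
        (Subgroup.commutator_mem_commutator (Subgroup.mem_top x) (Subgroup.mem_top y))
        (Subgroup.mem_top z)
    rw [hlcs, Subgroup.mem_bot] at h1
    exact h1
  have hcl2S : ∀ a ∈ (S : Subgroup G), ∀ b ∈ (S : Subgroup G), ∀ c ∈ (S : Subgroup G),
      Commute ⁅a, b⁆ c := by
    intro a ha b hb c hc
    have := hcl2M ⟨a, hSM ha⟩ ⟨b, hSM hb⟩ ⟨c, hSM hc⟩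
    have h1 : ⁅⁅a, b⁆, c⁆ = 1 := congrArg Subtype.val this
    exact commutatorElement_eq_one_iff_commute.mp h1
  -- all Sylow subgroups have class two
  have hcl2 : ∀ Q : Sylow p G, ∀ a ∈ (Q : Subgroup G), ∀ b ∈ (Q : Subgroup G),
      ∀ c ∈ (Q : Subgroup G), Commute ⁅a, b⁆ c := by
    intro Q a ha b hb c hc
    obtain ⟨g, hg⟩ := MulAction.exists_smul_eq G Q S
    have hmem : ∀ x ∈ (Q : Subgroup G), g * x * g⁻¹ ∈ (S : Subgroup G) := by
      intro x hx
      rw [← hg, Sylow.coe_subgroup_smul]
      exact Subgroup.mem_map.mpr ⟨x, hx, rfl⟩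
    have h1 := hcl2S _ (hmem a ha) _ (hmem b hb) _ (hmem c hc)
    have h2 : ⁅g * a * g⁻¹, g * b * g⁻¹⁆ = g * ⁅a, b⁆ * g⁻¹ := by
      rw [commutatorElement_def, commutatorElement_def]; group
    rw [h2] at h1
    have h3 : g * ⁅a, b⁆ * g⁻¹ * (g * c * g⁻¹) = g * c * g⁻¹ * (g * ⁅a, b⁆ * g⁻¹) := h1.eq
    have h4 : g * (⁅a, b⁆ * c) * g⁻¹ = g * (c * ⁅a, b⁆) * g⁻¹ := by
      calc g * (⁅a, b⁆ * c) * g⁻¹ = g * ⁅a, b⁆ * g⁻¹ * (g * c * g⁻¹) := by group
        _ = g * c * g⁻¹ * (g * ⁅a, b⁆ * g⁻¹) := h3
        _ = g * (c * ⁅a, b⁆) * g⁻¹ := by group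
    exact mul_left_cancel (mul_right_cancel h4)
  have hcomm_mem : ∀ Q : Sylow p G, ∀ a ∈ (Q : Subgroup G), ∀ b ∈ (Q : Subgroup G),
      ⁅a, b⁆ ∈ (Q : Subgroup G) ⊓ centralizer ((Q : Subgroup G) : Set G) := by
    intro Q a ha b hb
    refine Subgroup.mem_inf.mpr ⟨?_, ?_⟩
    · rw [commutatorElement_def]
      exact (Q : Subgroup G).mul_mem ((Q : Subgroup G).mul_mem ((Q : Subgroup G).mul_mem ha hb)
        ((Q : Subgroup G).inv_mem ha)) ((Q : Subgroup G).inv_mem hb)
    · rw [Subgroup.mem_centralizer_iff]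
      intro c hc
      exact ((hcl2 Q a ha b hb c hc).eq).symm
  -- the centre of `S`
  have hW₂ := ThompsonNPC.isCharPFunctor_center.{u} (p := p)
  set Z : Subgroup G := (S : Subgroup G) ⊓ centralizer ((S : Subgroup G) : Set G) with hZ
  have hZeq := ThompsonNPC.inducedFunctor_center (S : Subgroup G)
  have hZne : Z ≠ ⊥ := by
    rw [hZ, ← hZeq]
    exact inducedFunctor_ne_bot hW₂ (S : Subgroup G) S.isPGroup' hSne
  have hSZ : (S : Subgroup G) ≤ normalizer (Z : Set G) := by
    rw [hZ, ← hZeq]
    exact Subgroup.le_normalizer.trans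
      (normalizer_le_normalizer_inducedFunctor hW₂ (S : Subgroup G) S.isPGroup')
  have hNZ : normalizer (Z : Set G) = M := hNU Z inf_le_left hZne hSZ
  -- `p`-normality
  have hn : ∀ Q : Sylow p G, Z ≤ (Q : Subgroup G) →
      (Q : Subgroup G) ⊓ centralizer ((Q : Subgroup G) : Set G) = Z := by
    intro Q hZQ
    set Z' : Subgroup G := (Q : Subgroup G) ⊓ centralizer ((Q : Subgroup G) : Set G) with hZ'
    have hZ'M : Z' ≤ M := by
      rw [← hNZ]
      refine le_trans ?_ (Subgroup.centralizer_le_normalizer _)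
      intro x hx
      rw [Subgroup.mem_centralizer_iff]
      intro z hz
      exact Subgroup.mem_centralizer_iff.mp hx.2 z (hZQ hz)
    have hZ'S : Z' ≤ S := hQS Z' (Q.isPGroup'.to_le inf_le_left) hZ'M
    set W : Subgroup G := Z ⊔ Z' with hW
    have hWS : W ≤ S := sup_le inf_le_left hZ'S
    have hWQ : W ≤ Q := sup_le hZQ inf_le_left
    have hWne : W ≠ ⊥ := fun h => hZne (eq_bot_iff.mpr (h ▸ le_sup_left))
    have hnormW : ∀ (R : Sylow p G) (Z₁ Z₂ : Subgroup G),
        Z₁ = (R : Subgroup G) ⊓ centralizer ((R : Subgroup G) : Set G) → Z₂ ≤ R →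
        (R : Subgroup G) ≤ normalizer ((Z₁ ⊔ Z₂ : Subgroup G) : Set G) := by
      intro R Z₁ Z₂ hZ₁ hZ₂
      apply le_normalizer_of_forall_conj_mem
      intro x hx n hn
      have hcl : Z₁ ⊔ Z₂ = Subgroup.closure ((Z₁ : Set G) ∪ Z₂) := by
        rw [Subgroup.closure_union, Subgroup.closure_eq, Subgroup.closure_eq]
      rw [hcl] at hn ⊢
      induction hn using Subgroup.closure_induction with
      | mem y hy =>
        rcases hy with hy | hy
        · apply Subgroup.subset_closure
          left
          have hy' : y ∈ (R : Subgroup G) ⊓ centralizer ((R : Subgroup G) : Set G) := hZ₁ ▸ hy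
          have := Subgroup.mem_centralizer_iff.mp hy'.2 x hx
          have h1 : x * y * x⁻¹ = y := by rw [this]; group
          rw [h1]; exact hy
        · have h1 : x * y * x⁻¹ = ⁅x, y⁆ * y := by
            rw [commutatorElement_def]; group
          rw [h1]
          apply Subgroup.mul_mem
          · apply Subgroup.subset_closure
            left
            show ⁅x, y⁆ ∈ Z₁
            rw [hZ₁]
            exact hcomm_mem R x hx y (hZ₂ hy)
          · exact Subgroup.subset_closure (Or.inr hy)
      | one => simp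
      | mul a b _ _ iha ihb =>
        have : x * (a * b) * x⁻¹ = (x * a * x⁻¹) * (x * b * x⁻¹) := by group
        rw [this]; exact Subgroup.mul_mem _ iha ihb
      | inv a _ iha =>
        have : x * a⁻¹ * x⁻¹ = (x * a * x⁻¹)⁻¹ := by group
        rw [this]; exact Subgroup.inv_mem _ iha
    have hSW : (S : Subgroup G) ≤ normalizer (W : Set G) := hnormW S Z Z' hZ hZ'S
    have hQW : (Q : Subgroup G) ≤ normalizer (W : Set G) := by
      rw [hW, sup_comm]
      exact hnormW Q Z' Z hZ' hZQ
    have hNW : normalizer (W : Set G) = M := hNU W hWS hWne hSW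
    have hQM : (Q : Subgroup G) ≤ M := hNW ▸ hQW
    have hQS' : (Q : Subgroup G) ≤ S := hQS _ Q.isPGroup' hQM
    have hQeq : (Q : Subgroup G) = S := Q.is_maximal' S.isPGroup' hQS' |>.symm
    rw [hZ', hQeq]
  -- Grün's theorem
  have hgrun := Cfsg.Agent.S0078.result S hn M (le_of_eq hNZ)
  rw [hres] at hgrun
  have hnorm : (pResidual p G).Normal := Cfsg.Agent.Lib.Helper17.pResidual_normal
  refine ⟨S, pResidual p G, hnorm, ?_⟩
  apply isComplement'_of_disjoint_of_sup_eq_top
  · rw [disjoint_iff, inf_comm]; exact hgrun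
  · rw [sup_comm]; exact Cfsg.Agent.Lib.Helper17.sylow_sup_pResidual S

end ClassTwo

/-- **Deskins–Janko–Thompson**: a finite group with a nilpotent maximal subgroup of class at most two
is solvable. -/
theorem isSolvable_of_nilpotent_class_two_coatom : ∀ n : ℕ, ∀ (G : Type u) [Group G] [Finite G],
    Nat.card G = n → ∀ M : Subgroup G, IsCoatom M → Group.IsNilpotent M →
    Group.nilpotencyClass ↥M ≤ 2 → Group.IsSolvable G := by
  intro n
  induction n using Nat.strong_induction_on with
  | _ n ih =>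
  intro G _ _ hn M hmax hnil hcl
  by_cases hcore : ∃ N : Subgroup G, N.Normal ∧ N ≤ M ∧ N ≠ ⊥
  · obtain ⟨N, hNn, hNM, hNne⟩ := hcore
    set π := QuotientGroup.mk' N with hπ
    have hπs : Function.Surjective π := QuotientGroup.mk'_surjective N
    have hcomap : (M.map π).comap π = M := by
      rw [Subgroup.comap_map_eq, hπ, QuotientGroup.ker_mk', sup_of_le_left hNM]
    have hco : IsCoatom (M.map π) := by
      constructor
      · intro h
        apply hmax.1
        rw [← hcomap, h, Subgroup.comap_top]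
      · intro L hL
        have h1 : M < L.comap π := by
          rw [← hcomap]
          exact (Subgroup.comap_lt_comap_of_surjective hπs).mpr hL
        have h2 := hmax.2 _ h1
        rw [← Subgroup.map_comap_eq_self_of_surjective hπs L, h2, Subgroup.map_top_of_surjective _ hπs]
    have hnil' : Group.IsNilpotent (M.map π) :=
      Group.nilpotent_of_surjective (π.subgroupMap M) (π.subgroupMap_surjective M)
    have hcl' : Group.nilpotencyClass ↥(M.map π) ≤ 2 :=
      le_trans (Group.nilpotencyClass_le_of_surjective (π.subgroupMap M) (π.subgroupMap_surjective M)) hcl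
    have hlt : Nat.card (G ⧸ N) < n := by
      rw [← hn]
      exact card_quotient_lt_of_ne_bot hNne
    have hsolq : Group.IsSolvable (G ⧸ N) := ih _ hlt (G ⧸ N) rfl (M.map π) hco hnil' hcl'
    have hsolM : Group.IsSolvable M := inferInstance
    have hsolN : Group.IsSolvable N :=
      Group.isSolvable_of_isSolvable_injective (Subgroup.inclusion_injective hNM)
    exact Group.isSolvable_of_ker_le_range N.subtype π (by rw [hπ, QuotientGroup.ker_mk', Subgroup.range_subtype])
  · push Not at hcore
    have hcf : ∀ N : Subgroup G, N.Normal → N ≤ M → N = ⊥ := by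
      intro N hN hNM
      by_contra hne
      exact hne (hcore N hN hNM)
    have htopne : (⊤ : Subgroup G) ≠ ⊥ := by
      intro h
      apply hmax.1
      rw [eq_top_iff, h]; exact bot_le
    obtain ⟨N, ⟨hNn, hNne⟩, hNmin⟩ := Set.exists_min_image {N : Subgroup G | N.Normal ∧ N ≠ ⊥}
      (fun N => Nat.card N) (Set.toFinite _) ⟨⊤, inferInstance, htopne⟩
    have hmin : ∀ N' : Subgroup G, N'.Normal → N' ≤ N → N' = ⊥ ∨ N' = N := by
      intro N' hN' hle
      by_cases h0 : N' = ⊥
      · exact Or.inl h0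
      · right
        exact Subgroup.eq_of_le_of_card_ge hle (hNmin N' ⟨hN', h0⟩)
    have hNM : ¬ N ≤ M := fun h => hNne (hcf N hNn h)
    have htop : M ⊔ N = ⊤ := by
      rcases eq_or_lt_of_le (le_sup_left : M ≤ M ⊔ N) with h | h
      · exfalso
        apply hNM
        rw [h]; exact le_sup_right
      · exact hmax.2 _ h
    have hsolM : Group.IsSolvable M := inferInstance
    have hsolq : Group.IsSolvable (G ⧸ N) := by
      let f : M →* G ⧸ N := (QuotientGroup.mk' N).comp M.subtype
      have hf : Function.Surjective f := by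
        intro y
        obtain ⟨g, rfl⟩ := QuotientGroup.mk'_surjective N y
        have h1 : g ∈ ((M ⊔ N : Subgroup G) : Set G) := by rw [htop]; exact Set.mem_univ g
        rw [Subgroup.mul_normal M N] at h1
        obtain ⟨m, hm, y, hy, rfl⟩ := Set.mem_mul.mp h1
        refine ⟨⟨m, hm⟩, ?_⟩
        show QuotientGroup.mk' N m = QuotientGroup.mk' N (m * y)
        have hy1 : (QuotientGroup.mk' N) y = 1 := (QuotientGroup.eq_one_iff y).mpr hy
        rw [map_mul, hy1, mul_one]
      exact Group.isSolvable_of_surjective hf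
    have hsolN : Group.IsSolvable N := by
      by_cases h : ∃ p : ℕ, p.Prime ∧ p ∣ Nat.card M ∧ IsPGroup p N
      · obtain ⟨p, hp, -, hpN⟩ := h
        have : Fact p.Prime := ⟨hp⟩
        have := hpN.isNilpotent
        infer_instance
      · push Not at h
        apply isSolvable_of_coprime_coatom M hmax N hNne
        apply Nat.Coprime.symm
        apply Nat.coprime_of_dvd
        intro k hk hkN hkM
        have : Fact k.Prime := ⟨hk⟩
        have hnpc : HasNormalPComplement k G := hasNPC_of_coatom_class_two M hmax hnil hcl hcf hkM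
        rcases isPGroup_or_not_dvd hnpc N hmin with h1 | h1
        · exact h k hk hkM h1
        · exact h1 hkN
    exact Group.isSolvable_of_ker_le_range N.subtype (QuotientGroup.mk' N)
      (by rw [QuotientGroup.ker_mk', Subgroup.range_subtype])

end NilpMax

end Cfsg.Agent.Lib.Helper1
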