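import Mathlib
import Cfsg.Agent.Lib.Helper1.Nilpotent
import Cfsg.Agent.Lib.Helper1.ClassTwo
import Cfsg.Agent.Lib.Helper1.Frattini

/-!
# Normal elementary abelian subgroups of small order in `p`-groups, `p` odd

* `NormalElemAb.exists_central_mod`: nilpotent `G`, `B ⊴ G` not inside `N ⊴ G`: some element of
  `B \ N` is central modulo `N`.
* `NormalElemAb.exists_normal_EA_sq`: a `p`-group (`p` odd) containing an elementary abelian
  subgroup of order `≥ p ^ 2` has a normal elementary abelian subgroup of order `p ^ 2`.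
* `NormalElemAb.exists_normal_EA_cube`: the same for `p ^ 3`.
* `NormalElemAb.card_le_sq_of_no_normal_EA_cube` (= S0100).
-/

set_option autoImplicit false

open scoped commutatorElement

namespace Cfsg.Agent.Lib.Helper1

namespace NormalElemAb

universe u

/-- In a nilpotent group, a normal subgroup `B` not contained in the normal subgroup `N` has an
element outside `N` that is central modulo `N`. -/
theorem exists_central_mod {G : Type u} [Group G] [Group.IsNilpotent G] (N B : Subgroup G)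
    [N.Normal] [hB : B.Normal] (hBN : ¬ B ≤ N) :
    ∃ a ∈ B, a ∉ N ∧ ∀ g : G, ⁅a, g⁆ ∈ N := by
  have hBn : (B.map (QuotientGroup.mk' N)).Normal :=
    Subgroup.Normal.map hB _ (QuotientGroup.mk'_surjective N)
  have hBne : B.map (QuotientGroup.mk' N) ≠ ⊥ := by
    intro h
    rw [Subgroup.map_eq_bot_iff, QuotientGroup.ker_mk'] at h
    exact hBN h
  have h3 := inf_center_ne_bot_of_normal (B.map (QuotientGroup.mk' N)) hBne
  obtain ⟨⟨q, hq⟩, hq1⟩ := (Subgroup.ne_bot_iff_exists_ne_one).mp h3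
  obtain ⟨hqB, hqZ⟩ := Subgroup.mem_inf.mp hq
  obtain ⟨a, haB, rfl⟩ := hqB
  refine ⟨a, haB, ?_, ?_⟩
  · intro haN
    apply hq1
    apply Subtype.ext
    exact (QuotientGroup.eq_one_iff a).mpr haN
  · intro g
    rw [← QuotientGroup.eq_one_iff, ← QuotientGroup.mk'_apply, map_commutatorElement,
      commutatorElement_eq_one_iff_commute]
    exact (Subgroup.mem_center_iff.mp hqZ _).symm

theorem exists_normal_step {P : Type u} [Group P] [Finite P] {p : ℕ} [hp : Fact p.Prime]
    (hp2 : p ≠ 2) (hP : IsPGroup p P)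
    (N M : Subgroup P) [hNn : N.Normal] [hMn : M.Normal]
    (hNZ : ∀ n ∈ N, ∀ m ∈ M, n * m = m * n) (hNp : ∀ n ∈ N, n ^ p = 1)
    (a : P) (haM : a ∈ M) (haN : a ∉ N) (hap : a ^ p = 1) (hac : ∀ m ∈ M, ⁅a, m⁆ ∈ N) :
    ∃ y ∈ M, y ∉ N ∧ y ^ p = 1 ∧ ∀ g : P, ⁅y, g⁆ ∈ N := by
  have hnil : Group.IsNilpotent P := hP.isNilpotent
  have hdvd : p ∣ p.choose 2 := hp.out.dvd_choose_self (by norm_num)
    (by have := hp.out.two_le; omega)
  let U : Subgroup P :=
    { carrier := {u | u ∈ M ∧ u ^ p = 1 ∧ ∀ m ∈ M, ⁅u, m⁆ ∈ N}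
      one_mem' := ⟨M.one_mem, one_pow p, fun m _ => by
        rw [commutatorElement_one_left]; exact N.one_mem⟩
      mul_mem' := by
        rintro u v ⟨huM, hup, huc⟩ ⟨hvM, hvp, hvc⟩
        refine ⟨M.mul_mem huM hvM, ?_, ?_⟩
        · have hc : ⁅v, u⁆ ∈ N := hvc u huM
          have hcu : ⁅v, u⁆ * u = u * ⁅v, u⁆ := hNZ _ hc u huM
          have hcv : ⁅v, u⁆ * v = v * ⁅v, u⁆ := hNZ _ hc v hvM
          rw [mul_pow_of_commutator_central hcu hcv, hup, hvp, one_mul, one_mul]
          obtain ⟨k, hk⟩ := hdvd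
          rw [hk, pow_mul, hNp _ hc, one_pow]
        · intro m hm
          have : ⁅u * v, m⁆ = u * ⁅v, m⁆ * u⁻¹ * ⁅u, m⁆ := by
            simp only [commutatorElement_def]; group
          rw [this]
          exact N.mul_mem (hNn.conj_mem _ (hvc m hm) u) (huc m hm)
      inv_mem' := by
        rintro u ⟨huM, hup, huc⟩
        refine ⟨M.inv_mem huM, by rw [inv_pow, hup, inv_one], ?_⟩
        intro m hm
        have : ⁅u⁻¹, m⁆ = u⁻¹ * (⁅u, m⁆)⁻¹ * u⁻¹⁻¹ := by
          simp only [commutatorElement_def]; group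
        rw [this]
        exact hNn.conj_mem _ (N.inv_mem (huc m hm)) u⁻¹ }
  have hUn : U.Normal := by
    constructor
    rintro u ⟨huM, hup, huc⟩ g
    refine ⟨hMn.conj_mem u huM g, ?_, ?_⟩
    · rw [conj_pow, hup, mul_one, mul_inv_cancel]
    · intro m hm
      have : ⁅g * u * g⁻¹, m⁆ = g * ⁅u, g⁻¹ * m * g⁻¹⁻¹⁆ * g⁻¹ := by
        simp only [commutatorElement_def]; group
      rw [this]
      exact hNn.conj_mem _ (huc _ (hMn.conj_mem m hm g⁻¹)) g
  have haU : a ∈ U := ⟨haM, hap, hac⟩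
  have hUN : ¬ U ≤ N := fun h => haN (h haU)
  obtain ⟨y, hyU, hyN, hyc⟩ := exists_central_mod N U hUN
  exact ⟨y, hyU.1, hyN, hyU.2.1, hyc⟩

theorem exists_normal_EA_succ {P : Type u} [Group P] [Finite P] {p : ℕ} [hp : Fact p.Prime]
    (N : Subgroup P) [hNn : N.Normal] (hNcomm : ∀ x ∈ N, ∀ y ∈ N, x * y = y * x)
    (hNp : ∀ n ∈ N, n ^ p = 1) (k : ℕ) (hNcard : Nat.card N = p ^ k) (y : P) (hyN : y ∉ N)
    (hyp : y ^ p = 1) (hyc : ∀ n ∈ N, y * n = n * y) (hyg : ∀ g : P, ⁅y, g⁆ ∈ N) :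
    ∃ A : Subgroup P, A.Normal ∧ (∀ x ∈ A, ∀ z ∈ A, x * z = z * x) ∧ (∀ x ∈ A, x ^ p = 1) ∧
      Nat.card A = p ^ (k + 1) := by
  set π := QuotientGroup.mk' N with hπ
  have hsurj : Function.Surjective π := QuotientGroup.mk'_surjective N
  have hycent : ∀ q : P ⧸ N, q * π y = π y * q := by
    intro q
    obtain ⟨g, rfl⟩ := hsurj q
    have h1 : π ⁅y, g⁆ = 1 := by
      rw [hπ, QuotientGroup.mk'_apply]
      exact (QuotientGroup.eq_one_iff _).mpr (hyg g)
    rw [map_commutatorElement, commutatorElement_eq_one_iff_commute] at h1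
    exact h1.eq.symm
  have hKn : (Subgroup.zpowers (π y)).Normal := by
    constructor
    intro x hx q
    obtain ⟨i, rfl⟩ := Subgroup.mem_zpowers_iff.mp hx
    have hc : Commute q (π y ^ i) := Commute.zpow_right (hycent q) i
    rw [hc.eq, mul_assoc, mul_inv_cancel, mul_one]
    exact Subgroup.zpow_mem _ (Subgroup.mem_zpowers _) _
  refine ⟨(Subgroup.zpowers (π y)).comap π, hKn.comap π, ?_, ?_, ?_⟩
  all_goals
    have hdec : ∀ x ∈ (Subgroup.zpowers (π y)).comap π, ∃ i : ℤ, ∃ n ∈ N, x = y ^ i * n := by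
      intro x hx
      obtain ⟨i, hi⟩ := Subgroup.mem_zpowers_iff.mp (Subgroup.mem_comap.mp hx)
      refine ⟨i, (y ^ i)⁻¹ * x, ?_, by group⟩
      rw [← QuotientGroup.eq, QuotientGroup.mk_zpow]
      exact hi
  · intro x hx z hz
    obtain ⟨i, n, hn, rfl⟩ := hdec x hx
    obtain ⟨j, m, hm, rfl⟩ := hdec z hz
    have c1 : Commute (y ^ i) (y ^ j) := (Commute.refl y).zpow_zpow i j
    have c2 : Commute (y ^ i) m := Commute.zpow_left (hyc m hm) i
    have c3 : Commute n (y ^ j) := (Commute.zpow_left (hyc n hn) j).symm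
    have c4 : Commute n m := hNcomm n hn m hm
    exact ((c1.mul_right c2).mul_left (c3.mul_right c4)).eq
  · intro x hx
    obtain ⟨i, n, hn, rfl⟩ := hdec x hx
    have c2 : Commute (y ^ i) n := Commute.zpow_left (hyc n hn) i
    rw [c2.mul_pow, hNp n hn, mul_one, ← zpow_natCast, ← zpow_mul, mul_comm, zpow_mul,
      zpow_natCast, hyp, one_zpow]
  · have hy1 : π y ≠ 1 := by
      intro h
      apply hyN
      rw [hπ, QuotientGroup.mk'_apply] at h
      exact (QuotientGroup.eq_one_iff _).mp h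
    have hyp' : π y ^ p = 1 := by rw [← map_pow, hyp, map_one]
    have hord : orderOf (π y) = p := orderOf_eq_prime hyp' hy1
    have hK : Nat.card (Subgroup.zpowers (π y)) = p := by rw [Nat.card_zpowers, hord]
    have h1 := Subgroup.card_mul_index ((Subgroup.zpowers (π y)).comap π)
    have h2 := Subgroup.card_mul_index (Subgroup.zpowers (π y))
    have h3 := Subgroup.card_eq_card_quotient_mul_card_subgroup N
    rw [Subgroup.index_comap_of_surjective _ hsurj] at h1
    have hidx : 0 < (Subgroup.zpowers (π y)).index := by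
      rcases Nat.eq_zero_or_pos (Subgroup.zpowers (π y)).index with h | h
      · rw [h, mul_zero] at h2
        have := Nat.card_pos (α := P ⧸ N)
        omega
      · exact h
    rw [h3, ← h2, hK, hNcard] at h1
    have h4 : Nat.card ((Subgroup.zpowers (π y)).comap π) * (Subgroup.zpowers (π y)).index =
        p ^ (k + 1) * (Subgroup.zpowers (π y)).index := by
      rw [h1, pow_succ]; ring
    exact Nat.eq_of_mul_eq_mul_right hidx h4

theorem engine {P : Type u} [Group P] [Finite P] {p : ℕ} [hp : Fact p.Prime] (hp2 : p ≠ 2)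
    (hP : IsPGroup p P) (N M : Subgroup P) [hNn : N.Normal] [hMn : M.Normal] (hNM : N ≤ M)
    (hNZ : ∀ n ∈ N, ∀ m ∈ M, n * m = m * n) (hNp : ∀ n ∈ N, n ^ p = 1) (k : ℕ)
    (hNcard : Nat.card N = p ^ k) (A₀ : Subgroup M) (hA₀n : A₀.Normal)
    (hA₀p : ∀ x ∈ A₀, x ^ p = 1) (hA₀N : ¬ A₀ ≤ N.subgroupOf M) :
    ∃ A : Subgroup P, A.Normal ∧ (∀ x ∈ A, ∀ z ∈ A, x * z = z * x) ∧ (∀ x ∈ A, x ^ p = 1) ∧
      Nat.card A = p ^ (k + 1) := by
  have hMnil : Group.IsNilpotent M := (hP.to_subgroup M).isNilpotent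
  have hN₁n : (N.subgroupOf M).Normal := inferInstance
  have hBn : (A₀ ⊔ N.subgroupOf M).Normal := inferInstance
  have hBN : ¬ (A₀ ⊔ N.subgroupOf M) ≤ N.subgroupOf M := fun h => hA₀N (le_sup_left.trans h)
  obtain ⟨a, haB, haN, hac⟩ := exists_central_mod (N.subgroupOf M) (A₀ ⊔ N.subgroupOf M) hBN
  have hap : a ^ p = 1 := by
    have h1 : a ∈ ((A₀ ⊔ N.subgroupOf M : Subgroup M) : Set M) := haB
    rw [Subgroup.mul_normal] at h1
    obtain ⟨a₀, ha₀, n₁, hn₁, rfl⟩ := Set.mem_mul.mp h1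
    have hn₁' : (n₁ : P) ∈ N := Subgroup.mem_subgroupOf.mp hn₁
    have hc : Commute a₀ n₁ := by
      apply Subtype.ext
      exact (hNZ _ hn₁' _ a₀.2).symm
    rw [hc.mul_pow, hA₀p a₀ ha₀, one_mul]
    apply Subtype.ext
    rw [Subgroup.coe_pow, hNp _ hn₁']
    rfl
  have haN' : (a : P) ∉ N := fun h => haN (Subgroup.mem_subgroupOf.mpr h)
  have hap' : (a : P) ^ p = 1 := by
    rw [← Subgroup.coe_pow, hap]; rfl
  have hac' : ∀ m ∈ M, ⁅(a : P), m⁆ ∈ N := by
    intro m hm
    have := hac ⟨m, hm⟩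
    exact Subgroup.mem_subgroupOf.mp this
  obtain ⟨y, hyM, hyN, hyp, hyg⟩ := exists_normal_step hp2 hP N M hNZ hNp (a : P) a.2 haN' hap' hac'
  exact exists_normal_EA_succ N (fun x hx z hz => hNZ x hx z (hNM hz)) hNp k hNcard y hyN hyp
    (fun n hn => (hNZ n hn y hyM).symm) hyg

theorem normal_of_le_center {P : Type*} [Group P] {N : Subgroup P}
    (h : N ≤ Subgroup.center P) : N.Normal := by
  constructor
  intro x hx g
  have := Subgroup.mem_center_iff.mp (h hx) g
  rw [this, mul_assoc, mul_inv_cancel, mul_one]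
  exact hx

/-- a nontrivial finite `p`-group has a central element of order `p` -/
theorem exists_central_orderOf_eq {P : Type*} [Group P] [Finite P] [Nontrivial P] {p : ℕ}
    [hp : Fact p.Prime] (hP : IsPGroup p P) : ∃ z ∈ Subgroup.center P, orderOf z = p := by
  have hZnt : Nontrivial (Subgroup.center P) := hP.center_nontrivial
  obtain ⟨k, hk⟩ := (hP.to_subgroup (Subgroup.center P)).exists_card_eq
  have hk0 : k ≠ 0 := by
    rintro rfl
    rw [pow_zero] at hk
    have := Finite.one_lt_card_iff_nontrivial.mpr hZnt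
    omega
  have hdvd : p ∣ Nat.card (Subgroup.center P) := by rw [hk]; exact dvd_pow_self p hk0
  obtain ⟨⟨z, hz⟩, hzo⟩ := exists_prime_orderOf_dvd_card' p hdvd
  exact ⟨z, hz, by rw [← hzo, Subgroup.orderOf_mk]⟩

theorem exists_normal_EA_sq (p : ℕ) [hp : Fact p.Prime] (hp2 : p ≠ 2) :
    ∀ (n : ℕ) (P : Type u) [Group P] [Finite P], Nat.card P = n → IsPGroup p P →
      ∀ E : Subgroup P, (∀ x ∈ E, ∀ y ∈ E, x * y = y * x) → (∀ x ∈ E, x ^ p = 1) →
      p ^ 2 ≤ Nat.card E →
      ∃ A : Subgroup P, A.Normal ∧ (∀ x ∈ A, ∀ z ∈ A, x * z = z * x) ∧ (∀ x ∈ A, x ^ p = 1) ∧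
        Nat.card A = p ^ 2 := by
  intro n
  induction n using Nat.strong_induction_on with
  | _ n ih =>
    intro P _ _ hn hP E hEc hEp hEcard
    have hpp := hp.out
    have hEP : Nat.card E ≤ Nat.card P := Subgroup.card_le_card_group E
    have hp4 : 2 ^ 2 ≤ p ^ 2 := Nat.pow_le_pow_left hpp.two_le 2
    have hplt : p < p ^ 2 := by
      have := hpp.two_le
      nlinarith
    have hnt : Nontrivial P := by
      rw [← Finite.one_lt_card_iff_nontrivial]
      omega
    obtain ⟨z, hzZ, hzo⟩ := exists_central_orderOf_eq hP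
    set Z₁ := Subgroup.zpowers z with hZ₁
    have hZ₁Z : Z₁ ≤ Subgroup.center P := Subgroup.zpowers_le.mpr hzZ
    have hZ₁n : Z₁.Normal := normal_of_le_center hZ₁Z
    have hZ₁card : Nat.card Z₁ = p ^ 1 := by rw [pow_one, Nat.card_zpowers, hzo]
    have hZ₁c : ∀ n ∈ Z₁, ∀ g : P, n * g = g * n := fun n hn g =>
      (Subgroup.mem_center_iff.mp (hZ₁Z hn) g).symm
    have hZ₁p : ∀ n ∈ Z₁, n ^ p = 1 := by
      intro n hn
      have := pow_card_eq_one' (G := Z₁) (x := ⟨n, hn⟩)
      rw [hZ₁card, pow_one] at this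
      exact congrArg Subtype.val this
    obtain ⟨M, hMn, hZM, A₀, hA₀n, hA₀p, hA₀N⟩ : ∃ (M : Subgroup P) (_ : M.Normal) (_ : Z₁ ≤ M)
        (A₀ : Subgroup M), A₀.Normal ∧ (∀ x ∈ A₀, x ^ p = 1) ∧ ¬ A₀ ≤ Z₁.subgroupOf M := by
      by_cases hE' : E ⊔ Z₁ = ⊤
      · refine ⟨⊤, inferInstance, le_top, ⊤, inferInstance, ?_, ?_⟩
        · intro x _
          have h1 : (x : P) ∈ ((E ⊔ Z₁ : Subgroup P) : Set P) := by rw [hE']; trivial
          rw [Subgroup.mul_normal] at h1
          obtain ⟨e, he, n₁, hn₁, hx⟩ := Set.mem_mul.mp h1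
          apply Subtype.ext
          rw [Subgroup.coe_pow, ← hx, (show Commute e n₁ from (hZ₁c n₁ hn₁ e).symm).mul_pow,
            hEp e he, hZ₁p n₁ hn₁, one_mul]
          rfl
        · intro h
          have h2 : ∀ g : P, g ∈ Z₁ := fun g => Subgroup.mem_subgroupOf.mp
            (h (Subgroup.mem_top (⟨g, Subgroup.mem_top g⟩ : (⊤ : Subgroup P))))
          have h3 : Z₁ = ⊤ := eq_top_iff.mpr fun g _ => h2 g
          rw [h3, Subgroup.card_top, pow_one] at hZ₁card
          omega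
      · obtain ⟨M, hM, hEM⟩ := (eq_top_or_exists_le_coatom (E ⊔ Z₁)).resolve_left hE'
        have hMn : M.Normal := IsPGroup.normal_of_isCoatom hP hM
        have hMlt : Nat.card M < n := by
          rw [← hn]
          rcases (Nat.le_of_dvd Nat.card_pos (Subgroup.card_subgroup_dvd_card M)).lt_or_eq
            with h | h
          · exact h
          · exact absurd (Subgroup.eq_top_of_card_eq M h) hM.1
        have hEM' : E ≤ M := le_sup_left.trans hEM
        obtain ⟨A₀, hA₀n, -, hA₀p, hA₀card⟩ := ih _ hMlt M rfl (hP.to_subgroup M)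
          (E.subgroupOf M)
          (fun x hx y hy => Subtype.ext
            (hEc _ (Subgroup.mem_subgroupOf.mp hx) _ (Subgroup.mem_subgroupOf.mp hy)))
          (fun x hx => Subtype.ext (by
            rw [Subgroup.coe_pow, hEp _ (Subgroup.mem_subgroupOf.mp hx)]; rfl))
          (by rw [Nat.card_congr (Subgroup.subgroupOfEquivOfLe hEM').toEquiv]; exact hEcard)
        refine ⟨M, hMn, le_sup_right.trans hEM, A₀, hA₀n, hA₀p, ?_⟩
        intro h
        have h1 := Subgroup.card_le_of_le h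
        rw [hA₀card, Nat.card_congr
          (Subgroup.subgroupOfEquivOfLe (le_sup_right.trans hEM)).toEquiv, hZ₁card, pow_one] at h1
        omega
    have := hMn
    exact engine hp2 hP Z₁ M hZM (fun n hn m _ => hZ₁c n hn m) hZ₁p 1 hZ₁card A₀ hA₀n hA₀p hA₀N

/-- Given a normal elementary abelian subgroup `N` of order `p ^ 2` and a commutative subgroup
`E` of order `≥ p ^ 3` of a `p`-group, some element of `E` outside `N` centralizes `N`. -/
theorem exists_centralizing {P : Type u} [Group P] [Finite P] {p : ℕ} [hp : Fact p.Prime]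
    (hP : IsPGroup p P) (N : Subgroup P) [hNn : N.Normal]
    (hNp : ∀ n ∈ N, n ^ p = 1) (hNcard : Nat.card N = p ^ 2)
    (E : Subgroup P) (hEc : ∀ x ∈ E, ∀ y ∈ E, x * y = y * x) (hEcard : p ^ 3 ≤ Nat.card E) :
    ∃ x ∈ E, x ∉ N ∧ ∀ n ∈ N, x * n = n * x := by
  have hpp := hp.out
  have hnil : Group.IsNilpotent P := hP.isNilpotent
  have hplt : p < p ^ 2 := by
    have := hpp.two_le
    nlinarith
  have hp23 : p ^ 2 < p ^ 3 := Nat.pow_lt_pow_right hpp.one_lt (by norm_num)
  have hNbot : N ≠ ⊥ := by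
    intro h
    rw [h, Subgroup.card_bot] at hNcard
    have := hpp.two_le
    nlinarith
  -- a central element of order `p` in `N`
  have h3 := inf_center_ne_bot_of_normal N hNbot
  obtain ⟨⟨z, hz⟩, hz1⟩ := (Subgroup.ne_bot_iff_exists_ne_one).mp h3
  obtain ⟨hzN, hzZ⟩ := Subgroup.mem_inf.mp hz
  have hz1' : z ≠ 1 := fun h => hz1 (Subtype.ext h)
  have hzo : orderOf z = p := orderOf_eq_prime (hNp z hzN) hz1'
  set Z₁ := Subgroup.zpowers z with hZ₁
  have hZ₁Z : Z₁ ≤ Subgroup.center P := Subgroup.zpowers_le.mpr hzZ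
  have hZ₁n : Z₁.Normal := normal_of_le_center hZ₁Z
  have hZ₁N : Z₁ ≤ N := Subgroup.zpowers_le.mpr hzN
  have hZ₁card : Nat.card Z₁ = p := by rw [Nat.card_zpowers, hzo]
  have hNZ₁ : ¬ N ≤ Z₁ := by
    intro h
    have := Subgroup.card_le_of_le h
    omega
  obtain ⟨n₀, hn₀N, hn₀Z, hn₀c⟩ := exists_central_mod Z₁ N hNZ₁
  -- `N = Z₁ ⊔ ⟨n₀⟩`
  have hNeq : Z₁ ⊔ Subgroup.zpowers n₀ = N := by
    have hle : Z₁ ⊔ Subgroup.zpowers n₀ ≤ N := sup_le hZ₁N (Subgroup.zpowers_le.mpr hn₀N)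
    apply Subgroup.eq_of_le_of_card_ge hle
    have hdvd := Subgroup.card_dvd_of_le hle
    rw [hNcard] at hdvd ⊢
    obtain ⟨j, hj2, hj⟩ := (Nat.dvd_prime_pow hpp).mp hdvd
    have hgt : Nat.card Z₁ < Nat.card (Z₁ ⊔ Subgroup.zpowers n₀ : Subgroup P) := by
      have hlt : Z₁ < Z₁ ⊔ Subgroup.zpowers n₀ := by
        refine lt_of_le_of_ne le_sup_left ?_
        intro h
        apply hn₀Z
        rw [h]
        exact le_sup_right (a := Z₁) (Subgroup.mem_zpowers n₀)
      have h1 := Subgroup.card_dvd_of_le hlt.le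
      rcases (Nat.le_of_dvd Nat.card_pos h1).lt_or_eq with h | h
      · exact h
      · exact absurd (Subgroup.eq_of_le_of_card_ge hlt.le h.ge) hlt.ne
    rw [hZ₁card, hj] at hgt
    have hj1 : 1 < j := by
      by_contra hle
      push Not at hle
      have : p ^ j ≤ p ^ 1 := Nat.pow_le_pow_right hpp.pos hle
      rw [pow_one] at this
      omega
    have hj2' : j = 2 := by omega
    rw [hj, hj2']
  -- the commutator map `e ↦ ⁅e, n₀⁆` on `E`
  have hval : ∀ e : P, ⁅e, n₀⁆ ∈ Z₁ := by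
    intro e
    have := Z₁.inv_mem (hn₀c e)
    rwa [commutatorElement_inv] at this
  let f : E →* P := MonoidHom.mk' (fun e => ⁅(e : P), n₀⁆) (by
    intro e e'
    have h1 : ⁅(e : P) * (e' : P), n₀⁆ = (e : P) * ⁅(e' : P), n₀⁆ * (e : P)⁻¹ * ⁅(e : P), n₀⁆ := by
      simp only [commutatorElement_def]; group
    have h2 : (e : P) * ⁅(e' : P), n₀⁆ = ⁅(e' : P), n₀⁆ * (e : P) :=
      (Subgroup.mem_center_iff.mp (hZ₁Z (hval e')) e)
    have h3 : ⁅(e' : P), n₀⁆ * ⁅(e : P), n₀⁆ = ⁅(e : P), n₀⁆ * ⁅(e' : P), n₀⁆ :=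
      (Subgroup.mem_center_iff.mp (hZ₁Z (hval e)) _)
    show ⁅((e * e' : E) : P), n₀⁆ = _
    rw [Subgroup.coe_mul, h1, h2, mul_assoc, mul_assoc, ← mul_assoc (e : P), mul_inv_cancel,
      one_mul, h3])
  have hfrange : f.range ≤ Z₁ := by
    rintro _ ⟨e, rfl⟩
    exact hval e
  have hker_mem : ∀ e : E, e ∈ f.ker ↔ (e : P) * n₀ = n₀ * (e : P) := by
    intro e
    rw [MonoidHom.mem_ker]
    show ⁅(e : P), n₀⁆ = 1 ↔ _
    rw [commutatorElement_eq_one_iff_commute]
    exact Iff.rfl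
  have hkercard : p ^ 2 ≤ Nat.card f.ker := by
    have h1 := Subgroup.card_mul_index f.ker
    rw [Subgroup.index_ker] at h1
    have h2 : Nat.card f.range ≤ p := hZ₁card ▸ Subgroup.card_le_of_le hfrange
    have h4 : Nat.card E ≤ Nat.card f.ker * p := by
      rw [← h1]; exact Nat.mul_le_mul_left _ h2
    have h5 : p ^ 3 = p ^ 2 * p := by ring
    rw [h5] at hEcard
    by_contra hlt
    push Not at hlt
    have : Nat.card f.ker * p < p ^ 2 * p := Nat.mul_lt_mul_of_pos_right hlt hpp.pos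
    omega
  -- elements of the kernel centralize `N`
  have hcent : ∀ e : E, e ∈ f.ker → ∀ n ∈ N, (e : P) * n = n * (e : P) := by
    intro e he n hn
    have h1 : N ≤ Subgroup.centralizer {(e : P)} := by
      rw [← hNeq]
      apply sup_le
      · rw [Subgroup.zpowers_le, Subgroup.mem_centralizer_singleton_iff]
        exact (Subgroup.mem_center_iff.mp hzZ _).symm
      · rw [Subgroup.zpowers_le, Subgroup.mem_centralizer_singleton_iff]
        exact ((hker_mem e).mp he).symm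
    exact (Subgroup.mem_centralizer_singleton_iff.mp (h1 hn)).symm
  by_contra hno
  push Not at hno
  -- every kernel element lies in `N`
  have hkN : ∀ e : E, e ∈ f.ker → (e : P) ∈ N := by
    intro e he
    by_contra heN
    obtain ⟨n, hn, hne⟩ := hno (e : P) e.2 heN
    exact hne (hcent e he n hn)
  have hmapN : f.ker.map E.subtype ≤ N := by
    rintro _ ⟨e, he, rfl⟩
    exact hkN e he
  have hmapcard : Nat.card (f.ker.map E.subtype) = Nat.card f.ker :=
    (Nat.card_congr (f.ker.equivMapOfInjective E.subtype E.subtype_injective).toEquiv).symm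
  have hmapeq : f.ker.map E.subtype = N :=
    Subgroup.eq_of_le_of_card_ge hmapN (by rw [hmapcard, hNcard]; exact hkercard)
  have hNE : N ≤ E := by
    rw [← hmapeq]
    exact Subgroup.map_subtype_le _
  have hkertop : f.ker = ⊤ := by
    rw [eq_top_iff]
    intro e _
    rw [hker_mem]
    exact hEc _ e.2 _ (hNE hn₀N)
  have hEN : E ≤ N := by
    intro e he
    exact hkN ⟨e, he⟩ (by rw [hkertop]; trivial)
  have := Subgroup.card_le_of_le hEN
  omega

theorem exists_normal_EA_cube (p : ℕ) [hp : Fact p.Prime] (hp2 : p ≠ 2) :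
    ∀ (n : ℕ) (P : Type u) [Group P] [Finite P], Nat.card P = n → IsPGroup p P →
      ∀ E : Subgroup P, (∀ x ∈ E, ∀ y ∈ E, x * y = y * x) → (∀ x ∈ E, x ^ p = 1) →
      p ^ 3 ≤ Nat.card E →
      ∃ A : Subgroup P, A.Normal ∧ (∀ x ∈ A, ∀ z ∈ A, x * z = z * x) ∧ (∀ x ∈ A, x ^ p = 1) ∧
        Nat.card A = p ^ 3 := by
  intro n
  induction n using Nat.strong_induction_on with
  | _ n ih =>
    intro P _ _ hn hP E hEc hEp hEcard
    have hpp := hp.out
    have hp23 : p ^ 2 < p ^ 3 := Nat.pow_lt_pow_right hpp.one_lt (by norm_num)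
    obtain ⟨N, hNn, hNc, hNp, hNcard⟩ :=
      exists_normal_EA_sq p hp2 _ P rfl hP E hEc hEp (hp23.le.trans hEcard)
    obtain ⟨x, hxE, hxN, hxc⟩ := exists_centralizing hP N hNp hNcard E hEc hEcard
    set E₃ := N ⊔ Subgroup.zpowers x with hE₃
    have hdec : ∀ e ∈ E₃, ∃ n ∈ N, ∃ i : ℤ, e = n * x ^ i := by
      intro e he
      have h1 : e ∈ ((N ⊔ Subgroup.zpowers x : Subgroup P) : Set P) := he
      rw [Subgroup.normal_mul] at h1
      obtain ⟨n, hn, y, hy, rfl⟩ := Set.mem_mul.mp h1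
      obtain ⟨i, rfl⟩ := Subgroup.mem_zpowers_iff.mp hy
      exact ⟨n, hn, i, rfl⟩
    have hxp : x ^ p = 1 := hEp x hxE
    have hE₃c : ∀ a ∈ E₃, ∀ b ∈ E₃, a * b = b * a := by
      intro a ha b hb
      obtain ⟨n, hn, i, rfl⟩ := hdec a ha
      obtain ⟨m, hm, j, rfl⟩ := hdec b hb
      have c1 : Commute (x ^ i) (x ^ j) := (Commute.refl x).zpow_zpow i j
      have c2 : Commute (x ^ i) m := Commute.zpow_left (hxc m hm) i
      have c3 : Commute n (x ^ j) := (Commute.zpow_left (hxc n hn) j).symm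
      have c4 : Commute n m := hNc n hn m hm
      exact ((c4.mul_right c3).mul_left (c2.mul_right c1)).eq
    have hE₃p : ∀ a ∈ E₃, a ^ p = 1 := by
      intro a ha
      obtain ⟨n, hn, i, rfl⟩ := hdec a ha
      have c3 : Commute n (x ^ i) := (Commute.zpow_left (hxc n hn) i).symm
      rw [c3.mul_pow, hNp n hn, one_mul, ← zpow_natCast, ← zpow_mul, mul_comm, zpow_mul,
        zpow_natCast, hxp, one_zpow]
    have hNE₃ : N ≤ E₃ := le_sup_left
    have hxE₃ : x ∈ E₃ := le_sup_right (a := N) (Subgroup.mem_zpowers x)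
    have hE₃card : p ^ 3 ≤ Nat.card E₃ := by
      obtain ⟨j, hj⟩ := (hP.to_subgroup E₃).exists_card_eq
      have hlt : Nat.card N < Nat.card E₃ := by
        have h1 := Subgroup.card_le_of_le hNE₃
        rcases h1.lt_or_eq with h | h
        · exact h
        · exfalso
          have := Subgroup.eq_of_le_of_card_ge hNE₃ h.ge
          exact hxN (this ▸ hxE₃)
      rw [hNcard, hj] at hlt
      have hj3 : 3 ≤ j := by
        by_contra hle
        push Not at hle
        have : p ^ j ≤ p ^ 2 := Nat.pow_le_pow_right hpp.pos (by omega)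
        omega
      rw [hj]
      exact Nat.pow_le_pow_right hpp.pos hj3
    have hCn : (Subgroup.centralizer (N : Set P)).Normal := inferInstance
    have hE₃C : E₃ ≤ Subgroup.centralizer (N : Set P) := by
      intro e he
      rw [Subgroup.mem_centralizer_iff]
      intro n hn
      exact hE₃c n (hNE₃ hn) e he
    obtain ⟨M, hMn, hNM, hMC, A₀, hA₀n, hA₀p, hA₀N⟩ : ∃ (M : Subgroup P) (_ : M.Normal)
        (_ : N ≤ M) (_ : M ≤ Subgroup.centralizer (N : Set P))
        (A₀ : Subgroup M), A₀.Normal ∧ (∀ x ∈ A₀, x ^ p = 1) ∧ ¬ A₀ ≤ N.subgroupOf M := by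
      have key : ∀ M : Subgroup P, M.Normal → E₃ ≤ M → M ≤ Subgroup.centralizer (N : Set P) →
          M ≠ ⊤ → ∃ (M : Subgroup P) (_ : M.Normal)
        (_ : N ≤ M) (_ : M ≤ Subgroup.centralizer (N : Set P))
        (A₀ : Subgroup M), A₀.Normal ∧ (∀ x ∈ A₀, x ^ p = 1) ∧ ¬ A₀ ≤ N.subgroupOf M := by
        intro M hMn hEM hMC hMtop
        have hMlt : Nat.card M < n := by
          rw [← hn]
          rcases (Nat.le_of_dvd Nat.card_pos (Subgroup.card_subgroup_dvd_card M)).lt_or_eq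
            with h | h
          · exact h
          · exact absurd (Subgroup.eq_top_of_card_eq M h) hMtop
        obtain ⟨A₀, hA₀n, -, hA₀p, hA₀card⟩ := ih _ hMlt M rfl (hP.to_subgroup M)
          (E₃.subgroupOf M)
          (fun x hx y hy => Subtype.ext
            (hE₃c _ (Subgroup.mem_subgroupOf.mp hx) _ (Subgroup.mem_subgroupOf.mp hy)))
          (fun x hx => Subtype.ext (by
            rw [Subgroup.coe_pow, hE₃p _ (Subgroup.mem_subgroupOf.mp hx)]; rfl))
          (by rw [Nat.card_congr (Subgroup.subgroupOfEquivOfLe hEM).toEquiv]; exact hE₃card)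
        refine ⟨M, hMn, hNE₃.trans hEM, hMC, A₀, hA₀n, hA₀p, ?_⟩
        intro h
        have h1 := Subgroup.card_le_of_le h
        rw [hA₀card, Nat.card_congr
          (Subgroup.subgroupOfEquivOfLe (hNE₃.trans hEM)).toEquiv, hNcard] at h1
        omega
      by_cases hC : Subgroup.centralizer (N : Set P) = ⊤
      · by_cases hE₃top : E₃ = ⊤
        · refine ⟨⊤, inferInstance, le_top, hC.ge, ⊤, inferInstance, ?_, ?_⟩
          · intro y _
            apply Subtype.ext
            rw [Subgroup.coe_pow, hE₃p (y : P) (by rw [hE₃top]; trivial)]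
            rfl
          · intro h
            apply hxN
            exact Subgroup.mem_subgroupOf.mp
              (h (Subgroup.mem_top (⟨x, Subgroup.mem_top x⟩ : (⊤ : Subgroup P))))
        · obtain ⟨M, hM, hEM⟩ := (eq_top_or_exists_le_coatom E₃).resolve_left hE₃top
          exact key M (IsPGroup.normal_of_isCoatom hP hM) hEM (hC ▸ le_top) hM.1
      · exact key _ hCn hE₃C le_rfl hC
    have := hMn
    exact engine hp2 hP N M hNM
      (fun n hn m hm => Subgroup.mem_centralizer_iff.mp (hMC hm) n hn) hNp 2 hNcard A₀ hA₀n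
      hA₀p hA₀N

/-- For odd `p`, a `p`-group without normal elementary abelian subgroups of order `p ^ 3` has no
elementary abelian subgroup of order greater than `p ^ 2`. -/
theorem card_le_sq_of_no_normal_EA_cube {P : Type u} [Group P] [Finite P] {p : ℕ}
    [hp : Fact p.Prime] (hp2 : p ≠ 2) (hP : IsPGroup p P)
    (h : ∀ A : Subgroup P, A.Normal → IsMulCommutative A → (∀ a ∈ A, a ^ p = 1) →
      Nat.card A ≠ p ^ 3)
    (E : Subgroup P) (hE : IsMulCommutative E) (hEe : ∀ e ∈ E, e ^ p = 1) :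
    Nat.card E ≤ p ^ 2 := by
  by_contra hgt
  push Not at hgt
  have hpp := hp.out
  have hEcard : p ^ 3 ≤ Nat.card E := by
    obtain ⟨j, hj⟩ := (hP.to_subgroup E).exists_card_eq
    rw [hj] at hgt ⊢
    have hj3 : 3 ≤ j := by
      by_contra hle
      push Not at hle
      have : p ^ j ≤ p ^ 2 := Nat.pow_le_pow_right hpp.pos (by omega)
      omega
    exact Nat.pow_le_pow_right hpp.pos hj3
  have hEc : ∀ x ∈ E, ∀ y ∈ E, x * y = y * x := by
    intro x hx y hy
    exact congrArg Subtype.val (hE.is_comm.comm ⟨x, hx⟩ ⟨y, hy⟩)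
  obtain ⟨A, hAn, hAc, hAp, hAcard⟩ :=
    exists_normal_EA_cube p hp2 _ P rfl hP E hEc hEe hEcard
  exact h A hAn ⟨⟨fun a b => Subtype.ext (hAc a a.2 b b.2)⟩⟩ hAp hAcard

end NormalElemAb

end Cfsg.Agent.Lib.Helper1
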