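import Cfsg.Agent.Lib.Helper1.O73MultEXDefs

/-!
# S2095-[EX]: the kernel-checked table computations
-/

set_option autoImplicit false
set_option maxRecDepth 100000
set_option maxHeartbeats 0

namespace Cfsg.Agent.Lib.Helper2.O73Mult.Helper1

open Cfsg.Agent.Lib.Helper28.BSGS Cfsg.Agent.Lib.Helper2.O73Cls

theorem g3658_ok : gensOK 3658 12 Dat.g3658 = true := by decide +kernel

theorem z3658_ok : pairOK 3658 12 Dat.z3658.1 Dat.z3658.2 = true := by decide +kernel

theorem comm_chk : ((List.range 8).all fun i => wordId 3658 12 (wtab (commL (gen i)))) = true := by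
  decide +kernel

theorem z6_chk : wordId 3658 12 (wtab (List.replicate 6 (none, false))) = true := by decide +kernel

theorem z2_chk : evalW 12 [Dat.z3658.1, Dat.z3658.1] 2524 ≠ 2524 := by decide +kernel

theorem z3_chk : evalW 12 [Dat.z3658.1, Dat.z3658.1, Dat.z3658.1] 364 ≠ 364 := by decide +kernel

theorem w1_chk : wordId 3658 12 (wtab w1L) = true := by decide +kernel

theorem w2_chk : wordId 3658 12 (wtab w2L) = true := by decide +kernel

theorem c_chk : wordId 3658 12 (wtab cL) = true := by decide +kernel

theorem c364_chk : wordId 364 9 (wtab364 cL364) = true := by decide +kernel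

end Cfsg.Agent.Lib.Helper2.O73Mult.Helper1
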