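import Cfsg.Agent.Lib.Helper1.O73MultEXDefs

/-!
# S2095-[EX]: the kernel-checked table computations, Coxeter relators
-/

set_option autoImplicit false
set_option maxRecDepth 100000
set_option maxHeartbeats 0

namespace Cfsg.Agent.Lib.Helper2.O73Mult.Helper1

open Cfsg.Agent.Lib.Helper28.BSGS Cfsg.Agent.Lib.Helper2.O73Cls

theorem cox_chk0 : ((List.range 8).all fun j => wordId 3658 12 (wtab (coxL (gen 0) (gen j)))) = true := by
  decide +kernel

theorem cox_chk1 : ((List.range 8).all fun j => wordId 3658 12 (wtab (coxL (gen 1) (gen j)))) = true := by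
  decide +kernel

theorem cox_chk2 : ((List.range 8).all fun j => wordId 3658 12 (wtab (coxL (gen 2) (gen j)))) = true := by
  decide +kernel

theorem cox_chk3 : ((List.range 8).all fun j => wordId 3658 12 (wtab (coxL (gen 3) (gen j)))) = true := by
  decide +kernel

theorem cox_chk4 : ((List.range 8).all fun j => wordId 3658 12 (wtab (coxL (gen 4) (gen j)))) = true := by
  decide +kernel

theorem cox_chk5 : ((List.range 8).all fun j => wordId 3658 12 (wtab (coxL (gen 5) (gen j)))) = true := by
  decide +kernel

theorem cox_chk6 : ((List.range 8).all fun j => wordId 3658 12 (wtab (coxL (gen 6) (gen j)))) = true := by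
  decide +kernel

theorem cox_chk7 : ((List.range 8).all fun j => wordId 3658 12 (wtab (coxL (gen 7) (gen j)))) = true := by
  decide +kernel

end Cfsg.Agent.Lib.Helper2.O73Mult.Helper1
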