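import Mathlib

/-!
# S2095-[EX] (helper2's front), generic part: a central extension of a presented group, by presentation

Given a presentation `⟨α | R⟩` with `R` the range of `S : ι → FreeGroup α`, exponents `e : ι → ℕ` and `N`,
the group `Cover S e N` on the generators `Option α` (`none` = the new central generator `ζ`) has relators
`[ζ, a]`, `ζ ^ N` and `S i = ζ ^ (e i)`.  The obvious map onto `⟨α | R⟩` is surjective with kernel `⟨ζ⟩`.
-/

set_option autoImplicit false

namespace Cfsg.Agent.Lib.Helper2.O73Mult.Helper1

open scoped commutatorElement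

section Cover

variable {α ι : Type} (S : ι → FreeGroup α) (e : ι → ℕ) (N : ℕ)

/-- the new central generator, as a word -/
def zt (α : Type) : FreeGroup (Option α) := FreeGroup.of none

/-- the old words, as new words -/
def inc (α : Type) : FreeGroup α →* FreeGroup (Option α) := FreeGroup.map some

/-- the relators of the cover -/
def coverRels : Set (FreeGroup (Option α)) :=
  {r | ∃ a : α, r = ⁅zt α, FreeGroup.of (some a)⁆} ∪ {r | r = zt α ^ N} ∪
    {r | ∃ i : ι, r = inc α (S i) * (zt α ^ e i)⁻¹}

/-- the cover -/
abbrev Cover : Type := PresentedGroup (coverRels S e N)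

/-- the central generator -/
def zeta : Cover S e N := PresentedGroup.mk _ (zt α)

/-- the old generators -/
def gam (a : α) : Cover S e N := PresentedGroup.mk _ (FreeGroup.of (some a))

theorem zeta_comm (a : α) : zeta S e N * gam S e N a = gam S e N a * zeta S e N := by
  have h : (PresentedGroup.mk (coverRels S e N)) ⁅zt α, FreeGroup.of (some a)⁆ = 1 := by
    apply PresentedGroup.one_of_mem
    exact Or.inl (Or.inl ⟨a, rfl⟩)
  rw [map_commutatorElement, commutatorElement_eq_one_iff_mul_comm] at h
  exact h

theorem zeta_pow : zeta S e N ^ N = 1 := by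
  have h : (PresentedGroup.mk (coverRels S e N)) (zt α ^ N) = 1 := by
    apply PresentedGroup.one_of_mem
    exact Or.inl (Or.inr rfl)
  rwa [map_pow] at h

theorem rel_eq (i : ι) : PresentedGroup.mk (coverRels S e N) (inc α (S i)) = zeta S e N ^ e i := by
  have h : (PresentedGroup.mk (coverRels S e N)) (inc α (S i) * (zt α ^ e i)⁻¹) = 1 := by
    apply PresentedGroup.one_of_mem
    exact Or.inr ⟨i, rfl⟩
  rw [map_mul, map_inv, map_pow, mul_inv_eq_one] at h
  exact h

theorem of_some (a : α) : (PresentedGroup.of (some a) : Cover S e N) = gam S e N a := rfl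

theorem of_none : (PresentedGroup.of none : Cover S e N) = zeta S e N := rfl

theorem zeta_mem_center : zeta S e N ∈ Subgroup.center (Cover S e N) := by
  rw [Subgroup.mem_center_iff]
  intro g
  have hg : g ∈ Subgroup.closure (Set.range (PresentedGroup.of (rels := coverRels S e N))) := by
    rw [PresentedGroup.closure_range_of]; exact Subgroup.mem_top g
  induction hg using Subgroup.closure_induction with
  | mem x hx =>
    obtain ⟨o, rfl⟩ := hx
    cases o with
    | none => rfl
    | some a => exact (zeta_comm S e N a).symm
  | one => rw [one_mul, mul_one]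
  | mul x y _ _ hx hy => rw [mul_assoc, hy, ← mul_assoc, hx, mul_assoc]
  | inv x _ hx =>
    have := congrArg (fun t => x⁻¹ * t * x⁻¹) hx
    simp only [mul_assoc, mul_inv_cancel, mul_one, inv_mul_cancel_left] at this
    exact this.symm

section Hom

variable {R : Set (FreeGroup α)} (h1 : ∀ i, S i ∈ R)

/-- images of the generators in the presented group -/
def piFun (R : Set (FreeGroup α)) : Option α → PresentedGroup R
  | none => 1
  | some a => PresentedGroup.of a

theorem lift_piFun_inc (x : FreeGroup α) :
    FreeGroup.lift (piFun R) (inc α x) = PresentedGroup.mk R x := by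
  have : (FreeGroup.lift (piFun R)).comp (inc α) = PresentedGroup.mk R := by
    ext a
    simp only [MonoidHom.comp_apply, inc, FreeGroup.map.of, FreeGroup.lift_apply_of, piFun]
    rfl
  exact DFunLike.congr_fun this x

include h1 in
theorem piFun_rels : ∀ r ∈ coverRels S e N, FreeGroup.lift (piFun R) r = 1 := by
  intro r hr
  rcases hr with (⟨a, rfl⟩ | rfl) | ⟨i, rfl⟩
  · rw [map_commutatorElement]
    have : FreeGroup.lift (piFun R) (zt α) = 1 := by
      simp only [zt, FreeGroup.lift_apply_of, piFun]
    rw [this, commutatorElement_one_left]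
  · have : FreeGroup.lift (piFun R) (zt α) = 1 := by
      simp only [zt, FreeGroup.lift_apply_of, piFun]
    rw [map_pow, this, one_pow]
  · have : FreeGroup.lift (piFun R) (zt α) = 1 := by
      simp only [zt, FreeGroup.lift_apply_of, piFun]
    rw [map_mul, map_inv, map_pow, this, one_pow, inv_one, mul_one, lift_piFun_inc]
    exact PresentedGroup.one_of_mem (h1 i)

/-- the projection of the cover -/
def proj : Cover S e N →* PresentedGroup R :=
  PresentedGroup.toGroup (f := piFun R) (piFun_rels S e N h1)

theorem proj_gam (a : α) : proj S e N h1 (gam S e N a) = PresentedGroup.of a := by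
  unfold proj
  rw [← of_some, PresentedGroup.toGroup.of]
  rfl

theorem proj_zeta : proj S e N h1 (zeta S e N) = 1 := by
  unfold proj
  rw [← of_none, PresentedGroup.toGroup.of]
  rfl

theorem proj_surjective : Function.Surjective (proj S e N h1) := by
  rw [← MonoidHom.range_eq_top, eq_top_iff, ← PresentedGroup.closure_range_of R, Subgroup.closure_le]
  rintro _ ⟨a, rfl⟩
  exact ⟨gam S e N a, proj_gam S e N h1 a⟩

variable (h2 : ∀ r ∈ R, ∃ i, r = S i)

theorem zpowers_normal : (Subgroup.zpowers (zeta S e N)).Normal := by
  refine ⟨fun n hn g => ?_⟩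
  have hc : ∀ x : Cover S e N, x * n = n * x := by
    have : n ∈ Subgroup.center (Cover S e N) :=
      (Subgroup.zpowers_le.mpr (zeta_mem_center S e N)) hn
    exact Subgroup.mem_center_iff.mp this
  rw [hc g, mul_inv_cancel_right]
  exact hn

/-- the generators modulo `⟨ζ⟩` -/
def phiFun (a : α) : Cover S e N ⧸ Subgroup.zpowers (zeta S e N) :=
  (QuotientGroup.mk (gam S e N a) : Cover S e N ⧸ Subgroup.zpowers (zeta S e N))

theorem lift_phiFun (x : FreeGroup α) :
    haveI := zpowers_normal S e N
    FreeGroup.lift (phiFun S e N) x =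
      (QuotientGroup.mk (PresentedGroup.mk (coverRels S e N) (inc α x)) :
        Cover S e N ⧸ Subgroup.zpowers (zeta S e N)) := by
  haveI := zpowers_normal S e N
  have : FreeGroup.lift (phiFun S e N) =
      ((QuotientGroup.mk' (Subgroup.zpowers (zeta S e N))).comp
        (PresentedGroup.mk (coverRels S e N))).comp (inc α) := by
    ext a
    simp only [MonoidHom.comp_apply, inc, FreeGroup.map.of, FreeGroup.lift_apply_of, phiFun]
    rfl
  exact DFunLike.congr_fun this x

include h2 in
theorem phiFun_rels :
    haveI := zpowers_normal S e N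
    ∀ r ∈ R, FreeGroup.lift (phiFun S e N) r = 1 := by
  haveI := zpowers_normal S e N
  intro r hr
  obtain ⟨i, rfl⟩ := h2 r hr
  rw [lift_phiFun, rel_eq]
  exact (QuotientGroup.eq_one_iff _).mpr (Subgroup.pow_mem _ (Subgroup.mem_zpowers _) _)

include h1 h2 in
theorem ker_proj : (proj S e N h1).ker = Subgroup.zpowers (zeta S e N) := by
  haveI := zpowers_normal S e N
  apply le_antisymm
  · intro g hg
    -- the inverse map on the quotient
    let phi : PresentedGroup R →* Cover S e N ⧸ Subgroup.zpowers (zeta S e N) :=
      PresentedGroup.toGroup (f := phiFun S e N) (phiFun_rels S e N h2)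
    have hcomp : (phi.comp (proj S e N h1)) = QuotientGroup.mk' (Subgroup.zpowers (zeta S e N)) := by
      apply PresentedGroup.ext
      intro o
      cases o with
      | none =>
        rw [of_none, MonoidHom.comp_apply, proj_zeta, map_one]
        exact ((QuotientGroup.eq_one_iff _).mpr (Subgroup.mem_zpowers _)).symm
      | some a =>
        rw [of_some, MonoidHom.comp_apply, proj_gam]
        show PresentedGroup.toGroup (f := phiFun S e N) (phiFun_rels S e N h2) (PresentedGroup.of a) = _
        rw [PresentedGroup.toGroup.of]
        rfl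
    have h3 : QuotientGroup.mk' (Subgroup.zpowers (zeta S e N)) g = 1 := by
      rw [← hcomp, MonoidHom.comp_apply, MonoidHom.mem_ker.mp hg, map_one]
    exact (QuotientGroup.eq_one_iff g).mp h3
  · rw [Subgroup.zpowers_le, MonoidHom.mem_ker]
    exact proj_zeta S e N h1

include h1 h2 in
theorem cover_finite [Finite (PresentedGroup R)] (hN : 0 < N) : Finite (Cover S e N) := by
  have hk := ker_proj S e N h1 h2
  haveI : Finite (Cover S e N ⧸ (proj S e N h1).ker) :=
    Finite.of_equiv _
      (QuotientGroup.quotientKerEquivOfSurjective (proj S e N h1) (proj_surjective S e N h1)).symm.toEquiv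
  haveI : Finite (proj S e N h1).ker := by
    rw [hk]
    have hfin : IsOfFinOrder (zeta S e N) := isOfFinOrder_iff_pow_eq_one.mpr ⟨N, hN, zeta_pow S e N⟩
    exact hfin.finite_zpowers
  exact Finite.of_equiv _ (Subgroup.groupEquivQuotientProdSubgroup (s := (proj S e N h1).ker)).symm

end Hom

/-- a homomorphism out of the cover from images of the generators -/
def coverHom {Δ : Type*} [Group Δ] (f : α → Δ) (z : Δ) (hcomm : ∀ a, z * f a = f a * z)
    (hz : z ^ N = 1) (hrel : ∀ i, FreeGroup.lift f (S i) = z ^ e i) : Cover S e N →* Δ :=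
  PresentedGroup.toGroup (f := fun o : Option α => o.elim z f) (by
    have hzt : FreeGroup.lift (fun o : Option α => o.elim z f) (zt α) = z := by
      simp only [zt, FreeGroup.lift_apply_of, Option.elim]
    have hinc : ∀ x : FreeGroup α,
        FreeGroup.lift (fun o : Option α => o.elim z f) (inc α x) = FreeGroup.lift f x := by
      intro x
      have : (FreeGroup.lift (fun o : Option α => o.elim z f)).comp (inc α) = FreeGroup.lift f := by
        ext a
        simp only [MonoidHom.comp_apply, inc, FreeGroup.map.of, FreeGroup.lift_apply_of, Option.elim]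
      exact DFunLike.congr_fun this x
    intro r hr
    rcases hr with (⟨a, rfl⟩ | rfl) | ⟨i, rfl⟩
    · rw [map_commutatorElement, hzt, commutatorElement_eq_one_iff_mul_comm]
      simp only [FreeGroup.lift_apply_of, Option.elim]
      exact hcomm a
    · rw [map_pow, hzt, hz]
    · rw [map_mul, map_inv, map_pow, hzt, hinc, hrel, mul_inv_cancel])

theorem coverHom_zeta {Δ : Type*} [Group Δ] (f : α → Δ) (z : Δ) (hcomm : ∀ a, z * f a = f a * z)
    (hz : z ^ N = 1) (hrel : ∀ i, FreeGroup.lift f (S i) = z ^ e i) :
    coverHom S e N f z hcomm hz hrel (zeta S e N) = z := by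
  unfold coverHom
  rw [← of_none, PresentedGroup.toGroup.of]
  rfl

theorem coverHom_gam {Δ : Type*} [Group Δ] (f : α → Δ) (z : Δ) (hcomm : ∀ a, z * f a = f a * z)
    (hz : z ^ N = 1) (hrel : ∀ i, FreeGroup.lift f (S i) = z ^ e i) (a : α) :
    coverHom S e N f z hcomm hz hrel (gam S e N a) = f a := by
  unfold coverHom
  rw [← of_some, PresentedGroup.toGroup.of]
  rfl

end Cover

end Cfsg.Agent.Lib.Helper2.O73Mult.Helper1
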