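import Cfsg.Prelude.Def_KGroupFacts
import Cfsg.Agent.Lib.Helper1.O73MultEXGen
import Cfsg.Agent.Lib.Helper1.O73MultEXChk
import Cfsg.Agent.Lib.Helper1.O73MultEXChkB

/-!
# S2095-[EX] (helper2's front): existence of a stem extension of `PΩ₇(3)` with kernel of order 6

The cover is the presented group `Cover S e 6` (generic file) of the presentation of helper4's `P`; helper2's eight
permutations of 3658 points and the central `z` give a homomorphism which shows that the new central generator has
order 6 and is the product of two commutators.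
-/

set_option autoImplicit false
set_option maxRecDepth 100000

namespace Cfsg.Agent.Lib.Helper2.O73Mult

open Cfsg.Agent.Helper4.TC Cfsg.Agent.Lib.Helper28.BSGS Cfsg.Agent.Lib.Helper2.O73Cls
open scoped commutatorElement

namespace Helper1

/-! ### permutations of words -/

noncomputable def p3658 (x : Gen) : Equiv.Perm (Fin 3658) := permOf 3658 12 (T3658 x).1 (T3658 x).2

noncomputable def pz : Equiv.Perm (Fin 3658) := permOf 3658 12 Dat.z3658.1 Dat.z3658.2

theorem gen_idx (x : Gen) : gen (idx x) = x := by cases x <;> rfl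

theorem idx_lt (x : Gen) : idx x < 8 := by cases x <;> decide

theorem T3658_ok (x : Gen) : pairOK 3658 12 (T3658 x).1 (T3658 x).2 = true := by
  apply gensOK_spec 3658 12 g3658_ok
  unfold T3658
  cases x <;> decide

noncomputable def lperm : Letter → Equiv.Perm (Fin 3658)
  | (none, false) => pz
  | (none, true) => pz⁻¹
  | (some x, false) => p3658 x
  | (some x, true) => (p3658 x)⁻¹

noncomputable def wperm (ls : List Letter) : Equiv.Perm (Fin 3658) := (ls.map lperm).prod

theorem lperm_acts (l : Letter) (a : Fin 3658) : (lperm l a).val = look 12 (ltab l) a.val := by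
  rcases l with ⟨_ | x, _ | _⟩
  · exact permOf_apply z3658_ok a
  · exact permOf_inv_apply z3658_ok a
  · exact permOf_apply (T3658_ok x) a
  · exact permOf_inv_apply (T3658_ok x) a

theorem wperm_acts (ls : List Letter) : ActsByW 3658 12 (wperm ls) (wtab ls) := by
  induction ls with
  | nil => exact actsByW_one 3658 12
  | cons l ls ih =>
    have : wperm (l :: ls) = lperm l * wperm ls := by
      unfold wperm; rw [List.map_cons, List.prod_cons]
    rw [this]
    exact actsByW_cons (lperm_acts l) ih

theorem wperm_eq_one (ls : List Letter) (h : wordId 3658 12 (wtab ls) = true) : wperm ls = 1 :=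
  eq_one_of_wordId 3658 12 (wperm_acts ls) h

theorem wperm_append (l₁ l₂ : List Letter) : wperm (l₁ ++ l₂) = wperm l₁ * wperm l₂ := by
  unfold wperm; rw [List.map_append, List.prod_append]

theorem wperm_replicate_flatten (k : ℕ) (l : List Letter) :
    wperm (List.replicate k l).flatten = wperm l ^ k := by
  induction k with
  | zero => rfl
  | succ k ih => rw [List.replicate_succ, List.flatten_cons, wperm_append, ih, pow_succ']

theorem wperm_replicate (k : ℕ) (l : Letter) : wperm (List.replicate k l) = lperm l ^ k := by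
  induction k with
  | zero => rfl
  | succ k ih =>
    rw [List.replicate_succ, pow_succ']
    show wperm ([l] ++ List.replicate k l) = _
    rw [wperm_append, ih]
    congr 1

theorem wperm_pos (l : List Gen) : wperm (pos l) = (l.map p3658).prod := by
  induction l with
  | nil => rfl
  | cons x l ih =>
    show wperm ([(some x, false)] ++ pos l) = _
    rw [wperm_append, ih, List.map_cons, List.prod_cons]
    congr 1

theorem wperm_neg (l : List Gen) : wperm (neg l) = ((l.map p3658).prod)⁻¹ := by
  induction l with
  | nil => simp [neg, wperm]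
  | cons x l ih =>
    have : neg (x :: l) = neg l ++ [(some x, true)] := by
      unfold neg; rw [List.reverse_cons, List.map_append]; rfl
    rw [this, wperm_append, ih, List.map_cons, List.prod_cons, mul_inv_rev]
    congr 1

/-! ### the facts about the permutations -/

theorem pz_comm (x : Gen) : pz * p3658 x = p3658 x * pz := by
  have h := comm_chk
  rw [List.all_eq_true] at h
  have h1 := h (idx x) (List.mem_range.mpr (idx_lt x))
  rw [gen_idx] at h1
  have h2 := wperm_eq_one _ h1
  have h3 : wperm (commL x) = pz * p3658 x * pz⁻¹ * (p3658 x)⁻¹ := by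
    unfold wperm commL
    simp [lperm, mul_assoc]
  rw [h3] at h2
  have h4 : pz * p3658 x = (pz * p3658 x * pz⁻¹ * (p3658 x)⁻¹) * (p3658 x * pz) := by group
  rw [h4, h2, one_mul]

theorem pz_pow_six : pz ^ 6 = 1 := by
  have h := wperm_eq_one _ z6_chk
  rwa [wperm_replicate] at h

theorem pz_sq_ne : pz ^ 2 ≠ 1 := by
  intro h
  have hact : ActsByW 3658 12 (pz ^ 2) (List.replicate 2 Dat.z3658.1) :=
    actsByW_pow 3658 12 (permOf_apply z3658_ok) 2
  have h1 := hact ⟨2524, by norm_num⟩
  rw [h] at h1
  exact z2_chk h1.symm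

theorem pz_cube_ne : pz ^ 3 ≠ 1 := by
  intro h
  have hact : ActsByW 3658 12 (pz ^ 3) (List.replicate 3 Dat.z3658.1) :=
    actsByW_pow 3658 12 (permOf_apply z3658_ok) 3
  have h1 := hact ⟨364, by norm_num⟩
  rw [h] at h1
  exact z3_chk h1.symm

theorem orderOf_pz : orderOf pz = 6 := by
  have hd : orderOf pz ∣ 6 := orderOf_dvd_of_pow_eq_one pz_pow_six
  have h2 : ¬ orderOf pz ∣ 2 := fun h => pz_sq_ne (orderOf_dvd_iff_pow_eq_one.mp h)
  have h3 : ¬ orderOf pz ∣ 3 := fun h => pz_cube_ne (orderOf_dvd_iff_pow_eq_one.mp h)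
  have hmem : orderOf pz ∈ Nat.divisors 6 := Nat.mem_divisors.mpr ⟨hd, by norm_num⟩
  have hdiv : Nat.divisors 6 = {1, 2, 3, 6} := by decide
  rw [hdiv] at hmem
  simp only [Finset.mem_insert, Finset.mem_singleton] at hmem
  rcases hmem with h | h | h | h
  · exact absurd (by rw [h]; exact one_dvd 2) h2
  · exact absurd (by rw [h]) h2
  · exact absurd (by rw [h]) h3
  · exact h

theorem cox_rel (x y : Gen) : (p3658 x * p3658 y) ^ mlab x y = pz ^ E x y := by
  have hall : wordId 3658 12 (wtab (coxL x y)) = true := by
    have key : ∀ i < 8, ((List.range 8).all fun j => wordId 3658 12 (wtab (coxL (gen i) (gen j)))) = true := by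
      intro i hi
      interval_cases i
      · exact cox_chk0
      · exact cox_chk1
      · exact cox_chk2
      · exact cox_chk3
      · exact cox_chk4
      · exact cox_chk5
      · exact cox_chk6
      · exact cox_chk7
    have h := key (idx x) (idx_lt x)
    rw [List.all_eq_true] at h
    have h1 := h (idx y) (List.mem_range.mpr (idx_lt y))
    rwa [gen_idx, gen_idx] at h1
  have h2 := wperm_eq_one _ hall
  unfold coxL at h2
  rw [wperm_append, wperm_replicate_flatten, wperm_replicate] at h2
  have h3 : wperm [(some x, false), (some y, false)] = p3658 x * p3658 y := by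
    unfold wperm; simp [lperm]
  rw [h3] at h2
  have h4 : lperm (none, true) = pz⁻¹ := rfl
  rw [h4, inv_pow, mul_inv_eq_one] at h2
  exact h2

theorem w1_rel : ((w1.map p3658).prod) ^ 10 = pz ^ 1 := by
  have h2 := wperm_eq_one _ w1_chk
  unfold w1L at h2
  rw [wperm_append, wperm_replicate_flatten, wperm_pos] at h2
  have h4 : wperm [(none, true)] = pz⁻¹ := by unfold wperm; simp [lperm]
  rw [h4, mul_inv_eq_one] at h2
  rw [h2, pow_one]

theorem w2_rel : ((w2.map p3658).prod) ^ 9 = pz ^ 0 := by
  have h2 := wperm_eq_one _ w2_chk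
  unfold w2L at h2
  rw [wperm_replicate_flatten, wperm_pos] at h2
  rw [h2, pow_zero]

/-! ### the presentation -/

open Cfsg.Agent.Helper4.Pres

/-- index set of the relators: ordered pairs of nodes, and the two further relators -/
abbrev Idx : Type := (Gen × Gen) ⊕ Bool

/-- the relators of `P` -/
def Srel : Idx → FreeGroup Gen
  | Sum.inl (x, y) => (FreeGroup.of x * FreeGroup.of y) ^ mlab x y
  | Sum.inr false => (O73.d * O73.c * O73.b * O73.d * O73.e * O73.f * O73.d * O73.h * O73.i) ^ 10
  | Sum.inr true => (O73.b * O73.c * O73.d * O73.e * O73.f * O73.g * O73.h) ^ 9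

/-- the exponents of the central generator -/
def erel : Idx → ℕ
  | Sum.inl (x, y) => E x y
  | Sum.inr false => 1
  | Sum.inr true => 0

theorem mem_nodes (x : Gen) : x ∈ Cfsg.Spor.coxNodes O73.edges := by cases x <;> decide

theorem Srel_mem : ∀ i, Srel i ∈ O73PE6a.Rset := by
  intro i
  rcases i with ⟨x, y⟩ | b
  · exact Or.inl ⟨x, mem_nodes x, y, mem_nodes y, rfl⟩
  · cases b
    · refine Or.inr ?_
      show _ ∈ O73.extra
      unfold O73.extra
      exact List.mem_cons_self
    · refine Or.inr ?_
      show _ ∈ O73.extra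
      unfold O73.extra
      exact List.mem_cons_of_mem _ List.mem_cons_self

theorem Rset_sub : ∀ r ∈ O73PE6a.Rset, ∃ i, r = Srel i := by
  intro r hr
  rcases hr with ⟨x, _, y, _, rfl⟩ | hr
  · exact ⟨Sum.inl (x, y), rfl⟩
  · have hr' : r ∈ O73.extra := hr
    unfold O73.extra at hr'
    rcases List.mem_cons.mp hr' with rfl | hr''
    · exact ⟨Sum.inr false, rfl⟩
    · rcases List.mem_cons.mp hr'' with rfl | h3
      · exact ⟨Sum.inr true, rfl⟩
      · simp at h3

/-- the cover -/
abbrev Gam : Type := Cover Srel erel 6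

instance : Finite (PresentedGroup O73PE6a.Rset) := (inferInstance : Finite P)

instance gam_finite : Finite Gam := cover_finite Srel erel 6 Srel_mem Rset_sub (by norm_num)

/-- the projection onto `P` -/
noncomputable def prP : Gam →* P := proj Srel erel 6 Srel_mem

theorem lift_rel : ∀ i, FreeGroup.lift p3658 (Srel i) = pz ^ erel i := by
  intro i
  rcases i with ⟨x, y⟩ | b
  · show FreeGroup.lift p3658 ((FreeGroup.of x * FreeGroup.of y) ^ mlab x y) = pz ^ E x y
    rw [map_pow, map_mul, FreeGroup.lift_apply_of, FreeGroup.lift_apply_of]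
    exact cox_rel x y
  · cases b
    · show FreeGroup.lift p3658
        ((O73.d * O73.c * O73.b * O73.d * O73.e * O73.f * O73.d * O73.h * O73.i) ^ 10) = pz ^ 1
      rw [← w1_rel]
      simp only [map_pow, map_mul, FreeGroup.lift_apply_of, w1, List.map_cons, List.map_nil,
        List.prod_cons, List.prod_nil, mul_one, mul_assoc]
    · show FreeGroup.lift p3658
        ((O73.b * O73.c * O73.d * O73.e * O73.f * O73.g * O73.h) ^ 9) = pz ^ 0
      rw [← w2_rel]
      simp only [map_pow, map_mul, FreeGroup.lift_apply_of, w2, List.map_cons, List.map_nil,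
        List.prod_cons, List.prod_nil, mul_one, mul_assoc]

/-- the permutation representation of the cover on 3658 points -/
noncomputable def rho : Gam →* Equiv.Perm (Fin 3658) :=
  coverHom Srel erel 6 p3658 pz pz_comm pz_pow_six lift_rel

theorem rho_zeta : rho (zeta Srel erel 6) = pz := coverHom_zeta _ _ _ _ _ _ _ _

theorem rho_gam (x : Gen) : rho (gam Srel erel 6 x) = p3658 x := coverHom_gam _ _ _ _ _ _ _ _ x

theorem orderOf_zeta : orderOf (zeta Srel erel 6) = 6 := by
  apply Nat.dvd_antisymm (orderOf_dvd_of_pow_eq_one (zeta_pow Srel erel 6))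
  have := orderOf_map_dvd rho (zeta Srel erel 6)
  rwa [rho_zeta, orderOf_pz] at this

/-! ### `ζ` is a product of two commutators -/

/-- the element of the cover of a positive word -/
noncomputable def gw (l : List Gen) : Gam := (l.map (gam Srel erel 6)).prod

theorem gw_cons (x : Gen) (l : List Gen) : gw (x :: l) = gam Srel erel 6 x * gw l := by
  unfold gw; rw [List.map_cons, List.prod_cons]

theorem rho_gw (l : List Gen) : rho (gw l) = (l.map p3658).prod := by
  induction l with
  | nil => exact map_one rho
  | cons x l ih => rw [gw_cons, map_mul, rho_gam, ih, List.map_cons, List.prod_cons]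

/-- the product of two commutators -/
noncomputable def cc : Gam := ⁅gw Wd, gw Td⁆ * ⁅gam Srel erel 6 .d, gam Srel erel 6 .b⁆

theorem rho_cc : rho (cc * (zeta Srel erel 6)⁻¹) = 1 := by
  have h := wperm_eq_one _ c_chk
  unfold cL at h
  rw [wperm_append, wperm_append, wperm_append, wperm_append, wperm_append, wperm_pos, wperm_pos,
    wperm_neg, wperm_neg] at h
  have h1 : wperm [(some O73.Gen.d, false), (some O73.Gen.b, false), (some O73.Gen.d, true), (some O73.Gen.b, true)] =
      ⁅p3658 .d, p3658 .b⁆ := by
    unfold wperm; simp [lperm, commutatorElement_def, mul_assoc]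
  have h2 : wperm [(none, true)] = pz⁻¹ := by unfold wperm; simp [lperm]
  rw [h1, h2] at h
  rw [map_mul, map_inv, rho_zeta]
  unfold cc
  rw [map_mul, map_commutatorElement, map_commutatorElement, rho_gw, rho_gw, rho_gam, rho_gam]
  rw [← h]
  simp only [commutatorElement_def, mul_assoc]

/-! the same word in `P`, on 364 points -/

noncomputable def lperm364 : Gen × Bool → Equiv.Perm (Fin 364)
  | (x, false) => q364 x
  | (x, true) => (q364 x)⁻¹

noncomputable def wperm364 (ls : List (Gen × Bool)) : Equiv.Perm (Fin 364) := (ls.map lperm364).prod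

theorem lperm364_acts (l : Gen × Bool) (a : Fin 364) :
    (lperm364 l a).val = look 9 (ltab364 l) a.val := by
  rcases l with ⟨x, _ | _⟩
  · exact permOf_apply (T364_ok x) a
  · exact permOf_inv_apply (T364_ok x) a

theorem wperm364_acts (ls : List (Gen × Bool)) : ActsByW 364 9 (wperm364 ls) (wtab364 ls) := by
  induction ls with
  | nil => exact actsByW_one 364 9
  | cons l ls ih =>
    have : wperm364 (l :: ls) = lperm364 l * wperm364 ls := by
      unfold wperm364; rw [List.map_cons, List.prod_cons]
    rw [this]
    exact actsByW_cons (lperm364_acts l) ih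

theorem wperm364_append (l₁ l₂ : List (Gen × Bool)) :
    wperm364 (l₁ ++ l₂) = wperm364 l₁ * wperm364 l₂ := by
  unfold wperm364; rw [List.map_append, List.prod_append]

theorem wperm364_pos (l : List Gen) : wperm364 (pos364 l) = (l.map q364).prod := by
  induction l with
  | nil => rfl
  | cons x l ih =>
    show wperm364 ([(x, false)] ++ pos364 l) = _
    rw [wperm364_append, ih, List.map_cons, List.prod_cons]
    congr 1

theorem wperm364_neg (l : List Gen) : wperm364 (neg364 l) = ((l.map q364).prod)⁻¹ := by
  induction l with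
  | nil => simp [neg364, wperm364]
  | cons x l ih =>
    have : neg364 (x :: l) = neg364 l ++ [(x, true)] := by
      unfold neg364; rw [List.reverse_cons, List.map_append]; rfl
    rw [this, wperm364_append, ih, List.map_cons, List.prod_cons, mul_inv_rev]
    congr 1

theorem psi_prP_gam (x : Gen) : ψ (prP (gam Srel erel 6 x)) = q364 x := by
  unfold prP
  rw [proj_gam]
  exact ψ_of' x

theorem psi_prP_gw (l : List Gen) : ψ (prP (gw l)) = (l.map q364).prod := by
  induction l with
  | nil => show ψ (prP 1) = 1; rw [map_one, map_one]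
  | cons x l ih => rw [gw_cons, map_mul, map_mul, psi_prP_gam, ih, List.map_cons, List.prod_cons]

theorem prP_cc : prP cc = 1 := by
  apply ψ_injective
  rw [map_one]
  have h := eq_one_of_wordId 364 9 (wperm364_acts cL364) c364_chk
  unfold cL364 at h
  rw [wperm364_append, wperm364_append, wperm364_append, wperm364_append, wperm364_pos, wperm364_pos,
    wperm364_neg, wperm364_neg] at h
  have h1 : wperm364 [(O73.Gen.d, false), (O73.Gen.b, false), (O73.Gen.d, true), (O73.Gen.b, true)] =
      ⁅q364 .d, q364 .b⁆ := by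
    unfold wperm364; simp [lperm364, commutatorElement_def, mul_assoc]
  rw [h1] at h
  unfold cc
  rw [map_mul, map_mul, map_commutatorElement, map_commutatorElement, map_commutatorElement,
    map_commutatorElement, psi_prP_gw, psi_prP_gw]
  have hd : ψ (prP (gam Srel erel 6 .d)) = q364 .d := by
    unfold prP; rw [proj_gam]; exact ψ_of' _
  have hb : ψ (prP (gam Srel erel 6 .b)) = q364 .b := by
    unfold prP; rw [proj_gam]; exact ψ_of' _
  rw [hd, hb, ← h]
  simp only [commutatorElement_def, mul_assoc]

theorem ker_prP : prP.ker = Subgroup.zpowers (zeta Srel erel 6) := ker_proj Srel erel 6 Srel_mem Rset_sub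

theorem cc_eq_zeta : cc = zeta Srel erel 6 := by
  have hmem : cc * (zeta Srel erel 6)⁻¹ ∈ prP.ker := by
    rw [MonoidHom.mem_ker, map_mul, map_inv, prP_cc]
    unfold prP
    rw [proj_zeta, inv_one, mul_one]
  rw [ker_prP] at hmem
  obtain ⟨k, hk⟩ := Subgroup.mem_zpowers_iff.mp hmem
  have h1 : rho (zeta Srel erel 6 ^ k) = 1 := by rw [hk, rho_cc]
  rw [map_zpow, rho_zeta] at h1
  have h2 : ((orderOf pz : ℕ) : ℤ) ∣ k := orderOf_dvd_iff_zpow_eq_one.mpr h1
  rw [orderOf_pz] at h2
  obtain ⟨j, rfl⟩ := h2
  have h3 : zeta Srel erel 6 ^ (((6 : ℕ) : ℤ) * j) = 1 := by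
    rw [zpow_mul, zpow_natCast, zeta_pow, one_zpow]
  rw [h3] at hk
  exact (mul_inv_eq_one.mp hk.symm)

theorem zeta_mem_commutator : zeta Srel erel 6 ∈ commutator Gam := by
  rw [← cc_eq_zeta, commutator_def]
  unfold cc
  exact Subgroup.mul_mem _
    (Subgroup.commutator_mem_commutator (Subgroup.mem_top _) (Subgroup.mem_top _))
    (Subgroup.commutator_mem_commutator (Subgroup.mem_top _) (Subgroup.mem_top _))

end Helper1

open Helper1 in
/-- **[EX]** a stem extension of `PΩ₇(3)` (as helper4's permutation group on 364 points) with kernel cyclic of order 6 -/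
theorem exists_cover : ∃ (Γ : Type) (_ : Group Γ) (_ : Finite Γ)
    (σ : Γ →* ↥(Cfsg.Agent.Lib.Helper2.O73Cls.ψ).range),
    Cfsg.IsStemExtension σ ∧ Nonempty (σ.ker ≃* Multiplicative (ZMod 6)) := by
  let σ : Gam →* ↥(ψ : P →* Equiv.Perm (Fin 364)).range := ψEquiv.toMonoidHom.comp prP
  have hker : σ.ker = Subgroup.zpowers (zeta Srel erel 6) := by
    rw [← ker_prP]
    ext g
    rw [MonoidHom.mem_ker, MonoidHom.mem_ker]
    show ψEquiv (prP g) = 1 ↔ prP g = 1
    constructor
    · intro h
      exact ψEquiv.injective (h.trans (map_one ψEquiv).symm)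
    · intro h
      rw [h, map_one]
  refine ⟨Gam, inferInstance, gam_finite, σ, ⟨?_, ?_, ?_⟩, ?_⟩
  · intro y
    obtain ⟨p, hp⟩ := ψEquiv.surjective y
    obtain ⟨g, hg⟩ := proj_surjective Srel erel 6 Srel_mem p
    exact ⟨g, by show ψEquiv (prP g) = y; unfold prP; rw [hg, hp]⟩
  · rw [hker, Subgroup.zpowers_le]
    exact zeta_mem_center Srel erel 6
  · rw [hker, Subgroup.zpowers_le]
    exact zeta_mem_commutator
  · rw [hker]
    have hc1 : Nat.card (Subgroup.zpowers (zeta Srel erel 6)) = 6 := by
      rw [Nat.card_zpowers, orderOf_zeta]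
    have hc2 : Nat.card (Multiplicative (ZMod 6)) = 6 := by
      rw [Nat.card_eq_fintype_card]
      show Fintype.card (ZMod 6) = 6
      exact ZMod.card 6
    exact ⟨mulEquivOfCyclicCardEq (hc1.trans hc2.symm)⟩

end Cfsg.Agent.Lib.Helper2.O73Mult
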