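import Cfsg.Agent.Lib.Helper2.O73Mult.Base
import Cfsg.Agent.Lib.Helper1.O73MultEXData

/-!
# S2095-[EX]: words of tables on 3658 and on 364 points
-/

set_option autoImplicit false
set_option maxRecDepth 100000

namespace Cfsg.Agent.Lib.Helper2.O73Mult.Helper1

open Cfsg.Agent.Lib.Helper28.BSGS Cfsg.Agent.Lib.Helper2.O73Cls

/-- tables of a generator on 3658 points -/
def T3658 (x : Gen) : ℕ × ℕ := Dat.g3658.getD (idx x) (0, 0)

/-- letters: `none` is `z`; the flag means inverse -/
abbrev Letter : Type := Option Gen × Bool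

/-- the table of a letter on 3658 points -/
def ltab : Letter → ℕ
  | (none, false) => Dat.z3658.1
  | (none, true) => Dat.z3658.2
  | (some x, false) => (T3658 x).1
  | (some x, true) => (T3658 x).2

/-- the table word of a word -/
def wtab (ls : List Letter) : List ℕ := ls.map ltab

/-- the table of a letter on 364 points (`z` acts trivially there and is not used) -/
def ltab364 : Gen × Bool → ℕ
  | (x, false) => (T364 x).1
  | (x, true) => (T364 x).2

def wtab364 (ls : List (Gen × Bool)) : List ℕ := ls.map ltab364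

/-- positive word -/
def pos (l : List Gen) : List Letter := l.map fun x => (some x, false)

/-- inverse of a positive word -/
def neg (l : List Gen) : List Letter := l.reverse.map fun x => (some x, true)

def pos364 (l : List Gen) : List (Gen × Bool) := l.map fun x => (x, false)

def neg364 (l : List Gen) : List (Gen × Bool) := l.reverse.map fun x => (x, true)

/-- exponents of `z` in the Coxeter relators, row-major in `idx` -/
def Etab : List ℕ :=
  [3, 3, 3, 3, 3, 3, 3, 3,
   3, 3, 0, 3, 3, 3, 3, 3,
   3, 0, 3, 3, 3, 3, 0, 3,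
   3, 3, 3, 3, 0, 3, 3, 3,
   3, 3, 3, 0, 3, 3, 3, 3,
   3, 3, 3, 3, 3, 3, 3, 3,
   3, 3, 0, 3, 3, 3, 3, 0,
   3, 3, 3, 3, 3, 3, 0, 3]

def E (x y : Gen) : ℕ := Etab.getD (idx x * 8 + idx y) 0

/-- the Coxeter label -/
def mlab (x y : Gen) : ℕ := Cfsg.Spor.coxLabel Cfsg.Agent.Helper4.Pres.O73.edges x y

/-- the word of the Coxeter relator of `(x, y)`, corrected by the power of `z` -/
def coxL (x y : Gen) : List Letter :=
  (List.replicate (mlab x y) [(some x, false), (some y, false)]).flatten ++
    List.replicate (E x y) (none, true)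

def w1 : List Gen := [.d, .c, .b, .d, .e, .f, .d, .h, .i]

def w2 : List Gen := [.b, .c, .d, .e, .f, .g, .h]

def w1L : List Letter := (List.replicate 10 (pos w1)).flatten ++ [(none, true)]

def w2L : List Letter := (List.replicate 9 (pos w2)).flatten

def commL (x : Gen) : List Letter := [(none, false), (some x, false), (none, true), (some x, true)]

def Wd : List Gen := [.b, .c, .e, .f, .h, .i]

def Td : List Gen :=
  [.f, .e, .d, .h, .i, .c, .d, .h, .e, .d, .c, .b, .c, .d, .e, .h, .d, .c, .i, .h, .d, .e, .d, .h, .i, .e,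
   .d, .h, .c, .d, .e, .f, .e, .d, .h, .i, .c, .d, .h, .e, .d, .c, .b, .c, .d, .e, .h, .d, .c, .i, .h, .d,
   .e, .e, .e, .e, .d, .d, .d, .c, .c, .c, .h, .h, .h, .d, .d, .d, .e, .e, .e, .i, .i, .i, .h, .h, .h, .d,
   .d, .d]

/-- the word `[W,T] [d,b] z⁻¹` -/
def cL : List Letter :=
  pos Wd ++ pos Td ++ neg Wd ++ neg Td ++ [(some .d, false), (some .b, false), (some .d, true), (some .b, true)] ++
    [(none, true)]

/-- the word `[W,T] [d,b]` on 364 points -/
def cL364 : List (Gen × Bool) :=
  pos364 Wd ++ pos364 Td ++ neg364 Wd ++ neg364 Td ++ [(.d, false), (.b, false), (.d, true), (.b, true)]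

end Cfsg.Agent.Lib.Helper2.O73Mult.Helper1
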