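import Cfsg.Agent.H5.TCkSound
import Cfsg.Agent.Lib.Helper5.Sp62Data

/-!
# S2098 (Schur multiplier of `PΩ₈⁺(2)` is `C₂ × C₂`): the data (helper1)

`Ω₈⁺(2)` is generated by five elements `a, b, w₁, w₂, w₃` of order `7` (generators `0, …, 4`; letters `2 i` and
`2 i + 1` for generator `i` and its inverse, words in the convention of `Cfsg.H5.TCk.ev`). The pair `a, b` is
fixed by a triality automorphism, which permutes `w₁, w₂, w₃` cyclically; each triple `(a, b, wᵢ)` satisfies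
helper5's relators `Sp62.relsK` of `2 · Sp₆(2)` and generates a copy of `Sp₆(2)`. All relators are *exact* in
every stem extension, because `7` does not divide the order of the multiplier: the five seventh powers and
conjugation relators `u xᵢ u⁻¹ = xⱼ^k` (the list pruned by helper5 to those which his coset
enumeration uses). The group presented by `relsW` is the cover `2² · Ω₈⁺(2)`;
`wordZ1 = (a³ w₁)³` and `wordZ2 = (a³ w₂)³` generate its centre.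
-/

set_option autoImplicit false

namespace Cfsg.Agent.Lib.Helper1.O8p

open Cfsg.H5.TCk
open Cfsg.Agent.Lib.Helper5.Sp62 (cr crOf)

/-- the conjugation relators: `(u, i, c, m)` stands for `cr u i c m = u xᵢ u⁻¹ c ^ m` -/
def conjW : List (List ℕ × ℕ × ℕ × ℕ) := [
  ([1, 1, 3, 1], 1, 3, 2),
  ([0, 2, 0, 0], 1, 2, 3),
  ([1, 3, 1, 3, 1, 2], 0, 3, 2),
  ([0, 0, 3, 0, 2, 0, 2, 0], 1, 0, 3),
  ([0, 3, 0, 3, 0, 2, 2, 0], 1, 1, 2),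
  ([0, 3, 3, 3, 1, 2, 1, 3], 0, 1, 2),
  ([0, 2, 0, 3, 1, 3, 1, 2], 0, 3, 1),
  ([0, 0, 3, 0, 2, 2, 2, 0, 2], 0, 3, 1),
  ([2, 5], 1, 4, 2),
  ([2, 2, 4, 3], 2, 3, 3),
  ([3, 3, 4], 1, 4, 2),
  ([2, 2, 5, 5], 1, 4, 2),
  ([1, 1, 3, 1, 2], 2, 5, 2),
  ([0, 2, 0, 0, 5, 5], 1, 4, 1),
  ([2, 5, 0, 2, 2, 2, 1], 2, 0, 2),
  ([5, 2, 0, 4, 4, 0, 2], 0, 0, 2),
  ([2, 7], 1, 6, 2),
  ([2, 2, 6, 3], 3, 3, 3),
  ([3, 3, 6], 1, 6, 2),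
  ([2, 2, 7, 7], 1, 6, 2),
  ([1, 1, 3, 1, 2], 3, 7, 2),
  ([0, 2, 0, 0, 7, 7], 1, 6, 1),
  ([2, 7, 0, 2, 2, 2, 1], 3, 0, 2),
  ([7, 2, 0, 6, 6, 0, 2], 0, 0, 2),
  ([2, 9], 1, 8, 2),
  ([2, 2, 8, 3], 4, 3, 3),
  ([3, 3, 8], 1, 8, 2),
  ([2, 2, 9, 9], 1, 8, 2),
  ([1, 1, 3, 1, 2], 4, 9, 2),
  ([0, 2, 0, 0, 9, 9], 1, 8, 1),
  ([2, 9, 0, 2, 2, 2, 1], 4, 0, 2),
  ([9, 2, 0, 8, 8, 0, 2], 0, 0, 2),
  ([4, 3, 5, 3, 3, 4], 3, 7, 1),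
  ([4, 6, 2, 7, 7, 2], 2, 3, 3),
  ([4, 7, 4, 7, 4, 3], 3, 3, 3),
  ([4, 7, 8, 5, 6, 3], 4, 3, 3),
  ([4, 8, 2, 9, 9, 2], 2, 3, 3),
  ([4, 9, 4, 9, 4, 3], 4, 3, 3),
  ([4, 9, 6, 5, 8, 3], 3, 3, 3),
  ([0, 2, 2, 0, 3, 1, 1], 4, 8, 3),
  ([0, 3, 3, 3, 1, 8, 3], 0, 9, 3),
  ([0, 3, 3, 8, 5, 6, 5], 0, 2, 3),
  ([0, 4, 2, 5, 7, 8, 7], 0, 2, 3),
  ([0, 6, 2, 7, 5, 8, 5], 0, 2, 3),
  ([1, 2, 7, 4, 9, 4, 2], 0, 3, 1),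
  ([1, 2, 9, 4, 7, 4, 2], 0, 3, 1),
  ([1, 3, 9, 6, 8, 1, 4], 4, 3, 2),
  ([2, 0, 2, 0, 0, 2, 8], 1, 8, 1),
  ([2, 0, 3, 4, 7, 4, 3], 4, 1, 3),
  ([2, 0, 3, 4, 9, 4, 3], 3, 1, 3),
  ([2, 0, 3, 6, 9, 6, 3], 2, 1, 3),
  ([2, 5, 6, 5, 2, 1, 3], 0, 8, 2),
  ([2, 5, 8, 5, 2, 1, 3], 0, 6, 2),
  ([2, 7, 4, 7, 2, 1, 3], 0, 8, 2),
  ([2, 9, 4, 9, 2, 1, 3], 0, 6, 2),
  ([3, 5, 1, 1, 3, 1, 4], 3, 7, 2),
  ([3, 6, 2, 7, 7, 2, 4], 1, 4, 2),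
  ([3, 6, 2, 7, 7, 2, 8], 1, 8, 2),
  ([3, 7, 4, 7, 8, 3, 0], 1, 1, 1),
  ([3, 7, 8, 7, 4, 3, 0], 1, 1, 1),
  ([3, 8, 2, 9, 9, 2, 6], 1, 6, 2),
  ([3, 9, 6, 9, 4, 3, 0], 1, 1, 1),
  ([4, 7, 4, 9, 2, 2, 1], 1, 1, 2),
  ([4, 7, 8, 7, 2, 1, 3], 0, 3, 1),
  ([4, 9, 4, 7, 2, 2, 1], 1, 1, 2),
  ([4, 9, 6, 9, 2, 1, 3], 0, 3, 1)]

/-- the relators of `2² · Ω₈⁺(2) = ⟨a, b, w₁, w₂, w₃⟩` -/
def relsW : List (List ℕ) :=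
  (List.range 5).map (fun i => List.replicate 7 (2 * i)) ++ conjW.map crOf

/-- `(a³ w₁)³` and `(a³ w₂)³`: trivial in `Ω₈⁺(2)`, generators of the centre of the cover -/
def wordZ1 : List ℕ := [0, 0, 0, 4, 0, 0, 0, 4, 0, 0, 0, 4]
def wordZ2 : List ℕ := [0, 0, 0, 6, 0, 0, 0, 6, 0, 0, 0, 6]

/-- the letter map which sends helper5's letters of `(a, b, w)` to those of `(a, b, w_{1+k})` -/
def sh (k l : ℕ) : ℕ := if l < 4 then l else l + 2 * k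

/-- the hypotheses on five elements `g 0, …, g 4` of a group `G` which make `G` a copy of `Ω₈⁺(2)` -/
def IsO8pTuple {G : Type*} [Group G] (g : ℕ → G) : Prop :=
  Nat.card G = 174182400 ∧ Subgroup.closure (Set.range fun i : Fin 5 => g i.val) = ⊤ ∧
    (∀ r ∈ relsW, ev g r = 1) ∧ ev g wordZ1 = 1 ∧ ev g wordZ2 = 1

/-! ### the matrices: columns as bit masks, bit `i` = `Sum.inl i`, bit `4 + i` = `Sum.inr i`
(the image of the `j`-th basis vector is the `j`-th number; the form is `quadFormPlus 4`) -/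

def colsA : List ℕ := [249, 159, 82, 74, 157, 185, 67, 194]
def colsB : List ℕ := [171, 82, 87, 161, 115, 189, 18, 41]
def colsW1 : List ℕ := [205, 80, 159, 192, 175, 115, 189, 72]
def colsW2 : List ℕ := [74, 176, 179, 240, 115, 220, 90, 206]
def colsW3 : List ℕ := [194, 56, 59, 206, 115, 220, 210, 120]

/-- the inverse matrices -/
def colsAi : List ℕ := [115, 18, 220, 59, 55, 236, 33, 179]
def colsBi : List ℕ := [103, 155, 97, 146, 219, 117, 66, 26]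
def colsW1i : List ℕ := [102, 7, 186, 213, 87, 67, 85, 93]
def colsW2i : List ℕ := [231, 225, 159, 234, 65, 93, 10, 30]
def colsW3i : List ℕ := [111, 105, 159, 150, 65, 213, 130, 234]

end Cfsg.Agent.Lib.Helper1.O8p
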