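import Cfsg.Agent.Lib.Helper28.BSGSPerm
import Cfsg.Agent.Lib.Helper1.O8pData
import Cfsg.Agent.Lib.Helper1.O8pModelData

/-!
# S2098 piece [M]: the permutation model of the cover `2² · Ω₈⁺(2)` on `240 + 240` points (helper1)

Clone of helper5's `Sp62Model` (tables via helper28's `BSGSPerm`). Only the relators of `relsW` are checked on
the tables, that `wordZ1` moves the point `240`, that `wordZ2` and `wordZ1 ++ wordZ2` move the point `0`, and
that the squares of `wordZ1`, `wordZ2` act trivially. The relator check is cut into twelve chunks of eight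
relators to keep the memory of each kernel evaluation small.
-/

set_option autoImplicit false
set_option Elab.async false

namespace Cfsg.Agent.Lib.Helper1.O8p

open Cfsg.H5.TCk Cfsg.Agent.Lib.Helper28.BSGS

namespace Model

/-- the table of a letter -/
def mtab : ℕ → ℕ
  | 0 => mtab0
  | 1 => mtab1
  | 2 => mtab2
  | 3 => mtab3
  | 4 => mtab4
  | 5 => mtab5
  | 6 => mtab6
  | 7 => mtab7
  | 8 => mtab8
  | 9 => mtab9
  | _ => 0

set_option maxRecDepth 100000 in
theorem pair0 : pairOK 480 12 mtab0 mtab1 = true := by decide +kernel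
set_option maxRecDepth 100000 in
theorem pair1 : pairOK 480 12 mtab2 mtab3 = true := by decide +kernel
set_option maxRecDepth 100000 in
theorem pair2 : pairOK 480 12 mtab4 mtab5 = true := by decide +kernel
set_option maxRecDepth 100000 in
theorem pair3 : pairOK 480 12 mtab6 mtab7 = true := by decide +kernel
set_option maxRecDepth 100000 in
theorem pair4 : pairOK 480 12 mtab8 mtab9 = true := by decide +kernel

/-- the five generators of the model -/
def mp : ℕ → Equiv.Perm (Fin 480)
  | 0 => permOf 480 12 mtab0 mtab1
  | 1 => permOf 480 12 mtab2 mtab3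
  | 2 => permOf 480 12 mtab4 mtab5
  | 3 => permOf 480 12 mtab6 mtab7
  | 4 => permOf 480 12 mtab8 mtab9
  | _ => 1

set_option maxRecDepth 100000 in
theorem gl_acts : ∀ l, l < 10 → ∀ a : Fin 480, (gl mp l a).val = look 12 (mtab l) a.val
  | 0, _ => fun a => permOf_apply pair0 a
  | 1, _ => fun a => permOf_inv_apply pair0 a
  | 2, _ => fun a => permOf_apply pair1 a
  | 3, _ => fun a => permOf_inv_apply pair1 a
  | 4, _ => fun a => permOf_apply pair2 a
  | 5, _ => fun a => permOf_inv_apply pair2 a
  | 6, _ => fun a => permOf_apply pair3 a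
  | 7, _ => fun a => permOf_inv_apply pair3 a
  | 8, _ => fun a => permOf_apply pair4 a
  | 9, _ => fun a => permOf_inv_apply pair4 a
  | (n + 10), h => absurd h (by omega)

theorem ev_acts (w : List ℕ) (hw : w.all (fun l => decide (l < 10)) = true) :
    ActsByW 480 12 (ev mp w) (w.map mtab) := by
  induction w with
  | nil => exact actsByW_one 480 12
  | cons l w ih =>
    rw [List.all_cons, Bool.and_eq_true] at hw
    exact actsByW_cons (gl_acts l (of_decide_eq_true hw.1)) (ih hw.2)

/-- Boolean test: the word fixes every point -/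
def fixAll (w : List ℕ) : Bool :=
  w.all (fun l => decide (l < 10)) && (List.range 480).all fun a => evalW 12 (w.map mtab) a == a

theorem ev_eq_one (w : List ℕ) (h : fixAll w = true) : ev mp w = 1 := by
  unfold fixAll at h
  rw [Bool.and_eq_true] at h
  obtain ⟨h1, h2⟩ := h
  rw [List.all_eq_true] at h2
  ext a
  rw [ev_acts w h1 a]
  have := h2 a.val (List.mem_range.mpr a.isLt)
  rw [beq_iff_eq] at this
  rw [this]
  rfl

/-- Boolean test: the word moves the point `c` -/
def movesPt (c : ℕ) (w : List ℕ) : Bool :=
  w.all (fun l => decide (l < 10)) && decide (c < 480) && !(evalW 12 (w.map mtab) c == c)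

theorem ev_ne_one (c : ℕ) (w : List ℕ) (h : movesPt c w = true) : ev mp w ≠ 1 := by
  unfold movesPt at h
  rw [Bool.and_eq_true, Bool.and_eq_true] at h
  obtain ⟨⟨h1, hc⟩, h2⟩ := h
  have hc' : c < 480 := of_decide_eq_true hc
  intro h3
  have h4 := ev_acts w h1 (⟨c, hc'⟩ : Fin 480)
  rw [h3] at h4
  simp only [Equiv.Perm.coe_one, id_eq] at h4
  rw [← h4] at h2
  simp at h2

/-- a list passes a Boolean test as soon as its `m` chunks of length `n` do -/
theorem all_of_chunks {α : Type*} (p : α → Bool) (n : ℕ) : ∀ (m : ℕ) (l : List α),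
    l.length ≤ n * m → (∀ k < m, ((l.drop (n * k)).take n).all p = true) → l.all p = true := by
  intro m
  induction m with
  | zero =>
    intro l hl _
    have : l = [] := List.length_eq_zero_iff.mp (by omega)
    rw [this]; rfl
  | succ m ih =>
    intro l hl h
    have h0 := h 0 (Nat.succ_pos m)
    rw [Nat.mul_zero, List.drop_zero] at h0
    have h1 : (l.drop n).all p = true := by
      apply ih
      · rw [List.length_drop]
        have : n * (m + 1) = n * m + n := Nat.mul_succ n m
        omega
      · intro k hk
        have := h (k + 1) (Nat.succ_lt_succ hk)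
        rw [List.drop_drop]
        have e : n * (k + 1) = n + n * k := by rw [Nat.mul_succ, Nat.add_comm]
        rw [e] at this
        exact this
    have h2 : l = l.take n ++ l.drop n := (List.take_append_drop n l).symm
    rw [h2, List.all_append, h0, h1]
    rfl

/-- the `k`-th chunk of eight relators -/
def chunkOK (k : ℕ) : Bool := ((relsW.drop (8 * k)).take 8).all fixAll

set_option maxRecDepth 100000 in
theorem chunk0 : chunkOK 0 = true := by decide +kernel
set_option maxRecDepth 100000 in
theorem chunk1 : chunkOK 1 = true := by decide +kernel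
set_option maxRecDepth 100000 in
theorem chunk2 : chunkOK 2 = true := by decide +kernel
set_option maxRecDepth 100000 in
theorem chunk3 : chunkOK 3 = true := by decide +kernel
set_option maxRecDepth 100000 in
theorem chunk4 : chunkOK 4 = true := by decide +kernel
set_option maxRecDepth 100000 in
theorem chunk5 : chunkOK 5 = true := by decide +kernel
set_option maxRecDepth 100000 in
theorem chunk6 : chunkOK 6 = true := by decide +kernel
set_option maxRecDepth 100000 in
theorem chunk7 : chunkOK 7 = true := by decide +kernel
set_option maxRecDepth 100000 in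
theorem chunk8 : chunkOK 8 = true := by decide +kernel
set_option maxRecDepth 100000 in
theorem chunk9 : chunkOK 9 = true := by decide +kernel
set_option maxRecDepth 100000 in
theorem chunk10 : chunkOK 10 = true := by decide +kernel
set_option maxRecDepth 100000 in
theorem chunk11 : chunkOK 11 = true := by decide +kernel

set_option maxRecDepth 100000 in
theorem relsW_len : relsW.length ≤ 8 * 12 := by decide +kernel

theorem relsW_ok : relsW.all fixAll = true := by
  apply all_of_chunks fixAll 8 12 relsW relsW_len
  intro k hk
  have : k = 0 ∨ k = 1 ∨ k = 2 ∨ k = 3 ∨ k = 4 ∨ k = 5 ∨ k = 6 ∨ k = 7 ∨ k = 8 ∨ k = 9 ∨ k = 10 ∨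
      k = 11 := by omega
  rcases this with rfl | rfl | rfl | rfl | rfl | rfl | rfl | rfl | rfl | rfl | rfl | rfl
  · exact chunk0
  · exact chunk1
  · exact chunk2
  · exact chunk3
  · exact chunk4
  · exact chunk5
  · exact chunk6
  · exact chunk7
  · exact chunk8
  · exact chunk9
  · exact chunk10
  · exact chunk11

set_option maxRecDepth 100000 in
theorem moves1_ok : movesPt 240 wordZ1 = true := by decide +kernel

set_option maxRecDepth 100000 in
theorem moves2_ok : movesPt 0 wordZ2 = true := by decide +kernel

set_option maxRecDepth 100000 in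
theorem moves12_ok : movesPt 0 (wordZ1 ++ wordZ2) = true := by decide +kernel

set_option maxRecDepth 100000 in
theorem sq1_ok : fixAll (wordZ1 ++ wordZ1) = true := by decide +kernel

set_option maxRecDepth 100000 in
theorem sq2_ok : fixAll (wordZ2 ++ wordZ2) = true := by decide +kernel

end Model

/-- [M] five permutations of `Fin 480` satisfying `relsW` which separate the four central elements -/
theorem exists_model : ∃ p : ℕ → Equiv.Perm (Fin 480), (∀ r ∈ relsW, ev p r = 1) ∧
    ev p wordZ1 ≠ 1 ∧ ev p wordZ2 ≠ 1 ∧ ev p (wordZ1 ++ wordZ2) ≠ 1 ∧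
    ev p (wordZ1 ++ wordZ1) = 1 ∧ ev p (wordZ2 ++ wordZ2) = 1 := by
  refine ⟨Model.mp, ?_, Model.ev_ne_one _ _ Model.moves1_ok, Model.ev_ne_one _ _ Model.moves2_ok,
    Model.ev_ne_one _ _ Model.moves12_ok, Model.ev_eq_one _ Model.sq1_ok, Model.ev_eq_one _ Model.sq2_ok⟩
  intro r hr
  exact Model.ev_eq_one r (List.all_eq_true.mp Model.relsW_ok r hr)

end Cfsg.Agent.Lib.Helper1.O8p
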