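import Cfsg.Agent.Lib.Helper17.O8pB
import Cfsg.Agent.Lib.Helper11.O8pUP
import Cfsg.Agent.Lib.Helper21.O8pP
import Cfsg.Agent.Lib.Helper23.O8pE
import Cfsg.Agent.Lib.Helper23.L34T
import Cfsg.Agent.Lib.Helper5.O8pC
import Cfsg.Agent.Lib.Helper1.O8pModel

/-!
# S2098 (Schur multiplier of `PΩ₈⁺(2)` is `C₂ × C₂`): assembly (helper1)

Method (helper5's S2093 one level up): `Ω₈⁺(2) = ⟨a, b, w₁, w₂, w₃⟩`, all of order `7`; the Sylow `7`-subgroup is
cyclic, so `7` does not divide the order of the kernel of a finite stem extension (S0102), elements of order `7`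
have unique lifts of order `7`, and every relation `u xᵢ u⁻¹ = xⱼ^k` lifts exactly. `relsW` consists only of such
relators; `⟨a, b, w₁⟩` satisfies helper5's `Sp62.relsK` (order `≤ 2903040`) and has index `240` in the group
presented by `relsW` (coset enumeration), so that group has order `≤ 4 |Ω₈⁺(2)|`. The permutation model on
`240 + 240` points shows that the kernel is a four-group.

Pieces: [C] helper5, [B] helper17, [UP] helper11, [P] and [KS22] helper21, [E] helper23, [M] and data helper1
(certificate machinery of helper4 and helper24).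
-/

set_option autoImplicit false

namespace Cfsg.Agent.Lib.Helper1.O8p

open Cfsg Cfsg.H5.TCk

universe u

/-- [F] assembly -/
theorem main {F : Type u} [Field F] [Fintype F] (hF : Fintype.card F = 2) :
    Cfsg.HasSchurMultiplier (Cfsg.POmega F (Cfsg.quadFormPlus 4 F))
      (Multiplicative (ZMod 2 × ZMod 2)) := by
  obtain ⟨g, hg⟩ := exists_tuple hF
  haveI : Finite (Cfsg.POmega F (Cfsg.quadFormPlus 4 F)) :=
    Nat.finite_of_card_ne_zero (by rw [hg.1]; norm_num)
  refine Cfsg.Agent.Lib.Helper7.L34.hasSchurMultiplier_of_card_le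
    (exists_cover_of (fun γ h1 h2 => card_le_of_relsW γ h1 h2) exists_model
      (fun g h1 h2 => commutator_eq_top_of_relsW g h1 h2) g hg) ?_
  intro Γ _ _ σ hσ
  have h4 : Nat.card (Multiplicative (ZMod 2 × ZMod 2)) = 4 := by
    rw [Nat.card_eq_fintype_card, Fintype.card_multiplicative, Fintype.card_prod, ZMod.card]
  rw [h4]
  exact card_ker_le_four_of (fun h h1 h2 => commutator_eq_top_of_relsW h h1 h2)
    (fun δ h1 h2 => card_le_of_relsW δ h1 h2) g hg σ hσ

end Cfsg.Agent.Lib.Helper1.O8p
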