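import Mathlib
import Cfsg.Agent.Lib.Helper1.OBN9

/-!
# Isometries with diagonal `e`-columns are triangular; entries of Siegel transformations
-/

set_option autoImplicit false
set_option linter.unusedSectionVars false

namespace Cfsg.Agent.Lib.Helper1.OBN

open Matrix Cfsg.Agent.Lib.Helper14.MatBN Cfsg.Agent.Lib.Helper14.SpBN Cfsg.Agent.Lib.Helper6
  Cfsg.Agent.Lib.Helper14.TriMono

variable {n : ℕ} {F : Type*} [Field F]

/-- the basis vectors -/
abbrev bv (r : OIdx n) : OIdx n → F := Pi.single r 1

theorem gact_apply (g : OG n F) (s r : OIdx n) :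
    gact (QO n F) g (bv s) r = ((g.1 : GL (OIdx n) F) : Matrix (OIdx n) (OIdx n) F) r s :=
  mulVec_single_apply _ s r

/-- an isometry whose `e`-columns are multiples of the `e`-basis vectors is triangular -/
theorem tri_of_cols (g : OG n F) (d : Fin (n + 1) → F)
    (hg : ∀ j, gact (QO n F) g (bv (eI j)) = d j • bv (eI j)) :
    ((g.1 : GL (OIdx n) F) : Matrix (OIdx n) (OIdx n) F).BlockTriangular (rhoO n) := by
  have hd : ∀ j, d j ≠ 0 := by
    intro j h
    have h1 := hg j
    rw [h, zero_smul, gact_eq_zero_iff] at h1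
    have := congrFun h1 (eI j)
    simp at this
  have hinv : ∀ j, gact (QO n F) g⁻¹ (bv (eI j)) = (d j)⁻¹ • bv (eI j) := by
    intro j
    have h1 : gact (QO n F) g⁻¹ (gact (QO n F) g (bv (eI j))) = bv (eI j) := gact_inv_gact _ g _
    rw [hg j, gact_smul] at h1
    calc gact (QO n F) g⁻¹ (bv (eI j))
        = (d j)⁻¹ • (d j • gact (QO n F) g⁻¹ (bv (eI j))) := by
          rw [smul_smul, inv_mul_cancel₀ (hd j), one_smul]
      _ = (d j)⁻¹ • bv (eI j) := by rw [h1]
  have hrow : ∀ (i : Fin (n + 1)) (s : OIdx n), s ≠ fI i →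
      ((g.1 : GL (OIdx n) F) : Matrix (OIdx n) (OIdx n) F) (fI i) s = 0 := by
    intro i s hs
    have h0 := polar_single_e (gact (QO n F) g (bv s)) i
    rw [← gact_apply, ← h0]
    have h1 : QuadraticMap.polar (⇑(QO n F)) (gact (QO n F) g (bv s)) (bv (eI i)) =
        QuadraticMap.polar (⇑(QO n F)) (gact (QO n F) g (bv s))
          (gact (QO n F) g (gact (QO n F) g⁻¹ (bv (eI i)))) := by
      rw [gact_gact_inv]
    rw [h1, polar_gact, hinv, QuadraticMap.polar_smul_right, polar_single_e, smul_eq_mul]
    show (d i)⁻¹ * (Pi.single s (1 : F) : OIdx n → F) (fI i) = 0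
    rw [Pi.single_eq_of_ne (Ne.symm hs), mul_zero]
  intro r s hrs
  rcases r with u | i | i
  · rcases s with v | j | j
    · exact absurd hrs (lt_irrefl _)
    · rw [← gact_apply, hg j]
      simp
    · exfalso
      simp only [rhoO_x0, rhoO_f] at hrs
      have := j.2; omega
  · rcases s with v | j | j
    · exfalso
      simp only [rhoO_x0, rhoO_e] at hrs
      have := i.2; omega
    · rw [← gact_apply, hg j]
      have hij : j ≠ i := by
        rintro rfl
        exact lt_irrefl _ hrs
      have : (eI i : OIdx n) ≠ eI j := fun h => hij (Sum.inl_injective (Sum.inr_injective h)).symm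
      simp [Pi.single_eq_of_ne this]
    · exfalso
      simp only [rhoO_e, rhoO_f] at hrs
      have := i.2; have := j.2; omega
  · apply hrow
    rintro rfl
    exact lt_irrefl _ hrs

/-- the entries of a Siegel transformation -/
theorem siegIso_entry (u w : OIdx n → F) (hu : QO n F u = 0)
    (huw : QuadraticMap.polar (⇑(QO n F)) u w = 0) (r s : OIdx n) :
    (((siegIso (QO n F) u w hu huw).1 : GL (OIdx n) F) : Matrix (OIdx n) (OIdx n) F) r s =
      (1 : Matrix (OIdx n) (OIdx n) F) r s +
        (QuadraticMap.polar (⇑(QO n F)) w (bv s) - QO n F w * QuadraticMap.polar (⇑(QO n F)) u (bv s)) * u r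
          - QuadraticMap.polar (⇑(QO n F)) u (bv s) * w r := by
  rw [← gact_apply, gact_siegIso]
  simp only [Pi.add_apply, Pi.smul_apply, smul_eq_mul, Matrix.one_apply, Pi.single_apply]
  ring

end Cfsg.Agent.Lib.Helper1.OBN
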