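import Mathlib
import Cfsg.Agent.Lib.Helper1.OBN10

/-!
# Generation of `Ω_{2n+3}(q)` by `B` and `N`: moving basis vectors with the Weyl group
-/

set_option autoImplicit false
set_option linter.unusedSectionVars false

namespace Cfsg.Agent.Lib.Helper1.OBN

open Matrix Cfsg.Agent.Lib.Helper14.MatBN Cfsg.Agent.Lib.Helper14.SpBN Cfsg.Agent.Lib.Helper6
  Cfsg.Agent.Lib.Helper14.TriMono

variable {n : ℕ} {F : Type*} [Field F]

theorem oMono_mulVec_single {A : Matrix (OIdx n) (OIdx n) F} {π : Equiv.Perm (OIdx n)}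
    (hA : IsMono A π) (y : OIdx n) :
    A *ᵥ Pi.single y 1 = A (π y) y • Pi.single (π y) 1 := by
  rw [mulVec_single_one]
  funext x
  rw [Matrix.col_apply, Pi.smul_apply, smul_eq_mul]
  by_cases hx : x = π y
  · rw [hx, Pi.single_eq_same, mul_one]
  · rw [hA x y hx, Pi.single_eq_of_ne hx, mul_zero]

/-- the action of `Ω` on vectors -/
noncomputable abbrev av (g : OmG n F) (x : OIdx n → F) : OIdx n → F := gact (QO n F) g.1 x

theorem av_eq (g : OmG n F) (x : OIdx n → F) : av g x = matO n F g *ᵥ x := rfl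

theorem av_mul (g h : OmG n F) (x : OIdx n → F) : av (g * h) x = av g (av h x) :=
  gact_mul _ g.1 h.1 x

theorem av_one (x : OIdx n → F) : av (1 : OmG n F) x = x := gact_one _ x

theorem av_smul (g : OmG n F) (c : F) (x : OIdx n → F) : av g (c • x) = c • av g x :=
  gact_smul _ g.1 c x

/-- `l` stabilises the lines `⟨e_j⟩`, `j < i` -/
def StabE (i : ℕ) (l : OmG n F) : Prop :=
  ∀ j : Fin (n + 1), j.val < i → ∃ c : F, av l (bv (eI j)) = c • bv (eI j)

theorem stabE_one (i : ℕ) : StabE i (1 : OmG n F) := fun j _ => ⟨1, by rw [av_one, one_smul]⟩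

theorem StabE.mul {i : ℕ} {l m : OmG n F} (hl : StabE i l) (hm : StabE i m) : StabE i (l * m) := by
  intro j hj
  obtain ⟨c, hc⟩ := hm j hj
  obtain ⟨d, hd⟩ := hl j hj
  exact ⟨c * d, by rw [av_mul, hc, av_smul, hd, smul_smul]⟩

theorem stab_ne (l : OmG n F) (j : Fin (n + 1)) (c : F) (h : av l (bv (eI j)) = c • bv (eI j)) :
    c ≠ 0 := by
  rintro rfl
  rw [zero_smul] at h
  have h1 := (gact_eq_zero_iff _ l.1 _).mp h
  have := congrFun h1 (eI j)
  simp at this

section Gen

variable [Fintype F] (h2 : (2 : F) ≠ 0) (p : ℕ) [Fact p.Prime] [CharP F p]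

/-- the subgroup generated by the triangular and the monomial elements -/
noncomputable def LL : Subgroup (OmG n F) := (oSetup h2 p).Bor ⊔ (oSetup (n := n) h2 p).Nn

theorem mem_LL_of_tri (g : OmG n F) (hg : (matO n F g).BlockTriangular (rhoO n)) : g ∈ LL h2 p :=
  (le_sup_left : (oSetup h2 p).Bor ≤ LL h2 p) hg

theorem sKO_mem_LL (k : Fin n ⊕ Unit) : sKO h2 p k ∈ LL (n := n) h2 p :=
  (le_sup_right : (oSetup h2 p).Nn ≤ LL h2 p) ((oSetup h2 p).s_mem_Nn k)

/-- the reflections permute the basis vectors up to scalars -/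
theorem av_sKO (k : Fin n ⊕ Unit) (y : OIdx n) :
    ∃ c : F, av (sKO h2 p k) (bv y) = c • bv (piKO k y) :=
  ⟨_, oMono_mulVec_single (o_s_mono h2 p k) y⟩

theorem stabE_sS (i : ℕ) (k : Fin n) (hk : i ≤ k.val) : StabE i (sKO h2 p (Sum.inl k)) := by
  intro j hj
  obtain ⟨c, hc⟩ := av_sKO h2 p (Sum.inl k) (eI j)
  refine ⟨c, ?_⟩
  rw [hc, piKO_S_e, Equiv.swap_apply_of_ne_of_ne]
  · intro h
    rw [h] at hj
    simp at hj
    omega
  · intro h
    rw [h] at hj
    simp at hj
    omega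

theorem stabE_sL (i : ℕ) (hi : i ≤ n) : StabE i (sKO (n := n) h2 p (Sum.inr ())) := by
  intro j hj
  obtain ⟨c, hc⟩ := av_sKO h2 p (Sum.inr ()) (eI j)
  refine ⟨c, ?_⟩
  rw [hc, piKO_L_e, if_neg]
  intro h
  rw [h] at hj
  simp at hj
  omega

/-- `v` can be moved to a multiple of `e_i` by an element of `⟨B, N⟩` stabilising the lines
`⟨e_j⟩`, `j < i` -/
def Good (i : Fin (n + 1)) (v : OIdx n → F) : Prop :=
  ∃ l ∈ LL h2 p, StabE i.val l ∧ ∃ d : F, av l v = d • bv (eI i)

variable {h2 p}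

theorem good_of_move {i : Fin (n + 1)} {v : OIdx n → F} (m : OmG n F) (hm : m ∈ LL h2 p)
    (hs : StabE i.val m) (h : Good h2 p i (av m v)) : Good h2 p i v := by
  obtain ⟨l, hl, hls, d, hd⟩ := h
  exact ⟨l * m, (LL h2 p).mul_mem hl hm, hls.mul hs, d, by rw [av_mul, hd]⟩

theorem good_smul {i : Fin (n + 1)} {v : OIdx n → F} (c : F) (h : Good h2 p i v) :
    Good h2 p i (c • v) := by
  obtain ⟨l, hl, hls, d, hd⟩ := h
  exact ⟨l, hl, hls, c * d, by rw [av_smul, hd, smul_smul]⟩

theorem good_e_self (i : Fin (n + 1)) : Good h2 p i (bv (eI i)) :=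
  ⟨1, (LL h2 p).one_mem, stabE_one _, 1, by rw [av_one, one_smul]⟩

theorem good_e (i : Fin (n + 1)) : ∀ (d : ℕ) (j : Fin (n + 1)), j.val = i.val + d →
    Good h2 p i (bv (eI j)) := by
  intro d
  induction d with
  | zero =>
    intro j hj
    have : j = i := Fin.ext (by simpa using hj)
    rw [this]
    exact good_e_self i
  | succ d ih =>
    intro j hj
    have hlt : i.val + d < n := by have := j.2; omega
    set k : Fin n := ⟨i.val + d, hlt⟩ with hk
    have hjk : j = k.succ := Fin.ext (by simp [hk, hj]; omega)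
    rw [hjk]
    apply good_of_move (sKO h2 p (Sum.inl k)) (sKO_mem_LL h2 p _)
      (stabE_sS h2 p _ k (by simp [hk]))
    obtain ⟨c, hc⟩ := av_sKO h2 p (Sum.inl k) (eI k.succ)
    rw [hc, piKO_S_e, Equiv.swap_apply_right]
    apply good_smul
    apply ih
    simp [hk]

theorem good_f (i : Fin (n + 1)) : ∀ (d : ℕ) (j : Fin (n + 1)), j.val + d = n → i ≤ j →
    Good h2 p i (bv (fI j)) := by
  intro d
  induction d with
  | zero =>
    intro j hj hij
    have : j = Fin.last n := Fin.ext (by simpa using hj)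
    rw [this]
    apply good_of_move (sKO h2 p (Sum.inr ())) (sKO_mem_LL h2 p _)
      (stabE_sL h2 p _ (by have := i.2; omega))
    obtain ⟨c, hc⟩ := av_sKO (n := n) h2 p (Sum.inr ()) (fI (Fin.last n))
    rw [hc, piKO_L_f, if_pos rfl]
    apply good_smul
    exact good_e i (n - i.val) (Fin.last n) (by have := i.2; simp; omega)
  | succ d ih =>
    intro j hj hij
    have hlt : j.val < n := by omega
    set k : Fin n := ⟨j.val, hlt⟩ with hk
    have hjk : j = k.castSucc := Fin.ext rfl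
    rw [hjk]
    apply good_of_move (sKO h2 p (Sum.inl k)) (sKO_mem_LL h2 p _)
      (stabE_sS h2 p _ k (by simpa [hk] using hij))
    obtain ⟨c, hc⟩ := av_sKO h2 p (Sum.inl k) (fI k.castSucc)
    rw [hc, piKO_S_f, Equiv.swap_apply_left]
    apply good_smul
    apply ih
    · simp [hk]; omega
    · rw [Fin.le_iff_val_le_val] at hij ⊢
      simp [hk]; omega

end Gen

end Cfsg.Agent.Lib.Helper1.OBN
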