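import Mathlib
import Cfsg.Agent.Lib.Helper1.OBN11

/-!
# Generation of `Ω_{2n+3}(q)` by `B` and `N`: triangular Siegel transformations
-/

set_option autoImplicit false
set_option linter.unusedSectionVars false

namespace Cfsg.Agent.Lib.Helper1.OBN

open Matrix Cfsg.Agent.Lib.Helper14.MatBN Cfsg.Agent.Lib.Helper14.SpBN Cfsg.Agent.Lib.Helper6
  Cfsg.Agent.Lib.Helper14.TriMono

variable {n : ℕ} {F : Type*} [Field F]

theorem bv_same (s : OIdx n) : (bv s : OIdx n → F) s = 1 := Pi.single_eq_same _ _

theorem bv_ne {r s : OIdx n} (h : r ≠ s) : (bv s : OIdx n → F) r = 0 := Pi.single_eq_of_ne h _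

theorem polar_bv_e (j : Fin (n + 1)) (x : OIdx n → F) :
    QuadraticMap.polar (⇑(QO n F)) (bv (eI j)) x = x (fI j) := by
  rw [QuadraticMap.polar_comm, polar_single_e]

theorem polar_bv_f (j : Fin (n + 1)) (x : OIdx n → F) :
    QuadraticMap.polar (⇑(QO n F)) (bv (fI j)) x = x (eI j) := by
  rw [QuadraticMap.polar_comm, polar_single_f]

theorem QO_comb (j : Fin (n + 1)) (b c : F) :
    QO n F (b • bv (fI j) + c • bv (eI j)) = b * c := by
  rw [QuadraticMap.map_add (QO n F), QuadraticMap.map_smul (QO n F), QuadraticMap.map_smul (QO n F),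
    QO_single_f, QO_single_e,
    QuadraticMap.polar_smul_left, QuadraticMap.polar_smul_right, polar_bv_f, bv_same]
  simp

section Sieg1

variable (j : Fin (n + 1)) (w : OIdx n → F) (hw : ∀ l, l ≤ j → w (fI l) = 0)

include hw in
theorem sieg1_polar : QuadraticMap.polar (⇑(QO n F)) (bv (eI j)) w = 0 := by
  rw [polar_bv_e]
  exact hw j le_rfl

/-- a triangular Siegel transformation -/
noncomputable def sieg1 : OG n F :=
  siegIso (QO n F) (bv (eI j)) w (QO_single_e j) (sieg1_polar j w hw)

theorem gact_sieg1 (x : OIdx n → F) :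
    gact (QO n F) (sieg1 j w hw) x =
      x + (QuadraticMap.polar (⇑(QO n F)) w x - QO n F w * x (fI j)) • bv (eI j) +
        (-(x (fI j))) • w := by
  unfold sieg1
  rw [gact_siegIso, polar_bv_e]

theorem sieg1_entry (r s : OIdx n) :
    (((sieg1 j w hw).1 : GL (OIdx n) F) : Matrix (OIdx n) (OIdx n) F) r s =
      (1 : Matrix (OIdx n) (OIdx n) F) r s +
        (QuadraticMap.polar (⇑(QO n F)) w (bv s) - QO n F w * (bv s : OIdx n → F) (fI j)) *
          (bv (eI j) : OIdx n → F) r - (bv s : OIdx n → F) (fI j) * w r := by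
  unfold sieg1
  rw [siegIso_entry, polar_bv_e]

theorem sieg1_tri :
    (((sieg1 j w hw).1 : GL (OIdx n) F) : Matrix (OIdx n) (OIdx n) F).BlockTriangular (rhoO n) := by
  intro r s hrs
  have hne : r ≠ s := by
    rintro rfl
    exact lt_irrefl _ hrs
  rw [sieg1_entry, Matrix.one_apply_ne hne, zero_add]
  by_cases hr : r = eI j
  · subst hr
    rcases s with u | l | l
    · exfalso
      simp only [rhoO_x0, rhoO_e] at hrs
      have := j.2; omega
    · have hlj : l < j := by simpa using hrs
      rw [polar_single_e, hw l hlj.le, bv_ne (r := fI j) (s := eI l) (by simp)]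
      simp
    · exfalso
      simp only [rhoO_f, rhoO_e] at hrs
      have := j.2; have := l.2; omega
  · rw [bv_ne hr, mul_zero, zero_sub, neg_eq_zero]
    by_cases hs : s = fI j
    · subst hs
      rcases r with u | l | l
      · exfalso
        simp only [rhoO_x0, rhoO_f] at hrs
        have := j.2; omega
      · exfalso
        simp only [rhoO_f, rhoO_e] at hrs
        have := j.2; have := l.2; omega
      · have hlj : l < j := by
          simp only [rhoO_f] at hrs
          have := j.2; have := l.2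
          rw [Fin.lt_def]; omega
        rw [hw l hlj.le, mul_zero]
    · rw [bv_ne (Ne.symm hs), zero_mul]

theorem sieg1_diag (r : OIdx n) :
    (((sieg1 j w hw).1 : GL (OIdx n) F) : Matrix (OIdx n) (OIdx n) F) r r = 1 := by
  rw [sieg1_entry, Matrix.one_apply_eq]
  by_cases hr : r = eI j
  · subst hr
    rw [polar_single_e, hw j le_rfl, bv_ne (r := fI j) (s := eI j) (by simp)]
    simp
  · rw [bv_ne hr, mul_zero, add_zero]
    by_cases hs : r = fI j
    · subst hs
      rw [hw j le_rfl, mul_zero, sub_zero]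
    · rw [bv_ne (Ne.symm hs), zero_mul, sub_zero]

theorem sieg1_fix (l : Fin (n + 1)) (hl : l ≤ j) :
    gact (QO n F) (sieg1 j w hw) (bv (eI l)) = bv (eI l) := by
  rw [gact_sieg1, polar_single_e, hw l hl, bv_ne (r := fI j) (s := eI l) (by simp)]
  simp

end Sieg1

section Sieg2

variable (j : Fin (n + 1)) (u : OIdx n → F) (hf : ∀ l, u (fI l) = 0) (h0 : u x0 = 0)
  (he : ∀ l, j ≤ l → u (eI l) = 0)

include hf h0 in
theorem sieg2_Q : QO n F u = 0 := by
  rw [QO_apply]
  unfold hyp
  have : u (Sum.inl ()) = 0 := h0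
  rw [this]
  simp only [ne_eq, OfNat.ofNat_ne_zero, not_false_eq_true, zero_pow, zero_add]
  apply Finset.sum_eq_zero
  intro l _
  have := hf l
  rw [show u (Sum.inr (Sum.inr l)) = 0 from this, mul_zero]

include hf h0 in
theorem sieg2_polar_gen (x : OIdx n → F) :
    QuadraticMap.polar (⇑(QO n F)) u x = ∑ l : Fin (n + 1), u (eI l) * x (fI l) := by
  rw [polar_QO]
  have : u (Sum.inl ()) = 0 := h0
  rw [this, mul_zero, zero_mul, zero_add]
  apply Finset.sum_congr rfl
  intro l _
  rw [hf l, zero_mul, add_zero]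

include he in
theorem sieg2_polar : QuadraticMap.polar (⇑(QO n F)) u (-bv (fI j)) = 0 := by
  rw [QuadraticMap.polar_neg_right, polar_single_f, he j le_rfl, neg_zero]

/-- a triangular Siegel transformation -/
noncomputable def sieg2 : OG n F :=
  siegIso (QO n F) u (-bv (fI j)) (sieg2_Q u hf h0) (sieg2_polar j u he)

theorem gact_sieg2 (x : OIdx n → F) :
    gact (QO n F) (sieg2 j u hf h0 he) x =
      x - x (eI j) • u + QuadraticMap.polar (⇑(QO n F)) u x • bv (fI j) := by
  unfold sieg2
  rw [gact_siegIso, QuadraticMap.map_neg, QO_single_f, QuadraticMap.polar_neg_left, polar_bv_f]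
  funext r
  simp only [Pi.add_apply, Pi.sub_apply, Pi.smul_apply, Pi.neg_apply, smul_eq_mul]
  ring

theorem sieg2_entry (r s : OIdx n) :
    (((sieg2 j u hf h0 he).1 : GL (OIdx n) F) : Matrix (OIdx n) (OIdx n) F) r s =
      (bv s : OIdx n → F) r - (bv s : OIdx n → F) (eI j) * u r +
        QuadraticMap.polar (⇑(QO n F)) u (bv s) * (bv (fI j) : OIdx n → F) r := by
  rw [← gact_apply, gact_sieg2]
  simp only [Pi.add_apply, Pi.sub_apply, Pi.smul_apply, smul_eq_mul]

theorem sieg2_tri :
    (((sieg2 j u hf h0 he).1 : GL (OIdx n) F) : Matrix (OIdx n) (OIdx n) F).BlockTriangular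
      (rhoO n) := by
  intro r s hrs
  have hne : r ≠ s := by
    rintro rfl
    exact lt_irrefl _ hrs
  rw [sieg2_entry, bv_ne hne, zero_sub]
  have h1 : (bv s : OIdx n → F) (eI j) * u r = 0 := by
    by_cases hs : s = eI j
    · subst hs
      rcases r with a | l | l
      · rw [show u (Sum.inl a) = 0 from h0, mul_zero]
      · have hlj : j ≤ l := by
          have : j < l := by simpa using hrs
          exact this.le
        rw [he l hlj, mul_zero]
      · rw [hf l, mul_zero]
    · rw [bv_ne (Ne.symm hs), zero_mul]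
  have h2 : QuadraticMap.polar (⇑(QO n F)) u (bv s) * (bv (fI j) : OIdx n → F) r = 0 := by
    by_cases hr : r = fI j
    · subst hr
      rcases s with a | l | l
      · rw [polar_single_x0, h0, mul_zero, zero_mul]
      · rw [polar_single_e, hf l, zero_mul]
      · rw [polar_single_f]
        have hlj : j ≤ l := by
          simp only [rhoO_f] at hrs
          have := j.2; have := l.2
          rw [Fin.le_def]; omega
        rw [he l hlj, zero_mul]
    · rw [bv_ne hr, mul_zero]
  rw [h1, h2]
  simp

theorem sieg2_diag (r : OIdx n) :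
    (((sieg2 j u hf h0 he).1 : GL (OIdx n) F) : Matrix (OIdx n) (OIdx n) F) r r = 1 := by
  rw [sieg2_entry, bv_same]
  have h1 : (bv r : OIdx n → F) (eI j) * u r = 0 := by
    by_cases hs : r = eI j
    · subst hs
      rw [he j le_rfl, mul_zero]
    · rw [bv_ne (Ne.symm hs), zero_mul]
  have h2 : QuadraticMap.polar (⇑(QO n F)) u (bv r) * (bv (fI j) : OIdx n → F) r = 0 := by
    by_cases hr : r = fI j
    · subst hr
      rw [polar_single_f, he j le_rfl, zero_mul]
    · rw [bv_ne hr, mul_zero]
  rw [h1, h2]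
  simp

theorem sieg2_fix (l : Fin (n + 1)) (hl : l ≠ j) :
    gact (QO n F) (sieg2 j u hf h0 he) (bv (eI l)) = bv (eI l) := by
  rw [gact_sieg2, polar_single_e, hf l, bv_ne (r := eI j) (s := eI l) (by simpa using hl.symm)]
  simp

end Sieg2

end Cfsg.Agent.Lib.Helper1.OBN
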