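import Mathlib
import Cfsg.Agent.Lib.Helper1.OBN12

/-!
# Generation of `Ω_{2n+3}(q)` by `B` and `N`
-/

set_option autoImplicit false
set_option linter.unusedSectionVars false

namespace Cfsg.Agent.Lib.Helper1.OBN

open Matrix Cfsg.Agent.Lib.Helper14.MatBN Cfsg.Agent.Lib.Helper14.SpBN Cfsg.Agent.Lib.Helper6
  Cfsg.Agent.Lib.Helper14.TriMono

variable {n : ℕ} {F : Type*} [Field F] [Fintype F] {h2 : (2 : F) ≠ 0} {p : ℕ} [Fact p.Prime]
  [CharP F p]

theorem good_case1 (i : Fin (n + 1)) (v : OIdx n → F) (hQ : QO n F v = 0)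
    (hv : ∀ l, l < i → v (fI l) = 0) (j : Fin (n + 1)) (hj : v (fI j) ≠ 0)
    (hmin : ∀ l, l < j → v (fI l) = 0) : Good h2 p i v := by
  have hij : i ≤ j := by
    by_contra hcon
    exact hj (hv j (not_le.mp hcon))
  set b := v (fI j) with hb
  set w : OIdx n → F := b⁻¹ • (v - b • bv (fI j)) with hwdef
  have hw : ∀ l, l ≤ j → w (fI l) = 0 := by
    intro l hl
    rcases hl.lt_or_eq with h | h
    · simp only [hwdef, Pi.smul_apply, Pi.sub_apply, smul_eq_mul]
      rw [hmin l h, bv_ne (r := fI l) (s := fI j) (by simpa using h.ne)]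
      simp
    · subst h
      simp only [hwdef, Pi.smul_apply, Pi.sub_apply, smul_eq_mul]
      rw [bv_same, ← hb]
      simp
  have hΩ : sieg1 j w hw ∈ Cfsg.Omega F ⇑(QO n F) :=
    mem_Omega_of_unitri h2 p _ (sieg1_tri j w hw) (sieg1_diag j w hw)
  set m : OmG n F := ⟨sieg1 j w hw, hΩ⟩ with hm
  have hmL : m ∈ LL h2 p := mem_LL_of_tri h2 p m (sieg1_tri j w hw)
  have hmS : StabE i.val m := by
    intro l hl
    refine ⟨1, ?_⟩
    rw [one_smul]
    exact sieg1_fix j w hw l (le_trans (le_of_lt (Fin.lt_def.mpr hl)) hij)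
  apply good_of_move m hmL hmS
  have hval : ∃ c : F, av m v = b • bv (fI j) + c • bv (eI j) := by
    refine ⟨QuadraticMap.polar (⇑(QO n F)) w v - QO n F w * v (fI j), ?_⟩
    show gact (QO n F) (sieg1 j w hw) v = _
    rw [gact_sieg1, ← hb]
    funext r
    simp only [hwdef, Pi.add_apply, Pi.smul_apply, Pi.sub_apply, smul_eq_mul]
    field_simp
    ring
  obtain ⟨c, hc⟩ := hval
  have hc0 : c = 0 := by
    have h1 : QO n F (av m v) = QO n F v := Q_gact _ m.1 v
    rw [hc, QO_comb, hQ] at h1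
    rcases mul_eq_zero.mp h1 with h | h
    · exact absurd h hj
    · exact h
  rw [hc, hc0, zero_smul, add_zero]
  apply good_smul
  exact good_f i (n - j.val) j (by have := j.2; omega) hij

theorem good_case2 (i : Fin (n + 1)) (v : OIdx n → F) (hf : ∀ l, v (fI l) = 0) (h0 : v x0 = 0)
    (j : Fin (n + 1)) (hij : i ≤ j) (hj : v (eI j) ≠ 0)
    (hmax : ∀ l, j < l → v (eI l) = 0) : Good h2 p i v := by
  set a := v (eI j) with ha
  set u : OIdx n → F := a⁻¹ • (v - a • bv (eI j)) with hudef
  have huf : ∀ l, u (fI l) = 0 := by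
    intro l
    simp only [hudef, Pi.smul_apply, Pi.sub_apply, smul_eq_mul]
    rw [hf l, bv_ne (r := fI l) (s := eI j) (by simp)]
    simp
  have hu0 : u x0 = 0 := by
    simp only [hudef, Pi.smul_apply, Pi.sub_apply, smul_eq_mul]
    rw [h0, bv_ne (r := x0) (s := eI j) (by simp)]
    simp
  have hue : ∀ l, j ≤ l → u (eI l) = 0 := by
    intro l hl
    rcases hl.lt_or_eq with h | h
    · simp only [hudef, Pi.smul_apply, Pi.sub_apply, smul_eq_mul]
      rw [hmax l h, bv_ne (r := eI l) (s := eI j) (by simpa using h.ne')]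
      simp
    · subst h
      simp only [hudef, Pi.smul_apply, Pi.sub_apply, smul_eq_mul]
      rw [bv_same, ← ha]
      simp
  have hΩ : sieg2 j u huf hu0 hue ∈ Cfsg.Omega F ⇑(QO n F) :=
    mem_Omega_of_unitri h2 p _ (sieg2_tri j u huf hu0 hue) (sieg2_diag j u huf hu0 hue)
  set m : OmG n F := ⟨sieg2 j u huf hu0 hue, hΩ⟩ with hm
  have hmL : m ∈ LL h2 p := mem_LL_of_tri h2 p m (sieg2_tri j u huf hu0 hue)
  have hmS : StabE i.val m := by
    intro l hl
    refine ⟨1, ?_⟩
    rw [one_smul]
    apply sieg2_fix j u huf hu0 hue l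
    intro h
    rw [h] at hl
    exact absurd (Fin.le_def.mp hij) (not_le.mpr hl)
  apply good_of_move m hmL hmS
  have hval : av m v = a • bv (eI j) := by
    show gact (QO n F) (sieg2 j u huf hu0 hue) v = _
    rw [gact_sieg2, sieg2_polar_gen u huf hu0, ← ha]
    have : ∑ l : Fin (n + 1), u (eI l) * v (fI l) = 0 := by
      apply Finset.sum_eq_zero
      intro l _
      rw [hf l, mul_zero]
    rw [this, zero_smul, add_zero]
    funext r
    simp only [hudef, Pi.smul_apply, Pi.sub_apply, smul_eq_mul]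
    field_simp
    ring
  rw [hval]
  apply good_smul
  exact good_e i (j.val - i.val) j (by have := Fin.le_def.mp hij; omega)

theorem good_of_singular (i : Fin (n + 1)) (v y : OIdx n → F) (hQ : QO n F v = 0)
    (hv : ∀ l, l < i → v (fI l) = 0) (hy : ∀ l, l < i → y (fI l) = 0)
    (hvy : QuadraticMap.polar (⇑(QO n F)) v y ≠ 0) : Good h2 p i v := by
  classical
  by_cases hex : ∃ j, v (fI j) ≠ 0
  · have hne : (Finset.univ.filter (fun l => v (fI l) ≠ 0)).Nonempty := by
      obtain ⟨l, hl⟩ := hex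
      exact ⟨l, by simpa using hl⟩
    obtain ⟨j, hbj, hmin⟩ : ∃ j, v (fI j) ≠ 0 ∧ ∀ l, l < j → v (fI l) = 0 := by
      refine ⟨(Finset.univ.filter (fun l => v (fI l) ≠ 0)).min' hne, ?_, ?_⟩
      · have := Finset.min'_mem _ hne
        simpa using this
      · intro l hl
        by_contra hne'
        have : (Finset.univ.filter (fun l => v (fI l) ≠ 0)).min' hne ≤ l :=
          Finset.min'_le _ l (by simpa using hne')
        exact absurd hl (not_lt.mpr this)
    exact good_case1 i v hQ hv j hbj hmin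
  · push Not at hex
    have h0 : v x0 = 0 := by
      have h1 := hQ
      rw [QO_apply] at h1
      unfold hyp at h1
      have h3 : ∑ l : Fin (n + 1), v (Sum.inr (Sum.inl l)) * v (Sum.inr (Sum.inr l)) = 0 := by
        apply Finset.sum_eq_zero
        intro l _
        rw [show v (Sum.inr (Sum.inr l)) = 0 from hex l, mul_zero]
      rw [h3, add_zero] at h1
      exact pow_eq_zero_iff (two_ne_zero) |>.mp h1
    have hexe : ∃ j, i ≤ j ∧ v (eI j) ≠ 0 := by
      by_contra hcon
      push Not at hcon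
      apply hvy
      rw [polar_QO, show v (Sum.inl ()) = 0 from h0, mul_zero, zero_mul, zero_add]
      apply Finset.sum_eq_zero
      intro l _
      rw [hex l, zero_mul, add_zero]
      by_cases hl : l < i
      · rw [hy l hl, mul_zero]
      · rw [hcon l (not_lt.mp hl), zero_mul]
    obtain ⟨j0, hij0, hj0⟩ := hexe
    have hne : (Finset.univ.filter (fun l => v (eI l) ≠ 0)).Nonempty :=
      ⟨j0, by simpa using hj0⟩
    obtain ⟨j, hj0j, haj, hmax⟩ : ∃ j, j0 ≤ j ∧ v (eI j) ≠ 0 ∧ ∀ l, j < l → v (eI l) = 0 := by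
      refine ⟨(Finset.univ.filter (fun l => v (eI l) ≠ 0)).max' hne, ?_, ?_, ?_⟩
      · exact Finset.le_max' _ j0 (by simpa using hj0)
      · have := Finset.max'_mem _ hne
        simpa using this
      · intro l hl
        by_contra hne'
        have : l ≤ (Finset.univ.filter (fun l => v (eI l) ≠ 0)).max' hne :=
          Finset.le_max' _ l (by simpa using hne')
        exact absurd hl (not_lt.mpr this)
    exact good_case2 i v hex h0 j (le_trans hij0 hj0j) haj hmax

/-- column reduction -/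
theorem exists_stab (g : OmG n F) : ∀ i : ℕ, i ≤ n + 1 → ∃ l ∈ LL h2 p, StabE i (l * g) := by
  intro i
  induction i with
  | zero =>
    intro _
    exact ⟨1, (LL h2 p).one_mem, fun j hj => absurd hj (Nat.not_lt_zero _)⟩
  | succ i ih =>
    intro hi
    obtain ⟨l0, hl0, hs0⟩ := ih (by omega)
    set g' := l0 * g with hg'
    set ii : Fin (n + 1) := ⟨i, by omega⟩ with hii
    set v := av g' (bv (eI ii)) with hvdef
    set y := av g' (bv (fI ii)) with hydef
    have hQ : QO n F v = 0 := by
      rw [hvdef, show QO n F (av g' (bv (eI ii))) = QO n F (bv (eI ii)) from Q_gact _ g'.1 _,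
        QO_single_e]
    have key : ∀ (x : OIdx n → F) (l : Fin (n + 1)), l < ii →
        QuadraticMap.polar (⇑(QO n F)) x (bv (eI l)) = 0 → av g' x (fI l) = 0 := by
      intro x l hl hx
      obtain ⟨c, hc⟩ := hs0 l (Fin.lt_def.mp hl)
      have hc0 := stab_ne g' l c hc
      have h1 : QuadraticMap.polar (⇑(QO n F)) (av g' x) (av g' (bv (eI l))) =
          QuadraticMap.polar (⇑(QO n F)) x (bv (eI l)) := polar_gact _ g'.1 _ _
      rw [hc, QuadraticMap.polar_smul_right, polar_single_e, hx, smul_eq_mul] at h1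
      rcases mul_eq_zero.mp h1 with h | h
      · exact absurd h hc0
      · exact h
    have hv : ∀ l, l < ii → v (fI l) = 0 := by
      intro l hl
      apply key _ l hl
      rw [polar_single_e, bv_ne (r := fI l) (s := eI ii) (by simp)]
    have hy : ∀ l, l < ii → y (fI l) = 0 := by
      intro l hl
      apply key _ l hl
      rw [polar_single_e, bv_ne (r := fI l) (s := fI ii) (by simpa using hl.ne)]
    have hvy : QuadraticMap.polar (⇑(QO n F)) v y ≠ 0 := by
      rw [hvdef, hydef, show QuadraticMap.polar (⇑(QO n F)) (av g' (bv (eI ii))) (av g' (bv (fI ii))) =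
        QuadraticMap.polar (⇑(QO n F)) (bv (eI ii)) (bv (fI ii)) from polar_gact _ g'.1 _ _,
        polar_single_f, bv_same]
      exact one_ne_zero
    obtain ⟨l1, hl1, hs1, d, hd⟩ := good_of_singular (h2 := h2) (p := p) ii v y hQ hv hy hvy
    refine ⟨l1 * l0, (LL h2 p).mul_mem hl1 hl0, ?_⟩
    rw [mul_assoc, ← hg']
    intro j hj
    rcases Nat.lt_succ_iff_lt_or_eq.mp hj with h | h
    · obtain ⟨c, hc⟩ := hs0 j h
      obtain ⟨c', hc'⟩ := hs1 j h
      exact ⟨c * c', by rw [av_mul, hc, av_smul, hc', smul_smul]⟩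
    · have hj' : j = ii := Fin.ext h
      rw [hj']
      exact ⟨d, by rw [av_mul, ← hvdef, hd]⟩

variable (h2 p)

/-- **Generation**: `Ω_{2n+3}(q)` is generated by its triangular and monomial subgroups. -/
theorem o_hgen : (oSetup h2 p).Bor ⊔ (oSetup (n := n) h2 p).Nn = ⊤ := by
  rw [eq_top_iff]
  intro g _
  obtain ⟨l, hl, hs⟩ := exists_stab (h2 := h2) (p := p) g (n + 1) le_rfl
  have hall : ∀ j : Fin (n + 1), ∃ c : F, av (l * g) (bv (eI j)) = c • bv (eI j) :=
    fun j => hs j j.2
  choose d hd using hall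
  have htri := tri_of_cols (l * g).1 d hd
  have hmem : l * g ∈ LL h2 p := mem_LL_of_tri h2 p _ htri
  have hg : g = l⁻¹ * (l * g) := by group
  rw [hg]
  exact (LL h2 p).mul_mem ((LL h2 p).inv_mem hl) hmem

end Cfsg.Agent.Lib.Helper1.OBN
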