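import Mathlib
import Cfsg.Agent.Lib.Helper1.OBN13

/-!
# The Steinberg character of `PΩ_{2n+3}(q)`, `q` odd
-/

set_option autoImplicit false
set_option linter.unusedSectionVars false

namespace Cfsg.Agent.Lib.Helper1.OBN

open Matrix Cfsg.Agent.Lib.Helper14.MatBN Cfsg.Agent.Lib.Helper14.SpBN Cfsg.Agent.Lib.Helper6
  Cfsg.Agent.Lib.Helper14.TriMono

variable {n : ℕ} {F : Type*} [Field F] [Fintype F]

/-- the Steinberg character of `PΩ_{2n+3}(q)` for the form `QO` -/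
theorem steinberg_QO (h2 : (2 : F) ≠ 0) (p : ℕ) [Fact p.Prime] [CharP F p] :
    ∃ χ : Cfsg.POmega F ⇑(QO n F) → ℂ, Cfsg.IsIrrCharacter (Cfsg.POmega F ⇑(QO n F)) χ ∧
      ∀ P : Sylow p (Cfsg.POmega F ⇑(QO n F)), χ 1 = Nat.card P ∧
        ∀ x : Cfsg.POmega F ⇑(QO n F), x ∈ P → x ≠ 1 → χ x = 0 := by
  classical
  have : Fintype (OmG n F) := Fintype.ofFinite _
  exact (oSetup (n := n) h2 p).exists_steinberg p (o_hgen h2 p) (fun u v h => o_hadj u v h)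
    (fun u v h => o_hconn u v h) (fun b hb => o_hdiag h2 p b hb)

/-- the Steinberg character of `PΩ_{2n+3}(q)` -/
theorem steinberg_quadFormOdd (h2 : (2 : F) ≠ 0) (p : ℕ) [Fact p.Prime] [CharP F p] :
    ∃ χ : Cfsg.POmega F (Cfsg.quadFormOdd (n + 1) F) → ℂ,
      Cfsg.IsIrrCharacter (Cfsg.POmega F (Cfsg.quadFormOdd (n + 1) F)) χ ∧
      ∀ P : Sylow p (Cfsg.POmega F (Cfsg.quadFormOdd (n + 1) F)), χ 1 = Nat.card P ∧
        ∀ x : Cfsg.POmega F (Cfsg.quadFormOdd (n + 1) F), x ∈ P → x ≠ 1 → χ x = 0 := by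
  have h := steinberg_QO (n := n) h2 p
  have hcoe : ⇑(QO n F) = Cfsg.quadFormOdd (n + 1) F := funext (QOdd_apply F (n + 1))
  rw [hcoe] at h
  exact h

end Cfsg.Agent.Lib.Helper1.OBN
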