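import Mathlib
import Cfsg.Prelude.Def_GeometricClasses

/-!
# Vocabulary for the EVEN-DIMENSIONAL ORTHOGONAL front (helper1, corollary architect; hub architects helper14 / helper19)

Rows S5826 (`Ω₈⁻`), S5847 (`Ω₁₀⁺`), S5850 (`Ω₁₀⁻`), S5871 (`Ω₁₂⁺`), S5874 (`Ω₁₂⁻`): there is NO frozen hub, so the hub is the
library statement `HubOE Q` below: every subgroup of the isometry group of the non-degenerate quadratic function `Q` (ANY `q`,
general index type) lies in a member of `InOEClass Q` or is in the frozen residual class.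

* `InOEClass Q M` : `M` is a member of one of the geometric classes of `I = isometryGroup F Q`; every member is `X ⊓ I`;
  the shapes of (1c), (2b), (3b), (4s), (5) are the shapes of the frozen rows;
* `InClassOE Q H` : `H` lies in a member;
* wrappers `InClassOE.of_*` (use these in the hub, never unfold the `Or`);
* `HubOE Q` : the hub as a `Prop`.
-/

set_option autoImplicit false

namespace Cfsg.Agent.Lib.Helper1.OE

open Matrix Cfsg Cfsg.Geo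
open scoped Kronecker

variable {F : Type*} [Field F] {ι : Type} [Fintype ι] [DecidableEq ι]

/-- the pure tensor `x₁ ⊗ x₂` in coordinates `Fin n₁ × Fin n₂` -/
def pure2 {n₁ n₂ : ℕ} (x₁ : Fin n₁ → F) (x₂ : Fin n₂ → F) : Fin n₁ × Fin n₂ → F := fun a => x₁ a.1 * x₂ a.2

/-- the pure tensor `x 0 ⊗ ⋯ ⊗ x (t-1)` in coordinates `Fin t → Fin k` -/
def pureT {k t : ℕ} (x : Fin t → Fin k → F) : (Fin t → Fin k) → F := fun a => ∏ i, x i (a i)

/-- `M` is a member of one of the geometric classes of the isometry group of the quadratic function `Q` (any `q`) -/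
def InOEClass [Fintype F] (Q : (ι → F) → F) (M : Subgroup (GL ι F)) : Prop :=
  let f := QuadraticMap.polar Q
  let I := isometryGroup F Q
  -- (1a) totally singular subspace
  (∃ W : Submodule F (ι → F), W ≠ ⊥ ∧ IsTotallySingularQuad Q W ∧ M = subspaceStabilizer W ⊓ I) ∨
  -- (1b) non-degenerate subspace
  (∃ W : Submodule F (ι → F), W ≠ ⊥ ∧ W ≠ ⊤ ∧ IsNondegenerateOn f W ∧ M = subspaceStabilizer W ⊓ I) ∨
  -- (1c) non-singular vector, `q` even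
  (¬ Odd (Fintype.card F) ∧ ∃ v : ι → F, Q v ≠ 0 ∧ M = subspaceStabilizer (Submodule.span F {v}) ⊓ I) ∨
  -- (2a) orthogonal decomposition into isometric non-degenerate subspaces (`k = 1` only over a prime field)
  (∃ (t k : ℕ) (D : Fin t → Submodule F (ι → F)), IsOrthogonalMDecomposition Q k D ∧
      (k = 1 → (Fintype.card F).Prime) ∧ M = decompositionStabilizer D ⊓ I) ∨
  -- (2b) pair of totally singular halves
  (∃ (k : ℕ) (D : Fin 2 → Submodule F (ι → F)), IsMDecomposition k D ∧ (∀ i, IsTotallySingularQuad Q (D i)) ∧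
      M = decompositionStabilizer D ⊓ I) ∨
  -- (3a) self-adjoint extension field of prime degree
  (∃ (r : ℕ) (K : Subalgebra F (Matrix ι ι F)), r.Prime ∧ IsFieldSubalgebra r K ∧ IsSelfAdjointFor f K ∧
      M = subalgebraNormalizer K ⊓ I) ∨
  -- (3b) quadratic extension field of unitary type
  (∃ K : Subalgebra F (Matrix ι ι F), IsFieldSubalgebra 2 K ∧ IsAdjointClosedFor f K ∧ ¬ IsSelfAdjointFor f K ∧
      (∀ k ∈ K, ∃ c : F, ∀ v : ι → F, Q (k *ᵥ v) = c * Q v) ∧ M = subalgebraNormalizer K ⊓ I) ∨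
  -- (4o) tensor product of two symmetric forms, `q` odd
  (∃ (n₁ n₂ : ℕ) (e : ι ≃ Fin n₁ × Fin n₂) (P : GL ι F)
      (f₁ : (Fin n₁ → F) → (Fin n₁ → F) → F) (f₂ : (Fin n₂ → F) → (Fin n₂ → F) → F),
      Odd (Fintype.card F) ∧ 2 ≤ n₁ ∧ 2 ≤ n₂ ∧ IsSymmetricForm f₁ ∧ IsSymmetricForm f₂ ∧
      IsTensorFormStructure id f f₁ f₂ e P ∧ M = tensorProductSubgroup n₁ n₂ e P ⊓ I) ∨
  -- (4s) tensor product of two symplectic forms, `Q` vanishing on the pure tensors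
  (∃ (n₁ n₂ : ℕ) (e : ι ≃ Fin n₁ × Fin n₂) (P : GL ι F)
      (f₁ : (Fin n₁ → F) → (Fin n₁ → F) → F) (f₂ : (Fin n₂ → F) → (Fin n₂ → F) → F),
      2 ≤ n₁ ∧ 2 ≤ n₂ ∧ IsSymplecticForm f₁ ∧ IsSymplecticForm f₂ ∧ IsTensorFormStructure id f f₁ f₂ e P ∧
      (∀ (x₁ : Fin n₁ → F) (x₂ : Fin n₂ → F), Q ((P : Matrix ι ι F) *ᵥ (pure2 x₁ x₂ ∘ e)) = 0) ∧
      M = tensorProductSubgroup n₁ n₂ e P ⊓ I) ∨
  -- (5) subfield group carrying a multiple of `Q`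
  (∃ (F₀ : Subfield F) (r : ℕ) (P : GL ι F) (ζ : F), r.Prime ∧ Fintype.card F = Nat.card F₀ ^ r ∧ ζ ≠ 0 ∧
      IsQuadFormRationalStructure (fun v : ι → F => ζ * Q v) F₀ P ∧ M = subfieldSubgroup F₀ P ⊓ I) ∨
  -- (6) symplectic-type 2-group of isometries, `q` odd
  (∃ R : Subgroup (GL ι F), Odd (Fintype.card F) ∧ IsSymplecticTypeGroup 2 R ∧
      ActsAbsolutelyIrreducibly (matrixSet R) ∧ R ≤ I ∧ M = subgroupNormalizer R ⊓ I) ∨
  -- (7o) tensor power of a symmetric form, `q` odd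
  (∃ (k t : ℕ) (e : ι ≃ (Fin t → Fin k)) (P : GL ι F) (f₁ : (Fin k → F) → (Fin k → F) → F),
      Odd (Fintype.card F) ∧ 2 ≤ k ∧ 2 ≤ t ∧ IsSymmetricForm f₁ ∧ IsTensorPowerFormStructure id f f₁ e P ∧
      M = tensorWreathSubgroup k t e P ⊓ I) ∨
  -- (7s) tensor power of a symplectic form, `Q` vanishing on the pure tensors
  (∃ (k t : ℕ) (e : ι ≃ (Fin t → Fin k)) (P : GL ι F) (f₁ : (Fin k → F) → (Fin k → F) → F),
      2 ≤ k ∧ 2 ≤ t ∧ IsSymplecticForm f₁ ∧ IsTensorPowerFormStructure id f f₁ e P ∧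
      (∀ x : Fin t → Fin k → F, Q ((P : Matrix ι ι F) *ᵥ (pureT x ∘ e)) = 0) ∧
      M = tensorWreathSubgroup k t e P ⊓ I)

/-- `H` lies in a member of one of the geometric classes -/
def InClassOE [Fintype F] (Q : (ι → F) → F) (H : Subgroup (GL ι F)) : Prop :=
  ∃ M : Subgroup (GL ι F), InOEClass Q M ∧ H ≤ M

/-- **the hub**, as a `Prop`: Aschbacher's theorem for the isometry group of `Q` -/
def HubOE [Fintype F] (Q : (ι → F) → F) : Prop :=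
  ∀ H : Subgroup (GL ι F), H ≤ isometryGroup F Q → InClassOE Q H ∨ InOrthogonalResidualClass H

section wrappers

variable [Fintype F] {Q : (ι → F) → F}

theorem InClassOE.mono {H K : Subgroup (GL ι F)} (h : H ≤ K) (hK : InClassOE Q K) : InClassOE Q H := by
  obtain ⟨M, hM, hKM⟩ := hK
  exact ⟨M, hM, h.trans hKM⟩

theorem InClassOE.of_singular (H : Subgroup (GL ι F)) (hHI : H ≤ isometryGroup F Q) (W : Submodule F (ι → F))
    (h0 : W ≠ ⊥) (hW : IsTotallySingularQuad Q W) (hH : H ≤ subspaceStabilizer W) : InClassOE Q H :=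
  ⟨_, Or.inl ⟨W, h0, hW, rfl⟩, le_inf hH hHI⟩

theorem InClassOE.of_nondeg (H : Subgroup (GL ι F)) (hHI : H ≤ isometryGroup F Q) (W : Submodule F (ι → F))
    (h0 : W ≠ ⊥) (h1 : W ≠ ⊤) (hW : IsNondegenerateOn (QuadraticMap.polar Q) W) (hH : H ≤ subspaceStabilizer W) :
    InClassOE Q H :=
  ⟨_, Or.inr (Or.inl ⟨W, h0, h1, hW, rfl⟩), le_inf hH hHI⟩

theorem InClassOE.of_nonsingular (H : Subgroup (GL ι F)) (hHI : H ≤ isometryGroup F Q) (hq : ¬ Odd (Fintype.card F))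
    (v : ι → F) (hv : Q v ≠ 0) (hH : H ≤ subspaceStabilizer (Submodule.span F {v})) : InClassOE Q H :=
  ⟨_, Or.inr (Or.inr (Or.inl ⟨hq, v, hv, rfl⟩)), le_inf hH hHI⟩

theorem InClassOE.of_decomposition (H : Subgroup (GL ι F)) (hHI : H ≤ isometryGroup F Q) {t : ℕ} (k : ℕ)
    (D : Fin t → Submodule F (ι → F)) (hD : IsOrthogonalMDecomposition Q k D)
    (hk : k = 1 → (Fintype.card F).Prime) (hH : H ≤ decompositionStabilizer D) : InClassOE Q H :=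
  ⟨_, Or.inr (Or.inr (Or.inr (Or.inl ⟨t, k, D, hD, hk, rfl⟩))), le_inf hH hHI⟩

theorem InClassOE.of_singularPair (H : Subgroup (GL ι F)) (hHI : H ≤ isometryGroup F Q) (k : ℕ)
    (D : Fin 2 → Submodule F (ι → F)) (hD : IsMDecomposition k D) (hts : ∀ i, IsTotallySingularQuad Q (D i))
    (hH : H ≤ decompositionStabilizer D) : InClassOE Q H :=
  ⟨_, Or.inr (Or.inr (Or.inr (Or.inr (Or.inl ⟨k, D, hD, hts, rfl⟩)))), le_inf hH hHI⟩

theorem InClassOE.of_field (H : Subgroup (GL ι F)) (hHI : H ≤ isometryGroup F Q) (r : ℕ)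
    (K : Subalgebra F (Matrix ι ι F)) (hr : r.Prime) (hK : IsFieldSubalgebra r K)
    (hsa : IsSelfAdjointFor (QuadraticMap.polar Q) K) (hH : H ≤ subalgebraNormalizer K) : InClassOE Q H :=
  ⟨_, Or.inr (Or.inr (Or.inr (Or.inr (Or.inr (Or.inl ⟨r, K, hr, hK, hsa, rfl⟩))))), le_inf hH hHI⟩

theorem InClassOE.of_unitaryField (H : Subgroup (GL ι F)) (hHI : H ≤ isometryGroup F Q)
    (K : Subalgebra F (Matrix ι ι F)) (hK : IsFieldSubalgebra 2 K)
    (hac : IsAdjointClosedFor (QuadraticMap.polar Q) K) (hnsa : ¬ IsSelfAdjointFor (QuadraticMap.polar Q) K)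
    (hsim : ∀ k ∈ K, ∃ c : F, ∀ v : ι → F, Q (k *ᵥ v) = c * Q v) (hH : H ≤ subalgebraNormalizer K) :
    InClassOE Q H :=
  ⟨_, Or.inr (Or.inr (Or.inr (Or.inr (Or.inr (Or.inr (Or.inl ⟨K, hK, hac, hnsa, hsim, rfl⟩)))))), le_inf hH hHI⟩

theorem InClassOE.of_tensorSymm (H : Subgroup (GL ι F)) (hHI : H ≤ isometryGroup F Q) (n₁ n₂ : ℕ)
    (e : ι ≃ Fin n₁ × Fin n₂) (P : GL ι F) (f₁ : (Fin n₁ → F) → (Fin n₁ → F) → F)
    (f₂ : (Fin n₂ → F) → (Fin n₂ → F) → F) (hq : Odd (Fintype.card F)) (h1 : 2 ≤ n₁) (h2 : 2 ≤ n₂)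
    (hf₁ : IsSymmetricForm f₁) (hf₂ : IsSymmetricForm f₂)
    (hT : IsTensorFormStructure id (QuadraticMap.polar Q) f₁ f₂ e P)
    (hH : H ≤ tensorProductSubgroup n₁ n₂ e P) : InClassOE Q H :=
  ⟨_, Or.inr (Or.inr (Or.inr (Or.inr (Or.inr (Or.inr (Or.inr (Or.inl
    ⟨n₁, n₂, e, P, f₁, f₂, hq, h1, h2, hf₁, hf₂, hT, rfl⟩))))))), le_inf hH hHI⟩

theorem InClassOE.of_tensorSymp (H : Subgroup (GL ι F)) (hHI : H ≤ isometryGroup F Q) (n₁ n₂ : ℕ)
    (e : ι ≃ Fin n₁ × Fin n₂) (P : GL ι F) (f₁ : (Fin n₁ → F) → (Fin n₁ → F) → F)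
    (f₂ : (Fin n₂ → F) → (Fin n₂ → F) → F) (h1 : 2 ≤ n₁) (h2 : 2 ≤ n₂)
    (hf₁ : IsSymplecticForm f₁) (hf₂ : IsSymplecticForm f₂)
    (hT : IsTensorFormStructure id (QuadraticMap.polar Q) f₁ f₂ e P)
    (hpure : ∀ (x₁ : Fin n₁ → F) (x₂ : Fin n₂ → F), Q ((P : Matrix ι ι F) *ᵥ (pure2 x₁ x₂ ∘ e)) = 0)
    (hH : H ≤ tensorProductSubgroup n₁ n₂ e P) : InClassOE Q H :=
  ⟨_, Or.inr (Or.inr (Or.inr (Or.inr (Or.inr (Or.inr (Or.inr (Or.inr (Or.inl
    ⟨n₁, n₂, e, P, f₁, f₂, h1, h2, hf₁, hf₂, hT, hpure, rfl⟩)))))))), le_inf hH hHI⟩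

theorem InClassOE.of_subfield (H : Subgroup (GL ι F)) (hHI : H ≤ isometryGroup F Q) (F₀ : Subfield F) (r : ℕ)
    (P : GL ι F) (ζ : F) (hr : r.Prime) (hc : Fintype.card F = Nat.card F₀ ^ r) (hζ : ζ ≠ 0)
    (hrat : IsQuadFormRationalStructure (fun v : ι → F => ζ * Q v) F₀ P) (hH : H ≤ subfieldSubgroup F₀ P) :
    InClassOE Q H :=
  ⟨_, Or.inr (Or.inr (Or.inr (Or.inr (Or.inr (Or.inr (Or.inr (Or.inr (Or.inr (Or.inl
    ⟨F₀, r, P, ζ, hr, hc, hζ, hrat, rfl⟩))))))))), le_inf hH hHI⟩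

theorem InClassOE.of_symplecticType (H : Subgroup (GL ι F)) (hHI : H ≤ isometryGroup F Q)
    (R : Subgroup (GL ι F)) (hq : Odd (Fintype.card F)) (hR : IsSymplecticTypeGroup 2 R)
    (hirr : ActsAbsolutelyIrreducibly (matrixSet R)) (hRI : R ≤ isometryGroup F Q)
    (hH : H ≤ subgroupNormalizer R) : InClassOE Q H :=
  ⟨_, Or.inr (Or.inr (Or.inr (Or.inr (Or.inr (Or.inr (Or.inr (Or.inr (Or.inr (Or.inr (Or.inl
    ⟨R, hq, hR, hirr, hRI, rfl⟩)))))))))), le_inf hH hHI⟩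

theorem InClassOE.of_tensorWreathSymm (H : Subgroup (GL ι F)) (hHI : H ≤ isometryGroup F Q) (k t : ℕ)
    (e : ι ≃ (Fin t → Fin k)) (P : GL ι F) (f₁ : (Fin k → F) → (Fin k → F) → F) (hq : Odd (Fintype.card F))
    (hk : 2 ≤ k) (ht : 2 ≤ t) (hf₁ : IsSymmetricForm f₁)
    (hT : IsTensorPowerFormStructure id (QuadraticMap.polar Q) f₁ e P)
    (hH : H ≤ tensorWreathSubgroup k t e P) : InClassOE Q H :=
  ⟨_, Or.inr (Or.inr (Or.inr (Or.inr (Or.inr (Or.inr (Or.inr (Or.inr (Or.inr (Or.inr (Or.inr (Or.inl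
    ⟨k, t, e, P, f₁, hq, hk, ht, hf₁, hT, rfl⟩))))))))))), le_inf hH hHI⟩

theorem InClassOE.of_tensorWreathSymp (H : Subgroup (GL ι F)) (hHI : H ≤ isometryGroup F Q) (k t : ℕ)
    (e : ι ≃ (Fin t → Fin k)) (P : GL ι F) (f₁ : (Fin k → F) → (Fin k → F) → F)
    (hk : 2 ≤ k) (ht : 2 ≤ t) (hf₁ : IsSymplecticForm f₁)
    (hT : IsTensorPowerFormStructure id (QuadraticMap.polar Q) f₁ e P)
    (hpure : ∀ x : Fin t → Fin k → F, Q ((P : Matrix ι ι F) *ᵥ (pureT x ∘ e)) = 0)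
    (hH : H ≤ tensorWreathSubgroup k t e P) : InClassOE Q H :=
  ⟨_, Or.inr (Or.inr (Or.inr (Or.inr (Or.inr (Or.inr (Or.inr (Or.inr (Or.inr (Or.inr (Or.inr (Or.inr
    ⟨k, t, e, P, f₁, hk, ht, hf₁, hT, hpure, rfl⟩))))))))))), le_inf hH hHI⟩

end wrappers

end Cfsg.Agent.Lib.Helper1.OE
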