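import Mathlib
import Cfsg.Prelude.Def_GeometricClasses
import Cfsg.Agent.Lib.Helper1.OEDefs
import Cfsg.Agent.Lib.Helper13.OrthMax
import Cfsg.Agent.Lib.Helper6.S5814CPLANE
import Cfsg.Agent.Lib.Helper6.S5814PSUBF
import Cfsg.Agent.Lib.Helper29.AschCorB
import Cfsg.Agent.Lib.Helper9.HubCorA1
import Cfsg.Agent.Lib.Helper21.OECorPIRR
import Cfsg.Agent.Lib.Helper16.OECorPFLD
import Cfsg.Agent.Lib.Helper12.OECorE

/-!
# EVEN-DIMENSIONAL ORTHOGONAL ROWS : the shared part of the assemblies (helper1)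

Real version of sections 0, 1, 2, 4 of `notes/OECorSkel_helper1.lean.txt` : the properness pieces under the names of the
skeleton (helper21 `OECorPIRR`, helper16 `OECorPFLD`, helper6 `S5814PSUBF`), the exits (helper12 `OECorE`, helper6
`S5814CPLANE`) and the generic assembly lemmas `eq_of_le_member`, `exit_nd`, `exit_plane`, `exit_unitary`,
`exit_subfield_minus`.
-/

set_option autoImplicit false
set_option linter.unusedSectionVars false
set_option linter.unusedVariables false

namespace Cfsg.Agent.Lib.Helper1.OECor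

open Matrix Cfsg Cfsg.Geo Module QuadraticMap
open Cfsg.Agent.Lib.Helper1.OE
open Cfsg.Agent.Lib.Helper13 (toQF toQF_nondegenerate)

variable {F : Type*} [Field F] [Fintype F] {n : ℕ}

/-! ## 0. generic (REAL) -/

/-- G-EQ -/
theorem eq_of_le_member {G : Type*} [Group G] (S H M : Subgroup G) (hH : IsMaximalIn S H)
    (hle : H ≤ M) (hM : ¬ S ≤ M) : H = M ⊓ S := by
  have h1 : H ≤ M ⊓ S := le_inf hle hH.1.le
  rcases hH.2 _ h1 inf_le_right with h | h
  · exact h.symm
  · exact absurd (h ▸ inf_le_left) hM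

/-- `Ω ≤ I` -/
theorem omegaGL_le_iso (Q : (Fin n → F) → F) : omegaGL Q ≤ isometryGroup F Q := by
  rintro g ⟨x, -, rfl⟩
  exact x.2

theorem card_fin_fun : Fintype.card (Fin n) = n := Fintype.card_fin n

theorem two_ne_zero_of_odd (hF : Odd (Fintype.card F)) : (2 : F) ≠ 0 := by
  intro h
  have hc : ringChar F = 2 := by
    have h1 : ringChar F ∣ 2 := ringChar.dvd (R := F) (by exact_mod_cast h)
    have : Fact (ringChar F).Prime := ⟨CharP.char_is_prime F (ringChar F)⟩
    exact (Nat.prime_dvd_prime_iff_eq (Fact.out) Nat.prime_two).mp h1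
  have h3 := FiniteField.even_card_of_char_two hc
  rw [Nat.odd_iff] at hF
  omega

/-! ## 1. properness pieces : `¬ omegaGL Q ≤ X`  (all `q`, `5 ≤ n`) -/

/-- **P-IRR** (helper21) -/
theorem not_omega_le_stab {Q : (Fin n → F) → F} (hQ : IsNondegenerateQuadraticForm Q) (h5 : 5 ≤ n)
    (W : Submodule F (Fin n → F)) (hW0 : W ≠ ⊥) (hW1 : W ≠ ⊤) : ¬ omegaGL Q ≤ subspaceStabilizer W :=
  Cfsg.Agent.Lib.Helper21.OECorPIRR.not_omega_le_stab hQ h5 W hW0 hW1

/-- **P-TSP** (helper21) -/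
theorem not_omega_le_tsPair {Q : (Fin n → F) → F} (hQ : IsNondegenerateQuadraticForm Q) (h5 : 5 ≤ n)
    (k : ℕ) (D : Fin 2 → Submodule F (Fin n → F)) (hD : IsMDecomposition k D)
    (hts : ∀ i, IsTotallySingularQuad Q (D i)) : ¬ omegaGL Q ≤ decompositionStabilizer D :=
  Cfsg.Agent.Lib.Helper21.OECorPIRR.not_omega_le_tsPair hQ h5 k D hD hts

/-- **P-DEC** for blocks of dimension at least two (helper21) -/
theorem not_omega_le_decomp_of_two_le {Q : (Fin n → F) → F} (hQ : IsNondegenerateQuadraticForm Q) (h5 : 5 ≤ n)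
    {t k : ℕ} (hk : 2 ≤ k) (D : Fin t → Submodule F (Fin n → F))
    (hD : IsNondegenerateMDecomposition (polar Q) k D) : ¬ omegaGL Q ≤ decompositionStabilizer D :=
  Cfsg.Agent.Lib.Helper21.OECorPIRR.not_omega_le_decomp_of_two_le hQ h5 hk D hD

/-- **P-FLD** (helper16) -/
theorem not_omega_le_field {Q : (Fin n → F) → F} (hQ : IsNondegenerateQuadraticForm Q) (h5 : 5 ≤ n)
    (r : ℕ) (hr : r.Prime) (K : Subalgebra F (Matrix (Fin n) (Fin n) F)) (hK : IsFieldSubalgebra r K) :
    ¬ omegaGL Q ≤ subalgebraNormalizer K :=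
  Cfsg.Agent.Lib.Helper16.OECorPFLD.not_omega_le_field hQ h5 r hr K hK

/-- **P-SUB** (REAL : helper6 `S5814PSUBF`) -/
theorem not_omega_le_subfield {Q : (Fin n → F) → F} (hQ : IsNondegenerateQuadraticForm Q) (h5 : 5 ≤ n)
    (F₀ : Subfield F) (hF₀ : F₀ ≠ ⊤) (P : GL (Fin n) F) : ¬ omegaGL Q ≤ subfieldSubgroup F₀ P :=
  Cfsg.Agent.Lib.Helper6.S5814PSUBF.not_omega_le_subfield (toQF Q hQ) (toQF_nondegenerate Q hQ)
    (by rw [Fintype.card_fin]; exact h5) F₀ hF₀ P

/-! ## 2. exits -/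

/-- **E-ODD** (helper12) -/
theorem odd_card_of_odd_finrank {Q : (Fin n → F) → F} (hQ : IsNondegenerateQuadraticForm Q)
    (W : Submodule F (Fin n → F)) (hW : IsNondegenerateOn (polar Q) W) (hodd : Odd (finrank F W)) :
    Odd (Fintype.card F) :=
  Cfsg.Agent.Lib.Helper12.OECorE.odd_card_of_odd_finrank hQ W hW hodd

/-- **E-PERP** (helper12, on helper13 `orthPair_of_nondeg`) -/
theorem exists_perp {Q : (Fin n → F) → F} (hQ : IsNondegenerateQuadraticForm Q)
    (W : Submodule F (Fin n → F)) (hW : IsNondegenerateOn (polar Q) W) :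
    ∃ W' : Submodule F (Fin n → F), IsNondegenerateOn (polar Q) W' ∧ finrank F W + finrank F W' = n ∧
      AreOrthogonalFor (polar Q) W W' ∧ IsCompl W W' ∧
      subspaceStabilizer W ⊓ omegaGL Q = subspaceStabilizer W' ⊓ omegaGL Q :=
  Cfsg.Agent.Lib.Helper12.OECorE.exists_perp hQ W hW

/-- **E-PLANE3** (REAL : helper6 `S5814CPLANE.plane_le_stab`) -/
theorem plane_le_stab {Q : (Fin n → F) → F} (hQ : IsNondegenerateQuadraticForm Q) (h5 : 5 ≤ n)
    (hq : Fintype.card F = 3) (W : Submodule F (Fin n → F)) (hdim : finrank F W = 2)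
    (hW : IsNondegenerateOn (polar Q) W) (hWp : IsPlusTypeOn Q W) :
    ∃ W' : Submodule F (Fin n → F), finrank F W' + 1 = n ∧ IsNondegenerateOn (polar Q) W' ∧
      subspaceStabilizer W ⊓ omegaGL Q ≤ subspaceStabilizer W' := by
  have h := Cfsg.Agent.Lib.Helper6.S5814CPLANE.plane_le_stab (toQF Q hQ) (toQF_nondegenerate Q hQ)
    (by rw [Fintype.card_fin]; exact h5) hq W hdim hW hWp
  rw [Fintype.card_fin] at h
  exact h

/-- **E-PLANE2** (helper12) -/
theorem plane_le_stab_two {Q : (Fin n → F) → F} (hQ : IsNondegenerateQuadraticForm Q)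
    (hq : Fintype.card F = 2) (W : Submodule F (Fin n → F)) (hdim : finrank F W = 2)
    (hW : IsNondegenerateOn (polar Q) W) (hWp : IsPlusTypeOn Q W) :
    ∃ v : Fin n → F, Q v ≠ 0 ∧
      subspaceStabilizer W ⊓ isometryGroup F Q ≤ subspaceStabilizer (Submodule.span F {v}) :=
  Cfsg.Agent.Lib.Helper12.OECorE.plane_le_stab_two hQ hq W hdim hW hWp

/-! ## 4. ASSEMBLY (REAL proofs from the pieces above) -/

section assembly

variable {Q : (Fin n → F) → F}

theorem ne_bot_of_finrank_pos (W : Submodule F (Fin n → F)) (h : 0 < finrank F W) : W ≠ ⊥ := by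
  rintro rfl
  rw [finrank_bot] at h
  exact lt_irrefl _ h

theorem ne_top_of_finrank_lt (W : Submodule F (Fin n → F)) (h : finrank F W < n) : W ≠ ⊤ := by
  rintro rfl
  rw [finrank_top, Module.finrank_fintype_fun_eq_card, Fintype.card_fin] at h
  exact lt_irrefl _ h

theorem finrank_pos_of_ne_bot (W : Submodule F (Fin n → F)) (h : W ≠ ⊥) : 0 < finrank F W := by
  rcases Nat.eq_zero_or_pos (finrank F W) with h0 | h0
  · exact absurd (Submodule.finrank_eq_zero.mp h0) h
  · exact h0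

theorem finrank_lt_of_ne_top (W : Submodule F (Fin n → F)) (h : W ≠ ⊤) : finrank F W < n := by
  have hle : finrank F W ≤ n := by
    have := Submodule.finrank_le W
    rwa [Module.finrank_fintype_fun_eq_card, Fintype.card_fin] at this
  rcases hle.lt_or_eq with h1 | h1
  · exact h1
  · exfalso
    apply h
    apply Submodule.eq_top_of_finrank_eq
    rw [h1, Module.finrank_fintype_fun_eq_card, Fintype.card_fin]

/-- a totally singular subspace is proper -/
theorem ts_ne_top (hQ : IsNondegenerateQuadraticForm Q) (hn : 0 < n) (W : Submodule F (Fin n → F))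
    (hW : IsTotallySingularQuad Q W) : W ≠ ⊤ := by
  rintro rfl
  have hv : (Pi.single (⟨0, hn⟩ : Fin n) (1 : F) : Fin n → F) ≠ 0 := by
    intro h
    have := congrFun h ⟨0, hn⟩
    simp at this
  obtain ⟨⟨x, hx⟩, -⟩ := hQ.nondegenerate _ hv
  apply hx
  unfold QuadraticMap.polar
  rw [hW _ Submodule.mem_top, hW x Submodule.mem_top, hW _ Submodule.mem_top]
  ring

/-- the exit for a non-degenerate subspace, first step : `H` is the stabiliser of a non-degenerate subspace of
dimension at most `n / 2` -/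
theorem exit_nd (hQ : IsNondegenerateQuadraticForm Q) (h5 : 5 ≤ n) (H : Subgroup (GL (Fin n) F))
    (hH : IsMaximalIn (omegaGL Q) H) (W : Submodule F (Fin n → F)) (hW0 : W ≠ ⊥) (hW1 : W ≠ ⊤)
    (hW : IsNondegenerateOn (polar Q) W) (hle : H ≤ subspaceStabilizer W) :
    ∃ W' : Submodule F (Fin n → F), 0 < finrank F W' ∧ 2 * finrank F W' ≤ n ∧
      IsNondegenerateOn (polar Q) W' ∧ H = subspaceStabilizer W' ⊓ omegaGL Q := by
  have hHW : H = subspaceStabilizer W ⊓ omegaGL Q :=
    eq_of_le_member _ H _ hH hle (not_omega_le_stab hQ h5 W hW0 hW1)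
  have hpos := finrank_pos_of_ne_bot W hW0
  have hlt := finrank_lt_of_ne_top W hW1
  by_cases hhalf : 2 * finrank F W ≤ n
  · exact ⟨W, hpos, hhalf, hW, hHW⟩
  · obtain ⟨W', hW', hadd, -, -, hstab⟩ := exists_perp hQ W hW
    exact ⟨W', by omega, by omega, hW', by rw [hHW, hstab]⟩

/-- the exit for a non-degenerate plane -/
theorem exit_plane (hQ : IsNondegenerateQuadraticForm Q) (h5 : 5 ≤ n) (H : Subgroup (GL (Fin n) F))
    (hH : IsMaximalIn (omegaGL Q) H) (W : Submodule F (Fin n → F)) (hdim : finrank F W = 2)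
    (hW : IsNondegenerateOn (polar Q) W) (hHW : H = subspaceStabilizer W ⊓ omegaGL Q) :
    (∃ W : Submodule F (Fin n → F), finrank F W = 2 ∧ IsNondegenerateOn (polar Q) W ∧ ¬ IsPlusTypeOn Q W ∧
      H = subspaceStabilizer W ⊓ omegaGL Q) ∨
    (4 ≤ Fintype.card F ∧ ∃ W : Submodule F (Fin n → F), finrank F W = 2 ∧ IsNondegenerateOn (polar Q) W ∧
      IsPlusTypeOn Q W ∧ H = subspaceStabilizer W ⊓ omegaGL Q) ∨
    (Odd (Fintype.card F) ∧ ∃ W : Submodule F (Fin n → F), finrank F W + 1 = n ∧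
      IsNondegenerateOn (polar Q) W ∧ H = subspaceStabilizer W ⊓ omegaGL Q) ∨
    (¬ Odd (Fintype.card F) ∧ ∃ v : Fin n → F, Q v ≠ 0 ∧
      H = subspaceStabilizer (Submodule.span F {v}) ⊓ omegaGL Q) := by
  by_cases hp : IsPlusTypeOn Q W
  swap
  · exact Or.inl ⟨W, hdim, hW, hp, hHW⟩
  have hq1 : 1 < Fintype.card F := Fintype.one_lt_card
  by_cases hq4 : 4 ≤ Fintype.card F
  · exact Or.inr (Or.inl ⟨hq4, W, hdim, hW, hp, hHW⟩)
  have hq23 : Fintype.card F = 2 ∨ Fintype.card F = 3 := by omega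
  rcases hq23 with hq | hq
  · -- `q = 2`
    obtain ⟨v, hv, hle⟩ := plane_le_stab_two hQ hq W hdim hW hp
    have hleH : H ≤ subspaceStabilizer (Submodule.span F {v}) := by
      intro x hx
      rw [hHW] at hx
      exact hle ⟨hx.1, omegaGL_le_iso Q hx.2⟩
    have hv0 : v ≠ 0 := by
      rintro rfl
      apply hv
      have := hQ.smul 0 (0 : Fin n → F)
      rw [zero_smul] at this
      rw [this]
      ring
    have hs0 : Submodule.span F {v} ≠ ⊥ := by
      rw [Ne, Submodule.span_singleton_eq_bot]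
      exact hv0
    have hs1 : Submodule.span F {v} ≠ ⊤ := by
      apply ne_top_of_finrank_lt
      rw [finrank_span_singleton hv0]
      omega
    refine Or.inr (Or.inr (Or.inr ⟨by rw [hq]; decide, v, hv,
      eq_of_le_member _ H _ hH hleH (not_omega_le_stab hQ h5 _ hs0 hs1)⟩))
  · -- `q = 3`
    obtain ⟨W', hW'dim, hW'nd, hle⟩ := plane_le_stab hQ h5 hq W hdim hW hp
    have hleH : H ≤ subspaceStabilizer W' := by
      intro x hx
      rw [hHW] at hx
      exact hle hx
    have hs0 : W' ≠ ⊥ := ne_bot_of_finrank_pos W' (by omega)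
    have hs1 : W' ≠ ⊤ := ne_top_of_finrank_lt W' (by omega)
    refine Or.inr (Or.inr (Or.inl ⟨by rw [hq]; decide, W', hW'dim, hW'nd,
      eq_of_le_member _ H _ hH hleH (not_omega_le_stab hQ h5 _ hs0 hs1)⟩))

theorem not_maximal_of_between {G : Type*} [Group G] (S H : Subgroup G) (hH : IsMaximalIn S H)
    (h : ∃ K : Subgroup G, H < K ∧ K < S) : False := by
  obtain ⟨K, h1, h2⟩ := h
  rcases hH.2 K h1.le h2.le with h | h
  · exact h1.ne h.symm
  · exact h2.ne h

theorem isometric_refl (W : Submodule F (Fin n → F)) : AreIsometricFor Q W W :=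
  ⟨LinearEquiv.refl F W, fun _ => rfl⟩

theorem isometric_symm {W W' : Submodule F (Fin n → F)} (h : AreIsometricFor Q W W') :
    AreIsometricFor Q W' W := by
  obtain ⟨e, he⟩ := h
  refine ⟨e.symm, fun w => ?_⟩
  have := he (e.symm w)
  rw [LinearEquiv.apply_symm_apply] at this
  exact this.symm

/-- two halves : an isometric pair is an `IsOrthogonalMDecomposition` -/
theorem orthogonalMDecomposition_of_pair {m : ℕ} (D : Fin 2 → Submodule F (Fin n → F))
    (hD : IsNondegenerateMDecomposition (polar Q) m D) (hiso : AreIsometricFor Q (D 0) (D 1)) :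
    IsOrthogonalMDecomposition Q m D := by
  refine ⟨hD, ?_⟩
  intro i j
  fin_cases i <;> fin_cases j
  · exact isometric_refl _
  · exact hiso
  · exact isometric_symm hiso
  · exact isometric_refl _

/-- the unitary-field exit -/
theorem exit_unitary (hQ : IsNondegenerateQuadraticForm Q) (h5 : 5 ≤ n) (H : Subgroup (GL (Fin n) F))
    (hH : IsMaximalIn (omegaGL Q) H)
    (h : ∃ K : Subalgebra F (Matrix (Fin n) (Fin n) F), IsFieldSubalgebra 2 K ∧
      IsAdjointClosedFor (polar Q) K ∧ ¬ IsSelfAdjointFor (polar Q) K ∧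
      (∀ k ∈ K, ∃ c : F, ∀ v : Fin n → F, Q (k *ᵥ v) = c * Q v) ∧ H ≤ subalgebraNormalizer K) :
    ∃ K : Subalgebra F (Matrix (Fin n) (Fin n) F), IsFieldSubalgebra 2 K ∧
      IsAdjointClosedFor (polar Q) K ∧ ¬ IsSelfAdjointFor (polar Q) K ∧
      (∀ k ∈ K, ∃ c : F, ∀ v : Fin n → F, Q (k *ᵥ v) = c * Q v) ∧
      H = subalgebraNormalizer K ⊓ omegaGL Q := by
  obtain ⟨K, hK, hac, hnsa, hsim, hle⟩ := h
  exact ⟨K, hK, hac, hnsa, hsim,
    eq_of_le_member _ H _ hH hle (not_omega_le_field hQ h5 2 Nat.prime_two K hK)⟩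

end assembly

end Cfsg.Agent.Lib.Helper1.OECor
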