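import Mathlib
import Cfsg.Prelude.Def_GeometricClasses
import Cfsg.Agent.Lib.Helper1.OECorBase
import Cfsg.Agent.Lib.Helper29.S5814AFLD
import Cfsg.Agent.Lib.Helper27.SpCorC6
import Cfsg.Agent.Lib.Helper15.TensSwap
import Cfsg.Agent.Lib.Helper7.OETypeB
import Cfsg.Agent.Lib.Helper6.OETypeTC4
import Cfsg.Agent.Lib.Helper23.OETypeTC6
import Cfsg.Agent.Lib.Helper11.OECorPDEC
import Cfsg.Agent.Lib.Helper16.OEPlusA5
import Cfsg.Agent.Lib.Helper8.OETypeHalves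
import Cfsg.Agent.Lib.Helper28.OEPlusF1
import Cfsg.Agent.Lib.Helper28.OECorF2m
import Cfsg.Agent.Lib.Helper27.OEPlusX
import Cfsg.Agent.Lib.Helper13.OrthSmallGen

/-!
# S5850 : the maximal subgroups of `Ω₁₀⁻(q)` from the hub `HubOE Q` (helper1)

`cases10m_of_core` is the verbatim conclusion of the frozen S5850 (`Row10M`), from the hub and the E-FIELD5 core
(helper17 : `O₂⁻(q⁵) ≤ N(K₂)`, `K₂` a quadratic field of unitary type) taken as the hypothesis `core`.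
-/

set_option autoImplicit false
set_option linter.unusedSectionVars false
set_option linter.unusedVariables false

namespace Cfsg.Agent.Lib.Helper1.OECor

open Matrix Cfsg Cfsg.Geo Module QuadraticMap
open Cfsg.Agent.Lib.Helper1.OE
open Cfsg.Agent.Lib.Helper13 (toQF toQF_nondegenerate)

variable {F : Type*} [Field F] [Fintype F] {n : ℕ}

section assembly10

variable {Q : (Fin n → F) → F}

theorem not_pow10 (k t : ℕ) (hk : 2 ≤ k) (ht : 2 ≤ t) (h : k ^ t = 10) : False := by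
  have hk4 : k < 4 := by
    by_contra hcon
    have : 4 ^ 2 ≤ k ^ t := (Nat.pow_le_pow_left (by omega) 2).trans (Nat.pow_le_pow_right (by omega) ht)
    omega
  have ht4 : t < 4 := by
    by_contra hcon
    have : 2 ^ 4 ≤ k ^ t := (Nat.pow_le_pow_left hk 4).trans (Nat.pow_le_pow_right (by omega) (by omega))
    omega
  interval_cases k <;> interval_cases t <;> omega

/-- the subfield exit of the minus rows -/
theorem exit_subfield_minus (hQ : IsNondegenerateQuadraticForm Q) (h5 : 5 ≤ n) (hn : Even n)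
    (hminus : ¬ IsPlusTypeOn Q ⊤) (H : Subgroup (GL (Fin n) F)) (hH : IsMaximalIn (omegaGL Q) H)
    (F₀ : Subfield F) (r : ℕ) (P : GL (Fin n) F) (ζ : F) (hr : r.Prime)
    (hc : Fintype.card F = Nat.card F₀ ^ r) (hζ : ζ ≠ 0)
    (hrat : IsQuadFormRationalStructure (fun v : Fin n → F => ζ * Q v) F₀ P)
    (hle : H ≤ subfieldSubgroup F₀ P) :
    ∃ (F₀ : Subfield F) (r : ℕ) (P : Matrix.GeneralLinearGroup (Fin n) F) (ζ : F), r.Prime ∧ Odd r ∧ Fintype.card F = Nat.card F₀ ^ r ∧ ζ ≠ 0 ∧ Cfsg.Geo.IsQuadFormRationalStructure (fun v : Fin n → F => ζ * Q v) F₀ P ∧ H = Cfsg.Geo.subfieldSubgroup F₀ P ⊓ Cfsg.Geo.omegaGL Q := by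
  rcases hr.eq_two_or_odd' with rfl | hodd
  · exact absurd (Cfsg.Agent.Lib.Helper23.OETypeTC6.isPlusTypeOn_top_of_subfield_two hQ (by rw [Fintype.card_fin]; exact hn) F₀ hc P ζ hζ hrat)
      hminus
  · exact ⟨F₀, r, P, ζ, hr, hodd, hc, hζ, hrat, eq_of_le_member _ H _ hH hle
      (not_omega_le_subfield hQ h5 F₀ (Cfsg.Agent.Lib.Helper29.AschCor.proper_of_card F₀ r hr hc) P)⟩

/-- verbatim conclusion of S5850 -/
def Row10M (Q : (Fin 10 → F) → F) (H : Subgroup (Matrix.GeneralLinearGroup (Fin 10) F)) : Prop :=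
    (∃ W : Submodule F (Fin 10 → F), W ≠ ⊥ ∧ Cfsg.Geo.IsTotallySingularQuad Q W ∧ H = Cfsg.Geo.subspaceStabilizer W ⊓ Cfsg.Geo.omegaGL Q) ∨
    (Odd (Fintype.card F) ∧ ∃ W : Submodule F (Fin 10 → F), W ≠ ⊥ ∧ W ≠ ⊤ ∧ Odd (Module.finrank F W) ∧ 2 * Module.finrank F W ≠ 10 ∧ Cfsg.Geo.IsNondegenerateOn (QuadraticMap.polar Q) W ∧ H = Cfsg.Geo.subspaceStabilizer W ⊓ Cfsg.Geo.omegaGL Q) ∨
    (∃ W : Submodule F (Fin 10 → F), Module.finrank F W = 2 ∧ Cfsg.Geo.IsNondegenerateOn (QuadraticMap.polar Q) W ∧ ¬ Cfsg.Geo.IsPlusTypeOn Q W ∧ H = Cfsg.Geo.subspaceStabilizer W ⊓ Cfsg.Geo.omegaGL Q) ∨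
    (4 ≤ Fintype.card F ∧ ∃ W : Submodule F (Fin 10 → F), Module.finrank F W = 2 ∧ Cfsg.Geo.IsNondegenerateOn (QuadraticMap.polar Q) W ∧ Cfsg.Geo.IsPlusTypeOn Q W ∧ H = Cfsg.Geo.subspaceStabilizer W ⊓ Cfsg.Geo.omegaGL Q) ∨
    (∃ W : Submodule F (Fin 10 → F), Module.finrank F W = 4 ∧ Cfsg.Geo.IsNondegenerateOn (QuadraticMap.polar Q) W ∧ H = Cfsg.Geo.subspaceStabilizer W ⊓ Cfsg.Geo.omegaGL Q) ∨
    (¬ Odd (Fintype.card F) ∧ ∃ v : (Fin 10 → F), Q v ≠ 0 ∧ H = Cfsg.Geo.subspaceStabilizer (Submodule.span F {v}) ⊓ Cfsg.Geo.omegaGL Q) ∨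
    ((∃ p : ℕ, p.Prime ∧ Fintype.card F = p ∧ (p % 4 = 3)) ∧ ∃ D : Fin 10 → Submodule F (Fin 10 → F), Cfsg.Geo.IsOrthogonalMDecomposition Q 1 D ∧ H = Cfsg.Geo.decompositionStabilizer D ⊓ Cfsg.Geo.omegaGL Q) ∨
    (Fintype.card F ≠ 3 ∧ ∃ D : Fin 5 → Submodule F (Fin 10 → F), Cfsg.Geo.IsOrthogonalMDecomposition Q 2 D ∧ H = Cfsg.Geo.decompositionStabilizer D ⊓ Cfsg.Geo.omegaGL Q) ∨
    (Fintype.card F % 4 = 3 ∧ ∃ D : Fin 2 → Submodule F (Fin 10 → F), Cfsg.Geo.IsOrthogonalMDecomposition Q 5 D ∧ H = Cfsg.Geo.decompositionStabilizer D ⊓ Cfsg.Geo.omegaGL Q) ∨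
    (Fintype.card F % 4 = 1 ∧ ∃ D : Fin 2 → Submodule F (Fin 10 → F), Cfsg.Geo.IsNondegenerateMDecomposition (QuadraticMap.polar Q) 5 D ∧ ¬ Cfsg.Geo.AreIsometricFor Q (D 0) (D 1) ∧ H = Cfsg.Geo.decompositionStabilizer D ⊓ Cfsg.Geo.omegaGL Q) ∨
    (Odd (Fintype.card F) ∧ ∃ K : Subalgebra F (Matrix (Fin 10) (Fin 10) F), Cfsg.Geo.IsFieldSubalgebra 2 K ∧ Cfsg.Geo.IsSelfAdjointFor (QuadraticMap.polar Q) K ∧ H = Cfsg.Geo.subalgebraNormalizer K ⊓ Cfsg.Geo.omegaGL Q) ∨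
    (∃ K : Subalgebra F (Matrix (Fin 10) (Fin 10) F), Cfsg.Geo.IsFieldSubalgebra 2 K ∧ Cfsg.Geo.IsAdjointClosedFor (QuadraticMap.polar Q) K ∧ ¬ Cfsg.Geo.IsSelfAdjointFor (QuadraticMap.polar Q) K ∧ (∀ k ∈ K, ∃ c : F, ∀ v : (Fin 10 → F), Q (Matrix.mulVec k v) = c * Q v) ∧ H = Cfsg.Geo.subalgebraNormalizer K ⊓ Cfsg.Geo.omegaGL Q) ∨
    (∃ (F₀ : Subfield F) (r : ℕ) (P : Matrix.GeneralLinearGroup (Fin 10) F) (ζ : F), r.Prime ∧ Odd r ∧ Fintype.card F = Nat.card F₀ ^ r ∧ ζ ≠ 0 ∧ Cfsg.Geo.IsQuadFormRationalStructure (fun v : Fin 10 → F => ζ * Q v) F₀ P ∧ H = Cfsg.Geo.subfieldSubgroup F₀ P ⊓ Cfsg.Geo.omegaGL Q) ∨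
    Cfsg.Geo.InOrthogonalResidualClass H

/-- **S5850** (`Ω₁₀⁻`) from the hub -/
theorem cases10m_of_core (Q : (Fin 10 → F) → F) (hQ : IsNondegenerateQuadraticForm Q) (hminus : ¬ IsPlusTypeOn Q ⊤)
    (hub : HubOE Q)
    (core : ∀ (r : ℕ), r.Prime → Odd r → 10 = 2 * r → ∀ (K : Subalgebra F (Matrix (Fin 10) (Fin 10) F)),
      IsFieldSubalgebra r K → IsSelfAdjointFor (polar Q) K →
      (∀ v : Fin 10 → F, v ≠ 0 → ∃ k ∈ K, Q (k *ᵥ v) ≠ 0) →
      ∃ K' : Subalgebra F (Matrix (Fin 10) (Fin 10) F), IsFieldSubalgebra 2 K' ∧ IsAdjointClosedFor (polar Q) K' ∧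
        ¬ IsSelfAdjointFor (polar Q) K' ∧ (∀ k ∈ K', ∃ c : F, ∀ v : Fin 10 → F, Q (k *ᵥ v) = c * Q v) ∧
        subalgebraNormalizer K ⊓ isometryGroup F Q ≤ subalgebraNormalizer K')
    (H : Subgroup (GL (Fin 10) F)) (hH : IsMaximalIn (omegaGL Q) H) : Row10M Q H := by
  have h5 : 5 ≤ 10 := by norm_num
  have hΩI := omegaGL_le_iso Q
  have hc10 : Fintype.card (Fin 10) = 10 := Fintype.card_fin 10
  have hq1 : 1 < Fintype.card F := Fintype.one_lt_card
  -- the three late items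
  have item12 : (∃ K : Subalgebra F (Matrix (Fin 10) (Fin 10) F), IsFieldSubalgebra 2 K ∧
      IsAdjointClosedFor (polar Q) K ∧ ¬ IsSelfAdjointFor (polar Q) K ∧
      (∀ k ∈ K, ∃ c : F, ∀ v : Fin 10 → F, Q (k *ᵥ v) = c * Q v) ∧ H ≤ subalgebraNormalizer K) →
      Row10M Q H :=
    fun h => by
      unfold Row10M
      exact Or.inr (Or.inr (Or.inr (Or.inr (Or.inr (Or.inr (Or.inr (Or.inr (Or.inr (Or.inr (Or.inr (Or.inl
        (exit_unitary hQ h5 H hH h))))))))))))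
  have item13 : ∀ (F₀ : Subfield F) (r : ℕ) (P : GL (Fin 10) F) (ζ : F), r.Prime →
      Fintype.card F = Nat.card F₀ ^ r → ζ ≠ 0 →
      IsQuadFormRationalStructure (fun v : Fin 10 → F => ζ * Q v) F₀ P → H ≤ subfieldSubgroup F₀ P →
      Row10M Q H :=
    fun F₀ r P ζ hr hc hζ hrat hle => by
      unfold Row10M
      exact Or.inr (Or.inr (Or.inr (Or.inr (Or.inr (Or.inr (Or.inr (Or.inr (Or.inr
        (Or.inr (Or.inr (Or.inr (Or.inl (exit_subfield_minus hQ h5 ⟨5, rfl⟩ hminus H hH F₀ r P ζ hr hc hζ hrat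
          hle)))))))))))))
  unfold Row10M
  rcases hub H (hH.1.le.trans hΩI) with ⟨M, hM, hHM⟩ | hres
  swap
  · exact Or.inr (Or.inr (Or.inr (Or.inr (Or.inr (Or.inr (Or.inr (Or.inr (Or.inr (Or.inr (Or.inr (Or.inr
      (Or.inr hres))))))))))))
  rcases hM with ⟨W, hW0, hW, rfl⟩ | ⟨W, hW0, hW1, hW, rfl⟩ | ⟨hq, v, hv, rfl⟩ | ⟨t, k, D, hD, hprime, rfl⟩ |
    ⟨k, D, hD, hts, rfl⟩ | ⟨r, K, hr, hK, hsa, rfl⟩ | ⟨K, hK, hac, hnsa, hsim, rfl⟩ |
    ⟨n₁, n₂, e, P, f₁, f₂, hq, h1, h2, hf₁, hf₂, hT, rfl⟩ |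
    ⟨n₁, n₂, e, P, f₁, f₂, h1, h2, hf₁, hf₂, hT, hpure, rfl⟩ | ⟨F₀, r, P, ζ, hr, hc, hζ, hrat, rfl⟩ |
    ⟨R, hq, hR, hirr, hRI, rfl⟩ | ⟨k, t, e, P, f₁, hq, hk, ht, hf₁, hT, rfl⟩ |
    ⟨k, t, e, P, f₁, hk, ht, hf₁, hT, hpure, rfl⟩
  · -- (1a) totally singular
    have hW1 : W ≠ ⊤ := ts_ne_top hQ (by norm_num) W hW
    exact Or.inl ⟨W, hW0, hW, eq_of_le_member _ H _ hH (hHM.trans inf_le_left)
      (not_omega_le_stab hQ h5 W hW0 hW1)⟩
  · -- (1b) non-degenerate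
    obtain ⟨W', hpos, hhalf, hW', hHW'⟩ := exit_nd hQ h5 H hH W hW0 hW1 hW (hHM.trans inf_le_left)
    have hW'0 := ne_bot_of_finrank_pos W' hpos
    have hW'1 := ne_top_of_finrank_lt W' (by omega)
    rcases Nat.even_or_odd (finrank F W') with hev | hodd
    · obtain ⟨j, hj⟩ := hev
      have hj12 : j = 1 ∨ j = 2 := by omega
      rcases hj12 with rfl | rfl
      · rcases exit_plane hQ h5 H hH W' (by omega) hW' hHW' with h | h | ⟨hq, W'', hdim, hnd, hHW''⟩ | h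
        · exact Or.inr (Or.inr (Or.inl h))
        · exact Or.inr (Or.inr (Or.inr (Or.inl h)))
        · exact Or.inr (Or.inl ⟨hq, W'', ne_bot_of_finrank_pos W'' (by omega),
            ne_top_of_finrank_lt W'' (by omega), ⟨4, by omega⟩, by omega, hnd, hHW''⟩)
        · exact Or.inr (Or.inr (Or.inr (Or.inr (Or.inr (Or.inl h)))))
      · exact Or.inr (Or.inr (Or.inr (Or.inr (Or.inl ⟨W', by omega, hW', hHW'⟩))))
    · have hqodd := odd_card_of_odd_finrank hQ W' hW' hodd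
      by_cases h5' : finrank F W' = 5
      swap
      · exact Or.inr (Or.inl ⟨hqodd, W', hW'0, hW'1, hodd, by omega, hW', hHW'⟩)
      -- two halves of dimension 5
      obtain ⟨W'', hW'', hadd, horth, hcompl, -⟩ := exists_perp hQ W' hW'
      obtain ⟨hdec, hle1, -⟩ := Cfsg.Agent.Lib.Helper16.OEPlus.pair_decomp hQ 5 (by norm_num) W' W'' hW' hW'' hcompl horth h5' (by omega)
      have hleD : H ≤ decompositionStabilizer ![W', W''] := by
        intro x hx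
        rw [hHW'] at hx
        exact hle1 ⟨hx.1, hΩI hx.2⟩
      have hHD : H = decompositionStabilizer ![W', W''] ⊓ omegaGL Q :=
        eq_of_le_member _ H _ hH hleD (Cfsg.Agent.Lib.Helper11.OECorPDEC.not_omega_le_decomp hQ h5 _ hdec)
      have htype := Cfsg.Agent.Lib.Helper8.OETypeHalves.isPlusTypeOn_top_iff_of_halves hQ hqodd ⟨2, rfl⟩ ![W', W''] hdec
      have hq13 : Fintype.card F % 4 = 1 ∨ Fintype.card F % 4 = 3 := by
        obtain ⟨j, hj⟩ := hqodd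
        omega
      by_cases hiso : AreIsometricFor Q ((![W', W''] : Fin 2 → Submodule F (Fin 10 → F)) 0)
          ((![W', W''] : Fin 2 → Submodule F (Fin 10 → F)) 1)
      · have hq3 : Fintype.card F % 4 = 3 := by
          rcases hq13 with h | h
          · exact absurd (htype.mpr ⟨fun _ => h, fun _ => hiso⟩) hminus
          · exact h
        exact Or.inr (Or.inr (Or.inr (Or.inr (Or.inr (Or.inr (Or.inr (Or.inr (Or.inl ⟨hq3, _,
          orthogonalMDecomposition_of_pair _ hdec hiso, hHD⟩))))))))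
      · have hq1' : Fintype.card F % 4 = 1 := by
          rcases hq13 with h | h
          · exact h
          · exact absurd (htype.mpr ⟨fun h' => absurd h' hiso, fun h' => by omega⟩) hminus
        exact Or.inr (Or.inr (Or.inr (Or.inr (Or.inr (Or.inr (Or.inr (Or.inr (Or.inr (Or.inl ⟨hq1', _,
          hdec, hiso, hHD⟩)))))))))
  · -- (1c) non-singular vector
    have hv0 : v ≠ 0 := by
      rintro rfl
      apply hv
      have := hQ.smul 0 (0 : Fin 10 → F)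
      rw [zero_smul] at this
      rw [this]
      ring
    have hs0 : Submodule.span F {v} ≠ ⊥ := by
      rw [Ne, Submodule.span_singleton_eq_bot]
      exact hv0
    have hs1 : Submodule.span F {v} ≠ ⊤ := by
      apply ne_top_of_finrank_lt
      rw [finrank_span_singleton hv0]
      norm_num
    exact Or.inr (Or.inr (Or.inr (Or.inr (Or.inr (Or.inl ⟨hq, v, hv,
      eq_of_le_member _ H _ hH (hHM.trans inf_le_left) (not_omega_le_stab hQ h5 _ hs0 hs1)⟩)))))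
  · -- (2a) isometric decomposition
    have hdim := Cfsg.Agent.Lib.Helper9.HubCor.mul_eq_card_of_isMDecomposition D hD.decomp.decomp
    rw [hc10] at hdim
    have ht2 := hD.decomp.decomp.two_le
    have ht10 : t ∣ 10 := Dvd.intro _ hdim
    have ht' : t ≤ 10 := Nat.le_of_dvd (by norm_num) ht10
    have hHD : H = decompositionStabilizer D ⊓ omegaGL Q :=
      eq_of_le_member _ H _ hH (hHM.trans inf_le_left) (Cfsg.Agent.Lib.Helper11.OECorPDEC.not_omega_le_decomp hQ h5 D hD.decomp)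
    have hcases : (t = 2 ∧ k = 5) ∨ (t = 5 ∧ k = 2) ∨ (t = 10 ∧ k = 1) := by
      interval_cases t <;> omega
    rcases hcases with ⟨rfl, rfl⟩ | ⟨rfl, rfl⟩ | ⟨rfl, rfl⟩
    · -- two isometric halves
      have hq3 : Fintype.card F % 4 = 3 := by
        by_contra hne
        exact hminus (Cfsg.Agent.Lib.Helper7.OEType.isPlusTypeOn_top_of_decomposition_even hQ D hD ⟨1, rfl⟩ (Or.inr (Or.inr hne)))
      exact Or.inr (Or.inr (Or.inr (Or.inr (Or.inr (Or.inr (Or.inr (Or.inr (Or.inl ⟨hq3, D, hD,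
        hHD⟩))))))))
    · -- five planes
      by_cases hq3 : Fintype.card F = 3
      · exfalso
        have : ∃ K : Subgroup (GL (Fin 10) F), decompositionStabilizer D ⊓ omegaGL Q < K ∧ K < omegaGL Q :=
          Cfsg.Agent.Lib.Helper13.frame_not_maximal_of_five_le (toQF Q hQ) (toQF_nondegenerate Q hQ) hq3
            (by norm_num) 2 (Or.inl rfl) D hD
        rw [← hHD] at this
        exact not_maximal_of_between _ H hH this
      · exact Or.inr (Or.inr (Or.inr (Or.inr (Or.inr (Or.inr (Or.inr (Or.inl ⟨hq3, D, hD, hHD⟩)))))))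
    · -- ten lines
      have hq3 : Fintype.card F % 4 = 3 := by
        by_contra hne
        exact hminus (Cfsg.Agent.Lib.Helper7.OEType.isPlusTypeOn_top_of_decomposition_even hQ D hD ⟨5, rfl⟩ (Or.inr (Or.inr hne)))
      exact Or.inr (Or.inr (Or.inr (Or.inr (Or.inr (Or.inr (Or.inl ⟨⟨_, hprime rfl, rfl, hq3⟩, D, hD,
        hHD⟩))))))
  · -- (2b) totally singular halves : plus type
    exfalso
    have hdim := Cfsg.Agent.Lib.Helper9.HubCor.mul_eq_card_of_isMDecomposition D hD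
    rw [hc10] at hdim
    apply hminus
    refine ⟨D 0, le_top, hts 0, ?_⟩
    rw [hD.finrank_eq 0, finrank_top, Module.finrank_fintype_fun_eq_card, hc10]
    omega
  · -- (3a) self-adjoint field
    have hdvd := Cfsg.Agent.Lib.Helper29.S5814.field_degree_dvd r K hK
    rw [hc10] at hdvd
    have hr25 : r = 2 ∨ r = 5 := by
      have h10 : (10 : ℕ) = 2 * 5 := by norm_num
      rw [h10] at hdvd
      rcases (Nat.Prime.dvd_mul hr).mp hdvd with h | h
      · exact Or.inl ((Nat.prime_dvd_prime_iff_eq hr Nat.prime_two).mp h)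
      · exact Or.inr ((Nat.prime_dvd_prime_iff_eq hr Nat.prime_five).mp h)
    rcases hr25 with rfl | rfl
    · by_cases hq : Odd (Fintype.card F)
      · exact Or.inr (Or.inr (Or.inr (Or.inr (Or.inr (Or.inr (Or.inr (Or.inr (Or.inr (Or.inr (Or.inl ⟨hq, K,
          hK, hsa, eq_of_le_member _ H _ hH (hHM.trans inf_le_left)
            (not_omega_le_field hQ h5 2 hr K hK)⟩))))))))))
      · exfalso
        have := Cfsg.Agent.Lib.Helper28.OEPlus.selfadjoint_field_even hQ hq 2 K hK hsa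
        omega
    · obtain ⟨K₂, hK₂, hac, hnsa, hsim, hle⟩ :=
        Cfsg.Agent.Lib.Helper28.OECorF2m.field_half_minus_of_core core 5 hr ⟨2, rfl⟩ rfl hminus K hK hsa
      exact item12 ⟨K₂, hK₂, hac, hnsa, hsim, fun x hx => hle ⟨hHM.trans inf_le_left hx, hΩI (hH.1.le hx)⟩⟩
  · -- (3b) unitary field
    exact item12 ⟨K, hK, hac, hnsa, hsim, hHM.trans inf_le_left⟩
  · -- (4o) symmetric tensor product `2 ⊗ 5`
    have hcard := Fintype.card_congr e
    rw [hc10, Fintype.card_prod, Fintype.card_fin, Fintype.card_fin] at hcard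
    have h110 : n₁ ∣ 10 := Dvd.intro _ hcard.symm
    have h1' : n₁ ≤ 10 := Nat.le_of_dvd (by norm_num) h110
    have hcases : (n₁ = 2 ∧ n₂ = 5) ∨ (n₁ = 5 ∧ n₂ = 2) := by
      interval_cases n₁ <;> omega
    -- reduce to `2 ⊗ 5`
    obtain ⟨e', g₁, g₂, hg₁, hg₂, hT', hle'⟩ : ∃ (e' : Fin 10 ≃ Fin 2 × Fin 5)
        (g₁ : (Fin 2 → F) → (Fin 2 → F) → F) (g₂ : (Fin 5 → F) → (Fin 5 → F) → F), IsSymmetricForm g₁ ∧
        IsSymmetricForm g₂ ∧ IsTensorFormStructure id (polar Q) g₁ g₂ e' P ∧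
        H ≤ tensorProductSubgroup 2 5 e' P := by
      rcases hcases with ⟨rfl, rfl⟩ | ⟨rfl, rfl⟩
      · exact ⟨e, f₁, f₂, hf₁, hf₂, hT, hHM.trans inf_le_left⟩
      · refine ⟨e.trans (Equiv.prodComm (Fin 5) (Fin 2)), f₂, f₁, hf₂, hf₁,
          Cfsg.Agent.Lib.Helper15.TensSwap.isTensorFormStructure_swap id _ f₁ f₂ e P hT, ?_⟩
        rw [← Cfsg.Agent.Lib.Helper15.TensSwap.tensorProductSubgroup_swap]
        exact hHM.trans inf_le_left
    by_cases hiso : ∃ x, x ≠ 0 ∧ g₁ x x = 0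
    · exfalso
      obtain ⟨D, hD, hts, -⟩ := Cfsg.Agent.Lib.Helper27.OEPlusX.tensor_two_isotropic hQ hq (by norm_num) e' P g₁ g₂ hg₁ hg₂ hT' hiso
      apply hminus
      refine ⟨D 0, le_top, hts 0, ?_⟩
      rw [hD.finrank_eq 0, finrank_top, Module.finrank_fintype_fun_eq_card, hc10]
    · have haniso : ∀ x, g₁ x x = 0 → x = 0 := by
        intro x hx
        by_contra hne
        exact hiso ⟨x, hne, hx⟩
      obtain ⟨K₂, hK₂, hac, hnsa, hsim, hle⟩ :=
        Cfsg.Agent.Lib.Helper27.OEPlusX.tensor_two_anisotropic hQ hq (by norm_num) e' P g₁ g₂ hg₁ hg₂ hT' haniso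
      exact item12 ⟨K₂, hK₂, hac, hnsa, hsim, fun x hx => hle ⟨hle' hx, hΩI (hH.1.le hx)⟩⟩
  · -- (4s) symplectic tensor product : plus type
    exact absurd (Cfsg.Agent.Lib.Helper6.OETypeTC4.isPlusTypeOn_top_of_tensorSymp hQ e P f₁ f₂ hf₁ hf₂ hT hpure) hminus
  · -- (5) subfield
    exact item13 F₀ r P ζ hr hc hζ hrat (hHM.trans inf_le_left)
  · -- (6) symplectic type : `10` is not a power of `2`
    exfalso
    have h2 : ((2 : ℕ) : F) ≠ 0 := by
      have := two_ne_zero_of_odd hq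
      exact_mod_cast this
    obtain ⟨j, hj⟩ := Cfsg.Agent.Lib.Helper27.SpCorC6.card_eq_pow_of_symplecticType 2 R hR hirr h2
    rw [hc10] at hj
    have hj4 : j < 4 := by
      by_contra hcon
      have : 2 ^ 4 ≤ 2 ^ j := Nat.pow_le_pow_right (by norm_num) (by omega)
      omega
    interval_cases j <;> omega
  · -- (7o)
    exfalso
    have hcard := Fintype.card_congr e
    rw [hc10, Fintype.card_fun, Fintype.card_fin, Fintype.card_fin] at hcard
    exact not_pow10 k t hk ht hcard.symm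
  · -- (7s)
    exfalso
    have hcard := Fintype.card_congr e
    rw [hc10, Fintype.card_fun, Fintype.card_fin, Fintype.card_fin] at hcard
    exact not_pow10 k t hk ht hcard.symm

end assembly10

end Cfsg.Agent.Lib.Helper1.OECor
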