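import Mathlib
import Cfsg.Prelude.Def_GeometricClasses
import Cfsg.Agent.Lib.Helper1.OECorBase
import Cfsg.Agent.Lib.Helper29.S5814AFLD
import Cfsg.Agent.Lib.Helper7.OETypeB
import Cfsg.Agent.Lib.Helper6.OETypeTC4
import Cfsg.Agent.Lib.Helper23.OETypeTC6
import Cfsg.Agent.Lib.Helper25.OETypePowB
import Cfsg.Agent.Lib.Helper3.OECorEC6

/-!
# S5826 : the maximal subgroups of `Ω₈⁻(q)` from the hub `HubOE Q` (helper1)

`cases8m` is the verbatim conclusion of the frozen S5826.  Every geometric class other than (1), (3), (5 with `r` odd) forces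
plus type in dimension `8` (helper7 R1, helper6 TC4, helper25 TC5, helper23 TC6, helper3 C6).
-/

set_option autoImplicit false
set_option linter.unusedSectionVars false
set_option linter.unusedVariables false

namespace Cfsg.Agent.Lib.Helper1.OECor

open Matrix Cfsg Cfsg.Geo Module QuadraticMap
open Cfsg.Agent.Lib.Helper1.OE

variable {F : Type*} [Field F] [Fintype F] {n : ℕ}

/-- **S5826** (`Ω₈⁻`) from the hub -/
theorem cases8m (Q : (Fin 8 → F) → F) (hQ : IsNondegenerateQuadraticForm Q) (hminus : ¬ IsPlusTypeOn Q ⊤)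
    (hub : HubOE Q) (H : Subgroup (GL (Fin 8) F)) (hH : IsMaximalIn (omegaGL Q) H) :
    (∃ W : Submodule F (Fin 8 → F), W ≠ ⊥ ∧ Cfsg.Geo.IsTotallySingularQuad Q W ∧ H = Cfsg.Geo.subspaceStabilizer W ⊓ Cfsg.Geo.omegaGL Q) ∨
    (Odd (Fintype.card F) ∧ ∃ W : Submodule F (Fin 8 → F), W ≠ ⊥ ∧ W ≠ ⊤ ∧ Odd (Module.finrank F W) ∧ Cfsg.Geo.IsNondegenerateOn (QuadraticMap.polar Q) W ∧ H = Cfsg.Geo.subspaceStabilizer W ⊓ Cfsg.Geo.omegaGL Q) ∨
    (∃ W : Submodule F (Fin 8 → F), Module.finrank F W = 2 ∧ Cfsg.Geo.IsNondegenerateOn (QuadraticMap.polar Q) W ∧ ¬ Cfsg.Geo.IsPlusTypeOn Q W ∧ H = Cfsg.Geo.subspaceStabilizer W ⊓ Cfsg.Geo.omegaGL Q) ∨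
    (4 ≤ Fintype.card F ∧ ∃ W : Submodule F (Fin 8 → F), Module.finrank F W = 2 ∧ Cfsg.Geo.IsNondegenerateOn (QuadraticMap.polar Q) W ∧ Cfsg.Geo.IsPlusTypeOn Q W ∧ H = Cfsg.Geo.subspaceStabilizer W ⊓ Cfsg.Geo.omegaGL Q) ∨
    (∃ W : Submodule F (Fin 8 → F), Module.finrank F W = 4 ∧ Cfsg.Geo.IsNondegenerateOn (QuadraticMap.polar Q) W ∧ H = Cfsg.Geo.subspaceStabilizer W ⊓ Cfsg.Geo.omegaGL Q) ∨
    (¬ Odd (Fintype.card F) ∧ ∃ v : (Fin 8 → F), Q v ≠ 0 ∧ H = Cfsg.Geo.subspaceStabilizer (Submodule.span F {v}) ⊓ Cfsg.Geo.omegaGL Q) ∨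
    (∃ K : Subalgebra F (Matrix (Fin 8) (Fin 8) F), Cfsg.Geo.IsFieldSubalgebra 2 K ∧ H = Cfsg.Geo.subalgebraNormalizer K ⊓ Cfsg.Geo.omegaGL Q) ∨
    (∃ (F₀ : Subfield F) (r : ℕ) (P : Matrix.GeneralLinearGroup (Fin 8) F) (ζ : F), r.Prime ∧ Odd r ∧ Fintype.card F = Nat.card F₀ ^ r ∧ ζ ≠ 0 ∧ Cfsg.Geo.IsQuadFormRationalStructure (fun v : Fin 8 → F => ζ * Q v) F₀ P ∧ H = Cfsg.Geo.subfieldSubgroup F₀ P ⊓ Cfsg.Geo.omegaGL Q) ∨
    Cfsg.Geo.InOrthogonalResidualClass H := by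
  have h5 : 5 ≤ 8 := by norm_num
  have hΩI := omegaGL_le_iso Q
  have hc8 : Fintype.card (Fin 8) = 8 := Fintype.card_fin 8
  rcases hub H (hH.1.le.trans hΩI) with ⟨M, hM, hHM⟩ | hres
  swap
  · exact Or.inr (Or.inr (Or.inr (Or.inr (Or.inr (Or.inr (Or.inr (Or.inr hres)))))))
  rcases hM with ⟨W, hW0, hW, rfl⟩ | ⟨W, hW0, hW1, hW, rfl⟩ | ⟨hq, v, hv, rfl⟩ | ⟨t, k, D, hD, -, rfl⟩ |
    ⟨k, D, hD, hts, rfl⟩ | ⟨r, K, hr, hK, hsa, rfl⟩ | ⟨K, hK, hac, hnsa, hsim, rfl⟩ |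
    ⟨n₁, n₂, e, P, f₁, f₂, hq, h1, h2, hf₁, hf₂, hT, rfl⟩ |
    ⟨n₁, n₂, e, P, f₁, f₂, h1, h2, hf₁, hf₂, hT, hpure, rfl⟩ | ⟨F₀, r, P, ζ, hr, hc, hζ, hrat, rfl⟩ |
    ⟨R, hq, hR, hirr, hRI, rfl⟩ | ⟨k, t, e, P, f₁, hq, hk, ht, hf₁, hT, rfl⟩ |
    ⟨k, t, e, P, f₁, hk, ht, hf₁, hT, hpure, rfl⟩
  · -- (1a) totally singular
    have hW1 : W ≠ ⊤ := ts_ne_top hQ (by norm_num) W hW
    exact Or.inl ⟨W, hW0, hW, eq_of_le_member _ H _ hH (hHM.trans inf_le_left)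
      (not_omega_le_stab hQ h5 W hW0 hW1)⟩
  · -- (1b) non-degenerate
    obtain ⟨W', hpos, hhalf, hW', hHW'⟩ := exit_nd hQ h5 H hH W hW0 hW1 hW (hHM.trans inf_le_left)
    have hW'0 := ne_bot_of_finrank_pos W' hpos
    have hW'1 := ne_top_of_finrank_lt W' (by omega)
    rcases Nat.even_or_odd (finrank F W') with hev | hodd
    · obtain ⟨j, hj⟩ := hev
      have hj12 : j = 1 ∨ j = 2 := by omega
      rcases hj12 with rfl | rfl
      · rcases exit_plane hQ h5 H hH W' (by omega) hW' hHW' with h | h | ⟨hq, W'', hdim, hnd, hHW''⟩ | h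
        · exact Or.inr (Or.inr (Or.inl h))
        · exact Or.inr (Or.inr (Or.inr (Or.inl h)))
        · exact Or.inr (Or.inl ⟨hq, W'', ne_bot_of_finrank_pos W'' (by omega),
            ne_top_of_finrank_lt W'' (by omega), ⟨3, by omega⟩, hnd, hHW''⟩)
        · exact Or.inr (Or.inr (Or.inr (Or.inr (Or.inr (Or.inl h)))))
      · exact Or.inr (Or.inr (Or.inr (Or.inr (Or.inl ⟨W', by omega, hW', hHW'⟩))))
    · exact Or.inr (Or.inl ⟨odd_card_of_odd_finrank hQ W' hW' hodd, W', hW'0, hW'1, hodd, hW', hHW'⟩)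
  · -- (1c) non-singular vector
    have hv0 : v ≠ 0 := by
      rintro rfl
      apply hv
      have := hQ.smul 0 (0 : Fin 8 → F)
      rw [zero_smul] at this
      rw [this]
      ring
    have hs0 : Submodule.span F {v} ≠ ⊥ := by
      rw [Ne, Submodule.span_singleton_eq_bot]
      exact hv0
    have hs1 : Submodule.span F {v} ≠ ⊤ := by
      apply ne_top_of_finrank_lt
      rw [finrank_span_singleton hv0]
      norm_num
    exact Or.inr (Or.inr (Or.inr (Or.inr (Or.inr (Or.inl ⟨hq, v, hv,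
      eq_of_le_member _ H _ hH (hHM.trans inf_le_left) (not_omega_le_stab hQ h5 _ hs0 hs1)⟩)))))
  · -- (2a) isometric decomposition : plus type
    exfalso
    have hdim := Cfsg.Agent.Lib.Helper9.HubCor.mul_eq_card_of_isMDecomposition D hD.decomp.decomp
    rw [hc8] at hdim
    have ht2 := hD.decomp.decomp.two_le
    have ht8 : t ∣ 8 := Dvd.intro _ hdim
    have ht' : t ≤ 8 := Nat.le_of_dvd (by norm_num) ht8
    apply hminus
    have hcases : (t = 2 ∧ k = 4) ∨ (t = 4 ∧ k = 2) ∨ (t = 8 ∧ k = 1) := by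
      interval_cases t <;> omega
    rcases hcases with ⟨rfl, rfl⟩ | ⟨rfl, rfl⟩ | ⟨rfl, rfl⟩
    · exact Cfsg.Agent.Lib.Helper7.OEType.isPlusTypeOn_top_of_decomposition_even hQ D hD ⟨1, rfl⟩ (Or.inl ⟨2, rfl⟩)
    · exact Cfsg.Agent.Lib.Helper7.OEType.isPlusTypeOn_top_of_decomposition_even hQ D hD ⟨2, rfl⟩ (Or.inl ⟨1, rfl⟩)
    · exact Cfsg.Agent.Lib.Helper7.OEType.isPlusTypeOn_top_of_decomposition_even hQ D hD ⟨4, rfl⟩ (Or.inr (Or.inl ⟨2, rfl⟩))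
  · -- (2b) totally singular halves : plus type
    exfalso
    have hdim := Cfsg.Agent.Lib.Helper9.HubCor.mul_eq_card_of_isMDecomposition D hD
    rw [hc8] at hdim
    apply hminus
    refine ⟨D 0, le_top, hts 0, ?_⟩
    rw [hD.finrank_eq 0, finrank_top, Module.finrank_fintype_fun_eq_card, hc8]
    omega
  · -- (3a) self-adjoint field
    have hdvd := Cfsg.Agent.Lib.Helper29.S5814.field_degree_dvd r K hK
    rw [hc8] at hdvd
    have hr2 : r = 2 := by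
      have hr8 : r ∣ 2 ^ 3 := by norm_num at hdvd ⊢; exact hdvd
      exact (Nat.prime_dvd_prime_iff_eq hr Nat.prime_two).mp (hr.dvd_of_dvd_pow hr8)
    subst hr2
    exact Or.inr (Or.inr (Or.inr (Or.inr (Or.inr (Or.inr (Or.inl ⟨K, hK,
      eq_of_le_member _ H _ hH (hHM.trans inf_le_left) (not_omega_le_field hQ h5 2 hr K hK)⟩))))))
  · -- (3b) unitary field
    exact Or.inr (Or.inr (Or.inr (Or.inr (Or.inr (Or.inr (Or.inl ⟨K, hK,
      eq_of_le_member _ H _ hH (hHM.trans inf_le_left)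
        (not_omega_le_field hQ h5 2 Nat.prime_two K hK)⟩))))))
  · -- (4o) symmetric tensor product : plus type
    exfalso
    have hcard := Fintype.card_congr e
    rw [hc8, Fintype.card_prod, Fintype.card_fin, Fintype.card_fin] at hcard
    apply hminus
    have h18 : n₁ ∣ 8 := Dvd.intro _ hcard.symm
    have h1' : n₁ ≤ 8 := Nat.le_of_dvd (by norm_num) h18
    have hcases : (n₁ = 2 ∧ n₂ = 4) ∨ (n₁ = 4 ∧ n₂ = 2) := by
      interval_cases n₁ <;> omega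
    rcases hcases with ⟨rfl, rfl⟩ | ⟨rfl, rfl⟩
    · exact Cfsg.Agent.Lib.Helper6.OETypeTC4.isPlusTypeOn_top_of_tensorSymm_even hQ hq e P f₁ f₂ hf₁ hf₂ hT ⟨1, rfl⟩ ⟨2, rfl⟩
    · exact Cfsg.Agent.Lib.Helper6.OETypeTC4.isPlusTypeOn_top_of_tensorSymm_even hQ hq e P f₁ f₂ hf₁ hf₂ hT ⟨2, rfl⟩ ⟨1, rfl⟩
  · -- (4s) symplectic tensor product : plus type
    exact absurd (Cfsg.Agent.Lib.Helper6.OETypeTC4.isPlusTypeOn_top_of_tensorSymp hQ e P f₁ f₂ hf₁ hf₂ hT hpure) hminus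
  · -- (5) subfield
    rcases hr.eq_two_or_odd' with rfl | hodd
    · exact absurd (Cfsg.Agent.Lib.Helper23.OETypeTC6.isPlusTypeOn_top_of_subfield_two hQ (by rw [hc8]; exact ⟨4, rfl⟩) F₀ hc P ζ hζ hrat)
        hminus
    · exact Or.inr (Or.inr (Or.inr (Or.inr (Or.inr (Or.inr (Or.inr (Or.inl ⟨F₀, r, P, ζ, hr, hodd, hc, hζ,
        hrat, eq_of_le_member _ H _ hH (hHM.trans inf_le_left) (not_omega_le_subfield hQ h5 F₀
          (Cfsg.Agent.Lib.Helper29.AschCor.proper_of_card F₀ r hr hc) P)⟩)))))))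
  · -- (6) symplectic type : plus type
    exfalso
    obtain ⟨D, hD⟩ := Cfsg.Agent.Lib.Helper3.OECorEC6.exists_halves_of_symplecticType hQ hq 4 rfl (by norm_num) R hR hirr hRI
    exact hminus (Cfsg.Agent.Lib.Helper7.OEType.isPlusTypeOn_top_of_decomposition_even hQ D hD ⟨1, rfl⟩ (Or.inl ⟨2, rfl⟩))
  · -- (7o) symmetric tensor power : plus type
    exfalso
    have hcard := Fintype.card_congr e
    rw [hc8, Fintype.card_fun, Fintype.card_fin, Fintype.card_fin] at hcard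
    have hk2 : k = 2 := by
      by_contra hne
      have h3 : 3 ≤ k := by omega
      have : 3 ^ 2 ≤ k ^ t := (Nat.pow_le_pow_left h3 2).trans (Nat.pow_le_pow_right (by omega) ht)
      omega
    subst hk2
    exact hminus (Cfsg.Agent.Lib.Helper25.OETypePow.isPlusTypeOn_top_of_tensorPowerSymm hQ hq ⟨1, rfl⟩ ht e P f₁ hf₁ hT)
  · -- (7s) symplectic tensor power : plus type
    exact absurd (Cfsg.Agent.Lib.Helper25.OETypePow.isPlusTypeOn_top_of_tensorPowerSymp hQ (by omega) e P f₁ hf₁ hT hpure) hminus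

end Cfsg.Agent.Lib.Helper1.OECor
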