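import Mathlib
import Cfsg.Prelude.Def_Classical
import Cfsg.Prelude.Def_GeometricClasses
import Cfsg.Agent.Lib.Helper13.OrthCharTwoMat
import Cfsg.Agent.Lib.Helper15.QuadCount3
import Cfsg.Agent.Lib.Helper15.PSpM8
import Cfsg.Agent.Lib.Helper1.GUS3

/-!
# Isometries over an extension field inside the normaliser of the field

An `F`-linear identification `Ψ` of `L^κ` with `F^ι` carries the isometry group of a function
`QL` on `L^κ` into `GL ι F`; if `Q ∘ Ψ` factors through `QL` the image consists of isometries of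
`Q`, and if multiplication by `ω : L` corresponds to the matrix `J` the image centralises `J`.
-/

set_option autoImplicit false
set_option linter.unusedSectionVars false

namespace Cfsg.Agent.Lib.Helper1.OFC

open Module Matrix Cfsg.Agent.Lib.Helper13

section embed

universe u v

variable {F : Type u} {L : Type v} [Field F] [Field L] [Algebra F L]
  {ι κ : Type} [Fintype ι] [DecidableEq ι] [Fintype κ] [DecidableEq κ]

/-- the `F`-linear automorphism of `F^ι` induced by an `L`-linear automorphism of `L^κ` -/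
noncomputable def transp (Ψ : (κ → L) ≃ₗ[F] (ι → F)) (g : GL κ L) : (ι → F) ≃ₗ[F] (ι → F) :=
  (Ψ.symm.trans ((glEquiv g).restrictScalars F)).trans Ψ

theorem transp_apply (Ψ : (κ → L) ≃ₗ[F] (ι → F)) (g : GL κ L) (v : ι → F) :
    transp Ψ g v = Ψ ((g : Matrix κ κ L) *ᵥ Ψ.symm v) := rfl

/-- the induced homomorphism `GL κ L → GL ι F` -/
noncomputable def transpHom (Ψ : (κ → L) ≃ₗ[F] (ι → F)) : GL κ L →* GL ι F where
  toFun g := glEquiv.symm (transp Ψ g)
  map_one' := by
    apply glEquiv.injective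
    rw [MulEquiv.apply_symm_apply, map_one]
    apply LinearEquiv.ext
    intro v
    rw [transp_apply, Units.val_one, Matrix.one_mulVec, LinearEquiv.apply_symm_apply]
    rfl
  map_mul' g h := by
    apply glEquiv.injective
    rw [MulEquiv.apply_symm_apply, map_mul, MulEquiv.apply_symm_apply, MulEquiv.apply_symm_apply]
    apply LinearEquiv.ext
    intro v
    rw [LinearEquiv.mul_apply, transp_apply, transp_apply, transp_apply,
      LinearEquiv.symm_apply_apply, Units.val_mul, Matrix.mulVec_mulVec]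

theorem transpHom_mulVec (Ψ : (κ → L) ≃ₗ[F] (ι → F)) (g : GL κ L) (v : ι → F) :
    ((transpHom Ψ g : GL ι F) : Matrix ι ι F) *ᵥ v = Ψ ((g : Matrix κ κ L) *ᵥ Ψ.symm v) := by
  change ((glEquiv.symm (transp Ψ g) : GL ι F) : Matrix ι ι F) *ᵥ v = _
  rw [glEquiv_symm_mulVec, transp_apply]

theorem transpHom_injective (Ψ : (κ → L) ≃ₗ[F] (ι → F)) : Function.Injective (transpHom Ψ) := by
  intro g h hgh
  apply Units.ext
  apply Matrix.toLin'.injective
  refine LinearMap.ext fun x => ?_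
  rw [Matrix.toLin'_apply, Matrix.toLin'_apply]
  have h1 := transpHom_mulVec Ψ g (Ψ x)
  have h2 := transpHom_mulVec Ψ h (Ψ x)
  rw [hgh, h2, LinearEquiv.symm_apply_apply] at h1
  exact (Ψ.injective h1).symm

/-- isometries go to isometries -/
theorem transpHom_mem_isometryGroup (Ψ : (κ → L) ≃ₗ[F] (ι → F)) (Q : (ι → F) → F)
    (QL : (κ → L) → L) (hQ : ∀ x y, QL x = QL y → Q (Ψ x) = Q (Ψ y)) (g : GL κ L)
    (hg : g ∈ Cfsg.isometryGroup L QL) : transpHom Ψ g ∈ Cfsg.isometryGroup F Q := by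
  rw [Cfsg.Agent.Lib.Helper15.mem_isometryGroup_iff] at hg ⊢
  intro u
  rw [transpHom_mulVec, hQ _ _ (hg (Ψ.symm u)), LinearEquiv.apply_symm_apply]

/-- the image centralises the matrix of a scalar of `L` -/
theorem transpHom_comm (Ψ : (κ → L) ≃ₗ[F] (ι → F)) (J : Matrix ι ι F) (ω : L)
    (hJ : ∀ x, Ψ (ω • x) = J *ᵥ Ψ x) (g : GL κ L) :
    ((transpHom Ψ g : GL ι F) : Matrix ι ι F) * J = J * ((transpHom Ψ g : GL ι F) : Matrix ι ι F) := by
  apply Matrix.toLin'.injective
  refine LinearMap.ext fun v => ?_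
  rw [Matrix.toLin'_apply, Matrix.toLin'_apply, ← Matrix.mulVec_mulVec, ← Matrix.mulVec_mulVec,
    transpHom_mulVec, transpHom_mulVec, ← hJ, ← Matrix.mulVec_smul]
  congr 2
  apply Ψ.injective
  rw [hJ, LinearEquiv.apply_symm_apply, LinearEquiv.apply_symm_apply]

end embed

section index

universe u v

variable {F : Type u} {L : Type v} [Field F] [Fintype F] [Field L] [Algebra F L]
  {ι κ : Type} [Fintype ι] [DecidableEq ι] [Fintype κ] [DecidableEq κ]

theorem omegaGL_subgroupOf (Q : (ι → F) → F) :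
    (Cfsg.Geo.omegaGL Q).subgroupOf (Cfsg.isometryGroup F Q) = Cfsg.Omega F Q := by
  unfold Cfsg.Geo.omegaGL Subgroup.subgroupOf
  exact Subgroup.comap_map_eq_self_of_injective (Subgroup.subtype_injective _) _

theorem omegaGL_le_isometryGroup (Q : (ι → F) → F) :
    Cfsg.Geo.omegaGL Q ≤ Cfsg.isometryGroup F Q := by
  unfold Cfsg.Geo.omegaGL
  exact Subgroup.map_subtype_le _

/-- the index of `H ∩ Ω` in `Ω` divides the index of `H ∩ O` in `O` -/
theorem relIndex_omegaGL_dvd (Q : (ι → F) → F) (H : Subgroup (GL ι F)) :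
    H.relIndex (Cfsg.Geo.omegaGL Q) ∣ H.relIndex (Cfsg.isometryGroup F Q) := by
  have hn : ((Cfsg.Geo.omegaGL Q).subgroupOf (Cfsg.isometryGroup F Q)).Normal := by
    rw [omegaGL_subgroupOf]
    infer_instance
  have h1 := @Cfsg.Agent.Lib.Helper1.GUS.relIndex_dvd_index_of_normal_right
    (Cfsg.isometryGroup F Q) _ _ (H.subgroupOf (Cfsg.isometryGroup F Q))
    ((Cfsg.Geo.omegaGL Q).subgroupOf (Cfsg.isometryGroup F Q)) hn
  rw [Subgroup.relIndex_subgroupOf (omegaGL_le_isometryGroup Q)] at h1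
  exact h1

theorem relIndex_mul_card_dvd [Nonempty ι] (Ψ : (κ → L) ≃ₗ[F] (ι → F)) (Q : (ι → F) → F)
    (QL : (κ → L) → L) (hQ : ∀ x y, QL x = QL y → Q (Ψ x) = Q (Ψ y))
    (J : Matrix ι ι F) (ω : L) (hJ : ∀ x, Ψ (ω • x) = J *ᵥ Ψ x)
    (K : Subalgebra F (Matrix ι ι F)) (hJK : J ∈ K)
    (hgen : ∀ k ∈ K, ∃ a b : F, k = a • (1 : Matrix ι ι F) + b • J) :
    (Cfsg.Geo.subalgebraNormalizer K).relIndex (Cfsg.Geo.omegaGL Q) *
      Nat.card (Cfsg.isometryGroup L QL) ∣ Nat.card (Cfsg.isometryGroup F Q) := by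
  classical
  set N := Cfsg.Geo.subalgebraNormalizer K with hNdef
  set O := Cfsg.isometryGroup F Q with hOdef
  have hN : ∀ g : ↥(Cfsg.isometryGroup L QL), transpHom Ψ g.1 ∈ N ⊓ O := by
    intro g
    refine ⟨?_, transpHom_mem_isometryGroup Ψ Q QL hQ g.1 g.2⟩
    apply Cfsg.Agent.Lib.Helper15.PSpM.mem_normalizer_of_gen K J hJK hgen _ 1 0 one_ne_zero
    rw [one_smul, zero_smul, add_zero]
    exact transpHom_comm Ψ J ω hJ g.1
  have hdvd : Nat.card ↥(Cfsg.isometryGroup L QL) ∣ Nat.card ↥(N ⊓ O) := by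
    apply Subgroup.card_dvd_of_injective
      (((transpHom Ψ).comp (Cfsg.isometryGroup L QL).subtype).codRestrict _ hN)
    intro a b hab
    apply Subtype.ext
    apply transpHom_injective Ψ
    exact congrArg Subtype.val hab
  have hidx := Subgroup.relIndex_mul_relIndex ⊥ (N ⊓ O) O bot_le inf_le_right
  rw [Subgroup.relIndex_bot_left, Subgroup.relIndex_bot_left, Subgroup.inf_relIndex_right] at hidx
  rw [← hidx, mul_comm]
  exact Nat.mul_dvd_mul hdvd (relIndex_omegaGL_dvd Q N)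

end index

end Cfsg.Agent.Lib.Helper1.OFC
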