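import Mathlib
import Cfsg.Agent.Lib.Helper29.OF7
import Cfsg.Agent.Lib.Helper1.OFC1

/-!
# The coordinates over the extension field given by an adapted frame
-/

set_option autoImplicit false
set_option linter.unusedSectionVars false

namespace Cfsg.Agent.Lib.Helper1.OFC

open Module Matrix Cfsg.Agent.Lib.Helper29.OF

section psi

variable {F L : Type*} [Field F] [Fintype F] [Field L] [Algebra F L] [FiniteDimensional F L]
  {ι : Type} [Fintype ι] [DecidableEq ι]

local notation "VV" => (ι → F)
local notation "MM" => Matrix ι ι F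

/-- the identification of `L^(m+1)` with `F^ι` given by a frame -/
noncomputable def psi (pb : Basis (Fin 2) F L) {m : ℕ}
    (bF : Basis (Fin 2 × (Fin m ⊕ Unit)) F VV) : ((Fin m ⊕ Unit) → L) ≃ₗ[F] VV :=
  (pb.smulTower (Pi.basisFun L (Fin m ⊕ Unit))).equiv bF (Equiv.refl _)

theorem psi_basis (pb : Basis (Fin 2) F L) {m : ℕ}
    (bF : Basis (Fin 2 × (Fin m ⊕ Unit)) F VV) (i : Fin 2) (j : Fin m ⊕ Unit) :
    psi pb bF (pb i • Pi.single j (1 : L)) = bF (i, j) := by
  have h := Basis.equiv_apply (pb.smulTower (Pi.basisFun L (Fin m ⊕ Unit))) (i, j) bF (Equiv.refl _)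
  rw [Basis.smulTower_apply, Pi.basisFun_apply] at h
  exact h

theorem psi_smul (ρ : L →ₐ[F] MM) (pb : Basis (Fin 2) F L) {m : ℕ}
    (bF : Basis (Fin 2 × (Fin m ⊕ Unit)) F VV)
    (hb : ∀ i j, bF (i, j) = ρ (pb i) *ᵥ bF (0, j)) (a : L) (x : (Fin m ⊕ Unit) → L) :
    psi pb bF (a • x) = ρ a *ᵥ psi pb bF x := by
  have key : (psi pb bF).toLinearMap ∘ₗ ((LinearMap.lsmul L ((Fin m ⊕ Unit) → L) a).restrictScalars F) =
      Matrix.toLin' (ρ a) ∘ₗ (psi pb bF).toLinearMap := by
    apply (pb.smulTower (Pi.basisFun L (Fin m ⊕ Unit))).ext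
    rintro ⟨i, j⟩
    rw [Basis.smulTower_apply, Pi.basisFun_apply]
    simp only [LinearMap.comp_apply, LinearMap.restrictScalars_apply, LinearMap.lsmul_apply,
      LinearEquiv.coe_coe, Matrix.toLin'_apply]
    rw [psi_basis, smul_smul]
    conv_lhs => rw [← pb.sum_repr (a * pb i)]
    rw [Finset.sum_smul, map_sum]
    have h1 : ∀ k, psi pb bF ((pb.repr (a * pb i) k • pb k) • Pi.single j (1 : L)) =
        pb.repr (a * pb i) k • bF (k, j) := by
      intro k
      rw [smul_assoc, map_smul, psi_basis]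
    rw [Finset.sum_congr rfl (fun k _ => h1 k), ← frame_act ρ pb m bF hb, map_mul,
      ← Matrix.mulVec_mulVec, ← hb]
  have := LinearMap.congr_fun key x
  simpa only [LinearMap.comp_apply, LinearMap.restrictScalars_apply, LinearMap.lsmul_apply,
    LinearEquiv.coe_coe, Matrix.toLin'_apply] using this

/-- the diagonal bilinear form over `L`, composed with a functional -/
noncomputable def diagB (φ : L →ₗ[F] F) {κ : Type} [Fintype κ] (w : κ → L) :
    (κ → L) →ₗ[F] (κ → L) →ₗ[F] F :=
  LinearMap.mk₂ F (fun x y => φ (∑ j, w j * (x j * y j)))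
    (fun x x' y => by
      rw [← map_add, ← Finset.sum_add_distrib]
      congr 1
      refine Finset.sum_congr rfl fun j _ => ?_
      rw [Pi.add_apply]
      ring)
    (fun r x y => by
      rw [← map_smul, Finset.smul_sum]
      congr 1
      refine Finset.sum_congr rfl fun j _ => ?_
      rw [Pi.smul_apply, Algebra.smul_mul_assoc, mul_smul_comm])
    (fun x y y' => by
      rw [← map_add, ← Finset.sum_add_distrib]
      congr 1
      refine Finset.sum_congr rfl fun j _ => ?_
      rw [Pi.add_apply]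
      ring)
    (fun r x y => by
      rw [← map_smul, Finset.smul_sum]
      congr 1
      refine Finset.sum_congr rfl fun j _ => ?_
      rw [Pi.smul_apply, mul_smul_comm, mul_smul_comm])

theorem diagB_apply (φ : L →ₗ[F] F) {κ : Type} [Fintype κ] (w : κ → L) (x y : κ → L) :
    diagB φ w x y = φ (∑ j, w j * (x j * y j)) := rfl

theorem psi_form (pb : Basis (Fin 2) F L) {m : ℕ}
    (bF : Basis (Fin 2 × (Fin m ⊕ Unit)) F VV) (B : VV →ₗ[F] VV →ₗ[F] F) (c : L)
    (hgram : ∀ i j i' j', B (bF (i, j)) (bF (i', j')) =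
      if j = j' then pb.coord 0 (cc c j * (pb i' * pb i)) else 0)
    (x y : (Fin m ⊕ Unit) → L) :
    B (psi pb bF x) (psi pb bF y) = pb.coord 0 (∑ j, cc c j * (x j * y j)) := by
  classical
  have key : B.compl₁₂ (psi pb bF).toLinearMap (psi pb bF).toLinearMap =
      diagB (pb.coord 0) (cc (m := m) c) := by
    apply (pb.smulTower (Pi.basisFun L (Fin m ⊕ Unit))).ext
    rintro ⟨i, j⟩
    apply (pb.smulTower (Pi.basisFun L (Fin m ⊕ Unit))).ext
    rintro ⟨i', j'⟩
    rw [Basis.smulTower_apply, Pi.basisFun_apply, Basis.smulTower_apply, Pi.basisFun_apply,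
      LinearMap.compl₁₂_apply, diagB_apply]
    simp only [LinearEquiv.coe_coe]
    rw [psi_basis, psi_basis, hgram]
    split_ifs with hjj
    · subst hjj
      congr 1
      rw [Finset.sum_eq_single j]
      · simp only [Pi.smul_apply, Pi.single_eq_same, smul_eq_mul, mul_one]
        ring
      · intro k _ hk
        simp only [Pi.smul_apply, Pi.single_eq_of_ne hk, smul_zero, mul_zero]
      · intro h
        exact absurd (Finset.mem_univ j) h
    · symm
      rw [Finset.sum_eq_zero, map_zero]
      intro k _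
      by_cases hk : k = j
      · subst hk
        simp only [Pi.smul_apply, Pi.single_eq_of_ne hjj, smul_zero, mul_zero]
      · simp only [Pi.smul_apply, Pi.single_eq_of_ne hk, smul_zero, zero_mul, mul_zero]
  have := LinearMap.congr_fun (LinearMap.congr_fun key x) y
  rw [LinearMap.compl₁₂_apply, diagB_apply] at this
  exact this

end psi

end Cfsg.Agent.Lib.Helper1.OFC
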