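import Mathlib
import Cfsg.Agent.Lib.Helper29.LO6
import Cfsg.Agent.Lib.Helper6.OrtS11
import Cfsg.Agent.Lib.Helper6.Lagrangian
import Cfsg.Agent.Lib.Helper15.QuadF2c
import Cfsg.Agent.Lib.Helper16.MinusType
import Cfsg.Agent.S0286
import Cfsg.Agent.S0287
import Cfsg.Agent.S0288

/-!
# Orders of isometry groups of nondegenerate quadratic forms on `E^κ`, by dimension and type
-/

set_option autoImplicit false
set_option linter.unusedSectionVars false

namespace Cfsg.Agent.Lib.Helper1.OFC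

open Module Matrix QuadraticMap Cfsg.Agent.Lib.Helper6

section ts

universe u v

variable {E : Type u} [Field E] {V : Type v} [AddCommGroup V] [Module E V]

/-- in odd characteristic totally isotropic for the polar form means totally singular -/
theorem hasTI_iff_ts (h2 : (2 : E) ≠ 0) (Q : QuadraticForm E V) (n : ℕ) :
    HasTI (polarBilin Q) n ↔ ∃ X : Submodule E V, finrank E X = n ∧ ∀ x ∈ X, Q x = 0 := by
  constructor
  · rintro ⟨X, hX, h⟩
    refine ⟨X, hX, fun x hx => ?_⟩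
    have h1 := h x hx x hx
    rw [polarBilin_apply_apply, polar_self, nsmul_eq_mul, Nat.cast_ofNat] at h1
    rcases mul_eq_zero.mp h1 with h3 | h3
    · exact absurd h3 h2
    · exact h3
  · rintro ⟨X, hX, h⟩
    refine ⟨X, hX, fun x hx y hy => ?_⟩
    rw [polarBilin_apply_apply]
    unfold polar
    rw [h x hx, h y hy, h _ (X.add_mem hx hy)]
    simp

theorem ts_transfer {V' : Type*} [AddCommGroup V'] [Module E V'] (Q : QuadraticForm E V)
    (Q' : V' → E) (g : V ≃ₗ[E] V') (hg : ∀ v, Q v = Q' (g v)) (n : ℕ) :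
    (∃ X : Submodule E V, finrank E X = n ∧ ∀ x ∈ X, Q x = 0) ↔
      ∃ X : Submodule E V', finrank E X = n ∧ ∀ x ∈ X, Q' x = 0 := by
  constructor
  · rintro ⟨X, hX, h⟩
    refine ⟨X.map g.toLinearMap, ?_, ?_⟩
    · rw [LinearEquiv.finrank_map_eq, hX]
    · rintro _ ⟨x, hx, rfl⟩
      change Q' (g x) = 0
      rw [← hg]
      exact h x hx
  · rintro ⟨X, hX, h⟩
    refine ⟨X.map g.symm.toLinearMap, ?_, ?_⟩
    · rw [LinearEquiv.finrank_map_eq, hX]
    · rintro _ ⟨x, hx, rfl⟩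
      change Q (g.symm x) = 0
      rw [hg, LinearEquiv.apply_symm_apply]
      exact h x hx

end ts

section orders

universe u

variable {E : Type u} [Field E] [Fintype E] {κ : Type} [Fintype κ] [DecidableEq κ]

theorem card_iso_odd' (Q : QuadraticForm E (κ → E)) (hQ : (polarBilin Q).Nondegenerate)
    (hodd : Odd (Fintype.card E)) (m : ℕ) (hκ : Fintype.card κ = 2 * m + 1) :
    Nat.card (Cfsg.isometryGroup E ⇑Q) = 2 * Fintype.card E ^ (m ^ 2) *
      ∏ i ∈ Finset.range m, (Fintype.card E ^ (2 * (i + 1)) - 1) := by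
  obtain ⟨c, hc, Ψ, hΨ⟩ := Cfsg.Agent.Lib.Helper14.OrthOrd.classify_odd
    (Cfsg.Agent.Lib.Helper29.LO.two_ne_zero_of_odd hodd) Q hQ m
    (by rw [Module.finrank_fintype_fun_eq_card, hκ])
  rw [Cfsg.Agent.Lib.Helper29.SPO.card_isometryGroup_congr (⇑Q)
    (fun v => c * Cfsg.quadFormOdd m E v) Ψ.symm (fun v => by
      have := hΨ (Ψ.symm v)
      rw [LinearEquiv.apply_symm_apply] at this
      exact this),
    Cfsg.Agent.Lib.Helper29.LO.card_isometryGroup_smul _ c hc, Cfsg.Agent.S0286.result rfl hodd m]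

theorem card_iso_even_plus (h2 : (2 : E) ≠ 0) (Q : QuadraticForm E (κ → E))
    (hQ : (polarBilin Q).Nondegenerate) (e : ℕ) (he : 1 ≤ e) (hκ : Fintype.card κ = 2 * e)
    (hTI : HasTI (polarBilin Q) e) :
    Nat.card (Cfsg.isometryGroup E ⇑Q) = 2 * Fintype.card E ^ (e * (e - 1)) *
      (Fintype.card E ^ e - 1) *
      ∏ i ∈ Finset.range (e - 1), (Fintype.card E ^ (2 * (i + 1)) - 1) := by
  rcases Cfsg.Agent.Lib.Helper15.classify_even Q hQ e he
    (by rw [Module.finrank_fintype_fun_eq_card, hκ]) with ⟨g, hg⟩ | ⟨ζ, hζ, g, hg⟩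
  · rw [Cfsg.Agent.Lib.Helper29.SPO.card_isometryGroup_congr (⇑Q) _ g hg,
      Cfsg.Agent.S0287.result rfl e he]
  · exfalso
    obtain ⟨X, hX, hX0⟩ := (ts_transfer Q _ g hg e).mp ((hasTI_iff_ts h2 Q e).mp hTI)
    have h3 := Cfsg.Agent.Lib.Helper6.OrtS.minus_ts_finrank_le' (e - 1) 1 ζ
      (Cfsg.Agent.Lib.Helper16.MinusType.aniso_of_irred ζ hζ) X (fun w hw => by
        rw [Cfsg.Agent.Lib.Helper14.OrthEven.Qgen_binForm_apply]
        exact hX0 w hw)
    omega

theorem card_iso_even_minus (h2 : (2 : E) ≠ 0) (Q : QuadraticForm E (κ → E))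
    (hQ : (polarBilin Q).Nondegenerate) (e : ℕ) (he : 1 ≤ e) (hκ : Fintype.card κ = 2 * e)
    (hTI : ¬ HasTI (polarBilin Q) e) :
    Nat.card (Cfsg.isometryGroup E ⇑Q) = 2 * Fintype.card E ^ (e * (e - 1)) *
      (Fintype.card E ^ e + 1) *
      ∏ i ∈ Finset.range (e - 1), (Fintype.card E ^ (2 * (i + 1)) - 1) := by
  rcases Cfsg.Agent.Lib.Helper15.classify_even Q hQ e he
    (by rw [Module.finrank_fintype_fun_eq_card, hκ]) with ⟨g, hg⟩ | ⟨ζ, hζ, g, hg⟩
  · exfalso
    apply hTI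
    rw [hasTI_iff_ts h2 Q e, ts_transfer Q _ g hg e]
    exact ⟨LinearMap.range (Cfsg.Agent.Lib.Helper15.plusEmb E e),
      Cfsg.Agent.Lib.Helper15.finrank_range_plusEmb E e,
      fun x hx => Cfsg.Agent.Lib.Helper15.plus_singular E e x hx⟩
  · rw [Cfsg.Agent.Lib.Helper29.SPO.card_isometryGroup_congr (⇑Q) _ g hg,
      Cfsg.Agent.S0288.result rfl e he 1 ζ
        (Cfsg.Agent.Lib.Helper16.MinusType.aniso_of_irred ζ hζ)]

end orders

end Cfsg.Agent.Lib.Helper1.OFC
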