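import Mathlib
import Cfsg.Agent.Lib.Helper1.OFC3

/-!
# Diagonal quadratic forms: polar form, discriminant, type
-/

set_option autoImplicit false
set_option linter.unusedSectionVars false

namespace Cfsg.Agent.Lib.Helper1.OFC

open Module Matrix QuadraticMap Cfsg.Agent.Lib.Helper6

section wss

universe u

variable {E : Type u} [Field E] {κ : Type} [Fintype κ] [DecidableEq κ]

theorem wss_apply (w : κ → E) (x : κ → E) :
    weightedSumSquares E w x = ∑ j, w j * (x j * x j) := by
  rw [weightedSumSquares_apply]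
  rfl

theorem polar_wss (w : κ → E) (x y : κ → E) :
    polar (weightedSumSquares E w) x y = ∑ j, 2 * w j * (x j * y j) := by
  unfold polar
  rw [wss_apply, wss_apply, wss_apply, ← Finset.sum_sub_distrib, ← Finset.sum_sub_distrib]
  refine Finset.sum_congr rfl fun j _ => ?_
  rw [Pi.add_apply]
  ring

theorem polarBilin_wss_single (w : κ → E) (x : κ → E) (j : κ) :
    polarBilin (weightedSumSquares E w) x (Pi.single j 1) = 2 * w j * x j := by
  rw [polarBilin_apply_apply, polar_wss, Finset.sum_eq_single j]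
  · rw [Pi.single_eq_same, mul_one]
  · intro k _ hk
    rw [Pi.single_eq_of_ne hk, mul_zero, mul_zero]
  · intro h
    exact absurd (Finset.mem_univ j) h

theorem isSymm_polarBilin {V : Type*} [AddCommGroup V] [Module E V] (Q : QuadraticForm E V) :
    LinearMap.BilinForm.IsSymm (polarBilin Q) := ⟨fun x y => by
  simp only [polarBilin_apply_apply]
  exact polar_comm _ _ _⟩

theorem nondeg_wss (h2 : (2 : E) ≠ 0) (w : κ → E) (hw : ∀ j, w j ≠ 0) :
    (polarBilin (weightedSumSquares E w)).Nondegenerate := by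
  have hleft : ∀ x : κ → E, (∀ y, polarBilin (weightedSumSquares E w) x y = 0) → x = 0 := by
    intro x hx
    funext j
    have h1 := hx (Pi.single j 1)
    rw [polarBilin_wss_single] at h1
    rcases mul_eq_zero.mp h1 with h3 | h3
    · exact absurd h3 (mul_ne_zero h2 (hw j))
    · exact h3
  refine ⟨hleft, fun x hx => hleft x fun y => ?_⟩
  rw [(isSymm_polarBilin _).eq]
  exact hx y

theorem toMatrix_wss (w : κ → E) :
    LinearMap.BilinForm.toMatrix (Pi.basisFun E κ) (polarBilin (weightedSumSquares E w)) =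
      Matrix.diagonal fun j => 2 * w j := by
  ext i j
  rw [LinearMap.BilinForm.toMatrix_apply, Pi.basisFun_apply, Pi.basisFun_apply,
    polarBilin_wss_single, Matrix.diagonal_apply]
  by_cases hij : i = j
  · subst hij
    rw [if_pos rfl, Pi.single_eq_same, mul_one]
  · rw [if_neg hij, Pi.single_eq_of_ne (Ne.symm hij), mul_zero]

theorem det_wss (w : κ → E) :
    (LinearMap.BilinForm.toMatrix (Pi.basisFun E κ)
      (polarBilin (weightedSumSquares E w))).det = 2 ^ Fintype.card κ * ∏ j, w j := by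
  rw [toMatrix_wss, Matrix.det_diagonal, Finset.prod_mul_distrib, Finset.prod_const,
    Finset.card_univ]

/-- the type of an even-dimensional diagonal form -/
theorem hasTI_wss_iff [Fintype E] (h2 : (2 : E) ≠ 0) (w : κ → E) (hw : ∀ j, w j ≠ 0) (e : ℕ)
    (hκ : Fintype.card κ = 2 * e) (hneg : IsSquare (-1 : E)) :
    HasTI (polarBilin (weightedSumSquares E w)) e ↔ IsSquare (∏ j, w j) := by
  rw [hasTI_iff_isSquare h2 _ (isSymm_polarBilin _) (nondeg_wss h2 w hw) e
    (by rw [Module.finrank_fintype_fun_eq_card, hκ]) (Pi.basisFun E κ), det_wss, hκ]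
  obtain ⟨s, hs⟩ := hneg
  have h3 : (-1 : E) ^ e * (2 ^ (2 * e) * ∏ j, w j) = (s ^ e * 2 ^ e) ^ 2 * ∏ j, w j := by
    rw [hs]
    ring
  rw [h3]
  have hs0 : s ≠ 0 := by
    rintro rfl
    rw [mul_zero] at hs
    exact absurd hs (by simp)
  have hne : s ^ e * 2 ^ e ≠ 0 := mul_ne_zero (pow_ne_zero _ hs0) (pow_ne_zero _ h2)
  constructor
  · rintro ⟨t, ht⟩
    refine ⟨t / (s ^ e * 2 ^ e), ?_⟩
    field_simp
    linear_combination ht
  · rintro ⟨t, ht⟩
    exact ⟨s ^ e * 2 ^ e * t, by rw [ht]; ring⟩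

end wss

end Cfsg.Agent.Lib.Helper1.OFC
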