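import Mathlib
import Cfsg.Agent.Lib.Helper1.OFC2
import Cfsg.Agent.Lib.Helper1.OFC4

/-!
# The orthogonal group over the quadratic extension inside the normaliser of the field:
index divisibility and type bookkeeping
-/

set_option autoImplicit false
set_option linter.unusedSectionVars false

namespace Cfsg.Agent.Lib.Helper1.OFC

open Module Matrix QuadraticMap Cfsg.Agent.Lib.Helper6 Cfsg.Agent.Lib.Helper29.OF

section combine

variable {F L : Type*} [Field F] [Fintype F] [Field L] [Algebra F L] [FiniteDimensional F L]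
  {ι : Type} [Fintype ι] [DecidableEq ι]

local notation "VV" => (ι → F)
local notation "MM" => Matrix ι ι F

theorem exists_c (Q : QuadraticForm F VV) (hQ : (polarBilin Q).Nondegenerate) (h2 : (2 : F) ≠ 0)
    (pb : Basis (Fin 2) F L) (hpb0 : pb 0 = 1) (z : F) (hω : pb 1 * pb 1 = algebraMap F L z)
    (ζ : L) (hζ : ¬ IsSquare ζ) (ρ : L →ₐ[F] MM)
    (hsa : ∀ (a : L) (u v : VV), polar ⇑Q (ρ a *ᵥ u) v = polar ⇑Q u (ρ a *ᵥ v))
    (m : ℕ) (hcard : Fintype.card ι = 2 * (m + 1))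
    (K : Subalgebra F MM) (hJK : ρ (pb 1) ∈ K)
    (hgen : ∀ k ∈ K, ∃ a b : F, k = a • (1 : MM) + b • ρ (pb 1)) :
    ∃ c : L, (c = 1 ∨ c = ζ) ∧
      ((Cfsg.Geo.subalgebraNormalizer K).relIndex (Cfsg.Geo.omegaGL ⇑Q) *
        Nat.card (Cfsg.isometryGroup L ⇑(weightedSumSquares L (cc (m := m) c))) ∣
          Nat.card (Cfsg.isometryGroup F ⇑Q)) ∧
      (HasTI (polarBilin Q) (m + 1) ↔
        IsSquare ((-1) ^ (m + 1) * (z ^ m * (gramL pb c).det))) := by
  classical
  have hne : Nonempty ι := by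
    rw [← Fintype.card_pos_iff, hcard]
    omega
  obtain ⟨B, hBdef⟩ : ∃ B : VV →ₗ[F] VV →ₗ[F] F, B = polarBilin Q := ⟨_, rfl⟩
  have hBapp : ∀ u v, B u v = polar ⇑Q u v := fun u v => by rw [hBdef]; rfl
  have hsymm : ∀ u v, B u v = B v u := fun u v => by
    rw [hBapp, hBapp, polar_comm]
  have hnd : ∀ u, (∀ v, B u v = 0) → u = 0 := fun u hu => hQ.1 u (fun v => by
    have := hu v
    rw [hBdef] at this
    exact this)
  obtain ⟨bF, c, hc, hb, hgram⟩ := exists_frame ρ B (fun a u v => by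
    rw [hBapp, hBapp, hsa]) hsymm hnd h2 pb hpb0 ζ hζ m hcard
  refine ⟨c, hc, ?_, ?_⟩
  · have hQΨ : ∀ x : (Fin m ⊕ Unit) → L,
        2 * Q (psi pb bF x) = pb.coord 0 (weightedSumSquares L (cc (m := m) c) x) := by
      intro x
      rw [wss_apply, ← psi_form pb bF B c hgram x x, hBapp, polar_self, nsmul_eq_mul,
        Nat.cast_ofNat]
    apply relIndex_mul_card_dvd (psi pb bF) (⇑Q) _ _ (ρ (pb 1)) (pb 1)
      (psi_smul ρ pb bF hb (pb 1)) K hJK hgen
    intro x y hxy
    have h3 : 2 * Q (psi pb bF x) = 2 * Q (psi pb bF y) := by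
      rw [hQΨ, hQΨ, hxy]
    exact mul_left_cancel₀ h2 h3
  · have hV : finrank F VV = 2 * (m + 1) := by
      rw [Module.finrank_fintype_fun_eq_card, hcard]
    rw [hasTI_iff_isSquare h2 (polarBilin Q) (isSymm_polarBilin Q) hQ (m + 1) hV bF]
    have hdet := det_gram_frame B pb c m bF hgram
    rw [hBdef, det_gramL_one pb hpb0 z hω] at hdet
    rw [hdet]

end combine

end Cfsg.Agent.Lib.Helper1.OFC
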