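import Mathlib
import Cfsg.Agent.Lib.Helper15.PSpM4

/-!
# Arithmetic for the index of the orthogonal group over the quadratic extension
-/

set_option autoImplicit false

namespace Cfsg.Agent.Lib.Helper1.OFC

open Cfsg.Agent.Lib.Helper15.PSpM Cfsg.Agent.Lib.Helper29.SPO

section arith

/-- a prime dividing some factor `q^(2(i+1)) - 1` with `i + 1` odd -/
theorem exists_odd_of_dvd_filter (q n r : ℕ) (hr : r.Prime)
    (h : r ∣ ∏ i ∈ (Finset.range n).filter (fun i => ¬ 2 ∣ i + 1), (q ^ (2 * (i + 1)) - 1)) :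
    ∃ j, Odd j ∧ r ∣ q ^ (2 * j) - 1 := by
  obtain ⟨i, hi, hri⟩ := (Prime.dvd_finsetProd_iff hr.prime _).mp h
  rw [Finset.mem_filter] at hi
  refine ⟨i + 1, ?_, hri⟩
  rw [← Nat.not_even_iff_odd, even_iff_two_dvd]
  exact hi.2

theorem cancel_aux (R a C b D r : ℕ) (_hr : r.Prime) (hC : 0 < C) (hrR : r ∣ R)
    (h : R * (a * C) ∣ b * C * D) : r ∣ b * D := by
  have h1 : R * a * C ∣ b * D * C := by
    convert h using 1 <;> ring
  have h2 := Nat.dvd_of_mul_dvd_mul_right hC h1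
  exact (hrR.trans (Dvd.intro _ rfl)).trans h2

theorem arith_even (q e r R E : ℕ) (hq : 2 ≤ q) (he : 1 ≤ e) (hr : r.Prime) (hrq : ¬ r ∣ q)
    (hrR : r ∣ R) (hE : 0 < E)
    (h : R * (2 * (q ^ 2) ^ (e * (e - 1)) * E *
        ∏ i ∈ Finset.range (e - 1), ((q ^ 2) ^ (2 * (i + 1)) - 1)) ∣
      2 * q ^ (2 * e * (2 * e - 1)) * E *
        ∏ i ∈ Finset.range (2 * e - 1), (q ^ (2 * (i + 1)) - 1)) :
    ∃ j, Odd j ∧ r ∣ q ^ (2 * j) - 1 := by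
  obtain ⟨n, rfl⟩ : ∃ n, e = n + 1 := ⟨e - 1, by omega⟩
  have h1 : 2 * (n + 1) - 1 = 2 * n + 1 := by omega
  rw [h1, Finset.prod_range_succ, prod_split q 2 n (2 * n) (by norm_num) rfl,
    Nat.add_sub_cancel] at h
  have hA : 0 < ∏ i ∈ Finset.range n, ((q ^ 2) ^ (2 * (i + 1)) - 1) := by
    apply prod_pos_aux
    calc 2 ≤ q := hq
      _ = q ^ 1 := (pow_one q).symm
      _ ≤ q ^ 2 := Nat.pow_le_pow_right (by omega) (by norm_num)
  have h2 : R * ((q ^ 2) ^ ((n + 1) * n) *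
      (2 * E * ∏ i ∈ Finset.range n, ((q ^ 2) ^ (2 * (i + 1)) - 1))) ∣
      q ^ (2 * (n + 1) * (2 * n + 1)) *
        (2 * E * ∏ i ∈ Finset.range n, ((q ^ 2) ^ (2 * (i + 1)) - 1)) *
        ((∏ i ∈ (Finset.range (2 * n)).filter (fun i => ¬ 2 ∣ i + 1), (q ^ (2 * (i + 1)) - 1)) *
          (q ^ (2 * (2 * n + 1)) - 1)) := by
    convert h using 1 <;> ring
  have h3 := cancel_aux R _ _ _ _ r hr (Nat.mul_pos (Nat.mul_pos (by norm_num) hE) hA) hrR h2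
  rcases (Nat.Prime.dvd_mul hr).mp h3 with h4 | h4
  · exact absurd (hr.dvd_of_dvd_pow h4) hrq
  · rcases (Nat.Prime.dvd_mul hr).mp h4 with h5 | h5
    · exact exists_odd_of_dvd_filter q _ r hr h5
    · exact ⟨2 * n + 1, ⟨n, rfl⟩, h5⟩

theorem arith_odd (q m r R E : ℕ) (hq : 2 ≤ q) (hr : r.Prime) (hrq : ¬ r ∣ q)
    (hrR : r ∣ R)
    (h : R * (2 * (q ^ 2) ^ (m ^ 2) *
        ∏ i ∈ Finset.range m, ((q ^ 2) ^ (2 * (i + 1)) - 1)) ∣
      2 * q ^ ((2 * m + 1) * (2 * m + 1 - 1)) * E *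
        ∏ i ∈ Finset.range (2 * m + 1 - 1), (q ^ (2 * (i + 1)) - 1)) :
    r ∣ E ∨ ∃ j, Odd j ∧ r ∣ q ^ (2 * j) - 1 := by
  rw [Nat.add_sub_cancel, prod_split q 2 m (2 * m) (by norm_num) rfl] at h
  have hA : 0 < ∏ i ∈ Finset.range m, ((q ^ 2) ^ (2 * (i + 1)) - 1) := by
    apply prod_pos_aux
    calc 2 ≤ q := hq
      _ = q ^ 1 := (pow_one q).symm
      _ ≤ q ^ 2 := Nat.pow_le_pow_right (by omega) (by norm_num)
  have h2 : R * ((q ^ 2) ^ (m ^ 2) *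
      (2 * ∏ i ∈ Finset.range m, ((q ^ 2) ^ (2 * (i + 1)) - 1))) ∣
      q ^ ((2 * m + 1) * (2 * m)) *
        (2 * ∏ i ∈ Finset.range m, ((q ^ 2) ^ (2 * (i + 1)) - 1)) *
        (E * (∏ i ∈ (Finset.range (2 * m)).filter (fun i => ¬ 2 ∣ i + 1),
          (q ^ (2 * (i + 1)) - 1))) := by
    convert h using 1 <;> ring
  have h3 := cancel_aux R _ _ _ _ r hr (Nat.mul_pos (by norm_num) hA) hrR h2
  rcases (Nat.Prime.dvd_mul hr).mp h3 with h4 | h4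
  · exact absurd (hr.dvd_of_dvd_pow h4) hrq
  · rcases (Nat.Prime.dvd_mul hr).mp h4 with h5 | h5
    · exact Or.inl h5
    · exact Or.inr (exists_odd_of_dvd_filter q _ r hr h5)

/-- `4 ∣ ord_r(q)` forbids `r ∣ q^(2j) - 1` for odd `j` -/
theorem not_dvd_of_four_dvd_order (q r : ℕ) (hq : 1 ≤ q)
    (h4 : 4 ∣ orderOf ((q : ℕ) : ZMod r)) (j : ℕ) (hj : Odd j) : ¬ r ∣ q ^ (2 * j) - 1 := by
  intro h
  have h1 : ((q : ℕ) : ZMod r) ^ (2 * j) = 1 := by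
    have h2 : ((q ^ (2 * j) - 1 : ℕ) : ZMod r) = 0 := (ZMod.natCast_eq_zero_iff _ _).mpr h
    rw [Nat.cast_sub (Nat.one_le_pow _ _ hq), Nat.cast_pow, Nat.cast_one, sub_eq_zero] at h2
    exact h2
  have h3 := h4.trans (orderOf_dvd_of_pow_eq_one h1)
  obtain ⟨k, rfl⟩ := hj
  omega

theorem dvd_sq_sub_one_of_dvd (q d r : ℕ) (hq : 1 ≤ q)
    (h : r ∣ q ^ d - 1 ∨ r ∣ q ^ d + 1) : r ∣ q ^ (2 * d) - 1 := by
  have h1 : q ^ (2 * d) - 1 = (q ^ d - 1) * (q ^ d + 1) := by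
    have hx : 1 ≤ q ^ d := Nat.one_le_pow _ _ hq
    rw [mul_comm 2 d, pow_mul]
    obtain ⟨x, hx'⟩ : ∃ x, q ^ d = x + 1 := ⟨q ^ d - 1, by omega⟩
    rw [hx']
    have h5 : (x + 1) ^ 2 = x * (x + 1 + 1) + 1 := by ring
    rw [h5, Nat.add_sub_cancel, Nat.add_sub_cancel]
  rw [h1]
  rcases h with h | h
  · exact h.trans (Dvd.intro _ rfl)
  · exact h.trans (Dvd.intro_left _ rfl)

end arith

end Cfsg.Agent.Lib.Helper1.OFC
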