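import Mathlib
import Cfsg.Agent.Lib.Helper1.OFC5
import Cfsg.Agent.Lib.Helper1.OFC6

/-!
# The index of the normaliser of a quadratic field of self-adjoint maps in `Ω`:
primes `r` with `4 ∣ ord_r(q)` do not divide it (abstract extension field)
-/

set_option autoImplicit false
set_option linter.unusedSectionVars false

namespace Cfsg.Agent.Lib.Helper1.OFC

open Module Matrix QuadraticMap Cfsg.Agent.Lib.Helper6 Cfsg.Agent.Lib.Helper29.OF

section gen

variable {F L : Type*} [Field F] [Fintype F] [Field L] [Algebra F L] [FiniteDimensional F L]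
  [Fintype L] {ι : Type} [Fintype ι] [DecidableEq ι]

local notation "VV" => (ι → F)
local notation "MM" => Matrix ι ι F

theorem prod_cc {m : ℕ} (c : L) : ∏ j, cc (m := m) c j = c := by
  rw [Fintype.prod_sum_type]
  simp [cc]

theorem cc_ne_zero {m : ℕ} (c : L) (hc : c ≠ 0) (j : Fin m ⊕ Unit) : cc (m := m) c j ≠ 0 := by
  rcases j with j | j
  · exact one_ne_zero
  · exact hc

theorem not_dvd_gen (Q : QuadraticForm F VV) (hQ : (polarBilin Q).Nondegenerate)
    (hodd : Odd (Fintype.card F))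
    (pb : Basis (Fin 2) F L) (hpb0 : pb 0 = 1) (z : F) (hz : ¬ IsSquare z)
    (hω : pb 1 * pb 1 = algebraMap F L z)
    (ζ : L) (hζ : ¬ IsSquare ζ) (hNζ : (gramL pb ζ).det = z * z) (ρ : L →ₐ[F] MM)
    (hsa : ∀ (a : L) (u v : VV), polar ⇑Q (ρ a *ᵥ u) v = polar ⇑Q u (ρ a *ᵥ v))
    (d : ℕ) (hd : 1 ≤ d) (hcard : Fintype.card ι = 2 * d)
    (K : Subalgebra F MM) (hJK : ρ (pb 1) ∈ K)
    (hgen : ∀ k ∈ K, ∃ a b : F, k = a • (1 : MM) + b • ρ (pb 1))
    (r : ℕ) (hr : r.Prime) (hrq : ¬ r ∣ Fintype.card F)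
    (h4 : 4 ∣ orderOf ((Fintype.card F : ℕ) : ZMod r))
    (htype : (HasTI (polarBilin Q) d ∧ Nat.card (Cfsg.isometryGroup F ⇑Q) =
        2 * Fintype.card F ^ (d * (d - 1)) * (Fintype.card F ^ d - 1) *
          ∏ i ∈ Finset.range (d - 1), (Fintype.card F ^ (2 * (i + 1)) - 1)) ∨
      (¬ HasTI (polarBilin Q) d ∧ Nat.card (Cfsg.isometryGroup F ⇑Q) =
        2 * Fintype.card F ^ (d * (d - 1)) * (Fintype.card F ^ d + 1) *
          ∏ i ∈ Finset.range (d - 1), (Fintype.card F ^ (2 * (i + 1)) - 1))) :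
    ¬ r ∣ (Cfsg.Geo.subalgebraNormalizer K).relIndex (Cfsg.Geo.omegaGL ⇑Q) := by
  classical
  intro hrR
  obtain ⟨m, rfl⟩ : ∃ m, d = m + 1 := ⟨d - 1, by omega⟩
  have h2 : (2 : F) ≠ 0 := Cfsg.Agent.Lib.Helper29.LO.two_ne_zero_of_odd hodd
  obtain ⟨c, hc, hdvd, hTI⟩ := exists_c Q hQ h2 pb hpb0 z hω ζ hζ ρ hsa m hcard K hJK hgen
  obtain ⟨q, hqdef⟩ : ∃ q, q = Fintype.card F := ⟨_, rfl⟩
  rw [← hqdef] at htype hrq h4 hodd
  have hq2 : 2 ≤ q := by
    rw [hqdef]
    exact Fintype.one_lt_card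
  have hq1 : 1 ≤ q := by omega
  have hcardL : Fintype.card L = q ^ 2 := by
    rw [Module.card_eq_pow_finrank (K := F) (V := L), Module.finrank_eq_card_basis pb,
      Fintype.card_fin, hqdef]
  have hoddL : Odd (Fintype.card L) := by
    rw [hcardL]
    exact hodd.pow
  have h2L : (2 : L) ≠ 0 := Cfsg.Agent.Lib.Helper29.LO.two_ne_zero_of_odd hoddL
  have hz0 : z ≠ 0 := by
    rintro rfl
    exact hz ⟨0, by simp⟩
  have hζ0 : ζ ≠ 0 := by
    rintro rfl
    exact hζ ⟨0, by simp⟩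
  have hc0 : c ≠ 0 := by
    rcases hc with rfl | rfl
    · exact one_ne_zero
    · exact hζ0
  have hnd := nondeg_wss h2L (cc (m := m) c) (cc_ne_zero c hc0)
  have hκ : Fintype.card (Fin m ⊕ Unit) = m + 1 := by
    rw [Fintype.card_sum, Fintype.card_fin, Fintype.card_unit]
  have hoddj : ∀ j, Odd j → ¬ r ∣ q ^ (2 * j) - 1 :=
    fun j hj => not_dvd_of_four_dvd_order q r hq1 h4 j hj
  rcases Nat.even_or_odd' (m + 1) with ⟨e, he | he⟩
  · -- even dimension over `L`
    have he1 : 1 ≤ e := by omega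
    have hneg : IsSquare (-1 : L) := by
      rw [FiniteField.isSquare_neg_one_iff, hcardL]
      obtain ⟨k, hk⟩ := hodd
      have h5 : q ^ 2 = 4 * (k * k + k) + 1 := by
        rw [hk]
        ring
      omega
    have hTIL := hasTI_wss_iff h2L (cc (m := m) c) (cc_ne_zero c hc0) e (by rw [hκ, he]) hneg
    rw [prod_cc] at hTIL
    have hEpos : 0 < q ^ (2 * e) - 1 := by
      have : 2 ^ (2 * e) ≤ q ^ (2 * e) := Nat.pow_le_pow_left hq2 _
      have h6 : 2 ≤ 2 ^ (2 * e) := by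
        calc 2 = 2 ^ 1 := by norm_num
          _ ≤ 2 ^ (2 * e) := Nat.pow_le_pow_right (by norm_num) (by omega)
      omega
    have hsqe : (-1 : F) ^ (m + 1) = 1 := by
      rw [he, pow_mul]
      norm_num
    rcases hc with rfl | rfl
    · -- square discriminant: plus type on both sides
      have hTIF : HasTI (polarBilin Q) (m + 1) := by
        rw [hTI, hsqe, one_mul, det_gramL_one pb hpb0 z hω, ← pow_succ, he]
        exact ⟨z ^ e, by ring⟩
      have hA := card_iso_even_plus h2L _ hnd e he1 (by rw [hκ, he]) (hTIL.mpr ⟨1, by ring⟩)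
      rcases htype with ⟨-, hB⟩ | ⟨hn, -⟩
      · rw [hA, hB, hcardL, he, ← pow_mul q 2 e] at hdvd
        obtain ⟨j, hj, hrj⟩ := arith_even q e r _ (q ^ (2 * e) - 1) hq2 he1 hr hrq hrR hEpos hdvd
        exact hoddj j hj hrj
      · exact hn hTIF
    · -- non-square discriminant: minus type on both sides
      have hTIF : ¬ HasTI (polarBilin Q) (m + 1) := by
        rw [hTI, hsqe, one_mul, hNζ]
        rintro ⟨t, ht⟩
        apply hz
        have h7 : z ^ m * (z * z) = z * (z ^ e) ^ 2 := by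
          have : z ^ m * (z * z) = z * z ^ (m + 1) := by ring
          rw [this, he]
          ring
        rw [h7] at ht
        refine ⟨t / z ^ e, ?_⟩
        have h8 : z ^ e ≠ 0 := pow_ne_zero _ hz0
        field_simp
        linear_combination ht
      have hA := card_iso_even_minus h2L _ hnd e he1 (by rw [hκ, he])
        (fun h => hζ (hTIL.mp h))
      rcases htype with ⟨hn, -⟩ | ⟨-, hB⟩
      · exact hTIF hn
      · rw [hA, hB, hcardL, he, ← pow_mul q 2 e] at hdvd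
        obtain ⟨j, hj, hrj⟩ := arith_even q e r _ (q ^ (2 * e) + 1) hq2 he1 hr hrq hrR
          (by omega) hdvd
        exact hoddj j hj hrj
  · -- odd dimension over `L`
    have hA := card_iso_odd' _ hnd hoddL e (by rw [hκ, he])
    have hoddd : Odd (m + 1) := ⟨e, he⟩
    rcases htype with ⟨-, hB⟩ | ⟨-, hB⟩
    · rw [hA, hB, hcardL, he] at hdvd
      rcases arith_odd q e r _ (q ^ (2 * e + 1) - 1) hq2 hr hrq hrR hdvd with h5 | ⟨j, hj, hrj⟩
      · have h6 := dvd_sq_sub_one_of_dvd q (2 * e + 1) r hq1 (Or.inl h5)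
        exact hoddj _ ⟨e, rfl⟩ h6
      · exact hoddj j hj hrj
    · rw [hA, hB, hcardL, he] at hdvd
      rcases arith_odd q e r _ (q ^ (2 * e + 1) + 1) hq2 hr hrq hrR hdvd with h5 | ⟨j, hj, hrj⟩
      · have h6 := dvd_sq_sub_one_of_dvd q (2 * e + 1) r hq1 (Or.inr h5)
        exact hoddj _ ⟨e, rfl⟩ h6
      · exact hoddj j hj hrj

end gen

end Cfsg.Agent.Lib.Helper1.OFC
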