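import Mathlib
import Cfsg.Agent.Lib.Helper29.OF8
import Cfsg.Agent.Lib.Helper1.OFC7

/-!
# The index of the normaliser of a quadratic field subalgebra of self-adjoint matrices in `Ω`
-/

set_option autoImplicit false
set_option linter.unusedSectionVars false

namespace Cfsg.Agent.Lib.Helper1.OFC

open Module Matrix QuadraticMap Polynomial Cfsg.Agent.Lib.Helper6 Cfsg.Agent.Lib.Helper29.OF

section sub

variable {F : Type*} [Field F] [Fintype F] {ι : Type} [Fintype ι] [DecidableEq ι]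

local notation "VV" => (ι → F)
local notation "MM" => Matrix ι ι F

theorem not_dvd_of_subalgebra (Q : QuadraticForm F VV) (hQ : (polarBilin Q).Nondegenerate)
    (hodd : Odd (Fintype.card F)) (d : ℕ) (hd : 1 ≤ d) (hcard : Fintype.card ι = 2 * d)
    (K : Subalgebra F MM) (hK : Cfsg.Geo.IsFieldSubalgebra 2 K)
    (hKf : Cfsg.Geo.IsSelfAdjointFor (polar ⇑Q) K)
    (r : ℕ) (hr : r.Prime) (hrq : ¬ r ∣ Fintype.card F)
    (h4 : 4 ∣ orderOf ((Fintype.card F : ℕ) : ZMod r))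
    (htype : (HasTI (polarBilin Q) d ∧ Nat.card (Cfsg.isometryGroup F ⇑Q) =
        2 * Fintype.card F ^ (d * (d - 1)) * (Fintype.card F ^ d - 1) *
          ∏ i ∈ Finset.range (d - 1), (Fintype.card F ^ (2 * (i + 1)) - 1)) ∨
      (¬ HasTI (polarBilin Q) d ∧ Nat.card (Cfsg.isometryGroup F ⇑Q) =
        2 * Fintype.card F ^ (d * (d - 1)) * (Fintype.card F ^ d + 1) *
          ∏ i ∈ Finset.range (d - 1), (Fintype.card F ^ (2 * (i + 1)) - 1))) :
    ¬ r ∣ (Cfsg.Geo.subalgebraNormalizer K).relIndex (Cfsg.Geo.omegaGL ⇑Q) := by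
  classical
  have hne : Nonempty ι := by
    rw [← Fintype.card_pos_iff, hcard]
    omega
  have h2 : (2 : F) ≠ 0 := Cfsg.Agent.Lib.Helper29.LO.two_ne_zero_of_odd hodd
  obtain ⟨J, hJK, z, hz, hJ, -, hgen⟩ := Cfsg.Agent.Lib.Helper15.PSpM.exists_gen_odd h2 K hK
  have hz0 : z ≠ 0 := by
    rintro rfl
    exact hz ⟨0, by simp⟩
  obtain ⟨f, hf⟩ : ∃ f : F[X], f = X ^ 2 - C z := ⟨_, rfl⟩
  have hirr : Irreducible f := by
    rw [hf]
    apply X_pow_sub_C_irreducible_of_prime Nat.prime_two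
    intro b hb
    apply hz
    exact ⟨b, by rw [← hb, pow_two]⟩
  haveI : Fact (Irreducible f) := ⟨hirr⟩
  have hmonic : f.Monic := by
    rw [hf]
    exact monic_X_pow_sub_C z (by norm_num)
  have hdeg : f.natDegree = 2 := by
    rw [hf]
    exact natDegree_X_pow_sub_C
  haveI : FiniteDimensional F (AdjoinRoot f) := hmonic.finite_adjoinRoot
  haveI : Finite (AdjoinRoot f) := Module.finite_of_finite F
  letI : Fintype (AdjoinRoot f) := Fintype.ofFinite (AdjoinRoot f)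
  let pb₀ := AdjoinRoot.powerBasis' hmonic
  let pb : Basis (Fin 2) F (AdjoinRoot f) := pb₀.basis.reindex (finCongr hdeg)
  have hpbi : ∀ i : Fin 2, pb i = AdjoinRoot.root f ^ (i : ℕ) := by
    intro i
    show pb₀.basis.reindex (finCongr hdeg) i = _
    rw [Basis.reindex_apply, pb₀.basis_eq_pow]
    rfl
  have hpb0 : pb 0 = 1 := by rw [hpbi]; simp
  have hpb1 : pb 1 = AdjoinRoot.root f := by rw [hpbi]; simp
  have hroot : AdjoinRoot.root f * AdjoinRoot.root f = algebraMap F (AdjoinRoot f) z := by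
    have h1 : (X ^ 2 - C z : F[X]).eval₂ (AdjoinRoot.of f) (AdjoinRoot.root f) = 0 := by
      rw [← hf]
      exact AdjoinRoot.eval₂_root f
    rw [eval₂_sub, eval₂_pow, eval₂_X, eval₂_C] at h1
    rw [← pow_two]
    exact sub_eq_zero.mp h1
  have hω : pb 1 * pb 1 = algebraMap F (AdjoinRoot f) z := by rw [hpb1]; exact hroot
  let ρ : AdjoinRoot f →ₐ[F] MM := quadHom pb hpb0 z hω J hJ
  have hρroot : ρ (pb 1) = J := quadHom_gen pb hpb0 z hω J hJ
  have hρa : ∀ a : AdjoinRoot f, ρ a = pb.repr a 0 • (1 : MM) + pb.repr a 1 • J :=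
    fun a => rfl
  have hρK : ∀ a, ρ a ∈ K := by
    intro a
    rw [hρa]
    exact K.add_mem (K.smul_mem K.one_mem _) (K.smul_mem hJK _)
  obtain ⟨ζ₀, ζ₁, hN⟩ := exists_norm_eq h2 z hz0
  obtain ⟨ζ, hζdef⟩ : ∃ ζ : AdjoinRoot f, ζ = ζ₀ • pb 0 + ζ₁ • pb 1 := ⟨_, rfl⟩
  have hζ : ¬ IsSquare ζ := by
    rw [hζdef]
    apply not_isSquare_of_norm pb hpb0 z hω
    rw [hN]
    exact hz
  have hdetζ : (gramL pb ζ).det = z * z := by
    rw [hζdef, det_gramL pb hpb0 z hω, hN]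
  exact not_dvd_gen Q hQ hodd pb hpb0 z hz hω ζ hζ hdetζ ρ
    (fun a u v => hKf (ρ a) (hρK a) u v) d hd hcard K (by rw [hρroot]; exact hJK)
    (by rw [hρroot]; exact hgen) r hr hrq h4 htype

end sub

end Cfsg.Agent.Lib.Helper1.OFC
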