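import Mathlib
import Cfsg.Agent.Lib.Helper1.OFC8

/-!
# Field extension subgroups of degree two of `Ω^±_{2d}(q)`, `q` odd: primes `r` with
`4 ∣ ord_r(q)` do not divide the index
-/

set_option autoImplicit false
set_option linter.unusedSectionVars false

namespace Cfsg.Agent.Lib.Helper1.OFC

open Module Matrix QuadraticMap Cfsg.Agent.Lib.Helper6

section final

variable {F : Type*} [Field F] [Fintype F]

/-- plus type: a prime `r` not dividing `q` with `4 ∣ ord_r(q)` does not divide the index of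
the normaliser of a self-adjoint quadratic field subalgebra in `Ω⁺_{2d}(q)` -/
theorem not_dvd_index_plus (hodd : Odd (Fintype.card F)) (d : ℕ) (hd : 1 ≤ d)
    (K : Subalgebra F (Matrix (Fin d ⊕ Fin d) (Fin d ⊕ Fin d) F))
    (hK : Cfsg.Geo.IsFieldSubalgebra 2 K)
    (hKf : Cfsg.Geo.IsSelfAdjointFor (QuadraticMap.polar (Cfsg.quadFormPlus d F)) K)
    (r : ℕ) (hr : r.Prime) (hrq : ¬ r ∣ Fintype.card F)
    (h4 : 4 ∣ orderOf ((Fintype.card F : ℕ) : ZMod r)) :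
    ¬ r ∣ (Cfsg.Geo.subalgebraNormalizer K).relIndex
      (Cfsg.Geo.omegaGL (Cfsg.quadFormPlus d F)) := by
  have h2 : (2 : F) ≠ 0 := Cfsg.Agent.Lib.Helper29.LO.two_ne_zero_of_odd hodd
  have hcoe : ⇑(Cfsg.Agent.Lib.Helper15.QPlus F d) = Cfsg.quadFormPlus d F :=
    funext fun v => Cfsg.Agent.Lib.Helper15.QPlus_apply F d v
  have hTI : HasTI (polarBilin (Cfsg.Agent.Lib.Helper15.QPlus F d)) d := by
    rw [hasTI_iff_ts h2]
    refine ⟨LinearMap.range (Cfsg.Agent.Lib.Helper15.plusEmb F d),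
      Cfsg.Agent.Lib.Helper15.finrank_range_plusEmb F d, fun x hx => ?_⟩
    rw [Cfsg.Agent.Lib.Helper15.QPlus_apply]
    exact Cfsg.Agent.Lib.Helper15.plus_singular F d x hx
  have h := not_dvd_of_subalgebra (Cfsg.Agent.Lib.Helper15.QPlus F d)
    (Cfsg.Agent.Lib.Helper15.nondegenerate_QPlus F d) hodd d hd
    (by rw [Fintype.card_sum, Fintype.card_fin]; ring) K hK (by rw [hcoe]; exact hKf) r hr hrq h4
    (Or.inl ⟨hTI, by rw [hcoe]; exact Cfsg.Agent.S0287.result rfl d hd⟩)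
  rw [hcoe] at h
  exact h

/-- minus type: a prime `r` not dividing `q` with `4 ∣ ord_r(q)` does not divide the index of
the normaliser of a self-adjoint quadratic field subalgebra in `Ω⁻_{2d}(q)` -/
theorem not_dvd_index_minus (hodd : Odd (Fintype.card F)) (d : ℕ) (hd : 1 ≤ d) (a b : F)
    (hab : ∀ x y : F, x ^ 2 + a * x * y + b * y ^ 2 = 0 → x = 0 ∧ y = 0)
    (K : Subalgebra F (Matrix ((Fin (d - 1) ⊕ Fin (d - 1)) ⊕ Fin 2)
      ((Fin (d - 1) ⊕ Fin (d - 1)) ⊕ Fin 2) F))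
    (hK : Cfsg.Geo.IsFieldSubalgebra 2 K)
    (hKf : Cfsg.Geo.IsSelfAdjointFor
      (QuadraticMap.polar (Cfsg.quadFormMinus (d - 1) F a b)) K)
    (r : ℕ) (hr : r.Prime) (hrq : ¬ r ∣ Fintype.card F)
    (h4 : 4 ∣ orderOf ((Fintype.card F : ℕ) : ZMod r)) :
    ¬ r ∣ (Cfsg.Geo.subalgebraNormalizer K).relIndex
      (Cfsg.Geo.omegaGL (Cfsg.quadFormMinus (d - 1) F a b)) := by
  have h2 : (2 : F) ≠ 0 := Cfsg.Agent.Lib.Helper29.LO.two_ne_zero_of_odd hodd
  obtain ⟨Q, hQdef⟩ : ∃ Q : QuadraticForm F ((Fin (d - 1) ⊕ Fin (d - 1)) ⊕ Fin 2 → F),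
      Q = Cfsg.Agent.Lib.Helper15.Qgen (d - 1) (Cfsg.Agent.Lib.Helper15.binForm a b) := ⟨_, rfl⟩
  have hcoe : ⇑Q = Cfsg.quadFormMinus (d - 1) F a b := by
    rw [hQdef]
    exact funext fun v => Cfsg.Agent.Lib.Helper14.OrthEven.Qgen_binForm_apply (d - 1) a b v
  have hQ : (polarBilin Q).Nondegenerate := by
    rw [hQdef]
    exact Cfsg.Agent.Lib.Helper15.nondegenerate_Qgen (d - 1) _
      (Cfsg.Agent.Lib.Helper15.nondegenerate_binForm a b hab)
  have hTI : ¬ HasTI (polarBilin Q) d := by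
    rw [hasTI_iff_ts h2]
    rintro ⟨X, hX, hX0⟩
    have h3 := Cfsg.Agent.Lib.Helper6.OrtS.minus_ts_finrank_le' (d - 1) a b hab X (fun w hw => by
      rw [← hQdef]
      exact hX0 w hw)
    omega
  have h := not_dvd_of_subalgebra Q hQ hodd d hd
    (by rw [Fintype.card_sum, Fintype.card_sum, Fintype.card_fin, Fintype.card_fin]; omega)
    K hK (by rw [hcoe]; exact hKf) r hr hrq h4
    (Or.inr ⟨hTI, by rw [hcoe]; exact Cfsg.Agent.S0288.result rfl d hd a b hab⟩)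
  rw [hcoe] at h
  exact h

end final

end Cfsg.Agent.Lib.Helper1.OFC
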