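import Mathlib
import Cfsg.Agent.Lib.Helper20.OUMinus
import Cfsg.Agent.Lib.Helper20.OUChar
import Cfsg.Agent.Lib.Helper20.OUFinal2

/-!
# Unipotent elements of `Ω⁻_{2k+2}(q)`, `q` odd, of prescribed Jordan type, and their invariant
nondegenerate subspaces
-/

set_option autoImplicit false
set_option linter.unusedSectionVars false

namespace Cfsg.Agent.Lib.Helper1.OMD

open Module Cfsg.Agent.Lib.Helper14 Cfsg.Agent.Lib.Helper14.JType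

universe u

variable {F : Type u} [Field F] [Fintype F]

/-- A unipotent element of `Ω⁻_{2k+2}(q)` of prescribed Jordan type `μ` (with an odd part),
together with the restriction on its invariant nondegenerate subspaces. -/
theorem exists_unip_minus (h2 : (2 : F) ≠ 0) (p : ℕ) [Fact p.Prime] [CharP F p] (k : ℕ)
    (a b : F) (hab : ∀ z₁ z₂ : F, z₁ ^ 2 + a * z₁ * z₂ + b * z₂ ^ 2 = 0 → z₁ = 0 ∧ z₂ = 0)
    (μ : Multiset ℕ) (hμ : ∀ e ∈ μ, 0 < e ∧ e ≤ p) (hμev : ∀ e : ℕ, Even e → Even (μ.count e))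
    (hsum : μ.sum = 2 * k + 2) (hodd : ∃ b ∈ μ, Odd b) (hbig : ∃ b ∈ μ, 1 < b) :
    ∃ y : Matrix.GeneralLinearGroup ((Fin k ⊕ Fin k) ⊕ Fin 2) F,
      y ∈ Cfsg.Geo.omegaGL (Cfsg.quadFormMinus k F a b) ∧ y ^ p = 1 ∧
      (∀ z : F, (y : Matrix ((Fin k ⊕ Fin k) ⊕ Fin 2) ((Fin k ⊕ Fin k) ⊕ Fin 2) F) ≠
        z • (1 : Matrix ((Fin k ⊕ Fin k) ⊕ Fin 2) ((Fin k ⊕ Fin k) ⊕ Fin 2) F)) ∧
      (∀ j, kd (Matrix.toLin'
        (y : Matrix ((Fin k ⊕ Fin k) ⊕ Fin 2) ((Fin k ⊕ Fin k) ⊕ Fin 2) F) - 1) j = kappa μ j) ∧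
      ∀ W : Submodule F ((Fin k ⊕ Fin k) ⊕ Fin 2 → F),
        Cfsg.Geo.IsNondegenerateOn (QuadraticMap.polar (Cfsg.quadFormMinus k F a b)) W →
        W.map (Matrix.toLin'
          (y : Matrix ((Fin k ⊕ Fin k) ⊕ Fin 2) ((Fin k ⊕ Fin k) ⊕ Fin 2) F)) ≤ W →
        ∃ ν : Multiset ℕ, ν ≤ μ ∧ ν.sum = finrank F W ∧
          (∀ e : ℕ, Even e → Even (ν.count e)) ∧
          finrank F ↥(W.map (Matrix.toLin'
            (y : Matrix ((Fin k ⊕ Fin k) ⊕ Fin 2) ((Fin k ⊕ Fin k) ⊕ Fin 2) F) - 1)) +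
            Multiset.card ν = finrank F W := by
  classical
  obtain ⟨y, hyΩ, hk⟩ := Cfsg.Agent.Lib.Helper20.OU.exists_unipotent_minus h2 a b hab k μ
    (fun e he => (hμ e he).1) hμev hsum hodd
  have hne : Nonempty ((Fin k ⊕ Fin k) ⊕ Fin 2) := ⟨Sum.inr 0⟩
  have hcard : μ.sum = Fintype.card ((Fin k ⊕ Fin k) ⊕ Fin 2) := by
    rw [hsum, Fintype.card_sum, Fintype.card_sum, Fintype.card_fin, Fintype.card_fin]
    ring
  have hfin : Module.finrank F ((Fin k ⊕ Fin k) ⊕ Fin 2 → F) = μ.sum := by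
    rw [hcard, Module.finrank_fintype_fun_eq_card]
  have hNp : (Matrix.toLin' (y : Matrix ((Fin k ⊕ Fin k) ⊕ Fin 2)
      ((Fin k ⊕ Fin k) ⊕ Fin 2) F) - 1) ^ p = 0 :=
    Cfsg.Agent.Lib.Helper20.OU.pow_eq_zero_of_kd _ μ hfin hk p (fun b hb => (hμ b hb).2)
  have hyp : y ^ p = 1 := Cfsg.Agent.Lib.Helper20.OU.pow_char_eq_one p y hNp
  have hns := Cfsg.Agent.Lib.Helper20.OU.not_scalar_of_kd y μ hk ⟨p, hNp⟩ hbig
  refine ⟨y, hyΩ, hyp, hns, hk, ?_⟩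
  intro W hWnd hWinv
  have hyiso : y ∈ Cfsg.isometryGroup F ⇑(Cfsg.Agent.Lib.Helper20.OU.minusQF k F a b) := by
    rw [Cfsg.Agent.Lib.Helper20.OU.coe_minusQF]
    obtain ⟨x, -, rfl⟩ := Subgroup.mem_map.1 hyΩ
    exact x.2
  have hμ0 : (0 : ℕ) ∉ μ := fun h0 => absurd (hμ 0 h0).1 (lt_irrefl 0)
  exact Cfsg.Agent.Lib.Helper20.OU.exists_sub_partition_rank h2
    (Cfsg.Agent.Lib.Helper20.OU.minusQF k F a b) y hyiso μ hμ0 hcard hk W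
    (by rw [Cfsg.Agent.Lib.Helper20.OU.coe_minusQF]; exact hWnd) hWinv

end Cfsg.Agent.Lib.Helper1.OMD
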