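import Mathlib
import Cfsg.Agent.Lib.Helper1.OMD1
import Cfsg.Agent.Lib.Helper20.OddC9

/-!
# `Ω⁻_{2d}(q)`, `q` odd, `d` odd: unipotent elements fixing no nondegenerate subspace of a given
odd dimension
-/

set_option autoImplicit false
set_option linter.unusedSectionVars false

namespace Cfsg.Agent.Lib.Helper1.OMD

open Module Cfsg.Agent.Lib.Helper14 Cfsg.Agent.Lib.Helper14.JType
  Cfsg.Agent.Lib.Helper20.OddC

universe u

variable {F : Type u} [Field F] [Fintype F]

theorem three_le_char (h2 : (2 : F) ≠ 0) (p : ℕ) [hp : Fact p.Prime] [CharP F p] : 3 ≤ p := by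
  have h2le := hp.out.two_le
  rcases Nat.lt_or_ge 2 p with h | h
  · exact h
  · exfalso
    have hp2 : p = 2 := by omega
    apply h2
    have h1 : ((2 : ℕ) : F) = 0 := by
      rw [CharP.cast_eq_zero_iff F p 2, hp2]
    rw [Nat.cast_ofNat] at h1
    exact h1

/-- **`r = p` odd, odd `m`, odd `d`**: an element of order `p` of `Ω⁻_{2d}(q)` fixing no
nondegenerate `m`-space. -/
theorem exists_derangement_minus_of_odd (h2 : (2 : F) ≠ 0) (p : ℕ) [hp : Fact p.Prime]
    [CharP F p] (d : ℕ) (hd : 4 ≤ d) (hdo : Odd d) (a b : F)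
    (hab : ∀ z₁ z₂ : F, z₁ ^ 2 + a * z₁ * z₂ + b * z₂ ^ 2 = 0 → z₁ = 0 ∧ z₂ = 0)
    (m : ℕ) (hm : Odd m) :
    ∃ y : Matrix.GeneralLinearGroup ((Fin (d - 1) ⊕ Fin (d - 1)) ⊕ Fin 2) F,
      y ∈ Cfsg.Geo.omegaGL (Cfsg.quadFormMinus (d - 1) F a b) ∧ y ^ p = 1 ∧
      (∀ z : F, (y : Matrix ((Fin (d - 1) ⊕ Fin (d - 1)) ⊕ Fin 2)
        ((Fin (d - 1) ⊕ Fin (d - 1)) ⊕ Fin 2) F) ≠
        z • (1 : Matrix ((Fin (d - 1) ⊕ Fin (d - 1)) ⊕ Fin 2)
          ((Fin (d - 1) ⊕ Fin (d - 1)) ⊕ Fin 2) F)) ∧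
      ∀ W : Submodule F ((Fin (d - 1) ⊕ Fin (d - 1)) ⊕ Fin 2 → F), finrank F W = m →
        Cfsg.Geo.IsNondegenerateOn (QuadraticMap.polar (Cfsg.quadFormMinus (d - 1) F a b)) W →
        ¬ W.map (Matrix.toLin' (y : Matrix ((Fin (d - 1) ⊕ Fin (d - 1)) ⊕ Fin 2)
          ((Fin (d - 1) ⊕ Fin (d - 1)) ⊕ Fin 2) F)) ≤ W := by
  classical
  have hp3 : 3 ≤ p := three_le_char h2 p
  have key : ∀ μ : Multiset ℕ, (∀ e ∈ μ, e = 1 ∨ e = 2 ∨ e = 3) →
      (∀ e : ℕ, Even e → Even (μ.count e)) → μ.sum = 2 * d → (∃ b ∈ μ, Odd b) →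
      (∃ b ∈ μ, 1 < b) →
      (∀ ν : Multiset ℕ, ν ≤ μ → (∀ e : ℕ, Even e → Even (ν.count e)) → ν.sum ≠ m) →
      ∃ y : Matrix.GeneralLinearGroup ((Fin (d - 1) ⊕ Fin (d - 1)) ⊕ Fin 2) F,
      y ∈ Cfsg.Geo.omegaGL (Cfsg.quadFormMinus (d - 1) F a b) ∧ y ^ p = 1 ∧
      (∀ z : F, (y : Matrix ((Fin (d - 1) ⊕ Fin (d - 1)) ⊕ Fin 2)
        ((Fin (d - 1) ⊕ Fin (d - 1)) ⊕ Fin 2) F) ≠
        z • (1 : Matrix ((Fin (d - 1) ⊕ Fin (d - 1)) ⊕ Fin 2)
          ((Fin (d - 1) ⊕ Fin (d - 1)) ⊕ Fin 2) F)) ∧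
      ∀ W : Submodule F ((Fin (d - 1) ⊕ Fin (d - 1)) ⊕ Fin 2 → F), finrank F W = m →
        Cfsg.Geo.IsNondegenerateOn (QuadraticMap.polar (Cfsg.quadFormMinus (d - 1) F a b)) W →
        ¬ W.map (Matrix.toLin' (y : Matrix ((Fin (d - 1) ⊕ Fin (d - 1)) ⊕ Fin 2)
          ((Fin (d - 1) ⊕ Fin (d - 1)) ⊕ Fin 2) F)) ≤ W := by
    intro μ hμ hμev hsum hoddp hbig hno
    obtain ⟨y, hyΩ, hyp, hns, -, hsub⟩ := exists_unip_minus h2 p (d - 1) a b hab μ
      (fun e he => by rcases hμ e he with rfl | rfl | rfl <;> omega) hμev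
      (by rw [hsum]; omega) hoddp hbig
    refine ⟨y, hyΩ, hyp, hns, ?_⟩
    intro W hWf hWn hWinv
    obtain ⟨ν, hνμ, hνsum, hνev, -⟩ := hsub W hWn hWinv
    exact hno ν hνμ hνev (by rw [hνsum, hWf])
  obtain ⟨a', ha'⟩ := hm
  obtain ⟨d', hd'⟩ := hdo
  rcases Nat.even_or_odd a' with hae | hao
  · -- `m ≡ 1 (mod 4)`: Jordan type `(3, 3, 2^(d-3))`
    refine key (Multiset.replicate (d - 3) 2 + Multiset.replicate 2 3) ?_ ?_ ?_ ?_ ?_ ?_
    · intro e he
      rcases Multiset.mem_add.mp he with h | h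
      · rw [Multiset.eq_of_mem_replicate h]
        exact Or.inr (Or.inl rfl)
      · rw [Multiset.eq_of_mem_replicate h]
        exact Or.inr (Or.inr rfl)
    · intro e he
      rw [Multiset.count_add, Multiset.count_replicate, Multiset.count_replicate]
      have he3 : (3 : ℕ) ≠ e := by
        rintro rfl
        exact absurd he (by decide)
      rw [if_neg he3, add_zero]
      split_ifs
      · exact ⟨d' - 1, by omega⟩
      · exact Even.zero
    · rw [Multiset.sum_add, Multiset.sum_replicate, Multiset.sum_replicate, smul_eq_mul,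
        smul_eq_mul]
      omega
    · exact ⟨3, Multiset.mem_add.mpr (Or.inr (Multiset.mem_replicate.mpr ⟨by norm_num, rfl⟩)),
        by decide⟩
    · exact ⟨3, Multiset.mem_add.mpr (Or.inr (Multiset.mem_replicate.mpr ⟨by norm_num, rfl⟩)),
        by norm_num⟩
    · intro ν hν hνev hsumν
      have hmem : ∀ e ∈ ν, e = 1 ∨ e = 2 ∨ e = 3 := by
        intro e he
        rcases Multiset.mem_add.mp (Multiset.mem_of_le hν he) with h | h
        · rw [Multiset.eq_of_mem_replicate h]
          exact Or.inr (Or.inl rfl)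
        · rw [Multiset.eq_of_mem_replicate h]
          exact Or.inr (Or.inr rfl)
      have hs := sum_eq_of_mem_123 ν hmem
      have h1 : ν.count 1 = 0 := by
        have := Multiset.count_le_of_le 1 hν
        rw [Multiset.count_add, Multiset.count_replicate, Multiset.count_replicate,
          if_neg (by norm_num), if_neg (by norm_num)] at this
        omega
      have h3 : ν.count 3 ≤ 2 := by
        have := Multiset.count_le_of_le 3 hν
        rw [Multiset.count_add, Multiset.count_replicate, Multiset.count_replicate,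
          if_neg (by norm_num), if_pos rfl] at this
        omega
      obtain ⟨k, hk⟩ := hνev 2 even_two
      obtain ⟨a'', ha''⟩ := hae
      omega
  · -- `m ≡ 3 (mod 4)`: Jordan type `(2^(d-1), 1, 1)`
    refine key (Multiset.replicate (d - 1) 2 + Multiset.replicate 2 1) ?_ ?_ ?_ ?_ ?_ ?_
    · intro e he
      rcases Multiset.mem_add.mp he with h | h
      · rw [Multiset.eq_of_mem_replicate h]
        exact Or.inr (Or.inl rfl)
      · rw [Multiset.eq_of_mem_replicate h]
        exact Or.inl rfl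
    · intro e he
      rw [Multiset.count_add, Multiset.count_replicate, Multiset.count_replicate]
      have he1 : (1 : ℕ) ≠ e := by
        rintro rfl
        exact absurd he (by decide)
      rw [if_neg he1, add_zero]
      split_ifs
      · exact ⟨d', by omega⟩
      · exact Even.zero
    · rw [Multiset.sum_add, Multiset.sum_replicate, Multiset.sum_replicate, smul_eq_mul,
        smul_eq_mul]
      omega
    · exact ⟨1, Multiset.mem_add.mpr (Or.inr (Multiset.mem_replicate.mpr ⟨by norm_num, rfl⟩)),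
        by decide⟩
    · exact ⟨2, Multiset.mem_add.mpr (Or.inl (Multiset.mem_replicate.mpr ⟨by omega, rfl⟩)),
        by norm_num⟩
    · intro ν hν hνev hsumν
      have hmem : ∀ e ∈ ν, e = 1 ∨ e = 2 ∨ e = 3 := by
        intro e he
        rcases Multiset.mem_add.mp (Multiset.mem_of_le hν he) with h | h
        · rw [Multiset.eq_of_mem_replicate h]
          exact Or.inr (Or.inl rfl)
        · rw [Multiset.eq_of_mem_replicate h]
          exact Or.inl rfl
      have hs := sum_eq_of_mem_123 ν hmem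
      have h3 : ν.count 3 = 0 := by
        have := Multiset.count_le_of_le 3 hν
        rw [Multiset.count_add, Multiset.count_replicate, Multiset.count_replicate,
          if_neg (by norm_num), if_neg (by norm_num)] at this
        omega
      have h1 : ν.count 1 ≤ 2 := by
        have := Multiset.count_le_of_le 1 hν
        rw [Multiset.count_add, Multiset.count_replicate, Multiset.count_replicate,
          if_neg (by norm_num), if_pos rfl] at this
        omega
      obtain ⟨k, hk⟩ := hνev 2 even_two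
      obtain ⟨a'', ha''⟩ := hao
      omega

end Cfsg.Agent.Lib.Helper1.OMD
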