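import Mathlib
import Cfsg.Agent.Lib.Helper10.OrtO6
import Cfsg.Agent.Lib.Helper20.OddC3
import Cfsg.Agent.Lib.Helper29.OF2
import Cfsg.Agent.Lib.Helper13.OrthCharTwoMat

/-!
# Flipping the class with a similitude

If an isometry `y` of odd order fixes nondegenerate `m`-spaces (`m` odd) of at most one
isometry class, then `y` or its conjugate under a similitude with nonsquare multiplier fixes no
member of a given class.
-/

set_option autoImplicit false
set_option linter.unusedSectionVars false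

namespace Cfsg.Agent.Lib.Helper1.OMD

open Module Submodule QuadraticMap Matrix Cfsg.Agent.Lib.Helper15.PSpI Cfsg.Agent.Lib.Helper6.OrtS
  Cfsg.Agent.Lib.Helper10.OrtO Cfsg.Agent.Lib.Helper20.OddC Cfsg.Agent.Lib.Helper13
  Cfsg.Agent.Lib.Helper14.OrthEven

universe u

section flip

variable {F : Type u} [Field F] [Fintype F] {ι : Type} [Fintype ι] [DecidableEq ι]
variable (Q : QuadraticForm F (ι → F))

/-- an odd-dimensional nondegenerate subspace admits no self-similitude with nonsquare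
multiplier -/
theorem no_self_similitude (h2 : (2 : F) ≠ 0) (W : Submodule F (ι → F))
    (hW : NondegOn (polarBilin Q) W) (hodd : Odd (finrank F W)) (lam : F) (hlam : chi lam = -1)
    (θ : W ≃ₗ[F] W) (hθ : ∀ w : W, Q ((θ w : W) : ι → F) = lam * Q (w : ι → F)) : False := by
  have hlam0 : lam ≠ 0 := by
    rintro rfl
    rw [chi_zero] at hlam
    omega
  rcases oddOn_cases Q h2 hW hodd with h | h
  · have h1 : HasOdd (fun w : W => Q ((θ w : W) : ι → F)) (finrank F W / 2) 1 :=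
      HasOdd.of_equiv θ.symm.toEquiv (fun w : W => Q (w : ι → F)) _ (fun w => by
        show Q ((θ (θ.symm w) : W) : ι → F) = Q (w : ι → F)
        rw [LinearEquiv.apply_symm_apply]) h
    have h3 := HasOdd.scale h lam hlam0 (Q' := fun w : W => Q ((θ w : W) : ι → F)) hθ
    have := HasOdd.unique h1 h3
    rw [hlam] at this
    omega
  · have h1 : HasOdd (fun w : W => Q ((θ w : W) : ι → F)) (finrank F W / 2) (-1) :=
      HasOdd.of_equiv θ.symm.toEquiv (fun w : W => Q (w : ι → F)) _ (fun w => by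
        show Q ((θ (θ.symm w) : W) : ι → F) = Q (w : ι → F)
        rw [LinearEquiv.apply_symm_apply]) h
    have h3 := HasOdd.scale h lam hlam0 (Q' := fun w : W => Q ((θ w : W) : ι → F)) hθ
    have := HasOdd.unique h1 h3
    rw [hlam] at this
    omega

theorem exists_derangement_of_similitude (h2 : (2 : F) ≠ 0)
    (hQ : (polarBilin Q).Nondegenerate) (hcard : 2 ≤ Fintype.card ι)
    (h24 : Fintype.card F ≠ 2 ∨ Fintype.card ι ≠ 4)
    (g : (ι → F) ≃ₗ[F] (ι → F)) (lam : F) (hlam : chi lam = -1)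
    (hg : ∀ v, Q (g v) = lam * Q v)
    (p : ℕ) (hp : Odd p) (m : ℕ) (hm : Odd m) (W₀ : Submodule F (ι → F))
    (y : GL ι F) (hy : y ∈ Cfsg.isometryGroup F ⇑Q) (hyp : y ^ p = 1)
    (hns : ∀ z : F, (y : Matrix ι ι F) ≠ z • (1 : Matrix ι ι F))
    (hstar : ∀ W₁ W₂ : Submodule F (ι → F), finrank F W₁ = m → finrank F W₂ = m →
      NondegOn (polarBilin Q) W₁ → NondegOn (polarBilin Q) W₂ →
      W₁.map (Matrix.toLin' (y : Matrix ι ι F)) ≤ W₁ →
      W₂.map (Matrix.toLin' (y : Matrix ι ι F)) ≤ W₂ → Iso Q W₁ W₂) :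
    ∃ y' : GL ι F, y' ∈ Cfsg.Geo.omegaGL ⇑Q ∧ y' ^ p = 1 ∧
      (∀ z : F, (y' : Matrix ι ι F) ≠ z • (1 : Matrix ι ι F)) ∧
      ∀ W : Submodule F (ι → F), W ∈ OSet Q m W₀ →
        ¬ W.map (Matrix.toLin' (y' : Matrix ι ι F)) ≤ W := by
  classical
  by_cases hfix : ∃ W₁ : Submodule F (ι → F), W₁ ∈ OSet Q m W₀ ∧
      W₁.map (Matrix.toLin' (y : Matrix ι ι F)) ≤ W₁
  swap
  · refine ⟨y, Cfsg.Agent.Lib.Helper29.OF.mem_omegaGL_of_odd Q hQ hcard h24 y hy p hp hyp, hyp,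
      hns, ?_⟩
    intro W hW hWy
    exact hfix ⟨W, hW, hWy⟩
  obtain ⟨W₁, ⟨hW₁f, hW₁n, hW₁i⟩, hW₁y⟩ := hfix
  have hlam0 : lam ≠ 0 := by
    rintro rfl
    rw [chi_zero] at hlam
    omega
  obtain ⟨G, hG⟩ : ∃ G : GL ι F, G = glEquiv.symm g := ⟨_, rfl⟩
  have hGv : ∀ v, (G : Matrix ι ι F) *ᵥ v = g v := by
    intro v
    rw [hG, glEquiv_symm_mulVec]
  have hGiv : ∀ v, ((G⁻¹ : GL ι F) : Matrix ι ι F) *ᵥ v = g.symm v := by
    intro v
    apply g.injective
    rw [LinearEquiv.apply_symm_apply, ← hGv, Matrix.mulVec_mulVec, ← Units.val_mul,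
      mul_inv_cancel, Units.val_one, Matrix.one_mulVec]
  have hgs : ∀ v, Q (g.symm v) = lam⁻¹ * Q v := by
    intro v
    have := hg (g.symm v)
    rw [LinearEquiv.apply_symm_apply] at this
    rw [this, ← mul_assoc, inv_mul_cancel₀ hlam0, one_mul]
  have hyI : ∀ v, Q ((y : Matrix ι ι F) *ᵥ v) = Q v :=
    (Cfsg.Agent.Lib.Helper15.mem_isometryGroup_iff (⇑Q) y).mp hy
  obtain ⟨y', hy'⟩ : ∃ y' : GL ι F, y' = G * y * G⁻¹ := ⟨_, rfl⟩
  have hy'v : ∀ v, (y' : Matrix ι ι F) *ᵥ v = g ((y : Matrix ι ι F) *ᵥ g.symm v) := by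
    intro v
    rw [hy', Units.val_mul, Units.val_mul, ← Matrix.mulVec_mulVec, ← Matrix.mulVec_mulVec, hGiv,
      hGv]
  have hy'I : y' ∈ Cfsg.isometryGroup F ⇑Q := by
    rw [Cfsg.Agent.Lib.Helper15.mem_isometryGroup_iff]
    intro v
    rw [hy'v, hg, hyI, hgs, ← mul_assoc, mul_inv_cancel₀ hlam0, one_mul]
  have hy'p : y' ^ p = 1 := by
    rw [hy', conj_pow, hyp, mul_one, mul_inv_cancel]
  have hy'ns : ∀ z : F, (y' : Matrix ι ι F) ≠ z • (1 : Matrix ι ι F) := by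
    intro z hz
    apply hns z
    have h1 : y = G⁻¹ * y' * G := by
      rw [hy']
      group
    rw [h1, Units.val_mul, Units.val_mul, hz, Matrix.mul_smul, Matrix.mul_one, Matrix.smul_mul,
      ← Units.val_mul, inv_mul_cancel, Units.val_one]
  refine ⟨y', Cfsg.Agent.Lib.Helper29.OF.mem_omegaGL_of_odd Q hQ hcard h24 y' hy'I p hp hy'p,
    hy'p, hy'ns, ?_⟩
  rintro W₂ ⟨hW₂f, hW₂n, hW₂i⟩ hW₂y
  -- the subspace `g⁻¹ W₂` is fixed by `y`
  obtain ⟨W₃, hW₃⟩ : ∃ W₃ : Submodule F (ι → F), W₃ = W₂.map g.symm.toLinearMap := ⟨_, rfl⟩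
  have hmem3 : ∀ v, v ∈ W₃ ↔ g v ∈ W₂ := by
    intro v
    rw [hW₃]
    constructor
    · rintro ⟨w, hw, rfl⟩
      simp only [LinearEquiv.coe_coe, LinearEquiv.apply_symm_apply]
      exact hw
    · intro hv
      exact ⟨g v, hv, by simp⟩
  have hW₃f : finrank F W₃ = m := by
    rw [hW₃, LinearEquiv.finrank_map_eq, hW₂f]
  have hpol : ∀ u v, polar Q (g u) (g v) = lam * polar Q u v := by
    intro u v
    unfold polar
    rw [← map_add, hg, hg, hg]
    ring
  have hW₃n : NondegOn (polarBilin Q) W₃ := by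
    intro x hx h0
    have hgx : g x = 0 := by
      apply hW₂n (g x) ((hmem3 x).mp hx)
      intro v hv
      have h1 := h0 (g.symm v) (by rw [hmem3, LinearEquiv.apply_symm_apply]; exact hv)
      rw [polarBilin_apply_apply] at h1 ⊢
      have h3 := hpol x (g.symm v)
      rw [LinearEquiv.apply_symm_apply, h1, mul_zero] at h3
      exact h3
    exact g.map_eq_zero_iff.mp hgx
  have hW₃y : W₃.map (Matrix.toLin' (y : Matrix ι ι F)) ≤ W₃ := by
    rintro _ ⟨w, hw, rfl⟩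
    rw [hmem3]
    have h1 : g (Matrix.toLin' (y : Matrix ι ι F) w) = (y' : Matrix ι ι F) *ᵥ g w := by
      rw [hy'v, LinearEquiv.symm_apply_apply, Matrix.toLin'_apply]
    rw [h1]
    apply hW₂y
    exact ⟨g w, (hmem3 w).mp hw, by rw [Matrix.toLin'_apply]⟩
  have hiso13 := hstar W₁ W₃ hW₁f hW₃f hW₁n hW₃n hW₁y hW₃y
  -- hence `W₃` and `W₂` are isometric
  obtain ⟨φ, hφ⟩ := (hiso13.symm.trans hW₁i).trans hW₂i.symm
  -- the restriction of `g⁻¹` to `W₂`
  have hmap : ∀ w : W₂, g.symm (w : ι → F) ∈ W₃ := by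
    intro w
    rw [hmem3, LinearEquiv.apply_symm_apply]
    exact w.2
  let e₂ : W₂ →ₗ[F] W₃ :=
    { toFun := fun w => ⟨g.symm (w : ι → F), hmap w⟩
      map_add' := fun u v => by
        apply Subtype.ext
        simp
      map_smul' := fun c u => by
        apply Subtype.ext
        simp }
  have he₂ : ∀ w : W₂, ((e₂ w : W₃) : ι → F) = g.symm (w : ι → F) := fun w => rfl
  have hinj : Function.Injective (φ.toLinearMap ∘ₗ e₂) := by
    intro u v huv
    have h1 : e₂ u = e₂ v := φ.injective huv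
    have h3 := congrArg (fun t : W₃ => (t : ι → F)) h1
    simp only [he₂] at h3
    exact Subtype.ext (g.symm.injective h3)
  let θ : W₂ ≃ₗ[F] W₂ := LinearEquiv.ofInjectiveEndo (φ.toLinearMap ∘ₗ e₂) hinj
  have hθ : ∀ w : W₂, Q ((θ w : W₂) : ι → F) = lam⁻¹ * Q (w : ι → F) := by
    intro w
    have h1 : θ w = φ (e₂ w) := by
      show LinearEquiv.ofInjectiveEndo (φ.toLinearMap ∘ₗ e₂) hinj w = _
      rw [LinearEquiv.coe_ofInjectiveEndo]
      rfl
    rw [h1, hφ, he₂, hgs]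
  exact no_self_similitude Q h2 W₂ hW₂n (by rw [hW₂f]; exact hm) lam⁻¹
    (by rw [chi_inv hlam0]; exact hlam) θ hθ

end flip

end Cfsg.Agent.Lib.Helper1.OMD
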