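import Mathlib
import Cfsg.Agent.Lib.Helper14.OrthEven1
import Cfsg.Agent.Lib.Helper20.OddC1
import Cfsg.Agent.Lib.Helper21.OrtM1

/-!
# Similitudes of the standard minus-type form with nonsquare multiplier
-/

set_option autoImplicit false
set_option linter.unusedSectionVars false

namespace Cfsg.Agent.Lib.Helper1.OMD

open Module QuadraticMap Cfsg.Agent.Lib.Helper14.OrthEven Cfsg.Agent.Lib.Helper20.OddC
  Cfsg.Agent.Lib.Helper15

universe u

section sim

variable {F : Type u} [Field F] [Fintype F]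

/-- scaling a form by a nonzero constant does not change its sign -/
theorem hasSign_scale {V : Type*} {Q Q' : V → F} {n : ℕ} {ε : ℤ} (h : HasSign Q n ε) (l : F)
    (hl : l ≠ 0) (hQ : ∀ v, Q' v = l * Q v) : HasSign Q' n ε := by
  classical
  intro c
  have h1 : cnt Q' c = cnt Q (l⁻¹ * c) := by
    unfold cnt
    congr 1
    apply Nat.card_congr
    apply Equiv.subtypeEquivRight
    intro v
    rw [hQ]
    constructor
    · intro hv
      rw [← hv, ← mul_assoc, inv_mul_cancel₀ hl, one_mul]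
    · intro hv
      rw [hv, ← mul_assoc, mul_inv_cancel₀ hl, one_mul]
  rw [h1, h (l⁻¹ * c)]
  have h3 : (l⁻¹ * c = 0) ↔ c = 0 := by
    constructor
    · intro h0
      rcases mul_eq_zero.mp h0 with h4 | h4
      · exact absurd h4 (inv_ne_zero hl)
      · exact h4
    · rintro rfl
      rw [mul_zero]
  by_cases hc : c = 0
  · rw [if_pos hc, if_pos (h3.mpr hc)]
  · rw [if_neg hc, if_neg (fun h0 => hc (h3.mp h0))]

theorem exists_similitude_minus (h2 : (2 : F) ≠ 0) (d : ℕ) (hd : 1 ≤ d) (a b : F)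
    (hab : ∀ x y : F, x ^ 2 + a * x * y + b * y ^ 2 = 0 → x = 0 ∧ y = 0) :
    ∃ (g : ((Fin (d - 1) ⊕ Fin (d - 1)) ⊕ Fin 2 → F) ≃ₗ[F]
        ((Fin (d - 1) ⊕ Fin (d - 1)) ⊕ Fin 2 → F)) (lam : F), chi lam = -1 ∧
      ∀ v, QMinus F (d - 1) a b (g v) = lam * QMinus F (d - 1) a b v := by
  classical
  obtain ⟨lam, hlam0, hlam⟩ := exists_chi_eq h2 (-1) (Or.inr rfl)
  have hQ := Cfsg.Agent.Lib.Helper21.OrtM.nondegenerate_QMinus (F := F) (d - 1) a b hab
  obtain ⟨Q', hQ'⟩ : ∃ Q' : QuadraticForm F ((Fin (d - 1) ⊕ Fin (d - 1)) ⊕ Fin 2 → F),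
      Q' = lam • QMinus F (d - 1) a b := ⟨_, rfl⟩
  have hQ'app : ∀ v, Q' v = lam * QMinus F (d - 1) a b v := by
    intro v
    rw [hQ', _root_.smul_apply, smul_eq_mul]
  have hpol : ∀ u v, polar Q' u v = lam * polar (QMinus F (d - 1) a b) u v := by
    intro u v
    unfold polar
    rw [hQ'app, hQ'app, hQ'app]
    ring
  have hleft : ∀ u, (∀ v, polarBilin Q' u v = 0) → u = 0 := by
    intro u hu
    apply hQ.1 u
    intro v
    have h1 := hu v
    rw [polarBilin_apply_apply, hpol] at h1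
    rw [polarBilin_apply_apply]
    rcases mul_eq_zero.mp h1 with h3 | h3
    · exact absurd h3 hlam0
    · exact h3
  have hQ'nd : (polarBilin Q').Nondegenerate := by
    refine ⟨hleft, fun u hu => hleft u fun v => ?_⟩
    have := hu v
    rw [polarBilin_apply_apply] at this ⊢
    rw [polar_comm]
    exact this
  have hsign : HasSign (⇑Q') d (-1) := by
    have h1 := hasSign_minus (d - 1) a b hab
    rw [Nat.sub_add_cancel hd] at h1
    refine hasSign_scale h1 lam hlam0 (fun v => ?_)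
    rw [hQ'app, QMinus_apply]
  have hV : finrank F ((Fin (d - 1) ⊕ Fin (d - 1)) ⊕ Fin 2 → F) = 2 * d := by
    rw [Module.finrank_fintype_fun_eq_card, Fintype.card_sum, Fintype.card_sum, Fintype.card_fin,
      Fintype.card_fin]
    omega
  rcases sign_cases Q' hQ'nd d hd hV with ⟨hs, -⟩ | ⟨-, ζ, han, g', hg'⟩
  · exfalso
    have := HasSign.unique hsign hs
    omega
  · obtain ⟨Θ, hΘ⟩ := minus_change (d - 1) a b 1 ζ hab han
    refine ⟨g'.trans Θ, lam, hlam, fun v => ?_⟩
    rw [LinearEquiv.trans_apply, QMinus_apply, hΘ, ← hg', hQ'app]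

end sim

end Cfsg.Agent.Lib.Helper1.OMD
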