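import Mathlib
import Cfsg.Agent.Lib.Helper10.OrtO6
import Cfsg.Agent.Lib.Helper10.OrtO12
import Cfsg.Agent.Lib.Helper21.OrtM2
import Cfsg.Agent.Lib.Helper1.OMD2

set_option autoImplicit false

namespace Cfsg.Agent.Lib.Helper1.OMD

open Module Cfsg.Agent.Lib.Helper15 Cfsg.Agent.Lib.Helper15.PSpI Cfsg.Agent.Lib.Helper10.OrtO

universe u
variable {F : Type u} [Field F] [Fintype F]

theorem exists_derangement_p_minus (h2 : (2 : F) ≠ 0) (p : ℕ) [hp : Fact p.Prime] [CharP F p]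
    (d : ℕ) (hd : 4 ≤ d) (a b : F)
    (hab : ∀ x y : F, x ^ 2 + a * x * y + b * y ^ 2 = 0 → x = 0 ∧ y = 0) (m : ℕ) (hm : Odd m)
    (hmd : m < d) (W₀ : Submodule F ((Fin (d - 1) ⊕ Fin (d - 1)) ⊕ Fin 2 → F))
    (hW₀f : finrank F W₀ = m)
    (hW₀n : NondegOn (QuadraticMap.polarBilin (QMinus F (d - 1) a b)) W₀) :
    ∃ y : Matrix.GeneralLinearGroup ((Fin (d - 1) ⊕ Fin (d - 1)) ⊕ Fin 2) F,
      y ∈ Cfsg.Geo.omegaGL (Cfsg.quadFormMinus (d - 1) F a b) ∧ y ^ p = 1 ∧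
      (∀ z : F, (y : Matrix ((Fin (d - 1) ⊕ Fin (d - 1)) ⊕ Fin 2)
        ((Fin (d - 1) ⊕ Fin (d - 1)) ⊕ Fin 2) F) ≠
        z • (1 : Matrix ((Fin (d - 1) ⊕ Fin (d - 1)) ⊕ Fin 2)
          ((Fin (d - 1) ⊕ Fin (d - 1)) ⊕ Fin 2) F)) ∧
      ∀ W : Submodule F ((Fin (d - 1) ⊕ Fin (d - 1)) ⊕ Fin 2 → F),
        W ∈ OSet (QMinus F (d - 1) a b) m W₀ →
        ¬ W.map (Matrix.toLin' (y : Matrix ((Fin (d - 1) ⊕ Fin (d - 1)) ⊕ Fin 2)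
          ((Fin (d - 1) ⊕ Fin (d - 1)) ⊕ Fin 2) F)) ≤ W := by
  classical
  have hcoe := Cfsg.Agent.Lib.Helper21.OrtM.coe_QMinus (F := F) (d - 1) a b
  have hnd : ∀ W : Submodule F ((Fin (d - 1) ⊕ Fin (d - 1)) ⊕ Fin 2 → F),
      NondegOn (QuadraticMap.polarBilin (QMinus F (d - 1) a b)) W →
      Cfsg.Geo.IsNondegenerateOn (QuadraticMap.polar (Cfsg.quadFormMinus (d - 1) F a b)) W := by
    intro W hWn
    rw [← hcoe]
    exact (Cfsg.Agent.Lib.Helper6.OrtS.isNondegenerateOn_iff (QMinus F (d - 1) a b) W).mpr hWn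
  rcases Nat.even_or_odd d with hde | hdo
  · obtain ⟨y, hyΩ, hyp, hns, hbad⟩ :=
      Cfsg.Agent.Lib.Helper10.OrtO.exists_derangement_minus_even (F := F) h2 p d (by omega) hde
        a b hab m hm W₀
    refine ⟨y, hyΩ, hyp, hns, ?_⟩
    rintro W ⟨h1, hWn, ⟨e, he⟩⟩
    refine hbad W h1 (hnd W hWn) ⟨e, fun w => ?_⟩
    rw [← hcoe]
    exact he w
  · obtain ⟨y, hyΩ, hyp, hns, hbad⟩ :=
      exists_derangement_minus_of_odd (F := F) h2 p d hd hdo a b hab m hm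
    refine ⟨y, hyΩ, hyp, hns, ?_⟩
    rintro W ⟨h1, hWn, -⟩
    exact hbad W h1 (hnd W hWn)

end Cfsg.Agent.Lib.Helper1.OMD
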