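import Mathlib
import Cfsg.Agent.Lib.Helper28.OTDefs

/-!
# S5681 / S5709, piece INV (helper1): an involution of `N0` commuting with a standard root element

`inv_struct` : exact statement of `notes/S5681Skel_helper28.lean.txt`, PART 2.
-/

set_option autoImplicit false
set_option linter.unusedSectionVars false
set_option linter.unusedVariables false

namespace Cfsg.Agent.Lib.Helper1.OTINV

open Matrix Module
open Cfsg.Agent.Lib.Helper16.Tens Cfsg.Agent.Lib.Helper10.TensFund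
open Cfsg.Agent.Lib.Helper3.SpT (bf E adj uni Over)
open Cfsg.Agent.Lib.Helper13.TensSO (OrthG IsoG)
open Cfsg.Agent.Lib.Helper28.OT
open scoped Kronecker

variable {F : Type*} [Field F] {a b : ℕ}

/-! ## tensor products of subspaces -/

/-- `X ⊗ Y` for subspaces `X ≤ U`, `Y ≤ W` -/
def tXY (X : Submodule F (Fin a → F)) (Y : Submodule F (Fin b → F)) : Submodule F (Fin a × Fin b → F) :=
  Submodule.span F {v | ∃ u ∈ X, ∃ w ∈ Y, v = pur u w}

theorem pur_mem_tXY {X : Submodule F (Fin a → F)} {Y : Submodule F (Fin b → F)} {u : Fin a → F} {w : Fin b → F}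
    (hu : u ∈ X) (hw : w ∈ Y) : pur u w ∈ tXY X Y :=
  Submodule.subset_span ⟨u, hu, w, hw, rfl⟩

theorem tXY_top (Y : Submodule F (Fin b → F)) : tXY (a := a) ⊤ Y = tW (a := a) Y := by
  unfold tXY tW
  congr 1
  ext v
  constructor
  · rintro ⟨u, _, w, hw, rfl⟩
    exact ⟨u, w, hw, rfl⟩
  · rintro ⟨u, w, hw, rfl⟩
    exact ⟨u, Submodule.mem_top, w, hw, rfl⟩

theorem linInd_pur {p q : ℕ} (x : Fin p → (Fin a → F)) (y : Fin q → (Fin b → F))
    (hx : LinearIndependent F x) (hy : LinearIndependent F y) :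
    LinearIndependent F (fun ij : Fin p × Fin q => pur (x ij.1) (y ij.2)) := by
  rw [Fintype.linearIndependent_iff] at hx hy ⊢
  intro c hc ij
  have h1 : ∀ (t : Fin b) (i : Fin p), ∑ j, c (i, j) * y j t = 0 := by
    intro t
    apply hx (fun i => ∑ j, c (i, j) * y j t)
    funext s
    have := congrFun hc (s, t)
    simp only [Finset.sum_apply, Pi.smul_apply, pur_apply, smul_eq_mul, Pi.zero_apply,
      Fintype.sum_prod_type] at this ⊢
    rw [← this]
    apply Finset.sum_congr rfl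
    intro i _
    rw [Finset.sum_mul]
    apply Finset.sum_congr rfl
    intro j _
    ring
  have h2 : ∀ i j, c (i, j) = 0 := by
    intro i
    apply hy (fun j => c (i, j))
    funext t
    simp only [Finset.sum_apply, Pi.smul_apply, smul_eq_mul, Pi.zero_apply]
    exact h1 t i
  exact h2 ij.1 ij.2

theorem finrank_tXY (X : Submodule F (Fin a → F)) (Y : Submodule F (Fin b → F)) :
    finrank F (tXY X Y) = finrank F X * finrank F Y := by
  set bX := Module.finBasis F X with hbX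
  set bY := Module.finBasis F Y with hbY
  set f : Fin (finrank F X) × Fin (finrank F Y) → (Fin a × Fin b → F) :=
    fun ij => pur ((bX ij.1 : X) : Fin a → F) ((bY ij.2 : Y) : Fin b → F) with hf
  have hlin : LinearIndependent F f := by
    apply linInd_pur (fun i => ((bX i : X) : Fin a → F)) (fun j => ((bY j : Y) : Fin b → F))
    · exact (bX.linearIndependent).map' X.subtype (Submodule.ker_subtype X)
    · exact (bY.linearIndependent).map' Y.subtype (Submodule.ker_subtype Y)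
  have hspan : Submodule.span F (Set.range f) = tXY X Y := by
    apply le_antisymm
    · rw [Submodule.span_le]
      rintro v ⟨ij, rfl⟩
      exact pur_mem_tXY (bX ij.1).2 (bY ij.2).2
    · unfold tXY
      rw [Submodule.span_le]
      rintro v ⟨u, hu, w, hw, rfl⟩
      have hu' : (⟨u, hu⟩ : X) = ∑ i, bX.repr ⟨u, hu⟩ i • bX i := (bX.sum_repr ⟨u, hu⟩).symm
      have hw' : (⟨w, hw⟩ : Y) = ∑ j, bY.repr ⟨w, hw⟩ j • bY j := (bY.sum_repr ⟨w, hw⟩).symm
      have hu'' : u = ∑ i, bX.repr ⟨u, hu⟩ i • ((bX i : X) : Fin a → F) := by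
        have := congrArg (Submodule.subtype X) hu'
        rw [map_sum] at this
        simp only [map_smul, Submodule.subtype_apply] at this
        exact this
      have hw'' : w = ∑ j, bY.repr ⟨w, hw⟩ j • ((bY j : Y) : Fin b → F) := by
        have := congrArg (Submodule.subtype Y) hw'
        rw [map_sum] at this
        simp only [map_smul, Submodule.subtype_apply] at this
        exact this
      have hexp : pur u w = ∑ i, ∑ j, (bX.repr ⟨u, hu⟩ i * bY.repr ⟨w, hw⟩ j) • f (i, j) := by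
        conv_lhs => rw [hu'']
        rw [show pur (∑ i, bX.repr ⟨u, hu⟩ i • ((bX i : X) : Fin a → F)) w =
          purL (a := a) w (∑ i, bX.repr ⟨u, hu⟩ i • ((bX i : X) : Fin a → F)) from rfl, map_sum]
        apply Finset.sum_congr rfl
        intro i _
        rw [map_smul, purL_apply]
        conv_lhs => rw [hw'']
        rw [show pur ((bX i : X) : Fin a → F) (∑ j, bY.repr ⟨w, hw⟩ j • ((bY j : Y) : Fin b → F)) =
          purR (b := b) ((bX i : X) : Fin a → F) (∑ j, bY.repr ⟨w, hw⟩ j • ((bY j : Y) : Fin b → F)) from rfl,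
          map_sum, Finset.smul_sum]
        apply Finset.sum_congr rfl
        intro j _
        rw [map_smul, purR_apply, smul_smul]
      rw [hexp]
      apply Submodule.sum_mem
      intro i _
      apply Submodule.sum_mem
      intro j _
      exact Submodule.smul_mem _ _ (Submodule.subset_span ⟨(i, j), rfl⟩)
  rw [← hspan, finrank_span_eq_card hlin, Fintype.card_prod, Fintype.card_fin, Fintype.card_fin]

/-! ## Kronecker algebra -/

/-- `(A ⊗ B)² = 1` forces `A² = λ`, `B² = λ⁻¹` -/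
theorem kron_sq_one (ha : 1 ≤ a) (hb : 1 ≤ b) (A : Matrix (Fin a) (Fin a) F) (B : Matrix (Fin b) (Fin b) F)
    (h : (A ⊗ₖ B) * (A ⊗ₖ B) = 1) :
    ∃ l : F, l ≠ 0 ∧ A * A = l • (1 : Matrix (Fin a) (Fin a) F) ∧ B * B = l⁻¹ • (1 : Matrix (Fin b) (Fin b) F) := by
  rw [← Matrix.mul_kronecker_mul] at h
  set C := A * A with hC
  set D := B * B with hD
  have hent : ∀ (i i' : Fin a) (j j' : Fin b), C i i' * D j j' = if (i, j) = (i', j') then 1 else 0 := by
    intro i i' j j'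
    have := congrFun (congrFun h (i, j)) (i', j')
    rw [Matrix.kroneckerMap_apply, Matrix.one_apply] at this
    exact this
  set i0 : Fin a := ⟨0, by omega⟩
  set j0 : Fin b := ⟨0, by omega⟩
  have h00 : C i0 i0 * D j0 j0 = 1 := by
    rw [hent, if_pos rfl]
  have hl : C i0 i0 ≠ 0 := by
    intro h0
    rw [h0, zero_mul] at h00
    exact zero_ne_one h00
  have hD0 : D j0 j0 = (C i0 i0)⁻¹ := eq_inv_of_mul_eq_one_right h00
  refine ⟨C i0 i0, hl, ?_, ?_⟩
  · ext i i'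
    have := hent i i' j0 j0
    rw [hD0] at this
    rw [Matrix.smul_apply, Matrix.one_apply, smul_eq_mul]
    by_cases hii : i = i'
    · rw [if_pos hii, mul_one]
      rw [if_pos (by rw [hii])] at this
      exact (mul_inv_eq_one₀ hl).mp this
    · rw [if_neg hii, mul_zero]
      rw [if_neg (by intro hc; exact hii (Prod.mk.inj hc).1)] at this
      rcases mul_eq_zero.mp this with h1 | h1
      · exact h1
      · exact absurd h1 (inv_ne_zero hl)
  · ext j j'
    have := hent i0 i0 j j'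
    rw [Matrix.smul_apply, Matrix.one_apply, smul_eq_mul]
    by_cases hjj : j = j'
    · rw [if_pos hjj, mul_one]
      rw [if_pos (by rw [hjj])] at this
      exact eq_inv_of_mul_eq_one_right this
    · rw [if_neg hjj, mul_zero]
      rw [if_neg (by intro hc; exact hjj (Prod.mk.inj hc).2)] at this
      rcases mul_eq_zero.mp this with h1 | h1
      · exact absurd h1 hl
      · exact h1

/-- in odd dimension, `A² = λ` forces `λ` to be a square -/
theorem exists_sqrt_of_odd {n : ℕ} (hn : Odd n) (A : Matrix (Fin n) (Fin n) F) (l : F) (hl : l ≠ 0)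
    (h : A * A = l • (1 : Matrix (Fin n) (Fin n) F)) : ∃ c : F, c * c = l := by
  obtain ⟨k, hk⟩ := hn
  have hdet : A.det * A.det = l ^ n := by
    rw [← Matrix.det_mul, h, Matrix.det_smul, Matrix.det_one, mul_one, Fintype.card_fin]
  refine ⟨A.det / l ^ k, ?_⟩
  have hlk : l ^ k ≠ 0 := pow_ne_zero _ hl
  rw [div_mul_div_comm, hdet, hk, div_eq_iff (mul_ne_zero hlk hlk)]
  ring

/-- a non-degenerate Gram matrix has non-zero determinant -/
theorem det_ne_zero_of_orthG {n : ℕ} {J : Matrix (Fin n) (Fin n) F} (hJ : OrthG J) : J.det ≠ 0 := by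
  intro h0
  obtain ⟨v, hv, hvJ⟩ := Matrix.exists_vecMul_eq_zero_iff.mpr h0
  apply hv
  apply hJ.nondeg
  intro y
  unfold bf
  rw [Matrix.dotProduct_mulVec, hvJ, zero_dotProduct]

theorem bf_single_single {n : ℕ} (M : Matrix (Fin n) (Fin n) F) (i j : Fin n) :
    bf M (Pi.single i 1) (Pi.single j 1) = M i j := by
  unfold bf
  simp

theorem bf_mulVec_mulVec {n : ℕ} (J A : Matrix (Fin n) (Fin n) F) (x y : Fin n → F) :
    bf J (A *ᵥ x) (A *ᵥ y) = bf (Aᵀ * J * A) x y := by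
  unfold bf
  rw [← Matrix.vecMul_transpose, ← Matrix.dotProduct_mulVec, Matrix.mulVec_mulVec, Matrix.mulVec_mulVec,
    Matrix.mul_assoc]

/-- the matrix form of a similitude -/
theorem simil_matrix {n : ℕ} (J A : Matrix (Fin n) (Fin n) F) (l : F)
    (h : ∀ x y, bf J (A *ᵥ x) (A *ᵥ y) = l * bf J x y) : Aᵀ * J * A = l • J := by
  ext i j
  have := h (Pi.single i 1) (Pi.single j 1)
  rw [bf_mulVec_mulVec, bf_single_single, bf_single_single] at this
  rw [Matrix.smul_apply, smul_eq_mul]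
  exact this

/-- a similitude with `A² = 1` of a space of odd dimension is an isometry -/
theorem simil_eq_one_of_odd {n : ℕ} (hn : Odd n) {J : Matrix (Fin n) (Fin n) F} (hJ : OrthG J)
    (A : Matrix (Fin n) (Fin n) F) (hAA : A * A = 1) (l : F) (hll : l * l = 1)
    (h : ∀ x y, bf J (A *ᵥ x) (A *ᵥ y) = l * bf J x y) : l = 1 := by
  have hm := simil_matrix J A l h
  have hdet := congrArg Matrix.det hm
  rw [Matrix.det_mul, Matrix.det_mul, Matrix.det_transpose, Matrix.det_smul, Fintype.card_fin] at hdet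
  have hAd : A.det * A.det = 1 := by
    rw [← Matrix.det_mul, hAA, Matrix.det_one]
  have h1 : J.det = l ^ n * J.det := by
    rw [← hdet]
    calc J.det = (A.det * A.det) * J.det := by rw [hAd, one_mul]
      _ = A.det * J.det * A.det := by ring
  have h2 : l ^ n = 1 := by
    have h3 : (l ^ n - 1) * J.det = 0 := by rw [sub_mul, one_mul, ← h1, sub_self]
    rcases mul_eq_zero.mp h3 with h4 | h4
    · exact sub_eq_zero.mp h4
    · exact absurd h4 (det_ne_zero_of_orthG hJ)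
  obtain ⟨k, hk⟩ := hn
  rw [hk, pow_succ, pow_mul, sq, hll, one_pow, one_mul] at h2
  exact h2

variable {J1 : Matrix (Fin a) (Fin a) F} {J2 : Matrix (Fin b) (Fin b) F}

theorem exists_bf_ne_zero {n : ℕ} (hn : 1 ≤ n) {J : Matrix (Fin n) (Fin n) F} (hJ : OrthG J) :
    ∃ x y : Fin n → F, bf J x y ≠ 0 := by
  by_contra hcon
  push Not at hcon
  have := hJ.nondeg (Pi.single ⟨0, by omega⟩ 1) (hcon _)
  have h1 := congrFun this ⟨0, by omega⟩
  simp at h1

/-- the factors of a Kronecker isometry are similitudes (plain matrices) -/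
theorem kron_iso_simil' (hJ1 : OrthG J1) (hJ2 : OrthG J2) (ha : 1 ≤ a) (hb : 1 ≤ b)
    (A : Matrix (Fin a) (Fin a) F) (B : Matrix (Fin b) (Fin b) F)
    (hiso : ∀ x y, bf (J1 ⊗ₖ J2) ((A ⊗ₖ B) *ᵥ x) ((A ⊗ₖ B) *ᵥ y) = bf (J1 ⊗ₖ J2) x y) :
    ∃ l : F, l ≠ 0 ∧ (∀ x y, bf J1 (A *ᵥ x) (A *ᵥ y) = l * bf J1 x y) ∧
      (∀ x y, bf J2 (B *ᵥ x) (B *ᵥ y) = l⁻¹ * bf J2 x y) := by
  have key : ∀ (x y : Fin a → F) (w w' : Fin b → F),
      bf J1 (A *ᵥ x) (A *ᵥ y) * bf J2 (B *ᵥ w) (B *ᵥ w') = bf J1 x y * bf J2 w w' := by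
    intro x y w w'
    have h := hiso (pur x w) (pur y w')
    rw [kron_mulVec_pur, kron_mulVec_pur, Cfsg.Agent.Lib.Helper3.SpT.bf_kron_pur,
      Cfsg.Agent.Lib.Helper3.SpT.bf_kron_pur] at h
    exact h
  obtain ⟨x0, y0, hxy⟩ := exists_bf_ne_zero ha hJ1
  obtain ⟨w0, w0', hww⟩ := exists_bf_ne_zero hb hJ2
  have h0 := key x0 y0 w0 w0'
  have hα : bf J1 (A *ᵥ x0) (A *ᵥ y0) ≠ 0 := by
    intro h
    rw [h, zero_mul] at h0
    exact mul_ne_zero hxy hww h0.symm
  have hβ : bf J2 (B *ᵥ w0) (B *ᵥ w0') ≠ 0 := by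
    intro h
    rw [h, mul_zero] at h0
    exact mul_ne_zero hxy hww h0.symm
  refine ⟨bf J2 w0 w0' / bf J2 (B *ᵥ w0) (B *ᵥ w0'), div_ne_zero hww hβ, ?_, ?_⟩
  · intro x y
    have h1 := key x y w0 w0'
    field_simp
    linear_combination h1
  · intro w w'
    have h1 := key x0 y0 w w'
    rw [inv_div]
    field_simp
    have e1 : bf J2 (B *ᵥ w) (B *ᵥ w') * bf J2 w0 w0' * bf J1 (A *ᵥ x0) (A *ᵥ y0) =
        bf J1 x0 y0 * bf J2 w w' * bf J2 w0 w0' := by
      linear_combination (bf J2 w0 w0') * h1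
    have e2 : bf J2 (B *ᵥ w0) (B *ᵥ w0') * bf J2 w w' * bf J1 (A *ᵥ x0) (A *ᵥ y0) =
        bf J1 x0 y0 * bf J2 w w' * bf J2 w0 w0' := by
      linear_combination (bf J2 w w') * h0
    apply mul_right_cancel₀ hα
    rw [e1, e2]

/-- a vector orthogonal to `k1` and paired to `1` with `k2` -/
theorem exists_dual_vec {n : ℕ} {J : Matrix (Fin n) (Fin n) F} (hJ : OrthG J) (k1 k2 : Fin n → F)
    (hind : ∀ c1 c2 : F, c1 • k1 + c2 • k2 = 0 → c1 = 0 ∧ c2 = 0) :
    ∃ w : Fin n → F, bf J w k1 = 0 ∧ bf J w k2 = 1 := by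
  have hex : ∃ w : Fin n → F, bf J w k1 = 0 ∧ bf J w k2 ≠ 0 := by
    by_contra hcon
    push Not at hcon
    have hk1 : k1 ≠ 0 := by
      intro h0
      have := (hind 1 0 (by rw [h0]; simp)).1
      exact one_ne_zero this
    have : ∃ y, bf J k1 y ≠ 0 := by
      by_contra hc
      push Not at hc
      exact hk1 (hJ.nondeg k1 hc)
    obtain ⟨y, hy⟩ := this
    set w0 : Fin n → F := (bf J k1 y)⁻¹ • y with hw0
    have hw01 : bf J w0 k1 = 1 := by
      rw [hw0, Cfsg.Agent.Lib.Helper3.SpT.bf_smul_left, hJ.symm y k1, inv_mul_cancel₀ hy]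
    set c : F := bf J w0 k2 with hc
    have hall : ∀ w, bf J w (k2 - c • k1) = 0 := by
      intro w
      have h1 : bf J (w - bf J w k1 • w0) k1 = 0 := by
        rw [Cfsg.Agent.Lib.Helper3.SpT.bf_sub_left, Cfsg.Agent.Lib.Helper3.SpT.bf_smul_left, hw01, mul_one, sub_self]
      have h2 := hcon _ h1
      rw [Cfsg.Agent.Lib.Helper3.SpT.bf_sub_left, Cfsg.Agent.Lib.Helper3.SpT.bf_smul_left] at h2
      rw [Cfsg.Agent.Lib.Helper3.SpT.bf_sub_right, Cfsg.Agent.Lib.Helper3.SpT.bf_smul_right]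
      linear_combination h2
    have hz : k2 - c • k1 = 0 := by
      apply hJ.nondeg
      intro y
      rw [hJ.symm]
      exact hall y
    have := (hind (-c) 1 (by rw [neg_smul, one_smul, neg_add_eq_sub]; exact hz)).2
    exact one_ne_zero this
  obtain ⟨w, hw1, hw2⟩ := hex
  refine ⟨(bf J w k2)⁻¹ • w, ?_, ?_⟩
  · rw [Cfsg.Agent.Lib.Helper3.SpT.bf_smul_left, hw1, mul_zero]
  · rw [Cfsg.Agent.Lib.Helper3.SpT.bf_smul_left, inv_mul_cancel₀ hw2]

/-! ## the standard totally singular subspace `U ⊗ ⟨k₁,k₂⟩` in coordinates -/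

theorem Lp_rep (k1 k2 : Fin b → F) (v : Fin a × Fin b → F) (hv : v ∈ Lp (a := a) k1 k2) :
    ∃ u u' : Fin a → F, v = pur u k1 + pur u' k2 := by
  unfold Lp tW at hv
  induction hv using Submodule.span_induction with
  | mem x hx =>
    obtain ⟨u, w, hw, rfl⟩ := hx
    obtain ⟨c1, c2, rfl⟩ := Submodule.mem_span_pair.mp hw
    refine ⟨c1 • u, c2 • u, ?_⟩
    rw [pur_add_right, pur_smul_right, pur_smul_right, pur_smul_left, pur_smul_left]
  | zero => exact ⟨0, 0, by simp⟩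
  | add x y _ _ hx hy =>
    obtain ⟨u, u', rfl⟩ := hx
    obtain ⟨t, t', rfl⟩ := hy
    refine ⟨u + t, u' + t', ?_⟩
    rw [pur_add_left, pur_add_left]
    abel
  | smul c x _ hx =>
    obtain ⟨u, u', rfl⟩ := hx
    refine ⟨c • u, c • u', ?_⟩
    rw [pur_smul_left, pur_smul_left, smul_add]

theorem pur_pair_mem_Lp (k1 k2 : Fin b → F) (u u' : Fin a → F) : pur u k1 + pur u' k2 ∈ Lp (a := a) k1 k2 := by
  unfold Lp
  apply Submodule.add_mem
  · exact pur_mem_tW u (Submodule.subset_span (by simp))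
  · exact pur_mem_tW u' (Submodule.subset_span (by simp))

theorem pur_pair_eq_zero {k1 k2 : Fin b → F} (hind : ∀ c1 c2 : F, c1 • k1 + c2 • k2 = 0 → c1 = 0 ∧ c2 = 0)
    (u u' : Fin a → F) (h : pur u k1 + pur u' k2 = 0) : u = 0 ∧ u' = 0 := by
  have key : ∀ i, u i = 0 ∧ u' i = 0 := by
    intro i
    apply hind
    funext j
    have := congrFun h (i, j)
    simpa using this
  exact ⟨funext fun i => (key i).1, funext fun i => (key i).2⟩

/-! ## the core -/

theorem mulVec_add_one {n : ℕ} (A : Matrix (Fin n) (Fin n) F) (u : Fin n → F) : (A + 1) *ᵥ u = A *ᵥ u + u := by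
  rw [Matrix.add_mulVec, Matrix.one_mulVec]

theorem core (hJ2 : OrthG J2) (h2 : (2 : F) ≠ 0) (hb : 5 ≤ b) (ha : 1 ≤ a) {k1 k2 : Fin b → F} (h : Ts2 J2 k1 k2)
    (A : Matrix (Fin a) (Fin a) F) (B : Matrix (Fin b) (Fin b) F) (hAA : A * A = 1) (hBB : B * B = 1)
    (hBiso : ∀ x y, bf J2 (B *ᵥ x) (B *ᵥ y) = bf J2 x y) (hB1 : B *ᵥ k1 = k1) (hB2 : B *ᵥ k2 = k2)
    (hne : Vm (A ⊗ₖ B) ≠ ⊥)
    (hdim : finrank F (Vm (A ⊗ₖ B)) = 2 * finrank F ↥(Vm (A ⊗ₖ B) ⊓ Lp (a := a) k1 k2)) :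
    ∃ W4 : Submodule F (Fin b → F), finrank F W4 = 4 ∧ k1 ∈ W4 ∧ k2 ∈ W4 ∧ Vm (A ⊗ₖ B) = tW (a := a) W4 := by
  set Z : Matrix (Fin a × Fin b) (Fin a × Fin b) F := A ⊗ₖ B with hZ
  set Wp : Submodule F (Fin b → F) := LinearMap.ker (Matrix.toLin' (B - 1)) with hWp
  have mem_Wp : ∀ w : Fin b → F, w ∈ Wp ↔ B *ᵥ w = w := by
    intro w
    rw [hWp, LinearMap.mem_ker, Matrix.toLin'_apply, Matrix.sub_mulVec, Matrix.one_mulVec, sub_eq_zero]
  have hAAv : ∀ u : Fin a → F, A *ᵥ (A *ᵥ u) = u := by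
    intro u
    rw [Matrix.mulVec_mulVec, hAA, Matrix.one_mulVec]
  have hBBv : ∀ w : Fin b → F, B *ᵥ (B *ᵥ w) = w := by
    intro w
    rw [Matrix.mulVec_mulVec, hBB, Matrix.one_mulVec]
  -- (s2) U₋ ⊗ W₊ ≤ V₋
  have hX1le : tXY (Vm A) Wp ≤ Vm Z := by
    unfold tXY
    rw [Submodule.span_le]
    rintro v ⟨u, hu, w, hw, rfl⟩
    rw [SetLike.mem_coe, mem_Vm_iff, hZ, kron_mulVec_pur, (mem_Vm_iff A u).mp hu, (mem_Wp w).mp hw, pur_neg_left]
  -- (s3) V₋ ∩ Lp ≅ U₋ × U₋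
  set ι : (↥(Vm A) × ↥(Vm A)) →ₗ[F] (Fin a × Fin b → F) :=
    ((purL (a := a) k1).comp (Vm A).subtype).coprod ((purL (a := a) k2).comp (Vm A).subtype) with hι
  have hιap : ∀ p : ↥(Vm A) × ↥(Vm A), ι p = pur (p.1 : Fin a → F) k1 + pur (p.2 : Fin a → F) k2 := by
    intro p
    rw [hι, LinearMap.coprod_apply]
    rfl
  have hιinj : Function.Injective ι := by
    rw [← LinearMap.ker_eq_bot, LinearMap.ker_eq_bot']
    intro p hp
    rw [hιap] at hp
    obtain ⟨h1, h2'⟩ := pur_pair_eq_zero h.indep _ _ hp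
    exact Prod.ext (Subtype.ext h1) (Subtype.ext h2')
  have hιrange : LinearMap.range ι = Vm Z ⊓ Lp (a := a) k1 k2 := by
    apply le_antisymm
    · rintro v ⟨p, rfl⟩
      rw [hιap]
      refine ⟨?_, pur_pair_mem_Lp k1 k2 _ _⟩
      rw [SetLike.mem_coe, mem_Vm_iff, hZ, Matrix.mulVec_add, kron_mulVec_pur, kron_mulVec_pur, hB1, hB2,
        (mem_Vm_iff A _).mp p.1.2, (mem_Vm_iff A _).mp p.2.2, pur_neg_left, pur_neg_left, neg_add]
    · rintro v ⟨hv1, hv2⟩
      obtain ⟨u, u', rfl⟩ := Lp_rep k1 k2 v hv2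
      rw [SetLike.mem_coe, mem_Vm_iff, hZ, Matrix.mulVec_add, kron_mulVec_pur, kron_mulVec_pur, hB1, hB2] at hv1
      have h0 : pur (A *ᵥ u + u) k1 + pur (A *ᵥ u' + u') k2 = 0 := by
        rw [pur_add_left, pur_add_left]
        have := hv1
        rw [neg_add] at this
        calc pur (A *ᵥ u) k1 + pur u k1 + (pur (A *ᵥ u') k2 + pur u' k2)
            = (pur (A *ᵥ u) k1 + pur (A *ᵥ u') k2) + (pur u k1 + pur u' k2) := by abel
          _ = 0 := by rw [this]; abel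
      obtain ⟨h1, h2'⟩ := pur_pair_eq_zero h.indep _ _ h0
      have hu : u ∈ Vm A := (mem_Vm_iff A u).mpr (eq_neg_of_add_eq_zero_left h1)
      have hu' : u' ∈ Vm A := (mem_Vm_iff A u').mpr (eq_neg_of_add_eq_zero_left h2')
      exact ⟨(⟨u, hu⟩, ⟨u', hu'⟩), hιap _⟩
  have hdim2 : finrank F ↥(Vm Z ⊓ Lp (a := a) k1 k2) = 2 * finrank F (Vm A) := by
    rw [← hιrange, LinearMap.finrank_range_of_inj hιinj, Module.finrank_prod]
    ring
  -- (s4), (s5)
  have hdim4 : finrank F (Vm Z) = 4 * finrank F (Vm A) := by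
    rw [hdim, hdim2]
    ring
  have hpos : 0 < finrank F (Vm A) := by
    by_contra hcon
    have h0 : finrank F (Vm A) = 0 := by omega
    rw [h0, mul_zero] at hdim4
    exact hne (Submodule.finrank_eq_zero.mp hdim4)
  -- (s6) four independent vectors in W₊
  obtain ⟨w1, hw11, hw12⟩ := exists_dual_vec hJ2 k1 k2 h.indep
  obtain ⟨w2, hw22, hw21⟩ := exists_dual_vec hJ2 k2 k1 (fun c1 c2 hc => by
    have := h.indep c2 c1 (by rw [add_comm]; exact hc)
    exact ⟨this.2, this.1⟩)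
  have hsym : ∀ w k : Fin b → F, B *ᵥ k = k → bf J2 (B *ᵥ w) k = bf J2 w k := by
    intro w k hk
    have := hBiso w k
    rw [hk] at this
    exact this
  set p1 : Fin b → F := (2 : F)⁻¹ • (w1 + B *ᵥ w1) with hp1
  set p2 : Fin b → F := (2 : F)⁻¹ • (w2 + B *ᵥ w2) with hp2
  have hp1W : p1 ∈ Wp := by
    rw [mem_Wp, hp1, Matrix.mulVec_smul, Matrix.mulVec_add, hBBv, add_comm]
  have hp2W : p2 ∈ Wp := by
    rw [mem_Wp, hp2, Matrix.mulVec_smul, Matrix.mulVec_add, hBBv, add_comm]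
  have hk1W : k1 ∈ Wp := (mem_Wp k1).mpr hB1
  have hk2W : k2 ∈ Wp := (mem_Wp k2).mpr hB2
  have hpk : ∀ w k : Fin b → F, B *ᵥ k = k → bf J2 ((2 : F)⁻¹ • (w + B *ᵥ w)) k = bf J2 w k := by
    intro w k hk
    rw [Cfsg.Agent.Lib.Helper3.SpT.bf_smul_left, Cfsg.Agent.Lib.Helper3.SpT.bf_add_left, hsym w k hk]
    field_simp
    ring
  have hp11 : bf J2 p1 k1 = 0 := by rw [hp1, hpk w1 k1 hB1, hw11]
  have hp12 : bf J2 p1 k2 = 1 := by rw [hp1, hpk w1 k2 hB2, hw12]
  have hp21 : bf J2 p2 k1 = 1 := by rw [hp2, hpk w2 k1 hB1, hw21]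
  have hp22 : bf J2 p2 k2 = 0 := by rw [hp2, hpk w2 k2 hB2, hw22]
  have hk21 : bf J2 k2 k1 = 0 := by rw [hJ2.symm, h.h12]
  have h4le : 4 ≤ finrank F Wp := by
    set fam : Fin 4 → ↥Wp := ![⟨k1, hk1W⟩, ⟨k2, hk2W⟩, ⟨p1, hp1W⟩, ⟨p2, hp2W⟩] with hfam
    have hli : LinearIndependent F fam := by
      rw [Fintype.linearIndependent_iff]
      intro g hg
      have hg' : g 0 • k1 + g 1 • k2 + g 2 • p1 + g 3 • p2 = 0 := by
        have := congrArg (Submodule.subtype Wp) hg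
        rw [map_sum, Fin.sum_univ_four] at this
        simpa [hfam] using this
      have e1 : g 3 = 0 := by
        have := congrArg (fun v => bf J2 v k1) hg'
        simp only [Cfsg.Agent.Lib.Helper3.SpT.bf_add_left, Cfsg.Agent.Lib.Helper3.SpT.bf_smul_left,
          Cfsg.Agent.Lib.Helper3.SpT.bf_zero_left, h.h11, hk21, hp11, hp21] at this
        linear_combination this
      have e2 : g 2 = 0 := by
        have := congrArg (fun v => bf J2 v k2) hg'
        simp only [Cfsg.Agent.Lib.Helper3.SpT.bf_add_left, Cfsg.Agent.Lib.Helper3.SpT.bf_smul_left,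
          Cfsg.Agent.Lib.Helper3.SpT.bf_zero_left, h.h12, h.h22, hp12, hp22] at this
        linear_combination this
      rw [e1, e2, zero_smul, zero_smul, add_zero, add_zero] at hg'
      obtain ⟨e3, e4⟩ := h.indep _ _ hg'
      intro i
      fin_cases i
      · exact e3
      · exact e4
      · exact e2
      · exact e1
    have := hli.fintype_card_le_finrank
    simpa using this
  -- (s7)
  have hfr : finrank F (tXY (Vm A) Wp) = finrank F (Vm A) * finrank F Wp := finrank_tXY _ _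
  have hle : finrank F (Vm A) * finrank F Wp ≤ 4 * finrank F (Vm A) := by
    rw [← hfr, ← hdim4]
    exact Submodule.finrank_mono hX1le
  have h4ge : finrank F Wp ≤ 4 := by
    rw [mul_comm 4] at hle
    exact Nat.le_of_mul_le_mul_left hle hpos
  have hW4 : finrank F Wp = 4 := le_antisymm h4ge h4le
  -- (s8)
  have hX1eq : tXY (Vm A) Wp = Vm Z := by
    apply Submodule.eq_of_le_of_finrank_eq hX1le
    rw [hfr, hdim4, hW4, mul_comm]
  -- (s9) U₊ = 0
  have hUp : ∀ u : Fin a → F, A *ᵥ u = u → u = 0 := by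
    intro u hu
    by_contra hu0
    -- a vector outside W₊
    have hWne : Wp ≠ ⊤ := by
      intro htop
      have : finrank F Wp = b := by
        rw [htop, finrank_top, Module.finrank_fin_fun]
      omega
    obtain ⟨w, -, hw⟩ := SetLike.exists_of_lt (lt_top_iff_ne_top.mpr hWne)
    set wm : Fin b → F := w - B *ᵥ w with hwm
    have hwm0 : wm ≠ 0 := by
      intro h0
      apply hw
      rw [mem_Wp]
      exact (sub_eq_zero.mp h0).symm
    have hBwm : B *ᵥ wm = - wm := by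
      rw [hwm, Matrix.mulVec_sub, hBBv, neg_sub]
    have hv0 : pur u wm ∈ Vm Z := by
      rw [mem_Vm_iff, hZ, kron_mulVec_pur, hu, hBwm, pur_neg_right]
    rw [← hX1eq] at hv0
    -- the map (A + 1) ⊗ 1 kills U₋ ⊗ W₊
    have hker : tXY (Vm A) Wp ≤ LinearMap.ker (Matrix.toLin' ((A + 1) ⊗ₖ (1 : Matrix (Fin b) (Fin b) F))) := by
      unfold tXY
      rw [Submodule.span_le]
      rintro v ⟨x, hx, y, hy, rfl⟩
      rw [SetLike.mem_coe, LinearMap.mem_ker, Matrix.toLin'_apply, kron_mulVec_pur, mulVec_add_one,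
        (mem_Vm_iff A x).mp hx, neg_add_cancel, pur_zero_left]
    have := hker hv0
    rw [LinearMap.mem_ker, Matrix.toLin'_apply, kron_mulVec_pur, mulVec_add_one, hu, Matrix.one_mulVec] at this
    rcases pur_eq_zero this with h1 | h1
    · apply hu0
      have : (2 : F) • u = 0 := by rw [two_smul]; exact h1
      rcases smul_eq_zero.mp this with h3 | h3
      · exact absurd h3 h2
      · exact h3
    · exact hwm0 h1
  -- (s10)
  have hUm : Vm A = ⊤ := by
    rw [eq_top_iff]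
    intro u _
    rw [mem_Vm_iff]
    have := hUp (u + A *ᵥ u) (by rw [Matrix.mulVec_add, hAAv, add_comm])
    exact (eq_neg_of_add_eq_zero_right this)
  refine ⟨Wp, hW4, hk1W, hk2W, ?_⟩
  rw [← hX1eq, hUm, tXY_top]

/-! ## INV -/

/-- **INV** (exact statement of `notes/S5681Skel_helper28.lean.txt`, PART 2; `[Fintype F]` is not needed). -/
theorem inv_struct {Q : QuadraticForm F (Fin a × Fin b → F)} (hS : SetupO J1 J2 Q) (hpar : Odd a ∨ Odd b) (hb : 5 ≤ b)
    (ha : 1 ≤ a) {k1 k2 : Fin b → F}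
    (h : Ts2 J2 k1 k2) (z : GL (Fin a × Fin b) F) (hzK : z ∈ Cfsg.Geo.kroneckerSubgroup a b F)
    (hzI : z ∈ IsoG (J1 ⊗ₖ J2)) (hzz : z * z = 1)
    (hcomm : (z : Matrix (Fin a × Fin b) (Fin a × Fin b) F) * nL (a := a) J2 k1 k2 =
      nL (a := a) J2 k1 k2 * (z : Matrix (Fin a × Fin b) (Fin a × Fin b) F))
    (hne : Vm (z : Matrix (Fin a × Fin b) (Fin a × Fin b) F) ≠ ⊥)
    (hdim : finrank F (Vm (z : Matrix (Fin a × Fin b) (Fin a × Fin b) F)) =
      2 * finrank F ↥(Vm (z : Matrix (Fin a × Fin b) (Fin a × Fin b) F) ⊓ Lp (a := a) k1 k2)) :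
    ∃ W4 : Submodule F (Fin b → F), finrank F W4 = 4 ∧ k1 ∈ W4 ∧ k2 ∈ W4 ∧
      Vm (z : Matrix (Fin a × Fin b) (Fin a × Fin b) F) = tW (a := a) W4 := by
  have hb1 : 1 ≤ b := by omega
  obtain ⟨A0, B0, hz0⟩ := hzK
  have hzz' : (z : Matrix (Fin a × Fin b) (Fin a × Fin b) F) * (z : Matrix (Fin a × Fin b) (Fin a × Fin b) F) = 1 := by
    rw [← Units.val_mul, hzz, Units.val_one]
  -- squares are scalar
  have hzz0 := hzz'
  rw [hz0] at hzz0
  obtain ⟨l, hl, hA0, hB0⟩ := kron_sq_one ha hb1 _ _ hzz0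
  -- the scalar is a square
  obtain ⟨c, hc⟩ : ∃ c : F, c * c = l := by
    rcases hpar with hao | hbo
    · exact exists_sqrt_of_odd hao _ l hl hA0
    · obtain ⟨c', hc'⟩ := exists_sqrt_of_odd hbo _ l⁻¹ (inv_ne_zero hl) hB0
      exact ⟨c'⁻¹, by rw [← mul_inv, hc', inv_inv]⟩
  have hc0 : c ≠ 0 := by
    intro h0
    rw [h0, mul_zero] at hc
    exact hl hc.symm
  set A1 : Matrix (Fin a) (Fin a) F := c⁻¹ • (A0 : Matrix (Fin a) (Fin a) F) with hA1d
  set B1 : Matrix (Fin b) (Fin b) F := c • (B0 : Matrix (Fin b) (Fin b) F) with hB1d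
  have hz1 : (z : Matrix (Fin a × Fin b) (Fin a × Fin b) F) = A1 ⊗ₖ B1 := by
    rw [hA1d, hB1d, Matrix.smul_kronecker, Matrix.kronecker_smul, smul_smul, inv_mul_cancel₀ hc0, one_smul, hz0]
  have hA1 : A1 * A1 = 1 := by
    rw [hA1d, Matrix.smul_mul, Matrix.mul_smul, smul_smul, hA0, smul_smul, ← hc]
    have : c⁻¹ * c⁻¹ * (c * c) = 1 := by field_simp
    rw [this, one_smul]
  have hB1 : B1 * B1 = 1 := by
    rw [hB1d, Matrix.smul_mul, Matrix.mul_smul, smul_smul, hB0, smul_smul, ← hc]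
    have : c * c * (c * c)⁻¹ = 1 := by field_simp
    rw [this, one_smul]
  -- similitudes, hence isometries
  have hiso : ∀ x y, bf (J1 ⊗ₖ J2) ((A1 ⊗ₖ B1) *ᵥ x) ((A1 ⊗ₖ B1) *ᵥ y) = bf (J1 ⊗ₖ J2) x y := by
    rw [← hz1]
    exact (Cfsg.Agent.Lib.Helper13.TensSO.mem_IsoG_iff _ z).1 hzI
  obtain ⟨m, hm, hAm, hBm⟩ := kron_iso_simil' hS.h1 hS.h2 ha hb1 A1 B1 hiso
  have hmm : m * m = 1 := by
    obtain ⟨x0, y0, hxy⟩ := exists_bf_ne_zero ha hS.h1
    have h1 := hAm (A1 *ᵥ x0) (A1 *ᵥ y0)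
    rw [Matrix.mulVec_mulVec, Matrix.mulVec_mulVec, hA1, Matrix.one_mulVec, Matrix.one_mulVec, hAm] at h1
    have h3 : (m * m - 1) * bf J1 x0 y0 = 0 := by linear_combination -h1
    rcases mul_eq_zero.mp h3 with h4 | h4
    · exact sub_eq_zero.mp h4
    · exact absurd h4 hxy
  have hm1 : m = 1 := by
    rcases hpar with hao | hbo
    · exact simil_eq_one_of_odd hao hS.h1 A1 hA1 m hmm hAm
    · have := simil_eq_one_of_odd hbo hS.h2 B1 hB1 m⁻¹ (by rw [← mul_inv, hmm, inv_one]) hBm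
      exact inv_eq_one.mp this
  have hBiso : ∀ x y, bf J2 (B1 *ᵥ x) (B1 *ᵥ y) = bf J2 x y := by
    intro x y
    rw [hBm, hm1, inv_one, one_mul]
  have hBBv : ∀ w : Fin b → F, B1 *ᵥ (B1 *ᵥ w) = w := by
    intro w
    rw [Matrix.mulVec_mulVec, hB1, Matrix.one_mulVec]
  -- `B1` commutes with `T2`
  have hA1ne : ∃ i i', A1 i i' ≠ 0 := by
    by_contra hcon
    push Not at hcon
    have h0 : A1 = 0 := by
      ext i i'
      exact hcon i i'
    rw [h0, Matrix.zero_mul] at hA1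
    have := congrFun (congrFun hA1 ⟨0, by omega⟩) ⟨0, by omega⟩
    simp at this
  have hBT : B1 * T2 J2 k1 k2 = T2 J2 k1 k2 * B1 := by
    have h1 := hcomm
    unfold nL at h1
    rw [hz1, ← Matrix.mul_kronecker_mul, ← Matrix.mul_kronecker_mul, Matrix.mul_one, Matrix.one_mul] at h1
    obtain ⟨i, i', hii⟩ := hA1ne
    ext j j'
    have := congrFun (congrFun h1 (i, j)) (i', j')
    rw [Matrix.kroneckerMap_apply, Matrix.kroneckerMap_apply] at this
    exact mul_left_cancel₀ hii this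
  have hBTv : ∀ w : Fin b → F, B1 *ᵥ (T2 J2 k1 k2 *ᵥ w) = T2 J2 k1 k2 *ᵥ (B1 *ᵥ w) := by
    intro w
    rw [Matrix.mulVec_mulVec, Matrix.mulVec_mulVec, hBT]
  have hadj : ∀ w k : Fin b → F, bf J2 (B1 *ᵥ w) k = bf J2 w (B1 *ᵥ k) := by
    intro w k
    have := hBiso (B1 *ᵥ w) k
    rw [hBBv] at this
    exact this.symm
  have hstar : ∀ w : Fin b → F, bf J2 w k2 • B1 *ᵥ k1 - bf J2 w k1 • B1 *ᵥ k2 =
      bf J2 w (B1 *ᵥ k2) • k1 - bf J2 w (B1 *ᵥ k1) • k2 := by
    intro w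
    have := hBTv w
    rw [T2_mulVec, T2_mulVec, Matrix.mulVec_sub, Matrix.mulVec_smul, Matrix.mulVec_smul, hadj, hadj] at this
    exact this
  obtain ⟨w1, hw11, hw12⟩ := exists_dual_vec hS.h2 k1 k2 h.indep
  obtain ⟨w2, hw22, hw21⟩ := exists_dual_vec hS.h2 k2 k1 (fun c1 c2 hc => by
    have := h.indep c2 c1 (by rw [add_comm]; exact hc)
    exact ⟨this.2, this.1⟩)
  have e1 := hstar w1
  rw [hw11, hw12, one_smul, zero_smul, sub_zero] at e1
  have e2 := hstar w2
  rw [hw21, hw22, one_smul, zero_smul, zero_sub] at e2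
  set α : F := bf J2 w1 (B1 *ᵥ k2) with hα
  set β : F := bf J2 w1 (B1 *ᵥ k1) with hβ
  set γ : F := bf J2 w2 (B1 *ᵥ k2) with hγ
  set δ : F := bf J2 w2 (B1 *ᵥ k1) with hδ
  have e2' : B1 *ᵥ k2 = δ • k2 - γ • k1 := by
    rw [← neg_inj, e2, neg_sub]
  have hβ0 : β = 0 := by
    have : β = -β := by
      conv_lhs => rw [hβ, e1]
      rw [Cfsg.Agent.Lib.Helper3.SpT.bf_sub_right, Cfsg.Agent.Lib.Helper3.SpT.bf_smul_right,
        Cfsg.Agent.Lib.Helper3.SpT.bf_smul_right, hw11, hw12]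
      ring
    have h3 : (2 : F) * β = 0 := by linear_combination this
    rcases mul_eq_zero.mp h3 with h4 | h4
    · exact absurd h4 hS.two
    · exact h4
  have hγ0 : γ = 0 := by
    have : γ = -γ := by
      conv_lhs => rw [hγ, e2']
      rw [Cfsg.Agent.Lib.Helper3.SpT.bf_sub_right, Cfsg.Agent.Lib.Helper3.SpT.bf_smul_right,
        Cfsg.Agent.Lib.Helper3.SpT.bf_smul_right, hw21, hw22]
      ring
    have h3 : (2 : F) * γ = 0 := by linear_combination this
    rcases mul_eq_zero.mp h3 with h4 | h4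
    · exact absurd h4 hS.two
    · exact h4
  have hαδ : α = δ := by
    conv_lhs => rw [hα, e2']
    rw [Cfsg.Agent.Lib.Helper3.SpT.bf_sub_right, Cfsg.Agent.Lib.Helper3.SpT.bf_smul_right,
      Cfsg.Agent.Lib.Helper3.SpT.bf_smul_right, hw11, hw12]
    ring
  have hBk1 : B1 *ᵥ k1 = α • k1 := by
    rw [e1, hβ0, zero_smul, sub_zero]
  have hBk2 : B1 *ᵥ k2 = α • k2 := by
    rw [e2', hγ0, zero_smul, sub_zero, hαδ]
  have hk1 : k1 ≠ 0 := by
    intro h0
    have := (h.indep 1 0 (by rw [h0]; simp)).1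
    exact one_ne_zero this
  have hαα : α * α = 1 := by
    have h1 := hBBv k1
    rw [hBk1, Matrix.mulVec_smul, hBk1, smul_smul] at h1
    have h3 : (α * α - 1) • k1 = 0 := by rw [sub_smul, one_smul, h1, sub_self]
    rcases smul_eq_zero.mp h3 with h4 | h4
    · exact sub_eq_zero.mp h4
    · exact absurd h4 hk1
  -- normalise the sign
  set A2 : Matrix (Fin a) (Fin a) F := α • A1 with hA2d
  set B2 : Matrix (Fin b) (Fin b) F := α • B1 with hB2d
  have hz2 : (z : Matrix (Fin a × Fin b) (Fin a × Fin b) F) = A2 ⊗ₖ B2 := by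
    rw [hA2d, hB2d, Matrix.smul_kronecker, Matrix.kronecker_smul, smul_smul, hαα, one_smul, hz1]
  have hA2 : A2 * A2 = 1 := by
    rw [hA2d, Matrix.smul_mul, Matrix.mul_smul, smul_smul, hA1, hαα, one_smul]
  have hB2 : B2 * B2 = 1 := by
    rw [hB2d, Matrix.smul_mul, Matrix.mul_smul, smul_smul, hB1, hαα, one_smul]
  have hB2v : ∀ x : Fin b → F, B2 *ᵥ x = α • (B1 *ᵥ x) := by
    intro x
    rw [hB2d, Matrix.smul_mulVec]
  have hB2iso : ∀ x y, bf J2 (B2 *ᵥ x) (B2 *ᵥ y) = bf J2 x y := by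
    intro x y
    rw [hB2v, hB2v, Cfsg.Agent.Lib.Helper3.SpT.bf_smul_left,
      Cfsg.Agent.Lib.Helper3.SpT.bf_smul_right, hBiso, ← mul_assoc, hαα, one_mul]
  have hB2k1 : B2 *ᵥ k1 = k1 := by
    rw [hB2v, hBk1, smul_smul, hαα, one_smul]
  have hB2k2 : B2 *ᵥ k2 = k2 := by
    rw [hB2v, hBk2, smul_smul, hαα, one_smul]
  rw [hz2] at hne hdim ⊢
  exact core hS.h2 hS.two hb ha h A2 B2 hA2 hB2 hB2iso hB2k1 hB2k2 hne hdim

end Cfsg.Agent.Lib.Helper1.OTINV
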