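import Mathlib
import Cfsg.Agent.Lib.Helper1.SubfSLDefs
import Cfsg.Agent.Lib.Helper6.Siegel
import Cfsg.Agent.Lib.Helper6.SiegelOmega
import Cfsg.Agent.Lib.Helper13.OrthMax
import Cfsg.Agent.Lib.Helper13.OrthParab
import Cfsg.Agent.Lib.Helper13.SymForm

/-!
# Subfield subgroups of orthogonal groups: definitions and basic calculus (for S5683 / S5702)

`Q : QuadraticForm F (Fin n → F)`, `K : Subfield F`, rational vectors `rvec K u`.  `RatQ K Q`: `Q` takes values in `K`
on rational vectors.  `H1Q K Q = subfieldSubgroup K 1 ⊓ omegaGL Q`.  Siegel transformations as matrices `sieg Q u w`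
(helper6), membership in a subgroup `M` through `InM M (sieg Q u w)` (helper1 SubfSLDefs).
-/

set_option autoImplicit false

namespace Cfsg.Agent.Lib.Helper1.OrthSubf

open Matrix QuadraticMap Cfsg.Agent.Lib.Helper6 Cfsg.Agent.Lib.Helper13 Cfsg.Agent.Lib.Helper1.SubfSL

universe u
variable {F : Type u} [Field F] {n : ℕ}

/-- `Q` takes values in `K` on rational vectors -/
def RatQ (K : Subfield F) (Q : QuadraticForm F (Fin n → F)) : Prop :=
  ∀ u : Fin n → K, Q (rvec K u) ∈ K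

/-- the subfield group with `P = 1`, intersected with `Ω(Q)` -/
def H1Q (K : Subfield F) (Q : QuadraticForm F (Fin n → F)) : Subgroup (GL (Fin n) F) :=
  Cfsg.Geo.subfieldSubgroup K (1 : GL (Fin n) F) ⊓ Cfsg.Geo.omegaGL ⇑Q

/-- a rational totally singular pair: `u`, `c` rational, singular, perpendicular and `K`-independent -/
structure TsPair (K : Subfield F) (Q : QuadraticForm F (Fin n → F)) (u c : Fin n → K) : Prop where
  hu : Q (rvec K u) = 0
  hc : Q (rvec K c) = 0
  huc : polar (⇑Q) (rvec K u) (rvec K c) = 0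
  indep : ∀ k₁ k₂ : K, k₁ • u + k₂ • c = 0 → k₁ = 0 ∧ k₂ = 0

/-- `M` contains a long root element `ρ_{u, a c}` with `(u,c)` a rational t.s. pair and `a ∉ K` -/
def Good (K : Subfield F) (Q : QuadraticForm F (Fin n → F)) (M : Subgroup (GL (Fin n) F)) : Prop :=
  ∃ (u c : Fin n → K) (a : F), TsPair K Q u c ∧ a ∉ K ∧ InM M (sieg Q (rvec K u) (a • rvec K c))

/-- `M` contains a Siegel transformation `ρ_{z, η}` with rational singular centre `z ≠ 0` and a direction `η ⟂ z`
which is not rational modulo `z`: some rational `x ⟂ z` has `B(x, η) ∉ K` -/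
def SemiGood (K : Subfield F) (Q : QuadraticForm F (Fin n → F)) (M : Subgroup (GL (Fin n) F)) : Prop :=
  ∃ (z x : Fin n → K) (η : Fin n → F), z ≠ 0 ∧ Q (rvec K z) = 0 ∧ polar (⇑Q) (rvec K z) η = 0 ∧
    InM M (sieg Q (rvec K z) η) ∧ polar (⇑Q) (rvec K x) (rvec K z) = 0 ∧ polar (⇑Q) (rvec K x) η ∉ K

/-- `w` is not a scalar multiple of a rational vector -/
def Impure (K : Subfield F) (w : Fin n → F) : Prop := ∀ (l : F) (r : Fin n → K), w ≠ l • rvec K r

/-- `w` lies in the `F`-span of four rational vectors -/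
def Conf (K : Subfield F) (w : Fin n → F) : Prop :=
  ∃ (r : Fin 4 → Fin n → K) (a : Fin 4 → F), w = ∑ i, a i • rvec K (r i)

/-- the parameters `a` with `ρ_{u, a c} ∈ M` -/
def ParamSet (K : Subfield F) (Q : QuadraticForm F (Fin n → F)) (M : Subgroup (GL (Fin n) F))
    (u c : Fin n → K) : Set F := {a | InM M (sieg Q (rvec K u) (a • rvec K c))}

/-- `B₀` is the polar form of `Q` restricted to rational vectors: a nondegenerate symmetric bilinear form over `K`
(odd characteristic), with `B₀ u u = 0` iff `Q (rvec K u) = 0` -/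
structure RatForm (K : Subfield F) (Q : QuadraticForm F (Fin n → F))
    (B₀ : (Fin n → K) →ₗ[K] (Fin n → K) →ₗ[K] K) : Prop where
  isS : IsS B₀
  eq : ∀ u v, ((B₀ u v : K) : F) = polar (⇑Q) (rvec K u) (rvec K v)
  sing : ∀ u, B₀ u u = 0 ↔ Q (rvec K u) = 0

variable (Q : QuadraticForm F (Fin n → F))

theorem siegIso_val (u w : Fin n → F) (hu : Q u = 0) (huw : polar (⇑Q) u w = 0) :
    (((siegIso Q u w hu huw : ↥(Cfsg.isometryGroup F ⇑Q)) : GL (Fin n) F) :
      Matrix (Fin n) (Fin n) F) = sieg Q u w := rfl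

theorem sieg_inv_mul (u w : Fin n → F) (hu : Q u = 0) (huw : polar (⇑Q) u w = 0) :
    sieg Q u (-w) * sieg Q u w = 1 := by
  rw [sieg_mul Q u (-w) w hu (by rw [polar_neg_right, huw, neg_zero]) huw, neg_add_cancel, sieg_zero]

theorem sieg_mul_inv (u w : Fin n → F) (hu : Q u = 0) (huw : polar (⇑Q) u w = 0) :
    sieg Q u w * sieg Q u (-w) = 1 := by
  rw [sieg_mul Q u w (-w) hu huw (by rw [polar_neg_right, huw, neg_zero]), add_neg_cancel, sieg_zero]

/-- `ρ_{u, a c} = ρ_{c, -a u}` for a totally singular pair -/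
theorem sieg_swap (u c : Fin n → F) (a : F) (hu : Q u = 0) (hc : Q c = 0) :
    sieg Q u (a • c) = sieg Q c ((-a) • u) := by
  apply matrix_ext_mulVec
  intro x
  rw [sieg_mulVec, sieg_mulVec, Q_smul, Q_smul, hu, hc]
  simp only [polar_smul_left, smul_eq_mul, mul_zero, zero_mul, sub_zero, smul_smul]
  ext i
  simp only [Pi.add_apply, Pi.smul_apply, smul_eq_mul]
  ring

/-- scaling the centre -/
theorem sieg_smul_left (t : F) (u w : Fin n → F) (hu : Q u = 0) (huw : polar (⇑Q) u w = 0) :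
    sieg Q (t • u) w = sieg Q u (t • w) := by
  have h := siegIso_smul_left Q t u w hu huw
  have h2 := congrArg (fun g : ↥(Cfsg.isometryGroup F ⇑Q) =>
    ((g : GL (Fin n) F) : Matrix (Fin n) (Fin n) F)) h
  exact h2

variable {Q}

theorem InM.sieg_add {M : Subgroup (GL (Fin n) F)} {u w w' : Fin n → F} (hu : Q u = 0)
    (huw : polar (⇑Q) u w = 0) (huw' : polar (⇑Q) u w' = 0) (h : InM M (sieg Q u w))
    (h' : InM M (sieg Q u w')) : InM M (sieg Q u (w + w')) := by
  rw [← sieg_mul Q u w w' hu huw huw']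
  exact h.mul h'

theorem InM.sieg_neg {M : Subgroup (GL (Fin n) F)} {u w : Fin n → F} (hu : Q u = 0)
    (huw : polar (⇑Q) u w = 0) (h : InM M (sieg Q u w)) : InM M (sieg Q u (-w)) := by
  obtain ⟨g, hg, hgv⟩ := h
  refine ⟨g⁻¹, M.inv_mem hg, ?_⟩
  rw [Matrix.coe_units_inv, hgv]
  exact Matrix.inv_eq_left_inv (sieg_inv_mul Q u w hu huw)

/-- conjugation by an isometry lying in `M` -/
theorem InM.sieg_conj {M : Subgroup (GL (Fin n) F)} (g : ↥(Cfsg.isometryGroup F ⇑Q))
    (hg : (g : GL (Fin n) F) ∈ M) {u w : Fin n → F} (hu : Q u = 0) (huw : polar (⇑Q) u w = 0)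
    (h : InM M (sieg Q u w)) : InM M (sieg Q (gact Q g u) (gact Q g w)) := by
  obtain ⟨k, hk, hkv⟩ := h
  have hk' : k = ((siegIso Q u w hu huw : ↥(Cfsg.isometryGroup F ⇑Q)) : GL (Fin n) F) :=
    Units.ext (by rw [hkv, siegIso_val])
  have e := conj_siegIso Q g u w hu huw
  refine ⟨(g : GL (Fin n) F) * k * (g : GL (Fin n) F)⁻¹,
    M.mul_mem (M.mul_mem hg hk) (M.inv_mem hg), ?_⟩
  rw [hk']
  have e2 := congrArg (fun x : ↥(Cfsg.isometryGroup F ⇑Q) =>
    ((x : GL (Fin n) F) : Matrix (Fin n) (Fin n) F)) e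
  simpa [siegIso_val] using e2

theorem polar_rvec_mem {K : Subfield F} (hrat : RatQ K Q) (u v : Fin n → K) :
    polar (⇑Q) (rvec K u) (rvec K v) ∈ K := by
  unfold polar
  rw [← rvec_add]
  exact K.sub_mem (K.sub_mem (hrat _) (hrat _)) (hrat _)

/-- the entries of a rational Siegel transformation lie in `K` -/
theorem sieg_rat_entry {K : Subfield F} (hrat : RatQ K Q) (u c : Fin n → K) (i j : Fin n) :
    sieg Q (rvec K u) (rvec K c) i j ∈ K := by
  have h1 : sieg Q (rvec K u) (rvec K c) i j =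
      (sieg Q (rvec K u) (rvec K c) *ᵥ (Pi.single j (1 : F) : Fin n → F)) i := by
    rw [Matrix.mulVec_single_one]
    rfl
  rw [h1, sieg_mulVec, ← rvec_single K j]
  simp only [Pi.add_apply, Pi.smul_apply, smul_eq_mul]
  have e1 := polar_rvec_mem hrat c (Pi.single j 1)
  have e2 := polar_rvec_mem hrat u (Pi.single j 1)
  have e3 := hrat c
  refine K.add_mem (K.add_mem ?_ (K.mul_mem (K.sub_mem e1 (K.mul_mem e3 e2)) ?_))
    (K.mul_mem (K.neg_mem e2) ?_)
  · exact ((Pi.single j (1 : K) : Fin n → K) i).2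
  · exact (u i).2
  · exact (c i).2

/-- rational Siegel transformations lie in `H1Q` -/
theorem rat_sieg_mem [Fintype F] (hQ : (polarBilin Q).Nondegenerate) (h5 : 5 ≤ n) {K : Subfield F}
    (hrat : RatQ K Q) (u c : Fin n → K) (hu : Q (rvec K u) = 0)
    (huc : polar (⇑Q) (rvec K u) (rvec K c) = 0) :
    InM (H1Q K Q) (sieg Q (rvec K u) (rvec K c)) := by
  refine ⟨((siegIso Q (rvec K u) (rvec K c) hu huc : ↥(Cfsg.isometryGroup F ⇑Q)) :
    GL (Fin n) F), ⟨?_, ?_⟩, siegIso_val Q _ _ hu huc⟩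
  · apply mem_subfield_one_of_eq K _ 1 one_ne_zero
      (Matrix.of fun i j => (⟨sieg Q (rvec K u) (rvec K c) i j, sieg_rat_entry hrat u c i j⟩ : K))
    rw [one_smul, siegIso_val]
    ext i j
    rfl
  · exact (mem_omegaGL_iff Q _).mpr ⟨siegIso Q (rvec K u) (rvec K c) hu huc,
      siegIso_mem_Omega Q hQ (by rw [Fintype.card_fin]; exact h5) _ _ hu huc, rfl⟩

end Cfsg.Agent.Lib.Helper1.OrthSubf
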