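import Mathlib
import Cfsg.Agent.Lib.Helper1.OrthSubfDefs

/-!
# S5683 FO-RAT / FO-SPF / FO-ORX / FO-Y: the polar form on rational vectors as a `K`-bilinear form,
spans of rational vectors, a criterion for helper13's `OrX`, and existence of `y`
-/

set_option autoImplicit false

namespace Cfsg.Agent.Lib.Helper1.OrthSubfRat

open Matrix QuadraticMap Cfsg.Agent.Lib.Helper6 Cfsg.Agent.Lib.Helper13 Cfsg.Agent.Lib.Helper1.SubfSL
open Cfsg.Agent.Lib.Helper1.OrthSubf

universe u
variable {F : Type u} [Field F] {n : ℕ}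

/-- the polar form on rational vectors -/
noncomputable def ratB (Q : QuadraticForm F (Fin n → F)) (K : Subfield F) (hrat : RatQ K Q) :
    (Fin n → K) →ₗ[K] (Fin n → K) →ₗ[K] K :=
  LinearMap.mk₂ K (fun u v => ⟨polar (⇑Q) (rvec K u) (rvec K v), polar_rvec_mem hrat u v⟩)
    (fun u u' v => by
      apply Subtype.ext
      simp only [rvec_add, polar_add_left, Subfield.coe_add])
    (fun k u v => by
      apply Subtype.ext
      simp only [rvec_smul, polar_smul_left, Subfield.coe_mul, smul_eq_mul])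
    (fun u v v' => by
      apply Subtype.ext
      simp only [rvec_add, polar_add_right, Subfield.coe_add])
    (fun k u v => by
      apply Subtype.ext
      simp only [rvec_smul, polar_smul_right, Subfield.coe_mul, smul_eq_mul])

theorem ratB_apply (Q : QuadraticForm F (Fin n → F)) (K : Subfield F) (hrat : RatQ K Q)
    (u v : Fin n → K) :
    ((ratB Q K hrat u v : K) : F) = polar (⇑Q) (rvec K u) (rvec K v) := rfl

theorem polar_single_sum (Q : QuadraticForm F (Fin n → F)) (y z : Fin n → F)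
    (h : ∀ j, polar (⇑Q) (Pi.single j (1 : F)) z = 0) : polar (⇑Q) y z = 0 := by
  have hy : y = ∑ j, y j • (Pi.single j (1 : F) : Fin n → F) := by
    ext i
    simp [Finset.sum_apply, Pi.single_apply]
  rw [hy]
  have : polar (⇑Q) (∑ j, y j • (Pi.single j (1 : F) : Fin n → F)) z =
      ∑ j, y j * polar (⇑Q) (Pi.single j (1 : F)) z := by
    have := map_sum ((polarBilin Q).flip z) (fun j => y j • (Pi.single j (1 : F) : Fin n → F))
      Finset.univ
    simp only [LinearMap.flip_apply, polarBilin_apply_apply, map_smul, smul_eq_mul] at this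
    simpa [polar_smul_left] using this
  rw [this]
  apply Finset.sum_eq_zero
  intro j _
  rw [h j, mul_zero]

theorem exists_rat_form (Q : QuadraticForm F (Fin n → F)) (hQ : (polarBilin Q).Nondegenerate)
    (h2 : (2 : F) ≠ 0) (K : Subfield F) (hrat : RatQ K Q) :
    ∃ B₀ : (Fin n → K) →ₗ[K] (Fin n → K) →ₗ[K] K, RatForm K Q B₀ := by
  refine ⟨ratB Q K hrat, ⟨?_, ?_, ?_⟩, ?_, ?_⟩
  · intro h
    apply h2
    have := congrArg (fun x : K => (x : F)) h
    push_cast at this
    exact this
  · intro v w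
    apply Subtype.ext
    rw [ratB_apply, ratB_apply, polar_comm]
  · intro v hv
    by_contra hall
    push Not at hall
    apply hv
    apply rvec_inj K
    rw [rvec_zero]
    have h1 : ∀ y, polar (⇑Q) y (rvec K v) = 0 := by
      intro y
      apply polar_single_sum
      intro j
      rw [← rvec_single K j, ← ratB_apply Q K hrat, hall]
      rfl
    have := hQ.2 (rvec K v) (fun y => by
      rw [polarBilin_apply_apply]; exact h1 y)
    exact this
  · intro u v
    rfl
  · intro u
    constructor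
    · intro h
      have h1 := congrArg (fun x : K => (x : F)) h
      simp only [ratB_apply, polar_self, ZeroMemClass.coe_zero] at h1
      rw [two_smul, ← two_mul] at h1
      rcases mul_eq_zero.mp h1 with h3 | h3
      · exact absurd h3 h2
      · exact h3
    · intro h
      apply Subtype.ext
      rw [ratB_apply, polar_self, h, smul_zero]
      rfl

variable {Q : QuadraticForm F (Fin n → F)} {K : Subfield F}
  {B₀ : (Fin n → K) →ₗ[K] (Fin n → K) →ₗ[K] K}

theorem rvec_mem_span (S : Set (Fin n → K)) (x : Fin n → K) (hx : x ∈ Submodule.span K S) :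
    rvec K x ∈ Submodule.span F {y : Fin n → F | ∃ c ∈ S, y = rvec K c} := by
  induction hx using Submodule.span_induction with
  | mem x hx => exact Submodule.subset_span ⟨x, hx, rfl⟩
  | zero => rw [rvec_zero]; exact Submodule.zero_mem _
  | add x y _ _ hx hy => rw [rvec_add]; exact Submodule.add_mem _ hx hy
  | smul a x _ hx => rw [rvec_smul]; exact Submodule.smul_mem _ _ hx

theorem polar_sum_single (Q : QuadraticForm F (Fin n → F)) (y z : Fin n → F) :
    polar (⇑Q) y z = ∑ j, y j * polar (⇑Q) (Pi.single j (1 : F)) z := by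
  have hy : y = ∑ j, y j • (Pi.single j (1 : F) : Fin n → F) := by
    ext i
    simp [Finset.sum_apply, Pi.single_apply]
  conv_lhs => rw [hy]
  have := map_sum ((polarBilin Q).flip z) (fun j => y j • (Pi.single j (1 : F) : Fin n → F))
    Finset.univ
  simp only [LinearMap.flip_apply, polarBilin_apply_apply, map_smul, smul_eq_mul] at this
  simpa [polar_smul_left] using this

/-- every `w ⟂ rvec u` (`u ≠ 0` rational) is an `F`-combination of rational vectors `⟂ u` -/
theorem span_F_perp (hB : RatForm K Q B₀) (u : Fin n → K) (hu0 : u ≠ 0) (w : Fin n → F)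
    (hw : polar (⇑Q) (rvec K u) w = 0) :
    w ∈ Submodule.span F {x : Fin n → F | ∃ c : Fin n → K, B₀ c u = 0 ∧ x = rvec K c} := by
  obtain ⟨f₀, hf₀⟩ := hB.isS.nd u hu0
  set f : Fin n → K := (B₀ f₀ u)⁻¹ • f₀ with hf
  have hfu : B₀ f u = 1 := by
    rw [hf, map_smul, LinearMap.smul_apply, smul_eq_mul, inv_mul_cancel₀ hf₀]
  set s : Fin n → Fin n → K := fun i => Pi.single i 1 - B₀ (Pi.single i 1) u • f with hs
  have hsu : ∀ i, B₀ (s i) u = 0 := by
    intro i
    simp only [hs, map_sub, map_smul, LinearMap.sub_apply, LinearMap.smul_apply, smul_eq_mul,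
      hfu, mul_one, sub_self]
  have hwsum : w = ∑ i, w i • rvec K (s i) := by
    have h1 : ∀ i, rvec K (s i) = (Pi.single i (1 : F) : Fin n → F) -
        polar (⇑Q) (Pi.single i (1 : F)) (rvec K u) • rvec K f := by
      intro i
      rw [hs]
      simp only
      rw [rvec_sub, rvec_smul, rvec_single, hB.eq, rvec_single]
    have h2 : ∑ i, w i • rvec K (s i) = (∑ i, w i • (Pi.single i (1 : F) : Fin n → F)) -
        (∑ i, w i * polar (⇑Q) (Pi.single i (1 : F)) (rvec K u)) • rvec K f := by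
      rw [Finset.sum_smul, ← Finset.sum_sub_distrib]
      apply Finset.sum_congr rfl
      intro i _
      rw [h1, smul_sub, smul_smul]
    rw [h2, ← polar_sum_single, polar_comm, hw, zero_smul, sub_zero]
    ext i
    simp [Finset.sum_apply, Pi.single_apply]
  rw [hwsum]
  apply Submodule.sum_mem
  intro i _
  apply Submodule.smul_mem
  exact Submodule.subset_span ⟨s i, hsu i, rfl⟩

/-- FO-SPF, with the `K`-geometry input (`span_singular_perp`) as a hypothesis -/
theorem span_F_singular_perp_of (hB : RatForm K Q B₀) (u : Fin n → K) (hu0 : u ≠ 0)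
    (hG1 : ∀ c : Fin n → K, B₀ c u = 0 →
      c ∈ Submodule.span K {c : Fin n → K | B₀ c c = 0 ∧ B₀ c u = 0})
    (w : Fin n → F) (hw : polar (⇑Q) (rvec K u) w = 0) :
    w ∈ Submodule.span F {x : Fin n → F | ∃ c : Fin n → K, B₀ c c = 0 ∧ B₀ c u = 0 ∧ x = rvec K c} := by
  have h1 := span_F_perp hB u hu0 w hw
  refine (Submodule.span_le.mpr ?_) h1
  rintro x ⟨c, hcu, rfl⟩
  have h2 := hG1 c hcu
  have h3 := rvec_mem_span (F := F) _ c h2
  refine (Submodule.span_mono ?_) h3
  rintro y ⟨c', ⟨hc'c', hc'u⟩, rfl⟩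
  exact ⟨c', hc'c', hc'u, rfl⟩

/-- FO-ORX, with the span statement as a hypothesis -/
theorem orX_of_span (hB : RatForm K Q B₀) (M : Subgroup (GL (Fin n) F))
    (u : Fin n → K) (huu : B₀ u u = 0)
    (hspan : ∀ w : Fin n → F, polar (⇑Q) (rvec K u) w = 0 → w ∈ Submodule.span F
      {x : Fin n → F | ∃ c : Fin n → K, B₀ c c = 0 ∧ B₀ c u = 0 ∧ x = rvec K c})
    (hall : ∀ (c : Fin n → K) (a : F), B₀ c c = 0 → B₀ c u = 0 →
      InM M (sieg Q (rvec K u) (a • rvec K c))) : OrX Q M (rvec K u) := by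
  have hQu : Q (rvec K u) = 0 := (hB.sing u).mp huu
  refine ⟨hQu, fun w hu huw => ?_⟩
  apply InM.mem
  rw [siegIso_val]
  have hw := hspan w huw
  -- induction on the span
  have key : ∀ w ∈ Submodule.span F {x : Fin n → F | ∃ c : Fin n → K, B₀ c c = 0 ∧ B₀ c u = 0 ∧
      x = rvec K c}, polar (⇑Q) (rvec K u) w = 0 ∧ ∀ a : F, InM M (sieg Q (rvec K u) (a • w)) := by
    intro w hw
    induction hw using Submodule.span_induction with
    | mem x hx =>
      obtain ⟨c, hcc, hcu, rfl⟩ := hx
      have h0 : polar (⇑Q) (rvec K u) (rvec K c) = 0 := by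
        rw [← hB.eq, hB.isS.symm, hcu]; rfl
      exact ⟨h0, fun a => hall c a hcc hcu⟩
    | zero =>
      refine ⟨polar_zero_right _ _, fun a => ?_⟩
      rw [smul_zero, sieg_zero]
      exact InM.one M
    | add x y _ _ hx hy =>
      refine ⟨by rw [polar_add_right, hx.1, hy.1, add_zero], fun a => ?_⟩
      rw [smul_add]
      exact InM.sieg_add hQu (by rw [polar_smul_right, hx.1, smul_zero])
        (by rw [polar_smul_right, hy.1, smul_zero]) (hx.2 a) (hy.2 a)
    | smul b x _ ih =>
      refine ⟨by rw [polar_smul_right, ih.1, smul_zero], fun a => ?_⟩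
      rw [smul_smul]
      exact ih.2 (a * b)
  have := (key w hw).2 1
  rwa [one_smul] at this

/-- double perp: if `v ⟂ y` for all `y ⟂ x` (`x ≠ 0`) then `v ∈ F x` -/
theorem eq_smul_of_perp_perp (hQ : (polarBilin Q).Nondegenerate) (x v : Fin n → F) (hx : x ≠ 0)
    (h : ∀ y, polar (⇑Q) x y = 0 → polar (⇑Q) v y = 0) : ∃ l : F, v = l • x := by
  obtain ⟨y₁, hy₁⟩ : ∃ y, polar (⇑Q) x y ≠ 0 := by
    by_contra hcon
    push Not at hcon
    exact hx (hQ.1 x (fun y => by rw [polarBilin_apply_apply]; exact hcon y))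
  set y₀ : Fin n → F := (polar (⇑Q) x y₁)⁻¹ • y₁ with hy₀
  have hxy₀ : polar (⇑Q) x y₀ = 1 := by
    rw [hy₀, polar_smul_right, smul_eq_mul, inv_mul_cancel₀ hy₁]
  refine ⟨polar (⇑Q) v y₀, ?_⟩
  have hall : ∀ y, polar (⇑Q) (v - polar (⇑Q) v y₀ • x) y = 0 := by
    intro y
    have h1 : polar (⇑Q) x (y - polar (⇑Q) x y • y₀) = 0 := by
      rw [polar_sub_right, polar_smul_right, hxy₀, smul_eq_mul, mul_one, sub_self]
    have h2 := h _ h1
    rw [polar_sub_right, polar_smul_right, smul_eq_mul, sub_eq_zero] at h2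
    rw [polar_sub_left, polar_smul_left, smul_eq_mul, h2]
    ring
  have := hQ.1 _ (fun y => by rw [polarBilin_apply_apply]; exact hall y)
  exact sub_eq_zero.mp this

theorem exists_y (hB : RatForm K Q B₀) (hQ : (polarBilin Q).Nondegenerate)
    (g : ↥(Cfsg.isometryGroup F ⇑Q)) (u₁ : Fin n → K) (hu₁ : u₁ ≠ 0)
    (hw : Impure K (gact Q g (rvec K u₁))) (c : Fin n → K) (hc0 : c ≠ 0) :
    ∃ z' : Fin n → K, B₀ u₁ z' = 0 ∧ polar (⇑Q) (rvec K c) (gact Q g (rvec K z')) ≠ 0 := by
  by_contra hcon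
  push Not at hcon
  set v : Fin n → F := gact Q g⁻¹ (rvec K c) with hv
  have hgv : gact Q g v = rvec K c := gact_gact_inv Q g _
  have h1 : ∀ z' : Fin n → K, B₀ u₁ z' = 0 → polar (⇑Q) v (rvec K z') = 0 := by
    intro z' hz'
    rw [← polar_gact Q g, hgv]
    exact hcon z' hz'
  have hru : rvec K u₁ ≠ 0 := fun h0 => hu₁ (rvec_inj K (by rw [h0, rvec_zero]))
  have key : ∀ y ∈ Submodule.span F {x : Fin n → F | ∃ c : Fin n → K, B₀ c u₁ = 0 ∧ x = rvec K c},
      polar (⇑Q) v y = 0 := by
    intro y hy'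
    induction hy' using Submodule.span_induction with
    | mem x hx =>
      obtain ⟨z', hz', rfl⟩ := hx
      exact h1 z' (by rw [hB.isS.symm, hz'])
    | zero => exact polar_zero_right _ _
    | add x y _ _ hx hy => rw [polar_add_right, hx, hy, add_zero]
    | smul a x _ hx => rw [polar_smul_right, hx, smul_zero]
  have h2 : ∀ y, polar (⇑Q) (rvec K u₁) y = 0 → polar (⇑Q) v y = 0 :=
    fun y hy => key y (span_F_perp hB u₁ hu₁ y hy)
  obtain ⟨l, hl⟩ := eq_smul_of_perp_perp hQ (rvec K u₁) v hru h2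
  have h3 : rvec K c = l • gact Q g (rvec K u₁) := by
    rw [← hgv, hl, gact_smul]
  have hl0 : l ≠ 0 := by
    rintro rfl
    rw [zero_smul] at h3
    exact hc0 (rvec_inj K (by rw [h3, rvec_zero]))
  apply hw l⁻¹ c
  rw [h3, smul_smul, inv_mul_cancel₀ hl0, one_smul]

end Cfsg.Agent.Lib.Helper1.OrthSubfRat
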