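import Mathlib
import Cfsg.Agent.Lib.Helper1.OrthSubfDefs
import Cfsg.Agent.Lib.Helper1.OrthSubfRat

/-!
# Subfield subgroups of orthogonal groups, all characteristics (for S5702)

`RatForm2 K Q Q₀`: `Q₀ : QuadraticForm K (Fin n → K)` is the restriction of `Q` to rational vectors, with nondegenerate polar
form.  "Singular" for a rational vector `u` is `Q₀ u = 0`; the bilinear form on rational vectors is `polarBilin Q₀`.
-/

set_option autoImplicit false

namespace Cfsg.Agent.Lib.Helper1.OrthSubf2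

open Matrix QuadraticMap Cfsg.Agent.Lib.Helper6 Cfsg.Agent.Lib.Helper13 Cfsg.Agent.Lib.Helper1.SubfSL
open Cfsg.Agent.Lib.Helper1.OrthSubf

universe u
variable {F : Type u} [Field F] {n : ℕ}

/-- `Q₀` is the restriction of `Q` to rational vectors, and its polar form is nondegenerate -/
structure RatForm2 (K : Subfield F) (Q : QuadraticForm F (Fin n → F))
    (Q₀ : QuadraticForm K (Fin n → K)) : Prop where
  nd : (polarBilin Q₀).Nondegenerate
  qeq : ∀ u, ((Q₀ u : K) : F) = Q (rvec K u)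

variable {Q : QuadraticForm F (Fin n → F)} {K : Subfield F} {Q₀ : QuadraticForm K (Fin n → K)}

namespace RatForm2

theorem eq (hB : RatForm2 K Q Q₀) (u v : Fin n → K) :
    ((polarBilin Q₀ u v : K) : F) = polar (⇑Q) (rvec K u) (rvec K v) := by
  rw [polarBilin_apply_apply]
  unfold polar
  rw [← rvec_add, ← hB.qeq, ← hB.qeq, ← hB.qeq]
  push_cast
  rfl

theorem sing (hB : RatForm2 K Q Q₀) (u : Fin n → K) : Q₀ u = 0 ↔ Q (rvec K u) = 0 := by
  rw [← hB.qeq]
  constructor
  · intro h; rw [h]; rfl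
  · intro h; exact Subtype.ext h

theorem symm (_hB : RatForm2 K Q Q₀) (u v : Fin n → K) :
    polarBilin Q₀ u v = polarBilin Q₀ v u := by
  rw [polarBilin_apply_apply, polarBilin_apply_apply, polar_comm]

theorem nd_left (hB : RatForm2 K Q Q₀) (v : Fin n → K) (hv : v ≠ 0) :
    ∃ x, polarBilin Q₀ x v ≠ 0 := by
  by_contra hcon
  push Not at hcon
  exact hv (hB.nd.2 v hcon)

theorem nd_right (hB : RatForm2 K Q Q₀) (v : Fin n → K) (hv : v ≠ 0) :
    ∃ x, polarBilin Q₀ v x ≠ 0 := by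
  obtain ⟨x, hx⟩ := hB.nd_left v hv
  exact ⟨x, by rw [hB.symm]; exact hx⟩

theorem pol_eq (hB : RatForm2 K Q Q₀) (u v : Fin n → K) :
    polar (⇑Q) (rvec K u) (rvec K v) = ((polarBilin Q₀ u v : K) : F) := (hB.eq u v).symm

theorem pol_zero (hB : RatForm2 K Q Q₀) {u v : Fin n → K} (h : polarBilin Q₀ u v = 0) :
    polar (⇑Q) (rvec K u) (rvec K v) = 0 := by rw [hB.pol_eq, h]; rfl

theorem pol_one (hB : RatForm2 K Q Q₀) {u v : Fin n → K} (h : polarBilin Q₀ u v = 1) :
    polar (⇑Q) (rvec K u) (rvec K v) = 1 := by rw [hB.pol_eq, h]; rfl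

theorem coe_eq_zero_of (hB : RatForm2 K Q Q₀) {u v : Fin n → K}
    (h : polar (⇑Q) (rvec K u) (rvec K v) = 0) : polarBilin Q₀ u v = 0 := by
  rw [hB.pol_eq] at h
  exact Subtype.ext h

/-- Riesz representation for `polarBilin Q₀` -/
theorem exists_riesz (hB : RatForm2 K Q Q₀) (φ : (Fin n → K) →ₗ[K] K) :
    ∃ r : Fin n → K, ∀ x, polarBilin Q₀ x r = φ x := by
  have hnd : LinearMap.BilinForm.Nondegenerate (polarBilin Q₀) := hB.nd
  obtain ⟨r, hr⟩ := (LinearMap.BilinForm.toDual (polarBilin Q₀) hnd).surjective φ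
  refine ⟨r, fun x => ?_⟩
  rw [hB.symm, ← hr, LinearMap.BilinForm.toDual_def]

end RatForm2

/-- the restriction of a rational quadratic form to rational vectors -/
noncomputable def ratQ (Q : QuadraticForm F (Fin n → F)) (K : Subfield F) (hrat : RatQ K Q) :
    QuadraticForm K (Fin n → K) where
  toFun u := ⟨Q (rvec K u), hrat u⟩
  toFun_smul a u := by
    apply Subtype.ext
    simp only [rvec_smul, QuadraticMap.map_smul, smul_eq_mul, Subfield.coe_mul]
  exists_companion' := ⟨Cfsg.Agent.Lib.Helper1.OrthSubfRat.ratB Q K hrat, fun u v => by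
    apply Subtype.ext
    have h := Cfsg.Agent.Lib.Helper1.OrthSubfRat.ratB_apply Q K hrat u v
    simp only [Subfield.coe_add]
    rw [h, rvec_add]
    unfold polar
    ring⟩

theorem ratQ_apply (Q : QuadraticForm F (Fin n → F)) (K : Subfield F) (hrat : RatQ K Q)
    (u : Fin n → K) : ((ratQ Q K hrat u : K) : F) = Q (rvec K u) := rfl

theorem exists_rat_form2 (Q : QuadraticForm F (Fin n → F)) (hQ : (polarBilin Q).Nondegenerate)
    (K : Subfield F) (hrat : RatQ K Q) :
    ∃ Q₀ : QuadraticForm K (Fin n → K), RatForm2 K Q Q₀ := by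
  refine ⟨ratQ Q K hrat, ?_, fun u => rfl⟩
  have heq : ∀ u v : Fin n → K, ((polarBilin (ratQ Q K hrat) u v : K) : F) =
      polar (⇑Q) (rvec K u) (rvec K v) := by
    intro u v
    rw [polarBilin_apply_apply]
    unfold polar
    rw [← rvec_add, ← ratQ_apply Q K hrat, ← ratQ_apply Q K hrat u, ← ratQ_apply Q K hrat v]
    push_cast
    rfl
  have key : ∀ v : Fin n → K, (∀ x, polarBilin (ratQ Q K hrat) x v = 0) → v = 0 := by
    intro v hall
    apply rvec_inj K
    rw [rvec_zero]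
    have h1 : ∀ y, polar (⇑Q) y (rvec K v) = 0 := by
      intro y
      apply Cfsg.Agent.Lib.Helper1.OrthSubfRat.polar_single_sum
      intro j
      rw [← rvec_single K j, ← heq, hall]
      rfl
    exact hQ.2 (rvec K v) (fun y => by rw [polarBilin_apply_apply]; exact h1 y)
  constructor
  · intro v hv
    apply key
    intro x
    rw [polarBilin_apply_apply, polar_comm, ← polarBilin_apply_apply]
    exact hv x
  · exact key

open Cfsg.Agent.Lib.Helper1.OrthSubfRat

/-- every `w ⟂ rvec u` (`u ≠ 0` rational) is an `F`-combination of rational vectors `⟂ u` -/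
theorem span_F_perp (hB : RatForm2 K Q Q₀) (u : Fin n → K) (hu0 : u ≠ 0) (w : Fin n → F)
    (hw : polar (⇑Q) (rvec K u) w = 0) :
    w ∈ Submodule.span F {x : Fin n → F | ∃ c : Fin n → K, polarBilin Q₀ c u = 0 ∧ x = rvec K c} := by
  obtain ⟨f₀, hf₀⟩ := hB.nd_left u hu0
  set f : Fin n → K := (polarBilin Q₀ f₀ u)⁻¹ • f₀ with hf
  have hfu : polarBilin Q₀ f u = 1 := by
    rw [hf, map_smul, LinearMap.smul_apply, smul_eq_mul, inv_mul_cancel₀ hf₀]
  set s : Fin n → Fin n → K := fun i => Pi.single i 1 - polarBilin Q₀ (Pi.single i 1) u • f with hs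
  have hsu : ∀ i, polarBilin Q₀ (s i) u = 0 := by
    intro i
    simp only [hs, map_sub, map_smul, LinearMap.sub_apply, LinearMap.smul_apply, smul_eq_mul,
      hfu, mul_one, sub_self]
  have hwsum : w = ∑ i, w i • rvec K (s i) := by
    have h1 : ∀ i, rvec K (s i) = (Pi.single i (1 : F) : Fin n → F) -
        polar (⇑Q) (Pi.single i (1 : F)) (rvec K u) • rvec K f := by
      intro i
      rw [hs]
      simp only
      rw [rvec_sub, rvec_smul, rvec_single, hB.eq, rvec_single]
    have h2 : ∑ i, w i • rvec K (s i) = (∑ i, w i • (Pi.single i (1 : F) : Fin n → F)) -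
        (∑ i, w i * polar (⇑Q) (Pi.single i (1 : F)) (rvec K u)) • rvec K f := by
      rw [Finset.sum_smul, ← Finset.sum_sub_distrib]
      apply Finset.sum_congr rfl
      intro i _
      rw [h1, smul_sub, smul_smul]
    rw [h2, ← polar_sum_single, polar_comm, hw, zero_smul, sub_zero]
    ext i
    simp [Finset.sum_apply, Pi.single_apply]
  rw [hwsum]
  apply Submodule.sum_mem
  intro i _
  apply Submodule.smul_mem
  exact Submodule.subset_span ⟨s i, hsu i, rfl⟩

/-- FO-SPF, with the `K`-geometry input (`span_singular_perp`) as a hypothesis -/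
theorem span_F_singular_perp_of (hB : RatForm2 K Q Q₀) (u : Fin n → K) (hu0 : u ≠ 0)
    (hG1 : ∀ c : Fin n → K, polarBilin Q₀ c u = 0 →
      c ∈ Submodule.span K {c : Fin n → K | Q₀ c = 0 ∧ polarBilin Q₀ c u = 0})
    (w : Fin n → F) (hw : polar (⇑Q) (rvec K u) w = 0) :
    w ∈ Submodule.span F {x : Fin n → F | ∃ c : Fin n → K, Q₀ c = 0 ∧ polarBilin Q₀ c u = 0 ∧ x = rvec K c} := by
  have h1 := span_F_perp hB u hu0 w hw
  refine (Submodule.span_le.mpr ?_) h1
  rintro x ⟨c, hcu, rfl⟩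
  have h2 := hG1 c hcu
  have h3 := rvec_mem_span (F := F) _ c h2
  refine (Submodule.span_mono ?_) h3
  rintro y ⟨c', ⟨hc'c', hc'u⟩, rfl⟩
  exact ⟨c', hc'c', hc'u, rfl⟩

/-- FO-ORX, with the span statement as a hypothesis -/
theorem orX_of_span (hB : RatForm2 K Q Q₀) (M : Subgroup (GL (Fin n) F))
    (u : Fin n → K) (huu : Q₀ u = 0)
    (hspan : ∀ w : Fin n → F, polar (⇑Q) (rvec K u) w = 0 → w ∈ Submodule.span F
      {x : Fin n → F | ∃ c : Fin n → K, Q₀ c = 0 ∧ polarBilin Q₀ c u = 0 ∧ x = rvec K c})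
    (hall : ∀ (c : Fin n → K) (a : F), Q₀ c = 0 → polarBilin Q₀ c u = 0 →
      InM M (sieg Q (rvec K u) (a • rvec K c))) : OrX Q M (rvec K u) := by
  have hQu : Q (rvec K u) = 0 := (hB.sing u).mp huu
  refine ⟨hQu, fun w hu huw => ?_⟩
  apply InM.mem
  rw [siegIso_val]
  have hw := hspan w huw
  -- induction on the span
  have key : ∀ w ∈ Submodule.span F {x : Fin n → F | ∃ c : Fin n → K, Q₀ c = 0 ∧ polarBilin Q₀ c u = 0 ∧
      x = rvec K c}, polar (⇑Q) (rvec K u) w = 0 ∧ ∀ a : F, InM M (sieg Q (rvec K u) (a • w)) := by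
    intro w hw
    induction hw using Submodule.span_induction with
    | mem x hx =>
      obtain ⟨c, hcc, hcu, rfl⟩ := hx
      have h0 : polar (⇑Q) (rvec K u) (rvec K c) = 0 := by
        rw [← hB.eq, hB.symm, hcu]; rfl
      exact ⟨h0, fun a => hall c a hcc hcu⟩
    | zero =>
      refine ⟨polar_zero_right _ _, fun a => ?_⟩
      rw [smul_zero, sieg_zero]
      exact InM.one M
    | add x y _ _ hx hy =>
      refine ⟨by rw [polar_add_right, hx.1, hy.1, add_zero], fun a => ?_⟩
      rw [smul_add]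
      exact InM.sieg_add hQu (by rw [polar_smul_right, hx.1, smul_zero])
        (by rw [polar_smul_right, hy.1, smul_zero]) (hx.2 a) (hy.2 a)
    | smul b x _ ih =>
      refine ⟨by rw [polar_smul_right, ih.1, smul_zero], fun a => ?_⟩
      rw [smul_smul]
      exact ih.2 (a * b)
  have := (key w hw).2 1
  rwa [one_smul] at this


/-- if `v ⟂ rvec z'` for all rational `z' ⟂ u` (`u ≠ 0` rational) then `v ∈ F (rvec u)` -/
theorem smul_of_perp_rat (hB : RatForm2 K Q Q₀) (hQ : (polarBilin Q).Nondegenerate)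
    (u : Fin n → K) (hu0 : u ≠ 0) (v : Fin n → F)
    (h : ∀ z' : Fin n → K, polarBilin Q₀ z' u = 0 → polar (⇑Q) v (rvec K z') = 0) :
    ∃ l : F, v = l • rvec K u := by
  have hru : rvec K u ≠ 0 := fun h0 => hu0 (rvec_inj K (by rw [h0, rvec_zero]))
  have key : ∀ y ∈ Submodule.span F {x : Fin n → F | ∃ c : Fin n → K, polarBilin Q₀ c u = 0 ∧
      x = rvec K c}, polar (⇑Q) v y = 0 := by
    intro y hy'
    induction hy' using Submodule.span_induction with
    | mem x hx =>
      obtain ⟨z', hz', rfl⟩ := hx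
      exact h z' hz'
    | zero => exact polar_zero_right _ _
    | add x y _ _ hx hy => rw [polar_add_right, hx, hy, add_zero]
    | smul a x _ hx => rw [polar_smul_right, hx, smul_zero]
  exact eq_smul_of_perp_perp hQ (rvec K u) v hru
    (fun y hy => key y (span_F_perp hB u hu0 y hy))

/-- if `v ⟂ rvec c` for all rational SINGULAR `c ⟂ u` (`u ≠ 0` rational) then `v ∈ F (rvec u)` -/
theorem smul_of_perp_rat_sing (hQ : (polarBilin Q).Nondegenerate)
    (u : Fin n → K) (hu0 : u ≠ 0)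
    (hspan : ∀ w : Fin n → F, polar (⇑Q) (rvec K u) w = 0 → w ∈ Submodule.span F
      {x : Fin n → F | ∃ c : Fin n → K, Q₀ c = 0 ∧ polarBilin Q₀ c u = 0 ∧ x = rvec K c})
    (v : Fin n → F)
    (h : ∀ c : Fin n → K, Q₀ c = 0 → polarBilin Q₀ c u = 0 → polar (⇑Q) v (rvec K c) = 0) :
    ∃ l : F, v = l • rvec K u := by
  have hru : rvec K u ≠ 0 := fun h0 => hu0 (rvec_inj K (by rw [h0, rvec_zero]))
  have key : ∀ y ∈ Submodule.span F {x : Fin n → F | ∃ c : Fin n → K, Q₀ c = 0 ∧
      polarBilin Q₀ c u = 0 ∧ x = rvec K c}, polar (⇑Q) v y = 0 := by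
    intro y hy'
    induction hy' using Submodule.span_induction with
    | mem x hx =>
      obtain ⟨c, hcc, hcu, rfl⟩ := hx
      exact h c hcc hcu
    | zero => exact polar_zero_right _ _
    | add x y _ _ hx hy => rw [polar_add_right, hx, hy, add_zero]
    | smul a x _ hx => rw [polar_smul_right, hx, smul_zero]
  exact eq_smul_of_perp_perp hQ (rvec K u) v hru (fun y hy => key y (hspan y hy))

theorem exists_y2 (hB : RatForm2 K Q Q₀) (hQ : (polarBilin Q).Nondegenerate)
    (g : ↥(Cfsg.isometryGroup F ⇑Q)) (u₁ : Fin n → K) (hu₁ : u₁ ≠ 0)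
    (hw : Impure K (gact Q g (rvec K u₁))) (c : Fin n → K) (hc0 : c ≠ 0) :
    ∃ z' : Fin n → K, polarBilin Q₀ u₁ z' = 0 ∧
      polar (⇑Q) (rvec K c) (gact Q g (rvec K z')) ≠ 0 := by
  by_contra hcon
  push Not at hcon
  set v : Fin n → F := gact Q g⁻¹ (rvec K c) with hv
  have hgv : gact Q g v = rvec K c := gact_gact_inv Q g _
  have h1 : ∀ z' : Fin n → K, polarBilin Q₀ z' u₁ = 0 → polar (⇑Q) v (rvec K z') = 0 := by
    intro z' hz'
    rw [← polar_gact Q g, hgv]
    exact hcon z' (by rw [hB.symm, hz'])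
  obtain ⟨l, hl⟩ := smul_of_perp_rat hB hQ u₁ hu₁ v h1
  have h3 : rvec K c = l • gact Q g (rvec K u₁) := by
    rw [← hgv, hl, gact_smul]
  have hl0 : l ≠ 0 := by
    rintro rfl
    rw [zero_smul] at h3
    exact hc0 (rvec_inj K (by rw [h3, rvec_zero]))
  apply hw l⁻¹ c
  rw [h3, smul_smul, inv_mul_cancel₀ hl0, one_smul]

end Cfsg.Agent.Lib.Helper1.OrthSubf2
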