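import Mathlib
import Cfsg.Agent.Lib.Helper10.HypFam
import Cfsg.Agent.Lib.Helper10.QGeo

set_option autoImplicit false

namespace Cfsg.Agent.Lib.Helper1.OrthSubf2G

open Matrix QuadraticMap

variable {k : Type*} [Field k] [Finite k] {n : ℕ} {q₀ : QuadraticForm k (Fin n → k)}

omit [Finite k] in
theorem hnd_of (h : (polarBilin q₀).Nondegenerate) :
    ∀ v : Fin n → k, v ≠ 0 → ∃ x, polar q₀ v x ≠ 0 := by
  intro v hv
  by_contra hcon
  push Not at hcon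
  exact hv (h.1 v (fun y => by rw [polarBilin_apply_apply]; exact hcon y))

theorem exists_hyp_pair (h : (polarBilin q₀).Nondegenerate) (hn : 3 ≤ n) :
    ∃ u v : Fin n → k, q₀ u = 0 ∧ q₀ v = 0 ∧ polarBilin q₀ u v = 1 := by
  obtain ⟨x, e, -, hQ, hg⟩ := Cfsg.Agent.Lib.Helper10.HypFam.exists_hyp_family q₀ (hnd_of h)
    (c := 0) (fun i => i.elim0) 1 (by omega)
  refine ⟨x 0, e 0, (hQ 0).1, (hQ 0).2, ?_⟩
  have := (hg 0 0).2.2
  simpa using this

theorem exists_ts_partner (h : (polarBilin q₀).Nondegenerate) (hn : 5 ≤ n) (u : Fin n → k)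
    (_hu0 : u ≠ 0) (_huu : q₀ u = 0) :
    ∃ c e : Fin n → k, q₀ c = 0 ∧ polarBilin q₀ u c = 0 ∧ polarBilin q₀ c e = 1 ∧
      polarBilin q₀ u e = 0 := by
  obtain ⟨x, e, hr, hQ, hg⟩ := Cfsg.Agent.Lib.Helper10.HypFam.exists_hyp_family q₀ (hnd_of h)
    (c := 1) (fun _ => u) 1 (by omega)
  refine ⟨x 0, e 0, (hQ 0).1, ?_, ?_, ?_⟩
  · rw [polarBilin_apply_apply, polar_comm]; exact (hr 0 0).1
  · have := (hg 0 0).2.2
    simpa using this
  · rw [polarBilin_apply_apply, polar_comm]; exact (hr 0 0).2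

theorem exists_dd (h : (polarBilin q₀).Nondegenerate) (hn : 7 ≤ n) (z c : Fin n → k) :
    ∃ d d' : Fin n → k, polarBilin q₀ d z = 0 ∧ polarBilin q₀ d c = 0 ∧ polarBilin q₀ d' z = 0 ∧
      polarBilin q₀ d' c = 0 ∧ polarBilin q₀ d d' = 1 := by
  obtain ⟨x, e, hr, hQ, hg⟩ := Cfsg.Agent.Lib.Helper10.HypFam.exists_hyp_family q₀ (hnd_of h)
    (c := 2) ![z, c] 1 (by omega)
  refine ⟨x 0, e 0, (hr 0 0).1, (hr 0 1).1, (hr 0 0).2, (hr 0 1).2, ?_⟩
  have := (hg 0 0).2.2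
  simpa using this

theorem exists_two_hyp (h : (polarBilin q₀).Nondegenerate) (hn : 13 ≤ n) (v : Fin 4 → Fin n → k) :
    ∃ x x' e e' : Fin n → k, (∀ i, polarBilin q₀ x (v i) = 0 ∧ polarBilin q₀ x' (v i) = 0 ∧
      polarBilin q₀ e (v i) = 0 ∧ polarBilin q₀ e' (v i) = 0) ∧
      q₀ x = 0 ∧ q₀ x' = 0 ∧ polarBilin q₀ x x' = 0 ∧ polarBilin q₀ x e = 1 ∧
      polarBilin q₀ x' e = 0 ∧ polarBilin q₀ x e' = 0 ∧ polarBilin q₀ x' e' = 1 := by
  obtain ⟨x, e, hr, hQ, hg⟩ := Cfsg.Agent.Lib.Helper10.HypFam.exists_hyp_family q₀ (hnd_of h)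
    (c := 4) v 2 (by omega)
  refine ⟨x 0, x 1, e 0, e 1, fun i => ⟨(hr 0 i).1, (hr 1 i).1, (hr 0 i).2, (hr 1 i).2⟩,
    (hQ 0).1, (hQ 1).1, (hg 0 1).1, ?_, ?_, ?_, ?_⟩
  · have := (hg 0 0).2.2
    simpa using this
  · have := (hg 1 0).2.2
    simpa using this
  · have := (hg 0 1).2.2
    simpa using this
  · have := (hg 1 1).2.2
    simpa using this

theorem exists_cedd (h : (polarBilin q₀).Nondegenerate) (hn : 13 ≤ n) (r : Fin 4 → Fin n → k) :
    ∃ c e d d' : Fin n → k, (∀ i, polarBilin q₀ c (r i) = 0 ∧ polarBilin q₀ e (r i) = 0 ∧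
      polarBilin q₀ d (r i) = 0 ∧ polarBilin q₀ d' (r i) = 0) ∧
      q₀ c = 0 ∧ polarBilin q₀ c e = 1 ∧ polarBilin q₀ d c = 0 ∧ polarBilin q₀ d' c = 0 ∧
      polarBilin q₀ d d' = 1 := by
  obtain ⟨x, e, hr, hQ, hg⟩ := Cfsg.Agent.Lib.Helper10.HypFam.exists_hyp_family q₀ (hnd_of h)
    (c := 4) r 2 (by omega)
  refine ⟨x 0, e 0, x 1, e 1, fun i => ⟨(hr 0 i).1, (hr 0 i).2, (hr 1 i).1, (hr 1 i).2⟩,
    (hQ 0).1, ?_, (hg 1 0).1, ?_, ?_⟩
  · have := (hg 0 0).2.2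
    simpa using this
  · rw [polarBilin_apply_apply, polar_comm]
    have := (hg 0 1).2.2
    simpa using this
  · have := (hg 1 1).2.2
    simpa using this

omit [Finite k] in
theorem exists_partner (h : (polarBilin q₀).Nondegenerate) (u c c' : Fin n → k) (hcc : q₀ c = 0)
    (huc : polarBilin q₀ u c = 0) (hc'c : polarBilin q₀ c' c = 0)
    (hind : ∀ k₁ k₂ : k, c ≠ k₁ • u + k₂ • c') :
    ∃ f : Fin n → k, q₀ f = 0 ∧ polarBilin q₀ c f = 1 ∧ polarBilin q₀ u f = 0 ∧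
      polarBilin q₀ c' f = 0 :=
  Cfsg.Agent.Lib.Helper10.QGeo.exists_partner q₀ (hnd_of h) u c c' hcc huc hc'c hind

omit [Finite k] in
theorem exists_dual (h : (polarBilin q₀).Nondegenerate) (u c : Fin n → k)
    (hind : ∀ k₁ : k, c ≠ k₁ • u) :
    ∃ e : Fin n → k, polarBilin q₀ c e = 1 ∧ polarBilin q₀ u e = 0 := by
  have hc : c ∉ Submodule.span k ({u} : Set (Fin n → k)) := by
    intro hmem
    rw [Submodule.mem_span_singleton] at hmem
    obtain ⟨t, ht⟩ := hmem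
    exact hind t ht.symm
  obtain ⟨f, hfc, hf⟩ := Submodule.exists_dual_map_eq_bot_of_notMem hc inferInstance
  have hnd : LinearMap.BilinForm.Nondegenerate (polarBilin q₀) := h
  obtain ⟨e₀, he₀⟩ := (LinearMap.BilinForm.toDual (polarBilin q₀) hnd).surjective f
  have hr : ∀ x, polarBilin q₀ x e₀ = f x := by
    intro x
    rw [polarBilin_apply_apply, polar_comm, ← polarBilin_apply_apply, ← he₀,
      LinearMap.BilinForm.toDual_def]
  have hfu : f u = 0 := by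
    have : f u ∈ Submodule.map f (Submodule.span k ({u} : Set (Fin n → k))) :=
      Submodule.mem_map_of_mem (Submodule.subset_span (by simp))
    rw [hf] at this
    exact (Submodule.mem_bot k).mp this
  refine ⟨(f c)⁻¹ • e₀, ?_, ?_⟩
  · rw [map_smul, smul_eq_mul, hr, inv_mul_cancel₀ hfc]
  · rw [map_smul, smul_eq_mul, hr, hfu, mul_zero]

theorem span_singular (h : (polarBilin q₀).Nondegenerate) (hn : 5 ≤ n) (x : Fin n → k) :
    x ∈ Submodule.span k {c : Fin n → k | q₀ c = 0} := by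
  have h1 := Cfsg.Agent.Lib.Helper10.QGeo.span_singular_perp q₀ (hnd_of h) hn 0 x
    (polar_zero_right _ _)
  refine (Submodule.span_mono ?_) h1
  rintro c ⟨hc, -⟩
  exact hc

end Cfsg.Agent.Lib.Helper1.OrthSubf2G
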