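import Mathlib
import Cfsg.Agent.Lib.Helper1.OrthSubf2Defs
import Cfsg.Agent.Lib.Helper2.S5683FOC1

set_option autoImplicit false

namespace Cfsg.Agent.Lib.Helper1.OrthSubf2Imp

open Matrix QuadraticMap Cfsg.Agent.Lib.Helper6 Cfsg.Agent.Lib.Helper13 Cfsg.Agent.Lib.Helper1.SubfSL
open Cfsg.Agent.Lib.Helper1.OrthSubf Cfsg.Agent.Lib.Helper1.OrthSubf2

universe u
variable {F : Type u} [Field F] {n : ℕ}
variable {Q : QuadraticForm F (Fin n → F)} {K : Subfield F} {Q₀ : QuadraticForm K (Fin n → K)}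

/-- a vector all of whose products with rational vectors are rational is rational -/
theorem exists_rat_of_forall_mem (hB : RatForm2 K Q Q₀) (hQ : (polarBilin Q).Nondegenerate)
    (p : Fin n → F) (hK : ∀ x : Fin n → K, polar (⇑Q) (rvec K x) p ∈ K) :
    ∃ v : Fin n → K, p = rvec K v := by
  let φ : (Fin n → K) →ₗ[K] K :=
    { toFun := fun x => ⟨polar (⇑Q) (rvec K x) p, hK x⟩
      map_add' := fun x y => by
        apply Subtype.ext
        simp only [rvec_add, polar_add_left, Subfield.coe_add]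
      map_smul' := fun k x => by
        apply Subtype.ext
        simp only [rvec_smul, polar_smul_left, RingHom.id_apply, smul_eq_mul, Subfield.coe_mul] }
  obtain ⟨v, hv⟩ := hB.exists_riesz φ
  refine ⟨v, ?_⟩
  rw [← sub_eq_zero]
  apply Cfsg.Agent.Lib.Helper2.S5683C.eq_zero_of_rat_perp (K := K) hQ
  intro x
  rw [polar_sub_right, ← hB.eq x v, hv x, sub_eq_zero]
  rfl

theorem exists_indep_of_impure (hB : RatForm2 K Q Q₀) (hQ : (polarBilin Q).Nondegenerate)
    (w : Fin n → F) (hw : Impure K w) :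
    ∃ x₁ x₂ : Fin n → K, ∀ k₁ k₂ : K, (k₁ : F) * polar (⇑Q) (rvec K x₁) w +
      (k₂ : F) * polar (⇑Q) (rvec K x₂) w = 0 → k₁ = 0 ∧ k₂ = 0 := by
  by_contra hcon
  push Not at hcon
  have hw0 : w ≠ 0 := by
    intro h0
    apply hw 0 0
    rw [h0, zero_smul]
  obtain ⟨x₀, hx₀⟩ : ∃ x₀ : Fin n → K, polar (⇑Q) (rvec K x₀) w ≠ 0 := by
    by_contra hne
    push Not at hne
    exact hw0 (Cfsg.Agent.Lib.Helper2.S5683C.eq_zero_of_rat_perp hQ w hne)
  obtain ⟨a, ha⟩ : ∃ a, a = polar (⇑Q) (rvec K x₀) w := ⟨_, rfl⟩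
  rw [← ha] at hx₀
  have hK : ∀ x : Fin n → K, polar (⇑Q) (rvec K x) (a⁻¹ • w) ∈ K := by
    intro x
    obtain ⟨k₁, k₂, hrel, hne⟩ := hcon x₀ x
    rw [← ha] at hrel
    have hk₂ : k₂ ≠ 0 := by
      intro h0
      rw [h0] at hrel
      simp only [ZeroMemClass.coe_zero, zero_mul, add_zero] at hrel
      have hk₁ : (k₁ : F) = 0 := (mul_eq_zero.mp hrel).resolve_right hx₀
      exact hne (by exact_mod_cast hk₁) h0
    have hk₂' : (k₂ : F) ≠ 0 := by
      intro h0
      apply hk₂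
      exact_mod_cast h0
    have e : polar (⇑Q) (rvec K x) (a⁻¹ • w) = ((-(k₁ / k₂) : K) : F) := by
      rw [polar_smul_right, smul_eq_mul]
      push_cast
      field_simp
      linear_combination hrel
    rw [e]
    exact Subtype.property _
  obtain ⟨v, hv⟩ := exists_rat_of_forall_mem hB hQ _ hK
  apply hw a v
  rw [← hv, smul_smul, mul_inv_cancel₀ hx₀, one_smul]

end Cfsg.Agent.Lib.Helper1.OrthSubf2Imp
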