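import Mathlib
import Cfsg.Agent.Lib.Helper1.SubfSLDefs
import Cfsg.Agent.Lib.Helper1.SubfSLEmb
import Cfsg.Agent.Lib.Helper15.Dk21
import Cfsg.Agent.Lib.Helper22.S5639FOB1c
import Cfsg.Agent.Lib.Helper23.S5639FOD1
import Cfsg.Agent.Lib.Helper23.S5639FOG3b
import Cfsg.Agent.Lib.Helper24.S5639FOI2
import Cfsg.Agent.Lib.Helper24.S5639FOI3
import Cfsg.Agent.Lib.Helper24.S5639FOP
import Cfsg.Agent.Lib.Helper25.S5639B1a
import Cfsg.Agent.Lib.Helper25.S5639B1b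
import Cfsg.Agent.Lib.Helper28.S5639FOALG
import Cfsg.Agent.Lib.Helper28.S5639FOI1
import Cfsg.Agent.Lib.Helper6.S5639FOD2
import Cfsg.Agent.Lib.Helper6.S5639FOD3
import Cfsg.Agent.Lib.Helper6.S5639FOS
import Cfsg.Agent.Lib.Helper7.S5639FOG
import Cfsg.Agent.Lib.Helper7.S5639FOLA

/-!
# S5639: the subfield group `GL_n(F₀)·F^× ∩ SL_n(F)` is maximal in `SL_n(F)` (`|F| = |F₀|^r`, `r` prime, `n ≥ 13`)

Assembly of the farm-out pieces (see `notes/S5639Skel_helper1.lean.txt` for the paper proof).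
-/

set_option autoImplicit false

namespace Cfsg.Agent.Lib.Helper1.SubfSLMain

open Matrix Cfsg.Agent.Lib.Helper13 Cfsg.Agent.Lib.Helper1.SubfSL
open Cfsg.Agent.Lib.Helper15.Dk Cfsg.Agent.Lib.Helper14 Cfsg.Agent.Lib.Helper15

variable {F : Type*} [Field F] {n : ℕ}

/-! ### field theory -/

/-- FO-ALG (Mathlib only, ~60 l): an element of F killed by a nonzero polynomial over K of degree < r = [F:K] (r prime)
lies in K.  (finrank K F = r from the cardinalities; finrank K K⟮x⟯ = natDegree (minpoly) divides r and is < r.) -/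
theorem mem_of_root [Finite F] (K : Subfield F) (r : ℕ) (hr : r.Prime)
    (hcard : Nat.card F = Nat.card K ^ r) (x : F) (f : Polynomial K) (hf : f ≠ 0)
    (hdeg : f.natDegree < r) (hroot : Polynomial.aeval x f = 0) : x ∈ K := Cfsg.Agent.Lib.Helper28.S5639.mem_of_root K r hr hcard x f hf hdeg hroot

/-- FO-ADJ (Mathlib only, ~80 l): a subset of F containing K, closed under + and *, and containing some a ∉ K is all of F
(r prime: K[a] = F; e.g. IntermediateField.isSimpleOrder_of_finrank_prime + adjoin_simple_toSubalgebra_of_integral, or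
every y is a K-polynomial in a). -/
theorem forall_mem_of_subring [Finite F] (K : Subfield F) (r : ℕ) (hr : r.Prime)
    (hcard : Nat.card F = Nat.card K ^ r) (A : Set F) (hK : ∀ k : K, (k : F) ∈ A)
    (hadd : ∀ a b, a ∈ A → b ∈ A → a + b ∈ A) (hmul : ∀ a b, a ∈ A → b ∈ A → a * b ∈ A)
    (a : F) (ha : a ∈ A) (haK : a ∉ K) : ∀ y : F, y ∈ A := Cfsg.Agent.Lib.Helper28.S5639.forall_mem_of_subring K r hr hcard A hK hadd hmul a ha haK

/-- FO-RK (Mathlib + SubfField, ~50 l): if no nonzero rational functional kills w then n ≤ r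
(lam ↦ rvec K lam ⬝ᵥ w is an injective K-linear map K^n → F, and dim_K F = r). -/
theorem le_of_fullrank [Finite F] (K : Subfield F) (r : ℕ)
    (hcard : Nat.card F = Nat.card K ^ r) (w : Fin n → F)
    (hfull : ∀ lam : Fin n → K, lam ≠ 0 → rvec K lam ⬝ᵥ w ≠ 0) : n ≤ r := Cfsg.Agent.Lib.Helper7.S5639.le_of_fullrank K r hcard w hfull

/-! ### linear algebra over K: existence of rational vectors -/

/-- FO-LA1 (~40 l): two linear conditions in dimension ≥ 3 have a nonzero rational solution. -/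
theorem exists_perp2 (hn : 3 ≤ n) (K : Subfield F) (a b : Fin n → K) :
    ∃ v : Fin n → K, v ≠ 0 ∧ a ⬝ᵥ v = 0 ∧ b ⬝ᵥ v = 0 := Cfsg.Agent.Lib.Helper7.S5639.exists_perp2 hn K a b

/-- FO-LA2 (~50 l): two K-independent rational functionals killing u. -/
theorem exists_indep_perp (hn : 3 ≤ n) (K : Subfield F) (u : Fin n → K) :
    ∃ φ₁ φ₂ : Fin n → K, φ₁ ⬝ᵥ u = 0 ∧ φ₂ ⬝ᵥ u = 0 ∧
      ∀ a b : K, a • φ₁ + b • φ₂ = 0 → a = 0 ∧ b = 0 := Cfsg.Agent.Lib.Helper7.S5639.exists_indep_perp hn K u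

/-! ### the parameter set (FO-B1a, B1b, B1c) -/

/-- the set of a ∈ F such that ALL transvections 1 + a·uφ with u, φ rational, φ(u) = 0, lie in M -/
def ParamSet (K : Subfield F) (M : Subgroup (GL (Fin n) F)) : Set F :=
  {a | ∀ u φ : Fin n → K, φ ⬝ᵥ u = 0 → InM M (tv (rvec K u) (a • rvec K φ))}

/-- FO-B1a (~200 l): one rational incident pair with parameter a suffices.
Step 1 (all axes at u₀): for rational φ ⟂ u₀ not in Kφ₀ pick rational v with φ₀(v) = 1, φ(v) = 0; `tv_comm` with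
w = u₀, ψ = aφ₀ and the rational transvection 1 + vφ gives 1 + a u₀φ ∈ M; multiples of φ₀ are sums of two such
(`tv_mul_tv`).  Step 2 (move the centre): for rational u' ∉ Ku₀ conjugate by the rational transvection
1 + (u'-u₀)χ with χ(u₀) = χ(u') = 1 (`InM.conj_tv`); for u' = c u₀ rescale; u' = 0 trivial (tv 0 _ = 1). -/
theorem param_of_one (hn : 3 ≤ n) (K : Subfield F) (M : Subgroup (GL (Fin n) F)) (hH : H1 K n ≤ M)
    (u₀ φ₀ : Fin n → K) (hu₀ : u₀ ≠ 0) (hφ₀ : φ₀ ≠ 0) (h0 : φ₀ ⬝ᵥ u₀ = 0) (a : F)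
    (h : InM M (tv (rvec K u₀) (a • rvec K φ₀))) : a ∈ ParamSet K M := Cfsg.Agent.Lib.Helper25.S5639.param_of_one hn K M hH u₀ φ₀ hu₀ hφ₀ h0 a h

/-- FO-B1b (~80 l, uses B1a as a hypothesis-free lemma above): ParamSet is closed under multiplication
([1 + a e₀e₁ᵀ, 1 + b e₁e₂ᵀ] = 1 + ab e₀e₂ᵀ by `tv_comm`, then `param_of_one`), under addition (`tv_mul_tv`) and
contains K (`rat_tv_mem`). -/
theorem paramSet_mul (hn : 3 ≤ n) (K : Subfield F) (M : Subgroup (GL (Fin n) F)) (hH : H1 K n ≤ M)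
    (a b : F) (ha : a ∈ ParamSet K M) (hb : b ∈ ParamSet K M) : a * b ∈ ParamSet K M := Cfsg.Agent.Lib.Helper25.S5639.paramSet_mul hn K M hH a b ha hb

theorem paramSet_add (K : Subfield F) (M : Subgroup (GL (Fin n) F))
    (a b : F) (ha : a ∈ ParamSet K M) (hb : b ∈ ParamSet K M) : a + b ∈ ParamSet K M := Cfsg.Agent.Lib.Helper25.S5639.paramSet_add K M a b ha hb

theorem paramSet_rat (K : Subfield F) (M : Subgroup (GL (Fin n) F)) (hH : H1 K n ≤ M) (k : K) :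
    (k : F) ∈ ParamSet K M := Cfsg.Agent.Lib.Helper25.S5639.paramSet_rat K M hH k

/-- FO-B1c (~120 l): if every a ∈ F is a parameter then M ⊇ SL_n(F).  (For rational u ≠ 0 with u_i ≠ 0 every ψ ⟂ u is
Σ_j ψ_j (e_j* - (u_j/u_i) e_i*), so 1 + uψ is a product of 1 + ψ_j·u φ_j, φ_j rational ⟂ u: `TvIn M (rvec K u)`; then
`TvIn.smul`, `TvIn.add` over x = Σ x_i e_i and helper13 `SL_le_of_forall_TvIn`.) -/
theorem SL_le_of_paramSet_univ (hn : 2 ≤ n) (K : Subfield F) (M : Subgroup (GL (Fin n) F))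
    (hall : ∀ a : F, a ∈ ParamSet K M) : Cfsg.Geo.specialLinear (Fin n) F ≤ M := Cfsg.Agent.Lib.Helper22.S5639.SL_le_of_paramSet_univ hn K M hall

/-! ### one-commutator extractions (FO-G1, FO-G2) -/

/-- FO-G1 (~80 l): rational axis, non-rational centre.  Some w_i ∉ K; rational v ≠ 0 with lam(v) = 0 = v_i
(`exists_perp2`); `tv_comm` for [1 + v e_i*, 1 + w lam] = 1 + w_i · v lam. -/
theorem good_of_rat_axis (hn : 3 ≤ n) (K : Subfield F) (M : Subgroup (GL (Fin n) F))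
    (hH : H1 K n ≤ M) (w : Fin n → F) (lam : Fin n → K) (hlam : lam ≠ 0)
    (hw : rvec K lam ⬝ᵥ w = 0) (hwr : ¬ IsRat K w) (h : InM M (tv w (rvec K lam))) : Good K M := Cfsg.Agent.Lib.Helper7.S5639.good_of_rat_axis hn K M hH w lam hlam hw hwr h

/-- FO-G1' (~80 l): rational centre, non-rational axis.  Some ψ_i ∉ K; rational φ ≠ 0 with φ(u) = 0 = φ_i;
[1 + uψ, 1 + e_i φ] = 1 + ψ_i · uφ. -/
theorem good_of_rat_center (hn : 3 ≤ n) (K : Subfield F) (M : Subgroup (GL (Fin n) F))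
    (hH : H1 K n ≤ M) (u : Fin n → K) (hu : u ≠ 0) (ψ : Fin n → F)
    (hψ : ψ ⬝ᵥ rvec K u = 0) (hψr : ¬ IsRat K ψ) (h : InM M (tv (rvec K u) ψ)) : Good K M := Cfsg.Agent.Lib.Helper7.S5639.good_of_rat_center hn K M hH u hu ψ hψ hψr h

/-- FO-G2 (~100 l, uses G1): a rational functional kills the non-rational centre w.  If some rational v ⟂ lam has
ψ(v) ≠ 0 then [1 + wψ, 1 + v lam] = 1 + (ψ(v) w) lam has rational axis and non-rational centre; otherwise ψ = c·lam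
(take v = lam_j e_i - lam_i e_j) and 1 + wψ = 1 + (c w) lam. -/
theorem good_of_kill (hn : 3 ≤ n) (K : Subfield F) (M : Subgroup (GL (Fin n) F))
    (hH : H1 K n ≤ M) (w ψ : Fin n → F) (hψw : ψ ⬝ᵥ w = 0) (hψ : ψ ≠ 0)
    (hw : ∀ (l : F) (r : Fin n → K), w ≠ l • rvec K r) (lam : Fin n → K) (hlam : lam ≠ 0)
    (hk : rvec K lam ⬝ᵥ w = 0) (h : InM M (tv w ψ)) : Good K M := Cfsg.Agent.Lib.Helper7.S5639.good_of_kill hn K M hH w ψ hψw hψ hw lam hlam hk h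

/-! ### FO-G3: an element of M \ H mapping a rational point to a rational point -/

/-- FO-G3 (~200 l, uses G1').  ε u = θ u'.  For rational φ₁ ⟂ u: ε (1 + uφ₁) ε⁻¹ = 1 + u' (θ φ₁ε⁻¹) ∈ M has rational
centre; if some θ φ₁ε⁻¹ is not rational, G1' applies.  Otherwise E := θ ε⁻¹ maps rational functionals ⟂ u to rational
functionals; pick rational φ* with φ*(u) = 1 and a rational row ρ* with ρ*(u') = 1, b := φ*E - ρ*, R := E - u bᵀ: R is
rational, R u' = u, b(u') = 0, E = R (1 + u' bᵀ), det R = θ^n ≠ 0; θ⁻¹R ∈ H1 ≤ M so 1 + u'bᵀ ∈ M; b rational would give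
ε ∈ subfieldSubgroup; so b is not rational and G1' applies. -/
theorem good_of_fix_rat_point (hn : 3 ≤ n) (K : Subfield F) (M : Subgroup (GL (Fin n) F))
    (hH : H1 K n ≤ M) (ε : GL (Fin n) F) (hεM : ε ∈ M)
    (hεS : ε ∈ Cfsg.Geo.specialLinear (Fin n) F)
    (hεH : ε ∉ Cfsg.Geo.subfieldSubgroup K (1 : GL (Fin n) F))
    (u u' : Fin n → K) (hu : u ≠ 0) (θ : F)
    (h : (ε : Matrix (Fin n) (Fin n) F) *ᵥ rvec K u = θ • rvec K u') : Good K M := Cfsg.Agent.Lib.Helper23.S5639FOG3.good_of_fix_rat_point hn K M hH ε hεM hεS hεH u u' hu θ h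

/-! ### Dickson application, odd characteristic (FO-D1, D2, D3) -/

/-- FO-D1 (~100 l): the `Cfg` case.  Let K₀ = multField of Ht = (D.map toPSL2).comap toPSL2.  `Cfg.core` for Wm gives
0 = λc₀₀, -1 = λc₀₁κ, κ = λc₁₀, 2 = λc₁₁ with c's in K₀, so κ = -c₁₁/(2c₀₁) ∈ K₀; as κ ∉ K there is k ∈ K₀ \ K (k = κ).
Then uu(kκ) ∈ Ht (mem_multField + c.hu), i.e. ±uu(kκ) ∈ D (toPSL2_eq_iff); if -uu(kκ) ∈ D square it: uu(2kκ) ∈ D, 2k ∉ K. -/
theorem app_cfg (h2 : (2 : F) ≠ 0) [Finite F] (K : Subfield F) (κ : F) (hκ : κ ∉ K)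
    (D : Subgroup (SpecialLinearGroup (Fin 2) F)) (hW : (Wm : SpecialLinearGroup (Fin 2) F) ∈ D)
    (c : Cfg ((D.map (toPSL2 F)).comap (toPSL2 F)) κ Wm) :
    ∃ k : F, k ∉ K ∧ uu (k * κ) ∈ D := Cfsg.Agent.Lib.Helper23.S5639FOD1.app_cfg h2 K κ hκ D hW c

/-- FO-D2 (~150 l): no normal torus.  Suppose g non-scalar, tr(g)² ≠ 4, and both uu κ and Wm conjugate g into
±⟨g⟩ (toPSL2_eq_iff).  Every power g^k is s·1 + s'·g (Cayley–Hamilton, zpow induction with g⁻¹ = tr(g) - g).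
From uu(κ) g uu(-κ) = ±(s + s'g): comparing the (1,0) entries and the diagonal gives g₁₀ = 0 (uses 2 ≠ 0, κ ≠ 0).
Then g is upper triangular with g₀₀ ≠ g₁₁; Wm g Wm⁻¹ = ±(s + s'g) upper triangular forces g₀₁ = 2(g₀₀ - g₁₁) and then
s'g₀₁ = 0, so g₀₁ = 0 and g₀₀ = g₁₁: contradiction. -/
theorem app_torus (h2 : (2 : F) ≠ 0) (κ : F) (hκ : κ ≠ 0)
    (H : Subgroup (ProjectiveSpecialLinearGroup (Fin 2) F))
    (hu : toPSL2 F (uu κ) ∈ H) (hW : toPSL2 F Wm ∈ H) : ¬ HasNormalTorus H := Cfsg.Agent.Lib.Helper6.S5639FOD2.app_torus h2 κ hκ H hu hW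

/-- FO-D3 (~200 l, uses FO-ALG): no A₅.  Every element of A₅ has x² = 1 ∨ x³ = 1 ∨ x⁵ = 1 (decide on
alternatingGroup (Fin 5), or orderOf ∣ 60 + cases).  d = uu(κ)·Wm = [[κ, -1+2κ],[1,2]] is non-scalar with trace
τ = 2 + κ; d² = τd - 1, d³ = (τ²-1)d - τ, d⁵ = (τ⁴-3τ²+1)d - (τ³-2τ); d^m = ±1 and the (1,0) entry give
τ = 0 ∨ τ² = 1 ∨ τ⁴ - 3τ² + 1 = 0, so κ is a root of Q(X+2), Q = X(X²-1)(X⁴-3X²+1) of degree 7 < r: κ ∈ K by FO-ALG. -/
theorem app_A5 [Finite F] (h2 : (2 : F) ≠ 0) (K : Subfield F) (r : ℕ) (hr : r.Prime) (hr11 : 11 ≤ r)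
    (hcard : Nat.card F = Nat.card K ^ r) (κ : F) (hκ : κ ∉ K)
    (H : Subgroup (ProjectiveSpecialLinearGroup (Fin 2) F))
    (hu : toPSL2 F (uu κ) ∈ H) (hW : toPSL2 F Wm ∈ H) :
    ¬ Nonempty (H ≃* alternatingGroup (Fin 5)) := Cfsg.Agent.Lib.Helper6.S5639FOD3.app_A5 h2 K r hr hr11 hcard κ hκ H hu hW

/-! ### characteristic 2 (FO-I1, I2, I3) -/

/-- FO-I1 (Mathlib only, ~70 l): two involutions in a finite group are conjugate inside the subgroup they generate,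
or some nontrivial involution of that subgroup commutes with both.  (γ = x t, m = orderOf γ; x and t invert γ;
m odd: d = γ^((m-1)/2) has d x d⁻¹ = γ^(m-1) x = γ⁻¹ x = t; m = 2k: z = γ^k.) -/
theorem exists_conj_or_central {G : Type*} [Group G] [Finite G] (x t : G) (hx : x * x = 1)
    (ht : t * t = 1) :
    (∃ d ∈ Subgroup.closure ({x, t} : Set G), d * x * d⁻¹ = t) ∨
    (∃ z ∈ Subgroup.closure ({x, t} : Set G), z ≠ 1 ∧ z * z = 1 ∧ z * x = x * z ∧ z * t = t * z) := Cfsg.Agent.Lib.Helper28.S5639.exists_conj_or_central x t hx ht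

/-- FO-I2 (~80 l, uses I1): in SL₂(F), char 2, uu κ (κ ≠ 0) and Wm (= the swap matrix) are involutions, and an element
commuting with both is 1 (it is [[a,b],[0,a]] with a² = 1, so a = 1, and then b = 0). -/
theorem sl2_char_two_conj [Finite F] (h2 : (2 : F) = 0) (κ : F) (hκ : κ ≠ 0) :
    ∃ d ∈ Subgroup.closure ({uu κ, Wm} : Set (SpecialLinearGroup (Fin 2) F)),
      d * uu κ * d⁻¹ = Wm := Cfsg.Agent.Lib.Helper24.S5639FOI2.sl2_char_two_conj h2 κ hκ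

/-- FO-I3 (~200 l, uses FO-ALG): the element ε is not in the subfield group.  Write ρ = φ₂(w)/φ₁(w) (∉ K by hfull and
hindep), χ₀ = φ₂(w) φ₁ - φ₁(w) φ₂ (kills u and w, so χ₀ ε = χ₀).  With hε1 this gives
φ₁ ε = (1 + θ/ρ) φ₁ - (1/ρ) φ₂.  If ε = l • rmat K B: φ₂B = (θ/l) φ₁ and φ₁B = ((1+θ/ρ)/l) φ₁ - (1/(ρ l)) φ₂ are rational,
so k = θ/l, k₂ = (1+θ/ρ)/l, k₁ = 1/(ρl) lie in K (Cramer on a nonzero 2×2 minor of (φ₁, φ₂)), and
k₁ρ² - k₂ρ + k = 0 with k₁ ≠ 0: ρ ∈ K by FO-ALG (2 < r), contradiction. -/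
theorem not_mem_subfield_of_conj [Finite F] (K : Subfield F) (r : ℕ) (hr : r.Prime) (hr3 : 3 ≤ r)
    (hcard : Nat.card F = Nat.card K ^ r) (w : Fin n → F)
    (hfull : ∀ lam : Fin n → K, lam ≠ 0 → rvec K lam ⬝ᵥ w ≠ 0)
    (u φ₁ φ₂ : Fin n → K) (hindep : ∀ a b : K, a • φ₁ + b • φ₂ = 0 → a = 0 ∧ b = 0)
    (h1 : φ₁ ⬝ᵥ u = 0) (h2 : φ₂ ⬝ᵥ u = 0) (ε : GL (Fin n) F) (θ : F) (hθ : θ ≠ 0)
    (hε1 : rvec K φ₂ ᵥ* (ε : Matrix (Fin n) (Fin n) F) = θ • rvec K φ₁)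
    (hεχ : ∀ χ : Fin n → F, χ ⬝ᵥ rvec K u = 0 → χ ⬝ᵥ w = 0 →
      χ ᵥ* (ε : Matrix (Fin n) (Fin n) F) = χ) :
    ε ∉ Cfsg.Geo.subfieldSubgroup K (1 : GL (Fin n) F) := Cfsg.Agent.Lib.Helper24.S5639FOI3.not_mem_subfield_of_conj K r hr hr3 hcard w hfull u φ₁ φ₂ hindep h1 h2 ε θ hθ hε1 hεχ

/-! ### strictness and the reduction to P = 1 (FO-S, FO-P) -/

/-- FO-S (~60 l): H1 ≠ SL: the transvection 1 + a e₀e₁ᵀ with a ∉ K is not l • rmat K B (entries (0,0), (0,1)). -/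
theorem H1_lt (hn : 2 ≤ n) (K : Subfield F) (a : F) (ha : a ∉ K) :
    H1 K n < Cfsg.Geo.specialLinear (Fin n) F := Cfsg.Agent.Lib.Helper6.S5639FOS.H1_lt hn K a ha

/-- FO-P (~80 l): reduction to P = 1: subfieldSubgroup K P = (subfieldSubgroup K 1).map (MulAut.conj P) (unfold;
conj 1 = id), SL is normal, and IsMaximalIn is invariant under the automorphism MulAut.conj P. -/
theorem isMaximalIn_of_one (K : Subfield F) (P : GL (Fin n) F)
    (h : Cfsg.Geo.IsMaximalIn (Cfsg.Geo.specialLinear (Fin n) F) (H1 K n)) :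
    Cfsg.Geo.IsMaximalIn (Cfsg.Geo.specialLinear (Fin n) F)
      (Cfsg.Geo.subfieldSubgroup K P ⊓ Cfsg.Geo.specialLinear (Fin n) F) := Cfsg.Agent.Lib.Helper24.S5639FOP.isMaximalIn_of_one K P h



/-! ## assembly -/

section asm

variable {F : Type*} [Field F] {n : ℕ}

theorem SL_le_of_good [Finite F] (hn : 3 ≤ n) (K : Subfield F) (r : ℕ) (hr : r.Prime)
    (hcard : Nat.card F = Nat.card K ^ r) (M : Subgroup (GL (Fin n) F)) (hH : H1 K n ≤ M)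
    (hgood : Good K M) : Cfsg.Geo.specialLinear (Fin n) F ≤ M := by
  obtain ⟨v, φ, a, hv, hφ, hφv, haK, h⟩ := hgood
  have ha : a ∈ ParamSet K M := param_of_one hn K M hH v φ hv hφ hφv a h
  apply SL_le_of_paramSet_univ (by omega) K M
  exact forall_mem_of_subring K r hr hcard (ParamSet K M) (paramSet_rat K M hH)
    (paramSet_add K M) (paramSet_mul hn K M hH) a ha haK

/-- choice of the rational data in the full-rank case -/
theorem exists_data (hn : 3 ≤ n) (K : Subfield F) (w ψ : Fin n → F) (hψ : ψ ≠ 0)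
    (hfull : ∀ lam : Fin n → K, lam ≠ 0 → rvec K lam ⬝ᵥ w ≠ 0) :
    ∃ u φ₁ φ₂ : Fin n → K, ψ ⬝ᵥ rvec K u ≠ 0 ∧ φ₁ ⬝ᵥ u = 0 ∧ φ₂ ⬝ᵥ u = 0 ∧
      (∀ a b : K, a • φ₁ + b • φ₂ = 0 → a = 0 ∧ b = 0) ∧
      rvec K φ₁ ⬝ᵥ w ≠ 0 ∧ rvec K φ₂ ⬝ᵥ w ≠ 0 := by
  classical
  obtain ⟨i, hi⟩ : ∃ i, ψ i ≠ 0 := by
    by_contra hne
    push Not at hne
    exact hψ (funext hne)
  refine ⟨Pi.single i 1, ?_⟩
  obtain ⟨φ₁, φ₂, h1, h2, hind⟩ := exists_indep_perp hn K (Pi.single i (1 : K))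
  refine ⟨φ₁, φ₂, ?_, h1, h2, hind, ?_, ?_⟩
  · rw [rvec_single, dotProduct_single_one]
    exact hi
  · apply hfull
    intro h0
    have := hind 1 0 (by rw [h0]; simp)
    exact one_ne_zero this.1
  · apply hfull
    intro h0
    have := hind 0 1 (by rw [h0]; simp)
    exact one_ne_zero this.2

end asm

section asm2

variable {F : Type*} [Field F] [Fintype F] {n : ℕ}

theorem rvec_smul' (K : Subfield F) (k : K) (φ : Fin n → K) :
    (k : F) • rvec K φ = rvec K (k • φ) := (rvec_smul K k φ).symm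

/-- the full rank case in odd characteristic, via Dickson's theorem -/
theorem fullrank_odd (p : ℕ) [Fact p.Prime] [CharP F p] (hp2 : (2 : F) ≠ 0) (hn : 13 ≤ n)
    (K : Subfield F) (r : ℕ) (hr : r.Prime)
    (hcard : Nat.card F = Nat.card K ^ r) (M : Subgroup (GL (Fin n) F)) (hH : H1 K n ≤ M)
    (w ψ : Fin n → F) (hψw : ψ ⬝ᵥ w = 0) (hψ : ψ ≠ 0)
    (hfull : ∀ lam : Fin n → K, lam ≠ 0 → rvec K lam ⬝ᵥ w ≠ 0)
    (ht : InM M (tv w ψ)) : Good K M := by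
  classical
  have hnr : n ≤ r := le_of_fullrank K r hcard w hfull
  obtain ⟨u, φ₁, φ₂, hβ, h1, h2, hind, hα₁, hα₂⟩ := exists_data (by omega) K w ψ hψ hfull
  -- one of the two functionals has κ ∉ K
  obtain ⟨φ, hφu, hα, hκ⟩ : ∃ φ : Fin n → K, φ ⬝ᵥ u = 0 ∧ rvec K φ ⬝ᵥ w ≠ 0 ∧
      (rvec K φ ⬝ᵥ w) * (ψ ⬝ᵥ rvec K u) ∉ K := by
    by_cases hk1 : (rvec K φ₁ ⬝ᵥ w) * (ψ ⬝ᵥ rvec K u) ∈ K
    · by_cases hk2 : (rvec K φ₂ ⬝ᵥ w) * (ψ ⬝ᵥ rvec K u) ∈ K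
      · exfalso
        -- α₁ β = k₁, α₂ β = k₂
        obtain ⟨k₁, hk₁⟩ : ∃ k₁ : K, (k₁ : F) = (rvec K φ₁ ⬝ᵥ w) * (ψ ⬝ᵥ rvec K u) := ⟨⟨_, hk1⟩, rfl⟩
        obtain ⟨k₂, hk₂⟩ : ∃ k₂ : K, (k₂ : F) = (rvec K φ₂ ⬝ᵥ w) * (ψ ⬝ᵥ rvec K u) := ⟨⟨_, hk2⟩, rfl⟩
        have hk₂0 : k₂ ≠ 0 := by
          intro h0
          rw [h0] at hk₂
          exact mul_ne_zero hα₂ hβ hk₂.symm
        -- (k₂ φ₁ - k₁ φ₂)(w) = 0
        have hz : rvec K (k₂ • φ₁ + (-k₁) • φ₂) ⬝ᵥ w = 0 := by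
          rw [rvec_add, rvec_smul, rvec_smul, add_dotProduct, smul_dotProduct, smul_dotProduct,
            smul_eq_mul, smul_eq_mul]
          push_cast
          rw [hk₁, hk₂]
          ring
        have hz0 : k₂ • φ₁ + (-k₁) • φ₂ = 0 := by
          by_contra hne
          exact hfull _ hne hz
        exact hk₂0 (hind _ _ hz0).1
      · exact ⟨φ₂, h2, hα₂, hk2⟩
    · exact ⟨φ₁, h1, hα₁, hk1⟩
  set κ : F := (rvec K φ ⬝ᵥ w) * (ψ ⬝ᵥ rvec K u) with hκdef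
  have hκ0 : κ ≠ 0 := mul_ne_zero hα hβ
  have hφu' : rvec K φ ⬝ᵥ rvec K u = 0 := by rw [rvec_dot, hφu]; rfl
  set e := emb (rvec K u) w ψ (rvec K φ) hφu' hψw hβ hα with hedef
  set D : Subgroup (SpecialLinearGroup (Fin 2) F) := M.comap e with hD
  have huD : ∀ s : K, uu ((s : F) * κ) ∈ D := by
    intro s
    rw [hD, Subgroup.mem_comap]
    apply InM.mem
    rw [hedef, hκdef, emb_uu, rvec_smul']
    exact (rat_tv_mem K u (s • φ) (by rw [smul_dotProduct, hφu, smul_zero])).mono hH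
  have hWD : (Wm : SpecialLinearGroup (Fin 2) F) ∈ D := by
    rw [hD, Subgroup.mem_comap]
    apply InM.mem
    rw [hedef, emb_Wm]
    exact ht
  have huκ : uu κ ∈ D := by
    have := huD 1
    rwa [Subfield.coe_one, one_mul] at this
  set H : Subgroup (ProjectiveSpecialLinearGroup (Fin 2) F) := D.map (toPSL2 F) with hHdef
  have hHu : toPSL2 F (uu κ) ∈ H := Subgroup.mem_map_of_mem _ huκ
  have hHW : toPSL2 F Wm ∈ H := Subgroup.mem_map_of_mem _ hWD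
  have hw0 : ((Wm : SpecialLinearGroup (Fin 2) F) : Matrix (Fin 2) (Fin 2) F) 0 0 = 0 := by
    simp [Wm]
  rcases dickson_aux_refined p H κ hκ0 hHu Wm hHW hw0 with hc | ht' | ⟨hA5, -⟩
  · obtain ⟨k, hkK, hkD⟩ := app_cfg hp2 K κ hκ D hWD hc
    refine ⟨u, φ, k, ?_, ?_, hφu, hkK, ?_⟩
    · rintro rfl
      apply hβ
      rw [rvec_zero, dotProduct_zero]
    · rintro rfl
      apply hα
      rw [rvec_zero, zero_dotProduct]
    · have h3 : e (uu (k * κ)) ∈ M := hkD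
      have h4 := InM.of_mem h3
      rwa [hedef, hκdef, emb_uu] at h4
  · exact absurd ht' (app_torus hp2 κ hκ0 H hHu hHW)
  · exact absurd hA5 (app_A5 hp2 K r hr (by omega) hcard κ hκ H hHu hHW)

end asm2

section asm3

variable {F : Type*} [Field F] [Fintype F] {n : ℕ}

omit [Fintype F] in
/-- from `ε (1 + uφ₁) = (1 + uφ₂) ε` : `ε u = θ u` and `φ₂ ε = θ φ₁` -/
theorem eigen_of_conj (ε : Matrix (Fin n) (Fin n) F) (u φ₁ φ₂ : Fin n → F) (hu : u ≠ 0) (hφ₁ : φ₁ ≠ 0)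
    (h : ε * tv u φ₁ = tv u φ₂ * ε) :
    ∃ θ : F, ε *ᵥ u = θ • u ∧ φ₂ ᵥ* ε = θ • φ₁ := by
  have h1 : ε * vecMulVec u φ₁ = vecMulVec u φ₂ * ε := by
    have := h
    rw [tv, tv, mul_add, add_mul, mul_one, one_mul] at this
    exact add_left_cancel this
  rw [Matrix.mul_vecMulVec, Matrix.vecMulVec_mul] at h1
  obtain ⟨j, hj⟩ : ∃ j, φ₁ j ≠ 0 := by
    by_contra hne
    push Not at hne
    exact hφ₁ (funext hne)
  obtain ⟨i, hi⟩ : ∃ i, u i ≠ 0 := by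
    by_contra hne
    push Not at hne
    exact hu (funext hne)
  have hent : ∀ a b, (ε *ᵥ u) a * φ₁ b = u a * (φ₂ ᵥ* ε) b := by
    intro a b
    have := congrFun (congrFun h1 a) b
    simpa [vecMulVec_apply] using this
  refine ⟨(φ₂ ᵥ* ε) j / φ₁ j, ?_, ?_⟩
  · ext a
    rw [Pi.smul_apply, smul_eq_mul, div_mul_eq_mul_div, eq_div_iff hj]
    rw [hent a j]
    ring
  · ext b
    rw [Pi.smul_apply, smul_eq_mul]
    have e1 := hent i b
    have e2 := hent i j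
    have key : (φ₂ ᵥ* ε) b * φ₁ j = (φ₂ ᵥ* ε) j * φ₁ b := by
      apply mul_left_cancel₀ hi
      calc u i * ((φ₂ ᵥ* ε) b * φ₁ j) = (u i * (φ₂ ᵥ* ε) b) * φ₁ j := by ring
        _ = ((ε *ᵥ u) i * φ₁ b) * φ₁ j := by rw [← e1]
        _ = ((ε *ᵥ u) i * φ₁ j) * φ₁ b := by ring
        _ = (u i * (φ₂ ᵥ* ε) j) * φ₁ b := by rw [e2]
        _ = u i * ((φ₂ ᵥ* ε) j * φ₁ b) := by ring
    rw [div_mul_eq_mul_div, eq_div_iff hj]
    exact key

/-- the full rank case in characteristic 2 -/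
theorem fullrank_two (h2 : (2 : F) = 0) (hn : 13 ≤ n)
    (K : Subfield F) (r : ℕ) (hr : r.Prime)
    (hcard : Nat.card F = Nat.card K ^ r) (M : Subgroup (GL (Fin n) F)) (hH : H1 K n ≤ M)
    (hMS : M ≤ Cfsg.Geo.specialLinear (Fin n) F)
    (w ψ : Fin n → F) (hψw : ψ ⬝ᵥ w = 0) (hψ : ψ ≠ 0)
    (hfull : ∀ lam : Fin n → K, lam ≠ 0 → rvec K lam ⬝ᵥ w ≠ 0)
    (ht : InM M (tv w ψ)) : Good K M := by
  classical
  have hnr : n ≤ r := le_of_fullrank K r hcard w hfull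
  obtain ⟨u, φ₁, φ₂, hβ, h1, h2', hind, hα₁, hα₂⟩ := exists_data (by omega) K w ψ hψ hfull
  have hu0 : u ≠ 0 := by
    rintro rfl
    apply hβ
    rw [rvec_zero, dotProduct_zero]
  have hφ₁0 : φ₁ ≠ 0 := by
    rintro rfl
    apply hα₁
    rw [rvec_zero, zero_dotProduct]
  have hφu₁ : rvec K φ₁ ⬝ᵥ rvec K u = 0 := by rw [rvec_dot, h1]; rfl
  have hφu₂ : rvec K φ₂ ⬝ᵥ rvec K u = 0 := by rw [rvec_dot, h2']; rfl
  set e₁ := emb (rvec K u) w ψ (rvec K φ₁) hφu₁ hψw hβ hα₁ with he₁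
  set e₂ := emb (rvec K u) w ψ (rvec K φ₂) hφu₂ hψw hβ hα₂ with he₂
  set κ₁ : F := (rvec K φ₁ ⬝ᵥ w) * (ψ ⬝ᵥ rvec K u) with hκ₁
  set κ₂ : F := (rvec K φ₂ ⬝ᵥ w) * (ψ ⬝ᵥ rvec K u) with hκ₂
  have hκ₁0 : κ₁ ≠ 0 := mul_ne_zero hα₁ hβ
  have hκ₂0 : κ₂ ≠ 0 := mul_ne_zero hα₂ hβ
  -- images of the generators
  have hx₁ : ((e₁ (uu κ₁) : GL (Fin n) F) : Matrix (Fin n) (Fin n) F) = tv (rvec K u) (rvec K φ₁) := by
    have := emb_uu (rvec K u) w ψ (rvec K φ₁) hφu₁ hψw hβ hα₁ 1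
    rwa [one_mul, one_smul] at this
  have hx₂ : ((e₂ (uu κ₂) : GL (Fin n) F) : Matrix (Fin n) (Fin n) F) = tv (rvec K u) (rvec K φ₂) := by
    have := emb_uu (rvec K u) w ψ (rvec K φ₂) hφu₂ hψw hβ hα₂ 1
    rwa [one_mul, one_smul] at this
  have hW₁ : ((e₁ Wm : GL (Fin n) F) : Matrix (Fin n) (Fin n) F) = tv w ψ := emb_Wm _ _ _ _ _ _ _ _
  have hW₂ : ((e₂ Wm : GL (Fin n) F) : Matrix (Fin n) (Fin n) F) = tv w ψ := emb_Wm _ _ _ _ _ _ _ _
  have hWeq : e₁ Wm = e₂ Wm := Units.ext (by rw [hW₁, hW₂])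
  have hx₁M : e₁ (uu κ₁) ∈ M := InM.mem (by rw [hx₁]; exact (rat_tv_mem K u φ₁ h1).mono hH)
  have hx₂M : e₂ (uu κ₂) ∈ M := InM.mem (by rw [hx₂]; exact (rat_tv_mem K u φ₂ h2').mono hH)
  have hW₁M : e₁ Wm ∈ M := InM.mem (by rw [hW₁]; exact ht)
  have hW₂M : e₂ Wm ∈ M := InM.mem (by rw [hW₂]; exact ht)
  -- the conjugating elements
  obtain ⟨d₁, hd₁c, hd₁⟩ := sl2_char_two_conj h2 κ₁ hκ₁0
  obtain ⟨d₂, hd₂c, hd₂⟩ := sl2_char_two_conj h2 κ₂ hκ₂0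
  have hcl₁ : Subgroup.closure ({uu κ₁, Wm} : Set (SpecialLinearGroup (Fin 2) F)) ≤ M.comap e₁ := by
    rw [Subgroup.closure_le]
    rintro x (rfl | rfl)
    · exact hx₁M
    · exact hW₁M
  have hcl₂ : Subgroup.closure ({uu κ₂, Wm} : Set (SpecialLinearGroup (Fin 2) F)) ≤ M.comap e₂ := by
    rw [Subgroup.closure_le]
    rintro x (rfl | rfl)
    · exact hx₂M
    · exact hW₂M
  have hδ₁M : e₁ d₁ ∈ M := hcl₁ hd₁c
  have hδ₂M : e₂ d₂ ∈ M := hcl₂ hd₂c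
  have hc₁ : e₁ d₁ * e₁ (uu κ₁) * (e₁ d₁)⁻¹ = e₁ Wm := by
    rw [← map_inv, ← map_mul, ← map_mul, hd₁]
  have hc₂ : e₂ d₂ * e₂ (uu κ₂) * (e₂ d₂)⁻¹ = e₂ Wm := by
    rw [← map_inv, ← map_mul, ← map_mul, hd₂]
  set ε : GL (Fin n) F := (e₂ d₂)⁻¹ * e₁ d₁ with hε
  have hεM : ε ∈ M := M.mul_mem (M.inv_mem hδ₂M) hδ₁M
  have hconj : ε * e₁ (uu κ₁) = e₂ (uu κ₂) * ε := by
    have h3 : e₁ d₁ * e₁ (uu κ₁) = e₂ d₂ * e₂ (uu κ₂) * (e₂ d₂)⁻¹ * e₁ d₁ := by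
      rw [hc₂, ← hWeq, ← hc₁]
      group
    rw [hε, mul_assoc, h3]
    group
  have hconj' : (ε : Matrix (Fin n) (Fin n) F) * tv (rvec K u) (rvec K φ₁) =
      tv (rvec K u) (rvec K φ₂) * (ε : Matrix (Fin n) (Fin n) F) := by
    rw [← hx₁, ← hx₂, ← Units.val_mul, ← Units.val_mul, hconj]
  have hru0 : rvec K u ≠ 0 := by
    intro h0
    apply hu0
    apply rvec_inj K
    rw [h0, rvec_zero]
  have hrφ₁0 : rvec K φ₁ ≠ 0 := by
    intro h0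
    apply hφ₁0
    apply rvec_inj K
    rw [h0, rvec_zero]
  obtain ⟨θ, hθu, hθφ⟩ := eigen_of_conj (ε : Matrix (Fin n) (Fin n) F) (rvec K u) (rvec K φ₁)
    (rvec K φ₂) hru0 hrφ₁0 hconj'
  have hθ0 : θ ≠ 0 := by
    rintro rfl
    rw [zero_smul] at hθu
    apply hru0
    have := congrArg (fun v => ((ε⁻¹ : GL (Fin n) F) : Matrix (Fin n) (Fin n) F) *ᵥ v) hθu
    simpa [mulVec_mulVec, ← Units.val_mul] using this
  -- ε fixes the functionals killing u and w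
  have hεχ : ∀ χ : Fin n → F, χ ⬝ᵥ rvec K u = 0 → χ ⬝ᵥ w = 0 →
      χ ᵥ* (ε : Matrix (Fin n) (Fin n) F) = χ := by
    intro χ hχu hχw
    rw [hε, Units.val_mul, ← Matrix.vecMul_vecMul, ← map_inv]
    rw [vecMul_emb (rvec K u) w ψ (rvec K φ₂) hφu₂ hψw hβ hα₂ d₂⁻¹ χ hχu hχw,
      vecMul_emb (rvec K u) w ψ (rvec K φ₁) hφu₁ hψw hβ hα₁ d₁ χ hχu hχw]
  have hεH : ε ∉ Cfsg.Geo.subfieldSubgroup K (1 : GL (Fin n) F) :=
    not_mem_subfield_of_conj K r hr (by omega) hcard w hfull u φ₁ φ₂ hind h1 h2' ε θ hθ0 hθφ hεχ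
  exact good_of_fix_rat_point (by omega) K M hH ε hεM (hMS hεM) hεH u u hu0 θ hθu

end asm3

section asm4

variable {F : Type*} [Field F] [Fintype F] {n : ℕ}

theorem exists_not_mem (K : Subfield F) (r : ℕ) (hr : r.Prime)
    (hcard : Nat.card F = Nat.card K ^ r) : ∃ a : F, a ∉ K := by
  by_contra hne
  push Not at hne
  have htop : K = ⊤ := by
    rw [eq_top_iff]
    intro x _
    exact hne x
  have h1 : Nat.card K = Nat.card F := by
    rw [htop]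
    exact Nat.card_congr (Subfield.topEquiv (K := F)).toEquiv
  rw [h1] at hcard
  have h2 : 1 < Nat.card F := Finite.one_lt_card
  have h3 : Nat.card F ^ 1 < Nat.card F ^ r := Nat.pow_lt_pow_right h2 hr.one_lt
  rw [pow_one] at h3
  omega

/-- the case `P = 1` of S5639 -/
theorem maximal_one (hn : 13 ≤ n) (K : Subfield F) (r : ℕ) (hr : r.Prime)
    (hcard : Nat.card F = Nat.card K ^ r) :
    Cfsg.Geo.IsMaximalIn (Cfsg.Geo.specialLinear (Fin n) F) (H1 K n) := by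
  classical
  obtain ⟨a₀, ha₀⟩ := exists_not_mem K r hr hcard
  refine ⟨H1_lt (by omega) K a₀ ha₀, ?_⟩
  intro M hHM hMS
  by_cases hMH : M ≤ H1 K n
  · exact Or.inl (le_antisymm hMH hHM)
  right
  refine le_antisymm hMS ?_
  apply SL_le_of_good (by omega) K r hr hcard M hHM
  obtain ⟨g, hgM, hgH⟩ := SetLike.not_le_iff_exists.mp hMH
  have hgS := hMS hgM
  have hgK : g ∉ Cfsg.Geo.subfieldSubgroup K (1 : GL (Fin n) F) := fun hk => hgH ⟨hk, hgS⟩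
  obtain ⟨u₀, hu₀⟩ : ∃ u₀ : Fin n → K, ∀ (l : F) (r : Fin n → K),
      (g : Matrix (Fin n) (Fin n) F) *ᵥ rvec K u₀ ≠ l • rvec K r := by
    by_contra hne
    push Not at hne
    obtain ⟨l, B, hl, hB⟩ := exists_rational_of_pure (by omega) K g hne
    exact hgK (mem_subfield_one_of_eq K g l hl B hB)
  obtain ⟨φ₀, hφ₀, hφu₀, -⟩ := exists_perp2 (by omega) K u₀ u₀
  have hφu₀' : φ₀ ⬝ᵥ u₀ = 0 := by rw [dotProduct_comm]; exact hφu₀
  set w : Fin n → F := (g : Matrix (Fin n) (Fin n) F) *ᵥ rvec K u₀ with hw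
  set ψ : Fin n → F := rvec K φ₀ ᵥ* ((g⁻¹ : GL (Fin n) F) : Matrix (Fin n) (Fin n) F) with hψ
  have hψg : ψ ᵥ* (g : Matrix (Fin n) (Fin n) F) = rvec K φ₀ := by
    rw [hψ, Matrix.vecMul_vecMul, ← Units.val_mul, inv_mul_cancel, Units.val_one, Matrix.vecMul_one]
  have ht : InM M (tv w ψ) := by
    rw [hw]
    apply InM.conj_tv hgM
    rw [hψg]
    exact (rat_tv_mem K u₀ φ₀ hφu₀').mono hHM
  have hψ0 : ψ ≠ 0 := by
    intro h0
    rw [h0, Matrix.zero_vecMul] at hψg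
    apply hφ₀
    apply rvec_inj K
    rw [← hψg, rvec_zero]
  have hψw : ψ ⬝ᵥ w = 0 := by
    rw [hw, dotProduct_mulVec, hψg, rvec_dot, hφu₀']
    rfl
  by_cases hk : ∃ lam : Fin n → K, lam ≠ 0 ∧ rvec K lam ⬝ᵥ w = 0
  · obtain ⟨lam, hlam, hlw⟩ := hk
    exact good_of_kill (by omega) K M hHM w ψ hψw hψ0 hu₀ lam hlam hlw ht
  · push Not at hk
    by_cases h2 : (2 : F) = 0
    · exact fullrank_two h2 hn K r hr hcard M hHM hMS w ψ hψw hψ0 hk ht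
    · have hp : (ringChar F).Prime := CharP.char_is_prime F (ringChar F)
      haveI : Fact (ringChar F).Prime := ⟨hp⟩
      exact fullrank_odd (ringChar F) h2 hn K r hr hcard M hHM w ψ hψw hψ0 hk ht

/-- S5639 -/
theorem main (hn : 13 ≤ n) (K : Subfield F) (r : ℕ) (hr : r.Prime)
    (hcard : Fintype.card F = Nat.card K ^ r) (P : GL (Fin n) F) :
    Cfsg.Geo.IsMaximalIn (Cfsg.Geo.specialLinear (Fin n) F)
      (Cfsg.Geo.subfieldSubgroup K P ⊓ Cfsg.Geo.specialLinear (Fin n) F) := by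
  apply isMaximalIn_of_one K P
  apply maximal_one hn K r hr
  rw [Nat.card_eq_fintype_card]
  exact hcard

end asm4

end Cfsg.Agent.Lib.Helper1.SubfSLMain
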