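import Mathlib
import Cfsg.Agent.Lib.Helper1.OrthSubfDefs
import Cfsg.Agent.Lib.Helper1.OrthSubfRat
import Cfsg.Agent.Lib.Helper1.OrthSubf2Defs
import Cfsg.Agent.Lib.Helper1.SubfSLMain
import Cfsg.Agent.Lib.Helper28.S5639FOALG
import Cfsg.Agent.Lib.Helper6.S5683FOCOMM
import Cfsg.Agent.Lib.Helper6.S5683FOFIX
import Cfsg.Agent.Lib.Helper6.S5683FOS
import Cfsg.Agent.Lib.Helper1.OrthSubf2G
import Cfsg.Agent.Lib.Helper1.OrthSubf2Imp
import Cfsg.Agent.Lib.Helper10.S5702FOG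
import Cfsg.Agent.Lib.Helper12.S5702FOP2
import Cfsg.Agent.Lib.Helper6.S5702FOIMPR
import Cfsg.Agent.Lib.Helper6.S5702FORATIO
import Cfsg.Agent.Lib.Helper9.OrthSyl4

/-!
# S5702: the subfield groups of `Ω^±_n(q)` are maximal (`n ≥ 13`, all `q`, any nondegenerate `Q`, `ζ`, `P`)

Assembly of the farm-out pieces (see `notes/S5702Skel_helper1.lean.txt` for the paper proof).  `maximal_one2` is the general
statement for a nondegenerate `K`-rational quadratic form on `F^n`, `n ≥ 13`, ANY characteristic.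
-/

set_option autoImplicit false

namespace Cfsg.Agent.Lib.Helper1.OrthSubf2Main

open Matrix QuadraticMap Cfsg.Agent.Lib.Helper6 Cfsg.Agent.Lib.Helper13 Cfsg.Agent.Lib.Helper1.SubfSL
open Cfsg.Agent.Lib.Helper1.OrthSubf Cfsg.Agent.Lib.Helper1.OrthSubf2 Cfsg.Agent.Lib.Helper1.OrthSubfRat
open Cfsg.Agent.Lib.Helper6.S5683FOCOMM Cfsg.Agent.Lib.Helper6.S5683FOFIX

/-! ## Part G: geometry of a quadratic form `q₀` with nondegenerate polar form over a finite field `k` (ANY characteristic) -/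

section geomK
variable {k : Type*} [Field k] [Finite k] {n : ℕ} {q₀ : QuadraticForm k (Fin n → k)}

/-- FO-G1 (char-free port of helper10 `S5683FOG.span_singular_perp`).  For singular `z ≠ 0`, every `x ⟂ z` is a `k`-combination of
singular vectors `⟂ z`.  Proof: if `q₀ x = 0` take `x`.  Else pick `f` with `B z f = 1`; `⟨z,x,f⟩^⟂` has dimension `≥ n-3 ≥ 3`, so it
contains a singular `e ≠ 0`; pick `e'₀ ⟂ z, x` with `B e e'₀ = 1` (`e ∉ ⟨z,x⟩` as `e ⟂ f`, `e ⟂ x`, and if `e = a z + b x` then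
`0 = B e f = a`, `0 = q₀ e = b² q₀ x`), `e' = e'₀ - q₀ e'₀ • e` singular; `s = x - q₀ x • e + e'`... CHECK: `q₀ (x + a e + e') = q₀ x + a`
for `a ∈ k` (`e, e'` singular, `⟂ x`, `B e e' = 1`), so `s = x - q₀ x • e + e'` is singular and `x = s + q₀ x • e - e'`. -/
theorem span_singular_perp (h : (polarBilin q₀).Nondegenerate) (hn : 6 ≤ n) (z : Fin n → k)
    (hz0 : z ≠ 0) (hzz : q₀ z = 0) (x : Fin n → k) (hx : polarBilin q₀ x z = 0) :
    x ∈ Submodule.span k {c : Fin n → k | q₀ c = 0 ∧ polarBilin q₀ c z = 0} := Cfsg.Agent.Lib.Helper10.S5702FOG.span_singular_perp h hn z hz0 hzz x hx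

/-- FO-G2.  `⟨z,c⟩^⟂` has dimension `≥ n - 2 ≥ 3`; pick `d ≠ 0` in it and `d'` in it with `B d d' = 1`: exists unless `d` is in the
radical of `⟨z,c⟩^⟂`, which is `⟨z,c⟩ ∩ ⟨z,c⟩^⟂` of dimension `≤ 2 < 3`: choose `d ∈ ⟨z,c⟩^⟂ \ ⟨z,c⟩`. -/
theorem exists_dd (h : (polarBilin q₀).Nondegenerate) (hn : 5 ≤ n) (z c : Fin n → k) :
    ∃ d d' : Fin n → k, polarBilin q₀ d z = 0 ∧ polarBilin q₀ d c = 0 ∧ polarBilin q₀ d' z = 0 ∧
      polarBilin q₀ d' c = 0 ∧ polarBilin q₀ d d' = 1 := Cfsg.Agent.Lib.Helper10.S5702FOG.exists_dd h hn z c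

/-- FO-G3 (port of helper10 `exists_cedd`).  `c` singular, `e`, `d`, `d'`, all `⟂ r i`; `B c e = 1`, `d, d' ⟂ c`, `B d d' = 1`.
E.g. two orthogonal hyperbolic pairs `(c,e)`, `(d,d')` inside `{r i}^⟂` (= `exists_two_hyp`). -/
theorem exists_cedd (h : (polarBilin q₀).Nondegenerate) (hn : 13 ≤ n) (r : Fin 4 → Fin n → k) :
    ∃ c e d d' : Fin n → k, (∀ i, polarBilin q₀ c (r i) = 0 ∧ polarBilin q₀ e (r i) = 0 ∧
      polarBilin q₀ d (r i) = 0 ∧ polarBilin q₀ d' (r i) = 0) ∧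
      q₀ c = 0 ∧ polarBilin q₀ c e = 1 ∧ polarBilin q₀ d c = 0 ∧ polarBilin q₀ d' c = 0 ∧
      polarBilin q₀ d d' = 1 := Cfsg.Agent.Lib.Helper10.S5702FOG.exists_cedd h hn r

/-- FO-G4 (port of helper10 `exists_two_hyp`).  Two orthogonal hyperbolic pairs `(x,e)`, `(x',e')` inside `W = {v i}^⟂`
(dimension `≥ 9`; radical of `W` has dimension `≤ 4`; a complement of the radical in `W` is nondegenerate of dimension `≥ 5`). -/
theorem exists_two_hyp (h : (polarBilin q₀).Nondegenerate) (hn : 13 ≤ n) (v : Fin 4 → Fin n → k) :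
    ∃ x x' e e' : Fin n → k, (∀ i, polarBilin q₀ x (v i) = 0 ∧ polarBilin q₀ x' (v i) = 0 ∧
      polarBilin q₀ e (v i) = 0 ∧ polarBilin q₀ e' (v i) = 0) ∧
      q₀ x = 0 ∧ q₀ x' = 0 ∧ polarBilin q₀ x x' = 0 ∧ polarBilin q₀ x e = 1 ∧
      polarBilin q₀ x' e = 0 ∧ polarBilin q₀ x e' = 0 ∧ polarBilin q₀ x' e' = 1 := Cfsg.Agent.Lib.Helper10.S5702FOG.exists_two_hyp h hn v

/-- FO-G5 (port of helper12 `exists_partner`).  `c` singular, `c ⟂ u, c'`, `c ∉ ⟨u, c'⟩`: some `e₀` has `B c e₀ = 1`,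
`B u e₀ = 0 = B c' e₀` (nondegeneracy); `f = e₀ - q₀ e₀ • c`. -/
theorem exists_partner (h : (polarBilin q₀).Nondegenerate) (u c c' : Fin n → k) (hcc : q₀ c = 0)
    (huc : polarBilin q₀ u c = 0) (hc'c : polarBilin q₀ c' c = 0)
    (hind : ∀ k₁ k₂ : k, c ≠ k₁ • u + k₂ • c') :
    ∃ f : Fin n → k, q₀ f = 0 ∧ polarBilin q₀ c f = 1 ∧ polarBilin q₀ u f = 0 ∧
      polarBilin q₀ c' f = 0 := Cfsg.Agent.Lib.Helper1.OrthSubf2G.exists_partner h u c c' hcc huc hc'c hind

/-- FO-G7.  A hyperbolic pair. -/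
theorem exists_hyp_pair (h : (polarBilin q₀).Nondegenerate) (hn : 3 ≤ n) :
    ∃ u v : Fin n → k, q₀ u = 0 ∧ q₀ v = 0 ∧ polarBilin q₀ u v = 1 := Cfsg.Agent.Lib.Helper1.OrthSubf2G.exists_hyp_pair h hn

/-- FO-G8 (port of helper12 `exists_ts_partner`). -/
theorem exists_ts_partner (h : (polarBilin q₀).Nondegenerate) (hn : 5 ≤ n) (u : Fin n → k)
    (hu0 : u ≠ 0) (huu : q₀ u = 0) :
    ∃ c e : Fin n → k, q₀ c = 0 ∧ polarBilin q₀ u c = 0 ∧ polarBilin q₀ c e = 1 ∧
      polarBilin q₀ u e = 0 := Cfsg.Agent.Lib.Helper1.OrthSubf2G.exists_ts_partner h hn u hu0 huu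

/-- FO-G9.  A dual vector: `c ∉ k u` ⇒ some `e` has `B c e = 1`, `B u e = 0` (nondegeneracy; `u = 0` allowed). -/
theorem exists_dual (h : (polarBilin q₀).Nondegenerate) (u c : Fin n → k)
    (hind : ∀ k₁ : k, c ≠ k₁ • u) : ∃ e : Fin n → k, polarBilin q₀ c e = 1 ∧ polarBilin q₀ u e = 0 := Cfsg.Agent.Lib.Helper1.OrthSubf2G.exists_dual h u c hind

/-- FO-G10.  Singular vectors span: every `x` is a `k`-combination of singular vectors (hyperbolic pair `(u,v)`: `x = a u + b v + x'`,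
`x' ⟂ u, v`; `x' - q₀ x' • u + v` is singular, so `x' = (x' - q₀ x' • u + v) + q₀ x' • u - v`). -/
theorem span_singular (h : (polarBilin q₀).Nondegenerate) (hn : 5 ≤ n) (x : Fin n → k) :
    x ∈ Submodule.span k {c : Fin n → k | q₀ c = 0} := Cfsg.Agent.Lib.Helper1.OrthSubf2G.span_singular h hn x

end geomK

universe u
variable {F : Type u} [Field F] {n : ℕ}
variable {Q : QuadraticForm F (Fin n → F)} {K : Subfield F} {Q₀ : QuadraticForm K (Fin n → K)}

/-! ## Part B: pure images -/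

/-- FO-PURE (char-free port of helper10 `PureSingular.exists_rational_of_pure_singular`; helper10 `S5658BFOB1.step'` is already
an abstract-class version).  If `A` maps every rational SINGULAR (`q₀ u = 0`) vector to a scalar multiple of a rational vector, then
`A` is a scalar multiple of a rational matrix. -/
theorem exists_rational_of_pure_singular2 (hn : 5 ≤ n) (K : Subfield F) [Finite K]
    (q₀ : QuadraticForm K (Fin n → K)) (hq : (polarBilin q₀).Nondegenerate) (A : GL (Fin n) F)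
    (hA : ∀ u : Fin n → K, q₀ u = 0 → ∃ (l : F) (r : Fin n → K),
      (A : Matrix (Fin n) (Fin n) F) *ᵥ rvec K u = l • rvec K r) :
    ∃ (l : F) (Bm : Matrix (Fin n) (Fin n) K), l ≠ 0 ∧
      (A : Matrix (Fin n) (Fin n) F) = l • rmat K Bm := Cfsg.Agent.Lib.Helper10.S5702FOG.exists_rational_of_pure_singular2 hn K q₀ hq A hA

/-! ## Part S -/

/-- FO-IMP (char-free port of helper2 `S5683C.exists_indep_of_impure`; Riesz is `RatForm2.exists_riesz`). -/
theorem exists_indep_of_impure (hB : RatForm2 K Q Q₀) (hQ : (polarBilin Q).Nondegenerate)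
    (w : Fin n → F) (hw : Impure K w) :
    ∃ x₁ x₂ : Fin n → K, ∀ k₁ k₂ : K, (k₁ : F) * polar (⇑Q) (rvec K x₁) w +
      (k₂ : F) * polar (⇑Q) (rvec K x₂) w = 0 → k₁ = 0 ∧ k₂ = 0 := Cfsg.Agent.Lib.Helper1.OrthSubf2Imp.exists_indep_of_impure hB hQ w hw

/-! ## Part D: the Sylow trick -/

/-- FO-SYL4 (helper9, in progress; statement and proof in `notes/S5702_design_helper9.md`). -/
theorem exists_sylow_conj4 [Fintype F] (Q : QuadraticForm F (Fin n → F)) (M : Subgroup (GL (Fin n) F))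
    (u c w y : Fin n → F) (hu : Q u = 0) (hc : Q c = 0) (huc : polar (⇑Q) u c = 0) (hw : Q w = 0)
    (hy : Q y = 0) (hwy : polar (⇑Q) w y = 0)
    (hΔ : polar (⇑Q) u w * polar (⇑Q) c y - polar (⇑Q) u y * polar (⇑Q) c w ≠ 0)
    (ha : InM M (sieg Q u c)) (hb : InM M (sieg Q w y)) :
    ∃ δ : ↥(Cfsg.isometryGroup F ⇑Q), (δ : GL (Fin n) F) ∈ M ∧ ∃ β : F, β ≠ 0 ∧
      gact Q δ u = β • (polar (⇑Q) u y • w - polar (⇑Q) u w • y) := Cfsg.Agent.Lib.Helper9.OrthSyl.exists_sylow_conj4 Q M u c w y hu hc huc hw hy hwy hΔ ha hb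

/-- FO-RATIO (= step (2) of helper2's `conf_of_minors`; tools `S5683C.polK`, `exists_smul_of_perp` or my `smul_of_perp_rat`).
`u₁` rational singular, `a = B(v,u₁) ≠ 0`, and `B(v,c₁) ∈ K a` for all rational singular `c₁ ⟂ u₁`.  Then `v = a • rvec r + l • rvec u₁`:
`x ↦ B(rvec x, v)/a` is `K`-valued on rational singular `c₁ ⟂ u₁`, hence (`span_singular_perp`) on all rational `x ⟂ u₁`; extend to a
`K`-linear functional on `K^n` (`x ↦ ψ(x - B₀(x,u₁) f)`, `B₀(f,u₁) = 1`), represent it by `r` (`RatForm2.exists_riesz`): `v/a - rvec r` is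
`⟂` all rational `x ⟂ u₁`, so it is in `F • rvec u₁` (`smul_of_perp_rat`).  `Conf` with `r' = ![r, u₁, 0, 0]`. -/
theorem conf_of_ratio [Finite F] (hB : RatForm2 K Q Q₀) (hQ : (polarBilin Q).Nondegenerate) (hn : 6 ≤ n)
    (v : Fin n → F) (u₁ : Fin n → K) (hu₁ : Q₀ u₁ = 0) (hvu : polar (⇑Q) v (rvec K u₁) ≠ 0)
    (hall : ∀ c₁ : Fin n → K, Q₀ c₁ = 0 → polarBilin Q₀ u₁ c₁ = 0 →
      ∃ k₁ : K, polar (⇑Q) v (rvec K c₁) = (k₁ : F) * polar (⇑Q) v (rvec K u₁)) : Conf K v := Cfsg.Agent.Lib.Helper6.S5702FORATIO.conf_of_ratio hB hQ hn v u₁ hu₁ hvu hall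

/-- FO-IMPR.  `a • rvec u₁ - b • rvec c₁` is impure if `b ≠ 0` and `a / b ∉ K` (`u₁ ≠ 0`; `c₁ ∉ K u₁` follows from nothing here, so
it is a hypothesis): if it equals `l • rvec r`, pair with rational `e, e'` dual to `(u₁, c₁)` (`exists_dual` twice):
`a = l k`, `-b = l k'`, so `a / b = -k/k' ∈ K`. -/
theorem impure_of_ratio [Finite F] (hB : RatForm2 K Q Q₀) (u₁ c₁ : Fin n → K)
    (hind : ∀ k₁ k₂ : K, k₁ • u₁ + k₂ • c₁ = 0 → k₁ = 0 ∧ k₂ = 0) (a b : F) (hb : b ≠ 0)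
    (hab : ∀ k₁ : K, a ≠ (k₁ : F) * b) : Impure K (a • rvec K u₁ - b • rvec K c₁) := Cfsg.Agent.Lib.Helper6.S5702FOIMPR.impure_of_ratio hB u₁ c₁ hind a b hb hab

/-! ## Part T: the bridge -/

/-- FO-P2 (helper24's recipe, `S5683FOP` generic pieces `isMaximalIn_mapEquiv`, `bridgeEquiv`, `map_bridge_subfield`, `omegaGL_eq`).
`Q' x := ζ * Q₁ (P *ᵥ x)` as a `QuadraticForm` (`Q₁` nondegenerate quadratic form as a bare function: `hQ₁.smul`, `hQ₁.polar_bilinear`,
`hQ₁.nondegenerate`); `isometryGroup (ζ Q₁) = isometryGroup Q₁` (so `omegaGL` agree) and conjugation by `P` maps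
`isometryGroup Q'` onto `isometryGroup Q₁`, `subfieldSubgroup F₀ 1` onto `subfieldSubgroup F₀ P`. -/
theorem bridge_even [Fintype F] (Q₁ : (Fin n → F) → F) (hQ₁ : Cfsg.Geo.IsNondegenerateQuadraticForm Q₁)
    (F₀ : Subfield F) (P : Matrix.GeneralLinearGroup (Fin n) F) (ζ : F) (hζ : ζ ≠ 0)
    (hP : Cfsg.Geo.IsQuadFormRationalStructure (fun v : Fin n → F => ζ * Q₁ v) F₀ P) :
    ∃ Q : QuadraticForm F (Fin n → F), (polarBilin Q).Nondegenerate ∧ RatQ F₀ Q ∧
      (Cfsg.Geo.IsMaximalIn (Cfsg.Geo.omegaGL ⇑Q) (H1Q F₀ Q) →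
        Cfsg.Geo.IsMaximalIn (Cfsg.Geo.omegaGL Q₁)
          (Cfsg.Geo.subfieldSubgroup F₀ P ⊓ Cfsg.Geo.omegaGL Q₁)) := Cfsg.Agent.Lib.Helper12.S5702FOP2.bridge_even Q₁ hQ₁ F₀ P ζ hζ hP


/-! ## Part A (done): spans and `OrX` -/

theorem span_F_singular_perp [Finite F] (hB : RatForm2 K Q Q₀) (hn : 6 ≤ n) (u : Fin n → K)
    (hu0 : u ≠ 0) (huu : Q₀ u = 0) (w : Fin n → F) (hw : polar (⇑Q) (rvec K u) w = 0) :
    w ∈ Submodule.span F {x : Fin n → F | ∃ c : Fin n → K, Q₀ c = 0 ∧ polarBilin Q₀ c u = 0 ∧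
      x = rvec K c} := by
  have : Finite K := Finite.of_injective (fun x : K => (x : F)) Subtype.val_injective
  exact span_F_singular_perp_of hB u hu0
    (fun c hc => span_singular_perp hB.nd hn u hu0 huu c hc) w hw

theorem orX_of_forall [Finite F] (hB : RatForm2 K Q Q₀) (hn : 6 ≤ n) (M : Subgroup (GL (Fin n) F))
    (u : Fin n → K) (hu0 : u ≠ 0) (huu : Q₀ u = 0)
    (hall : ∀ (c : Fin n → K) (a : F), Q₀ c = 0 → polarBilin Q₀ c u = 0 →
      InM M (sieg Q (rvec K u) (a • rvec K c))) : OrX Q M (rvec K u) :=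
  orX_of_span hB M u huu (fun w hw => span_F_singular_perp hB hn u hu0 huu w hw) hall

/-! ## Assembly, part A -/

section asmA
variable [Fintype F]

omit [Fintype F] in
theorem pol_eq (hB : RatForm2 K Q Q₀) (u v : Fin n → K) :
    polar (⇑Q) (rvec K u) (rvec K v) = ((polarBilin Q₀ u v : K) : F) := (hB.eq u v).symm

omit [Fintype F] in
theorem pol_zero (hB : RatForm2 K Q Q₀) {u v : Fin n → K} (h : polarBilin Q₀ u v = 0) :
    polar (⇑Q) (rvec K u) (rvec K v) = 0 := by rw [pol_eq hB, h]; rfl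

omit [Fintype F] in
theorem pol_one (hB : RatForm2 K Q Q₀) {u v : Fin n → K} (h : polarBilin Q₀ u v = 1) :
    polar (⇑Q) (rvec K u) (rvec K v) = 1 := by rw [pol_eq hB, h]; rfl

omit [Fintype F] in
theorem sieg_add_smul (Q : QuadraticForm F (Fin n → F)) (t : F) (u w : Fin n → F) (hu : Q u = 0)
    (huw : polar (⇑Q) u w = 0) : sieg Q u (w + t • u) = sieg Q u w := by
  have h := siegIso_add_smul Q t u w hu huw
  exact congrArg (fun g : ↥(Cfsg.isometryGroup F ⇑Q) =>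
    ((g : GL (Fin n) F) : Matrix (Fin n) (Fin n) F)) h

omit [Fintype F] in
theorem rvec_smul' (k : K) (φ : Fin n → K) : (k : F) • rvec K φ = rvec K (k • φ) :=
  (rvec_smul K k φ).symm

theorem paramSet_rat (hB : RatForm2 K Q Q₀) (hQ : (polarBilin Q).Nondegenerate) (hn : 5 ≤ n)
    (hrat : RatQ K Q) (M : Subgroup (GL (Fin n) F)) (hH : H1Q K Q ≤ M) (u c : Fin n → K)
    (hu : Q₀ u = 0) (huc : polarBilin Q₀ u c = 0) (k : K) : (k : F) ∈ ParamSet K Q M u c := by
  change InM M (sieg Q (rvec K u) ((k : F) • rvec K c))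
  rw [rvec_smul']
  refine (rat_sieg_mem hQ hn hrat u (k • c) ((hB.sing u).mp hu) ?_).mono hH
  apply pol_zero hB
  rw [map_smul, huc, smul_zero]

omit [Fintype F] in
theorem paramSet_add (hB : RatForm2 K Q Q₀) (M : Subgroup (GL (Fin n) F)) (u c : Fin n → K)
    (hu : Q₀ u = 0) (huc : polarBilin Q₀ u c = 0) (a b : F) (ha : a ∈ ParamSet K Q M u c)
    (hb : b ∈ ParamSet K Q M u c) : a + b ∈ ParamSet K Q M u c := by
  change InM M (sieg Q (rvec K u) ((a + b) • rvec K c))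
  rw [add_smul]
  have h0 := pol_zero hB huc
  exact InM.sieg_add ((hB.sing u).mp hu) (by rw [polar_smul_right, h0, smul_zero])
    (by rw [polar_smul_right, h0, smul_zero]) ha hb

omit [Fintype F] in
theorem paramSet_neg (hB : RatForm2 K Q Q₀) (M : Subgroup (GL (Fin n) F)) (u c : Fin n → K)
    (hu : Q₀ u = 0) (huc : polarBilin Q₀ u c = 0) (a : F) (ha : a ∈ ParamSet K Q M u c) :
    -a ∈ ParamSet K Q M u c := by
  change InM M (sieg Q (rvec K u) ((-a) • rvec K c))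
  rw [neg_smul]
  have h0 := pol_zero hB huc
  exact InM.sieg_neg ((hB.sing u).mp hu) (by rw [polar_smul_right, h0, smul_zero]) ha

omit [Fintype F] in
theorem paramSet_swap (hB : RatForm2 K Q Q₀) (M : Subgroup (GL (Fin n) F)) (u c : Fin n → K)
    (hu : Q₀ u = 0) (hc : Q₀ c = 0) (huc : polarBilin Q₀ u c = 0) (a : F)
    (ha : a ∈ ParamSet K Q M u c) : a ∈ ParamSet K Q M c u := by
  have hcu : polarBilin Q₀ c u = 0 := by rw [hB.symm, huc]
  have h1 : -a ∈ ParamSet K Q M c u := by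
    change InM M (sieg Q (rvec K c) ((-a) • rvec K u))
    rw [← sieg_swap Q _ _ a ((hB.sing u).mp hu) ((hB.sing c).mp hc)]
    exact ha
  have := paramSet_neg hB M c u hc hcu _ h1
  rwa [neg_neg] at this

omit [Fintype F] in
/-- the product rule -/
theorem paramSet_mul (hB : RatForm2 K Q Q₀) (M : Subgroup (GL (Fin n) F)) (u c c' f : Fin n → K)
    (hu : Q₀ u = 0) (hc : Q₀ c = 0) (hc' : Q₀ c' = 0) (hf : Q₀ f = 0) (huc : polarBilin Q₀ u c = 0)
    (huc' : polarBilin Q₀ u c' = 0) (hcc' : polarBilin Q₀ c c' = 0) (hcf : polarBilin Q₀ c f = 1) (huf : polarBilin Q₀ u f = 0)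
    (hc'f : polarBilin Q₀ c' f = 0) (a b : F) (ha : a ∈ ParamSet K Q M u c)
    (hb : b ∈ ParamSet K Q M f c') : a * b ∈ ParamSet K Q M u c' := by
  change InM M (sieg Q (rvec K u) ((a * b) • rvec K c'))
  have hfc' : polarBilin Q₀ f c' = 0 := by rw [hB.symm, hc'f]
  rw [← sieg_comm Q (rvec K u) (rvec K c) (rvec K c') (rvec K f) a b ((hB.sing u).mp hu)
    ((hB.sing c).mp hc) ((hB.sing c').mp hc') ((hB.sing f).mp hf) (pol_zero hB huc)
    (pol_zero hB huc') (pol_zero hB hcc') (pol_one hB hcf) (pol_zero hB huf) (pol_zero hB hc'f)]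
  have h1 : InM M (sieg Q (rvec K u) (-(a • rvec K c))) :=
    InM.sieg_neg ((hB.sing u).mp hu) (by rw [polar_smul_right, pol_zero hB huc, smul_zero]) ha
  have h2 : InM M (sieg Q (rvec K f) (-(b • rvec K c'))) :=
    InM.sieg_neg ((hB.sing f).mp hf) (by rw [polar_smul_right, pol_zero hB hfc', smul_zero]) hb
  exact ((ha.mul hb).mul h1).mul h2

end asmA

section asmA2
variable [Fintype F]

/-- one step: `(u,c) → (u,c')` -/
theorem paramSet_mono (hB : RatForm2 K Q Q₀) (hQ : (polarBilin Q).Nondegenerate) (hn : 5 ≤ n)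
    (hrat : RatQ K Q) (M : Subgroup (GL (Fin n) F)) (hH : H1Q K Q ≤ M) (u c c' : Fin n → K)
    (hu : Q₀ u = 0) (hc : Q₀ c = 0) (hc' : Q₀ c' = 0) (huc : polarBilin Q₀ u c = 0)
    (huc' : polarBilin Q₀ u c' = 0) (hcc' : polarBilin Q₀ c c' = 0) (hind : ∀ k₁ k₂ : K, c ≠ k₁ • u + k₂ • c')
    (a : F) (ha : a ∈ ParamSet K Q M u c) : a ∈ ParamSet K Q M u c' := by
  have : Finite K := Finite.of_injective (fun x : K => (x : F)) Subtype.val_injective
  obtain ⟨f, hf, hcf, huf, hc'f⟩ := exists_partner hB.nd u c c' hc huc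
    (by rw [hB.symm, hcc']) hind
  have hfc' : polarBilin Q₀ f c' = 0 := by rw [hB.symm, hc'f]
  have h1 : (1 : F) ∈ ParamSet K Q M f c' := by
    have := paramSet_rat hB hQ hn hrat M hH f c' hf hfc' 1
    simpa using this
  have := paramSet_mul hB M u c c' f hu hc hc' hf huc huc' hcc' hcf huf hc'f a 1 ha h1
  rwa [mul_one] at this

/-- the parameter set does not depend on the rational totally singular pair -/
theorem paramSet_le (hB : RatForm2 K Q Q₀) (hQ : (polarBilin Q).Nondegenerate) (hn : 13 ≤ n)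
    (hrat : RatQ K Q) (M : Subgroup (GL (Fin n) F)) (hH : H1Q K Q ≤ M) (u c u' c' : Fin n → K)
    (hu : Q₀ u = 0) (hc : Q₀ c = 0) (huc : polarBilin Q₀ u c = 0)
    (hind : ∀ k₁ k₂ : K, k₁ • u + k₂ • c = 0 → k₁ = 0 ∧ k₂ = 0)
    (hu' : Q₀ u' = 0) (hc' : Q₀ c' = 0) (hu'c' : polarBilin Q₀ u' c' = 0)
    (a : F) (ha : a ∈ ParamSet K Q M u c) : a ∈ ParamSet K Q M u' c' := by
  have : Finite K := Finite.of_injective (fun x : K => (x : F)) Subtype.val_injective
  obtain ⟨x, x', e, e', hperp, hxx, hx'x', hxx', hxe, hx'e, hxe', hx'e'⟩ :=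
    exists_two_hyp hB.nd hn ![u, c, u', c']
  have hxu : polarBilin Q₀ x u = 0 := (hperp 0).1
  have hxc : polarBilin Q₀ x c = 0 := (hperp 1).1
  have hxu' : polarBilin Q₀ x u' = 0 := (hperp 2).1
  have hx'u : polarBilin Q₀ x' u = 0 := (hperp 0).2.1
  have hx'u' : polarBilin Q₀ x' u' = 0 := (hperp 2).2.1
  have hx'c' : polarBilin Q₀ x' c' = 0 := (hperp 3).2.1
  have heu : polarBilin Q₀ e u = 0 := (hperp 0).2.2.1
  have hec : polarBilin Q₀ e c = 0 := (hperp 1).2.2.1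
  have heu' : polarBilin Q₀ e u' = 0 := (hperp 2).2.2.1
  have he'u : polarBilin Q₀ e' u = 0 := (hperp 0).2.2.2
  have he'u' : polarBilin Q₀ e' u' = 0 := (hperp 2).2.2.2
  have he'c' : polarBilin Q₀ e' c' = 0 := (hperp 3).2.2.2
  have hu0 : u ≠ 0 := by
    rintro rfl
    have := hind 1 0 (by simp)
    exact one_ne_zero this.1
  -- step 1: (u,c) → (u,x)
  have s1 : a ∈ ParamSet K Q M u x := by
    apply paramSet_mono hB hQ (by omega) hrat M hH u c x hu hc hxx huc (by rw [hB.symm, hxu])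
      (by rw [hB.symm, hxc]) _ a ha
    intro k₁ k₂ h
    have h1 := congrArg (fun v => polarBilin Q₀ v e) h
    simp only [map_add, map_smul, LinearMap.add_apply, LinearMap.smul_apply, smul_eq_mul] at h1
    rw [hB.symm c e, hec, hB.symm u e, heu, hxe, mul_zero, zero_add, mul_one] at h1
    rw [← h1, zero_smul, add_zero] at h
    have := hind k₁ (-1) (by rw [neg_smul, one_smul, ← h]; exact add_neg_cancel c)
    exact one_ne_zero (neg_eq_zero.mp this.2)
  -- step 2: swap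
  have s2 : a ∈ ParamSet K Q M x u :=
    paramSet_swap hB M u x hu hxx (by rw [hB.symm, hxu]) a s1
  -- step 3: (x,u) → (x,x')
  have s3 : a ∈ ParamSet K Q M x x' := by
    apply paramSet_mono hB hQ (by omega) hrat M hH x u x' hxx hu hx'x' hxu hxx'
      (by rw [hB.symm, hx'u]) _ a s2
    intro k₁ k₂ h
    have h1 := congrArg (fun v => polarBilin Q₀ v e) h
    have h2 := congrArg (fun v => polarBilin Q₀ v e') h
    simp only [map_add, map_smul, LinearMap.add_apply, LinearMap.smul_apply, smul_eq_mul] at h1 h2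
    rw [hB.symm u e, heu, hxe, hx'e, mul_one, mul_zero, add_zero] at h1
    rw [hB.symm u e', he'u, hxe', hx'e', mul_one, mul_zero, zero_add] at h2
    rw [← h1, ← h2, zero_smul, zero_smul, add_zero] at h
    exact hu0 h
  -- step 4: swap
  have s4 : a ∈ ParamSet K Q M x' x := paramSet_swap hB M x x' hxx hx'x' hxx' a s3
  have hx'x : polarBilin Q₀ x' x = 0 := by rw [hB.symm, hxx']
  -- step 5: (x',x) → (x',u')
  have s5 : a ∈ ParamSet K Q M x' u' := by
    apply paramSet_mono hB hQ (by omega) hrat M hH x' x u' hx'x' hxx hu' hx'x hx'u' hxu' _ a s4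
    intro k₁ k₂ h
    have h1 := congrArg (fun v => polarBilin Q₀ v e) h
    simp only [map_add, map_smul, LinearMap.add_apply, LinearMap.smul_apply, smul_eq_mul] at h1
    rw [hxe, hx'e, hB.symm u' e, heu', mul_zero, mul_zero, add_zero] at h1
    exact one_ne_zero h1
  -- step 6: swap
  have s6 : a ∈ ParamSet K Q M u' x' := paramSet_swap hB M x' u' hx'x' hu' hx'u' a s5
  -- step 7: (u',x') → (u',c')
  apply paramSet_mono hB hQ (by omega) hrat M hH u' x' c' hu' hx'x' hc' (by rw [hB.symm, hx'u'])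
    hu'c' hx'c' _ a s6
  intro k₁ k₂ h
  have h1 := congrArg (fun v => polarBilin Q₀ v e') h
  simp only [map_add, map_smul, LinearMap.add_apply, LinearMap.smul_apply, smul_eq_mul] at h1
  rw [hx'e', hB.symm u' e', he'u', hB.symm c' e', he'c', mul_zero, mul_zero, add_zero] at h1
  exact one_ne_zero h1

end asmA2

section asmA3
variable [Fintype F]

omit [Fintype F] in
theorem coe_eq_zero_of (hB : RatForm2 K Q Q₀) {u v : Fin n → K}
    (h : polar (⇑Q) (rvec K u) (rvec K v) = 0) : polarBilin Q₀ u v = 0 := by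
  have := hB.eq u v
  rw [h] at this
  exact_mod_cast this

/-- `Good ⇒ Ω ≤ M` -/
theorem omega_le_of_good (hB : RatForm2 K Q Q₀) (hQ : (polarBilin Q).Nondegenerate) (hn : 13 ≤ n)
    (hrat : RatQ K Q) (r : ℕ) (hr : r.Prime) (hcard : Nat.card F = Nat.card K ^ r)
    (M : Subgroup (GL (Fin n) F)) (hH : H1Q K Q ≤ M) (hg : Good K Q M) :
    Cfsg.Geo.omegaGL ⇑Q ≤ M := by
  have : Finite K := Finite.of_injective (fun x : K => (x : F)) Subtype.val_injective
  obtain ⟨u, c, a, hts, haK, ha⟩ := hg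
  have hu : Q₀ u = 0 := (hB.sing u).mpr hts.hu
  have hc : Q₀ c = 0 := (hB.sing c).mpr hts.hc
  have huc : polarBilin Q₀ u c = 0 := coe_eq_zero_of hB hts.huc
  have hu0 : u ≠ 0 := by
    rintro rfl
    have := hts.indep 1 0 (by simp)
    exact one_ne_zero this.1
  -- an auxiliary configuration
  obtain ⟨x, x', e, e', hperp, hxx, hx'x', hxx', hxe, hx'e, hxe', hx'e'⟩ :=
    exists_two_hyp hB.nd hn ![u, c, u, c]
  have hxu : polarBilin Q₀ x u = 0 := (hperp 0).1
  have hxc : polarBilin Q₀ x c = 0 := (hperp 1).1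
  have heu : polarBilin Q₀ e u = 0 := (hperp 0).2.2.1
  have hec : polarBilin Q₀ e c = 0 := (hperp 1).2.2.1
  have hux : polarBilin Q₀ u x = 0 := by rw [hB.symm, hxu]
  have hcx : polarBilin Q₀ c x = 0 := by rw [hB.symm, hxc]
  obtain ⟨f, hf, hcf, huf, hxf⟩ := exists_partner hB.nd u c x hc huc hxc (by
    intro k₁ k₂ h
    have h1 := congrArg (fun v => polarBilin Q₀ v e) h
    simp only [map_add, map_smul, LinearMap.add_apply, LinearMap.smul_apply, smul_eq_mul] at h1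
    rw [hB.symm c e, hec, hB.symm u e, heu, hxe, mul_zero, zero_add, mul_one] at h1
    rw [← h1, zero_smul, add_zero] at h
    have := hts.indep k₁ (-1) (by rw [neg_smul, one_smul, ← h]; exact add_neg_cancel c)
    exact one_ne_zero (neg_eq_zero.mp this.2))
  have hfx : polarBilin Q₀ f x = 0 := by rw [hB.symm, hxf]
  have hindux : ∀ k₁ k₂ : K, k₁ • u + k₂ • x = 0 → k₁ = 0 ∧ k₂ = 0 := by
    intro k₁ k₂ h
    have h1 := congrArg (fun v => polarBilin Q₀ v e) h
    simp only [map_add, map_smul, LinearMap.add_apply, LinearMap.smul_apply, smul_eq_mul,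
      map_zero, LinearMap.zero_apply] at h1
    rw [hB.symm u e, heu, hxe, mul_zero, zero_add, mul_one] at h1
    rw [h1, zero_smul, add_zero] at h
    rcases smul_eq_zero.mp h with h2 | h2
    · exact ⟨h2, h1⟩
    · exact absurd h2 hu0
  -- the parameter set is everything
  have hall : ∀ y : F, y ∈ ParamSet K Q M u c := by
    apply Cfsg.Agent.Lib.Helper28.S5639.forall_mem_of_subring K r hr hcard (ParamSet K Q M u c)
      (fun k => paramSet_rat hB hQ (by omega) hrat M hH u c hu huc k)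
      (fun a b ha hb => paramSet_add hB M u c hu huc a b ha hb) _ a ha haK
    intro a b ha hb
    have hb' : b ∈ ParamSet K Q M f x :=
      paramSet_le hB hQ hn hrat M hH u c f x hu hc huc hts.indep hf hxx hfx b hb
    have hab := paramSet_mul hB M u c x f hu hc hxx hf huc hux hcx hcf huf hxf a b ha hb'
    exact paramSet_le hB hQ hn hrat M hH u x u c hu hxx hux hindux hu hc huc _ hab
  -- OrX at every rational singular vector
  have hOrX : ∀ p : Fin n → K, p ≠ 0 → Q₀ p = 0 → OrX Q M (rvec K p) := by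
    intro p hp0 hpp
    apply orX_of_forall hB (by omega) M p hp0 hpp
    intro c' a' hc'c' hc'p
    have hpc' : polarBilin Q₀ p c' = 0 := by rw [hB.symm, hc'p]
    by_cases hdep : ∀ k₁ k₂ : K, k₁ • p + k₂ • c' = 0 → k₁ = 0 ∧ k₂ = 0
    · exact paramSet_le hB hQ hn hrat M hH u c p c' hu hc huc hts.indep hpp hc'c' hpc' a' (hall a')
    · push Not at hdep
      obtain ⟨k₁, k₂, h0, hne⟩ := hdep
      have hk₂ : k₂ ≠ 0 := by
        intro h2
        rw [h2, zero_smul, add_zero] at h0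
        rcases smul_eq_zero.mp h0 with h3 | h3
        · exact hne h3 h2
        · exact hp0 h3
      have hc'eq : c' = (-(k₁ / k₂)) • p := by
        have h1 : k₂ • c' = -(k₁ • p) := eq_neg_of_add_eq_zero_right h0
        have h2 : c' = k₂⁻¹ • (k₂ • c') := by rw [smul_smul, inv_mul_cancel₀ hk₂, one_smul]
        rw [h2, h1, smul_neg, smul_smul, neg_smul]
        congr 2
        field_simp
      have e1 : a' • rvec K c' = 0 + (a' * ((-(k₁ / k₂) : K) : F)) • rvec K p := by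
        rw [hc'eq, ← rvec_smul', smul_smul, zero_add]
      rw [e1, sieg_add_smul Q _ _ _ ((hB.sing p).mp hpp) (by rw [polar_zero_right]), sieg_zero]
      exact InM.one M
  -- a hyperbolic pair
  obtain ⟨p, q, hpp, hqq, hpq⟩ := exists_hyp_pair hB.nd (by omega : 3 ≤ n)
  have hp0 : p ≠ 0 := by
    rintro rfl
    simp at hpq
  have hq0 : q ≠ 0 := by
    rintro rfl
    simp at hpq
  have hXp := hOrX p hp0 hpp
  have hXq := hOrX q hq0 hqq
  have hne : polar (⇑Q) (rvec K p) (rvec K q) ≠ 0 := by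
    rw [pol_one hB hpq]
    exact one_ne_zero
  apply omegaGL_le_of_forall hQ (by rw [Fintype.card_fin]; omega)
  intro z hz
  exact OrX.all hQ hXp hXq hne z hz

end asmA3

section asmS
variable [Fintype F]

/-- `SemiGood ⇒ Good` -/
theorem good_of_semigood (hB : RatForm2 K Q Q₀) (hQ : (polarBilin Q).Nondegenerate) (hn : 13 ≤ n)
    (hrat : RatQ K Q) (M : Subgroup (GL (Fin n) F)) (hH : H1Q K Q ≤ M) (hs : SemiGood K Q M) :
    Good K Q M := by
  have : Finite K := Finite.of_injective (fun x : K => (x : F)) Subtype.val_injective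
  obtain ⟨z, x, η, hz0, hzz, hzη, hM, hxz, hxη⟩ := hs
  have hzz' : Q₀ z = 0 := (hB.sing z).mpr hzz
  have hxz' : polarBilin Q₀ x z = 0 := coe_eq_zero_of hB hxz
  -- the key property of singular `c' ⟂ z`
  have key : ∀ c' : Fin n → K, Q₀ c' = 0 → polarBilin Q₀ c' z = 0 →
      InM M (sieg Q (rvec K z) (polar (⇑Q) (rvec K c') η • rvec K c')) := by
    intro c' hc'c' hc'z
    obtain ⟨d, d', hdz, hdc', hd'z, hd'c', hdd'⟩ := exists_dd hB.nd (by omega) z c'
    exact sieg_of_fix hQ (by omega) hrat M hH (rvec K z) η hzz hzη hM c' d d'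
      ((hB.sing c').mp hc'c') (pol_zero hB hc'z) (pol_zero hB hdz) (pol_zero hB hd'z)
      (pol_zero hB (by rw [hB.symm, hdc'])) (pol_zero hB (by rw [hB.symm, hd'c']))
      (pol_one hB hdd')
  by_cases hex : ∃ c' : Fin n → K, Q₀ c' = 0 ∧ polarBilin Q₀ c' z = 0 ∧ polar (⇑Q) (rvec K c') η ∉ K
  · obtain ⟨c', hc'c', hc'z, hnot⟩ := hex
    refine ⟨z, c', polar (⇑Q) (rvec K c') η, ⟨hzz, (hB.sing c').mp hc'c',
      pol_zero hB (by rw [hB.symm, hc'z]), ?_⟩, hnot, key c' hc'c' hc'z⟩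
    intro k₁ k₂ h
    have h1 := congrArg (fun v => polar (⇑Q) (rvec K v) η) h
    simp only [rvec_add, ← rvec_smul', polar_add_left, polar_smul_left, smul_eq_mul, hzη, mul_zero,
      zero_add, rvec_zero, polar_zero_left] at h1
    have hk₂ : k₂ = 0 := by
      rcases mul_eq_zero.mp h1 with h2 | h2
      · exact_mod_cast h2
      · exfalso
        apply hnot
        rw [h2]
        exact K.zero_mem
    rw [hk₂, zero_smul, add_zero] at h
    rcases smul_eq_zero.mp h with h3 | h3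
    · exact ⟨h3, hk₂⟩
    · exact absurd h3 hz0
  · exfalso
    push Not at hex
    apply hxη
    have hmem := span_singular_perp hB.nd (by omega) z hz0 hzz' x hxz'
    refine Submodule.span_induction (p := fun v _ => polar (⇑Q) (rvec K v) η ∈ K) ?_ ?_ ?_ ?_ hmem
    · intro c' hc'
      exact hex c' hc'.1 hc'.2
    · rw [rvec_zero, polar_zero_left]
      exact K.zero_mem
    · intro a b _ _ ha hb
      rw [rvec_add, polar_add_left]
      exact K.add_mem ha hb
    · intro k v _ hv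
      rw [← rvec_smul', polar_smul_left, smul_eq_mul]
      exact K.mul_mem k.2 hv

/-- the low rank case: an impure conjugate centre confined to a rational `4`-space gives `SemiGood` -/
theorem semigood_of_conf (hB : RatForm2 K Q Q₀) (hQ : (polarBilin Q).Nondegenerate) (hn : 13 ≤ n)
    (hrat : RatQ K Q) (M : Subgroup (GL (Fin n) F)) (hH : H1Q K Q ≤ M)
    (g : ↥(Cfsg.isometryGroup F ⇑Q)) (hg : (g : GL (Fin n) F) ∈ M) (u₁ : Fin n → K)
    (hu₁ : Q₀ u₁ = 0) (hu₁0 : u₁ ≠ 0) (himp : Impure K (gact Q g (rvec K u₁)))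
    (hconf : Conf K (gact Q g (rvec K u₁))) : SemiGood K Q M := by
  have : Finite K := Finite.of_injective (fun x : K => (x : F)) Subtype.val_injective
  obtain ⟨w, hwdef⟩ : ∃ w, w = gact Q g (rvec K u₁) := ⟨_, rfl⟩
  rw [← hwdef] at himp hconf
  have hQu₁ : Q (rvec K u₁) = 0 := (hB.sing u₁).mp hu₁
  have hQw : Q w = 0 := by rw [hwdef, Q_gact, hQu₁]
  obtain ⟨rr, aa, hw⟩ := hconf
  obtain ⟨c, e, d, d', hperp, hcc, hce, hdc, hd'c, hdd'⟩ := exists_cedd hB.nd hn rr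
  -- vectors perpendicular to all `rr i` are perpendicular to `w`
  have hperpw : ∀ v : Fin n → K, (∀ i, polarBilin Q₀ v (rr i) = 0) → polar (⇑Q) (rvec K v) w = 0 := by
    intro v hv
    rw [hw, ← polarBilin_apply_apply, map_sum]
    apply Finset.sum_eq_zero
    intro i _
    rw [map_smul, polarBilin_apply_apply, pol_zero hB (hv i), smul_zero]
  have hcw := hperpw c (fun i => (hperp i).1)
  have hew := hperpw e (fun i => (hperp i).2.1)
  have hdw := hperpw d (fun i => (hperp i).2.2.1)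
  have hd'w := hperpw d' (fun i => (hperp i).2.2.2)
  have hc0 : c ≠ 0 := by
    rintro rfl
    simp at hce
  -- two independent values, moved into `c^⟂`
  obtain ⟨x₁', x₂', hind⟩ := exists_indep_of_impure hB hQ w himp
  obtain ⟨x₁, hx₁⟩ : ∃ x₁, x₁ = x₁' - (polarBilin Q₀ x₁' c) • e := ⟨_, rfl⟩
  obtain ⟨x₂, hx₂⟩ : ∃ x₂, x₂ = x₂' - (polarBilin Q₀ x₂' c) • e := ⟨_, rfl⟩
  have hec : polarBilin Q₀ e c = 1 := by rw [hB.symm, hce]
  have hx₁c : polarBilin Q₀ x₁ c = 0 := by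
    rw [hx₁, map_sub, map_smul, LinearMap.sub_apply, LinearMap.smul_apply, hec, smul_eq_mul, mul_one,
      sub_self]
  have hx₂c : polarBilin Q₀ x₂ c = 0 := by
    rw [hx₂, map_sub, map_smul, LinearMap.sub_apply, LinearMap.smul_apply, hec, smul_eq_mul, mul_one,
      sub_self]
  have hx₁w : polar (⇑Q) (rvec K x₁) w = polar (⇑Q) (rvec K x₁') w := by
    rw [hx₁, rvec_sub, ← rvec_smul', polar_sub_left, polar_smul_left, hew, smul_zero, sub_zero]
  have hx₂w : polar (⇑Q) (rvec K x₂) w = polar (⇑Q) (rvec K x₂') w := by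
    rw [hx₂, rvec_sub, ← rvec_smul', polar_sub_left, polar_smul_left, hew, smul_zero, sub_zero]
  -- a Siegel element centred at `w`
  obtain ⟨z', hz'u₁, hz'ne⟩ := exists_y2 hB hQ g u₁ hu₁0 (by rw [← hwdef]; exact himp) c hc0
  have hM1 : InM M (sieg Q w (gact Q g (rvec K z'))) := by
    rw [hwdef]
    exact InM.sieg_conj g hg hQu₁ (pol_zero hB hz'u₁)
      ((rat_sieg_mem hQ (by omega) hrat u₁ z' hQu₁ (pol_zero hB hz'u₁)).mono hH)
  have hwy : polar (⇑Q) w (gact Q g (rvec K z')) = 0 := by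
    rw [hwdef, polar_gact, pol_zero hB hz'u₁]
  obtain ⟨β, hβ⟩ : ∃ β, β = polar (⇑Q) (rvec K c) (gact Q g (rvec K z')) := ⟨_, rfl⟩
  have hM2 : InM M (sieg Q w (β • rvec K c)) := by
    rw [hβ]
    exact sieg_of_fix hQ (by omega) hrat M hH w _ hQw hwy hM1 c d d' ((hB.sing c).mp hcc) hcw hdw
      hd'w (pol_zero hB (by rw [hB.symm, hdc])) (pol_zero hB (by rw [hB.symm, hd'c]))
      (pol_one hB hdd')
  have hβ0 : β ≠ 0 := by rw [hβ]; exact hz'ne
  have hM3 : InM M (sieg Q (rvec K c) ((-β) • w)) := by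
    rw [← sieg_swap Q w (rvec K c) β hQw ((hB.sing c).mp hcc)]
    exact hM2
  have hcη : polar (⇑Q) (rvec K c) ((-β) • w) = 0 := by
    rw [polar_smul_right, hcw, smul_zero]
  -- one of `x₁`, `x₂` works
  by_cases h1 : polar (⇑Q) (rvec K x₁) ((-β) • w) ∈ K
  · by_cases h2 : polar (⇑Q) (rvec K x₂) ((-β) • w) ∈ K
    · exfalso
      rw [polar_smul_right, smul_eq_mul, hx₁w] at h1
      rw [polar_smul_right, smul_eq_mul, hx₂w] at h2
      obtain ⟨k₁, hk₁⟩ : ∃ k₁ : K, (k₁ : F) = -β * polar (⇑Q) (rvec K x₁') w := ⟨⟨_, h1⟩, rfl⟩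
      obtain ⟨k₂, hk₂⟩ : ∃ k₂ : K, (k₂ : F) = -β * polar (⇑Q) (rvec K x₂') w := ⟨⟨_, h2⟩, rfl⟩
      have hrel := hind k₂ (-k₁) (by
        push_cast
        rw [hk₁, hk₂]
        ring)
      have hk₂0 : (k₂ : F) = 0 := by rw [hrel.1]; rfl
      rw [hk₂] at hk₂0
      have hp2 : polar (⇑Q) (rvec K x₂') w = 0 :=
        (mul_eq_zero.mp hk₂0).resolve_left (neg_ne_zero.mpr hβ0)
      have := hind 0 1 (by rw [hp2]; simp)
      exact one_ne_zero this.2
    · exact ⟨c, x₂, (-β) • w, hc0, (hB.sing c).mp hcc, hcη, hM3, pol_zero hB hx₂c, h2⟩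
  · exact ⟨c, x₁, (-β) • w, hc0, (hB.sing c).mp hcc, hcη, hM3, pol_zero hB hx₁c, h1⟩

end asmS


section asmD
variable [Fintype F]

/-- Part D: an impure image gives `SemiGood` (Sylow trick) -/
theorem semigood_of_impure (hB : RatForm2 K Q Q₀) (hQ : (polarBilin Q).Nondegenerate) (hn : 13 ≤ n)
    (hrat : RatQ K Q) (M : Subgroup (GL (Fin n) F)) (hH : H1Q K Q ≤ M)
    (h : ↥(Cfsg.isometryGroup F ⇑Q)) (hhM : (h : GL (Fin n) F) ∈ M) (u : Fin n → K)
    (hu : Q₀ u = 0) (hu0 : u ≠ 0) (himp : Impure K (gact Q h (rvec K u))) : SemiGood K Q M := by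
  have : Finite K := Finite.of_injective (fun x : K => (x : F)) Subtype.val_injective
  by_cases hconf : Conf K (gact Q h (rvec K u))
  · exact semigood_of_conf hB hQ hn hrat M hH h hhM u hu hu0 himp hconf
  obtain ⟨v, hv⟩ : ∃ v, v = gact Q h (rvec K u) := ⟨_, rfl⟩
  rw [← hv] at himp hconf
  have hQu : Q (rvec K u) = 0 := (hB.sing u).mp hu
  have hv0 : v ≠ 0 := by
    rintro rfl
    apply himp 0 0
    rw [zero_smul]
  -- a rational singular `u₁` with `B(v,u₁) ≠ 0`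
  obtain ⟨u₁, hu₁, hvu₁⟩ : ∃ u₁ : Fin n → K, Q₀ u₁ = 0 ∧ polar (⇑Q) v (rvec K u₁) ≠ 0 := by
    by_contra hcon
    push Not at hcon
    apply hv0
    have h1 : ∀ x : Fin n → K, polar (⇑Q) v (rvec K x) = 0 := by
      intro x
      have hx := span_singular hB.nd (by omega) x
      induction hx using Submodule.span_induction with
      | mem x hx => exact hcon x hx
      | zero => rw [rvec_zero, polar_zero_right]
      | add x y _ _ hx hy => rw [rvec_add, polar_add_right, hx, hy, add_zero]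
      | smul a x _ hx => rw [rvec_smul, polar_smul_right, hx, smul_zero]
    apply hQ.2 v
    intro y
    rw [polarBilin_apply_apply]
    apply polar_single_sum
    intro j
    rw [← rvec_single K j, polar_comm]
    exact h1 _
  have hu₁0 : u₁ ≠ 0 := by
    rintro rfl
    apply hvu₁
    rw [rvec_zero, polar_zero_right]
  -- a rational singular `c₁ ⟂ u₁` with `B(v,c₁) ∉ K B(v,u₁)`
  obtain ⟨c₁, hc₁, hu₁c₁, hratio⟩ : ∃ c₁ : Fin n → K, Q₀ c₁ = 0 ∧ polarBilin Q₀ u₁ c₁ = 0 ∧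
      ∀ k₁ : K, polar (⇑Q) v (rvec K c₁) ≠ (k₁ : F) * polar (⇑Q) v (rvec K u₁) := by
    by_contra hcon
    push Not at hcon
    exact hconf (conf_of_ratio hB hQ (by omega) v u₁ hu₁ hvu₁ hcon)
  have hQu₁ : Q (rvec K u₁) = 0 := (hB.sing u₁).mp hu₁
  have hQc₁ : Q (rvec K c₁) = 0 := (hB.sing c₁).mp hc₁
  have hpu₁c₁ : polar (⇑Q) (rvec K u₁) (rvec K c₁) = 0 := hB.pol_zero hu₁c₁
  have hvc₁ : polar (⇑Q) v (rvec K c₁) ≠ 0 := by
    intro h0
    apply hratio 0
    rw [h0]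
    simp
  -- `u₁`, `c₁` are independent
  have hind : ∀ k₁ k₂ : K, k₁ • u₁ + k₂ • c₁ = 0 → k₁ = 0 ∧ k₂ = 0 := by
    intro k₁ k₂ h0
    have h1 := congrArg (fun x => polar (⇑Q) v (rvec K x)) h0
    simp only [rvec_add, rvec_smul, polar_add_right, polar_smul_right, smul_eq_mul, rvec_zero,
      polar_zero_right] at h1
    by_cases hk₂ : k₂ = 0
    · subst hk₂
      simp only [ZeroMemClass.coe_zero, zero_mul, add_zero] at h1
      rcases mul_eq_zero.mp h1 with h2 | h2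
      · exact ⟨Subtype.ext h2, rfl⟩
      · exact absurd h2 hvu₁
    · exfalso
      apply hratio (-k₁ / k₂)
      have hk₂' : (k₂ : F) ≠ 0 := fun h0 => hk₂ (Subtype.ext h0)
      push_cast
      field_simp
      linear_combination h1
  -- the conjugated long root element
  obtain ⟨w, hw⟩ : ∃ w, w = gact Q h⁻¹ (rvec K u₁) := ⟨_, rfl⟩
  obtain ⟨y, hy⟩ : ∃ y, y = gact Q h⁻¹ (rvec K c₁) := ⟨_, rfl⟩
  have hhw : gact Q h w = rvec K u₁ := by rw [hw, gact_gact_inv]
  have hhy : gact Q h y = rvec K c₁ := by rw [hy, gact_gact_inv]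
  have hQw : Q w = 0 := by rw [hw, Q_gact, hQu₁]
  have hQy : Q y = 0 := by rw [hy, Q_gact, hQc₁]
  have hwy : polar (⇑Q) w y = 0 := by rw [hw, hy, polar_gact, hpu₁c₁]
  have hinvM : ((h⁻¹ : ↥(Cfsg.isometryGroup F ⇑Q)) : GL (Fin n) F) ∈ M := by
    have : ((h⁻¹ : ↥(Cfsg.isometryGroup F ⇑Q)) : GL (Fin n) F) = (h : GL (Fin n) F)⁻¹ := rfl
    rw [this]
    exact M.inv_mem hhM
  have hbM : InM M (sieg Q w y) := by
    rw [hw, hy]
    exact InM.sieg_conj h⁻¹ hinvM hQu₁ hpu₁c₁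
      ((rat_sieg_mem hQ (by omega) hrat u₁ c₁ hQu₁ hpu₁c₁).mono hH)
  have huw : polar (⇑Q) (rvec K u) w = polar (⇑Q) v (rvec K u₁) := by
    rw [← polar_gact Q h, hhw, hv]
  have huy : polar (⇑Q) (rvec K u) y = polar (⇑Q) v (rvec K c₁) := by
    rw [← polar_gact Q h, hhy, hv]
  -- the vector `q`
  obtain ⟨q, hq⟩ : ∃ q, q = polar (⇑Q) (rvec K u) w • y - polar (⇑Q) (rvec K u) y • w := ⟨_, rfl⟩
  have hhq : gact Q h q = polar (⇑Q) v (rvec K u₁) • rvec K c₁ -
      polar (⇑Q) v (rvec K c₁) • rvec K u₁ := by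
    rw [hq, gact_sub, gact_smul, gact_smul, hhw, hhy, huw, huy]
  -- a rational singular `c ⟂ u` with `B(c,q) ≠ 0`
  obtain ⟨c, hc, hcu, hcq⟩ : ∃ c : Fin n → K, Q₀ c = 0 ∧ polarBilin Q₀ c u = 0 ∧
      polar (⇑Q) q (rvec K c) ≠ 0 := by
    by_contra hcon
    push Not at hcon
    obtain ⟨l, hl⟩ := smul_of_perp_rat_sing hQ u hu0
      (fun w' hw' => span_F_singular_perp hB (by omega) u hu0 hu w' hw') q hcon
    apply hconf
    have h1 : polar (⇑Q) v (rvec K u₁) • rvec K c₁ - polar (⇑Q) v (rvec K c₁) • rvec K u₁ =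
        l • v := by
      rw [← hhq, hl, gact_smul, hv]
    have hl0 : l ≠ 0 := by
      rintro rfl
      rw [zero_smul] at h1
      have h2 := congrArg (fun x => polar (⇑Q) x (rvec K u₁)) h1
      obtain ⟨e, hce, hue⟩ := exists_dual hB.nd u₁ c₁ (by
        intro k₁ hk
        have := hind k₁ (-1) (by rw [hk]; simp)
        exact one_ne_zero (neg_eq_zero.mp this.2))
      have h3 := congrArg (fun x => polar (⇑Q) x (rvec K e)) h1
      simp only [polar_sub_left, polar_smul_left, smul_eq_mul, polar_zero_left] at h3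
      rw [hB.pol_one hce, hB.pol_zero hue, mul_one, mul_zero, sub_zero] at h3
      exact hvu₁ h3
    refine ⟨![c₁, u₁, 0, 0], ![l⁻¹ * polar (⇑Q) v (rvec K u₁), -(l⁻¹ * polar (⇑Q) v (rvec K c₁)), 0, 0], ?_⟩
    have h2 : v = l⁻¹ • (polar (⇑Q) v (rvec K u₁) • rvec K c₁ -
        polar (⇑Q) v (rvec K c₁) • rvec K u₁) := by
      rw [h1, smul_smul, inv_mul_cancel₀ hl0, one_smul]
    rw [Fin.sum_univ_four]
    simp only [Matrix.cons_val_zero, Matrix.cons_val_one, Matrix.head_cons, Matrix.cons_val_two,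
      Matrix.tail_cons, Matrix.cons_val_three, rvec_zero, smul_zero, add_zero]
    conv_lhs => rw [h2]
    rw [smul_sub, smul_smul, smul_smul, neg_smul, sub_eq_add_neg]
  have hpuc : polar (⇑Q) (rvec K u) (rvec K c) = 0 := by
    rw [polar_comm]; exact hB.pol_zero hcu
  have hQc : Q (rvec K c) = 0 := (hB.sing c).mp hc
  have hΔ : polar (⇑Q) (rvec K u) w * polar (⇑Q) (rvec K c) y -
      polar (⇑Q) (rvec K u) y * polar (⇑Q) (rvec K c) w ≠ 0 := by
    intro h0
    apply hcq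
    rw [hq, polar_sub_left, polar_smul_left, polar_smul_left, smul_eq_mul, smul_eq_mul,
      polar_comm (⇑Q) y, polar_comm (⇑Q) w (rvec K c)]
    exact h0
  have haM : InM M (sieg Q (rvec K u) (rvec K c)) :=
    (rat_sieg_mem hQ (by omega) hrat u c hQu hpuc).mono hH
  obtain ⟨δ, hδM, β, hβ, hδu⟩ := exists_sylow_conj4 Q M (rvec K u) (rvec K c) w y hQu hQc hpuc hQw hQy
    hwy hΔ haM hbM
  -- `γ = h δ`
  have hγM : ((h * δ : ↥(Cfsg.isometryGroup F ⇑Q)) : GL (Fin n) F) ∈ M := M.mul_mem hhM hδM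
  have hγu : gact Q (h * δ) (rvec K u) = (β * polar (⇑Q) v (rvec K c₁)) • rvec K u₁ -
      (β * polar (⇑Q) v (rvec K u₁)) • rvec K c₁ := by
    rw [gact_mul, hδu, gact_smul, gact_sub, gact_smul, gact_smul, hhw, hhy, huw, huy, smul_sub,
      smul_smul, smul_smul]
  have hγimp : Impure K (gact Q (h * δ) (rvec K u)) := by
    rw [hγu]
    apply impure_of_ratio hB u₁ c₁ hind _ _ (mul_ne_zero hβ hvu₁)
    intro k₁ hk
    apply hratio k₁
    have : β * polar (⇑Q) v (rvec K c₁) = β * ((k₁ : F) * polar (⇑Q) v (rvec K u₁)) := by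
      rw [hk]; ring
    exact mul_left_cancel₀ hβ this
  have hγconf : Conf K (gact Q (h * δ) (rvec K u)) := by
    refine ⟨![u₁, c₁, 0, 0], ![β * polar (⇑Q) v (rvec K c₁), -(β * polar (⇑Q) v (rvec K u₁)), 0, 0], ?_⟩
    rw [hγu, Fin.sum_univ_four]
    simp only [Matrix.cons_val_zero, Matrix.cons_val_one, Matrix.head_cons, Matrix.cons_val_two,
      Matrix.tail_cons, Matrix.cons_val_three, rvec_zero, smul_zero, add_zero]
    rw [neg_smul, sub_eq_add_neg]
  exact semigood_of_conf hB hQ hn hrat M hH (h * δ) hγM u hu hu0 hγimp hγconf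

end asmD

section asmM
variable [Fintype F]

theorem H1Q_lt2 (hB : RatForm2 K Q Q₀) (hQ : (polarBilin Q).Nondegenerate) (hn : 5 ≤ n)
    (a : F) (ha : a ∉ K) : H1Q K Q < Cfsg.Geo.omegaGL ⇑Q := by
  have hfinK : Finite K := Finite.of_injective (fun x : K => (x : F)) Subtype.val_injective
  obtain ⟨u, v, huu, hvv, huv⟩ := exists_hyp_pair hB.nd (by omega : 3 ≤ n)
  have hu0 : u ≠ 0 := by
    rintro rfl
    simp at huv
  obtain ⟨c, e, hcc, huc, hce, hue⟩ := exists_ts_partner hB.nd hn u hu0 huu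
  have hQu : Q (rvec K u) = 0 := (hB.sing u).mp huu
  have hQc : Q (rvec K c) = 0 := (hB.sing c).mp hcc
  have puc : polar (⇑Q) (rvec K u) (rvec K c) = 0 := hB.pol_zero huc
  have pce : polar (⇑Q) (rvec K c) (rvec K e) = 1 := hB.pol_one hce
  have pue : polar (⇑Q) (rvec K u) (rvec K e) = 0 := hB.pol_zero hue
  have puac : polar (⇑Q) (rvec K u) (a • rvec K c) = 0 := by
    rw [polar_smul_right, puc, smul_zero]
  rw [SetLike.lt_iff_le_and_exists]
  refine ⟨inf_le_right,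
    ((siegIso Q (rvec K u) (a • rvec K c) hQu puac : ↥(Cfsg.isometryGroup F ⇑Q)) : GL (Fin n) F),
    ?_, ?_⟩
  · exact (mem_omegaGL_iff Q _).mpr ⟨siegIso Q (rvec K u) (a • rvec K c) hQu puac,
      siegIso_mem_Omega Q hQ (by rw [Fintype.card_fin]; exact hn) _ _ hQu puac, rfl⟩
  · intro hmem
    exact Cfsg.Agent.Lib.Helper6.S5683FOS.not_mem_subfield_of_triple u c e hu0 a ha hQu hQc puc pce
      pue _ (siegIso_val Q _ _ hQu puac) hmem.1

/-- the case `P = 1`, any characteristic -/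
theorem maximal_one2 (Q : QuadraticForm F (Fin n → F)) (hQ : (polarBilin Q).Nondegenerate)
    (hn : 13 ≤ n) (K : Subfield F) (hrat : RatQ K Q) (r : ℕ) (hr : r.Prime)
    (hcard : Nat.card F = Nat.card K ^ r) :
    Cfsg.Geo.IsMaximalIn (Cfsg.Geo.omegaGL ⇑Q) (H1Q K Q) := by
  have : Finite K := Finite.of_injective (fun x : K => (x : F)) Subtype.val_injective
  obtain ⟨Q₀, hB⟩ := exists_rat_form2 Q hQ K hrat
  obtain ⟨a, ha⟩ := Cfsg.Agent.Lib.Helper1.SubfSLMain.exists_not_mem K r hr hcard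
  refine ⟨H1Q_lt2 hB hQ (by omega) a ha, ?_⟩
  intro M hHM hMΩ
  by_cases hle : M ≤ H1Q K Q
  · exact Or.inl (le_antisymm hle hHM)
  right
  apply le_antisymm hMΩ
  obtain ⟨g₀, hg₀M, hg₀H⟩ := SetLike.not_le_iff_exists.mp hle
  have hg₀Ω := hMΩ hg₀M
  obtain ⟨g, -, hgg₀⟩ := (mem_omegaGL_iff Q g₀).mp hg₀Ω
  have hgM : (g : GL (Fin n) F) ∈ M := by rw [hgg₀]; exact hg₀M
  have hgS : (g : GL (Fin n) F) ∉ Cfsg.Geo.subfieldSubgroup K (1 : GL (Fin n) F) := by
    intro h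
    apply hg₀H
    rw [← hgg₀]
    exact ⟨h, by rw [hgg₀]; exact hg₀Ω⟩
  -- an impure image of a rational singular vector
  obtain ⟨u₁, hu₁, himp⟩ : ∃ u₁ : Fin n → K, Q₀ u₁ = 0 ∧ Impure K (gact Q g (rvec K u₁)) := by
    by_contra hne
    push Not at hne
    apply hgS
    obtain ⟨l, Bm, hl, hlB⟩ := exists_rational_of_pure_singular2
      (by omega : 5 ≤ n) K Q₀ hB.nd (g : GL (Fin n) F) (by
        intro u hu
        have := hne u hu
        unfold Impure at this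
        push Not at this
        obtain ⟨l, r', h⟩ := this
        exact ⟨l, r', h⟩)
    exact mem_subfield_one_of_eq K _ l hl Bm hlB
  have hu₁0 : u₁ ≠ 0 := by
    rintro rfl
    apply himp 0 0
    rw [rvec_zero, gact_zero, smul_zero]
  exact omega_le_of_good hB hQ hn hrat r hr hcard M hHM
    (good_of_semigood hB hQ hn hrat M hHM
      (semigood_of_impure hB hQ hn hrat M hHM g hgM u₁ hu₁ hu₁0 himp))

end asmM

section final

/-- S5702 -/
theorem result' {F : Type*} [Field F] [Fintype F] {n : ℕ} (hn : 13 ≤ n) (Q : (Fin n → F) → F)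
    (hQ : Cfsg.Geo.IsNondegenerateQuadraticForm Q) (F₀ : Subfield F) (r : ℕ) (hr : r.Prime)
    (hcard : Fintype.card F = Nat.card F₀ ^ r) (P : Matrix.GeneralLinearGroup (Fin n) F) (ζ : F)
    (hζ : ζ ≠ 0)
    (hP : Cfsg.Geo.IsQuadFormRationalStructure (fun v : Fin n → F => ζ * Q v) F₀ P) :
    Cfsg.Geo.IsMaximalIn (Cfsg.Geo.omegaGL Q)
      (Cfsg.Geo.subfieldSubgroup F₀ P ⊓ Cfsg.Geo.omegaGL Q) := by
  obtain ⟨Q', hQ', hrat, himp⟩ := bridge_even Q hQ F₀ P ζ hζ hP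
  apply himp
  apply maximal_one2 Q' hQ' hn F₀ hrat r hr
  rw [Nat.card_eq_fintype_card]
  exact hcard

end final

end Cfsg.Agent.Lib.Helper1.OrthSubf2Main
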