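import Mathlib
import Cfsg.Agent.Lib.Helper1.SubfSLEmb
import Cfsg.Agent.Lib.Helper15.Dk21
import Cfsg.Agent.Lib.Helper6.S5639FOD2
import Cfsg.Agent.Lib.Helper6.S5639FOD3
import Cfsg.Agent.Lib.Helper23.S5639FOD1

/-!
# The Dickson step (pure SL₂ statement used for subfield maximality in the full rank case, odd characteristic)
-/

set_option autoImplicit false

open Matrix Cfsg.Agent.Lib.Helper13 Cfsg.Agent.Lib.Helper1.SubfSL
open Cfsg.Agent.Lib.Helper15.Dk Cfsg.Agent.Lib.Helper14 Cfsg.Agent.Lib.Helper15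

namespace Cfsg.Agent.Lib.Helper1.SubfSLDickson

variable {F : Type*} [Field F] [Fintype F]

/-- **Dickson step** (odd characteristic), a pure `SL₂(F)` statement.  Let `K` be a subfield of the finite field `F`
with `|F| = |K|^r`, `r ≥ 11` prime, and `κ ∉ K`.  If a subgroup `D ≤ SL₂(F)` contains the unipotent elements
`uu (s κ)` for all `s ∈ K` and the element `Wm = [[0,-1],[1,2]]`, then it contains `uu (k κ)` for some `k ∉ K`. -/
theorem dickson_step (p : ℕ) [Fact p.Prime] [CharP F p] (hp2 : (2 : F) ≠ 0)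
    (K : Subfield F) (r : ℕ) (hr : r.Prime) (hr11 : 11 ≤ r)
    (hcard : Nat.card F = Nat.card K ^ r) (κ : F) (hκ : κ ∉ K)
    (D : Subgroup (SpecialLinearGroup (Fin 2) F))
    (huD : ∀ s : K, uu ((s : F) * κ) ∈ D)
    (hWD : (Wm : SpecialLinearGroup (Fin 2) F) ∈ D) :
    ∃ k : F, k ∉ K ∧ uu (k * κ) ∈ D := by
  classical
  have hκ0 : κ ≠ 0 := by
    rintro rfl
    exact hκ K.zero_mem
  have huκ : uu κ ∈ D := by
    have := huD 1
    rwa [Subfield.coe_one, one_mul] at this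
  set H : Subgroup (ProjectiveSpecialLinearGroup (Fin 2) F) := D.map (toPSL2 F) with hHdef
  have hHu : toPSL2 F (uu κ) ∈ H := Subgroup.mem_map_of_mem _ huκ
  have hHW : toPSL2 F Wm ∈ H := Subgroup.mem_map_of_mem _ hWD
  have hw0 : ((Wm : SpecialLinearGroup (Fin 2) F) : Matrix (Fin 2) (Fin 2) F) 0 0 = 0 := by
    simp [Wm]
  rcases dickson_aux_refined p H κ hκ0 hHu Wm hHW hw0 with hc | ht' | ⟨hA5, -⟩
  · exact Cfsg.Agent.Lib.Helper23.S5639FOD1.app_cfg hp2 K κ hκ D hWD hc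
  · exact absurd ht' (Cfsg.Agent.Lib.Helper6.S5639FOD2.app_torus hp2 κ hκ0 H hHu hHW)
  · exact absurd hA5 (Cfsg.Agent.Lib.Helper6.S5639FOD3.app_A5 hp2 K r hr hr11 hcard κ hκ H hHu hHW)

end Cfsg.Agent.Lib.Helper1.SubfSLDickson
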