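import Mathlib
import Cfsg.Agent.Lib.Helper1.OrthSubfDefs
import Cfsg.Agent.Lib.Helper1.SubfSLEmb
import Cfsg.Agent.Lib.Helper1.SubfSLDickson
import Cfsg.Agent.Lib.Helper10.PureSingular
import Cfsg.Agent.Lib.Helper28.S5639FOALG
import Cfsg.Agent.Lib.Helper1.SubfSLMain
import Cfsg.Agent.Lib.Helper1.OrthSubfRat
import Cfsg.Agent.H5.S5683FOEMB
import Cfsg.Agent.Lib.Helper10.S5683FOG
import Cfsg.Agent.Lib.Helper12.S5683FOG5
import Cfsg.Agent.Lib.Helper2.S5683FOC1b
import Cfsg.Agent.Lib.Helper2.S5683FOC2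
import Cfsg.Agent.Lib.Helper22.S5683FOC2
import Cfsg.Agent.Lib.Helper24.S5683FOP
import Cfsg.Agent.Lib.Helper6.S5683FOA5
import Cfsg.Agent.Lib.Helper6.S5683FOCOMM
import Cfsg.Agent.Lib.Helper6.S5683FOFIX
import Cfsg.Agent.Lib.Helper6.S5683FOS

/-!
# S5683: the subfield group `(GL_n(F₀)·F^×)^P ∩ Ω_n(F)` is maximal in `Ω_n(F)` (`n = 2m+1 ≥ 13`, `|F|` odd, `|F| = |F₀|^r`)

Assembly of the farm-out pieces (see `notes/S5683Skel_helper1.lean.txt` for the paper proof).  `maximal_one` is the general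
statement for a nondegenerate `K`-rational quadratic form on `F^n`, `n ≥ 13`, odd characteristic.
-/

set_option autoImplicit false

namespace Cfsg.Agent.Lib.Helper1.OrthSubfMain

open Matrix QuadraticMap Cfsg.Agent.Lib.Helper6 Cfsg.Agent.Lib.Helper13 Cfsg.Agent.Lib.Helper1.SubfSL
open Cfsg.Agent.Lib.Helper1.OrthSubf Cfsg.Agent.Lib.Helper15.Dk Cfsg.Agent.Lib.Helper14 Cfsg.Agent.Lib.Helper15

/-! ## Part G: geometry of a nondegenerate symmetric bilinear form over a finite field `k` (odd characteristic)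
All statements are about `B : (Fin n → k) →ₗ[k] (Fin n → k) →ₗ[k] k` with `h : IsS B` (helper13 `SymForm`: symmetric,
nondegenerate, `2 ≠ 0`; lemmas `exists_singular_in`, `exists_noniso_in`, `IsS.nd'`, `IsS.exists_riesz`,
`IsS.exists_iso_sum`, `IsS.exists_conn`, `NDOn`, ...). -/

section geomK
variable {k : Type*} [Field k] [Finite k] {n : ℕ} {B : (Fin n → k) →ₗ[k] (Fin n → k) →ₗ[k] k}

/-- FO-G1 (~120 l).  For singular `z ≠ 0`, every `x ⟂ z` is a `k`-combination of singular vectors `⟂ z`.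
Proof: if `B x x = 0` take `x`.  Else pick `f` with `B z f = 1`; the subspace `⟨z,x,f⟩^⟂` has dimension `≥ n-3 ≥ 3`, so it
contains a singular `e ≠ 0` (`exists_singular_in`); pick `e'₀` with `B e e'₀ = 1`, `e'₀ ⟂ z, x` (Riesz: `e ∉ ⟨z,x⟩` because
`e ⟂ f`, `B x x ≠ 0`), make it singular: `e' = e'₀ - (B e'₀ e'₀ / 2) e`.  Then `s = x - (B x x / 2) e + e'` is singular
(`B s s = B x x - (B x x)·B(e,e') ... = 0`, check) and `x = s + (B x x / 2) e - e'`, all three singular and `⟂ z`. -/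
theorem span_singular_perp (h : IsS B) (hn : 6 ≤ n) (z : Fin n → k) (hz0 : z ≠ 0) (hzz : B z z = 0)
    (x : Fin n → k) (hx : B x z = 0) :
    x ∈ Submodule.span k {c : Fin n → k | B c c = 0 ∧ B c z = 0} := Cfsg.Agent.Lib.Helper10.S5683FOG.span_singular_perp h hn z hz0 hzz x hx

/-- FO-G2 (~40 l).  `⟨z,c⟩^⟂` has dimension `≥ n - 2 > n/2`, so it contains a nonsingular `d` (`IsS.exists_noniso_in`);
`d' = (B d d)⁻¹ • d`. -/
theorem exists_dd (h : IsS B) (hn : 5 ≤ n) (z c : Fin n → k) :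
    ∃ d d' : Fin n → k, B d z = 0 ∧ B d c = 0 ∧ B d' z = 0 ∧ B d' c = 0 ∧ B d d' = 1 := Cfsg.Agent.Lib.Helper10.S5683FOG.exists_dd h hn z c

/-- FO-G3 (~150 l).  `R' = {x | ∀ i, B x (r i) = 0}` has dimension `≥ n - 4 ≥ 9 > n/2`: nonsingular `d ∈ R'`,
`d' = (B d d)⁻¹ • d`.  `R'' = R' ⊓ d^⟂` has dimension `≥ 8`; a complement `S` in `R''` of `R'' ⊓ span (range r)` has dimension
`≥ 4 ≥ 3`, so it contains a singular `c ≠ 0`, and `c ∉ span (range r) = R'^⟂`, so some `e ∈ R'` has `B c e = 1`. -/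
theorem exists_cedd (h : IsS B) (hn : 13 ≤ n) (r : Fin 4 → Fin n → k) :
    ∃ c e d d' : Fin n → k, (∀ i, B c (r i) = 0 ∧ B e (r i) = 0 ∧ B d (r i) = 0 ∧ B d' (r i) = 0) ∧
      B c c = 0 ∧ B c e = 1 ∧ B d c = 0 ∧ B d' c = 0 ∧ B d d' = 1 := Cfsg.Agent.Lib.Helper10.S5683FOG.exists_cedd h hn r

/-- FO-G4 (~150 l).  Two orthogonal hyperbolic pairs `(x,e)`, `(x',e')` inside `W = {v i}^⟂` (dimension `≥ 9`, radical of
dimension `≤ 4`, so a complement of the radical is nondegenerate of dimension `≥ 5`). -/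
theorem exists_two_hyp (h : IsS B) (hn : 13 ≤ n) (v : Fin 4 → Fin n → k) :
    ∃ x x' e e' : Fin n → k, (∀ i, B x (v i) = 0 ∧ B x' (v i) = 0 ∧ B e (v i) = 0 ∧ B e' (v i) = 0) ∧
      B x x = 0 ∧ B x' x' = 0 ∧ B x x' = 0 ∧ B x e = 1 ∧ B x' e = 0 ∧ B x e' = 0 ∧ B x' e' = 1 := Cfsg.Agent.Lib.Helper10.S5683FOG.exists_two_hyp h hn v

/-- FO-G5 (~60 l).  A singular partner: `c` singular, `c ⟂ u, c'`, `c ∉ ⟨u, c'⟩`: Riesz (`IsS.exists_riesz` / nondegeneracy)
gives `e₀` with `B c e₀ = 1`, `B u e₀ = 0 = B c' e₀`; `f = e₀ - (B e₀ e₀ / 2) • c`. -/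
theorem exists_partner (h : IsS B) (u c c' : Fin n → k) (hcc : B c c = 0) (huc : B u c = 0)
    (hc'c : B c' c = 0) (hind : ∀ k₁ k₂ : k, c ≠ k₁ • u + k₂ • c') :
    ∃ f : Fin n → k, B f f = 0 ∧ B c f = 1 ∧ B u f = 0 ∧ B c' f = 0 := Cfsg.Agent.Lib.Helper12.S5683G.exists_partner h u c c' hcc huc hc'c hind

/-- FO-G7 (~40 l).  A hyperbolic pair (`exists_singular_in` on `⊤`, `IsS.nd'`, then `v = y - (B y y / 2) u` scaled). -/
theorem exists_hyp_pair (h : IsS B) (hn : 3 ≤ n) :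
    ∃ u v : Fin n → k, B u u = 0 ∧ B v v = 0 ∧ B u v = 1 := Cfsg.Agent.Lib.Helper12.S5683G.exists_hyp_pair h hn

/-- FO-G8 (~60 l).  A singular `c ⟂ u` with a witness of independence: pick `f` with `B u f = 1`, `⟨u,f⟩^⟂` has dimension `≥ 3`
and is nondegenerate, so it contains a singular `c ≠ 0` and `e₀` with `B c e₀ = 1`; `e = e₀ - (B u e₀) • f` works if moreover
`c ⟂ f` (choose `c`, `e₀` in `⟨u,f⟩^⟂`; then `B u e₀ = 0` already and `e = e₀`). -/
theorem exists_ts_partner (h : IsS B) (hn : 5 ≤ n) (u : Fin n → k) (hu0 : u ≠ 0) (huu : B u u = 0) :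
    ∃ c e : Fin n → k, B c c = 0 ∧ B u c = 0 ∧ B c e = 1 ∧ B u e = 0 := Cfsg.Agent.Lib.Helper12.S5683G.exists_ts_partner h hn u hu0 huu

end geomK

universe u
variable {F : Type u} [Field F] {n : ℕ}

/-! ## Part R: the rational form -/

/-- FO-RAT (~120 l).  `B₀ u v := ⟨polar Q (rvec u) (rvec v), polar_rvec_mem hrat u v⟩`; bilinear over `K` because `polar` is
bilinear (`polar_add_left`, `polar_smul_left`, ... of the `QuadraticForm`) and `rvec_add`, `rvec_smul`; symmetric by `polar_comm`;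
nondegenerate: if `B₀ x v = 0` for all rational `x` then `polar Q (Pi.single j 1) (rvec v) = 0` for all `j` (`rvec_single`), so
`polar Q y (rvec v) = 0` for all `y` (expand `y = ∑ y j • Pi.single j 1`), so `rvec v = 0` by `hQ`, `v = 0` (`rvec_inj`).
`sing`: `polar Q x x = 2 * Q x` (`polar_self`). -/
theorem exists_rat_form (Q : QuadraticForm F (Fin n → F)) (hQ : (polarBilin Q).Nondegenerate)
    (h2 : (2 : F) ≠ 0) (K : Subfield F) (hrat : RatQ K Q) :
    ∃ B₀ : (Fin n → K) →ₗ[K] (Fin n → K) →ₗ[K] K, RatForm K Q B₀ :=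
  Cfsg.Agent.Lib.Helper1.OrthSubfRat.exists_rat_form Q hQ h2 K hrat

variable {Q : QuadraticForm F (Fin n → F)} {K : Subfield F}
  {B₀ : (Fin n → K) →ₗ[K] (Fin n → K) →ₗ[K] K}

/-- FO-SPF (~100 l).  Every `w ⟂ rvec u` (`u` rational singular, `u ≠ 0`) is an `F`-combination of rational singular vectors
`⟂ u`.  Pick rational `f` with `B₀ u f = 1` (`IsS.nd'`).  `w = ∑ i, w i • rvec (Pi.single i 1)` and
`∑ i, w i • polar (rvec (single i)) (rvec u) = polar w (rvec u) = 0`, so `w = ∑ i, w i • rvec (single i - B₀ (single i) u • f)`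
with each `single i - B₀ (single i) u • f ⟂ u`, hence in `span K` of the singular vectors `⟂ u` by `span_singular_perp`;
`rvec` maps `span K S` into `span F (rvec '' S)`. -/
theorem span_F_singular_perp [Finite F] (hB : RatForm K Q B₀) (hn : 6 ≤ n) (u : Fin n → K)
    (hu0 : u ≠ 0) (huu : B₀ u u = 0) (w : Fin n → F) (hw : polar (⇑Q) (rvec K u) w = 0) :
    w ∈ Submodule.span F {x : Fin n → F | ∃ c : Fin n → K, B₀ c c = 0 ∧ B₀ c u = 0 ∧ x = rvec K c} := by
  have : Finite K := Finite.of_injective (fun x : K => (x : F)) Subtype.val_injective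
  exact Cfsg.Agent.Lib.Helper1.OrthSubfRat.span_F_singular_perp_of hB u hu0
    (fun c hc => span_singular_perp hB.isS hn u hu0 huu c hc) w hw

/-! ## Part A: `Good ⇒ Ω ≤ M` -/

/-- FO-COMM (~60 l, pure matrix identity; `matrix_ext_mulVec` + `sieg_mulVec` four times + `ring`-style;
checked numerically).  `[ρ_{u,ac}, ρ_{f,bc'}] = ρ_{u,abc'}` for `u,c,c',f` singular, `u,c,c'` pairwise perpendicular,
`f ⟂ u, c'`, `B(c,f) = 1`.  Paper: `X = ρ_{u,ac}` fixes `c'` and maps `f ↦ f + a u`; `X ρ_{f,bc'} X⁻¹ = ρ_{f+au, bc'} = ρ_{c',-b(f+au)} =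
ρ_{f,bc'} ρ_{u,abc'}` and `ρ_{f,bc'}` commutes with `ρ_{u,abc'}`. -/
theorem sieg_comm (Q : QuadraticForm F (Fin n → F)) (u c c' f : Fin n → F) (a b : F)
    (hu : Q u = 0) (hc : Q c = 0) (hc' : Q c' = 0) (hf : Q f = 0)
    (huc : polar (⇑Q) u c = 0) (huc' : polar (⇑Q) u c' = 0) (hcc' : polar (⇑Q) c c' = 0)
    (hcf : polar (⇑Q) c f = 1) (huf : polar (⇑Q) u f = 0) (hc'f : polar (⇑Q) c' f = 0) :
    sieg Q u (a • c) * sieg Q f (b • c') * sieg Q u (-(a • c)) * sieg Q f (-(b • c')) =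
      sieg Q u ((a * b) • c') := Cfsg.Agent.Lib.Helper6.S5683FOCOMM.sieg_comm Q u c c' f a b hu hc hc' hf huc huc' hcc' hcf huf hc'f

/-- FO-ORX (~120 l).  If `M` contains `ρ_{u, a c}` for ALL `a : F` and all rational singular `c ⟂ u`, then `OrX Q M (rvec u)`
(helper13 OrthParab).  `span_F_singular_perp` + `Submodule.mem_span_set'` (`w = ∑ i, a i • rvec (c i)`) + induction on the
sum with `InM.sieg_add`; finally `InM.mem` with `siegIso_val`. -/
theorem orX_of_forall [Finite F] (hB : RatForm K Q B₀) (hn : 6 ≤ n) (M : Subgroup (GL (Fin n) F))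
    (u : Fin n → K) (hu0 : u ≠ 0) (huu : B₀ u u = 0)
    (hall : ∀ (c : Fin n → K) (a : F), B₀ c c = 0 → B₀ c u = 0 →
      InM M (sieg Q (rvec K u) (a • rvec K c))) : OrX Q M (rvec K u) :=
  Cfsg.Agent.Lib.Helper1.OrthSubfRat.orX_of_span hB M u huu
    (fun w hw => span_F_singular_perp hB hn u hu0 huu w hw) hall

/-! ## Part S: `SemiGood ⇒ Good` and the low rank case -/

/-- FO-FIX (~150 l).  THE workhorse.  `w` singular, `ρ_{w,y} ∈ M`; `c, d, d'` rational, all `⟂ w`, `c` singular, `d, d' ⟂ c`,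
`B(d,d') = 1`.  Then `ρ_{w, B(c,y) c} ∈ M`.  Proof: for rational `e ⟂ c, w` the rational Siegel element `h_e = ρ_{c,e} ∈ H1Q ≤ M`
(`rat_sieg_mem`) fixes `w`, so `h_e ρ_{w,y} h_e⁻¹ = ρ_{w, h_e y}` (`InM.sieg_conj` with `gact_siegIso`), and
`h_e y = y + (B(e,y) - Q(e) B(c,y)) c - B(c,y) e`.  Hence (`InM.sieg_add`, `InM.sieg_neg`) `ρ_{w, τ(e)} ∈ M` with
`τ(e) = (B(e,y) - Q(e)B(c,y)) c - B(c,y) e`, and `τ(d) + τ(d') - τ(d+d') = B(d,d') B(c,y) c = B(c,y) c`
(`Q(d+d') = Q d + Q d' + B(d,d')`). -/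
theorem sieg_of_fix [Fintype F] (hQ : (polarBilin Q).Nondegenerate) (hn : 5 ≤ n) (hrat : RatQ K Q)
    (M : Subgroup (GL (Fin n) F)) (hH : H1Q K Q ≤ M) (w y : Fin n → F) (hw : Q w = 0)
    (hwy : polar (⇑Q) w y = 0) (hy : InM M (sieg Q w y)) (c d d' : Fin n → K)
    (hc : Q (rvec K c) = 0) (hcw : polar (⇑Q) (rvec K c) w = 0) (hdw : polar (⇑Q) (rvec K d) w = 0)
    (hd'w : polar (⇑Q) (rvec K d') w = 0) (hcd : polar (⇑Q) (rvec K c) (rvec K d) = 0)
    (hcd' : polar (⇑Q) (rvec K c) (rvec K d') = 0) (hdd' : polar (⇑Q) (rvec K d) (rvec K d') = 1) :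
    InM M (sieg Q w (polar (⇑Q) (rvec K c) y • rvec K c)) := Cfsg.Agent.Lib.Helper6.S5683FOFIX.sieg_of_fix hQ hn hrat M hH w y hw hwy hy c d d' hc hcw hdw hd'w hcd hcd' hdd'

/-- FO-IMP (~120 l).  If `w` is impure then two values `B(x₁,w)`, `B(x₂,w)` (`x₁, x₂` rational) are `K`-independent.
Else all values `polar (rvec x) w` lie in a line `K a` (`a = polar (rvec x₀) w ≠ 0` for some `x₀`, as `w ≠ 0` and `hQ`);
`x ↦ polar (rvec x) w / a` is a `K`-linear functional `(Fin n → K) → K`, represented by a rational `v` (`IsS.exists_riesz` for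
`B₀`): `polar (rvec x) (w - a • rvec v) = 0` for all rational `x`, hence for all `x`, so `w = a • rvec v`: pure. -/
theorem exists_indep_of_impure (hB : RatForm K Q B₀) (hQ : (polarBilin Q).Nondegenerate)
    (w : Fin n → F) (hw : Impure K w) :
    ∃ x₁ x₂ : Fin n → K, ∀ k₁ k₂ : K, (k₁ : F) * polar (⇑Q) (rvec K x₁) w +
      (k₂ : F) * polar (⇑Q) (rvec K x₂) w = 0 → k₁ = 0 ∧ k₂ = 0 := Cfsg.Agent.Lib.Helper2.S5683C.exists_indep_of_impure hB hQ w hw

/-- FO-Y (~100 l).  `g` an isometry, `u₁` rational singular, `w = g (rvec u₁)` impure, `c ≠ 0` rational.  Then some rational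
`z' ⟂ u₁` has `B(c, g z') ≠ 0`.  Else `g⁻¹ (rvec c) ⟂ rvec z'` for all rational `z' ⟂ u₁`, hence `⟂` every `y ⟂ rvec u₁`
(`y` is an `F`-combination of rational vectors `⟂ u₁`, first half of the proof of `span_F_singular_perp`), so
`g⁻¹ (rvec c) = l • rvec u₁` (nondegeneracy: `(x^⟂)^⟂ = F x`), `rvec c = l • w`, `l ≠ 0`, `w = l⁻¹ • rvec c`: pure. -/
theorem exists_y (hB : RatForm K Q B₀) (hQ : (polarBilin Q).Nondegenerate)
    (g : ↥(Cfsg.isometryGroup F ⇑Q)) (u₁ : Fin n → K) (hu₁ : u₁ ≠ 0)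
    (hw : Impure K (gact Q g (rvec K u₁))) (c : Fin n → K) (hc0 : c ≠ 0) :
    ∃ z' : Fin n → K, B₀ u₁ z' = 0 ∧ polar (⇑Q) (rvec K c) (gact Q g (rvec K z')) ≠ 0 :=
  Cfsg.Agent.Lib.Helper1.OrthSubfRat.exists_y hB hQ g u₁ hu₁ hw c hc0

/-! ## Part C: confinement -/

/-- FO-C1 (~200 l).  `w, y` `F`-independent; all "isotropic minors" `Δ(u,c) = B(u,w)B(c,y) - B(u,y)B(c,w)` (`u, c` rational
singular, `u ⟂ c`) lie in `K`.  Then `w` is an `F`-combination of four rational vectors.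
Proof.  (1) for rational singular `u` put `p(u) = B(u,w) y - B(u,y) w`; then `B(c, p(u)) = Δ(u,c) ∈ K` for every rational singular
`c ⟂ u`, hence (`span_singular_perp`, `K`-linearity) `B(x, p(u)) ∈ K` for every rational `x ⟂ u` (if `u = 0` there is nothing to do).
(2) [rational modulo `u`] extend the `K`-functional `x ↦ B(x,p(u))` from `u^⟂` to all rational vectors (e.g. `x ↦ B(x - B₀(x,u) f, p(u))`
with `B₀ u f = 1`) and represent it by a rational `v(u)` (`IsS.exists_riesz`): then `p(u) - rvec v(u)` is `⟂` all rational `x ⟂ u`,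
hence `⟂ (rvec u)^⟂`, so `p(u) = rvec v(u) + ν • rvec u`.  (3) the `F`-linear map `x ↦ (B(x,w), B(x,y))` is onto `F²` and rational
singular vectors span `F^n` over `F` (`IsS.exists_iso_sum`: every rational vector is a sum of two singular ones), so there are
rational singular `u, u'` with `B(u,w)B(u',y) - B(u,y)B(u',w) ≠ 0`; solve `w` from `p(u), p(u')`:
`w ∈ span_F {v(u), u, v(u'), u'}`. -/
theorem conf_of_minors [Finite F] (hB : RatForm K Q B₀) (hQ : (polarBilin Q).Nondegenerate) (hn : 6 ≤ n)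
    (w y : Fin n → F) (hind : ∀ a b : F, a • w + b • y = 0 → a = 0 ∧ b = 0)
    (hΔ : ∀ u c : Fin n → K, B₀ u u = 0 → B₀ c c = 0 → B₀ u c = 0 →
      polar (⇑Q) (rvec K u) w * polar (⇑Q) (rvec K c) y -
        polar (⇑Q) (rvec K u) y * polar (⇑Q) (rvec K c) w ∈ K) : Conf K w := Cfsg.Agent.Lib.Helper2.S5683C.conf_of_minors hB hQ hn w y hind hΔ

/-- FO-C2 (~80 l).  Degree two: `finrank K F = 2` (helper28 `finrank_eq_of_card`), basis `1, θ` (any `θ ∉ K`), every coordinate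
`w i = a i + b i θ`: `w = 1 • rvec a + θ • rvec b + 0 + 0`. -/
theorem conf_of_two [Finite F] (hcard : Nat.card F = Nat.card K ^ 2) (w : Fin n → F) : Conf K w := Cfsg.Agent.Lib.Helper22.S5683.conf_of_two hcard w

/-! ## Part D: the Dickson route -/

/-- FO-EMB (~250 l).  The `SL₂` attached to two opposite totally singular lines `⟨u,c⟩`, `⟨w,y⟩`.
`Δ = B(u,w)B(c,y) - B(u,y)B(c,w) ≠ 0`, `κ = -Δ`.  Dual basis of `⟨w,y⟩`: `a = (B(c,y) w - B(c,w) y)/Δ`, `b = (-B(u,y) w + B(u,w) y)/Δ`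
(`B(u,a) = 1 = B(c,b)`, `B(c,a) = 0 = B(u,b)`).  `⟨u,c,w,y⟩ = ⟨u,b⟩ ⊕ ⟨c,-a⟩`, two copies of the natural module:
`ε(A) = 1 + U₁ (A-1) Ψ₁ + U₂ (A-1) Ψ₂` with `U₁ = (u | b)`, `Ψ₁ = (B(a,·) ; B(c,·))`, `U₂ = (c | -a)`, `Ψ₂ = (B(b,·) ; -B(u,·))`
(`Ψ_i U_j = δ_ij`, so `ε` is multiplicative; generalise `Helper1.SubfSL.iota` or take the product of two commuting `iota`s after
restating `iota` for two pairs).  Then `ε(uu t) = ρ_{u,tc}`, `ε(ll t) = ρ_{a,-tb}`, `ρ_{w,sy} = ρ_{a,sΔb}`; finally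
`e(A) = ε(C A C⁻¹)` with `C = [[1,1],[0,κ]]`: `e(uu (t κ)) = ρ_{u,tc}`, `e(Wm) = ρ_{w,y}` (all checked numerically). -/
theorem exists_emb4 (Q : QuadraticForm F (Fin n → F)) (u c w y : Fin n → F) (hu : Q u = 0)
    (hc : Q c = 0) (huc : polar (⇑Q) u c = 0) (hw : Q w = 0) (hy : Q y = 0)
    (hwy : polar (⇑Q) w y = 0)
    (hΔ : polar (⇑Q) u w * polar (⇑Q) c y - polar (⇑Q) u y * polar (⇑Q) c w ≠ 0) :
    ∃ e : SpecialLinearGroup (Fin 2) F →* GL (Fin n) F,
      (∀ t : F, ((e (uu (t * -(polar (⇑Q) u w * polar (⇑Q) c y - polar (⇑Q) u y * polar (⇑Q) c w))) :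
        GL (Fin n) F) : Matrix (Fin n) (Fin n) F) = sieg Q u (t • c)) ∧
      ((e Wm : GL (Fin n) F) : Matrix (Fin n) (Fin n) F) = sieg Q w y := Cfsg.H5.S5683EMB.exists_emb4 Q u c w y hu hc huc hw hy hwy hΔ

/-- FO-A5 (~60 l): helper6's `S5639FOD3.app_A5` with `3 ≤ r` instead of `11 ≤ r`: the polynomial
`τ(τ²-1)(τ⁴-3τ²+1)` (τ = κ+2) factors as `τ (τ-1)(τ+1)(τ²-τ-1)(τ²+τ-1)`, so `κ` is a root of a polynomial of degree `≤ 2 < r`
over `K` (copy the proof up to `hτ`, then split the product and apply helper28 `mem_of_root` to the vanishing factor). -/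
theorem app_A5' [Fintype F] (h2 : (2 : F) ≠ 0) (K : Subfield F) (r : ℕ) (hr : r.Prime) (hr3 : 3 ≤ r)
    (hcard : Nat.card F = Nat.card K ^ r) (κ : F) (hκ : κ ∉ K)
    (H : Subgroup (ProjectiveSpecialLinearGroup (Fin 2) F))
    (hu : toPSL2 F (uu κ) ∈ H) (hW : toPSL2 F Wm ∈ H) :
    ¬ Nonempty (H ≃* alternatingGroup (Fin 5)) := Cfsg.Agent.Lib.Helper6.S5683FOA5.app_A5' h2 K r hr hr3 hcard κ hκ H hu hW

/-! ## Part T: strictness and the bridge -/

/-- FO-S (~120 l).  `H1Q < Ω`: take a rational t.s. pair `(u,c)` (`exists_hyp_pair`/`exists_ts_partner` for `B₀`) and `a ∉ K`;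
`ρ_{u,ac} ∈ omegaGL` (`siegIso_mem_Omega`) but not in `subfieldSubgroup K 1`: if `ρ = l • rmat Bm`
(`exists_eq_of_mem_subfield_one`), apply to a rational `x ≠ 0`, `x ⟂ u, c`: `x = l • (rational)`, so `l ∈ K` (`l ≠ 0`); apply to rational
`x` with `B(c,x) = 1`, `B(u,x) = 0`: `x + a • rvec u = l • rational`, so `a • rvec u` is rational, `a ∈ K`. -/
theorem H1Q_lt [Fintype F] (hB : RatForm K Q B₀) (hQ : (polarBilin Q).Nondegenerate) (hn : 5 ≤ n)
    (a : F) (ha : a ∉ K) : H1Q K Q < Cfsg.Geo.omegaGL ⇑Q := Cfsg.Agent.Lib.Helper6.S5683FOS.H1Q_lt hB hQ hn a ha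


/-- FO-P (~300 l).  Reduction to `P = 1`, index type `Fin (2m+1)`.  Let `ι = Unit ⊕ (Fin m ⊕ Fin m)`, `e : ι ≃ Fin (2m+1)` (any),
`Q x := quadFormOdd m F (P *ᵥ (x ∘ e))` as a `QuadraticForm` (it is `x₀² + Σ xᵢyᵢ` composed with a linear map; helper13 /
helper6 have `quadFormOdd` as a `QuadraticForm` in several places, e.g. grep `quadFormOdd` in Lib/Helper13/OrthFrame*.lean,
Lib/Helper6).  `polarBilin Q` nondegenerate (odd characteristic; the polar form of `quadFormOdd` has Gram matrix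
`diag(2) ⊕ antidiagonal blocks`).  `RatQ F₀ Q` is `hP` (rational `x` gives rational `x ∘ e`).  The group isomorphism
`Φ : GL ι F ≃* GL (Fin (2m+1)) F`, `g ↦ reindex e (P⁻¹ g P)` maps `isometryGroup (quadFormOdd m F)` onto `isometryGroup Q`,
hence commutator subgroups onto each other (`Helper13.mem_commutator_iff_of_equiv`), `omegaGL` onto `omegaGL`, and
`subfieldSubgroup F₀ P` onto `subfieldSubgroup F₀ 1` (helper24 S5639FOP `subfieldSubgroup_eq_map` for `Fin n`; here with the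
reindexing: `subfieldSubgroup F₀ P = map (conj P) (range (GL.map F₀.subtype) ⊔ scalars)` by definition).  `IsMaximalIn` is
invariant under group isomorphisms (helper24 `isMaximalIn_map` is for automorphisms; redo for `≃*`). -/
theorem bridge_odd [Fintype F] (hodd : Odd (Fintype.card F)) (m : ℕ) (F₀ : Subfield F)
    (P : Matrix.GeneralLinearGroup (Unit ⊕ (Fin m ⊕ Fin m)) F)
    (hP : Cfsg.Geo.IsQuadFormRationalStructure (Cfsg.quadFormOdd m F) F₀ P) :
    ∃ Q : QuadraticForm F (Fin (2 * m + 1) → F), (polarBilin Q).Nondegenerate ∧ RatQ F₀ Q ∧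
      (Cfsg.Geo.IsMaximalIn (Cfsg.Geo.omegaGL ⇑Q) (H1Q F₀ Q) →
        Cfsg.Geo.IsMaximalIn (Cfsg.Geo.omegaGL (Cfsg.quadFormOdd m F))
          (Cfsg.Geo.subfieldSubgroup F₀ P ⊓ Cfsg.Geo.omegaGL (Cfsg.quadFormOdd m F))) := Cfsg.Agent.Lib.Helper24.S5683FOP.bridge_odd hodd m F₀ P hP


/-! ## Assembly, part A -/

section asmA
variable [Fintype F]

omit [Fintype F] in
theorem pol_eq (hB : RatForm K Q B₀) (u v : Fin n → K) :
    polar (⇑Q) (rvec K u) (rvec K v) = ((B₀ u v : K) : F) := (hB.eq u v).symm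

omit [Fintype F] in
theorem pol_zero (hB : RatForm K Q B₀) {u v : Fin n → K} (h : B₀ u v = 0) :
    polar (⇑Q) (rvec K u) (rvec K v) = 0 := by rw [pol_eq hB, h]; rfl

omit [Fintype F] in
theorem pol_one (hB : RatForm K Q B₀) {u v : Fin n → K} (h : B₀ u v = 1) :
    polar (⇑Q) (rvec K u) (rvec K v) = 1 := by rw [pol_eq hB, h]; rfl

omit [Fintype F] in
theorem sieg_add_smul (Q : QuadraticForm F (Fin n → F)) (t : F) (u w : Fin n → F) (hu : Q u = 0)
    (huw : polar (⇑Q) u w = 0) : sieg Q u (w + t • u) = sieg Q u w := by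
  have h := siegIso_add_smul Q t u w hu huw
  exact congrArg (fun g : ↥(Cfsg.isometryGroup F ⇑Q) =>
    ((g : GL (Fin n) F) : Matrix (Fin n) (Fin n) F)) h

omit [Fintype F] in
theorem rvec_smul' (k : K) (φ : Fin n → K) : (k : F) • rvec K φ = rvec K (k • φ) :=
  (rvec_smul K k φ).symm

theorem paramSet_rat (hB : RatForm K Q B₀) (hQ : (polarBilin Q).Nondegenerate) (hn : 5 ≤ n)
    (hrat : RatQ K Q) (M : Subgroup (GL (Fin n) F)) (hH : H1Q K Q ≤ M) (u c : Fin n → K)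
    (hu : B₀ u u = 0) (huc : B₀ u c = 0) (k : K) : (k : F) ∈ ParamSet K Q M u c := by
  change InM M (sieg Q (rvec K u) ((k : F) • rvec K c))
  rw [rvec_smul']
  refine (rat_sieg_mem hQ hn hrat u (k • c) ((hB.sing u).mp hu) ?_).mono hH
  apply pol_zero hB
  rw [map_smul, huc, smul_zero]

omit [Fintype F] in
theorem paramSet_add (hB : RatForm K Q B₀) (M : Subgroup (GL (Fin n) F)) (u c : Fin n → K)
    (hu : B₀ u u = 0) (huc : B₀ u c = 0) (a b : F) (ha : a ∈ ParamSet K Q M u c)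
    (hb : b ∈ ParamSet K Q M u c) : a + b ∈ ParamSet K Q M u c := by
  change InM M (sieg Q (rvec K u) ((a + b) • rvec K c))
  rw [add_smul]
  have h0 := pol_zero hB huc
  exact InM.sieg_add ((hB.sing u).mp hu) (by rw [polar_smul_right, h0, smul_zero])
    (by rw [polar_smul_right, h0, smul_zero]) ha hb

omit [Fintype F] in
theorem paramSet_neg (hB : RatForm K Q B₀) (M : Subgroup (GL (Fin n) F)) (u c : Fin n → K)
    (hu : B₀ u u = 0) (huc : B₀ u c = 0) (a : F) (ha : a ∈ ParamSet K Q M u c) :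
    -a ∈ ParamSet K Q M u c := by
  change InM M (sieg Q (rvec K u) ((-a) • rvec K c))
  rw [neg_smul]
  have h0 := pol_zero hB huc
  exact InM.sieg_neg ((hB.sing u).mp hu) (by rw [polar_smul_right, h0, smul_zero]) ha

omit [Fintype F] in
theorem paramSet_swap (hB : RatForm K Q B₀) (M : Subgroup (GL (Fin n) F)) (u c : Fin n → K)
    (hu : B₀ u u = 0) (hc : B₀ c c = 0) (huc : B₀ u c = 0) (a : F)
    (ha : a ∈ ParamSet K Q M u c) : a ∈ ParamSet K Q M c u := by
  have hcu : B₀ c u = 0 := by rw [hB.isS.symm, huc]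
  have h1 : -a ∈ ParamSet K Q M c u := by
    change InM M (sieg Q (rvec K c) ((-a) • rvec K u))
    rw [← sieg_swap Q _ _ a ((hB.sing u).mp hu) ((hB.sing c).mp hc)]
    exact ha
  have := paramSet_neg hB M c u hc hcu _ h1
  rwa [neg_neg] at this

omit [Fintype F] in
/-- the product rule -/
theorem paramSet_mul (hB : RatForm K Q B₀) (M : Subgroup (GL (Fin n) F)) (u c c' f : Fin n → K)
    (hu : B₀ u u = 0) (hc : B₀ c c = 0) (hc' : B₀ c' c' = 0) (hf : B₀ f f = 0) (huc : B₀ u c = 0)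
    (huc' : B₀ u c' = 0) (hcc' : B₀ c c' = 0) (hcf : B₀ c f = 1) (huf : B₀ u f = 0)
    (hc'f : B₀ c' f = 0) (a b : F) (ha : a ∈ ParamSet K Q M u c)
    (hb : b ∈ ParamSet K Q M f c') : a * b ∈ ParamSet K Q M u c' := by
  change InM M (sieg Q (rvec K u) ((a * b) • rvec K c'))
  have hfc' : B₀ f c' = 0 := by rw [hB.isS.symm, hc'f]
  rw [← sieg_comm Q (rvec K u) (rvec K c) (rvec K c') (rvec K f) a b ((hB.sing u).mp hu)
    ((hB.sing c).mp hc) ((hB.sing c').mp hc') ((hB.sing f).mp hf) (pol_zero hB huc)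
    (pol_zero hB huc') (pol_zero hB hcc') (pol_one hB hcf) (pol_zero hB huf) (pol_zero hB hc'f)]
  have h1 : InM M (sieg Q (rvec K u) (-(a • rvec K c))) :=
    InM.sieg_neg ((hB.sing u).mp hu) (by rw [polar_smul_right, pol_zero hB huc, smul_zero]) ha
  have h2 : InM M (sieg Q (rvec K f) (-(b • rvec K c'))) :=
    InM.sieg_neg ((hB.sing f).mp hf) (by rw [polar_smul_right, pol_zero hB hfc', smul_zero]) hb
  exact ((ha.mul hb).mul h1).mul h2

end asmA

section asmA2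
variable [Fintype F]

/-- one step: `(u,c) → (u,c')` -/
theorem paramSet_mono (hB : RatForm K Q B₀) (hQ : (polarBilin Q).Nondegenerate) (hn : 5 ≤ n)
    (hrat : RatQ K Q) (M : Subgroup (GL (Fin n) F)) (hH : H1Q K Q ≤ M) (u c c' : Fin n → K)
    (hu : B₀ u u = 0) (hc : B₀ c c = 0) (hc' : B₀ c' c' = 0) (huc : B₀ u c = 0)
    (huc' : B₀ u c' = 0) (hcc' : B₀ c c' = 0) (hind : ∀ k₁ k₂ : K, c ≠ k₁ • u + k₂ • c')
    (a : F) (ha : a ∈ ParamSet K Q M u c) : a ∈ ParamSet K Q M u c' := by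
  have : Finite K := Finite.of_injective (fun x : K => (x : F)) Subtype.val_injective
  obtain ⟨f, hf, hcf, huf, hc'f⟩ := exists_partner hB.isS u c c' hc huc
    (by rw [hB.isS.symm, hcc']) hind
  have hfc' : B₀ f c' = 0 := by rw [hB.isS.symm, hc'f]
  have h1 : (1 : F) ∈ ParamSet K Q M f c' := by
    have := paramSet_rat hB hQ hn hrat M hH f c' hf hfc' 1
    simpa using this
  have := paramSet_mul hB M u c c' f hu hc hc' hf huc huc' hcc' hcf huf hc'f a 1 ha h1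
  rwa [mul_one] at this

/-- the parameter set does not depend on the rational totally singular pair -/
theorem paramSet_le (hB : RatForm K Q B₀) (hQ : (polarBilin Q).Nondegenerate) (hn : 13 ≤ n)
    (hrat : RatQ K Q) (M : Subgroup (GL (Fin n) F)) (hH : H1Q K Q ≤ M) (u c u' c' : Fin n → K)
    (hu : B₀ u u = 0) (hc : B₀ c c = 0) (huc : B₀ u c = 0)
    (hind : ∀ k₁ k₂ : K, k₁ • u + k₂ • c = 0 → k₁ = 0 ∧ k₂ = 0)
    (hu' : B₀ u' u' = 0) (hc' : B₀ c' c' = 0) (hu'c' : B₀ u' c' = 0)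
    (a : F) (ha : a ∈ ParamSet K Q M u c) : a ∈ ParamSet K Q M u' c' := by
  have : Finite K := Finite.of_injective (fun x : K => (x : F)) Subtype.val_injective
  have hS := hB.isS
  obtain ⟨x, x', e, e', hperp, hxx, hx'x', hxx', hxe, hx'e, hxe', hx'e'⟩ :=
    exists_two_hyp hS hn ![u, c, u', c']
  have hxu : B₀ x u = 0 := (hperp 0).1
  have hxc : B₀ x c = 0 := (hperp 1).1
  have hxu' : B₀ x u' = 0 := (hperp 2).1
  have hx'u : B₀ x' u = 0 := (hperp 0).2.1
  have hx'u' : B₀ x' u' = 0 := (hperp 2).2.1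
  have hx'c' : B₀ x' c' = 0 := (hperp 3).2.1
  have heu : B₀ e u = 0 := (hperp 0).2.2.1
  have hec : B₀ e c = 0 := (hperp 1).2.2.1
  have heu' : B₀ e u' = 0 := (hperp 2).2.2.1
  have he'u : B₀ e' u = 0 := (hperp 0).2.2.2
  have he'u' : B₀ e' u' = 0 := (hperp 2).2.2.2
  have he'c' : B₀ e' c' = 0 := (hperp 3).2.2.2
  have hu0 : u ≠ 0 := by
    rintro rfl
    have := hind 1 0 (by simp)
    exact one_ne_zero this.1
  -- step 1: (u,c) → (u,x)
  have s1 : a ∈ ParamSet K Q M u x := by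
    apply paramSet_mono hB hQ (by omega) hrat M hH u c x hu hc hxx huc (by rw [hS.symm, hxu])
      (by rw [hS.symm, hxc]) _ a ha
    intro k₁ k₂ h
    have h1 := congrArg (fun v => B₀ v e) h
    simp only [map_add, map_smul, LinearMap.add_apply, LinearMap.smul_apply, smul_eq_mul] at h1
    rw [hS.symm c e, hec, hS.symm u e, heu, hxe, mul_zero, zero_add, mul_one] at h1
    rw [← h1, zero_smul, add_zero] at h
    have := hind k₁ (-1) (by rw [neg_smul, one_smul, ← h]; exact add_neg_cancel c)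
    exact one_ne_zero (neg_eq_zero.mp this.2)
  -- step 2: swap
  have s2 : a ∈ ParamSet K Q M x u :=
    paramSet_swap hB M u x hu hxx (by rw [hS.symm, hxu]) a s1
  -- step 3: (x,u) → (x,x')
  have s3 : a ∈ ParamSet K Q M x x' := by
    apply paramSet_mono hB hQ (by omega) hrat M hH x u x' hxx hu hx'x' hxu hxx'
      (by rw [hS.symm, hx'u]) _ a s2
    intro k₁ k₂ h
    have h1 := congrArg (fun v => B₀ v e) h
    have h2 := congrArg (fun v => B₀ v e') h
    simp only [map_add, map_smul, LinearMap.add_apply, LinearMap.smul_apply, smul_eq_mul] at h1 h2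
    rw [hS.symm u e, heu, hxe, hx'e, mul_one, mul_zero, add_zero] at h1
    rw [hS.symm u e', he'u, hxe', hx'e', mul_one, mul_zero, zero_add] at h2
    rw [← h1, ← h2, zero_smul, zero_smul, add_zero] at h
    exact hu0 h
  -- step 4: swap
  have s4 : a ∈ ParamSet K Q M x' x := paramSet_swap hB M x x' hxx hx'x' hxx' a s3
  have hx'x : B₀ x' x = 0 := by rw [hS.symm, hxx']
  -- step 5: (x',x) → (x',u')
  have s5 : a ∈ ParamSet K Q M x' u' := by
    apply paramSet_mono hB hQ (by omega) hrat M hH x' x u' hx'x' hxx hu' hx'x hx'u' hxu' _ a s4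
    intro k₁ k₂ h
    have h1 := congrArg (fun v => B₀ v e) h
    simp only [map_add, map_smul, LinearMap.add_apply, LinearMap.smul_apply, smul_eq_mul] at h1
    rw [hxe, hx'e, hS.symm u' e, heu', mul_zero, mul_zero, add_zero] at h1
    exact one_ne_zero h1
  -- step 6: swap
  have s6 : a ∈ ParamSet K Q M u' x' := paramSet_swap hB M x' u' hx'x' hu' hx'u' a s5
  -- step 7: (u',x') → (u',c')
  apply paramSet_mono hB hQ (by omega) hrat M hH u' x' c' hu' hx'x' hc' (by rw [hS.symm, hx'u'])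
    hu'c' hx'c' _ a s6
  intro k₁ k₂ h
  have h1 := congrArg (fun v => B₀ v e') h
  simp only [map_add, map_smul, LinearMap.add_apply, LinearMap.smul_apply, smul_eq_mul] at h1
  rw [hx'e', hS.symm u' e', he'u', hS.symm c' e', he'c', mul_zero, mul_zero, add_zero] at h1
  exact one_ne_zero h1

end asmA2

section asmA3
variable [Fintype F]

omit [Fintype F] in
theorem coe_eq_zero_of (hB : RatForm K Q B₀) {u v : Fin n → K}
    (h : polar (⇑Q) (rvec K u) (rvec K v) = 0) : B₀ u v = 0 := by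
  have := hB.eq u v
  rw [h] at this
  exact_mod_cast this

/-- `Good ⇒ Ω ≤ M` -/
theorem omega_le_of_good (hB : RatForm K Q B₀) (hQ : (polarBilin Q).Nondegenerate) (hn : 13 ≤ n)
    (hrat : RatQ K Q) (r : ℕ) (hr : r.Prime) (hcard : Nat.card F = Nat.card K ^ r)
    (M : Subgroup (GL (Fin n) F)) (hH : H1Q K Q ≤ M) (hg : Good K Q M) :
    Cfsg.Geo.omegaGL ⇑Q ≤ M := by
  have : Finite K := Finite.of_injective (fun x : K => (x : F)) Subtype.val_injective
  have hS := hB.isS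
  obtain ⟨u, c, a, hts, haK, ha⟩ := hg
  have hu : B₀ u u = 0 := (hB.sing u).mpr hts.hu
  have hc : B₀ c c = 0 := (hB.sing c).mpr hts.hc
  have huc : B₀ u c = 0 := coe_eq_zero_of hB hts.huc
  have hu0 : u ≠ 0 := by
    rintro rfl
    have := hts.indep 1 0 (by simp)
    exact one_ne_zero this.1
  -- an auxiliary configuration
  obtain ⟨x, x', e, e', hperp, hxx, hx'x', hxx', hxe, hx'e, hxe', hx'e'⟩ :=
    exists_two_hyp hS hn ![u, c, u, c]
  have hxu : B₀ x u = 0 := (hperp 0).1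
  have hxc : B₀ x c = 0 := (hperp 1).1
  have heu : B₀ e u = 0 := (hperp 0).2.2.1
  have hec : B₀ e c = 0 := (hperp 1).2.2.1
  have hux : B₀ u x = 0 := by rw [hS.symm, hxu]
  have hcx : B₀ c x = 0 := by rw [hS.symm, hxc]
  obtain ⟨f, hf, hcf, huf, hxf⟩ := exists_partner hS u c x hc huc hxc (by
    intro k₁ k₂ h
    have h1 := congrArg (fun v => B₀ v e) h
    simp only [map_add, map_smul, LinearMap.add_apply, LinearMap.smul_apply, smul_eq_mul] at h1
    rw [hS.symm c e, hec, hS.symm u e, heu, hxe, mul_zero, zero_add, mul_one] at h1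
    rw [← h1, zero_smul, add_zero] at h
    have := hts.indep k₁ (-1) (by rw [neg_smul, one_smul, ← h]; exact add_neg_cancel c)
    exact one_ne_zero (neg_eq_zero.mp this.2))
  have hfx : B₀ f x = 0 := by rw [hS.symm, hxf]
  have hindux : ∀ k₁ k₂ : K, k₁ • u + k₂ • x = 0 → k₁ = 0 ∧ k₂ = 0 := by
    intro k₁ k₂ h
    have h1 := congrArg (fun v => B₀ v e) h
    simp only [map_add, map_smul, LinearMap.add_apply, LinearMap.smul_apply, smul_eq_mul,
      map_zero, LinearMap.zero_apply] at h1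
    rw [hS.symm u e, heu, hxe, mul_zero, zero_add, mul_one] at h1
    rw [h1, zero_smul, add_zero] at h
    rcases smul_eq_zero.mp h with h2 | h2
    · exact ⟨h2, h1⟩
    · exact absurd h2 hu0
  -- the parameter set is everything
  have hall : ∀ y : F, y ∈ ParamSet K Q M u c := by
    apply Cfsg.Agent.Lib.Helper28.S5639.forall_mem_of_subring K r hr hcard (ParamSet K Q M u c)
      (fun k => paramSet_rat hB hQ (by omega) hrat M hH u c hu huc k)
      (fun a b ha hb => paramSet_add hB M u c hu huc a b ha hb) _ a ha haK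
    intro a b ha hb
    have hb' : b ∈ ParamSet K Q M f x :=
      paramSet_le hB hQ hn hrat M hH u c f x hu hc huc hts.indep hf hxx hfx b hb
    have hab := paramSet_mul hB M u c x f hu hc hxx hf huc hux hcx hcf huf hxf a b ha hb'
    exact paramSet_le hB hQ hn hrat M hH u x u c hu hxx hux hindux hu hc huc _ hab
  -- OrX at every rational singular vector
  have hOrX : ∀ p : Fin n → K, p ≠ 0 → B₀ p p = 0 → OrX Q M (rvec K p) := by
    intro p hp0 hpp
    apply orX_of_forall hB (by omega) M p hp0 hpp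
    intro c' a' hc'c' hc'p
    have hpc' : B₀ p c' = 0 := by rw [hS.symm, hc'p]
    by_cases hdep : ∀ k₁ k₂ : K, k₁ • p + k₂ • c' = 0 → k₁ = 0 ∧ k₂ = 0
    · exact paramSet_le hB hQ hn hrat M hH u c p c' hu hc huc hts.indep hpp hc'c' hpc' a' (hall a')
    · push Not at hdep
      obtain ⟨k₁, k₂, h0, hne⟩ := hdep
      have hk₂ : k₂ ≠ 0 := by
        intro h2
        rw [h2, zero_smul, add_zero] at h0
        rcases smul_eq_zero.mp h0 with h3 | h3
        · exact hne h3 h2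
        · exact hp0 h3
      have hc'eq : c' = (-(k₁ / k₂)) • p := by
        have h1 : k₂ • c' = -(k₁ • p) := eq_neg_of_add_eq_zero_right h0
        have h2 : c' = k₂⁻¹ • (k₂ • c') := by rw [smul_smul, inv_mul_cancel₀ hk₂, one_smul]
        rw [h2, h1, smul_neg, smul_smul, neg_smul]
        congr 2
        field_simp
      have e1 : a' • rvec K c' = 0 + (a' * ((-(k₁ / k₂) : K) : F)) • rvec K p := by
        rw [hc'eq, ← rvec_smul', smul_smul, zero_add]
      rw [e1, sieg_add_smul Q _ _ _ ((hB.sing p).mp hpp) (by rw [polar_zero_right]), sieg_zero]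
      exact InM.one M
  -- a hyperbolic pair
  obtain ⟨p, q, hpp, hqq, hpq⟩ := exists_hyp_pair hS (by omega : 3 ≤ n)
  have hp0 : p ≠ 0 := by
    rintro rfl
    simp at hpq
  have hq0 : q ≠ 0 := by
    rintro rfl
    simp at hpq
  have hXp := hOrX p hp0 hpp
  have hXq := hOrX q hq0 hqq
  have hne : polar (⇑Q) (rvec K p) (rvec K q) ≠ 0 := by
    rw [pol_one hB hpq]
    exact one_ne_zero
  apply omegaGL_le_of_forall hQ (by rw [Fintype.card_fin]; omega)
  intro z hz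
  exact OrX.all hQ hXp hXq hne z hz

end asmA3

section asmS
variable [Fintype F]

/-- `SemiGood ⇒ Good` -/
theorem good_of_semigood (hB : RatForm K Q B₀) (hQ : (polarBilin Q).Nondegenerate) (hn : 13 ≤ n)
    (hrat : RatQ K Q) (M : Subgroup (GL (Fin n) F)) (hH : H1Q K Q ≤ M) (hs : SemiGood K Q M) :
    Good K Q M := by
  have : Finite K := Finite.of_injective (fun x : K => (x : F)) Subtype.val_injective
  have hS := hB.isS
  obtain ⟨z, x, η, hz0, hzz, hzη, hM, hxz, hxη⟩ := hs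
  have hzz' : B₀ z z = 0 := (hB.sing z).mpr hzz
  have hxz' : B₀ x z = 0 := coe_eq_zero_of hB hxz
  -- the key property of singular `c' ⟂ z`
  have key : ∀ c' : Fin n → K, B₀ c' c' = 0 → B₀ c' z = 0 →
      InM M (sieg Q (rvec K z) (polar (⇑Q) (rvec K c') η • rvec K c')) := by
    intro c' hc'c' hc'z
    obtain ⟨d, d', hdz, hdc', hd'z, hd'c', hdd'⟩ := exists_dd hS (by omega) z c'
    exact sieg_of_fix hQ (by omega) hrat M hH (rvec K z) η hzz hzη hM c' d d'
      ((hB.sing c').mp hc'c') (pol_zero hB hc'z) (pol_zero hB hdz) (pol_zero hB hd'z)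
      (pol_zero hB (by rw [hS.symm, hdc'])) (pol_zero hB (by rw [hS.symm, hd'c']))
      (pol_one hB hdd')
  by_cases hex : ∃ c' : Fin n → K, B₀ c' c' = 0 ∧ B₀ c' z = 0 ∧ polar (⇑Q) (rvec K c') η ∉ K
  · obtain ⟨c', hc'c', hc'z, hnot⟩ := hex
    refine ⟨z, c', polar (⇑Q) (rvec K c') η, ⟨hzz, (hB.sing c').mp hc'c',
      pol_zero hB (by rw [hS.symm, hc'z]), ?_⟩, hnot, key c' hc'c' hc'z⟩
    intro k₁ k₂ h
    have h1 := congrArg (fun v => polar (⇑Q) (rvec K v) η) h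
    simp only [rvec_add, ← rvec_smul', polar_add_left, polar_smul_left, smul_eq_mul, hzη, mul_zero,
      zero_add, rvec_zero, polar_zero_left] at h1
    have hk₂ : k₂ = 0 := by
      rcases mul_eq_zero.mp h1 with h2 | h2
      · exact_mod_cast h2
      · exfalso
        apply hnot
        rw [h2]
        exact K.zero_mem
    rw [hk₂, zero_smul, add_zero] at h
    rcases smul_eq_zero.mp h with h3 | h3
    · exact ⟨h3, hk₂⟩
    · exact absurd h3 hz0
  · exfalso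
    push Not at hex
    apply hxη
    have hmem := span_singular_perp hS (by omega) z hz0 hzz' x hxz'
    refine Submodule.span_induction (p := fun v _ => polar (⇑Q) (rvec K v) η ∈ K) ?_ ?_ ?_ ?_ hmem
    · intro c' hc'
      exact hex c' hc'.1 hc'.2
    · rw [rvec_zero, polar_zero_left]
      exact K.zero_mem
    · intro a b _ _ ha hb
      rw [rvec_add, polar_add_left]
      exact K.add_mem ha hb
    · intro k v _ hv
      rw [← rvec_smul', polar_smul_left, smul_eq_mul]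
      exact K.mul_mem k.2 hv

/-- the low rank case: an impure conjugate centre confined to a rational `4`-space gives `SemiGood` -/
theorem semigood_of_conf (hB : RatForm K Q B₀) (hQ : (polarBilin Q).Nondegenerate) (hn : 13 ≤ n)
    (hrat : RatQ K Q) (M : Subgroup (GL (Fin n) F)) (hH : H1Q K Q ≤ M)
    (g : ↥(Cfsg.isometryGroup F ⇑Q)) (hg : (g : GL (Fin n) F) ∈ M) (u₁ : Fin n → K)
    (hu₁ : B₀ u₁ u₁ = 0) (hu₁0 : u₁ ≠ 0) (himp : Impure K (gact Q g (rvec K u₁)))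
    (hconf : Conf K (gact Q g (rvec K u₁))) : SemiGood K Q M := by
  have : Finite K := Finite.of_injective (fun x : K => (x : F)) Subtype.val_injective
  have hS := hB.isS
  obtain ⟨w, hwdef⟩ : ∃ w, w = gact Q g (rvec K u₁) := ⟨_, rfl⟩
  rw [← hwdef] at himp hconf
  have hQu₁ : Q (rvec K u₁) = 0 := (hB.sing u₁).mp hu₁
  have hQw : Q w = 0 := by rw [hwdef, Q_gact, hQu₁]
  obtain ⟨rr, aa, hw⟩ := hconf
  obtain ⟨c, e, d, d', hperp, hcc, hce, hdc, hd'c, hdd'⟩ := exists_cedd hS hn rr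
  -- vectors perpendicular to all `rr i` are perpendicular to `w`
  have hperpw : ∀ v : Fin n → K, (∀ i, B₀ v (rr i) = 0) → polar (⇑Q) (rvec K v) w = 0 := by
    intro v hv
    rw [hw, ← polarBilin_apply_apply, map_sum]
    apply Finset.sum_eq_zero
    intro i _
    rw [map_smul, polarBilin_apply_apply, pol_zero hB (hv i), smul_zero]
  have hcw := hperpw c (fun i => (hperp i).1)
  have hew := hperpw e (fun i => (hperp i).2.1)
  have hdw := hperpw d (fun i => (hperp i).2.2.1)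
  have hd'w := hperpw d' (fun i => (hperp i).2.2.2)
  have hc0 : c ≠ 0 := by
    rintro rfl
    simp at hce
  -- two independent values, moved into `c^⟂`
  obtain ⟨x₁', x₂', hind⟩ := exists_indep_of_impure hB hQ w himp
  obtain ⟨x₁, hx₁⟩ : ∃ x₁, x₁ = x₁' - (B₀ x₁' c) • e := ⟨_, rfl⟩
  obtain ⟨x₂, hx₂⟩ : ∃ x₂, x₂ = x₂' - (B₀ x₂' c) • e := ⟨_, rfl⟩
  have hec : B₀ e c = 1 := by rw [hS.symm, hce]
  have hx₁c : B₀ x₁ c = 0 := by
    rw [hx₁, map_sub, map_smul, LinearMap.sub_apply, LinearMap.smul_apply, hec, smul_eq_mul, mul_one,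
      sub_self]
  have hx₂c : B₀ x₂ c = 0 := by
    rw [hx₂, map_sub, map_smul, LinearMap.sub_apply, LinearMap.smul_apply, hec, smul_eq_mul, mul_one,
      sub_self]
  have hx₁w : polar (⇑Q) (rvec K x₁) w = polar (⇑Q) (rvec K x₁') w := by
    rw [hx₁, rvec_sub, ← rvec_smul', polar_sub_left, polar_smul_left, hew, smul_zero, sub_zero]
  have hx₂w : polar (⇑Q) (rvec K x₂) w = polar (⇑Q) (rvec K x₂') w := by
    rw [hx₂, rvec_sub, ← rvec_smul', polar_sub_left, polar_smul_left, hew, smul_zero, sub_zero]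
  -- a Siegel element centred at `w`
  obtain ⟨z', hz'u₁, hz'ne⟩ := exists_y hB hQ g u₁ hu₁0 (by rw [← hwdef]; exact himp) c hc0
  have hM1 : InM M (sieg Q w (gact Q g (rvec K z'))) := by
    rw [hwdef]
    exact InM.sieg_conj g hg hQu₁ (pol_zero hB hz'u₁)
      ((rat_sieg_mem hQ (by omega) hrat u₁ z' hQu₁ (pol_zero hB hz'u₁)).mono hH)
  have hwy : polar (⇑Q) w (gact Q g (rvec K z')) = 0 := by
    rw [hwdef, polar_gact, pol_zero hB hz'u₁]
  obtain ⟨β, hβ⟩ : ∃ β, β = polar (⇑Q) (rvec K c) (gact Q g (rvec K z')) := ⟨_, rfl⟩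
  have hM2 : InM M (sieg Q w (β • rvec K c)) := by
    rw [hβ]
    exact sieg_of_fix hQ (by omega) hrat M hH w _ hQw hwy hM1 c d d' ((hB.sing c).mp hcc) hcw hdw
      hd'w (pol_zero hB (by rw [hS.symm, hdc])) (pol_zero hB (by rw [hS.symm, hd'c]))
      (pol_one hB hdd')
  have hβ0 : β ≠ 0 := by rw [hβ]; exact hz'ne
  have hM3 : InM M (sieg Q (rvec K c) ((-β) • w)) := by
    rw [← sieg_swap Q w (rvec K c) β hQw ((hB.sing c).mp hcc)]
    exact hM2
  have hcη : polar (⇑Q) (rvec K c) ((-β) • w) = 0 := by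
    rw [polar_smul_right, hcw, smul_zero]
  -- one of `x₁`, `x₂` works
  by_cases h1 : polar (⇑Q) (rvec K x₁) ((-β) • w) ∈ K
  · by_cases h2 : polar (⇑Q) (rvec K x₂) ((-β) • w) ∈ K
    · exfalso
      rw [polar_smul_right, smul_eq_mul, hx₁w] at h1
      rw [polar_smul_right, smul_eq_mul, hx₂w] at h2
      obtain ⟨k₁, hk₁⟩ : ∃ k₁ : K, (k₁ : F) = -β * polar (⇑Q) (rvec K x₁') w := ⟨⟨_, h1⟩, rfl⟩
      obtain ⟨k₂, hk₂⟩ : ∃ k₂ : K, (k₂ : F) = -β * polar (⇑Q) (rvec K x₂') w := ⟨⟨_, h2⟩, rfl⟩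
      have hrel := hind k₂ (-k₁) (by
        push_cast
        rw [hk₁, hk₂]
        ring)
      have hk₂0 : (k₂ : F) = 0 := by rw [hrel.1]; rfl
      rw [hk₂] at hk₂0
      have hp2 : polar (⇑Q) (rvec K x₂') w = 0 :=
        (mul_eq_zero.mp hk₂0).resolve_left (neg_ne_zero.mpr hβ0)
      have := hind 0 1 (by rw [hp2]; simp)
      exact one_ne_zero this.2
    · exact ⟨c, x₂, (-β) • w, hc0, (hB.sing c).mp hcc, hcη, hM3, pol_zero hB hx₂c, h2⟩
  · exact ⟨c, x₁, (-β) • w, hc0, (hB.sing c).mp hcc, hcη, hM3, pol_zero hB hx₁c, h1⟩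

end asmS

section asmD
variable [Fintype F]

/-- the Dickson step with `3 ≤ r` (same proof as `Helper1.SubfSLDickson.dickson_step`, with `app_A5'`) -/
theorem dickson_step3 (p : ℕ) [Fact p.Prime] [CharP F p] (hp2 : (2 : F) ≠ 0)
    (K : Subfield F) (r : ℕ) (hr : r.Prime) (hr3 : 3 ≤ r)
    (hcard : Nat.card F = Nat.card K ^ r) (κ : F) (hκ : κ ∉ K)
    (D : Subgroup (SpecialLinearGroup (Fin 2) F))
    (huD : ∀ s : K, uu ((s : F) * κ) ∈ D)
    (hWD : (Wm : SpecialLinearGroup (Fin 2) F) ∈ D) :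
    ∃ k : F, k ∉ K ∧ uu (k * κ) ∈ D := by
  classical
  have hκ0 : κ ≠ 0 := by
    rintro rfl
    exact hκ K.zero_mem
  have huκ : uu κ ∈ D := by
    have := huD 1
    rwa [Subfield.coe_one, one_mul] at this
  set H : Subgroup (ProjectiveSpecialLinearGroup (Fin 2) F) := D.map (toPSL2 F) with hHdef
  have hHu : toPSL2 F (uu κ) ∈ H := Subgroup.mem_map_of_mem _ huκ
  have hHW : toPSL2 F Wm ∈ H := Subgroup.mem_map_of_mem _ hWD
  have hw0 : ((Wm : SpecialLinearGroup (Fin 2) F) : Matrix (Fin 2) (Fin 2) F) 0 0 = 0 := by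
    simp [Wm]
  rcases dickson_aux_refined p H κ hκ0 hHu Wm hHW hw0 with hc | ht' | ⟨hA5, -⟩
  · exact Cfsg.Agent.Lib.Helper23.S5639FOD1.app_cfg hp2 K κ hκ D hWD hc
  · exact absurd ht' (Cfsg.Agent.Lib.Helper6.S5639FOD2.app_torus hp2 κ hκ0 H hHu hHW)
  · exact absurd hA5 (app_A5' hp2 K r hr hr3 hcard κ hκ H hHu hHW)

/-- the Dickson route: a non-rational isotropic minor gives `Good` -/
theorem good_of_delta (hB : RatForm K Q B₀) (hQ : (polarBilin Q).Nondegenerate) (hn : 5 ≤ n)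
    (hrat : RatQ K Q) (p : ℕ) [Fact p.Prime] [CharP F p] (hp2 : (2 : F) ≠ 0)
    (r : ℕ) (hr : r.Prime) (hr3 : 3 ≤ r) (hcard : Nat.card F = Nat.card K ^ r)
    (M : Subgroup (GL (Fin n) F)) (hH : H1Q K Q ≤ M)
    (g : ↥(Cfsg.isometryGroup F ⇑Q)) (hg : (g : GL (Fin n) F) ∈ M) (u c u₁ c₁ : Fin n → K)
    (hu : B₀ u u = 0) (hc : B₀ c c = 0) (huc : B₀ u c = 0)
    (hu₁ : B₀ u₁ u₁ = 0) (hc₁ : B₀ c₁ c₁ = 0) (hu₁c₁ : B₀ u₁ c₁ = 0)
    (hΔ : polar (⇑Q) (rvec K u) (gact Q g (rvec K u₁)) * polar (⇑Q) (rvec K c) (gact Q g (rvec K c₁)) -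
      polar (⇑Q) (rvec K u) (gact Q g (rvec K c₁)) * polar (⇑Q) (rvec K c) (gact Q g (rvec K u₁)) ∉ K) :
    Good K Q M := by
  obtain ⟨w, hw⟩ : ∃ w, w = gact Q g (rvec K u₁) := ⟨_, rfl⟩
  obtain ⟨y, hy⟩ : ∃ y, y = gact Q g (rvec K c₁) := ⟨_, rfl⟩
  rw [← hw, ← hy] at hΔ
  have hQu : Q (rvec K u) = 0 := (hB.sing u).mp hu
  have hQc : Q (rvec K c) = 0 := (hB.sing c).mp hc
  have hQu₁ : Q (rvec K u₁) = 0 := (hB.sing u₁).mp hu₁
  have hQc₁ : Q (rvec K c₁) = 0 := (hB.sing c₁).mp hc₁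
  have hQw : Q w = 0 := by rw [hw, Q_gact, hQu₁]
  have hQy : Q y = 0 := by rw [hy, Q_gact, hQc₁]
  have hwy : polar (⇑Q) w y = 0 := by rw [hw, hy, polar_gact, pol_zero hB hu₁c₁]
  have hΔ0 : polar (⇑Q) (rvec K u) w * polar (⇑Q) (rvec K c) y -
      polar (⇑Q) (rvec K u) y * polar (⇑Q) (rvec K c) w ≠ 0 := by
    intro h0
    apply hΔ
    rw [h0]
    exact K.zero_mem
  have hind : ∀ k₁ k₂ : K, k₁ • u + k₂ • c = 0 → k₁ = 0 ∧ k₂ = 0 := by
    intro k₁ k₂ h
    have h1 := congrArg (fun v => polar (⇑Q) (rvec K v) w) h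
    have h2 := congrArg (fun v => polar (⇑Q) (rvec K v) y) h
    simp only [rvec_add, ← rvec_smul', polar_add_left, polar_smul_left, smul_eq_mul, rvec_zero,
      polar_zero_left] at h1 h2
    by_contra hne
    apply hΔ0
    by_cases hk₁ : k₁ = 0
    · have hk₂ : (k₂ : F) ≠ 0 := by
        intro h0
        apply hne
        exact ⟨hk₁, by exact_mod_cast h0⟩
      rw [hk₁] at h1 h2
      simp only [ZeroMemClass.coe_zero, zero_mul, zero_add] at h1 h2
      rw [(mul_eq_zero.mp h1).resolve_left hk₂, (mul_eq_zero.mp h2).resolve_left hk₂]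
      ring
    · have hk₁' : (k₁ : F) ≠ 0 := by
        intro h0
        apply hk₁
        exact_mod_cast h0
      have e1 : polar (⇑Q) (rvec K u) w = -((k₂ : F) / k₁) * polar (⇑Q) (rvec K c) w := by
        field_simp
        linear_combination h1
      have e2 : polar (⇑Q) (rvec K u) y = -((k₂ : F) / k₁) * polar (⇑Q) (rvec K c) y := by
        field_simp
        linear_combination h2
      rw [e1, e2]
      ring
  obtain ⟨e, he1, he2⟩ := exists_emb4 Q (rvec K u) (rvec K c) w y hQu hQc (pol_zero hB huc) hQw hQy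
    hwy hΔ0
  obtain ⟨κ, hκdef⟩ : ∃ κ, κ = -(polar (⇑Q) (rvec K u) w * polar (⇑Q) (rvec K c) y -
      polar (⇑Q) (rvec K u) y * polar (⇑Q) (rvec K c) w) := ⟨_, rfl⟩
  rw [← hκdef] at he1
  have hκ : κ ∉ K := by
    intro h
    apply hΔ
    have := K.neg_mem h
    rwa [hκdef, neg_neg] at this
  obtain ⟨D, hD⟩ : ∃ D : Subgroup (SpecialLinearGroup (Fin 2) F), D = M.comap e := ⟨_, rfl⟩
  have huD : ∀ s : K, uu ((s : F) * κ) ∈ D := by
    intro s
    rw [hD, Subgroup.mem_comap]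
    apply InM.mem
    rw [he1, rvec_smul']
    refine (rat_sieg_mem hQ hn hrat u (s • c) hQu ?_).mono hH
    apply pol_zero hB
    rw [map_smul, huc, smul_zero]
  have hWD : (Wm : SpecialLinearGroup (Fin 2) F) ∈ D := by
    rw [hD, Subgroup.mem_comap]
    apply InM.mem
    rw [he2, hw, hy]
    exact InM.sieg_conj g hg hQu₁ (pol_zero hB hu₁c₁)
      ((rat_sieg_mem hQ hn hrat u₁ c₁ hQu₁ (pol_zero hB hu₁c₁)).mono hH)
  obtain ⟨k, hkK, hkD⟩ := dickson_step3 p hp2 K r hr hr3 hcard κ hκ D huD hWD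
  refine ⟨u, c, k, ⟨hQu, hQc, pol_zero hB huc, hind⟩, hkK, ?_⟩
  rw [hD, Subgroup.mem_comap] at hkD
  have h4 := InM.of_mem hkD
  rwa [he1] at h4

end asmD

section asmM
variable [Fintype F]

/-- the case `P = 1` -/
theorem maximal_one (Q : QuadraticForm F (Fin n → F)) (hQ : (polarBilin Q).Nondegenerate)
    (h2 : (2 : F) ≠ 0) (hn : 13 ≤ n) (K : Subfield F) (hrat : RatQ K Q) (r : ℕ) (hr : r.Prime)
    (hcard : Nat.card F = Nat.card K ^ r) :
    Cfsg.Geo.IsMaximalIn (Cfsg.Geo.omegaGL ⇑Q) (H1Q K Q) := by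
  have : Finite K := Finite.of_injective (fun x : K => (x : F)) Subtype.val_injective
  obtain ⟨B₀, hB⟩ := exists_rat_form Q hQ h2 K hrat
  have hS := hB.isS
  obtain ⟨a, ha⟩ := Cfsg.Agent.Lib.Helper1.SubfSLMain.exists_not_mem K r hr hcard
  refine ⟨H1Q_lt hB hQ (by omega) a ha, ?_⟩
  intro M hHM hMΩ
  by_cases hle : M ≤ H1Q K Q
  · exact Or.inl (le_antisymm hle hHM)
  right
  apply le_antisymm hMΩ
  obtain ⟨g₀, hg₀M, hg₀H⟩ := SetLike.not_le_iff_exists.mp hle
  have hg₀Ω := hMΩ hg₀M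
  obtain ⟨g, -, hgg₀⟩ := (mem_omegaGL_iff Q g₀).mp hg₀Ω
  have hgM : (g : GL (Fin n) F) ∈ M := by rw [hgg₀]; exact hg₀M
  have hgS : (g : GL (Fin n) F) ∉ Cfsg.Geo.subfieldSubgroup K (1 : GL (Fin n) F) := by
    intro h
    apply hg₀H
    rw [← hgg₀]
    exact ⟨h, by rw [hgg₀]; exact hg₀Ω⟩
  -- an impure image of a rational singular vector
  obtain ⟨u₁, hu₁, himp⟩ : ∃ u₁ : Fin n → K, B₀ u₁ u₁ = 0 ∧ Impure K (gact Q g (rvec K u₁)) := by
    by_contra hne
    push Not at hne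
    apply hgS
    obtain ⟨l, Bm, hl, hlB⟩ := Cfsg.Agent.Lib.Helper10.PureSingular.exists_rational_of_pure_singular
      (by omega : 5 ≤ n) K B₀ hS (g : GL (Fin n) F) (by
        intro u hu
        have := hne u hu
        unfold Impure at this
        push Not at this
        obtain ⟨l, r', h⟩ := this
        exact ⟨l, r', h⟩)
    exact mem_subfield_one_of_eq K _ l hl Bm hlB
  have hu₁0 : u₁ ≠ 0 := by
    rintro rfl
    apply himp 0 0
    rw [rvec_zero, gact_zero, smul_zero]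
  suffices hgood : Good K Q M from omega_le_of_good hB hQ hn hrat r hr hcard M hHM hgood
  have hlow : Conf K (gact Q g (rvec K u₁)) → Good K Q M := fun hconf =>
    good_of_semigood hB hQ hn hrat M hHM
      (semigood_of_conf hB hQ hn hrat M hHM g hgM u₁ hu₁ hu₁0 himp hconf)
  by_cases hr2 : r = 2
  · subst hr2
    exact hlow (conf_of_two hcard _)
  have hr3 : 3 ≤ r := by
    have := hr.two_le
    omega
  obtain ⟨c₁, e₁, hc₁, hu₁c₁, hc₁e₁, hu₁e₁⟩ := exists_ts_partner hS (by omega) u₁ hu₁0 hu₁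
  by_cases hex : ∃ u c : Fin n → K, B₀ u u = 0 ∧ B₀ c c = 0 ∧ B₀ u c = 0 ∧
      polar (⇑Q) (rvec K u) (gact Q g (rvec K u₁)) * polar (⇑Q) (rvec K c) (gact Q g (rvec K c₁)) -
      polar (⇑Q) (rvec K u) (gact Q g (rvec K c₁)) * polar (⇑Q) (rvec K c) (gact Q g (rvec K u₁)) ∉ K
  · obtain ⟨u, c, hu, hc, huc, hΔ⟩ := hex
    have hp : (ringChar F).Prime := CharP.char_is_prime F (ringChar F)
    haveI : Fact (ringChar F).Prime := ⟨hp⟩
    exact good_of_delta hB hQ (by omega) hrat (ringChar F) h2 r hr hr3 hcard M hHM g hgM u c u₁ c₁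
      hu hc huc hu₁ hc₁ hu₁c₁ hΔ
  · push Not at hex
    apply hlow
    apply conf_of_minors hB hQ (by omega) _ (gact Q g (rvec K c₁)) _ hex
    intro a b hab
    have h1 := congrArg (fun v => polar (⇑Q) v (gact Q g (rvec K e₁))) hab
    simp only [polar_add_left, polar_smul_left, polar_gact, smul_eq_mul, polar_zero_left] at h1
    rw [pol_zero hB hu₁e₁, pol_one hB hc₁e₁, mul_zero, zero_add, mul_one] at h1
    rw [h1, zero_smul, add_zero] at hab
    rcases smul_eq_zero.mp hab with h3 | h3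
    · exact ⟨h3, h1⟩
    · exfalso
      apply himp 0 0
      rw [h3, zero_smul]

end asmM

section final
variable [Fintype F]

/-- S5683 -/
theorem result' (hodd : Odd (Fintype.card F)) (m : ℕ) (hm : 6 ≤ m) (F₀ : Subfield F) (r : ℕ)
    (hr : r.Prime) (hcard : Fintype.card F = Nat.card F₀ ^ r)
    (P : Matrix.GeneralLinearGroup (Unit ⊕ (Fin m ⊕ Fin m)) F)
    (hP : Cfsg.Geo.IsQuadFormRationalStructure (Cfsg.quadFormOdd m F) F₀ P) :
    Cfsg.Geo.IsMaximalIn (Cfsg.Geo.omegaGL (Cfsg.quadFormOdd m F))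
      (Cfsg.Geo.subfieldSubgroup F₀ P ⊓ Cfsg.Geo.omegaGL (Cfsg.quadFormOdd m F)) := by
  have h2 : (2 : F) ≠ 0 := by
    intro h
    have h2 : ((2 : ℕ) : F) = 0 := by exact_mod_cast h
    obtain ⟨p, hp⟩ := CharP.exists F
    have hprime : p.Prime := CharP.char_is_prime F p
    have hdvd : p ∣ 2 := (CharP.cast_eq_zero_iff F p 2).mp h2
    have hp2 : p = 2 := (Nat.prime_dvd_prime_iff_eq hprime Nat.prime_two).mp hdvd
    subst hp2
    have h3 : ((Fintype.card F : ℕ) : F) = 0 := FiniteField.cast_card_eq_zero F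
    have h4 : 2 ∣ Fintype.card F := (CharP.cast_eq_zero_iff F 2 _).mp h3
    exact (Nat.not_even_iff_odd.mpr hodd) (even_iff_two_dvd.mpr h4)
  obtain ⟨Q, hQ, hrat, hbr⟩ := bridge_odd hodd m F₀ P hP
  apply hbr
  exact maximal_one Q hQ h2 (by omega) F₀ hrat r hr (by rw [Nat.card_eq_fintype_card]; exact hcard)

end final

end Cfsg.Agent.Lib.Helper1.OrthSubfMain
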