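import Mathlib

/-!
# The principal ideal theorem, algebraic core (helper1)

For a finite group `G` with abelianization `Q`, a map `d : G → (Q → M)` (`M` an abelian group) with
`d (g h) = d g + (ḡ · d h)` (translation action of `Q` on functions `Q → M`) has
`∑ q, d g q = 0` for all `g` (`H1PIT.sum_eq_zero_of_isDeriv`).  This is the principal ideal theorem
in wreath-product coordinates: take `d g q = u_q⁻¹ g u_{ḡ⁻¹ q}` mod `G''`.

Proof: determinant trick over `ℤ[Q]` (relation matrix with determinant the norm element).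
-/

namespace H1PIT

open scoped BigOperators commutatorElement

section core

variable {Q : Type*} [CommGroup Q] [Fintype Q]

/-- norm element -/
noncomputable def normElt (Q : Type*) [CommGroup Q] [Fintype Q] : MonoidAlgebra ℤ Q :=
  ∑ q : Q, MonoidAlgebra.single q 1

/-- augmentation -/
noncomputable def aug (Q : Type*) [CommGroup Q] : MonoidAlgebra ℤ Q →+* ℤ :=
  (MonoidAlgebra.lift ℤ ℤ Q (1 : Q →* ℤ)).toRingHom

omit [Fintype Q] in
lemma aug_single (q : Q) (n : ℤ) : aug Q (MonoidAlgebra.single q n) = n := by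
  simp [aug]

lemma aug_normElt : aug Q (normElt Q) = Fintype.card Q := by
  simp [normElt, aug_single]

lemma normElt_coeff (q : Q) : (normElt Q).coeff q = 1 := by
  classical
  simp [normElt, Finsupp.single_apply]

/-- annihilator of the augmentation ideal -/
lemma eq_smul_normElt (x : MonoidAlgebra ℤ Q) (S : Set Q) (hS : Subgroup.closure S = ⊤)
    (h : ∀ s ∈ S, x * (MonoidAlgebra.single s 1 - 1) = 0) :
    x = (x.coeff 1) • normElt Q := by
  classical
  have h1 : ∀ r : Q, x * MonoidAlgebra.single r 1 = x := by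
    intro r
    have hr : r ∈ Subgroup.closure S := by rw [hS]; trivial
    induction hr using Subgroup.closure_induction with
    | mem s hs =>
      have := h s hs
      rw [mul_sub, mul_one, sub_eq_zero] at this
      exact this
    | one => rw [← MonoidAlgebra.one_def, mul_one]
    | mul a b _ _ ha hb =>
      rw [show (MonoidAlgebra.single (a * b) (1:ℤ)) = MonoidAlgebra.single a 1 * MonoidAlgebra.single b 1 by
        rw [MonoidAlgebra.single_mul_single, mul_one], ← mul_assoc, ha, hb]
    | inv a _ ha =>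
      have : x * MonoidAlgebra.single a 1 * MonoidAlgebra.single a⁻¹ 1 = x := by
        rw [mul_assoc, MonoidAlgebra.single_mul_single, mul_inv_cancel, mul_one, ← MonoidAlgebra.one_def, mul_one]
      rw [ha] at this
      exact this
  ext q
  have := congrArg (fun y => y.coeff 1) (h1 q⁻¹)
  simp only [MonoidAlgebra.coeff_mul_single_apply, inv_inv, one_mul, mul_one] at this
  rw [MonoidAlgebra.coeff_smul_apply, normElt_coeff, this]
  simp

end core

section det

variable {R : Type*} [CommRing R] {ι : Type*} [Fintype ι] [DecidableEq ι]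

lemma det_mul_of_mulVec_eq_zero (m : Matrix ι ι R) (v : ι → R) (h : m.mulVec v = 0) (k : ι) :
    m.det * v k = 0 := by
  have h1 : (m.adjugate * m).mulVec v = 0 := by
    rw [← Matrix.mulVec_mulVec, h, Matrix.mulVec_zero]
  rw [Matrix.adjugate_mul, Matrix.smul_mulVec, Matrix.one_mulVec] at h1
  have := congrFun h1 k
  simpa using this

lemma det_smul_of_relations {B : Type*} [AddCommGroup B] [Module R B] (m : Matrix ι ι R)
    (β : ι → B) (h : ∀ i, ∑ j, m i j • β j = 0) (k : ι) : m.det • β k = 0 := by
  have h1 : ∑ i, m.adjugate k i • ∑ j, m i j • β j = 0 := by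
    simp [h]
  have h2 : ∑ i, m.adjugate k i • ∑ j, m i j • β j = ∑ j, (m.adjugate * m) k j • β j := by
    simp_rw [Finset.smul_sum, smul_smul]
    rw [Finset.sum_comm]
    refine Finset.sum_congr rfl fun j _ => ?_
    rw [← Finset.sum_smul, Matrix.mul_apply]
  rw [h2, Matrix.adjugate_mul] at h1
  simpa [Matrix.smul_apply, Matrix.one_apply, ite_smul] using h1

end det

section modstruct

variable {Q : Type*} [CommGroup Q] {M : Type*} [AddCommGroup M]

/-- translation endomorphism -/
def transEnd (r : Q) : Module.End ℤ (Q → M) where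
  toFun b := fun q => b (r⁻¹ * q)
  map_add' _ _ := rfl
  map_smul' _ _ := rfl

/-- translation as a monoid hom -/
def transHom (Q : Type*) [CommGroup Q] (M : Type*) [AddCommGroup M] : Q →* Module.End ℤ (Q → M) where
  toFun := transEnd
  map_one' := by
    ext b q
    simp [transEnd]
  map_mul' r s := by
    ext b q
    simp [transEnd, mul_assoc, mul_comm]

/-- the ring hom -/
noncomputable def coindRingHom (Q : Type*) [CommGroup Q] (M : Type*) [AddCommGroup M] :
    MonoidAlgebra ℤ Q →+* Module.End ℤ (Q → M) :=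
  (MonoidAlgebra.lift ℤ (Module.End ℤ (Q → M)) Q (transHom Q M)).toRingHom

/-- the module structure of the coinduced module -/
@[reducible] noncomputable def coindModule (Q : Type*) [CommGroup Q] (M : Type*) [AddCommGroup M] :
    Module (MonoidAlgebra ℤ Q) (Q → M) :=
  Module.compHom (Q → M) (coindRingHom Q M)

attribute [local instance] coindModule

lemma smul_eq_coindRingHom (x : MonoidAlgebra ℤ Q) (b : Q → M) :
    x • b = coindRingHom Q M x b := rfl

lemma single_smul_apply (r : Q) (n : ℤ) (b : Q → M) (q : Q) :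
    ((MonoidAlgebra.single r n : MonoidAlgebra ℤ Q) • b) q = n • b (r⁻¹ * q) := by
  rw [smul_eq_coindRingHom]
  change ((MonoidAlgebra.lift ℤ (Module.End ℤ (Q → M)) Q (transHom Q M)) (MonoidAlgebra.single r n) b) q = _
  rw [MonoidAlgebra.lift_single]
  rfl

end modstruct

section main

variable {Q : Type*} [CommGroup Q] [Fintype Q] {M : Type*} [AddCommGroup M]
  {ι : Type*} [Fintype ι] [DecidableEq ι]

attribute [local instance] coindModule

lemma normElt_smul_apply (b : Q → M) (s : Q) : (normElt Q • b) s = ∑ t, b t := by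
  unfold normElt
  rw [Finset.sum_smul, Finset.sum_apply]
  simp_rw [single_smul_apply, one_smul]
  exact Fintype.sum_equiv ((Equiv.inv Q).trans (Equiv.mulRight s)) _ _ (fun r => by simp)

theorem normElt_smul_eq_zero
    (q : ι → Q) (hq : Subgroup.closure (Set.range q) = ⊤)
    (hcard : ∏ i, orderOf (q i) = Fintype.card Q)
    (γ : ι → ι → MonoidAlgebra ℤ Q) (hγaug : ∀ i j, aug Q (γ i j) = 0)
    (hγ : ∀ i, ∑ j, γ i j * (MonoidAlgebra.single (q j) 1 - 1) = 0)
    (β : ι → (Q → M))
    (hβ : ∀ i, (∑ t ∈ Finset.range (orderOf (q i)), (MonoidAlgebra.single (q i) (1:ℤ)) ^ t) • β i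
        = ∑ j, γ i j • β j) (k : ι) :
    normElt Q • β k = 0 := by
  classical
  set geom : ι → MonoidAlgebra ℤ Q := fun i =>
    ∑ t ∈ Finset.range (orderOf (q i)), (MonoidAlgebra.single (q i) (1:ℤ)) ^ t with hgeom
  set m : Matrix ι ι (MonoidAlgebra ℤ Q) :=
    Matrix.of fun i j => (if i = j then geom i else 0) - γ i j with hm
  set v : ι → MonoidAlgebra ℤ Q := fun j => MonoidAlgebra.single (q j) 1 - 1 with hv
  have hgv : ∀ i, geom i * v i = 0 := by
    intro i
    simp only [hgeom, hv]
    rw [geom_sum_mul, MonoidAlgebra.single_pow, pow_orderOf_eq_one, one_pow,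
      ← MonoidAlgebra.one_def, sub_self]
  have h1 : m.mulVec v = 0 := by
    funext i
    simp only [Matrix.mulVec, dotProduct, hm, Matrix.of_apply, sub_mul, Finset.sum_sub_distrib,
      Pi.zero_apply]
    rw [hγ i, sub_zero]
    simp [ite_mul, hgv]
  have h2 : ∀ k, m.det * v k = 0 := det_mul_of_mulVec_eq_zero m v h1
  have h3 : m.det = (m.det.coeff 1) • normElt Q := by
    apply eq_smul_normElt m.det (Set.range q) hq
    rintro s ⟨j, rfl⟩
    exact h2 j
  have h4 : aug Q m.det = ∏ i, (orderOf (q i) : ℤ) := by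
    rw [RingHom.map_det]
    have : (aug Q).mapMatrix m = Matrix.diagonal fun i => (orderOf (q i) : ℤ) := by
      ext i j
      simp only [RingHom.mapMatrix_apply, Matrix.map_apply, hm, Matrix.of_apply, map_sub, hγaug,
        sub_zero, Matrix.diagonal_apply]
      split_ifs with hij
      · simp [hgeom, MonoidAlgebra.single_pow, aug_single]
      · simp
    rw [this, Matrix.det_diagonal]
  have h5 : m.det.coeff 1 = 1 := by
    have h6 := congrArg (aug Q) h3
    rw [h4, map_zsmul, aug_normElt, smul_eq_mul] at h6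
    have h7 : (∏ i, (orderOf (q i) : ℤ)) = (Fintype.card Q : ℤ) := by
      rw [← hcard]; push_cast; rfl
    rw [h7] at h6
    have hne : (Fintype.card Q : ℤ) ≠ 0 := by
      exact_mod_cast Fintype.card_ne_zero
    have : (m.det.coeff 1 - 1) * (Fintype.card Q : ℤ) = 0 := by
      rw [sub_mul, one_mul, ← h6, sub_self]
    rcases mul_eq_zero.mp this with h | h
    · omega
    · exact absurd h hne
  rw [h5, one_smul] at h3
  rw [← h3]
  apply det_smul_of_relations m β
  intro i
  simp only [hm, Matrix.of_apply, sub_smul, Finset.sum_sub_distrib]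
  rw [← hβ i, sub_eq_zero]
  simp [ite_smul, hgeom]

end main

lemma exists_good_generators (Q : Type*) [CommGroup Q] [Finite Q] :
    ∃ (κ : Type) (_ : Fintype κ) (q : κ → Q), Subgroup.closure (Set.range q) = ⊤ ∧
      ∏ i, orderOf (q i) = Nat.card Q := by
  classical
  obtain ⟨κ, hκ, n, hn, ⟨φ⟩⟩ := CommGroup.equiv_prod_multiplicative_zmod_of_finite Q
  have hne : ∀ i, NeZero (n i) := fun i => ⟨by have := hn i; omega⟩
  refine ⟨κ, hκ, fun i => φ.symm (Pi.mulSingle i (Multiplicative.ofAdd (1 : ZMod (n i)))), ?_, ?_⟩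
  · rw [eq_top_iff]
    intro y _
    have hy : y = φ.symm (∏ i, Pi.mulSingle i (φ y i)) := by
      rw [Finset.univ_prod_mulSingle, MulEquiv.symm_apply_apply]
    rw [hy, map_prod]
    refine Subgroup.prod_mem _ fun i _ => ?_
    have : (Pi.mulSingle i (φ y i) : (j : κ) → Multiplicative (ZMod (n j))) =
        (Pi.mulSingle i (Multiplicative.ofAdd (1 : ZMod (n i)))) ^ (Multiplicative.toAdd (φ y i)).val := by
      rw [← Pi.mulSingle_pow]
      congr 1
      rw [← ofAdd_nsmul]
      simp
    rw [this, map_pow]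
    refine Subgroup.pow_mem _ (Subgroup.subset_closure ?_) _
    exact ⟨i, rfl⟩
  · have h1 : ∀ i, orderOf (φ.symm (Pi.mulSingle i (Multiplicative.ofAdd (1 : ZMod (n i))))) = n i := by
      intro i
      rw [MulEquiv.orderOf_eq]
      have : orderOf (Pi.mulSingle i (Multiplicative.ofAdd (1 : ZMod (n i))) :
          (j : κ) → Multiplicative (ZMod (n j))) = orderOf (Multiplicative.ofAdd (1 : ZMod (n i))) :=
        orderOf_injective (MonoidHom.mulSingle (fun j => Multiplicative (ZMod (n j))) i)
          (Pi.mulSingle_injective (M := fun j => Multiplicative (ZMod (n j))) i) _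
      rw [this, orderOf_ofAdd_eq_addOrderOf, ZMod.addOrderOf_one]
    simp_rw [h1]
    rw [Nat.card_congr φ.toEquiv, Nat.card_pi]
    refine Finset.prod_congr rfl fun i _ => ?_
    rw [show Nat.card (Multiplicative (ZMod (n i))) = Nat.card (ZMod (n i)) from rfl, Nat.card_zmod]



section group

variable {G : Type*} [Group G] {Q : Type*} [CommGroup Q] {M : Type*} [AddCommGroup M]
  (π : G →* Q) (d : G → (Q → M))

attribute [local instance] coindModule

/-- the derivation property in module form -/
def IsDeriv : Prop := ∀ g h, d (g * h) = d g + (MonoidAlgebra.single (π g) (1:ℤ)) • d h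

variable {π d}

lemma IsDeriv.map_one (hd : IsDeriv π d) : d 1 = 0 := by
  have := hd 1 1
  rw [mul_one, π.map_one, ← MonoidAlgebra.one_def, one_smul] at this
  exact left_eq_add.mp this

lemma IsDeriv.map_inv (hd : IsDeriv π d) (g : G) :
    d g⁻¹ = - ((MonoidAlgebra.single (π g)⁻¹ (1:ℤ)) • d g) := by
  have := hd g⁻¹ g
  rw [inv_mul_cancel, hd.map_one, π.map_inv] at this
  exact eq_neg_of_add_eq_zero_left this.symm

lemma IsDeriv.map_pow (hd : IsDeriv π d) (g : G) (n : ℕ) :
    d (g ^ n) = (∑ t ∈ Finset.range n, (MonoidAlgebra.single (π g) (1:ℤ)) ^ t) • d g := by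
  induction n with
  | zero => simp [hd.map_one]
  | succ n ih =>
    rw [pow_succ, hd, ih, Finset.sum_range_succ, add_smul, π.map_pow, MonoidAlgebra.single_pow,
      one_pow]

lemma single_mul_one (a b : Q) : (MonoidAlgebra.single (a * b) (1:ℤ)) =
    MonoidAlgebra.single a 1 * MonoidAlgebra.single b 1 := by
  rw [MonoidAlgebra.single_mul_single, mul_one]

lemma IsDeriv.exists_coeffs (hd : IsDeriv π d) {ι : Type*} [Fintype ι] [DecidableEq ι]
    (gen : ι → G) (hgen : Subgroup.closure (Set.range gen) = ⊤) (g : G) :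
    ∃ x : ι → MonoidAlgebra ℤ Q, d g = ∑ j, x j • d (gen j) ∧
      ∑ j, x j * (MonoidAlgebra.single (π (gen j)) 1 - 1) = MonoidAlgebra.single (π g) 1 - 1 := by
  have hg : g ∈ Subgroup.closure (Set.range gen) := by rw [hgen]; trivial
  induction hg using Subgroup.closure_induction with
  | mem a ha =>
    obtain ⟨i, rfl⟩ := ha
    refine ⟨Pi.single i 1, ?_, ?_⟩
    · simp [Pi.single_apply, ite_smul]
    · simp [Pi.single_apply, ite_mul]
  | one =>
    refine ⟨0, ?_, ?_⟩
    · simp [hd.map_one]
    · simp [← MonoidAlgebra.one_def]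
  | mul a b _ _ iha ihb =>
    obtain ⟨x, hx1, hx2⟩ := iha
    obtain ⟨y, hy1, hy2⟩ := ihb
    refine ⟨fun j => x j + MonoidAlgebra.single (π a) 1 * y j, ?_, ?_⟩
    · rw [hd, hx1, hy1, Finset.smul_sum, ← Finset.sum_add_distrib]
      refine Finset.sum_congr rfl fun j _ => ?_
      rw [add_smul, mul_smul]
    · simp_rw [add_mul, Finset.sum_add_distrib, mul_assoc, ← Finset.mul_sum]
      rw [hx2, hy2, π.map_mul, single_mul_one]
      ring
  | inv a _ iha =>
    obtain ⟨x, hx1, hx2⟩ := iha
    refine ⟨fun j => - (MonoidAlgebra.single (π a)⁻¹ 1 * x j), ?_, ?_⟩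
    · rw [hd.map_inv, hx1, Finset.smul_sum, ← Finset.sum_neg_distrib]
      refine Finset.sum_congr rfl fun j _ => ?_
      rw [neg_smul, mul_smul]
    · simp_rw [neg_mul, Finset.sum_neg_distrib, mul_assoc, ← Finset.mul_sum]
      rw [hx2, π.map_inv, mul_sub, mul_one, ← single_mul_one, inv_mul_cancel,
        ← MonoidAlgebra.one_def]
      ring

lemma aug_single_sub_one (a : Q) : aug Q (MonoidAlgebra.single a 1 - 1) = 0 := by
  rw [map_sub, aug_single, (aug Q).map_one, sub_self]

lemma IsDeriv.commutator_eq (hd : IsDeriv π d) (g h : G) :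
    d ⁅g, h⁆ = (1 - MonoidAlgebra.single (π h) (1:ℤ)) • d g
      + (MonoidAlgebra.single (π g) (1:ℤ) - 1) • d h := by
  rw [commutatorElement_def, hd, hd, hd, hd.map_inv, hd.map_inv]
  simp only [π.map_mul, π.map_inv]
  funext q
  simp only [Pi.add_apply, Pi.neg_apply, sub_smul, one_smul, Pi.sub_apply, single_smul_apply,
    inv_inv, mul_inv_rev]
  have e1 : π g * ((π h)⁻¹ * (π g)⁻¹ * q) = (π h)⁻¹ * q := by
    rw [mul_comm (π h)⁻¹, mul_assoc, mul_inv_cancel_left]
  have e2 : π h * ((π g)⁻¹⁻¹ * ((π h)⁻¹ * (π g)⁻¹) * q) = q := by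
    rw [inv_inv, mul_comm (π h)⁻¹, mul_inv_cancel_left, mul_inv_cancel_left]
  rw [e1]
  simp only [inv_inv] at e2
  rw [e2]
  abel

lemma IsDeriv.exists_coeffs_commutator (hd : IsDeriv π d) {ι : Type*} [Fintype ι] [DecidableEq ι]
    (gen : ι → G) (hgen : Subgroup.closure (Set.range gen) = ⊤) (a : G) (ha : a ∈ commutator G) :
    π a = 1 ∧ ∃ x : ι → MonoidAlgebra ℤ Q, (∀ j, aug Q (x j) = 0) ∧
      d a = ∑ j, x j • d (gen j) ∧
      ∑ j, x j * (MonoidAlgebra.single (π (gen j)) 1 - 1) = 0 := by
  rw [commutator_eq_closure] at ha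
  induction ha using Subgroup.closure_induction with
  | mem a ha =>
    obtain ⟨g, h, rfl⟩ := ha
    refine ⟨by rw [commutatorElement_def]; simp, ?_⟩
    obtain ⟨x, hx1, hx2⟩ := hd.exists_coeffs gen hgen g
    obtain ⟨y, hy1, hy2⟩ := hd.exists_coeffs gen hgen h
    refine ⟨fun j => (1 - MonoidAlgebra.single (π h) (1:ℤ)) * x j
      + (MonoidAlgebra.single (π g) (1:ℤ) - 1) * y j, ?_, ?_, ?_⟩
    · intro j
      have h1 : aug Q (1 - MonoidAlgebra.single (π h) (1:ℤ)) = 0 := by
        rw [map_sub, aug_single, (aug Q).map_one, sub_self]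
      rw [map_add, map_mul, map_mul, aug_single_sub_one, h1]
      ring
    · rw [hd.commutator_eq, hx1, hy1, Finset.smul_sum, Finset.smul_sum, ← Finset.sum_add_distrib]
      refine Finset.sum_congr rfl fun j _ => ?_
      rw [add_smul, mul_smul, mul_smul]
    · simp_rw [add_mul, Finset.sum_add_distrib, mul_assoc, ← Finset.mul_sum]
      rw [hx2, hy2]
      ring
  | one =>
    refine ⟨π.map_one, 0, ?_, ?_, ?_⟩
    · intro j; simp
    · simp [hd.map_one]
    · simp
  | mul a b _ _ iha ihb =>
    obtain ⟨ha1, x, hx0, hx1, hx2⟩ := iha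
    obtain ⟨hb1, y, hy0, hy1, hy2⟩ := ihb
    refine ⟨by rw [π.map_mul, ha1, hb1, one_mul], fun j => x j + y j, ?_, ?_, ?_⟩
    · intro j; rw [map_add, hx0, hy0, add_zero]
    · rw [hd, ha1, ← MonoidAlgebra.one_def, one_smul, hx1, hy1, ← Finset.sum_add_distrib]
      refine Finset.sum_congr rfl fun j _ => ?_
      rw [add_smul]
    · simp_rw [add_mul, Finset.sum_add_distrib]
      rw [hx2, hy2, add_zero]
  | inv a _ iha =>
    obtain ⟨ha1, x, hx0, hx1, hx2⟩ := iha
    refine ⟨by rw [π.map_inv, ha1, inv_one], fun j => - x j, ?_, ?_, ?_⟩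
    · intro j; rw [map_neg, hx0, neg_zero]
    · rw [hd.map_inv, ha1, inv_one, ← MonoidAlgebra.one_def, one_smul, hx1,
        ← Finset.sum_neg_distrib]
      refine Finset.sum_congr rfl fun j _ => ?_
      rw [neg_smul]
    · simp_rw [neg_mul, Finset.sum_neg_distrib]
      rw [hx2, neg_zero]

end group


section final

attribute [local instance] coindModule

lemma IsDeriv.sum_mul {G : Type*} [Group G] {Q : Type*} [CommGroup Q] [Fintype Q] {M : Type*}
    [AddCommGroup M] {π : G →* Q} {d : G → (Q → M)} (hd : IsDeriv π d) (g h : G) :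
    ∑ q, d (g * h) q = ∑ q, d g q + ∑ q, d h q := by
  rw [hd, ← Finset.sum_add_distrib]
  simp only [Pi.add_apply, single_smul_apply, one_smul, Finset.sum_add_distrib]
  congr 1
  exact Fintype.sum_equiv (Equiv.mulLeft (π g)⁻¹) _ _ (fun r => rfl)

theorem sum_eq_zero_of_isDeriv {G : Type*} [Group G] [Finite G] {M : Type*} [AddCommGroup M]
    [Fintype (Abelianization G)]
    (d : G → Abelianization G → M) (hd : IsDeriv (Abelianization.of) d) (g : G) :
    ∑ q, d g q = 0 := by
  classical
  obtain ⟨κ, hκ, qκ, hqκ, hcardκ⟩ := exists_good_generators (Abelianization G)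
  have hsurj : Function.Surjective (Abelianization.of : G →* Abelianization G) :=
    QuotientGroup.mk_surjective
  choose genκ hgenκ using fun i => hsurj (qκ i)
  letI : Fintype ↥(commutator G) := Fintype.ofFinite _
  let gen : κ ⊕ ↥(commutator G) → G := Sum.elim genκ (fun a => a.1)
  have hcomm : ∀ a : ↥(commutator G), (Abelianization.of : G →* Abelianization G) a.1 = 1 := by
    intro a
    have : a.1 ∈ (Abelianization.of : G →* Abelianization G).ker := by
      rw [Abelianization.ker_of]; exact a.2
    exact this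
  -- generation of Q
  have hq : Subgroup.closure (Set.range fun j => (Abelianization.of : G →* Abelianization G) (gen j)) = ⊤ := by
    rw [eq_top_iff, ← hqκ]
    apply Subgroup.closure_mono
    rintro _ ⟨i, rfl⟩
    exact ⟨Sum.inl i, by simp [gen, hgenκ]⟩
  -- cardinality
  have hcard : ∏ j, orderOf ((Abelianization.of : G →* Abelianization G) (gen j)) =
      Fintype.card (Abelianization G) := by
    rw [Fintype.prod_sum_type]
    simp only [gen, Sum.elim_inl, Sum.elim_inr, hgenκ, hcomm, orderOf_one, Finset.prod_const_one,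
      mul_one]
    rw [hcardκ, Nat.card_eq_fintype_card]
  -- generation of G
  have hgen : Subgroup.closure (Set.range gen) = ⊤ := by
    set L := Subgroup.closure (Set.range gen) with hL
    have h1 : commutator G ≤ L := by
      intro a ha
      exact Subgroup.subset_closure ⟨Sum.inr ⟨a, ha⟩, rfl⟩
    have h2 : L.map (Abelianization.of : G →* Abelianization G) = ⊤ := by
      rw [eq_top_iff, ← hqκ, Subgroup.closure_le]
      rintro _ ⟨i, rfl⟩
      exact ⟨genκ i, Subgroup.subset_closure ⟨Sum.inl i, rfl⟩, hgenκ i⟩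
    have h3 : (L.map (Abelianization.of : G →* Abelianization G)).comap Abelianization.of = ⊤ := by
      rw [h2, Subgroup.comap_top]
    rw [Subgroup.comap_map_eq, Abelianization.ker_of, sup_eq_left.mpr h1] at h3
    exact h3
  -- the relations
  have hrel : ∀ i, gen i ^ orderOf ((Abelianization.of : G →* Abelianization G) (gen i)) ∈
      commutator G := by
    intro i
    rw [← Abelianization.ker_of, MonoidHom.mem_ker, map_pow, pow_orderOf_eq_one]
  choose γ hγaug hγ1 hγ2 using fun i =>
    (hd.exists_coeffs_commutator gen hgen _ (hrel i)).2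
  have hgens : ∀ k, ∑ q, d (gen k) q = 0 := by
    intro k
    have := normElt_smul_eq_zero (fun j => (Abelianization.of : G →* Abelianization G) (gen j))
      hq hcard γ hγaug hγ2 (fun j => d (gen j))
      (fun i => by rw [← hγ1 i, hd.map_pow]) k
    have h2 := congrFun this 1
    rw [normElt_smul_apply] at h2
    exact h2
  have hg : g ∈ Subgroup.closure (Set.range gen) := by rw [hgen]; trivial
  induction hg using Subgroup.closure_induction with
  | mem a ha =>
    obtain ⟨k, rfl⟩ := ha
    exact hgens k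
  | one => simp [hd.map_one]
  | mul a b _ _ iha ihb => rw [hd.sum_mul, iha, ihb, add_zero]
  | inv a _ iha =>
    have := hd.sum_mul a⁻¹ a
    rw [inv_mul_cancel, iha, add_zero] at this
    rw [← this]
    simp [hd.map_one]

end final

end H1PIT
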