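import Mathlib
import Cfsg.Prelude
import Cfsg.Agent.Lib.Helper1.Schmidt
import Cfsg.Agent.Lib.Helper1.IndexP
import Cfsg.Agent.Lib.Helper1.Coprime
import Cfsg.Agent.Lib.Helper1.Cores
import Cfsg.Agent.Lib.Helper1.Nilpotent
import Cfsg.Agent.Lib.Helper1.Frattini
import Cfsg.Agent.Lib.Helper1.MaxNilp
import Cfsg.Agent.Lib.Helper1.Huppert1
import Cfsg.Agent.Lib.Helper25.PSolv
import Cfsg.Agent.H5.PSolvable

set_option autoImplicit false

/-! Groups whose maximal subgroups are `p`-nilpotent or of prime index have `p`-length at most two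
(S4378, S4379). -/

namespace Cfsg.Agent.Lib.Helper1.PLenTwo

open Cfsg Cfsg.Agent.Lib.Helper1
open Pointwise

universe u

/-- every maximal subgroup has a normal `p`-complement or prime index -/
def Hyp (p : ℕ) (G : Type*) [Group G] : Prop :=
  ∀ M : Subgroup G, IsCoatom M →
    (∃ K : Subgroup ↥M, K.Normal ∧ ¬ p ∣ Nat.card K ∧ ∃ k : ℕ, K.index = p ^ k) ∨ (M.index).Prime

/-- a normal series with factors `p'`, `p`, `p'`, `p` -/
def Chain (p : ℕ) (G : Type*) [Group G] : Prop :=
  ∃ A B C : Subgroup G, A.Normal ∧ B.Normal ∧ C.Normal ∧ A ≤ B ∧ B ≤ C ∧ ¬ p ∣ Nat.card A ∧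
    (∃ k : ℕ, A.relIndex B = p ^ k) ∧ ¬ p ∣ B.relIndex C ∧ ∃ k : ℕ, C.index = p ^ k

variable {G : Type u} [Group G] {p : ℕ}

theorem Hyp.quotient [Finite G] [hp : Fact p.Prime] (h : Hyp p G) (N : Subgroup G) [N.Normal] :
    Hyp p (G ⧸ N) := by
  intro M' hM'
  have hM := isCoatom_comap_mk N M' hM'
  rcases h _ hM with ⟨K, hKn, hKp, k, hk⟩ | hprime
  · left
    let f := (QuotientGroup.mk' N).subgroupComap M'
    have hf : Function.Surjective f :=
      (QuotientGroup.mk' N).subgroupComap_surjective_of_surjective M' (QuotientGroup.mk'_surjective N)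
    refine ⟨K.map f, hKn.map f hf, ?_, ?_⟩
    · intro hd
      exact hKp (hd.trans (Subgroup.card_map_dvd K f))
    · have h1 : (K.map f).index ∣ p ^ k := by rw [← hk]; exact Subgroup.index_map_dvd K hf
      obtain ⟨j, _, hj⟩ := (Nat.dvd_prime_pow hp.out).mp h1
      exact ⟨j, hj⟩
  · right
    rwa [Subgroup.index_comap_of_surjective _ (QuotientGroup.mk'_surjective N)] at hprime

/-- lifting a chain through a normal `p'`-subgroup -/
theorem Chain.of_quotient_pPrime [Finite G] [hp : Fact p.Prime] (N : Subgroup G) [N.Normal]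
    (hN : ¬ p ∣ Nat.card N) (h : Chain p (G ⧸ N)) : Chain p G := by
  obtain ⟨A, B, C, hAn, hBn, hCn, hAB, hBC, hA, hB, hC, hG⟩ := h
  have hs := QuotientGroup.mk'_surjective N
  refine ⟨A.comap (QuotientGroup.mk' N), B.comap (QuotientGroup.mk' N), C.comap (QuotientGroup.mk' N),
    hAn.comap _, hBn.comap _, hCn.comap _, Subgroup.comap_mono hAB, Subgroup.comap_mono hBC, ?_, ?_, ?_, ?_⟩
  · rw [IndexP.card_comap_mk]
    intro hd
    rcases (Nat.Prime.dvd_mul hp.out).mp hd with h1 | h1
    · exact hA h1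
    · exact hN h1
  · rw [Cfsg.Agent.Lib.Helper25.relIndex_comap_comap_of_surjective _ hs]; exact hB
  · rw [Cfsg.Agent.Lib.Helper25.relIndex_comap_comap_of_surjective _ hs]; exact hC
  · rw [Subgroup.index_comap_of_surjective _ hs]; exact hG

/-- lifting a chain with trivial first term through a normal `p`-subgroup -/
theorem Chain.of_quotient_pGroup [Finite G] [hp : Fact p.Prime] (N : Subgroup G) [N.Normal]
    (hN : IsPGroup p N) (B C : Subgroup (G ⧸ N)) (hBn : B.Normal) (hCn : C.Normal) (hBC : B ≤ C)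
    (hB : ∃ k : ℕ, Nat.card B = p ^ k) (hC : ¬ p ∣ B.relIndex C) (hG : ∃ k : ℕ, C.index = p ^ k) :
    Chain p G := by
  have hs := QuotientGroup.mk'_surjective N
  refine ⟨⊥, B.comap (QuotientGroup.mk' N), C.comap (QuotientGroup.mk' N),
    inferInstance, hBn.comap _, hCn.comap _, bot_le, Subgroup.comap_mono hBC, ?_, ?_, ?_, ?_⟩
  · rw [Subgroup.card_bot]; exact hp.out.one_lt.ne' ∘ Nat.dvd_one.mp
  · rw [Subgroup.relIndex_bot_left, IndexP.card_comap_mk]
    obtain ⟨k, hk⟩ := hB
    obtain ⟨j, hj⟩ := IsPGroup.iff_card.mp hN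
    exact ⟨k + j, by rw [hk, hj, pow_add]⟩
  · rw [Cfsg.Agent.Lib.Helper25.relIndex_comap_comap_of_surjective _ hs]; exact hC
  · rw [Subgroup.index_comap_of_surjective _ hs]; exact hG

/-- a normal `p`-subgroup inside the Frattini subgroup does not create normal `p'`-subgroups in
the quotient -/
theorem eq_bot_of_le_frattini [Finite G] [hp : Fact p.Prime] (N : Subgroup G) [hNn : N.Normal]
    (hN : IsPGroup p N) (hNΦ : N ≤ frattini G)
    (hno : ∀ U : Subgroup G, U.Normal → ¬ p ∣ Nat.card U → U = ⊥)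
    (A : Subgroup (G ⧸ N)) (hAn : A.Normal) (hA : ¬ p ∣ Nat.card A) : A = ⊥ := by
  set A₁ : Subgroup G := A.comap (QuotientGroup.mk' N) with hA₁
  have hA₁n : A₁.Normal := hAn.comap _
  have hNA₁ : N ≤ A₁ := by
    intro x hx
    rw [hA₁, Subgroup.mem_comap, QuotientGroup.mk'_apply, (QuotientGroup.eq_one_iff x).mpr hx]
    exact A.one_mem
  have hcardA₁ : Nat.card A₁ = Nat.card A * Nat.card N := IndexP.card_comap_mk N A
  obtain ⟨j, hj⟩ := IsPGroup.iff_card.mp hN
  have hcopAN : (Nat.card A).Coprime (Nat.card N) := by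
    rw [hj]
    exact Nat.Coprime.pow_right _ ((Nat.Prime.coprime_iff_not_dvd hp.out).mpr hA).symm
  -- a complement of `N` in `A₁`
  have hN'n : (N.subgroupOf A₁).Normal := inferInstance
  have hN'card : Nat.card (N.subgroupOf A₁) = Nat.card N :=
    Nat.card_congr (Subgroup.subgroupOfEquivOfLe hNA₁).toEquiv
  have hN'idx : (N.subgroupOf A₁).index = Nat.card A := by
    have h1 := Subgroup.card_mul_index (N.subgroupOf A₁)
    rw [hN'card, hcardA₁, mul_comm] at h1
    exact Nat.eq_of_mul_eq_mul_right Nat.card_pos h1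
  obtain ⟨H, hH⟩ := Subgroup.exists_right_complement'_of_coprime (N := N.subgroupOf A₁)
    (by rw [hN'card, hN'idx]; exact hcopAN.symm)
  set A₀ : Subgroup G := H.map A₁.subtype with hA₀
  have hA₀le : A₀ ≤ A₁ := Subgroup.map_subtype_le H
  have hA₀card : Nat.card A₀ = Nat.card A := by
    rw [hA₀, ← Nat.card_congr (H.equivMapOfInjective _ A₁.subtype_injective).toEquiv,
      ← hH.symm.index_eq_card, hN'idx]
  have hsup : A₁ ≤ A₀ ⊔ N := by
    intro x hx
    obtain ⟨n, hn, h, hh, hnh⟩ := IsComplement'.exists_mul_eq hH ⟨x, hx⟩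
    have hx' : x = (n : G) * (h : G) := by
      have := congrArg Subtype.val hnh
      simpa using this.symm
    rw [hx']
    exact mul_mem (Subgroup.mem_sup_right (Subgroup.mem_subgroupOf.mp hn))
      (Subgroup.mem_sup_left (Subgroup.mem_map_of_mem _ hh))
  have hact : CoprimeAct A₀ N := by
    refine ⟨?_, ?_, Or.inr ?_⟩
    · rw [Subgroup.normalizer_eq_top_iff.mpr hNn]; exact le_top
    · rw [hA₀card]; exact hcopAN
    · have : Group.IsNilpotent ↥N := hN.isNilpotent
      infer_instance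
  -- Frattini argument
  have hfr : Subgroup.normalizer (A₀ : Set G) ⊔ N = ⊤ := by
    rw [eq_top_iff]
    intro g _
    have hB : MulAut.conj g • A₀ ≤ A₀ ⊔ N := by
      refine le_trans ?_ hsup
      rw [conj_smul_le_iff]
      intro h hh
      exact hA₁n.conj_mem h (hA₀le hh) g
    obtain ⟨k, hk, hkA⟩ := hact.exists_conj_eq _ hB (card_conj_smul _ _)
    have h1 : k⁻¹ * g ∈ Subgroup.normalizer (A₀ : Set G) := by
      rw [← conj_smul_eq_self_iff_mem_normalizer, map_mul, mul_smul, ← hkA, ← mul_smul, ← map_mul,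
        inv_mul_cancel, map_one, one_smul]
    have h2 : g = k * (k⁻¹ * g) := by group
    rw [h2]
    exact mul_mem (Subgroup.mem_sup_right hk) (Subgroup.mem_sup_left h1)
  have hnorm : Subgroup.normalizer (A₀ : Set G) = ⊤ := by
    by_contra hne
    obtain ⟨M, hM, hle⟩ := MaxNilp.exists_coatom_ge hne
    apply hM.1
    rw [eq_top_iff, ← hfr]
    exact sup_le hle (le_trans hNΦ ((le_frattini_iff).mp le_rfl M hM))
  have hA₀n : A₀.Normal := Subgroup.normalizer_eq_top_iff.mp hnorm
  have hA₀bot : A₀ = ⊥ := hno A₀ hA₀n (by rw [hA₀card]; exact hA)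
  have : Nat.card A = 1 := by rw [← hA₀card, hA₀bot, Subgroup.card_bot]
  exact Subgroup.card_eq_one.mp this

/-- if `G` has no nontrivial normal `p'`-subgroup, `N` is an abelian normal `p`-subgroup and `A₁ ≥ N`
is normal with `|A₁ : N|` prime to `p`, then `C_{A₁}(N) = N` -/
theorem inf_centralizer_eq [Finite G] [hp : Fact p.Prime] (N : Subgroup G) [hNn : N.Normal]
    (hN : IsPGroup p N) (hNab : N ≤ Subgroup.centralizer (N : Set G))
    (hno : ∀ U : Subgroup G, U.Normal → ¬ p ∣ Nat.card U → U = ⊥)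
    (A₁ : Subgroup G) [hA₁n : A₁.Normal] (hNA : N ≤ A₁) (hidx : ¬ p ∣ N.relIndex A₁) :
    A₁ ⊓ Subgroup.centralizer (N : Set G) = N := by
  set Y : Subgroup G := A₁ ⊓ Subgroup.centralizer (N : Set G) with hY
  have hYn : Y.Normal := inferInstance
  have hNY : N ≤ Y := le_inf hNA hNab
  have hidxY : ¬ p ∣ N.relIndex Y := by
    intro hd
    apply hidx
    rw [← Subgroup.relIndex_mul_relIndex N Y A₁ hNY (inf_le_left : Y ≤ A₁)]
    exact hd.mul_right _
  obtain ⟨j, hj⟩ := IsPGroup.iff_card.mp hN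
  have hN'card : Nat.card (N.subgroupOf Y) = Nat.card N :=
    Nat.card_congr (Subgroup.subgroupOfEquivOfLe hNY).toEquiv
  have hcop : (Nat.card (N.subgroupOf Y)).Coprime (N.subgroupOf Y).index := by
    rw [hN'card, hj]
    exact Nat.Coprime.pow_left _ ((Nat.Prime.coprime_iff_not_dvd hp.out).mpr hidxY)
  obtain ⟨H, hH⟩ := Subgroup.exists_right_complement'_of_coprime (N := N.subgroupOf Y) hcop
  have hHcard : Nat.card H = N.relIndex Y := by
    rw [← hH.symm.index_eq_card]; rfl
  -- elements of `N` are central in `Y`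
  have hcen : ∀ n : ↥Y, n ∈ N.subgroupOf Y → ∀ y : ↥Y, n * y = y * n := by
    intro n hn y
    apply Subtype.ext
    have h1 : (y : G) ∈ Subgroup.centralizer (N : Set G) := (Subgroup.mem_inf.mp y.2).2
    rw [Subgroup.mem_centralizer_iff] at h1
    exact h1 (n : G) (Subgroup.mem_subgroupOf.mp hn)
  have hHn : H.Normal := by
    constructor
    intro h hh y
    obtain ⟨n, hn, h', hh', hnh⟩ := IsComplement'.exists_mul_eq hH y
    have h1 : y * h * y⁻¹ = h' * h * h'⁻¹ := by
      rw [← hnh]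
      have e1 := hcen n hn (h' * h * h'⁻¹)
      calc n * h' * h * (n * h')⁻¹ = n * (h' * h * h'⁻¹) * n⁻¹ := by group
        _ = (h' * h * h'⁻¹) * n * n⁻¹ := by rw [e1]
        _ = h' * h * h'⁻¹ := by group
    rw [h1]
    exact H.mul_mem (H.mul_mem hh' hh) (H.inv_mem hh')
  have hHcop : (Nat.card H).Coprime p := by
    rw [hHcard]
    exact ((Nat.Prime.coprime_iff_not_dvd hp.out).mpr hidxY).symm
  have hHle : H ≤ pPrimeCore p ↥Y := le_pPrimeCore hHn hHcop
  have hchar : (pPrimeCore p ↥Y).Characteristic := pPrimeCore_characteristic p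
  have hnorm : ((pPrimeCore p ↥Y).map Y.subtype).Normal := inferInstance
  have hcard : Nat.card ((pPrimeCore p ↥Y).map Y.subtype) = Nat.card (pPrimeCore p ↥Y) :=
    (Nat.card_congr ((pPrimeCore p ↥Y).equivMapOfInjective _ Y.subtype_injective).toEquiv).symm
  have hbot : (pPrimeCore p ↥Y).map Y.subtype = ⊥ := by
    apply hno _ hnorm
    rw [hcard]
    exact (Nat.Prime.coprime_iff_not_dvd hp.out).mp (pPrimeCore_coprime p).symm
  have hbot' : pPrimeCore p ↥Y = ⊥ := by
    rw [← Subgroup.card_eq_one, ← hcard, hbot, Subgroup.card_bot]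
  have hHbot : H = ⊥ := by rw [eq_bot_iff, ← hbot']; exact hHle
  have hrel : N.relIndex Y = 1 := by rw [← hHcard, hHbot, Subgroup.card_bot]
  exact le_antisymm (Subgroup.relIndex_eq_one.mp hrel) hNY

/-- the centralizer of a normal subgroup of order `p` has index prime to `p` -/
theorem not_dvd_index_centralizer [Finite G] [hp : Fact p.Prime] (N : Subgroup G) [hNn : N.Normal]
    (hN : Nat.card N = p) : ¬ p ∣ (Subgroup.centralizer (N : Set G)).index := by
  obtain ⟨S⟩ := (inferInstance : Nonempty (Sylow p G))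
  have hNp : IsPGroup p N := IsPGroup.of_card (n := 1) (by rw [hN, pow_one])
  have hNS : N ≤ (S : Subgroup G) := hNp.le_sylow_of_normal S
  have hnil : Group.IsNilpotent ↥(S : Subgroup G) := S.isPGroup'.isNilpotent
  have hN'n : (N.subgroupOf (S : Subgroup G)).Normal := inferInstance
  have hN'card : Nat.card (N.subgroupOf (S : Subgroup G)) = p := by
    rw [Nat.card_congr (Subgroup.subgroupOfEquivOfLe hNS).toEquiv, hN]
  have hN'bot : N.subgroupOf (S : Subgroup G) ≠ ⊥ := by
    intro hbot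
    rw [hbot, Subgroup.card_bot] at hN'card
    exact hp.out.one_lt.ne hN'card
  have h1 := inf_center_ne_bot_of_normal (N.subgroupOf (S : Subgroup G)) hN'bot
  have h2 : N.subgroupOf (S : Subgroup G) ⊓ Subgroup.center ↥(S : Subgroup G) =
      N.subgroupOf (S : Subgroup G) := by
    apply Subgroup.eq_of_le_of_card_ge inf_le_left
    have h3 : Nat.card ↥(N.subgroupOf (S : Subgroup G) ⊓ Subgroup.center ↥(S : Subgroup G)) ∣ p := by
      have := Subgroup.card_dvd_of_le (inf_le_left :
        N.subgroupOf (S : Subgroup G) ⊓ Subgroup.center ↥(S : Subgroup G) ≤ N.subgroupOf (S : Subgroup G))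
      rwa [hN'card] at this
    rcases (Nat.dvd_prime hp.out).mp h3 with h4 | h4
    · exact absurd (Subgroup.card_eq_one.mp h4) h1
    · rw [h4, hN'card]
  have hSC : (S : Subgroup G) ≤ Subgroup.centralizer (N : Set G) := by
    intro s hs
    rw [Subgroup.mem_centralizer_iff]
    intro n hn
    have h3 : (⟨n, hNS hn⟩ : ↥(S : Subgroup G)) ∈ Subgroup.center ↥(S : Subgroup G) := by
      have : (⟨n, hNS hn⟩ : ↥(S : Subgroup G)) ∈ N.subgroupOf (S : Subgroup G) :=
        Subgroup.mem_subgroupOf.mpr hn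
      rw [← h2] at this
      exact (Subgroup.mem_inf.mp this).2
    have h4 := Subgroup.mem_center_iff.mp h3 ⟨s, hs⟩
    exact (congrArg Subtype.val h4).symm
  intro hd
  exact S.not_dvd_index (hd.trans (Subgroup.index_dvd_of_le hSC))

/-- a minimal normal abelian subgroup not inside a maximal subgroup is complemented by it -/
theorem complement_facts [Finite G] (N : Subgroup G) [hNn : N.Normal]
    (hNab : N ≤ Subgroup.centralizer (N : Set G))
    (hmin : ∀ L : Subgroup G, L.Normal → L ≤ N → L = ⊥ ∨ L = N)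
    (M : Subgroup G) (hM : IsCoatom M) (hNM : ¬ N ≤ M) :
    N ⊔ M = ⊤ ∧ N ⊓ M = ⊥ ∧ Nat.card N * Nat.card M = Nat.card G ∧ M.index = Nat.card N := by
  have hsup : N ⊔ M = ⊤ := by
    by_contra hne
    rcases hM.le_iff.mp (le_sup_right : M ≤ N ⊔ M) with h1 | h1
    · exact hne h1
    · exact hNM (h1 ▸ le_sup_left)
  have hinfn : (N ⊓ M).Normal := by
    rw [← Subgroup.normalizer_eq_top_iff, eq_top_iff, ← hsup, sup_le_iff]
    constructor
    · intro n hn
      rw [Subgroup.mem_normalizer_iff]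
      intro x
      have key : ∀ y ∈ N, n * y * n⁻¹ = y := by
        intro y hy
        have := Subgroup.mem_centralizer_iff.mp (hNab hn) y hy
        rw [← this, mul_inv_cancel_right]
      constructor
      · intro hx
        rwa [key x (Subgroup.mem_inf.mp hx).1]
      · intro hx
        have h1 : x ∈ N := by
          have := hNn.conj_mem _ (Subgroup.mem_inf.mp hx).1 n⁻¹
          simpa [mul_assoc] using this
        rwa [key x h1] at hx
    · intro m hm
      rw [Subgroup.mem_normalizer_iff]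
      intro x
      constructor
      · intro hx
        exact Subgroup.mem_inf.mpr ⟨hNn.conj_mem _ (Subgroup.mem_inf.mp hx).1 m,
          M.mul_mem (M.mul_mem hm (Subgroup.mem_inf.mp hx).2) (M.inv_mem hm)⟩
      · intro hx
        have h1 : x = m⁻¹ * (m * x * m⁻¹) * m⁻¹⁻¹ := by group
        rw [h1]
        exact Subgroup.mem_inf.mpr ⟨hNn.conj_mem _ (Subgroup.mem_inf.mp hx).1 m⁻¹,
          M.mul_mem (M.mul_mem (M.inv_mem hm) (Subgroup.mem_inf.mp hx).2) (M.inv_mem (M.inv_mem hm))⟩
  have hinf : N ⊓ M = ⊥ := by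
    rcases hmin _ hinfn inf_le_left with h1 | h1
    · exact h1
    · exact absurd (h1 ▸ inf_le_right) hNM
  have hrel : N.relIndex M = Nat.card M := by
    rw [← Subgroup.inf_relIndex_right, hinf, Subgroup.relIndex_bot_left]
  have hcard : Nat.card N * Nat.card M = Nat.card G := by
    have h1 := card_mul_relIndex_of_le (le_sup_left : N ≤ N ⊔ M)
    rw [sup_comm, Subgroup.relIndex_sup_right, hrel, sup_comm, hsup, Subgroup.card_top] at h1
    exact h1
  refine ⟨hsup, hinf, hcard, ?_⟩
  have h1 := Subgroup.card_mul_index M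
  rw [← hcard, mul_comm] at h1
  exact Nat.eq_of_mul_eq_mul_right Nat.card_pos h1

/-- the complemented case where the complement has a normal `p`-complement -/
theorem chain_of_npc [Finite G] [hp : Fact p.Prime] (N : Subgroup G) [hNn : N.Normal]
    (hN : IsPGroup p N) (M : Subgroup G) (hsup : N ⊔ M = ⊤) (hinf : N ⊓ M = ⊥)
    (hcard : Nat.card N * Nat.card M = Nat.card G)
    (K : Subgroup ↥M) (hKn : K.Normal) (hKp : ¬ p ∣ Nat.card K) (k : ℕ) (hk : K.index = p ^ k) :
    Chain p G := by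
  set K' : Subgroup G := K.map M.subtype with hK'
  have hK'M : K' ≤ M := Subgroup.map_subtype_le K
  have hK'card : Nat.card K' = Nat.card K :=
    (Nat.card_congr (K.equivMapOfInjective _ M.subtype_injective).toEquiv).symm
  have hNK' : N ⊓ K' = ⊥ := by
    rw [eq_bot_iff, ← hinf]; exact inf_le_inf_left _ hK'M
  have hMK' : M ≤ Subgroup.normalizer (K' : Set G) := by
    apply le_normalizer_of_forall_conj_mem'
    intro m hm x hx
    obtain ⟨y, hy, rfl⟩ := Subgroup.mem_map.mp hx
    have := hKn.conj_mem y hy ⟨m, hm⟩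
    exact Subgroup.mem_map.mpr ⟨_, this, rfl⟩
  have hCn : (K' ⊔ N).Normal := by
    rw [← Subgroup.normalizer_eq_top_iff, eq_top_iff, ← hsup, sup_le_iff]
    constructor
    · exact le_trans le_sup_right Subgroup.le_normalizer
    · intro m hm
      rw [← conj_smul_eq_self_iff_mem_normalizer, Subgroup.smul_sup,
        conj_smul_eq_self_iff_mem_normalizer.mpr (hMK' hm),
        conj_smul_eq_self_iff_mem_normalizer.mpr
          (by rw [Subgroup.normalizer_eq_top_iff.mpr hNn]; trivial)]
  have hrel : N.relIndex (K' ⊔ N) = Nat.card K := by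
    rw [Subgroup.relIndex_sup_right, ← Subgroup.inf_relIndex_right, hNK', Subgroup.relIndex_bot_left,
      hK'card]
  obtain ⟨j, hj⟩ := IsPGroup.iff_card.mp hN
  refine ⟨⊥, N, K' ⊔ N, inferInstance, hNn, hCn, bot_le, le_sup_right, ?_, ⟨j, ?_⟩, ?_, ⟨k, ?_⟩⟩
  · rw [Subgroup.card_bot]; exact hp.out.one_lt.ne' ∘ Nat.dvd_one.mp
  · rw [Subgroup.relIndex_bot_left, hj]
  · rw [hrel]; exact hKp
  · have h1 := card_mul_relIndex_of_le (le_sup_right : N ≤ K' ⊔ N)
    rw [hrel] at h1
    have h2 := Subgroup.card_mul_index (K' ⊔ N)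
    have h3 := Subgroup.card_mul_index K
    rw [hk] at h3
    rw [← h1, ← hcard, ← h3] at h2
    have hpos : 0 < Nat.card N * Nat.card K := Nat.mul_pos Nat.card_pos Nat.card_pos
    have h4 : Nat.card N * Nat.card K * (K' ⊔ N).index = Nat.card N * Nat.card K * p ^ k := by
      rw [h2]; ring
    exact Nat.eq_of_mul_eq_mul_left hpos h4

/-- the case of a normal subgroup of order `p` -/
theorem chain_of_card_prime [Finite G] [hp : Fact p.Prime] (N : Subgroup G) [hNn : N.Normal]
    (hNcard : Nat.card N = p)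
    (hno : ∀ U : Subgroup G, U.Normal → ¬ p ∣ Nat.card U → U = ⊥)
    (hch : Chain p (G ⧸ N)) : Chain p G := by
  obtain ⟨A, B, C, hAn, hBn, hCn, hAB, hBC, hA, ⟨kB, hB⟩, hC, ⟨kG, hG⟩⟩ := hch
  have hs := QuotientGroup.mk'_surjective N
  set A₁ : Subgroup G := A.comap (QuotientGroup.mk' N) with hA₁
  set B₁ : Subgroup G := B.comap (QuotientGroup.mk' N) with hB₁
  set C₁ : Subgroup G := C.comap (QuotientGroup.mk' N) with hC₁
  have hA₁n : A₁.Normal := hAn.comap _
  have hB₁n : B₁.Normal := hBn.comap _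
  have hC₁n : C₁.Normal := hCn.comap _
  have hAB₁ : A₁ ≤ B₁ := Subgroup.comap_mono hAB
  have hBC₁ : B₁ ≤ C₁ := Subgroup.comap_mono hBC
  have hN : IsPGroup p N := IsPGroup.of_card (n := 1) (by rw [hNcard, pow_one])
  have hNcyc : IsCyclic ↥N := isCyclic_of_prime_card hNcard
  have hNab : N ≤ Subgroup.centralizer (N : Set G) := by
    intro x hx
    rw [Subgroup.mem_centralizer_iff]
    intro y hy
    have := (IsCyclic.commGroup (α := ↥N)).mul_comm ⟨y, hy⟩ ⟨x, hx⟩
    exact congrArg Subtype.val this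
  have hNA₁ : N ≤ A₁ := by
    intro x hx
    rw [hA₁, Subgroup.mem_comap, QuotientGroup.mk'_apply, (QuotientGroup.eq_one_iff x).mpr hx]
    exact A.one_mem
  have hrelA : N.relIndex A₁ = Nat.card A := by
    have h1 := card_mul_relIndex_of_le hNA₁
    rw [hA₁, IndexP.card_comap_mk, mul_comm] at h1
    exact Nat.eq_of_mul_eq_mul_right Nat.card_pos h1
  have hY : A₁ ⊓ Subgroup.centralizer (N : Set G) = N :=
    inf_centralizer_eq N hN hNab hno A₁ hNA₁ (by rw [hrelA]; exact hA)
  have hidx0 := not_dvd_index_centralizer N hNcard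
  set W : Subgroup G := B₁ ⊓ Subgroup.centralizer (N : Set G) with hW
  have hWn : W.Normal := inferInstance
  have hWA : A₁ ⊓ W = N := by
    rw [hW, ← inf_assoc, inf_eq_left.mpr hAB₁, hY]
  -- `|W|` is a power of `p`
  have hrelW : A₁.relIndex W ∣ p ^ kB := by
    rw [← hB, ← Cfsg.Agent.Lib.Helper25.relIndex_comap_comap_of_surjective _ hs A B,
      ← Cfsg.H5.card_map_mk' A₁ W, ← Cfsg.H5.card_map_mk' A₁ B₁]
    exact Subgroup.card_dvd_of_le (Subgroup.map_mono inf_le_left)
  obtain ⟨i, _, hi⟩ := (Nat.dvd_prime_pow hp.out).mp hrelW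
  have hWcard : Nat.card W = p ^ (i + 1) := by
    have h1 := card_mul_relIndex_of_le (inf_le_right : A₁ ⊓ W ≤ W)
    rw [Subgroup.inf_relIndex_right, hWA, hNcard, hi] at h1
    rw [← h1, pow_succ, mul_comm]
  have hWC : W ≤ C₁ := le_trans inf_le_left hBC₁
  refine ⟨⊥, W, C₁, inferInstance, hWn, hC₁n, bot_le, hWC, ?_, ⟨i + 1, ?_⟩, ?_, ⟨kG, ?_⟩⟩
  · rw [Subgroup.card_bot]; exact hp.out.one_lt.ne' ∘ Nat.dvd_one.mp
  · rw [Subgroup.relIndex_bot_left, hWcard]
  · rw [← Subgroup.relIndex_mul_relIndex W B₁ C₁ inf_le_left hBC₁]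
    intro hd
    rcases (Nat.Prime.dvd_mul hp.out).mp hd with h1 | h1
    · apply hidx0
      have h2 : W.relIndex B₁ = (Subgroup.centralizer (N : Set G)).relIndex B₁ := by
        rw [hW, inf_comm, Subgroup.inf_relIndex_right]
      rw [h2] at h1
      exact h1.trans (Subgroup.relIndex_dvd_index_of_normal _ _)
    · rw [Cfsg.Agent.Lib.Helper25.relIndex_comap_comap_of_surjective _ hs] at h1
      exact hC h1
  · rw [Subgroup.index_comap_of_surjective _ hs]; exact hG

/-- main theorem: a `p`-solvable group whose maximal subgroups are `p`-nilpotent or of prime index has a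
normal series with factors `p'`, `p`, `p'`, `p` -/
theorem chain_of_hyp [hp : Fact p.Prime] : ∀ (n : ℕ) (G : Type u) [Group G] [Finite G],
    Nat.card G = n → Cfsg.IsPSolvable p G → Hyp p G → Chain p G := by
  intro n
  induction n using Nat.strong_induction_on with
  | _ n ih =>
  intro G _ _ hn hps hyp
  by_cases hU : ∃ U : Subgroup G, U.Normal ∧ ¬ p ∣ Nat.card U ∧ U ≠ ⊥
  · obtain ⟨U, hUn, hUp, hU1⟩ := hU
    have hlt : Nat.card (G ⧸ U) < n := hn ▸ card_quotient_lt_of_ne_bot hU1
    exact Chain.of_quotient_pPrime U hUp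
      (ih _ hlt (G ⧸ U) rfl (Cfsg.H5.isPSolvable_quotient U hps) (hyp.quotient U))
  · have hno : ∀ U : Subgroup G, U.Normal → ¬ p ∣ Nat.card U → U = ⊥ := by
      intro U h1 h2
      by_contra h3
      exact hU ⟨U, h1, h2, h3⟩
    by_cases htriv : (⊤ : Subgroup G) = ⊥
    · have hG1 : Nat.card G = 1 := by
        rw [← Subgroup.card_top (G := G), htriv, Subgroup.card_bot]
      refine ⟨⊥, ⊥, ⊥, inferInstance, inferInstance, inferInstance, le_rfl, le_rfl, ?_, ⟨0, ?_⟩, ?_,
        ⟨0, ?_⟩⟩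
      · rw [Subgroup.card_bot]; exact hp.out.one_lt.ne' ∘ Nat.dvd_one.mp
      · rw [Subgroup.relIndex_bot_left, Subgroup.card_bot, pow_zero]
      · rw [Subgroup.relIndex_bot_left, Subgroup.card_bot]; exact hp.out.one_lt.ne' ∘ Nat.dvd_one.mp
      · rw [Subgroup.index_bot, hG1, pow_zero]
    · obtain ⟨L, -, hLn, hL1, hLp⟩ :=
        Cfsg.H5.exists_normal_p_or_pPrime_le hps ⊤ inferInstance htriv
      have hLp' : IsPGroup p L := by
        rcases hLp with h | h
        · exact h
        · exact absurd (hno L hLn ((Nat.Prime.coprime_iff_not_dvd hp.out).mp h.symm)) hL1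
      obtain ⟨N, hNn, hN1, hNL, hmin⟩ := Huppert.exists_minimal_normal_le L hL1
      have hNp : IsPGroup p N := hLp'.to_le hNL
      have hNab : N ≤ Subgroup.centralizer (N : Set G) :=
        (Huppert.le_centralizer_of_minimal hLp' hNL hN1 hmin).trans (Subgroup.centralizer_le hNL)
      have hlt : Nat.card (G ⧸ N) < n := hn ▸ card_quotient_lt_of_ne_bot hN1
      have hchq := ih _ hlt (G ⧸ N) rfl (Cfsg.H5.isPSolvable_quotient N hps) (hyp.quotient N)
      by_cases hΦ : N ≤ frattini G
      · obtain ⟨A, B, C, hAn, hBn, hCn, hAB, hBC, hA, hB, hC, hG⟩ := hchq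
        have hAbot : A = ⊥ := eq_bot_of_le_frattini N hNp hΦ hno A hAn hA
        rw [hAbot, Subgroup.relIndex_bot_left] at hB
        exact Chain.of_quotient_pGroup N hNp B C hBn hCn hBC hB hC hG
      · obtain ⟨M, hM, hNM⟩ : ∃ M : Subgroup G, IsCoatom M ∧ ¬ N ≤ M := by
          by_contra hcon
          push Not at hcon
          exact hΦ (le_frattini_iff.mpr hcon)
        obtain ⟨hsup, hinf, hcard, hidx⟩ := complement_facts N hNab hmin M hM hNM
        rcases hyp M hM with ⟨K, hKn, hKp, k, hk⟩ | hprime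
        · exact chain_of_npc N hNp M hsup hinf hcard K hKn hKp k hk
        · have hNcard : Nat.card N = p := by
            rw [hidx] at hprime
            obtain ⟨j, hj⟩ := IsPGroup.iff_card.mp hNp
            have hj0 : j ≠ 0 := by
              intro h0
              rw [hj, h0, pow_zero] at hprime
              exact Nat.not_prime_one hprime
            have hd : p ∣ Nat.card N := by rw [hj]; exact dvd_pow_self p hj0
            exact ((Nat.prime_dvd_prime_iff_eq hp.out hprime).mp hd).symm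
          exact chain_of_card_prime N hNcard hno hchq

end Cfsg.Agent.Lib.Helper1.PLenTwo
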