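import Mathlib
import Cfsg.Agent.Lib.Helper10.PComponent

/-!
# Helper1 library: `p`-length one for solvable groups with abelian Sylow `p`-subgroups

* `sylow_eq_pCore_of_comm`: solvable, `O_{p'}(G) = 1`, abelian Sylow `P` ⇒ `P = O_p(G)`.
* `sylow_sup_pPrimeCore_normal`: solvable, abelian Sylow `P` ⇒ `P O_{p'}(G)` normal.
-/

set_option autoImplicit false

namespace Cfsg.Agent.Lib.Helper1

open Subgroup Cfsg

/-- In a finite solvable group with trivial `p'`-core, an abelian Sylow `p`-subgroup is normal. -/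
theorem sylow_eq_pCore_of_comm {G : Type*} [Group G] [Finite G] [Group.IsSolvable G]
    (p : ℕ) [Fact p.Prime] (h : pPrimeCore p G = ⊥) (P : Sylow p G) (hP : IsMulCommutative P) :
    (P : Subgroup G) = pCore p G := by
  apply le_antisymm _ (pCore_le_sylow P)
  refine le_trans ?_ (centralizer_pCore_le p h)
  intro x hx
  rw [Subgroup.mem_centralizer_iff]
  intro y hy
  have hyP : y ∈ (P : Subgroup G) := pCore_le_sylow P hy
  exact congrArg Subtype.val (mul_comm' (⟨y, hyP⟩ : P) ⟨x, hx⟩)

/-- `p`-length one for solvable groups with abelian Sylow `p`-subgroups. -/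
theorem sylow_sup_pPrimeCore_normal {G : Type*} [Group G] [Finite G] [Group.IsSolvable G]
    (p : ℕ) [Fact p.Prime] (P : Sylow p G) (hP : IsMulCommutative P) :
    ((P : Subgroup G) ⊔ Cfsg.pPrimeCore p G).Normal := by
  let N := pPrimeCore p G
  let f := QuotientGroup.mk' N
  have hf : Function.Surjective f := QuotientGroup.mk'_surjective N
  let Pbar : Sylow p (G ⧸ N) := P.mapSurjective hf
  have hPbar : IsMulCommutative Pbar := by
    refine ⟨⟨?_⟩⟩
    rintro ⟨a, ha⟩ ⟨b, hb⟩
    have ha' : a ∈ (P : Subgroup G).map f := by rwa [← Sylow.coe_mapSurjective hf P]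
    have hb' : b ∈ (P : Subgroup G).map f := by rwa [← Sylow.coe_mapSurjective hf P]
    obtain ⟨x, hx, rfl⟩ := ha'
    obtain ⟨y, hy, rfl⟩ := hb'
    apply Subtype.ext
    show f x * f y = f y * f x
    rw [← map_mul, ← map_mul]
    congr 1
    exact congrArg Subtype.val (mul_comm' (⟨x, hx⟩ : P) ⟨y, hy⟩)
  have h1 := sylow_eq_pCore_of_comm p (Cfsg.Agent.Lib.Helper10.pPrimeCore_quotient_eq_bot p) Pbar hPbar
  have h2 : (P : Subgroup G) ⊔ N = (pCore p (G ⧸ N)).comap f := by
    rw [← h1, Sylow.coe_mapSurjective, Subgroup.comap_map_eq, QuotientGroup.ker_mk']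
  rw [h2]
  exact Subgroup.Normal.comap (pCore_normal p) f

end Cfsg.Agent.Lib.Helper1
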