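import Mathlib
import Cfsg.Agent.S0713

/-!
# S4150, part A (helper1): primitivity from a long prime cycle and the local Jordan argument
-/

set_option autoImplicit false

open Equiv Equiv.Perm MulAction

namespace Cfsg.Agent.Lib.Helper1.S4150

open scoped Pointwise

/-- If a power `g ^ k`, `0 < k < q`, of an element of prime order `q` stabilizes something, so does `g`. -/
theorem smul_eq_of_pow_smul_eq' {G : Type*} [Group G] {Y : Type*} [MulAction G Y] {g : G} {q : ℕ}
    (hq : q.Prime) (hgq : orderOf g = q) {y : Y} {k : ℕ} (hk0 : 0 < k) (hkq : k < q)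
    (h : g ^ k • y = y) : g • y = y := by
  have hcop : Nat.Coprime k q := by
    rw [Nat.coprime_comm, Nat.Prime.coprime_iff_not_dvd hq]
    intro hd
    have := Nat.le_of_dvd hk0 hd
    omega
  obtain ⟨m, -, hm⟩ := Nat.exists_mul_mod_eq_one_of_coprime hcop hq.one_lt
  have hpow : ∀ j : ℕ, (g ^ k) ^ j • y = y := by
    intro j
    induction j with
    | zero => simp
    | succ j ih => rw [pow_succ, mul_smul, h, ih]
  have h1 : (g ^ k) ^ m = g := by
    rw [← pow_mul, ← pow_mod_orderOf, hgq, hm, pow_one]
  have := hpow m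
  rwa [h1] at this

/-- A transitive permutation group containing a cycle of prime length `q` with `|Ω| < 2 q` is
primitive. -/
theorem isPreprimitive_of_long_prime_cycle {Ω : Type*} [Fintype Ω] [DecidableEq Ω]
    (T : Subgroup (Perm Ω)) [IsPretransitive T Ω] {q : ℕ} (hq : q.Prime)
    (hcard : Fintype.card Ω < 2 * q) (g : Perm Ω) (hg : g ∈ T) (hc : g.IsCycle)
    (hs : g.support.card = q) : IsPreprimitive T Ω := by
  classical
  have hne : g.support.Nonempty := by
    rw [← Finset.card_pos, hs]; exact hq.pos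
  obtain ⟨a, ha⟩ := hne
  have hcardX : Nat.card Ω = Fintype.card Ω := Nat.card_eq_fintype_card
  set g' : T := ⟨g, hg⟩ with hg'
  have hgq : orderOf g = q := by rw [hc.orderOf, hs]
  have hq' : orderOf g' = q := by
    rw [← hgq, ← Subgroup.orderOf_coe g']
  apply IsPreprimitive.of_isTrivialBlock_base a
  intro B haB hB
  by_cases hgB : g' • B = B
  · right
    apply hB.eq_univ_of_card_lt
    rw [hcardX]
    have hsub : (g.support : Set Ω) ⊆ B := by
      intro x hx
      have hx' : g x ≠ x := by simpa using hx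
      have ha' : g a ≠ a := by simpa using ha
      obtain ⟨i, hi⟩ := hc.exists_zpow_eq ha' hx'
      have hst : g' ^ i • B = B := by
        have : g' ∈ stabilizer T B := hgB
        exact (stabilizer T B).zpow_mem this i
      rw [← hst, ← hi]
      refine ⟨a, haB, ?_⟩
      simp [hg', Subgroup.smul_def]
    have hle : q ≤ B.ncard := by
      have := Set.ncard_le_ncard hsub (Set.toFinite B)
      rwa [Set.ncard_coe_finset, hs] at this
    omega
  · left
    apply hB.subsingleton_of_card_lt
    rw [hcardX]
    have hlt : ∀ i j : ℕ, i < j → j < q → g' ^ i • B = g' ^ j • B → False := by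
      intro i j hij hjq h
      apply hgB
      apply smul_eq_of_pow_smul_eq' hq hq' (k := j - i) (by omega) (by omega)
      have hj' : j = i + (j - i) := by omega
      have h1 : g' ^ j • B = g' ^ i • (g' ^ (j - i) • B) := by
        conv_lhs => rw [hj', pow_add, mul_smul]
      have h2 : g' ^ i • B = g' ^ i • (g' ^ (j - i) • B) := by
        rw [← h1]; exact h
      exact (smul_left_cancel _ h2).symm
    have hinj : Set.InjOn (fun i : ℕ => g' ^ i • B) (Finset.range q : Set ℕ) := by
      intro i hi j hj hij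
      simp only [Finset.coe_range, Set.mem_Iio] at hi hj
      by_contra hne
      rcases lt_or_gt_of_ne hne with h | h
      · exact hlt i j h hj hij
      · exact hlt j i h hi hij.symm
    have hsub : (((Finset.range q).image (fun i : ℕ => g' ^ i • B) : Finset (Set Ω)) : Set (Set Ω))
        ⊆ orbit T B := by
      intro C hC
      simp only [Finset.coe_image, Finset.coe_range, Set.mem_image, Set.mem_Iio] at hC
      obtain ⟨i, _, rfl⟩ := hC
      exact ⟨g' ^ i, rfl⟩
    have hcard' := Set.ncard_le_ncard hsub (Set.toFinite _)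
    rw [Set.ncard_coe_finset, Finset.card_image_of_injOn hinj, Finset.card_range] at hcard'
    omega


/-- the `a`-cycle through a moved point has length `p` when `a` has prime order `p` -/
theorem card_support_cycleOf_of_prime {Ω : Type*} [Fintype Ω] [DecidableEq Ω] (a : Perm Ω) {p : ℕ}
    (hp : p.Prime) (hap : orderOf a = p) {ω : Ω} (hω : ω ∈ a.support) :
    (a.cycleOf ω).support.card = p := by
  obtain ⟨n, hn⟩ := Equiv.Perm.cycleType_prime_order (hap ▸ hp)
  have hmem : (a.cycleOf ω).support.card ∈ a.cycleType := by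
    rw [Equiv.Perm.cycleType_def]
    apply Multiset.mem_map_of_mem
    exact Equiv.Perm.cycleOf_mem_cycleFactorsFinset_iff.mpr hω
  rw [hn, hap] at hmem
  exact Multiset.eq_of_mem_replicate hmem

/-- `closure {a, b}` is transitive if `b` is a cycle, `a` has prime order, the supports cover and
`|Ω| < p + q`. -/
theorem isPretransitive_closure {Ω : Type*} [Fintype Ω] [DecidableEq Ω] (a b : Perm Ω) {p q : ℕ}
    (hp : p.Prime) (hap : orderOf a = p) (hbc : b.IsCycle) (hbq : b.support.card = q)
    (hcov : ∀ ω, ω ∈ a.support ∨ ω ∈ b.support) (h1 : Fintype.card Ω < p + q) :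
    IsPretransitive (Subgroup.closure ({a, b} : Set (Perm Ω))) Ω := by
  classical
  set H := Subgroup.closure ({a, b} : Set (Perm Ω)) with hH
  have haH : a ∈ H := Subgroup.subset_closure (by simp)
  have hbH : b ∈ H := Subgroup.subset_closure (by simp)
  obtain ⟨ω0, hω0⟩ := hbc.nonempty_support
  have hb0 : b ω0 ≠ ω0 := by simpa using hω0
  -- every point of supp b is in the orbit of ω0
  have hborb : ∀ ω ∈ b.support, ω ∈ orbit H ω0 := by
    intro ω hω
    have hbω : b ω ≠ ω := by simpa using hω
    obtain ⟨i, hi⟩ := hbc.exists_zpow_eq hb0 hbω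
    exact ⟨⟨b ^ i, H.zpow_mem hbH i⟩, hi⟩
  have hall : ∀ ω, ω ∈ orbit H ω0 := by
    intro ω
    by_contra hω
    have hωb : ω ∉ b.support := fun h => hω (hborb ω h)
    have hωa : ω ∈ a.support := (hcov ω).resolve_right hωb
    have hcard := card_support_cycleOf_of_prime a hp hap hωa
    have hdisj : Disjoint (a.cycleOf ω).support b.support := by
      rw [Finset.disjoint_left]
      intro z hz hzb
      rw [Equiv.Perm.mem_support_cycleOf_iff] at hz
      obtain ⟨⟨i, hi⟩, -⟩ := hz
      have hzo : z ∈ orbit H ω0 := hborb z hzb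
      apply hω
      obtain ⟨k, hk⟩ := hzo
      refine ⟨(⟨a ^ i, H.zpow_mem haH i⟩ : H)⁻¹ * k, ?_⟩
      change ((⟨a ^ i, H.zpow_mem haH i⟩ : H)⁻¹ * k) • ω0 = ω
      have hk' : k • ω0 = z := hk
      rw [mul_smul, hk', ← hi]
      change (a ^ i)⁻¹ ((a ^ i) ω) = ω
      simp
    have := Finset.card_le_univ ((a.cycleOf ω).support ∪ b.support)
    rw [Finset.card_union_of_disjoint hdisj, hcard, hbq] at this
    omega
  exact ⟨fun x y => by
    obtain ⟨g, hg⟩ := hall x
    obtain ⟨h, hh⟩ := hall y
    have hg' : g • ω0 = x := hg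
    have hh' : h • ω0 = y := hh
    exact ⟨h * g⁻¹, by rw [mul_smul, ← hg', inv_smul_smul, hh']⟩⟩

/-- The local Jordan argument. -/
theorem closure_eq_alt {Ω : Type*} [Fintype Ω] [DecidableEq Ω] (a b : Perm Ω) {p q : ℕ}
    (hp : p.Prime) (hq : q.Prime) (hap : orderOf a = p) (hbc : b.IsCycle)
    (hbq : b.support.card = q) (hcov : ∀ ω, ω ∈ a.support ∨ ω ∈ b.support)
    (h1 : Fintype.card Ω < p + q) (h2 : Fintype.card Ω < 2 * q)
    (ha : a ∈ alternatingGroup Ω) (hb : b ∈ alternatingGroup Ω) (h5 : 5 ≤ Fintype.card Ω)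
    (hJ : (a.IsCycle ∧ p + 3 ≤ Fintype.card Ω) ∨ q + 3 ≤ Fintype.card Ω) :
    Subgroup.closure ({a, b} : Set (Perm Ω)) = alternatingGroup Ω := by
  classical
  have htr := isPretransitive_closure a b hp hap hbc hbq hcov h1
  set H := Subgroup.closure ({a, b} : Set (Perm Ω)) with hH
  have haH : a ∈ H := Subgroup.subset_closure (by simp)
  have hbH : b ∈ H := Subgroup.subset_closure (by simp)
  have hprim : IsPreprimitive H Ω := isPreprimitive_of_long_prime_cycle H hq h2 b hbH hbc hbq
  apply le_antisymm
  · rw [hH, Subgroup.closure_le]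
    intro x hx
    rcases hx with rfl | hx
    · exact ha
    · rw [Set.mem_singleton_iff] at hx; subst hx; exact hb
  · rcases hJ with ⟨hac, hpn⟩ | hqn
    · exact Cfsg.Agent.S0713.result H hprim hp h5 hpn hac (by rw [← hac.orderOf, hap]) haH
    · exact Cfsg.Agent.S0713.result H hprim hq h5 hqn hbc hbq hbH

/-- The variant with a 3-cycle. -/
theorem closure_eq_alt_three {Ω : Type*} [Fintype Ω] [DecidableEq Ω] (a b : Perm Ω) {q : ℕ}
    (hq : q.Prime) (h3 : a.IsThreeCycle) (hbc : b.IsCycle)
    (hbq : b.support.card = q) (hcov : ∀ ω, ω ∈ a.support ∨ ω ∈ b.support)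
    (h1 : Fintype.card Ω < 3 + q) (h2 : Fintype.card Ω < 2 * q)
    (hb : b ∈ alternatingGroup Ω) :
    Subgroup.closure ({a, b} : Set (Perm Ω)) = alternatingGroup Ω := by
  classical
  have htr := isPretransitive_closure a b Nat.prime_three h3.orderOf hbc hbq hcov h1
  set H := Subgroup.closure ({a, b} : Set (Perm Ω)) with hH
  have haH : a ∈ H := Subgroup.subset_closure (by simp)
  have hbH : b ∈ H := Subgroup.subset_closure (by simp)
  have hprim : IsPreprimitive H Ω := isPreprimitive_of_long_prime_cycle H hq h2 b hbH hbc hbq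
  apply le_antisymm
  · rw [hH, Subgroup.closure_le]
    intro x hx
    rcases hx with rfl | hx
    · exact h3.mem_alternatingGroup
    · rw [Set.mem_singleton_iff] at hx; subst hx; exact hb
  · exact Equiv.Perm.alternatingGroup_le_of_isPreprimitive_of_isThreeCycle_mem hprim h3 haH

end Cfsg.Agent.Lib.Helper1.S4150
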