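import Mathlib
import Cfsg.Agent.Lib.Helper1.PQGenA

/-!
# S4150, part B (helper1): transport from `alternatingGroup (Fin m)` to the union of the supports
-/

set_option autoImplicit false

open Equiv Equiv.Perm MulAction

namespace Cfsg.Agent.Lib.Helper1.S4150

/-- the conclusion of S4150 for a pair -/
def Good (m : ℕ) (x y : alternatingGroup (Fin m)) : Prop :=
  ∃ d : ℕ, 5 ≤ d ∧ Nonempty (Subgroup.closure ({x, y} : Set (alternatingGroup (Fin m))) ≃*
    alternatingGroup (Fin d))

/-- transport along `ofSubtype` -/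
theorem good_of_local {m : ℕ} (x y : alternatingGroup (Fin m)) (s : Finset (Fin m))
    (a b : Perm {i // i ∈ s}) (ha : ofSubtype a = (x : Perm (Fin m)))
    (hb : ofSubtype b = (y : Perm (Fin m)))
    (hloc : ∃ d : ℕ, 5 ≤ d ∧ Nonempty (Subgroup.closure ({a, b} : Set (Perm {i // i ∈ s})) ≃*
      alternatingGroup (Fin d))) : Good m x y := by
  obtain ⟨d, hd, ⟨e⟩⟩ := hloc
  refine ⟨d, hd, ⟨?_⟩⟩
  have e1 := Subgroup.equivMapOfInjective (Subgroup.closure ({x, y} : Set (alternatingGroup (Fin m))))
    (alternatingGroup (Fin m)).subtype (Subgroup.subtype_injective _)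
  have e2 := Subgroup.equivMapOfInjective (Subgroup.closure ({a, b} : Set (Perm {i // i ∈ s})))
    (ofSubtype : Perm {i // i ∈ s} →* Perm (Fin m)) ofSubtype_injective
  have h1 : (Subgroup.closure ({x, y} : Set (alternatingGroup (Fin m)))).map
      (alternatingGroup (Fin m)).subtype =
      Subgroup.closure ({(x : Perm (Fin m)), (y : Perm (Fin m))} : Set (Perm (Fin m))) := by
    rw [MonoidHom.map_closure, Set.image_pair]
    rfl
  have h2 : (Subgroup.closure ({a, b} : Set (Perm {i // i ∈ s}))).map
      (ofSubtype : Perm {i // i ∈ s} →* Perm (Fin m)) =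
      Subgroup.closure ({(x : Perm (Fin m)), (y : Perm (Fin m))} : Set (Perm (Fin m))) := by
    rw [MonoidHom.map_closure, Set.image_pair, ha, hb]
  exact (e1.trans (MulEquiv.subgroupCongr (h1.trans h2.symm))).trans (e2.symm.trans e)

/-- the alternating group of a finite type is the alternating group of `Fin (card)` -/
theorem local_of_eq_alt {Ω : Type*} [Fintype Ω] [DecidableEq Ω] (a b : Perm Ω)
    (h : Subgroup.closure ({a, b} : Set (Perm Ω)) = alternatingGroup Ω) (h5 : 5 ≤ Fintype.card Ω) :
    ∃ d : ℕ, 5 ≤ d ∧ Nonempty (Subgroup.closure ({a, b} : Set (Perm Ω)) ≃*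
      alternatingGroup (Fin d)) :=
  ⟨Fintype.card Ω, h5, ⟨(MulEquiv.subgroupCongr h).trans
    (Equiv.altCongrHom (Fintype.equivFin Ω))⟩⟩

/-- the local data of a pair -/
theorem exists_local {m : ℕ} (X Y : Perm (Fin m)) :
    ∃ (a b : Perm {i // i ∈ X.support ∪ Y.support}), ofSubtype a = X ∧ ofSubtype b = Y ∧
      (∀ ω, ω ∈ a.support ∨ ω ∈ b.support) := by
  classical
  have hX1 : ∀ i, X i ∈ X.support ∪ Y.support ↔ i ∈ X.support ∪ Y.support := by
    intro i
    by_cases hi : i ∈ X.support
    · have : X i ∈ X.support := Equiv.Perm.apply_mem_support.mpr hi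
      simp [Finset.mem_union, hi, this]
    · have : X i = i := by simpa using hi
      rw [this]
  have hY1 : ∀ i, Y i ∈ X.support ∪ Y.support ↔ i ∈ X.support ∪ Y.support := by
    intro i
    by_cases hi : i ∈ Y.support
    · have : Y i ∈ Y.support := Equiv.Perm.apply_mem_support.mpr hi
      simp [Finset.mem_union, hi, this]
    · have : Y i = i := by simpa using hi
      rw [this]
  refine ⟨X.subtypePerm hX1, Y.subtypePerm hY1, ?_, ?_, ?_⟩
  · apply Equiv.Perm.ofSubtype_subtypePerm
    intro i hi
    exact Finset.mem_union_left _ (by simpa using hi)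
  · apply Equiv.Perm.ofSubtype_subtypePerm
    intro i hi
    exact Finset.mem_union_right _ (by simpa using hi)
  · rintro ⟨i, hi⟩
    rcases Finset.mem_union.mp hi with h | h
    · left
      rw [Equiv.Perm.mem_support] at h ⊢
      intro hc
      apply h
      have := congrArg Subtype.val hc
      simpa using this
    · right
      rw [Equiv.Perm.mem_support] at h ⊢
      intro hc
      apply h
      have := congrArg Subtype.val hc
      simpa using this

section transfer

variable {m : ℕ} {s : Finset (Fin m)} {a : Perm {i // i ∈ s}} {X : Perm (Fin m)}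

theorem cycleType_of_ofSubtype (h : ofSubtype a = X) : a.cycleType = X.cycleType := by
  rw [← h, Equiv.Perm.cycleType_ofSubtype]

theorem orderOf_of_ofSubtype (h : ofSubtype a = X) : orderOf a = orderOf X := by
  rw [← Equiv.Perm.lcm_cycleType, ← Equiv.Perm.lcm_cycleType, cycleType_of_ofSubtype h]

theorem isCycle_of_ofSubtype (h : ofSubtype a = X) : a.IsCycle ↔ X.IsCycle := by
  rw [← Equiv.Perm.card_cycleType_eq_one, ← Equiv.Perm.card_cycleType_eq_one,
    cycleType_of_ofSubtype h]

theorem card_support_of_ofSubtype (h : ofSubtype a = X) : a.support.card = X.support.card := by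
  rw [← Equiv.Perm.sum_cycleType, ← Equiv.Perm.sum_cycleType, cycleType_of_ofSubtype h]

theorem mem_alt_of_ofSubtype (h : ofSubtype a = X) (hX : X ∈ alternatingGroup (Fin m)) :
    a ∈ alternatingGroup {i // i ∈ s} := by
  rw [Equiv.Perm.mem_alternatingGroup] at hX ⊢
  rw [← h, Equiv.Perm.sign_ofSubtype] at hX
  exact hX

end transfer

end Cfsg.Agent.Lib.Helper1.S4150
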