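import Mathlib
import Cfsg.Agent.Lib.Helper1.PQGenB
import Cfsg.Agent.Lib.Helper20.S4150TwinA
import Cfsg.Agent.Lib.Helper26.TwinB
import Cfsg.Agent.Lib.Helper17.S4150Six
import Cfsg.Agent.Lib.Helper26.ThreePrimes

/-!
# S4150, part C (helper1): the generic case, the twin case, the small cases and the main theorem
-/

set_option autoImplicit false

open Equiv Equiv.Perm MulAction

namespace Cfsg.Agent.Lib.Helper1.S4150

/-- an element of prime order `p` of `Perm (Fin m)`, `m ≤ 2 p`, which is not a cycle moves all
points and `m = 2 p` -/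
theorem not_cycle_case {m p : ℕ} (hp : p.Prime) (h2p : m ≤ 2 * p) (X : Perm (Fin m))
    (hX : orderOf X = p) (hnc : ¬ X.IsCycle) : m = 2 * p ∧ X.support = Finset.univ := by
  obtain ⟨n, hn⟩ := Equiv.Perm.cycleType_prime_order (hX ▸ hp)
  have hsum := Equiv.Perm.sum_cycleType_le X
  have hsum' := Equiv.Perm.sum_cycleType X
  rw [hn, hX, Multiset.sum_replicate, smul_eq_mul] at hsum hsum'
  rw [Fintype.card_fin] at hsum
  have hn1 : n ≠ 0 := by
    rintro rfl
    apply hnc
    rw [← Equiv.Perm.card_cycleType_eq_one, hn]
    simp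
  have hp2 := hp.two_le
  have hn' : n = 1 := by
    by_contra h
    have : 2 ≤ n := by omega
    have : 3 * p ≤ (n + 1) * p := Nat.mul_le_mul_right p (by omega)
    omega
  subst hn'
  have hm : m = 2 * p := by omega
  refine ⟨hm, ?_⟩
  apply Finset.eq_univ_of_card
  rw [Fintype.card_fin, ← hsum']
  omega

/-- the generic case -/
theorem good_generic (m p q : ℕ) (hp : p.Prime) (hq : q.Prime) (h2p : m ≤ 2 * p)
    (hpq : p + 4 ≤ q) (hqm : q ≤ m) (h2 : m = 2 * p → q + 3 ≤ m)
    (x y : alternatingGroup (Fin m)) (hx : orderOf x = p) (hy : orderOf y = q) : Good m x y := by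
  classical
  set X : Perm (Fin m) := (x : Perm (Fin m)) with hXdef
  set Y : Perm (Fin m) := (y : Perm (Fin m)) with hYdef
  have hX : orderOf X = p := by rw [hXdef, Subgroup.orderOf_coe, hx]
  have hY : orderOf Y = q := by rw [hYdef, Subgroup.orderOf_coe, hy]
  have hp2 := hp.two_le
  have hYc : Y.IsCycle := Equiv.Perm.isCycle_of_prime_order (hY ▸ hq)
    (lt_of_le_of_lt (Finset.card_le_univ _) (by rw [Fintype.card_fin, hY]; omega))
  have hYs : Y.support.card = q := by rw [← hYc.orderOf, hY]
  obtain ⟨a, b, ha, hb, hcov⟩ := exists_local X Y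
  apply good_of_local x y (X.support ∪ Y.support) a b ha hb
  have hcardΩ : Fintype.card {i // i ∈ X.support ∪ Y.support} = (X.support ∪ Y.support).card :=
    Fintype.card_coe _
  have hdle : (X.support ∪ Y.support).card ≤ m := by
    have := Finset.card_le_univ (X.support ∪ Y.support)
    rwa [Fintype.card_fin] at this
  have hdge : q ≤ (X.support ∪ Y.support).card := by
    rw [← hYs]
    exact Finset.card_le_card Finset.subset_union_right
  have hbc : b.IsCycle := (isCycle_of_ofSubtype hb).mpr hYc
  have hbq : b.support.card = q := by rw [card_support_of_ofSubtype hb, hYs]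
  have hap : orderOf a = p := by rw [orderOf_of_ofSubtype ha, hX]
  have h5 : 5 ≤ Fintype.card {i // i ∈ X.support ∪ Y.support} := by rw [hcardΩ]; omega
  refine local_of_eq_alt a b ?_ h5
  apply closure_eq_alt a b hp hq hap hbc hbq hcov (by rw [hcardΩ]; omega) (by rw [hcardΩ]; omega)
    (mem_alt_of_ofSubtype ha x.2) (mem_alt_of_ofSubtype hb y.2) h5
  by_cases hXc : X.IsCycle
  · left
    exact ⟨(isCycle_of_ofSubtype ha).mpr hXc, by rw [hcardΩ]; omega⟩
  · right
    obtain ⟨hm, hsupp⟩ := not_cycle_case hp h2p X hX hXc
    have : (X.support ∪ Y.support).card = m := by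
      rw [hsupp, Finset.union_eq_left.mpr (Finset.subset_univ _), Finset.card_univ, Fintype.card_fin]
    rw [hcardΩ, this]
    exact h2 hm

/-- sign of an involution with `s` moved points -/
theorem sign_of_orderOf_two {Ω : Type*} [Fintype Ω] [DecidableEq Ω] (c : Perm Ω)
    (hc : orderOf c = 2) : Equiv.Perm.sign c = (-1) ^ (c.support.card / 2) := by
  obtain ⟨n, hn⟩ := Equiv.Perm.cycleType_prime_order (hc ▸ Nat.prime_two)
  have hsum := Equiv.Perm.sum_cycleType c
  rw [hn, hc, Multiset.sum_replicate, smul_eq_mul] at hsum
  rw [Equiv.Perm.sign_of_cycleType, hn, hc, Multiset.sum_replicate, Multiset.card_replicate,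
    smul_eq_mul, ← hsum]
  have h1 : (n + 1) * 2 / 2 = n + 1 := by omega
  rw [h1, show (n + 1) * 2 + (n + 1) = 2 * (n + 1) + (n + 1) by ring, pow_add, pow_mul]
  simp

/-- the twin case -/
theorem good_twin (m p : ℕ) (hp5 : p = 5 ∨ p = 11) (h2p : m ≤ 2 * p) (hqm : p + 2 ≤ m)
    (h2 : m = 2 * p → p + 5 ≤ m)
    (x y : alternatingGroup (Fin m)) (hx : orderOf x = p) (hy : orderOf y = p + 2) :
    Good m x y := by
  classical
  have hp : p.Prime := by rcases hp5 with rfl | rfl <;> norm_num
  have hq : (p + 2).Prime := by rcases hp5 with rfl | rfl <;> norm_num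
  set X : Perm (Fin m) := (x : Perm (Fin m)) with hXdef
  set Y : Perm (Fin m) := (y : Perm (Fin m)) with hYdef
  have hX : orderOf X = p := by rw [hXdef, Subgroup.orderOf_coe, hx]
  have hY : orderOf Y = p + 2 := by rw [hYdef, Subgroup.orderOf_coe, hy]
  have hp2 : 5 ≤ p := by rcases hp5 with rfl | rfl <;> norm_num
  have hYc : Y.IsCycle := Equiv.Perm.isCycle_of_prime_order (hY ▸ hq)
    (lt_of_le_of_lt (Finset.card_le_univ _) (by rw [Fintype.card_fin, hY]; omega))
  have hYs : Y.support.card = p + 2 := by rw [← hYc.orderOf, hY]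
  obtain ⟨a, b, ha, hb, hcov⟩ := exists_local X Y
  apply good_of_local x y (X.support ∪ Y.support) a b ha hb
  have hcardΩ : Fintype.card {i // i ∈ X.support ∪ Y.support} = (X.support ∪ Y.support).card :=
    Fintype.card_coe _
  have hdle : (X.support ∪ Y.support).card ≤ m := by
    have := Finset.card_le_univ (X.support ∪ Y.support)
    rwa [Fintype.card_fin] at this
  have hdge : p + 2 ≤ (X.support ∪ Y.support).card := by
    rw [← hYs]
    exact Finset.card_le_card Finset.subset_union_right
  have hbc : b.IsCycle := (isCycle_of_ofSubtype hb).mpr hYc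
  have hbq : b.support.card = p + 2 := by rw [card_support_of_ofSubtype hb, hYs]
  have hap : orderOf a = p := by rw [orderOf_of_ofSubtype ha, hX]
  have h5 : 5 ≤ Fintype.card {i // i ∈ X.support ∪ Y.support} := by rw [hcardΩ]; omega
  have haalt := mem_alt_of_ofSubtype ha x.2
  have hbalt := mem_alt_of_ofSubtype hb y.2
  refine local_of_eq_alt a b ?_ h5
  by_cases hXc : X.IsCycle
  · have hac : a.IsCycle := (isCycle_of_ofSubtype ha).mpr hXc
    by_cases hd : p + 3 ≤ (X.support ∪ Y.support).card
    · exact closure_eq_alt a b hp hq hap hbc hbq hcov (by rw [hcardΩ]; omega)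
        (by rw [hcardΩ]; omega) haalt hbalt h5 (Or.inl ⟨hac, by rw [hcardΩ]; exact hd⟩)
    · -- the twin case proper
      have hcard : Fintype.card {i // i ∈ X.support ∪ Y.support} = p + 2 := by
        rw [hcardΩ]; omega
      set G := Subgroup.closure ({a, b} : Set (Perm {i // i ∈ X.support ∪ Y.support})) with hG
      have haG : a ∈ G := Subgroup.subset_closure (by simp)
      have hbG : b ∈ G := Subgroup.subset_closure (by simp)
      have hGalt : G ≤ alternatingGroup {i // i ∈ X.support ∪ Y.support} := by
        rw [hG, Subgroup.closure_le]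
        intro z hz
        rcases hz with rfl | hz
        · exact haalt
        · rw [Set.mem_singleton_iff] at hz; subst hz; exact hbalt
      have hnot2 : ∀ k : ℕ, p + 1 ≠ 2 ^ k := by
        intro k hk
        rcases hp5 with rfl | rfl
        · have : k < 3 := by
            by_contra h
            have : 2 ^ 3 ≤ 2 ^ k := Nat.pow_le_pow_right (by norm_num) (by omega)
            omega
          interval_cases k <;> omega
        · have : k < 4 := by
            by_contra h
            have : 2 ^ 4 ≤ 2 ^ k := Nat.pow_le_pow_right (by norm_num) (by omega)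
            omega
          interval_cases k <;> omega
      obtain ⟨h3, c, hcG, r, hr, hrd, hcr, hfix⟩ := twin_exists_c hp hp2 hnot2 hcard G hGalt a b
        haG hbG hac (by rw [← hac.orderOf, hap]) hbc hbq
      -- the moved points of c
      have hsupp : c.support.card = p - 1 := by
        have h1 : (Finset.univ.filter (fun ω => c ω = ω)).card +
            (Finset.univ.filter (fun ω => ¬ c ω = ω)).card =
            Fintype.card {i // i ∈ X.support ∪ Y.support} := by
          rw [Finset.card_filter_add_card_filter_not, Finset.card_univ]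
        have h2 : Finset.univ.filter (fun ω => ¬ c ω = ω) = c.support := by
          ext ω; simp
        rw [h2, hfix, hcard] at h1
        omega
      have hcase : (Fintype.card {i // i ∈ X.support ∪ Y.support} = 7 ∧ r = 2) ∨
          (Fintype.card {i // i ∈ X.support ∪ Y.support} = 13 ∧ r = 5) := by
        rcases hp5 with rfl | rfl
        · left
          refine ⟨hcard, ?_⟩
          have hr4 : r ∣ 2 ^ 2 := by simpa using hrd
          exact (Nat.prime_dvd_prime_iff_eq hr Nat.prime_two).mp (hr.dvd_of_dvd_pow hr4)
        · right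
          refine ⟨hcard, ?_⟩
          have hr10 : r ∣ 2 * 5 := by simpa using hrd
          rcases (Nat.Prime.dvd_mul hr).mp hr10 with h | h
          · exfalso
            have hr2 : r = 2 := (Nat.prime_dvd_prime_iff_eq hr Nat.prime_two).mp h
            have hsign := sign_of_orderOf_two c (hcr.trans hr2)
            rw [hsupp] at hsign
            have hcalt := hGalt hcG
            rw [Equiv.Perm.mem_alternatingGroup] at hcalt
            rw [hcalt] at hsign
            norm_num at hsign
          · exact (Nat.prime_dvd_prime_iff_eq hr (by norm_num)).mp h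
      exact le_antisymm hGalt (alt_le_of_three_fix G hGalt h3 hcase c hcG hcr hfix)
  · obtain ⟨hm, hsupp⟩ := not_cycle_case hp h2p X hX hXc
    have hd : (X.support ∪ Y.support).card = m := by
      rw [hsupp, Finset.union_eq_left.mpr (Finset.subset_univ _), Finset.card_univ, Fintype.card_fin]
    exact closure_eq_alt a b hp hq hap hbc hbq hcov (by rw [hcardΩ]; omega)
      (by rw [hcardΩ]; omega) haalt hbalt h5 (Or.inr (by rw [hcardΩ, hd]; have := h2 hm; omega))

/-- `m = 5` -/
theorem good_five (x y : alternatingGroup (Fin 5)) (hx : orderOf x = 3) (hy : orderOf y = 5) :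
    Good 5 x y := by
  classical
  set X : Perm (Fin 5) := (x : Perm (Fin 5)) with hXdef
  set Y : Perm (Fin 5) := (y : Perm (Fin 5)) with hYdef
  have hX : orderOf X = 3 := by rw [hXdef, Subgroup.orderOf_coe, hx]
  have hY : orderOf Y = 5 := by rw [hYdef, Subgroup.orderOf_coe, hy]
  have hYc : Y.IsCycle := Equiv.Perm.isCycle_of_prime_order (by rw [hY]; norm_num)
    (lt_of_le_of_lt (Finset.card_le_univ _) (by rw [Fintype.card_fin, hY]; omega))
  have hYs : Y.support.card = 5 := by rw [← hYc.orderOf, hY]
  have hXc : X.IsCycle := Equiv.Perm.isCycle_of_prime_order (by rw [hX]; norm_num)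
    (lt_of_le_of_lt (Finset.card_le_univ _) (by rw [Fintype.card_fin, hX]; omega))
  have hXs : X.support.card = 3 := by rw [← hXc.orderOf, hX]
  obtain ⟨a, b, ha, hb, hcov⟩ := exists_local X Y
  apply good_of_local x y (X.support ∪ Y.support) a b ha hb
  have hcardΩ : Fintype.card {i // i ∈ X.support ∪ Y.support} = (X.support ∪ Y.support).card :=
    Fintype.card_coe _
  have hdle : (X.support ∪ Y.support).card ≤ 5 := by
    have := Finset.card_le_univ (X.support ∪ Y.support)
    rwa [Fintype.card_fin] at this
  have hdge : 5 ≤ (X.support ∪ Y.support).card := by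
    have := Finset.card_le_card (Finset.subset_union_right : Y.support ⊆ X.support ∪ Y.support)
    omega
  have hbc : b.IsCycle := (isCycle_of_ofSubtype hb).mpr hYc
  have hbq : b.support.card = 5 := by rw [card_support_of_ofSubtype hb, hYs]
  have h3 : a.IsThreeCycle := by
    rw [← card_support_eq_three_iff, card_support_of_ofSubtype ha, hXs]
  have h5 : 5 ≤ Fintype.card {i // i ∈ X.support ∪ Y.support} := by rw [hcardΩ]; omega
  refine local_of_eq_alt a b ?_ h5
  exact closure_eq_alt_three a b (by norm_num) h3 hbc hbq hcov (by rw [hcardΩ]; omega)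
    (by rw [hcardΩ]; omega) (mem_alt_of_ofSubtype hb y.2)

/-- **S4150** -/
theorem main (m : ℕ) (hm : 5 ≤ m) :
    ∃ p q : ℕ, p.Prime ∧ q.Prime ∧ m ≤ 2 * p ∧ p < q ∧ q ≤ m ∧
      ∀ x y : alternatingGroup (Fin m), orderOf x = p → orderOf y = q →
        ∃ d : ℕ, 5 ≤ d ∧ Nonempty (Subgroup.closure ({x, y} : Set (alternatingGroup (Fin m))) ≃*
          alternatingGroup (Fin d)) := by
  rcases lt_or_ge m 18 with hlt | hge
  · interval_cases m
    · exact ⟨3, 5, by norm_num, by norm_num, by norm_num, by norm_num, by norm_num,
        fun x y hx hy => good_five x y hx hy⟩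
    · exact ⟨3, 5, by norm_num, by norm_num, by norm_num, by norm_num, by norm_num,
        fun x y hx hy => six x y hx hy⟩
    · exact ⟨5, 7, by norm_num, by norm_num, by norm_num, by norm_num, by norm_num,
        fun x y hx hy => good_twin _ 5 (Or.inl rfl) (by norm_num) (by norm_num) (by norm_num)
          x y hx hy⟩
    · exact ⟨5, 7, by norm_num, by norm_num, by norm_num, by norm_num, by norm_num,
        fun x y hx hy => good_twin _ 5 (Or.inl rfl) (by norm_num) (by norm_num) (by norm_num)
          x y hx hy⟩
    · exact ⟨5, 7, by norm_num, by norm_num, by norm_num, by norm_num, by norm_num,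
        fun x y hx hy => good_twin _ 5 (Or.inl rfl) (by norm_num) (by norm_num) (by norm_num)
          x y hx hy⟩
    · exact ⟨5, 7, by norm_num, by norm_num, by norm_num, by norm_num, by norm_num,
        fun x y hx hy => good_twin _ 5 (Or.inl rfl) (by norm_num) (by norm_num) (by norm_num)
          x y hx hy⟩
    · exact ⟨7, 11, by norm_num, by norm_num, by norm_num, by norm_num, by norm_num,
        fun x y hx hy => good_generic _ 7 11 (by norm_num) (by norm_num) (by norm_num)
          (by norm_num) (by norm_num) (by norm_num) x y hx hy⟩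
    · exact ⟨7, 11, by norm_num, by norm_num, by norm_num, by norm_num, by norm_num,
        fun x y hx hy => good_generic _ 7 11 (by norm_num) (by norm_num) (by norm_num)
          (by norm_num) (by norm_num) (by norm_num) x y hx hy⟩
    · exact ⟨7, 11, by norm_num, by norm_num, by norm_num, by norm_num, by norm_num,
        fun x y hx hy => good_generic _ 7 11 (by norm_num) (by norm_num) (by norm_num)
          (by norm_num) (by norm_num) (by norm_num) x y hx hy⟩
    · exact ⟨7, 11, by norm_num, by norm_num, by norm_num, by norm_num, by norm_num,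
        fun x y hx hy => good_generic _ 7 11 (by norm_num) (by norm_num) (by norm_num)
          (by norm_num) (by norm_num) (by norm_num) x y hx hy⟩
    · exact ⟨11, 13, by norm_num, by norm_num, by norm_num, by norm_num, by norm_num,
        fun x y hx hy => good_twin _ 11 (Or.inr rfl) (by norm_num) (by norm_num) (by norm_num)
          x y hx hy⟩
    · exact ⟨11, 13, by norm_num, by norm_num, by norm_num, by norm_num, by norm_num,
        fun x y hx hy => good_twin _ 11 (Or.inr rfl) (by norm_num) (by norm_num) (by norm_num)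
          x y hx hy⟩
    · exact ⟨11, 17, by norm_num, by norm_num, by norm_num, by norm_num, by norm_num,
        fun x y hx hy => good_generic _ 11 17 (by norm_num) (by norm_num) (by norm_num)
          (by norm_num) (by norm_num) (by norm_num) x y hx hy⟩
  · obtain ⟨p1, p2, p3, hp1, hp2, hp3, hn1, h12, h23, h3n⟩ := exists_three_primes (m / 2) (by omega)
    have ho1 : Odd p1 := hp1.odd_of_ne_two (by omega)
    have ho2 : Odd p2 := hp2.odd_of_ne_two (by omega)
    have ho3 : Odd p3 := hp3.odd_of_ne_two (by omega)
    obtain ⟨k1, hk1⟩ := ho1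
    obtain ⟨k2, hk2⟩ := ho2
    obtain ⟨k3, hk3⟩ := ho3
    refine ⟨p1, p3, hp1, hp3, by omega, by omega, by omega, fun x y hx hy => ?_⟩
    exact good_generic m p1 p3 hp1 hp3 (by omega) (by omega) (by omega) (by omega) x y hx hy

end Cfsg.Agent.Lib.Helper1.S4150
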