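import Mathlib

set_option autoImplicit false

namespace Cfsg.Agent.Lib.Helper1.PiClosed

/-- `n` is a `π`-number: all its prime divisors lie in `π`. -/
def PiNat (π : Set ℕ) (n : ℕ) : Prop := ∀ p : ℕ, p.Prime → p ∣ n → p ∈ π

theorem PiNat.of_dvd {π : Set ℕ} {a b : ℕ} (h : PiNat π b) (hab : a ∣ b) : PiNat π a :=
  fun p hp hpa => h p hp (hpa.trans hab)

theorem piNat_one (π : Set ℕ) : PiNat π 1 := by
  intro p hp h1
  exact absurd (Nat.dvd_one.mp h1) hp.ne_one

theorem PiNat.mul {π : Set ℕ} {a b : ℕ} (ha : PiNat π a) (hb : PiNat π b) : PiNat π (a * b) := by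
  intro p hp hpab
  rcases (Nat.Prime.dvd_mul hp).mp hpab with h | h
  · exact ha p hp h
  · exact hb p hp h

theorem piNat_prime_pow {π : Set ℕ} {r : ℕ} (hr : r.Prime) (hrπ : r ∈ π) (s : ℕ) :
    PiNat π (r ^ s) := by
  intro p hp hps
  have := (Nat.prime_dvd_prime_iff_eq hp hr).mp (hp.dvd_of_dvd_pow hps)
  rw [this]; exact hrπ

theorem PiNat.coprime {π : Set ℕ} {a b : ℕ} (ha : PiNat π a) (hb : PiNat πᶜ b) :
    Nat.Coprime a b :=
  Nat.coprime_of_dvd fun k hk hka hkb => hb k hk hkb (ha k hk hka)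

theorem PiNat.not_dvd {π : Set ℕ} {a q : ℕ} (ha : PiNat π a) (hq : q.Prime) (hqπ : q ∉ π) :
    ¬ q ∣ a := fun h => hqπ (ha q hq h)

theorem PiNat.not_dvd' {π : Set ℕ} {a r : ℕ} (ha : PiNat πᶜ a) (hr : r.Prime) (hrπ : r ∈ π) :
    ¬ r ∣ a := fun h => ha r hr h hrπ

/-- If `g ^ a` and `g ^ b` lie in `H` with `a`, `b` coprime then `g ∈ H`. -/
theorem mem_of_pow_mem_of_coprime {G : Type*} [Group G] (H : Subgroup G) {g : G} {a b : ℕ}
    (ha : g ^ a ∈ H) (hb : g ^ b ∈ H) (hab : Nat.Coprime a b) : g ∈ H := by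
  have h1 := Int.gcd_eq_gcd_ab (a : ℤ) (b : ℤ)
  have h2 : Int.gcd (a : ℤ) (b : ℤ) = 1 := by
    rw [Int.gcd_natCast_natCast]; exact hab
  rw [h2] at h1
  have h3 : g = g ^ ((a : ℤ) * Int.gcdA a b + (b : ℤ) * Int.gcdB a b) := by
    rw [← h1]; simp
  rw [h3, zpow_add, zpow_mul, zpow_mul, zpow_natCast, zpow_natCast]
  exact mul_mem (zpow_mem ha _) (zpow_mem hb _)

/-- The `r`-part of an element. -/
theorem exists_prime_part {G : Type*} [Group G] [Finite G] (g : G) {r : ℕ} (hr : r.Prime) :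
    ∃ m s : ℕ, ¬ r ∣ m ∧ orderOf g = r ^ s * m ∧ orderOf (g ^ m) = r ^ s := by
  have ho : orderOf g ≠ 0 := (orderOf_pos g).ne'
  obtain ⟨s, m, hm, hsm⟩ := Nat.exists_eq_pow_mul_and_not_dvd ho r hr.ne_one
  refine ⟨m, s, hm, hsm, ?_⟩
  rw [orderOf_pow, hsm]
  have hm0 : m ≠ 0 := by rintro rfl; exact hm (dvd_zero _)
  have : (r ^ s * m).gcd m = m := Nat.gcd_eq_right (Dvd.intro_left _ rfl)
  rw [this, Nat.mul_div_cancel _ (Nat.pos_of_ne_zero hm0)]

/-- A subgroup containing all elements of prime power order, for primes in `π`, contains all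
`π`-elements. -/
theorem mem_of_prime_pow_mem {G : Type*} [Group G] [Finite G] (S : Subgroup G) (π : Set ℕ)
    (hS : ∀ y : G, ∀ r : ℕ, r.Prime → r ∈ π → ∀ s : ℕ, orderOf y = r ^ s → y ∈ S)
    (x : G) (hx : PiNat π (orderOf x)) : x ∈ S := by
  induction h : orderOf x using Nat.strong_induction_on generalizing x with
  | _ n ih =>
    by_cases h1 : n = 1
    · rw [h1, orderOf_eq_one_iff] at h
      rw [h]; exact one_mem _
    · obtain ⟨r, hr, hrn⟩ := Nat.exists_prime_and_dvd h1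
      have hrπ : r ∈ π := hx r hr (h ▸ hrn)
      obtain ⟨m, s, hm, hsm, hom⟩ := exists_prime_part x hr
      have hs : s ≠ 0 := by
        rintro rfl
        rw [pow_zero, one_mul] at hsm
        exact hm (hsm ▸ h ▸ hrn)
      have h2 : x ^ m ∈ S := hS _ r hr hrπ s hom
      have h3 : orderOf (x ^ r ^ s) = m := by
        rw [orderOf_pow, hsm]
        have : (r ^ s * m).gcd (r ^ s) = r ^ s := Nat.gcd_eq_right (Dvd.intro _ rfl)
        rw [this, Nat.mul_div_cancel_left _ (pow_pos hr.pos s)]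
      have hmn : m < n := by
        rw [← h, hsm]
        have hm0 : 0 < m := Nat.pos_of_ne_zero (by rintro rfl; exact hm (dvd_zero _))
        have : 1 < r ^ s := Nat.one_lt_pow hs hr.one_lt
        nlinarith
      have h4 : x ^ r ^ s ∈ S := by
        refine ih m hmn (x ^ r ^ s) ?_ h3
        rw [h3]
        exact hx.of_dvd (hsm ▸ Dvd.intro_left _ rfl)
      refine mem_of_pow_mem_of_coprime S h4 h2 ?_
      exact Nat.Coprime.pow_left s ((Nat.Prime.coprime_iff_not_dvd hr).mpr hm)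

/-- Cauchy: if all elements of `S` are `π`-elements then `|S|` is a `π`-number. -/
theorem piNat_card_of_forall {G : Type*} [Group G] [Finite G] {π : Set ℕ} (S : Subgroup G)
    (h : ∀ x ∈ S, PiNat π (orderOf x)) : PiNat π (Nat.card S) := by
  intro p hp hpS
  have := Fact.mk hp
  obtain ⟨x, hx⟩ := exists_prime_orderOf_dvd_card' p hpS
  have := h x x.2 p hp
  rw [Subgroup.orderOf_coe, hx] at this
  exact this dvd_rfl

theorem piNat_orderOf_of_card {G : Type*} [Group G] {π : Set ℕ} (S : Subgroup G)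
    (h : PiNat π (Nat.card S)) {x : G} (hx : x ∈ S) : PiNat π (orderOf x) := by
  have : orderOf (⟨x, hx⟩ : S) ∣ Nat.card S := orderOf_dvd_natCard _
  rw [← Subgroup.orderOf_coe] at this
  exact h.of_dvd this

/-- If all `r`-elements lie in the normal subgroup `N` then `r ∤ |G : N|`. -/
theorem not_dvd_index_of_prime_pow_mem {G : Type*} [Group G] [Finite G] (N : Subgroup G)
    [N.Normal] {r : ℕ} (hr : r.Prime) (h : ∀ g : G, ∀ s : ℕ, orderOf g = r ^ s → g ∈ N) :
    ¬ r ∣ N.index := by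
  intro hrN
  have := Fact.mk hr
  rw [Subgroup.index_eq_card] at hrN
  obtain ⟨y, hy⟩ := exists_prime_orderOf_dvd_card' r hrN
  obtain ⟨g, rfl⟩ := QuotientGroup.mk_surjective y
  obtain ⟨m, s, hm, hsm, hom⟩ := exists_prime_part g hr
  have h1 : g ^ m ∈ N := h _ s hom
  have h2 : (QuotientGroup.mk g : G ⧸ N) ^ m = 1 := by
    rw [← QuotientGroup.mk_pow]
    exact (QuotientGroup.eq_one_iff _).mpr h1
  have h3 := orderOf_dvd_of_pow_eq_one h2
  rw [hy] at h3
  exact hm h3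


end Cfsg.Agent.Lib.Helper1.PiClosed
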