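import Mathlib
import Cfsg.Agent.Lib.Helper1.PiClosedBasic
import Cfsg.Agent.Lib.Helper1.CoprimeSylow
import Cfsg.Agent.Lib.Helper1.IndexP
import Cfsg.Agent.H5.PSolvable

set_option autoImplicit false

namespace Cfsg.Agent.Lib.Helper1.PiClosed

open Pointwise Subgroup
open Cfsg.Agent.Lib.Helper1

/-- `π'`-homogeneity. -/
def HHom (π : Set ℕ) (G : Type*) [Group G] : Prop :=
  ∀ H : Subgroup G, H ≠ ⊥ → (∀ p : ℕ, p.Prime → p ∣ Nat.card ↥H → p ∉ π) →
    ∀ p : ℕ, p.Prime → p ∣ (Subgroup.centralizer (H : Set G)).relIndex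
      (Subgroup.normalizer (H : Set G)) → p ∉ π

/-- Under `π'`-homogeneity, an `r`-element (`r ∈ π`) normalizing a `q`-group (`q ∉ π`)
centralizes it. -/
theorem mem_centralizer_of_hhom {G : Type*} [Group G] [Finite G] {π : Set ℕ} (hhom : HHom π G)
    {q r : ℕ} (hq : q.Prime) (hqπ : q ∉ π) (hr : r.Prime) (hrπ : r ∈ π)
    (Q : Subgroup G) {a : ℕ} (hQ : Nat.card Q = q ^ a)
    {y : G} (hy : y ∈ normalizer (Q : Set G)) {j : ℕ} (hyo : orderOf y = r ^ j) :
    y ∈ centralizer (Q : Set G) := by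
  by_cases hQb : Q = ⊥
  · rw [hQb, Subgroup.coe_bot, Subgroup.centralizer_eq_top_iff_subset.mpr]
    · exact Subgroup.mem_top _
    · intro z hz
      rw [Set.mem_singleton_iff] at hz
      rw [hz]; exact one_mem _
  · have h1 := hhom Q hQb (by
      intro p hp hpQ
      rw [hQ] at hpQ
      have := (Nat.prime_dvd_prime_iff_eq hp hq).mp (hp.dvd_of_dvd_pow hpQ)
      rw [this]; exact hqπ)
    have hN := Subgroup.normal_subgroupOf_centralizer_normalizer (Q : Set G)
    have h2 : (⟨y, hy⟩ : normalizer (Q : Set G)) ^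
        ((centralizer (Q : Set G)).subgroupOf (normalizer (Q : Set G))).index ∈
        (centralizer (Q : Set G)).subgroupOf (normalizer (Q : Set G)) :=
      Subgroup.pow_index_mem _ _
    have h3 : y ^ (centralizer (Q : Set G)).relIndex (normalizer (Q : Set G)) ∈
        centralizer (Q : Set G) := by
      rw [Subgroup.mem_subgroupOf] at h2
      simpa [Subgroup.relIndex] using h2
    have h4 : y ^ (r ^ j) ∈ centralizer (Q : Set G) := by
      rw [← hyo, pow_orderOf_eq_one]; exact one_mem _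
    refine mem_of_pow_mem_of_coprime _ h3 h4 ?_
    refine Nat.Coprime.pow_right j ?_
    rw [Nat.coprime_comm, Nat.Prime.coprime_iff_not_dvd hr]
    intro h5
    exact h1 r hr h5 hrπ

/-- Powers of `v * x` where `v ∈ H` and `x` normalizes `H`. -/
theorem exists_pow_mul_eq {G : Type*} [Group G] (H : Subgroup G) {v x : G} (hv : v ∈ H)
    (hx : x ∈ normalizer (H : Set G)) (n : ℕ) : ∃ w ∈ H, (v * x) ^ n = w * x ^ n := by
  induction n with
  | zero => exact ⟨1, one_mem _, by simp⟩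
  | succ n ih =>
    obtain ⟨w, hw, hwn⟩ := ih
    have hxn : x ^ n ∈ normalizer (H : Set G) := pow_mem hx n
    have h1 : x ^ n * v * (x ^ n)⁻¹ ∈ H := (Subgroup.mem_normalizer_iff.mp hxn v).mp hv
    refine ⟨w * (x ^ n * v * (x ^ n)⁻¹), mul_mem hw h1, ?_⟩
    rw [pow_succ, hwn, pow_succ]; group


/-- Lemma T: homogeneity transfers to quotients by normal `q'`-subgroups. -/
theorem lemmaT {G : Type*} [Group G] [Finite G] {π : Set ℕ} (hhom : HHom π G)
    (L : Subgroup G) [L.Normal]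
    {q r : ℕ} (hq : q.Prime) (hqπ : q ∉ π) (hr : r.Prime) (hrπ : r ∈ π)
    (hqL : ¬ q ∣ Nat.card L)
    (Qb : Subgroup (G ⧸ L)) {a : ℕ} (hQb : Nat.card Qb = q ^ a)
    {x : G} {j : ℕ} (hxo : orderOf x = r ^ j)
    (hx : (QuotientGroup.mk' L x) ∈ normalizer (Qb : Set (G ⧸ L))) :
    (QuotientGroup.mk' L x) ∈ centralizer (Qb : Set (G ⧸ L)) := by
  have := Fact.mk hq
  have hqr : q ≠ r := fun h => hqπ (h ▸ hrπ)
  set X₁ := Qb.comap (QuotientGroup.mk' L) with hX₁
  have hcardX : Nat.card X₁ = q ^ a * Nat.card L := by rw [hX₁, card_comap_mk, hQb]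
  obtain ⟨P⟩ := sylSet_nonempty q X₁
  have hPcard : Nat.card P.1 = q ^ a := by
    rw [P.2.2, hcardX, Nat.factorization_mul (pow_ne_zero _ hq.ne_zero) Nat.card_pos.ne',
      Finsupp.add_apply, Nat.Prime.factorization_pow hq, Finsupp.single_eq_same,
      Nat.factorization_eq_zero_of_not_dvd hqL, add_zero]
  have hPL : L ⊓ P.1 = ⊥ := by
    apply disjoint_iff.mp
    apply Subgroup.disjoint_of_coprime_natCard
    rw [hPcard]
    exact Nat.Coprime.pow_right a ((Nat.Prime.coprime_iff_not_dvd hq).mpr hqL).symm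
  have hPmap : P.1.map (QuotientGroup.mk' L) = Qb := by
    apply Subgroup.eq_of_le_of_card_ge (Subgroup.map_le_iff_le_comap.mpr P.2.1)
    rw [Cfsg.H5.card_map_mk', ← Subgroup.inf_relIndex_right, hPL, Subgroup.relIndex_bot_left,
      hPcard, hQb]
  -- `x` normalizes `X₁`
  have hxX : MulAut.conj x • P.1 ≤ X₁ := by
    rw [conj_smul_le_iff]
    intro h hh
    have h1 : QuotientGroup.mk' L h ∈ Qb := P.2.1 hh
    have h2 := (Subgroup.mem_normalizer_iff.mp hx _).mp h1
    rw [hX₁, Subgroup.mem_comap, map_mul, map_mul, map_inv]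
    exact h2
  let P' : SylSet q X₁ := ⟨MulAut.conj x • P.1, hxX, by rw [card_conj_smul]; exact P.2.2⟩
  obtain ⟨u, hu, huP⟩ := exists_conj_eq_of_sylSet P P'
  have huP' : MulAut.conj u • P.1 = MulAut.conj x • P.1 := huP
  have hz : u⁻¹ * x ∈ normalizer (P.1 : Set G) := by
    rw [← conj_smul_eq_self_iff_mem_normalizer, map_mul, mul_smul, ← huP', ← mul_smul,
      ← map_mul, inv_mul_cancel, map_one, one_smul]
  obtain ⟨m, s, hm, hsm, hom⟩ := exists_prime_part (u⁻¹ * x) hr
  have hy : (u⁻¹ * x) ^ m ∈ centralizer (P.1 : Set G) :=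
    mem_centralizer_of_hhom hhom hq hqπ hr hrπ P.1 hPcard (pow_mem hz m) hom
  have hyb : QuotientGroup.mk' L ((u⁻¹ * x) ^ m) ∈ centralizer (Qb : Set (G ⧸ L)) := by
    rw [Subgroup.mem_centralizer_iff]
    intro b hb
    rw [← hPmap] at hb
    obtain ⟨h, hh, rfl⟩ := hb
    rw [← map_mul, ← map_mul, (Subgroup.mem_centralizer_iff.mp hy) h hh]
  have hv : (QuotientGroup.mk' L u)⁻¹ ∈ Qb := inv_mem hu
  obtain ⟨w, hw, hwm⟩ := exists_pow_mul_eq Qb hv hx m
  have h1 : QuotientGroup.mk' L ((u⁻¹ * x) ^ m) = w * (QuotientGroup.mk' L x) ^ m := by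
    rw [map_pow, map_mul, map_inv, hwm]
  have h2 : (QuotientGroup.mk' L x) ^ m = w⁻¹ * QuotientGroup.mk' L ((u⁻¹ * x) ^ m) := by
    rw [h1]; group
  have hcomm : Commute w⁻¹ (QuotientGroup.mk' L ((u⁻¹ * x) ^ m)) :=
    (Subgroup.mem_centralizer_iff.mp hyb) _ (inv_mem hw)
  have h3 : ((QuotientGroup.mk' L x) ^ m) ^ (r ^ (j + s)) = 1 := by
    rw [← pow_mul, mul_comm, pow_mul, ← map_pow, pow_add, pow_mul, ← hxo, pow_orderOf_eq_one,
      one_pow, map_one, one_pow]
  have h4 : (QuotientGroup.mk' L ((u⁻¹ * x) ^ m)) ^ (r ^ (j + s)) = 1 := by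
    rw [← map_pow, pow_add, mul_comm, pow_mul, ← hom, pow_orderOf_eq_one, one_pow, map_one]
  have h5 : w ^ (r ^ (j + s)) = 1 := by
    have := h3
    rw [h2, hcomm.mul_pow, h4, mul_one, inv_pow, inv_eq_one] at this
    exact this
  have h6 : w ^ (q ^ a) = 1 := by
    have : orderOf (⟨w, hw⟩ : Qb) ∣ Nat.card Qb := orderOf_dvd_natCard _
    rw [← Subgroup.orderOf_coe, hQb] at this
    exact orderOf_dvd_iff_pow_eq_one.mp this
  have h7 : w = 1 := by
    have : w ∈ (⊥ : Subgroup (G ⧸ L)) := by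
      refine mem_of_pow_mem_of_coprime ⊥ (a := r ^ (j + s)) (b := q ^ a) ?_ ?_ ?_
      · rw [h5]; exact one_mem _
      · rw [h6]; exact one_mem _
      · exact Nat.Coprime.pow _ _ ((Nat.coprime_primes hr hq).mpr (Ne.symm hqr))
    exact Subgroup.mem_bot.mp this
  have h8 : (QuotientGroup.mk' L x) ^ m ∈ centralizer (Qb : Set (G ⧸ L)) := by
    rw [h2, h7, inv_one, one_mul]; exact hyb
  have h9 : (QuotientGroup.mk' L x) ^ (r ^ j) ∈ centralizer (Qb : Set (G ⧸ L)) := by
    rw [← map_pow, ← hxo, pow_orderOf_eq_one, map_one]; exact one_mem _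
  exact mem_of_pow_mem_of_coprime _ h8 h9
    (Nat.Coprime.pow_right j ((Nat.Prime.coprime_iff_not_dvd hr).mpr hm).symm)


/-- Lemma C: `r`-elements (`r ∈ π`) centralize `K/L`. -/
theorem lemmaC {G : Type*} [Group G] [Finite G] {π : Set ℕ} (hhom : HHom π G)
    (L K : Subgroup G) [L.Normal] [hKn : K.Normal] (hL : PiNat π (Nat.card L))
    (hKL : PiNat πᶜ (Nat.card (K.map (QuotientGroup.mk' L))))
    {r : ℕ} (hr : r.Prime) (hrπ : r ∈ π) {x : G} {j : ℕ} (hxo : orderOf x = r ^ j) :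
    QuotientGroup.mk' L x ∈ centralizer ((K.map (QuotientGroup.mk' L) : Subgroup (G ⧸ L)) :
      Set (G ⧸ L)) := by
  set Kb := K.map (QuotientGroup.mk' L) with hKb
  set xb := QuotientGroup.mk' L x with hxb
  have hKbn : Kb.Normal := Subgroup.Normal.map hKn _ (QuotientGroup.mk'_surjective L)
  have hxbo : orderOf xb ∣ r ^ j := by
    rw [← hxo]; exact orderOf_map_dvd _ _
  have hact : CoprimeAct (zpowers xb) Kb := by
    refine ⟨?_, ?_, Or.inl ?_⟩
    · rw [Subgroup.normalizer_eq_top]; exact le_top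
    · rw [Nat.card_zpowers]
      refine Nat.Coprime.coprime_dvd_left hxbo ?_
      exact Nat.Coprime.pow_left j ((Nat.Prime.coprime_iff_not_dvd hr).mpr (hKL.not_dvd' hr hrπ))
    · apply Group.isSolvable_of_comm
      rintro ⟨a, ha⟩ ⟨b, hb⟩
      obtain ⟨m, rfl⟩ := Subgroup.mem_zpowers_iff.mp ha
      obtain ⟨n, rfl⟩ := Subgroup.mem_zpowers_iff.mp hb
      apply Subtype.ext
      change xb ^ m * xb ^ n = xb ^ n * xb ^ m
      rw [← zpow_add, ← zpow_add, add_comm]
  have hle : Kb ⊓ centralizer ({xb} : Set (G ⧸ L)) = Kb := by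
    apply Subgroup.eq_of_le_of_card_ge inf_le_left
    apply Nat.le_of_dvd Nat.card_pos
    rw [Nat.dvd_iff_prime_pow_dvd_dvd]
    intro p k hp hpk
    by_cases hk : k = 0
    · rw [hk, pow_zero]; exact one_dvd _
    have hpKb : p ∣ Nat.card Kb := (dvd_pow_self p hk).trans hpk
    have hpπ : p ∉ π := hKL p hp hpKb
    have := Fact.mk hp
    obtain ⟨P, hP⟩ := hact.exists_invariant_sylSet p
    have hxN : xb ∈ normalizer (P.1 : Set (G ⧸ L)) := hP (Subgroup.mem_zpowers xb)
    have hxC := lemmaT hhom L hp hpπ hr hrπ (hL.not_dvd hp hpπ) P.1 P.2.2 hxo hxN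
    have hPle : P.1 ≤ Kb ⊓ centralizer ({xb} : Set (G ⧸ L)) := by
      intro b hb
      refine Subgroup.mem_inf.mpr ⟨P.2.1 hb, ?_⟩
      rw [Subgroup.mem_centralizer_singleton_iff]
      exact (Subgroup.mem_centralizer_iff.mp hxC b hb)
    have h1 := Subgroup.card_dvd_of_le hPle
    rw [P.2.2] at h1
    refine dvd_trans (pow_dvd_pow p ?_) h1
    exact (Nat.Prime.pow_dvd_iff_le_factorization hp Nat.card_pos.ne').mp hpk
  rw [Subgroup.mem_centralizer_iff]
  intro b hb
  have : b ∈ Kb ⊓ centralizer ({xb} : Set (G ⧸ L)) := by rw [hle]; exact hb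
  exact (Subgroup.mem_centralizer_singleton_iff.mp (Subgroup.mem_inf.mp this).2)


theorem orderOf_conj_eq {G : Type*} [Group G] (g x : G) : orderOf (g * x * g⁻¹) = orderOf x := by
  have := orderOf_injective (MulAut.conj g).toMonoidHom (MulAut.conj g).injective x
  simpa using this

/-- Core theorem: extension of `π`-closedness by a `π`-factor under homogeneity. -/
theorem core {G : Type*} [Group G] [Finite G] {π : Set ℕ} (hhom : HHom π G)
    (K L X : Subgroup G) [hKn : K.Normal]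
    (hLK : ∀ x, x ∈ L ↔ x ∈ K ∧ PiNat π (orderOf x))
    (hX : PiNat π (K.relIndex X)) :
    ∃ D : Subgroup G, ∀ x, x ∈ D ↔ x ∈ X ∧ PiNat π (orderOf x) := by
  have hLle : L ≤ K := fun x hx => ((hLK x).mp hx).1
  have hLn : L.Normal := by
    constructor
    intro l hl g
    rw [hLK] at hl ⊢
    exact ⟨hKn.conj_mem l hl.1 g, by rw [orderOf_conj_eq]; exact hl.2⟩
  have hL : PiNat π (Nat.card L) := piNat_card_of_forall L fun x hx => ((hLK x).mp hx).2
  have hKL : PiNat πᶜ (Nat.card (K.map (QuotientGroup.mk' L))) := by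
    intro p hp hpK hpπ
    rw [Cfsg.H5.card_map_mk'] at hpK
    have hn : (L.subgroupOf K).Normal := hLn.subgroupOf K
    refine not_dvd_index_of_prime_pow_mem (L.subgroupOf K) hp ?_ hpK
    intro g s hgs
    rw [Subgroup.mem_subgroupOf, hLK]
    refine ⟨g.2, ?_⟩
    rw [Subgroup.orderOf_coe, hgs]
    exact piNat_prime_pow hp hpπ s
  -- all `π`-elements centralize `K/L`
  have hC : ∀ x : G, PiNat π (orderOf x) →
      x ∈ (centralizer ((K.map (QuotientGroup.mk' L) : Subgroup (G ⧸ L)) :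
        Set (G ⧸ L))).comap (QuotientGroup.mk' L) := by
    intro x hx
    refine mem_of_prime_pow_mem _ π ?_ x hx
    intro y r hr hrπ s hys
    rw [Subgroup.mem_comap]
    exact lemmaC hhom L K hL hKL hr hrπ hys
  set S : Set G := {x | x ∈ X ∧ PiNat π (orderOf x)} with hS
  set D := Subgroup.closure S with hD
  have hDX : D ≤ X := (Subgroup.closure_le X).mpr fun x hx => hx.1
  have hDC : D ≤ (centralizer ((K.map (QuotientGroup.mk' L) : Subgroup (G ⧸ L)) :
        Set (G ⧸ L))).comap (QuotientGroup.mk' L) :=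
    (Subgroup.closure_le _).mpr fun x hx => hC x hx.2
  have hDcard : PiNat π (Nat.card D) := by
    intro q hq hqD
    by_contra hqπ
    have := Fact.mk hq
    obtain ⟨P⟩ := (inferInstance : Nonempty (Sylow q D))
    obtain ⟨n, hn⟩ := IsPGroup.exists_card_eq P.2
    have hPpow : ∀ k : D, k ∈ P → (k : G) ^ (q ^ n) = 1 := by
      intro k hk
      have h1 : (⟨k, hk⟩ : (P : Subgroup D)) ^ (q ^ n) = 1 := by
        rw [← hn]; exact pow_card_eq_one'
      have h2 := congrArg (fun z : (P : Subgroup D) => ((z : D) : G)) h1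
      simpa using h2
    have hPK : ∀ k : D, k ∈ P → (k : G) ∈ K := by
      intro k hk
      have hn' : (K.subgroupOf X).Normal := hKn.subgroupOf X
      have h1 : (⟨(k : G), hDX k.2⟩ : X) ^ (K.subgroupOf X).index ∈ K.subgroupOf X :=
        Subgroup.pow_index_mem _ _
      have h2 : (k : G) ^ K.relIndex X ∈ K := by
        rw [Subgroup.mem_subgroupOf] at h1
        simpa [Subgroup.relIndex] using h1
      have h3 : (k : G) ^ (q ^ n) ∈ K := by rw [hPpow k hk]; exact one_mem _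
      exact mem_of_pow_mem_of_coprime K h2 h3
        (Nat.Coprime.pow_right n ((Nat.Prime.coprime_iff_not_dvd hq).mpr
          (hX.not_dvd hq hqπ)).symm)
    have hNC : normalizer ((P : Subgroup D) : Set D) ≤ centralizer ((P : Subgroup D) : Set D) := by
      intro d hd
      rw [Subgroup.mem_centralizer_iff]
      intro k hk
      -- the commutator `c = k⁻¹ d⁻¹ k d`
      have hcP : k⁻¹ * (d⁻¹ * k * d⁻¹⁻¹) ∈ (P : Subgroup D) :=
        mul_mem (inv_mem hk) ((Subgroup.mem_normalizer_iff.mp (inv_mem hd) k).mp hk)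
      have hcL : ((k⁻¹ * (d⁻¹ * k * d⁻¹⁻¹) : D) : G) ∈ L := by
        rw [← QuotientGroup.eq_one_iff, ← QuotientGroup.mk'_apply]
        have h1 := hDC d.2
        rw [Subgroup.mem_comap, Subgroup.mem_centralizer_iff] at h1
        have h2 := h1 (QuotientGroup.mk' L (k : G)) (Subgroup.mem_map_of_mem _ (hPK k hk))
        push_cast
        rw [map_mul, map_mul, map_mul, map_inv, map_inv, inv_inv, mul_assoc _ _ (QuotientGroup.mk' L (d : G)), h2]
        group
      have h1 : ((k⁻¹ * (d⁻¹ * k * d⁻¹⁻¹) : D) : G) ^ (q ^ n) = 1 := hPpow _ hcP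
      have h2 : ((k⁻¹ * (d⁻¹ * k * d⁻¹⁻¹) : D) : G) ^ (Nat.card L) = 1 := by
        have h3 : (⟨_, hcL⟩ : L) ^ (Nat.card L) = 1 := pow_card_eq_one'
        have h4 : ((⟨_, hcL⟩ : L) : G) ^ Nat.card L = 1 := by
          rw [← Subgroup.coe_pow, h3, Subgroup.coe_one]
        exact h4
      have h3 : ((k⁻¹ * (d⁻¹ * k * d⁻¹⁻¹) : D) : G) ∈ (⊥ : Subgroup G) := by
        refine mem_of_pow_mem_of_coprime ⊥ (a := q ^ n) (b := Nat.card L) ?_ ?_ ?_
        · rw [h1]; exact one_mem _
        · rw [h2]; exact one_mem _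
        · exact Nat.Coprime.pow_left n ((Nat.Prime.coprime_iff_not_dvd hq).mpr
            (hL.not_dvd hq hqπ))
      rw [Subgroup.mem_bot] at h3
      have h4 : k⁻¹ * (d⁻¹ * k * d⁻¹⁻¹) = 1 := Subtype.ext h3
      have h5 : k * d = d * k := by
        have : d * k * (k⁻¹ * (d⁻¹ * k * d⁻¹⁻¹)) = k * d := by group
        rw [← this, h4, mul_one]
      exact h5
    have hcompl := MonoidHom.ker_transferSylow_isComplement' P hNC
    set N := (MonoidHom.transferSylow P hNC).ker with hN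
    have hNidx : N.index = q ^ n := by
      rw [hcompl.symm.index_eq_card, hn]
    have hSN : ∀ x (hx : x ∈ S), (⟨x, Subgroup.subset_closure hx⟩ : D) ∈ N := by
      intro x hx
      have h1 : (⟨x, Subgroup.subset_closure hx⟩ : D) ^ N.index ∈ N := Subgroup.pow_index_mem _ _
      have h2 : (⟨x, Subgroup.subset_closure hx⟩ : D) ^ (orderOf x) ∈ N := by
        have : (⟨x, Subgroup.subset_closure hx⟩ : D) ^ (orderOf x) = 1 := by
          apply Subtype.ext
          simp [pow_orderOf_eq_one]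
        rw [this]; exact one_mem _
      refine mem_of_pow_mem_of_coprime N h1 h2 ?_
      rw [hNidx]
      exact Nat.Coprime.pow_left n ((Nat.Prime.coprime_iff_not_dvd hq).mpr
        (hx.2.not_dvd hq hqπ))
    have hNtop : N = ⊤ := by
      rw [eq_top_iff]
      intro d _
      have h1 : D ≤ N.map D.subtype :=
        (Subgroup.closure_le _).mpr fun x hx => ⟨_, hSN x hx, rfl⟩
      obtain ⟨e, he, hed⟩ := h1 d.2
      have : e = d := Subtype.ext hed
      rw [← this]; exact he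
    rw [hNtop, Subgroup.isComplement'_top_left] at hcompl
    exact Sylow.ne_bot_of_dvd_card P hqD hcompl
  refine ⟨D, fun x => ⟨fun hx => ⟨hDX hx, piNat_orderOf_of_card D hDcard hx⟩, fun hx => ?_⟩⟩
  exact Subgroup.subset_closure hx

/-- `π`-closed from a `π`-separable chain under homogeneity. -/
theorem closed_of_chain {G : Type*} [Group G] [Finite G] {π : Set ℕ} (hhom : HHom π G) {n : ℕ}
    (H : Fin (n + 1) → Subgroup G) (h0 : H 0 = ⊥) (hmono : Monotone H)
    (hnorm : ∀ i, (H i).Normal)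
    (hfac : ∀ i : Fin n, PiNat π ((H i.castSucc).relIndex (H i.succ)) ∨
      PiNat πᶜ ((H i.castSucc).relIndex (H i.succ))) (i : Fin (n + 1)) :
    ∃ D : Subgroup G, ∀ x, x ∈ D ↔ x ∈ H i ∧ PiNat π (orderOf x) := by
  induction i using Fin.induction with
  | zero =>
    refine ⟨⊥, fun x => ?_⟩
    rw [h0, Subgroup.mem_bot]
    constructor
    · rintro rfl
      exact ⟨rfl, by rw [orderOf_one]; exact piNat_one π⟩
    · exact fun h => h.1
  | succ j ih =>
    obtain ⟨D, hD⟩ := ih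
    have := hnorm j.castSucc
    rcases hfac j with hf | hf
    · exact core hhom (H j.castSucc) D (H j.succ) hD hf
    · refine ⟨D, fun x => ?_⟩
      rw [hD]
      constructor
      · rintro ⟨hx, hxo⟩
        exact ⟨hmono (Fin.castSucc_le_succ j) hx, hxo⟩
      · rintro ⟨hx, hxo⟩
        refine ⟨?_, hxo⟩
        have hn' : ((H j.castSucc).subgroupOf (H j.succ)).Normal :=
          (hnorm j.castSucc).subgroupOf _
        have h1 : (⟨x, hx⟩ : H j.succ) ^ ((H j.castSucc).subgroupOf (H j.succ)).index ∈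
            (H j.castSucc).subgroupOf (H j.succ) := Subgroup.pow_index_mem _ _
        have h2 : x ^ (H j.castSucc).relIndex (H j.succ) ∈ H j.castSucc := by
          rw [Subgroup.mem_subgroupOf] at h1
          simpa [Subgroup.relIndex] using h1
        have h3 : x ^ orderOf x ∈ H j.castSucc := by
          rw [pow_orderOf_eq_one]; exact one_mem _
        exact mem_of_pow_mem_of_coprime _ h3 h2 (hxo.coprime hf)

/-- A `π`-closed group is `π`-separable. -/
theorem chain_of_closed {G : Type*} [Group G] [Finite G] {π : Set ℕ} (D : Subgroup G)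
    (hD : ∀ x, x ∈ D ↔ PiNat π (orderOf x)) :
    ∃ (n : ℕ) (H : Fin (n + 1) → Subgroup G), H 0 = ⊥ ∧ H (Fin.last n) = ⊤ ∧ Monotone H ∧
      (∀ i, (H i).Normal) ∧
      ∀ i : Fin n, PiNat π ((H i.castSucc).relIndex (H i.succ)) ∨
        PiNat πᶜ ((H i.castSucc).relIndex (H i.succ)) := by
  have hDn : D.Normal := by
    constructor
    intro l hl g
    rw [hD] at hl ⊢
    rw [orderOf_conj_eq]; exact hl
  refine ⟨2, ![⊥, D, ⊤], rfl, rfl, ?_, ?_, ?_⟩
  · rw [Fin.monotone_iff_le_succ]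
    intro i
    fin_cases i
    · exact bot_le
    · exact le_top
  · intro i
    fin_cases i
    · exact (inferInstance : (⊥ : Subgroup G).Normal)
    · exact hDn
    · exact (inferInstance : (⊤ : Subgroup G).Normal)
  · intro i
    fin_cases i
    · left
      change PiNat π ((⊥ : Subgroup G).relIndex D)
      rw [Subgroup.relIndex_bot_left]
      exact piNat_card_of_forall D fun x hx => (hD x).mp hx
    · right
      change PiNat πᶜ (D.relIndex ⊤)
      rw [Subgroup.relIndex_top_right]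
      intro p hp hpD hpπ
      refine not_dvd_index_of_prime_pow_mem D hp ?_ hpD
      intro g s hgs
      rw [hD, hgs]
      exact piNat_prime_pow hp hpπ s

/-- A `π`-closed group is `π'`-homogeneous. -/
theorem hhom_of_closed {G : Type*} [Group G] [Finite G] {π : Set ℕ} (D : Subgroup G)
    (hD : ∀ x, x ∈ D ↔ PiNat π (orderOf x)) : HHom π G := by
  have hDn : D.Normal := by
    constructor
    intro l hl g
    rw [hD] at hl ⊢
    rw [orderOf_conj_eq]; exact hl
  intro H _ hH p hp hpNC hpπ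
  have hN := Subgroup.normal_subgroupOf_centralizer_normalizer (H : Set G)
  refine not_dvd_index_of_prime_pow_mem
    ((centralizer (H : Set G)).subgroupOf (normalizer (H : Set G))) hp ?_ hpNC
  intro g s hgs
  have hgD : (g : G) ∈ D := by
    rw [hD, Subgroup.orderOf_coe, hgs]
    exact piNat_prime_pow hp hpπ s
  rw [Subgroup.mem_subgroupOf, Subgroup.mem_centralizer_iff]
  intro h hh
  have hginv : (g : G)⁻¹ ∈ normalizer (H : Set G) := inv_mem g.2
  have hcH : h⁻¹ * ((g : G)⁻¹ * h * (g : G)⁻¹⁻¹) ∈ H :=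
    mul_mem (inv_mem hh) ((Subgroup.mem_normalizer_iff.mp hginv h).mp hh)
  have hcD : h⁻¹ * ((g : G)⁻¹ * h * (g : G)⁻¹⁻¹) ∈ D := by
    have h1 : h⁻¹ * (g : G)⁻¹ * h⁻¹⁻¹ ∈ D := hDn.conj_mem _ (inv_mem hgD) _
    have h2 : h⁻¹ * ((g : G)⁻¹ * h * (g : G)⁻¹⁻¹) = h⁻¹ * (g : G)⁻¹ * h⁻¹⁻¹ * g := by group
    rw [h2]; exact mul_mem h1 hgD
  have ho1 : PiNat π (orderOf (h⁻¹ * ((g : G)⁻¹ * h * (g : G)⁻¹⁻¹))) := (hD _).mp hcD
  have ho2 : PiNat πᶜ (orderOf (h⁻¹ * ((g : G)⁻¹ * h * (g : G)⁻¹⁻¹))) :=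
    piNat_orderOf_of_card H (π := πᶜ) hH hcH
  have ho3 := ho1.coprime ho2
  rw [Nat.coprime_self, orderOf_eq_one_iff] at ho3
  have : (g : G) * h * (h⁻¹ * ((g : G)⁻¹ * h * (g : G)⁻¹⁻¹)) = h * g := by group
  rw [← this, ho3, mul_one]

end Cfsg.Agent.Lib.Helper1.PiClosed
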