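import Mathlib
import Cfsg.Agent.Lib.Helper6.SimAut2

set_option autoImplicit false

/-! S3174 (architect helper19), Part III: `T/W ≅ D₈` and the chain `W < T₁ < T₂ < T` with the
elements `z, s, x` (blueprint `notes/S3174_blueprint_helper19.md`, III.1–III.4).
Conventions as in `Lib/Helper12/RU4/Defs.lean`: `[a,b] = a⁻¹ b⁻¹ a b`. -/

namespace Cfsg.Agent.Lib.Helper1.RU3

open Subgroup
open scoped commutatorElement

section general

variable {T : Type*} [Group T]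

/-- index-two coset description from cardinalities -/
theorem coset_of_card [Finite T] {H K : Subgroup T} (hHK : H ≤ K)
    (hcard : Nat.card K = 2 * Nat.card H) {a : T} (ha : a ∈ K) (haH : a ∉ H) :
    ∀ c ∈ K, c ∈ H ∨ a⁻¹ * c ∈ H := by
  have hidx : (H.subgroupOf K).index = 2 := by
    have h1 := Subgroup.card_mul_index (H.subgroupOf K)
    have h2 : Nat.card (H.subgroupOf K) = Nat.card H :=
      Nat.card_congr (Subgroup.subgroupOfEquivOfLe hHK).toEquiv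
    rw [h2, hcard] at h1
    have hpos : 0 < Nat.card H := Nat.card_pos
    have : Nat.card H * (H.subgroupOf K).index = Nat.card H * 2 := by rw [h1]; ring
    exact Nat.eq_of_mul_eq_mul_left hpos this
  intro c hc
  by_cases hcH : c ∈ H
  · exact Or.inl hcH
  · right
    have key := @Subgroup.mul_mem_iff_of_index_two _ _ _ hidx
      (⟨a⁻¹, K.inv_mem ha⟩ : K) (⟨c, hc⟩ : K)
    rw [mem_subgroupOf, mem_subgroupOf, mem_subgroupOf] at key
    apply key.mpr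
    constructor
    · intro h
      exact absurd (by simpa using H.inv_mem h) haH
    · intro h
      exact absurd h hcH

theorem exists_not_mem_of_card [Finite T] {H K : Subgroup T} (hHK : H ≤ K)
    (hcard : Nat.card K = 2 * Nat.card H) : ∃ a ∈ K, a ∉ H := by
  by_contra hcon
  push Not at hcon
  have hKH : K ≤ H := fun a ha => hcon a ha
  have : K = H := le_antisymm hKH hHK
  rw [this] at hcard
  have hpos : 0 < Nat.card H := Nat.card_pos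
  omega

/-- `[a, t u] = [a,u] * u⁻¹ [a,t] u` -/
theorem cm_mul (a t u : T) :
    a⁻¹ * (t * u)⁻¹ * a * (t * u) = (a⁻¹ * u⁻¹ * a * u) * (u⁻¹ * (a⁻¹ * t⁻¹ * a * t) * u) := by
  group

theorem cm_mem_ucs {n : ℕ} {a : T} (ha : a ∈ Subgroup.upperCentralSeries T (n + 1)) (t : T) :
    a⁻¹ * t⁻¹ * a * t ∈ Subgroup.upperCentralSeries T n := by
  have h := (Subgroup.mem_upperCentralSeries_succ_iff.mp ((Subgroup.upperCentralSeries T (n + 1)).inv_mem ha)) t⁻¹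
  have e : ⁅a⁻¹, t⁻¹⁆ = a⁻¹ * t⁻¹ * a * t := by
    rw [commutatorElement_def]; group
  rwa [e] at h

/-- equivariance of `t ↦ [a,t]` -/
theorem cm_conj {a y t : T}
    (he : (a⁻¹ * t * a * t⁻¹) * y = y * (a⁻¹ * t * a * t⁻¹))
    (hc : (a⁻¹ * y⁻¹ * a * y) * (a⁻¹ * t * a * t⁻¹) = (a⁻¹ * t * a * t⁻¹) * (a⁻¹ * y⁻¹ * a * y)) :
    a⁻¹ * (t⁻¹ * y * t)⁻¹ * a * (t⁻¹ * y * t) = t⁻¹ * (a⁻¹ * y⁻¹ * a * y) * t := by
  calc a⁻¹ * (t⁻¹ * y * t)⁻¹ * a * (t⁻¹ * y * t)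
      = a⁻¹ * t⁻¹ * y⁻¹ * a * ((a⁻¹ * t * a * t⁻¹) * y) * t := by group
    _ = a⁻¹ * t⁻¹ * y⁻¹ * a * (y * (a⁻¹ * t * a * t⁻¹)) * t := by rw [he]
    _ = a⁻¹ * t⁻¹ * a * ((a⁻¹ * y⁻¹ * a * y) * (a⁻¹ * t * a * t⁻¹)) * t := by group
    _ = a⁻¹ * t⁻¹ * a * ((a⁻¹ * t * a * t⁻¹) * (a⁻¹ * y⁻¹ * a * y)) * t := by rw [hc]
    _ = t⁻¹ * (a⁻¹ * y⁻¹ * a * y) * t := by group

/-- `[c c', x] = [c,x][c',x]` when `[c,x]` commutes with `c'⁻¹` -/
theorem cm_mul_left {c c' x : T}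
    (hcen : (c⁻¹ * x⁻¹ * c * x) * c'⁻¹ = c'⁻¹ * (c⁻¹ * x⁻¹ * c * x)) :
    (c * c')⁻¹ * x⁻¹ * (c * c') * x = (c⁻¹ * x⁻¹ * c * x) * (c'⁻¹ * x⁻¹ * c' * x) := by
  calc (c * c')⁻¹ * x⁻¹ * (c * c') * x
      = (c'⁻¹ * (c⁻¹ * x⁻¹ * c * x)) * (x⁻¹ * c' * x) := by group
    _ = ((c⁻¹ * x⁻¹ * c * x) * c'⁻¹) * (x⁻¹ * c' * x) := by rw [hcen]
    _ = (c⁻¹ * x⁻¹ * c * x) * (c'⁻¹ * x⁻¹ * c' * x) := by group

/-- `[a, x²] = d d [d,x]` with `d = [a,x]` -/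
theorem cm_sq (a x : T) :
    a⁻¹ * (x * x)⁻¹ * a * (x * x) = (a⁻¹ * x⁻¹ * a * x) * (a⁻¹ * x⁻¹ * a * x) *
      ((a⁻¹ * x⁻¹ * a * x)⁻¹ * x⁻¹ * (a⁻¹ * x⁻¹ * a * x) * x) := by
  group

end general


section main

variable {T : Type*} [Group T] [Finite T]

/-- the raw data of Part III -/
theorem data
    (h1 : Nat.card (Subgroup.upperCentralSeries T 1) = 2)
    (h2 : Nat.card (Subgroup.upperCentralSeries T 2) = 4)
    (h3 : Nat.card (Subgroup.upperCentralSeries T 3) = 8)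
    (hexp : ∀ c ∈ Subgroup.upperCentralSeries T 3, c * c = 1)
    (W : Subgroup T) (hW : W = centralizer (Subgroup.upperCentralSeries T 3 : Set T))
    (hidx : W.index = 8) :
    ∃ (a1 a2 a3 : T) (x z s : T),
      a1 ∈ Subgroup.upperCentralSeries T 1 ∧ a1 ≠ 1 ∧
      (∀ c ∈ Subgroup.upperCentralSeries T 1, c = 1 ∨ c = a1) ∧
      a2 ∈ Subgroup.upperCentralSeries T 2 ∧ a2 ∉ Subgroup.upperCentralSeries T 1 ∧
      (∀ c ∈ Subgroup.upperCentralSeries T 2,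
        c ∈ Subgroup.upperCentralSeries T 1 ∨ a2⁻¹ * c ∈ Subgroup.upperCentralSeries T 1) ∧
      a3 ∈ Subgroup.upperCentralSeries T 3 ∧ a3 ∉ Subgroup.upperCentralSeries T 2 ∧
      (∀ c ∈ Subgroup.upperCentralSeries T 3,
        c ∈ Subgroup.upperCentralSeries T 2 ∨ a3⁻¹ * c ∈ Subgroup.upperCentralSeries T 2) ∧
      a2⁻¹ * x⁻¹ * a2 * x = a1 ∧
      z ∈ centralizer (Subgroup.upperCentralSeries T 2 : Set T) ∧ a3⁻¹ * z⁻¹ * a3 * z = a1 ∧
      s ∈ centralizer (Subgroup.upperCentralSeries T 2 : Set T) ∧ a3⁻¹ * s⁻¹ * a3 * s = a2 ∧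
      (∀ c ∈ Subgroup.upperCentralSeries T 1, ∀ t : T, c * t = t * c) ∧
      (∀ c ∈ Subgroup.upperCentralSeries T 2, ∀ d ∈ Subgroup.upperCentralSeries T 2,
        c * d = d * c) ∧
      (∀ t u : T, a2⁻¹ * (t * u)⁻¹ * a2 * (t * u)
        = (a2⁻¹ * t⁻¹ * a2 * t) * (a2⁻¹ * u⁻¹ * a2 * u)) ∧
      (∀ t ∈ centralizer (Subgroup.upperCentralSeries T 2 : Set T),
        ∀ u ∈ centralizer (Subgroup.upperCentralSeries T 2 : Set T),
        a3⁻¹ * (t * u)⁻¹ * a3 * (t * u) = (a3⁻¹ * t⁻¹ * a3 * t) * (a3⁻¹ * u⁻¹ * a3 * u)) ∧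
      (∀ t : T, t ∈ centralizer (Subgroup.upperCentralSeries T 2 : Set T) ↔
        a2⁻¹ * t⁻¹ * a2 * t = 1) ∧
      (∀ t : T, t ∈ W ↔ t ∈ centralizer (Subgroup.upperCentralSeries T 2 : Set T) ∧
        a3⁻¹ * t⁻¹ * a3 * t = 1) := by
  classical
  have hZ01 : (⊥ : Subgroup T) ≤ Subgroup.upperCentralSeries T 1 := bot_le
  have hZ12 : Subgroup.upperCentralSeries T 1 ≤ Subgroup.upperCentralSeries T 2 :=
    Subgroup.upperCentralSeries_mono T (by norm_num)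
  have hZ23 : Subgroup.upperCentralSeries T 2 ≤ Subgroup.upperCentralSeries T 3 :=
    Subgroup.upperCentralSeries_mono T (by norm_num)
  have hc1 : Nat.card (Subgroup.upperCentralSeries T 1) = 2 * Nat.card (⊥ : Subgroup T) := by
    rw [h1, Subgroup.card_bot]
  have hc2 : Nat.card (Subgroup.upperCentralSeries T 2)
      = 2 * Nat.card (Subgroup.upperCentralSeries T 1) := by rw [h1, h2]
  have hc3 : Nat.card (Subgroup.upperCentralSeries T 3)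
      = 2 * Nat.card (Subgroup.upperCentralSeries T 2) := by rw [h2, h3]
  obtain ⟨a1, ha1, ha1b⟩ := exists_not_mem_of_card hZ01 hc1
  obtain ⟨a2, ha2, ha2n⟩ := exists_not_mem_of_card hZ12 hc2
  obtain ⟨a3, ha3, ha3n⟩ := exists_not_mem_of_card hZ23 hc3
  have ha1ne : a1 ≠ 1 := fun h => ha1b (by rw [h]; exact Subgroup.one_mem _)
  have hcos1 : ∀ c ∈ Subgroup.upperCentralSeries T 1, c = 1 ∨ c = a1 := by
    intro c hc
    rcases coset_of_card hZ01 hc1 ha1 ha1b c hc with h | h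
    · exact Or.inl (Subgroup.mem_bot.mp h)
    · right
      have := Subgroup.mem_bot.mp h
      exact (inv_mul_eq_one.mp this).symm
  have hcos2 := coset_of_card hZ12 hc2 ha2 ha2n
  have hcos3 := coset_of_card hZ23 hc3 ha3 ha3n
  -- Z1 is central
  have hcen : ∀ c ∈ Subgroup.upperCentralSeries T 1, ∀ t : T, c * t = t * c := by
    intro c hc t
    rw [Subgroup.upperCentralSeries_one] at hc
    exact ((Subgroup.mem_center_iff.mp hc) t).symm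
  -- a1 has order two
  have ha1sq : a1 * a1 = 1 := hexp a1 (hZ23 (hZ12 ha1))
  -- the homomorphism φ₂
  let φ : T →* T :=
    { toFun := fun t => a2⁻¹ * t⁻¹ * a2 * t
      map_one' := by group
      map_mul' := by
        intro t u
        have hc := cm_mem_ucs (n := 1) ha2 t
        have hcu := hcen _ hc u
        rw [cm_mul]
        calc a2⁻¹ * u⁻¹ * a2 * u * (u⁻¹ * (a2⁻¹ * t⁻¹ * a2 * t) * u)
            = a2⁻¹ * u⁻¹ * a2 * ((a2⁻¹ * t⁻¹ * a2 * t) * u) := by group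
          _ = a2⁻¹ * u⁻¹ * a2 * (u * (a2⁻¹ * t⁻¹ * a2 * t)) := by rw [hcu]
          _ = (a2⁻¹ * u⁻¹ * a2 * u) * (a2⁻¹ * t⁻¹ * a2 * t) := by group
          _ = (a2⁻¹ * t⁻¹ * a2 * t) * (a2⁻¹ * u⁻¹ * a2 * u) :=
              (hcen _ hc _).symm }
  have hφ : ∀ t, φ t = a2⁻¹ * t⁻¹ * a2 * t := fun _ => rfl
  have hφrange : φ.range ≤ Subgroup.upperCentralSeries T 1 := by
    rintro _ ⟨t, rfl⟩
    exact cm_mem_ucs (n := 1) ha2 t
  -- T2 and the kernel of φ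
  obtain ⟨T2, hT2⟩ : ∃ T2 : Subgroup T,
      T2 = centralizer (Subgroup.upperCentralSeries T 2 : Set T) := ⟨_, rfl⟩
  have hmemT2 : ∀ t : T, t ∈ T2 ↔ a2⁻¹ * t⁻¹ * a2 * t = 1 := by
    intro t
    rw [hT2, Subgroup.mem_centralizer_iff]
    constructor
    · intro h
      have := h a2 ha2
      calc a2⁻¹ * t⁻¹ * a2 * t = a2⁻¹ * t⁻¹ * (a2 * t) := by group
        _ = a2⁻¹ * t⁻¹ * (t * a2) := by rw [this]
        _ = 1 := by group
    · intro h c hc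
      have hat : a2 * t = t * a2 := by
        calc a2 * t = t * a2 * (a2⁻¹ * t⁻¹ * a2 * t) := by group
          _ = t * a2 := by rw [h, mul_one]
      rcases hcos2 c hc with h' | h'
      · exact hcen c h' t
      · have e := hcen _ h' t
        calc c * t = a2 * ((a2⁻¹ * c) * t) := by group
          _ = a2 * (t * (a2⁻¹ * c)) := by rw [e]
          _ = (a2 * t) * (a2⁻¹ * c) := by group
          _ = (t * a2) * (a2⁻¹ * c) := by rw [hat]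
          _ = t * c := by group
  have hker : φ.ker = T2 := by
    ext t
    rw [MonoidHom.mem_ker, hφ, hmemT2]
  have hT2idx : T2.index ∣ 2 := by
    rw [← hker, Subgroup.index_ker, ← h1]
    exact Subgroup.card_dvd_of_le hφrange
  -- Z2 is commutative
  have hZ2comm : ∀ c ∈ Subgroup.upperCentralSeries T 2, ∀ d ∈ Subgroup.upperCentralSeries T 2,
      c * d = d * c := by
    intro c hc d hd
    rcases hcos2 c hc with h | h
    · exact hcen c h d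
    · rcases hcos2 d hd with h' | h'
      · exact (hcen d h' c).symm
      · have e1 := hcen _ h a2
        have e2 := hcen _ h' a2
        have e3 := hcen _ h (a2⁻¹ * d)
        calc c * d = a2 * ((a2⁻¹ * c) * a2) * (a2⁻¹ * d) := by group
          _ = a2 * (a2 * (a2⁻¹ * c)) * (a2⁻¹ * d) := by rw [e1]
          _ = a2 * a2 * ((a2⁻¹ * c) * (a2⁻¹ * d)) := by group
          _ = a2 * a2 * ((a2⁻¹ * d) * (a2⁻¹ * c)) := by rw [e3]
          _ = a2 * ((a2 * (a2⁻¹ * d)) * (a2⁻¹ * c)) := by group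
          _ = a2 * (((a2⁻¹ * d) * a2) * (a2⁻¹ * c)) := by rw [e2]
          _ = d * c := by group
  -- W ≤ T2
  have hWT2 : W ≤ T2 := by
    rw [hW, hT2]
    exact Subgroup.centralizer_le (SetLike.coe_subset_coe.mpr hZ23)
  have hmemW : ∀ t : T, t ∈ W ↔ t ∈ T2 ∧ a3⁻¹ * t⁻¹ * a3 * t = 1 := by
    intro t
    constructor
    · intro h
      refine ⟨hWT2 h, ?_⟩
      rw [hW, Subgroup.mem_centralizer_iff] at h
      have := h a3 ha3
      calc a3⁻¹ * t⁻¹ * a3 * t = a3⁻¹ * t⁻¹ * (a3 * t) := by group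
        _ = a3⁻¹ * t⁻¹ * (t * a3) := by rw [this]
        _ = 1 := by group
    · rintro ⟨htT2, h⟩
      rw [hW, Subgroup.mem_centralizer_iff]
      intro c hc
      have hat : a3 * t = t * a3 := by
        calc a3 * t = t * a3 * (a3⁻¹ * t⁻¹ * a3 * t) := by group
          _ = t * a3 := by rw [h, mul_one]
      rw [hT2, Subgroup.mem_centralizer_iff] at htT2
      rcases hcos3 c hc with h' | h'
      · exact htT2 c h'
      · have e := htT2 _ h'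
        calc c * t = a3 * ((a3⁻¹ * c) * t) := by group
          _ = a3 * (t * (a3⁻¹ * c)) := by rw [e]
          _ = (a3 * t) * (a3⁻¹ * c) := by group
          _ = (t * a3) * (a3⁻¹ * c) := by rw [hat]
          _ = t * c := by group
  -- the homomorphism ψ on T2
  let ψ : ↥T2 →* T :=
    { toFun := fun t => a3⁻¹ * (t : T)⁻¹ * a3 * (t : T)
      map_one' := by simp
      map_mul' := by
        intro t u
        have hc := cm_mem_ucs (n := 2) ha3 (t : T)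
        have hcu' := cm_mem_ucs (n := 2) ha3 (u : T)
        have hu : (u : T) ∈ centralizer (Subgroup.upperCentralSeries T 2 : Set T) := hT2 ▸ u.2
        have hcu := (Subgroup.mem_centralizer_iff.mp hu) _ hc
        show a3⁻¹ * ((t : T) * (u : T))⁻¹ * a3 * ((t : T) * (u : T)) = _
        rw [cm_mul]
        calc a3⁻¹ * (u : T)⁻¹ * a3 * u * ((u : T)⁻¹ * (a3⁻¹ * (t : T)⁻¹ * a3 * t) * u)
            = a3⁻¹ * (u : T)⁻¹ * a3 * ((a3⁻¹ * (t : T)⁻¹ * a3 * t) * u) := by group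
          _ = a3⁻¹ * (u : T)⁻¹ * a3 * (u * (a3⁻¹ * (t : T)⁻¹ * a3 * t)) := by rw [hcu]
          _ = (a3⁻¹ * (u : T)⁻¹ * a3 * u) * (a3⁻¹ * (t : T)⁻¹ * a3 * t) := by group
          _ = (a3⁻¹ * (t : T)⁻¹ * a3 * t) * (a3⁻¹ * (u : T)⁻¹ * a3 * u) :=
              hZ2comm _ hcu' _ hc }
  have hψ : ∀ t : ↥T2, ψ t = a3⁻¹ * (t : T)⁻¹ * a3 * (t : T) := fun _ => rfl
  have hψrange : ψ.range ≤ Subgroup.upperCentralSeries T 2 := by
    rintro _ ⟨t, rfl⟩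
    exact cm_mem_ucs (n := 2) ha3 (t : T)
  have hψker : ψ.ker = W.subgroupOf T2 := by
    ext t
    rw [MonoidHom.mem_ker, hψ, Subgroup.mem_subgroupOf, hmemW]
    constructor
    · intro h; exact ⟨t.2, h⟩
    · intro h; exact h.2
  have hrel : W.relIndex T2 ∣ 4 := by
    rw [Subgroup.relIndex, ← hψker, Subgroup.index_ker, ← h2]
    exact Subgroup.card_dvd_of_le hψrange
  -- counting
  have hprod : W.relIndex T2 * T2.index = 8 := by
    rw [Subgroup.relIndex_mul_index hWT2, hidx]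
  have hle1 : T2.index ≤ 2 := Nat.le_of_dvd (by norm_num) hT2idx
  have hle2 : W.relIndex T2 ≤ 4 := Nat.le_of_dvd (by norm_num) hrel
  have hT2idx2 : T2.index = 2 := by
    interval_cases h : T2.index <;> omega
  have hrel4 : W.relIndex T2 = 4 := by
    rw [hT2idx2] at hprod; omega
  -- surjectivity
  have hφr : φ.range = Subgroup.upperCentralSeries T 1 := by
    apply Subgroup.eq_of_le_of_card_ge hφrange
    rw [h1, ← Subgroup.index_ker, hker, hT2idx2]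
  have hψr : ψ.range = Subgroup.upperCentralSeries T 2 := by
    apply Subgroup.eq_of_le_of_card_ge hψrange
    rw [h2, ← Subgroup.index_ker, hψker, ← Subgroup.relIndex, hrel4]
  obtain ⟨x, hx⟩ : a1 ∈ φ.range := by rw [hφr]; exact ha1
  obtain ⟨z, hz⟩ : a1 ∈ ψ.range := by rw [hψr]; exact hZ12 ha1
  obtain ⟨s, hs⟩ : a2 ∈ ψ.range := by rw [hψr]; exact ha2
  refine ⟨a1, a2, a3, x, (z : T), (s : T), ha1, ha1ne, hcos1, ha2, ha2n, hcos2, ha3, ha3n, hcos3,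
    hx, hT2 ▸ z.2, hz, hT2 ▸ s.2, hs, hcen, hZ2comm, fun t u => φ.map_mul t u, ?_, ?_, ?_⟩
  · intro t ht u hu
    exact ψ.map_mul ⟨t, hT2 ▸ ht⟩ ⟨u, hT2 ▸ hu⟩
  · intro t
    rw [← hT2]
    exact hmemT2 t
  · intro t
    rw [← hT2]
    exact hmemW t


/-- **Part III of S3174.** -/
theorem chain
    (h1 : Nat.card (Subgroup.upperCentralSeries T 1) = 2)
    (h2 : Nat.card (Subgroup.upperCentralSeries T 2) = 4)
    (h3 : Nat.card (Subgroup.upperCentralSeries T 3) = 8)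
    (hexp : ∀ c ∈ Subgroup.upperCentralSeries T 3, c * c = 1)
    (W : Subgroup T) (hW : W = centralizer (Subgroup.upperCentralSeries T 3 : Set T))
    (hidx : W.index = 8) :
    ∃ (_ : W.Normal), Nonempty (T ⧸ W ≃* DihedralGroup 4) ∧
    ∃ (T1 T2 : Subgroup T) (z s x : T),
      T2 = centralizer (Subgroup.upperCentralSeries T 2 : Set T) ∧
      W ≤ T1 ∧ T1 ≤ T2 ∧ T1.Normal ∧ T2.Normal ∧
      z ∈ T1 ∧ z ∉ W ∧ (∀ t ∈ T1, t ∈ W ∨ z⁻¹ * t ∈ W) ∧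
      s ∈ T2 ∧ s ∉ T1 ∧ (∀ t ∈ T2, t ∈ T1 ∨ s⁻¹ * t ∈ T1) ∧
      x ∉ T2 ∧ (∀ t : T, t ∈ T2 ∨ x⁻¹ * t ∈ T2) ∧
      (∀ t ∈ T2, t * t ∈ W) ∧
      (∀ y ∈ T1, ∀ t : T, y⁻¹ * t⁻¹ * y * t ∈ W) ∧
      (∀ y ∈ T2, ∀ t : T, y⁻¹ * t⁻¹ * y * t ∈ T1) ∧
      z⁻¹ * (x * x) ∈ W ∧
      (∃ a ∈ Subgroup.upperCentralSeries T 3, a ∉ Subgroup.upperCentralSeries T 2 ∧
        ∀ c ∈ Subgroup.upperCentralSeries T 3,
          c ∈ Subgroup.upperCentralSeries T 2 ∨ a⁻¹ * c ∈ Subgroup.upperCentralSeries T 2) := by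
  classical
  obtain ⟨a1, a2, a3, x0, z, s, ha1, ha1ne, hcos1, ha2, ha2n, hcos2, ha3, ha3n, hcos3, hx0, hzT2, hz,
    hsT2, hs, hcen, hZ2comm, hφmul, hψmul, hmemT2, hmemW⟩ := data h1 h2 h3 hexp W hW hidx
  have hZ12 : Subgroup.upperCentralSeries T 1 ≤ Subgroup.upperCentralSeries T 2 :=
    Subgroup.upperCentralSeries_mono T (by norm_num)
  have hZ23 : Subgroup.upperCentralSeries T 2 ≤ Subgroup.upperCentralSeries T 3 :=
    Subgroup.upperCentralSeries_mono T (by norm_num)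
  obtain ⟨T2, hT2⟩ : ∃ T2 : Subgroup T,
      T2 = centralizer (Subgroup.upperCentralSeries T 2 : Set T) := ⟨_, rfl⟩
  rw [← hT2] at hzT2 hsT2 hψmul hmemT2 hmemW
  have hWn : W.Normal := by rw [hW]; infer_instance
  have hT2n : T2.Normal := by rw [hT2]; infer_instance
  -- membership of the commutators
  have hψZ : ∀ t : T, a3⁻¹ * t⁻¹ * a3 * t ∈ Subgroup.upperCentralSeries T 2 :=
    fun t => cm_mem_ucs (n := 2) ha3 t
  have hφZ : ∀ t : T, a2⁻¹ * t⁻¹ * a2 * t ∈ Subgroup.upperCentralSeries T 1 :=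
    fun t => cm_mem_ucs (n := 1) ha2 t
  have hT2cen : ∀ t ∈ T2, ∀ c ∈ Subgroup.upperCentralSeries T 2, c * t = t * c := by
    intro t ht c hc
    rw [hT2] at ht
    exact (Subgroup.mem_centralizer_iff.mp ht) c hc
  have ha1sq : a1 * a1 = 1 := hexp a1 (hZ23 (hZ12 ha1))
  have ha1inv : a1⁻¹ = a1 := inv_eq_of_mul_eq_one_left ha1sq
  -- ψ on inverses and quotients
  have hψ1 : a3⁻¹ * (1 : T)⁻¹ * a3 * 1 = 1 := by group
  have hψinv : ∀ t ∈ T2, a3⁻¹ * (t⁻¹)⁻¹ * a3 * t⁻¹ = (a3⁻¹ * t⁻¹ * a3 * t)⁻¹ := by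
    intro t ht
    have := hψmul t ht t⁻¹ (T2.inv_mem ht)
    rw [mul_inv_cancel, hψ1] at this
    exact eq_inv_of_mul_eq_one_right this.symm
  have hψdiv : ∀ u ∈ T2, ∀ t ∈ T2, a3⁻¹ * (u⁻¹ * t)⁻¹ * a3 * (u⁻¹ * t)
      = (a3⁻¹ * u⁻¹ * a3 * u)⁻¹ * (a3⁻¹ * t⁻¹ * a3 * t) := by
    intro u hu t ht
    rw [hψmul u⁻¹ (T2.inv_mem hu) t ht, hψinv u hu]
  have hφ1 : a2⁻¹ * (1 : T)⁻¹ * a2 * 1 = 1 := by group
  have hφinv : ∀ t : T, a2⁻¹ * (t⁻¹)⁻¹ * a2 * t⁻¹ = (a2⁻¹ * t⁻¹ * a2 * t)⁻¹ := by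
    intro t
    have := hφmul t t⁻¹
    rw [mul_inv_cancel, hφ1] at this
    exact eq_inv_of_mul_eq_one_right this.symm
  -- equivariance
  have hequi : ∀ y ∈ T2, ∀ t : T, a3⁻¹ * (t⁻¹ * y * t)⁻¹ * a3 * (t⁻¹ * y * t)
      = t⁻¹ * (a3⁻¹ * y⁻¹ * a3 * y) * t := by
    intro y hy t
    have he : a3⁻¹ * t * a3 * t⁻¹ ∈ Subgroup.upperCentralSeries T 2 := by
      have := hψZ t⁻¹
      rwa [inv_inv] at this
    exact cm_conj (hT2cen y hy _ he) (hZ2comm _ (hψZ y) _ he)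
  have hconjT2 : ∀ y ∈ T2, ∀ t : T, t⁻¹ * y * t ∈ T2 := by
    intro y hy t
    have := hT2n.conj_mem y hy t⁻¹
    rwa [inv_inv] at this
  -- T1
  let T1 : Subgroup T :=
    { carrier := {t | t ∈ T2 ∧ a3⁻¹ * t⁻¹ * a3 * t ∈ Subgroup.upperCentralSeries T 1}
      one_mem' := ⟨T2.one_mem, by rw [hψ1]; exact Subgroup.one_mem _⟩
      mul_mem' := by
        rintro t u ⟨ht, ht'⟩ ⟨hu, hu'⟩
        refine ⟨T2.mul_mem ht hu, ?_⟩
        rw [hψmul t ht u hu]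
        exact Subgroup.mul_mem _ ht' hu'
      inv_mem' := by
        rintro t ⟨ht, ht'⟩
        refine ⟨T2.inv_mem ht, ?_⟩
        rw [hψinv t ht]
        exact Subgroup.inv_mem _ ht' }
  have hmemT1 : ∀ t : T, t ∈ T1 ↔ t ∈ T2 ∧
      a3⁻¹ * t⁻¹ * a3 * t ∈ Subgroup.upperCentralSeries T 1 := fun _ => Iff.rfl
  have hWT1 : W ≤ T1 := by
    intro t ht
    rw [hmemW] at ht
    rw [hmemT1]
    exact ⟨ht.1, by rw [ht.2]; exact Subgroup.one_mem _⟩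
  have hT12 : T1 ≤ T2 := fun t ht => ((hmemT1 t).mp ht).1
  have hT1n : T1.Normal := by
    constructor
    intro y hy g
    rw [hmemT1] at hy ⊢
    have e : g * y * g⁻¹ = (g⁻¹)⁻¹ * y * g⁻¹ := by rw [inv_inv]
    rw [e]
    refine ⟨hconjT2 y hy.1 g⁻¹, ?_⟩
    rw [hequi y hy.1 g⁻¹]
    have := hcen _ hy.2 g⁻¹
    have e2 : (g⁻¹)⁻¹ * (a3⁻¹ * y⁻¹ * a3 * y) * g⁻¹ = a3⁻¹ * y⁻¹ * a3 * y := by
      rw [mul_assoc, this, ← mul_assoc, inv_inv, mul_inv_cancel, one_mul]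
    rw [e2]
    exact hy.2
  -- z
  have hzT1 : z ∈ T1 := by
    rw [hmemT1]; exact ⟨hzT2, by rw [hz]; exact ha1⟩
  have hzW : z ∉ W := by
    intro h
    rw [hmemW] at h
    rw [hz] at h
    exact ha1ne h.2
  have hT1cos : ∀ t ∈ T1, t ∈ W ∨ z⁻¹ * t ∈ W := by
    intro t ht
    rw [hmemT1] at ht
    rcases hcos1 _ ht.2 with h | h
    · left; rw [hmemW]; exact ⟨ht.1, h⟩
    · right
      rw [hmemW]
      refine ⟨T2.mul_mem (T2.inv_mem hzT2) ht.1, ?_⟩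
      rw [hψdiv z hzT2 t ht.1, hz, h, inv_mul_cancel]
  -- s
  have hsT1 : s ∉ T1 := by
    intro h
    rw [hmemT1, hs] at h
    exact ha2n h.2
  have hT2cos : ∀ t ∈ T2, t ∈ T1 ∨ s⁻¹ * t ∈ T1 := by
    intro t ht
    rcases hcos2 _ (hψZ t) with h | h
    · left; rw [hmemT1]; exact ⟨ht, h⟩
    · right
      rw [hmemT1]
      refine ⟨T2.mul_mem (T2.inv_mem hsT2) ht, ?_⟩
      rw [hψdiv s hsT2 t ht, hs]
      exact h
  -- squares
  have hT2sq : ∀ t ∈ T2, t * t ∈ W := by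
    intro t ht
    rw [hmemW]
    refine ⟨T2.mul_mem ht ht, ?_⟩
    rw [hψmul t ht t ht]
    exact hexp _ (hZ23 (hψZ t))
  -- centrality
  have hT1c : ∀ y ∈ T1, ∀ t : T, y⁻¹ * t⁻¹ * y * t ∈ W := by
    intro y hy t
    rw [hmemT1] at hy
    have e : y⁻¹ * t⁻¹ * y * t = y⁻¹ * (t⁻¹ * y * t) := by group
    rw [e, hmemW]
    refine ⟨T2.mul_mem (T2.inv_mem hy.1) (hconjT2 y hy.1 t), ?_⟩
    rw [hψdiv y hy.1 _ (hconjT2 y hy.1 t), hequi y hy.1 t]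
    have := hcen _ hy.2 t
    rw [mul_assoc t⁻¹, this, ← mul_assoc t⁻¹, inv_mul_cancel, one_mul, inv_mul_cancel]
  have hT2c : ∀ y ∈ T2, ∀ t : T, y⁻¹ * t⁻¹ * y * t ∈ T1 := by
    intro y hy t
    have e : y⁻¹ * t⁻¹ * y * t = y⁻¹ * (t⁻¹ * y * t) := by group
    rw [e, hmemT1]
    refine ⟨T2.mul_mem (T2.inv_mem hy) (hconjT2 y hy t), ?_⟩
    rw [hψdiv y hy _ (hconjT2 y hy t), hequi y hy t]
    have := cm_mem_ucs (n := 1) (hψZ y) t
    have e2 : (a3⁻¹ * y⁻¹ * a3 * y)⁻¹ * (t⁻¹ * (a3⁻¹ * y⁻¹ * a3 * y) * t)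
        = (a3⁻¹ * y⁻¹ * a3 * y)⁻¹ * t⁻¹ * (a3⁻¹ * y⁻¹ * a3 * y) * t := by group
    rw [e2]
    exact this
  -- generic facts for x' with φ x' = a1
  have hxgen : ∀ x' : T, a2⁻¹ * x'⁻¹ * a2 * x' = a1 →
      x' ∉ T2 ∧ (∀ t : T, t ∈ T2 ∨ x'⁻¹ * t ∈ T2) ∧ s⁻¹ * x'⁻¹ * s * x' ∉ W := by
    intro x' hx'
    refine ⟨?_, ?_, ?_⟩
    · intro h
      rw [hmemT2, hx'] at h
      exact ha1ne h
    · intro t
      rcases hcos1 _ (hφZ t) with h | h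
      · left; rw [hmemT2]; exact h
      · right
        rw [hmemT2, hφmul, hφinv, hx', h, inv_mul_cancel]
    · intro h
      have e : s⁻¹ * x'⁻¹ * s * x' = s⁻¹ * (x'⁻¹ * s * x') := by group
      rw [e, hmemW] at h
      have h2 := h.2
      rw [hψdiv s hsT2 _ (hconjT2 s hsT2 x'), hequi s hsT2 x', hs] at h2
      have e2 : a2⁻¹ * (x'⁻¹ * a2 * x') = a2⁻¹ * x'⁻¹ * a2 * x' := by group
      rw [e2, hx'] at h2
      exact ha1ne h2
  -- the choice of x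
  have hxx : ∃ x : T, a2⁻¹ * x⁻¹ * a2 * x = a1 ∧ z⁻¹ * (x * x) ∈ W := by
    -- ψ(x0²) ∈ Z1
    have hd := hψZ x0
    have hsq0 : a3⁻¹ * (x0 * x0)⁻¹ * a3 * (x0 * x0)
        = (a3⁻¹ * x0⁻¹ * a3 * x0)⁻¹ * x0⁻¹ * (a3⁻¹ * x0⁻¹ * a3 * x0) * x0 := by
      rw [cm_sq, hexp _ (hZ23 hd), one_mul]
    have hx0sqT2 : x0 * x0 ∈ T2 := by
      rw [hmemT2, hφmul, hx0, ha1sq]
    have hcd := cm_mem_ucs (n := 1) hd x0
    rcases hcos1 _ hcd with h | h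
    · -- ψ(x0²) = 1 : take x = x0 * s
      refine ⟨x0 * s, ?_, ?_⟩
      · rw [hφmul, hx0, (hmemT2 s).mp hsT2, mul_one]
      · have hd' : a3⁻¹ * (x0 * s)⁻¹ * a3 * (x0 * s) = a2 * (a3⁻¹ * x0⁻¹ * a3 * x0) := by
          rw [cm_mul, hs]
          have := hT2cen s hsT2 _ hd
          rw [mul_assoc s⁻¹, this, ← mul_assoc s⁻¹, inv_mul_cancel, one_mul]
        have hd'Z : a2 * (a3⁻¹ * x0⁻¹ * a3 * x0) ∈ Subgroup.upperCentralSeries T 2 :=
          Subgroup.mul_mem _ ha2 hd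
        have hxsT2 : (x0 * s) * (x0 * s) ∈ T2 := by
          rw [hmemT2, hφmul, hφmul, hx0, (hmemT2 s).mp hsT2, mul_one, ha1sq]
        rw [hmemW]
        refine ⟨T2.mul_mem (T2.inv_mem hzT2) hxsT2, ?_⟩
        rw [hψdiv z hzT2 _ hxsT2, hz, cm_sq, hd', hexp _ (hZ23 hd'Z), one_mul]
        -- [d', x0 s] = [d', x0] = [a2,x0][d,x0] = a1
        have hc1 : (a2 * (a3⁻¹ * x0⁻¹ * a3 * x0))⁻¹ * (x0 * s)⁻¹ *
            (a2 * (a3⁻¹ * x0⁻¹ * a3 * x0)) * (x0 * s)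
            = (a2 * (a3⁻¹ * x0⁻¹ * a3 * x0))⁻¹ * x0⁻¹ * (a2 * (a3⁻¹ * x0⁻¹ * a3 * x0)) * x0 := by
          rw [cm_mul]
          have hcs : (a2 * (a3⁻¹ * x0⁻¹ * a3 * x0))⁻¹ * s⁻¹ *
              (a2 * (a3⁻¹ * x0⁻¹ * a3 * x0)) * s = 1 := by
            have := hT2cen s hsT2 _ hd'Z
            calc (a2 * (a3⁻¹ * x0⁻¹ * a3 * x0))⁻¹ * s⁻¹ * (a2 * (a3⁻¹ * x0⁻¹ * a3 * x0)) * s
                = (a2 * (a3⁻¹ * x0⁻¹ * a3 * x0))⁻¹ * s⁻¹ *
                  ((a2 * (a3⁻¹ * x0⁻¹ * a3 * x0)) * s) := by group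
              _ = (a2 * (a3⁻¹ * x0⁻¹ * a3 * x0))⁻¹ * s⁻¹ *
                  (s * (a2 * (a3⁻¹ * x0⁻¹ * a3 * x0))) := by rw [this]
              _ = 1 := by group
          rw [hcs, one_mul]
          have hcc := cm_mem_ucs (n := 1) hd'Z x0
          have := hcen _ hcc s
          rw [mul_assoc s⁻¹, this, ← mul_assoc s⁻¹, inv_mul_cancel, one_mul]
        rw [hc1, cm_mul_left (hcen _ (hφZ x0) _), hx0, h, mul_one, ha1inv, ha1sq]
    · -- ψ(x0²) = a1 : take x = x0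
      refine ⟨x0, hx0, ?_⟩
      rw [hmemW]
      refine ⟨T2.mul_mem (T2.inv_mem hzT2) hx0sqT2, ?_⟩
      rw [hψdiv z hzT2 _ hx0sqT2, hz, hsq0, h, inv_mul_cancel]
  obtain ⟨x, hx, hx2⟩ := hxx
  obtain ⟨hxT2, hTcos, hnc⟩ := hxgen x hx
  refine ⟨hWn, ?_, T1, T2, z, s, x, hT2, hWT1, hT12, hT1n, hT2n, hzT1, hzW, hT1cos, hsT2, hsT1,
    hT2cos, hxT2, hTcos, hT2sq, hT1c, hT2c, hx2, ⟨a3, ha3, ha3n, hcos3⟩⟩
  -- the dihedral quotient
  have hcard : Nat.card (T ⧸ W) = 8 := by rw [← Subgroup.index_eq_card, hidx]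
  have hsW : s ∉ W := fun h => hsT1 (hWT1 h)
  apply Cfsg.Agent.Lib.Helper6.SimAut.dihedral_of_card_eight hcard
    ⟨(QuotientGroup.mk s : T ⧸ W), (QuotientGroup.mk x : T ⧸ W), ?_⟩
    (QuotientGroup.mk z : T ⧸ W) (QuotientGroup.mk s : T ⧸ W)
  · -- z̄ ≠ s̄
    intro h
    rw [QuotientGroup.eq] at h
    have h' : z⁻¹ * s ∈ T1 := hWT1 h
    apply hsT1
    have := T1.mul_mem hzT1 h'
    rwa [mul_inv_cancel_left] at this
  · intro h
    exact hzW ((QuotientGroup.eq_one_iff z).mp h)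
  · intro h
    exact hsW ((QuotientGroup.eq_one_iff s).mp h)
  · rw [← QuotientGroup.mk_mul, QuotientGroup.eq_one_iff]
    exact hT2sq z hzT2
  · rw [← QuotientGroup.mk_mul, QuotientGroup.eq_one_iff]
    exact hT2sq s hsT2
  · -- non-commutativity
    intro h
    apply hnc
    rw [← QuotientGroup.mk_mul, ← QuotientGroup.mk_mul, QuotientGroup.eq] at h
    have e : s⁻¹ * x⁻¹ * s * x = ((s * x)⁻¹ * (x * s))⁻¹ := by group
    rw [e]
    exact W.inv_mem h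

end main

end Cfsg.Agent.Lib.Helper1.RU3
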