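import Mathlib
import Cfsg.Agent.Lib.Helper1.RU3

set_option autoImplicit false

/-! S3174 Part III without the hypothesis that `Z₃(T)` has exponent two: `T/W ≅ D₈` from
`|Z_i| = 2^i` (`i ≤ 3`), `W = C_T(Z₃)`, `|T:W| = 8` alone (interface of `Lib/Helper19/RU/G3.lean`). -/

namespace Cfsg.Agent.Lib.Helper1.RU3

open Subgroup
open scoped commutatorElement

section mainG

variable {T : Type*} [Group T] [Finite T]

/-- the raw data of Part III, without the exponent hypothesis -/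
theorem data'
    (h1 : Nat.card (Subgroup.upperCentralSeries T 1) = 2)
    (h2 : Nat.card (Subgroup.upperCentralSeries T 2) = 4)
    (h3 : Nat.card (Subgroup.upperCentralSeries T 3) = 8)
    (W : Subgroup T) (hW : W = centralizer (Subgroup.upperCentralSeries T 3 : Set T))
    (hidx : W.index = 8) :
    ∃ (a1 a2 a3 : T) (x z s : T),
      a1 ∈ Subgroup.upperCentralSeries T 1 ∧ a1 ≠ 1 ∧
      (∀ c ∈ Subgroup.upperCentralSeries T 1, c = 1 ∨ c = a1) ∧
      a2 ∈ Subgroup.upperCentralSeries T 2 ∧ a2 ∉ Subgroup.upperCentralSeries T 1 ∧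
      (∀ c ∈ Subgroup.upperCentralSeries T 2,
        c ∈ Subgroup.upperCentralSeries T 1 ∨ a2⁻¹ * c ∈ Subgroup.upperCentralSeries T 1) ∧
      a3 ∈ Subgroup.upperCentralSeries T 3 ∧ a3 ∉ Subgroup.upperCentralSeries T 2 ∧
      (∀ c ∈ Subgroup.upperCentralSeries T 3,
        c ∈ Subgroup.upperCentralSeries T 2 ∨ a3⁻¹ * c ∈ Subgroup.upperCentralSeries T 2) ∧
      a2⁻¹ * x⁻¹ * a2 * x = a1 ∧
      z ∈ centralizer (Subgroup.upperCentralSeries T 2 : Set T) ∧ a3⁻¹ * z⁻¹ * a3 * z = a1 ∧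
      s ∈ centralizer (Subgroup.upperCentralSeries T 2 : Set T) ∧ a3⁻¹ * s⁻¹ * a3 * s = a2 ∧
      (∀ c ∈ Subgroup.upperCentralSeries T 1, ∀ t : T, c * t = t * c) ∧
      (∀ c ∈ Subgroup.upperCentralSeries T 2, ∀ d ∈ Subgroup.upperCentralSeries T 2,
        c * d = d * c) ∧
      (∀ t u : T, a2⁻¹ * (t * u)⁻¹ * a2 * (t * u)
        = (a2⁻¹ * t⁻¹ * a2 * t) * (a2⁻¹ * u⁻¹ * a2 * u)) ∧
      (∀ t ∈ centralizer (Subgroup.upperCentralSeries T 2 : Set T),
        ∀ u ∈ centralizer (Subgroup.upperCentralSeries T 2 : Set T),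
        a3⁻¹ * (t * u)⁻¹ * a3 * (t * u) = (a3⁻¹ * t⁻¹ * a3 * t) * (a3⁻¹ * u⁻¹ * a3 * u)) ∧
      (∀ t : T, t ∈ centralizer (Subgroup.upperCentralSeries T 2 : Set T) ↔
        a2⁻¹ * t⁻¹ * a2 * t = 1) ∧
      (∀ t : T, t ∈ W ↔ t ∈ centralizer (Subgroup.upperCentralSeries T 2 : Set T) ∧
        a3⁻¹ * t⁻¹ * a3 * t = 1) := by
  classical
  have hZ01 : (⊥ : Subgroup T) ≤ Subgroup.upperCentralSeries T 1 := bot_le
  have hZ12 : Subgroup.upperCentralSeries T 1 ≤ Subgroup.upperCentralSeries T 2 :=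
    Subgroup.upperCentralSeries_mono T (by norm_num)
  have hZ23 : Subgroup.upperCentralSeries T 2 ≤ Subgroup.upperCentralSeries T 3 :=
    Subgroup.upperCentralSeries_mono T (by norm_num)
  have hc1 : Nat.card (Subgroup.upperCentralSeries T 1) = 2 * Nat.card (⊥ : Subgroup T) := by
    rw [h1, Subgroup.card_bot]
  have hc2 : Nat.card (Subgroup.upperCentralSeries T 2)
      = 2 * Nat.card (Subgroup.upperCentralSeries T 1) := by rw [h1, h2]
  have hc3 : Nat.card (Subgroup.upperCentralSeries T 3)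
      = 2 * Nat.card (Subgroup.upperCentralSeries T 2) := by rw [h2, h3]
  obtain ⟨a1, ha1, ha1b⟩ := exists_not_mem_of_card hZ01 hc1
  obtain ⟨a2, ha2, ha2n⟩ := exists_not_mem_of_card hZ12 hc2
  obtain ⟨a3, ha3, ha3n⟩ := exists_not_mem_of_card hZ23 hc3
  have ha1ne : a1 ≠ 1 := fun h => ha1b (by rw [h]; exact Subgroup.one_mem _)
  have hcos1 : ∀ c ∈ Subgroup.upperCentralSeries T 1, c = 1 ∨ c = a1 := by
    intro c hc
    rcases coset_of_card hZ01 hc1 ha1 ha1b c hc with h | h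
    · exact Or.inl (Subgroup.mem_bot.mp h)
    · right
      have := Subgroup.mem_bot.mp h
      exact (inv_mul_eq_one.mp this).symm
  have hcos2 := coset_of_card hZ12 hc2 ha2 ha2n
  have hcos3 := coset_of_card hZ23 hc3 ha3 ha3n
  -- Z1 is central
  have hcen : ∀ c ∈ Subgroup.upperCentralSeries T 1, ∀ t : T, c * t = t * c := by
    intro c hc t
    rw [Subgroup.upperCentralSeries_one] at hc
    exact ((Subgroup.mem_center_iff.mp hc) t).symm
  -- a1 has order two
  -- the homomorphism φ₂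
  let φ : T →* T :=
    { toFun := fun t => a2⁻¹ * t⁻¹ * a2 * t
      map_one' := by group
      map_mul' := by
        intro t u
        have hc := cm_mem_ucs (n := 1) ha2 t
        have hcu := hcen _ hc u
        rw [cm_mul]
        calc a2⁻¹ * u⁻¹ * a2 * u * (u⁻¹ * (a2⁻¹ * t⁻¹ * a2 * t) * u)
            = a2⁻¹ * u⁻¹ * a2 * ((a2⁻¹ * t⁻¹ * a2 * t) * u) := by group
          _ = a2⁻¹ * u⁻¹ * a2 * (u * (a2⁻¹ * t⁻¹ * a2 * t)) := by rw [hcu]
          _ = (a2⁻¹ * u⁻¹ * a2 * u) * (a2⁻¹ * t⁻¹ * a2 * t) := by group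
          _ = (a2⁻¹ * t⁻¹ * a2 * t) * (a2⁻¹ * u⁻¹ * a2 * u) :=
              (hcen _ hc _).symm }
  have hφ : ∀ t, φ t = a2⁻¹ * t⁻¹ * a2 * t := fun _ => rfl
  have hφrange : φ.range ≤ Subgroup.upperCentralSeries T 1 := by
    rintro _ ⟨t, rfl⟩
    exact cm_mem_ucs (n := 1) ha2 t
  -- T2 and the kernel of φ
  obtain ⟨T2, hT2⟩ : ∃ T2 : Subgroup T,
      T2 = centralizer (Subgroup.upperCentralSeries T 2 : Set T) := ⟨_, rfl⟩
  have hmemT2 : ∀ t : T, t ∈ T2 ↔ a2⁻¹ * t⁻¹ * a2 * t = 1 := by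
    intro t
    rw [hT2, Subgroup.mem_centralizer_iff]
    constructor
    · intro h
      have := h a2 ha2
      calc a2⁻¹ * t⁻¹ * a2 * t = a2⁻¹ * t⁻¹ * (a2 * t) := by group
        _ = a2⁻¹ * t⁻¹ * (t * a2) := by rw [this]
        _ = 1 := by group
    · intro h c hc
      have hat : a2 * t = t * a2 := by
        calc a2 * t = t * a2 * (a2⁻¹ * t⁻¹ * a2 * t) := by group
          _ = t * a2 := by rw [h, mul_one]
      rcases hcos2 c hc with h' | h'
      · exact hcen c h' t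
      · have e := hcen _ h' t
        calc c * t = a2 * ((a2⁻¹ * c) * t) := by group
          _ = a2 * (t * (a2⁻¹ * c)) := by rw [e]
          _ = (a2 * t) * (a2⁻¹ * c) := by group
          _ = (t * a2) * (a2⁻¹ * c) := by rw [hat]
          _ = t * c := by group
  have hker : φ.ker = T2 := by
    ext t
    rw [MonoidHom.mem_ker, hφ, hmemT2]
  have hT2idx : T2.index ∣ 2 := by
    rw [← hker, Subgroup.index_ker, ← h1]
    exact Subgroup.card_dvd_of_le hφrange
  -- Z2 is commutative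
  have hZ2comm : ∀ c ∈ Subgroup.upperCentralSeries T 2, ∀ d ∈ Subgroup.upperCentralSeries T 2,
      c * d = d * c := by
    intro c hc d hd
    rcases hcos2 c hc with h | h
    · exact hcen c h d
    · rcases hcos2 d hd with h' | h'
      · exact (hcen d h' c).symm
      · have e1 := hcen _ h a2
        have e2 := hcen _ h' a2
        have e3 := hcen _ h (a2⁻¹ * d)
        calc c * d = a2 * ((a2⁻¹ * c) * a2) * (a2⁻¹ * d) := by group
          _ = a2 * (a2 * (a2⁻¹ * c)) * (a2⁻¹ * d) := by rw [e1]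
          _ = a2 * a2 * ((a2⁻¹ * c) * (a2⁻¹ * d)) := by group
          _ = a2 * a2 * ((a2⁻¹ * d) * (a2⁻¹ * c)) := by rw [e3]
          _ = a2 * ((a2 * (a2⁻¹ * d)) * (a2⁻¹ * c)) := by group
          _ = a2 * (((a2⁻¹ * d) * a2) * (a2⁻¹ * c)) := by rw [e2]
          _ = d * c := by group
  -- W ≤ T2
  have hWT2 : W ≤ T2 := by
    rw [hW, hT2]
    exact Subgroup.centralizer_le (SetLike.coe_subset_coe.mpr hZ23)
  have hmemW : ∀ t : T, t ∈ W ↔ t ∈ T2 ∧ a3⁻¹ * t⁻¹ * a3 * t = 1 := by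
    intro t
    constructor
    · intro h
      refine ⟨hWT2 h, ?_⟩
      rw [hW, Subgroup.mem_centralizer_iff] at h
      have := h a3 ha3
      calc a3⁻¹ * t⁻¹ * a3 * t = a3⁻¹ * t⁻¹ * (a3 * t) := by group
        _ = a3⁻¹ * t⁻¹ * (t * a3) := by rw [this]
        _ = 1 := by group
    · rintro ⟨htT2, h⟩
      rw [hW, Subgroup.mem_centralizer_iff]
      intro c hc
      have hat : a3 * t = t * a3 := by
        calc a3 * t = t * a3 * (a3⁻¹ * t⁻¹ * a3 * t) := by group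
          _ = t * a3 := by rw [h, mul_one]
      rw [hT2, Subgroup.mem_centralizer_iff] at htT2
      rcases hcos3 c hc with h' | h'
      · exact htT2 c h'
      · have e := htT2 _ h'
        calc c * t = a3 * ((a3⁻¹ * c) * t) := by group
          _ = a3 * (t * (a3⁻¹ * c)) := by rw [e]
          _ = (a3 * t) * (a3⁻¹ * c) := by group
          _ = (t * a3) * (a3⁻¹ * c) := by rw [hat]
          _ = t * c := by group
  -- the homomorphism ψ on T2
  let ψ : ↥T2 →* T :=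
    { toFun := fun t => a3⁻¹ * (t : T)⁻¹ * a3 * (t : T)
      map_one' := by simp
      map_mul' := by
        intro t u
        have hc := cm_mem_ucs (n := 2) ha3 (t : T)
        have hcu' := cm_mem_ucs (n := 2) ha3 (u : T)
        have hu : (u : T) ∈ centralizer (Subgroup.upperCentralSeries T 2 : Set T) := hT2 ▸ u.2
        have hcu := (Subgroup.mem_centralizer_iff.mp hu) _ hc
        show a3⁻¹ * ((t : T) * (u : T))⁻¹ * a3 * ((t : T) * (u : T)) = _
        rw [cm_mul]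
        calc a3⁻¹ * (u : T)⁻¹ * a3 * u * ((u : T)⁻¹ * (a3⁻¹ * (t : T)⁻¹ * a3 * t) * u)
            = a3⁻¹ * (u : T)⁻¹ * a3 * ((a3⁻¹ * (t : T)⁻¹ * a3 * t) * u) := by group
          _ = a3⁻¹ * (u : T)⁻¹ * a3 * (u * (a3⁻¹ * (t : T)⁻¹ * a3 * t)) := by rw [hcu]
          _ = (a3⁻¹ * (u : T)⁻¹ * a3 * u) * (a3⁻¹ * (t : T)⁻¹ * a3 * t) := by group
          _ = (a3⁻¹ * (t : T)⁻¹ * a3 * t) * (a3⁻¹ * (u : T)⁻¹ * a3 * u) :=
              hZ2comm _ hcu' _ hc }
  have hψ : ∀ t : ↥T2, ψ t = a3⁻¹ * (t : T)⁻¹ * a3 * (t : T) := fun _ => rfl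
  have hψrange : ψ.range ≤ Subgroup.upperCentralSeries T 2 := by
    rintro _ ⟨t, rfl⟩
    exact cm_mem_ucs (n := 2) ha3 (t : T)
  have hψker : ψ.ker = W.subgroupOf T2 := by
    ext t
    rw [MonoidHom.mem_ker, hψ, Subgroup.mem_subgroupOf, hmemW]
    constructor
    · intro h; exact ⟨t.2, h⟩
    · intro h; exact h.2
  have hrel : W.relIndex T2 ∣ 4 := by
    rw [Subgroup.relIndex, ← hψker, Subgroup.index_ker, ← h2]
    exact Subgroup.card_dvd_of_le hψrange
  -- counting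
  have hprod : W.relIndex T2 * T2.index = 8 := by
    rw [Subgroup.relIndex_mul_index hWT2, hidx]
  have hle1 : T2.index ≤ 2 := Nat.le_of_dvd (by norm_num) hT2idx
  have hle2 : W.relIndex T2 ≤ 4 := Nat.le_of_dvd (by norm_num) hrel
  have hT2idx2 : T2.index = 2 := by
    interval_cases h : T2.index <;> omega
  have hrel4 : W.relIndex T2 = 4 := by
    rw [hT2idx2] at hprod; omega
  -- surjectivity
  have hφr : φ.range = Subgroup.upperCentralSeries T 1 := by
    apply Subgroup.eq_of_le_of_card_ge hφrange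
    rw [h1, ← Subgroup.index_ker, hker, hT2idx2]
  have hψr : ψ.range = Subgroup.upperCentralSeries T 2 := by
    apply Subgroup.eq_of_le_of_card_ge hψrange
    rw [h2, ← Subgroup.index_ker, hψker, ← Subgroup.relIndex, hrel4]
  obtain ⟨x, hx⟩ : a1 ∈ φ.range := by rw [hφr]; exact ha1
  obtain ⟨z, hz⟩ : a1 ∈ ψ.range := by rw [hψr]; exact hZ12 ha1
  obtain ⟨s, hs⟩ : a2 ∈ ψ.range := by rw [hψr]; exact ha2
  refine ⟨a1, a2, a3, x, (z : T), (s : T), ha1, ha1ne, hcos1, ha2, ha2n, hcos2, ha3, ha3n, hcos3,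
    hx, hT2 ▸ z.2, hz, hT2 ▸ s.2, hs, hcen, hZ2comm, fun t u => φ.map_mul t u, ?_, ?_, ?_⟩
  · intro t ht u hu
    exact ψ.map_mul ⟨t, hT2 ▸ ht⟩ ⟨u, hT2 ▸ hu⟩
  · intro t
    rw [← hT2]
    exact hmemT2 t
  · intro t
    rw [← hT2]
    exact hmemW t


/-- **`T/W ≅ D₈`** from the orders of `Z₁ < Z₂ < Z₃` and `|T : C_T(Z₃)| = 8` alone. -/
theorem quot_dihedral_gen
    (h1 : Nat.card (Subgroup.upperCentralSeries T 1) = 2)
    (h2 : Nat.card (Subgroup.upperCentralSeries T 2) = 4)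
    (h3 : Nat.card (Subgroup.upperCentralSeries T 3) = 8)
    (W : Subgroup T) (hW : W = centralizer (Subgroup.upperCentralSeries T 3 : Set T))
    (hidx : W.index = 8) :
    ∃ (_ : W.Normal), Nonempty (T ⧸ W ≃* DihedralGroup 4) := by
  classical
  obtain ⟨a1, a2, a3, x, z, s, ha1, ha1ne, hcos1, ha2, ha2n, hcos2, ha3, ha3n, hcos3, hx, hzT2, hz,
    hsT2, hs, hcen, hZ2comm, hφmul, hψmul, hmemT2, hmemW⟩ := data' h1 h2 h3 W hW hidx
  have hZ12 : Subgroup.upperCentralSeries T 1 ≤ Subgroup.upperCentralSeries T 2 :=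
    Subgroup.upperCentralSeries_mono T (by norm_num)
  obtain ⟨T2, hT2⟩ : ∃ T2 : Subgroup T,
      T2 = centralizer (Subgroup.upperCentralSeries T 2 : Set T) := ⟨_, rfl⟩
  rw [← hT2] at hzT2 hsT2 hψmul hmemT2 hmemW
  have hWn : W.Normal := by rw [hW]; infer_instance
  have hT2n : T2.Normal := by rw [hT2]; infer_instance
  have hψZ : ∀ t : T, a3⁻¹ * t⁻¹ * a3 * t ∈ Subgroup.upperCentralSeries T 2 :=
    fun t => cm_mem_ucs (n := 2) ha3 t
  have hφZ : ∀ t : T, a2⁻¹ * t⁻¹ * a2 * t ∈ Subgroup.upperCentralSeries T 1 :=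
    fun t => cm_mem_ucs (n := 1) ha2 t
  have hT2cen : ∀ t ∈ T2, ∀ c ∈ Subgroup.upperCentralSeries T 2, c * t = t * c := by
    intro t ht c hc
    rw [hT2] at ht
    exact (Subgroup.mem_centralizer_iff.mp ht) c hc
  have ha1sq : a1 * a1 = 1 := by
    rcases hcos1 _ (Subgroup.mul_mem _ ha1 ha1) with h | h
    · exact h
    · exact absurd (mul_eq_left.mp h) ha1ne
  have hZ1sq : ∀ c ∈ Subgroup.upperCentralSeries T 1, c * c = 1 := by
    intro c hc
    rcases hcos1 c hc with h | h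
    · rw [h, mul_one]
    · rw [h, ha1sq]
  have hψ1 : a3⁻¹ * (1 : T)⁻¹ * a3 * 1 = 1 := by group
  have hψinv : ∀ t ∈ T2, a3⁻¹ * (t⁻¹)⁻¹ * a3 * t⁻¹ = (a3⁻¹ * t⁻¹ * a3 * t)⁻¹ := by
    intro t ht
    have := hψmul t ht t⁻¹ (T2.inv_mem ht)
    rw [mul_inv_cancel, hψ1] at this
    exact eq_inv_of_mul_eq_one_right this.symm
  have hψdiv : ∀ u ∈ T2, ∀ t ∈ T2, a3⁻¹ * (u⁻¹ * t)⁻¹ * a3 * (u⁻¹ * t)
      = (a3⁻¹ * u⁻¹ * a3 * u)⁻¹ * (a3⁻¹ * t⁻¹ * a3 * t) := by
    intro u hu t ht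
    rw [hψmul u⁻¹ (T2.inv_mem hu) t ht, hψinv u hu]
  have hequi : ∀ y ∈ T2, ∀ t : T, a3⁻¹ * (t⁻¹ * y * t)⁻¹ * a3 * (t⁻¹ * y * t)
      = t⁻¹ * (a3⁻¹ * y⁻¹ * a3 * y) * t := by
    intro y hy t
    have he : a3⁻¹ * t * a3 * t⁻¹ ∈ Subgroup.upperCentralSeries T 2 := by
      have := hψZ t⁻¹
      rwa [inv_inv] at this
    exact cm_conj (hT2cen y hy _ he) (hZ2comm _ (hψZ y) _ he)
  have hconjT2 : ∀ y ∈ T2, ∀ t : T, t⁻¹ * y * t ∈ T2 := by
    intro y hy t
    have := hT2n.conj_mem y hy t⁻¹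
    rwa [inv_inv] at this
  have hWT2 : W ≤ T2 := fun t ht => ((hmemW t).mp ht).1
  have hxT2 : x ∉ T2 := by
    intro h
    rw [hmemT2, hx] at h
    exact ha1ne h
  have hxW : x ∉ W := fun h => hxT2 (hWT2 h)
  have hnc : s⁻¹ * x⁻¹ * s * x ∉ W := by
    intro h
    have e : s⁻¹ * x⁻¹ * s * x = s⁻¹ * (x⁻¹ * s * x) := by group
    rw [e, hmemW] at h
    have h2' := h.2
    rw [hψdiv s hsT2 _ (hconjT2 s hsT2 x), hequi s hsT2 x, hs] at h2'
    have e2 : a2⁻¹ * (x⁻¹ * a2 * x) = a2⁻¹ * x⁻¹ * a2 * x := by group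
    rw [e2, hx] at h2'
    exact ha1ne h2'
  have hzW : z ∉ W := by
    intro h
    rw [hmemW, hz] at h
    exact ha1ne h.2
  have hzz : z * z ∈ W := by
    rw [hmemW]
    refine ⟨T2.mul_mem hzT2 hzT2, ?_⟩
    rw [hψmul z hzT2 z hzT2, hz, ha1sq]
  have hcard : Nat.card (T ⧸ W) = 8 := by rw [← Subgroup.index_eq_card, hidx]
  have hncQ : (QuotientGroup.mk s : T ⧸ W) * (QuotientGroup.mk x : T ⧸ W)
      ≠ (QuotientGroup.mk x : T ⧸ W) * (QuotientGroup.mk s : T ⧸ W) := by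
    intro h
    apply hnc
    rw [← QuotientGroup.mk_mul, ← QuotientGroup.mk_mul, QuotientGroup.eq] at h
    have e : s⁻¹ * x⁻¹ * s * x = ((s * x)⁻¹ * (x * s))⁻¹ := by group
    rw [e]
    exact W.inv_mem h
  refine ⟨hWn, ?_⟩
  by_cases h22 : a2 * a2 = 1
  · -- `Z₂` is a four-group: `z̄` and `s̄` are involutions
    have hsW : s ∉ W := by
      intro h
      rw [hmemW, hs] at h
      exact ha2n (by rw [h.2]; exact Subgroup.one_mem _)
    have hss : s * s ∈ W := by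
      rw [hmemW]
      refine ⟨T2.mul_mem hsT2 hsT2, ?_⟩
      rw [hψmul s hsT2 s hsT2, hs, h22]
    apply Cfsg.Agent.Lib.Helper6.SimAut.dihedral_of_card_eight hcard
      ⟨_, _, hncQ⟩ (QuotientGroup.mk z : T ⧸ W) (QuotientGroup.mk s : T ⧸ W)
    · intro h
      rw [QuotientGroup.eq, hmemW] at h
      have h' := h.2
      rw [hψdiv z hzT2 s hsT2, hz, hs] at h'
      apply ha2n
      have : a2 = a1 := by
        have := eq_of_inv_mul_eq_one h'
        exact this.symm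
      rw [this]; exact ha1
    · intro h
      exact hzW ((QuotientGroup.eq_one_iff z).mp h)
    · intro h
      exact hsW ((QuotientGroup.eq_one_iff s).mp h)
    · rw [← QuotientGroup.mk_mul, QuotientGroup.eq_one_iff]
      exact hzz
    · rw [← QuotientGroup.mk_mul, QuotientGroup.eq_one_iff]
      exact hss
  · -- `Z₂` is cyclic: `z̄` and `x̄` are involutions
    have h22' : a2 * a2 = a1 := by
      rcases hcos2 _ (Subgroup.mul_mem _ ha2 ha2) with h | h
      · rcases hcos1 _ h with h' | h'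
        · exact absurd h' h22
        · exact h'
      · rw [inv_mul_cancel_left] at h
        exact absurd h ha2n
    have hxa2 : x⁻¹ * a2 * x = a2 * a1 := by
      calc x⁻¹ * a2 * x = a2 * (a2⁻¹ * x⁻¹ * a2 * x) := by group
        _ = a2 * a1 := by rw [hx]
    have hxx : x * x ∈ W := by
      rw [hmemW]
      refine ⟨?_, ?_⟩
      · rw [hmemT2, hφmul, hx, ha1sq]
      · rw [cm_mul]
        have hd := hψZ x
        rcases hcos2 _ hd with h | h
        · have := hcen _ h x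
          rw [mul_assoc x⁻¹, this, ← mul_assoc x⁻¹, inv_mul_cancel, one_mul]
          exact hZ1sq _ h
        · -- d = a2 * e with e central
          obtain ⟨e, he⟩ : ∃ e : T, e = a2⁻¹ * (a3⁻¹ * x⁻¹ * a3 * x) := ⟨_, rfl⟩
          rw [← he] at h
          have hd' : a3⁻¹ * x⁻¹ * a3 * x = a2 * e := by rw [he]; group
          rw [hd']
          have hex := hcen _ h x
          have hea := hcen _ h a2
          have hea1 := hcen _ h a1
          calc a2 * e * (x⁻¹ * (a2 * e) * x)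
              = a2 * e * ((x⁻¹ * a2 * x) * (x⁻¹ * (e * x))) := by group
            _ = a2 * e * ((a2 * a1) * (x⁻¹ * (x * e))) := by rw [hxa2, hex]
            _ = a2 * (e * a2) * a1 * e := by group
            _ = a2 * (a2 * e) * a1 * e := by rw [hea]
            _ = (a2 * a2) * (e * a1) * e := by group
            _ = a1 * (a1 * e) * e := by rw [h22', hea1]
            _ = (a1 * a1) * (e * e) := by group
            _ = 1 := by rw [ha1sq, hZ1sq _ h, mul_one]
    apply Cfsg.Agent.Lib.Helper6.SimAut.dihedral_of_card_eight hcard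
      ⟨_, _, hncQ⟩ (QuotientGroup.mk z : T ⧸ W) (QuotientGroup.mk x : T ⧸ W)
    · intro h
      rw [QuotientGroup.eq] at h
      apply hxT2
      have := T2.mul_mem hzT2 (hWT2 h)
      rwa [mul_inv_cancel_left] at this
    · intro h
      exact hzW ((QuotientGroup.eq_one_iff z).mp h)
    · intro h
      exact hxW ((QuotientGroup.eq_one_iff x).mp h)
    · rw [← QuotientGroup.mk_mul, QuotientGroup.eq_one_iff]
      exact hzz
    · rw [← QuotientGroup.mk_mul, QuotientGroup.eq_one_iff]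
      exact hxx

end mainG

end Cfsg.Agent.Lib.Helper1.RU3
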