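import Mathlib
import Cfsg.Agent.Lib.Helper14.RU0
import Cfsg.Agent.Lib.Helper14.RU1
import Cfsg.Agent.Lib.Helper24.RUB8
import Cfsg.Agent.Lib.Helper24.RUB10
import Cfsg.Agent.Lib.Helper23.RUB9

/-!
# S2281, piece B11: closure in the "large field" case
-/

set_option autoImplicit false

namespace Cfsg.Agent.Lib.Helper1.RU

open Matrix Cfsg.Agent.Lib.Helper6 Cfsg.Agent.Lib.Helper9.SpGen Cfsg.Agent.Lib.Helper14
  Cfsg.Agent.Lib.Helper14.RU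

section common
variable {k : ℕ} {F : Type*} [Field F]

local notation "ff" => Cfsg.sympForm (k + 2) F
local notation "VV" => (Fin (k + 2) ⊕ Fin (k + 2) → F)
local notation "GG" => Matrix.symplecticGroup (Fin (k + 2)) F

theorem act_uh_e_zero' (t : F) : act (uh k t) (e 0 : VV) = (e 0 : VV) + (e 1 : VV) :=
  act_uh_e_castSucc (k := k) t (0 : Fin (k + 1))

/-- the common first part: `e 0`, `e 0 + e 1`, `a1`, `a2` lie in `Xs H` -/
theorem np_start (H : Subgroup GG) (l s : F) (hl2 : l ^ 2 ≠ 1) (hs : s ≠ 0)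
    (hgen : ∀ A : AddSubgroup F, (∃ a ∈ A, a ≠ 0) → (∀ a ∈ A, l ^ 2 * a ∈ A) → A = ⊤)
    (u2 : GG) (hu : uh k s ∈ H) (hu' : uh k (l ^ 2 * s) ∈ H) (hu2 : u2 ∈ H)
    (P1 : act u2 (e 0 : VV) = l • ((e 0 : VV) + (e 1 : VV)))
    (P2 : act u2 ((e 0 : VV) + (e 1 : VV)) =
      (2 - l⁻¹) • (e 0 : VV) + (2 : F) • (e 1 : VV) + (s / l) • ((f 0 : VV) - (f 1 : VV)))
    (P3 : act u2⁻¹ (e 0 : VV) = (2 - l) • (e 0 : VV) - l • (e 1 : VV) - (s / l) • (f 1 : VV)) :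
    (e 0 : VV) ∈ Xs H ∧ (e 0 : VV) + (e 1 : VV) ∈ Xs H ∧
    (2 - l⁻¹) • (e 0 : VV) + (2 : F) • (e 1 : VV) + (s / l) • ((f 0 : VV) - (f 1 : VV)) ∈ Xs H ∧
    (2 - l) • (e 0 : VV) - l • (e 1 : VV) - (s / l) • (f 1 : VV) ∈ Xs H := by
  have hT : T (e 0 : VV) ((l ^ 2 - 1) * s) ∈ H := by
    have h1 : uh k (l ^ 2 * s) = uh k s * T (e 0 : VV) ((l ^ 2 - 1) * s) := by
      unfold uh
      rw [mul_assoc, T_add]
      congr 2
      ring
    have h2 : T (e 0 : VV) ((l ^ 2 - 1) * s) = (uh k s)⁻¹ * uh k (l ^ 2 * s) := by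
      rw [h1]
      group
    rw [h2]
    exact H.mul_mem (H.inv_mem hu) hu'
  have ha : (l ^ 2 - 1) * s ≠ 0 := mul_ne_zero (sub_ne_zero.mpr hl2) hs
  have hh : (uh k s)⁻¹ * u2 ∈ H := H.mul_mem (H.inv_mem hu) hu2
  have hv : act ((uh k s)⁻¹ * u2) (e 0 : VV) = l • (e 0 : VV) := by
    rw [act_mul, P1, act_smul, ← act_uh_e_zero' s, act_inv_act]
  have he0 : (e 0 : VV) ∈ Xs H := eigen_trick H l hgen (e 0) _ hh hv _ ha hT
  have he01 : (e 0 : VV) + (e 1 : VV) ∈ Xs H := by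
    rw [← act_uh_e_zero' s]
    exact Xs_act hu he0
  refine ⟨he0, he01, ?_, ?_⟩
  · rw [← P2]
    exact Xs_act hu2 he01
  · rw [← P3]
    exact Xs_act_inv hu2 he0

end common

section odd
variable {k : ℕ} {F : Type*} [Field F]

local notation "ff" => Cfsg.sympForm (k + 2) F
local notation "VV" => (Fin (k + 2) ⊕ Fin (k + 2) → F)
local notation "GG" => Matrix.symplecticGroup (Fin (k + 2)) F

theorem closure_NP_odd (hF : ∃ a b : F, a ≠ 0 ∧ b ≠ 0 ∧ a ≠ b) (h2 : (2 : F) ≠ 0)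
    (H : Subgroup GG) (l s : F) (hl : l ≠ 0) (hl2 : l ^ 2 ≠ 1) (hs : s ≠ 0)
    (hgen : ∀ A : AddSubgroup F, (∃ a ∈ A, a ≠ 0) → (∀ a ∈ A, l ^ 2 * a ∈ A) → A = ⊤)
    (u2 : GG) (hu : uh k s ∈ H) (hu' : uh k (l ^ 2 * s) ∈ H) (hu2 : u2 ∈ H)
    (P1 : act u2 (e 0 : VV) = l • ((e 0 : VV) + (e 1 : VV)))
    (P2 : act u2 ((e 0 : VV) + (e 1 : VV)) =
      (2 - l⁻¹) • (e 0 : VV) + (2 : F) • (e 1 : VV) + (s / l) • ((f 0 : VV) - (f 1 : VV)))
    (P3 : act u2⁻¹ (e 0 : VV) = (2 - l) • (e 0 : VV) - l • (e 1 : VV) - (s / l) • (f 1 : VV))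
    (P5 : ∀ h2 : 2 < k + 2, act u2 (f 0 : VV) =
      (2 - l) • (f 0 : VV) + ((1 - l) ^ 2 / l) • (f 1 : VV) + (f ⟨2, h2⟩ : VV))
    (P7 : ∀ i : Fin (k + 1), 2 ≤ i.val → act u2 (f i.castSucc : VV) =
      (f i.castSucc : VV) + (f i.succ : VV)) : H = ⊤ := by
  obtain ⟨he0, he01, ha1, ha2⟩ := np_start H l s hl2 hs hgen u2 hu hu' hu2 P1 P2 P3
  have hc : s / l ≠ 0 := div_ne_zero hs hl
  have hE : ∀ i : Fin (k + 1), (e i.castSucc : VV) ∈ Xs H →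
      (e i.castSucc : VV) + (e i.succ : VV) ∈ Xs H := by
    intro i hi
    rw [← act_uh_e_castSucc s i]
    exact Xs_act hu hi
  have hFm : ∀ i : Fin (k + 1), 2 ≤ i.val → (f i.castSucc : VV) ∈ Xs H →
      (f i.castSucc : VV) + (f i.succ : VV) ∈ Xs H := by
    intro i hi hfi
    rw [← P7 i hi]
    exact Xs_act hu2 hfi
  have hW2 := Cfsg.Agent.Lib.Helper24.RU.np_base_odd hF h2 (Xs H) (Xs_hyp H) (Xs_smul H) l (s / l)
    hl hc he0 he01 ha1 ha2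
  have hf0W : (f 0 : VV) ∈ Wk (k + 2) F 2 := f_mem_Wk 0 (by simp)
  have hf1W : (f 1 : VV) ∈ Wk (k + 2) F 2 := f_mem_Wk 1 (by
    show (1 : Fin (k + 2)).val < 2
    rw [Fin.val_one]
    omega)
  have hF0 : ∀ h2' : 2 < k + 2, ∃ w' ∈ Wk (k + 2) F 2, w' + (f ⟨2, h2'⟩ : VV) ∈ Xs H := by
    intro h2'
    refine ⟨(2 - l) • (f 0 : VV) + ((1 - l) ^ 2 / l) • (f 1 : VV), ?_, ?_⟩
    · exact (Wk _ F 2).add_mem ((Wk _ F 2).smul_mem _ hf0W) ((Wk _ F 2).smul_mem _ hf1W)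
    · rw [← P5 h2']
      exact Xs_act hu2 (hW2 (f 0) hf0W (f_ne_zero 0))
  exact eq_top_of_Xs H
    (Cfsg.Agent.Lib.Helper24.RU.np_induct hF (Xs H) (Xs_hyp H) (Xs_smul H) hE hFm hF0 2 le_rfl hW2)

end odd

section even
variable {k : ℕ} {F : Type*} [Field F]

local notation "ff" => Cfsg.sympForm (k + 3) F
local notation "VV" => (Fin (k + 3) ⊕ Fin (k + 3) → F)
local notation "GG" => Matrix.symplecticGroup (Fin (k + 3)) F

theorem closure_NP_even (hF : ∃ a b : F, a ≠ 0 ∧ b ≠ 0 ∧ a ≠ b) (h2 : (2 : F) = 0)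
    (H : Subgroup GG) (l s : F) (hl : l ≠ 0) (hl2 : l ^ 2 ≠ 1) (hs : s ≠ 0)
    (hgen : ∀ A : AddSubgroup F, (∃ a ∈ A, a ≠ 0) → (∀ a ∈ A, l ^ 2 * a ∈ A) → A = ⊤)
    (u2 : GG) (hu : uh (k + 1) s ∈ H) (hu' : uh (k + 1) (l ^ 2 * s) ∈ H) (hu2 : u2 ∈ H)
    (P1 : act u2 (e 0 : VV) = l • ((e 0 : VV) + (e 1 : VV)))
    (P2 : act u2 ((e 0 : VV) + (e 1 : VV)) =
      (2 - l⁻¹) • (e 0 : VV) + (2 : F) • (e 1 : VV) + (s / l) • ((f 0 : VV) - (f 1 : VV)))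
    (P3 : act u2⁻¹ (e 0 : VV) = (2 - l) • (e 0 : VV) - l • (e 1 : VV) - (s / l) • (f 1 : VV))
    (P6 : act u2 (f 1 : VV) = (-l) • ((f 0 : VV) - (f 1 : VV)))
    (P5 : ∀ h2 : 2 < k + 3, act u2 (f 0 : VV) =
      (2 - l) • (f 0 : VV) + ((1 - l) ^ 2 / l) • (f 1 : VV) + (f ⟨2, h2⟩ : VV))
    (P7 : ∀ i : Fin (k + 2), 2 ≤ i.val → act u2 (f i.castSucc : VV) =
      (f i.castSucc : VV) + (f i.succ : VV)) : H = ⊤ := by
  obtain ⟨he0, he01, ha1, ha2⟩ :=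
    np_start (k := k + 1) H l s hl2 hs hgen u2 hu hu' hu2 P1 P2 P3
  have hc : s / l ≠ 0 := div_ne_zero hs hl
  have hneg : ∀ v : VV, -v = v := by
    intro v
    have h : (2 : F) • v = 0 := by rw [h2, zero_smul]
    rw [two_smul] at h
    exact neg_eq_of_add_eq_zero_right h
  have hE : ∀ i : Fin (k + 2), (e i.castSucc : VV) ∈ Xs H →
      (e i.castSucc : VV) + (e i.succ : VV) ∈ Xs H := by
    intro i hi
    rw [← act_uh_e_castSucc (k := k + 1) s i]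
    exact Xs_act hu hi
  have hFm : ∀ i : Fin (k + 2), 2 ≤ i.val → (f i.castSucc : VV) ∈ Xs H →
      (f i.castSucc : VV) + (f i.succ : VV) ∈ Xs H := by
    intro i hi hfi
    rw [← P7 i hi]
    exact Xs_act hu2 hfi
  -- `b = f 0 + f 1`
  have hb : (f 0 : VV) + (f 1 : VV) ∈ Xs H := by
    have hne : ff ((2 - l⁻¹) • (e 0 : VV) + (2 : F) • (e 1 : VV) +
        (s / l) • ((f 0 : VV) - (f 1 : VV))) (e 0 : VV) ≠ 0 := by
      rw [form_e_right]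
      have h10 : (0 : Fin (k + 3)) ≠ 1 := by
        intro h
        have := congrArg Fin.val h
        simp at this
      simp only [Pi.add_apply, Pi.smul_apply, Pi.sub_apply, smul_eq_mul, e_inr, f_inr, if_true,
        if_neg h10, mul_zero, zero_add, sub_zero, mul_one]
      exact hc
    have h4 := Xs_hyp H _ _ ha1 he0 hne (-(2 - l⁻¹))
    have h5 : (2 - l⁻¹) • (e 0 : VV) + (2 : F) • (e 1 : VV) + (s / l) • ((f 0 : VV) - (f 1 : VV)) +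
        (-(2 - l⁻¹)) • (e 0 : VV) = (2 : F) • (e 1 : VV) + (s / l) • ((f 0 : VV) - (f 1 : VV)) := by
      module
    rw [h5, h2, zero_smul, zero_add, sub_eq_add_neg, hneg] at h4
    have h6 := Xs_smul H _ h4 ((s / l)⁻¹) (inv_ne_zero hc)
    rw [smul_smul, inv_mul_cancel₀ hc, one_smul] at h6
    exact h6
  -- `f 1`
  have hf1 : (f 1 : VV) ∈ Xs H := by
    have hne : ff ((2 - l) • (e 0 : VV) - l • (e 1 : VV) - (s / l) • (f 1 : VV))
        ((e 0 : VV) + (e 1 : VV)) ≠ 0 := by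
      rw [sympForm_add_right, form_e_right, form_e_right]
      have h10 : (0 : Fin (k + 3)) ≠ 1 := by
        intro h
        have := congrArg Fin.val h
        simp at this
      simp only [Pi.sub_apply, Pi.smul_apply, smul_eq_mul, e_inr, f_inr, if_true,
        if_neg h10, mul_zero, sub_zero, mul_one, zero_sub, zero_add]
      exact neg_ne_zero.mpr hc
    have h4 := Xs_hyp H _ _ ha2 he01 hne l
    have h5 : (2 - l) • (e 0 : VV) - l • (e 1 : VV) - (s / l) • (f 1 : VV) +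
        l • ((e 0 : VV) + (e 1 : VV)) = (2 : F) • (e 0 : VV) + (-(s / l)) • (f 1 : VV) := by
      module
    rw [h5, h2, zero_smul, zero_add] at h4
    have h6 := Xs_smul H _ h4 ((-(s / l))⁻¹) (inv_ne_zero (neg_ne_zero.mpr hc))
    rw [smul_smul, inv_mul_cancel₀ (neg_ne_zero.mpr hc), one_smul] at h6
    exact h6
  -- `e 0 + e 2`
  have h02 : (e 0 : VV) + (e 2 : VV) ∈ Xs H := by
    have h1 : act (uh (k + 1) s) ((e 0 : VV) + (e 1 : VV)) = (e 0 : VV) + (e 2 : VV) := by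
      rw [act_add, act_uh_e_zero' (k := k + 1) s]
      have h := act_uh_e_castSucc (k := k + 1) s (1 : Fin (k + 2))
      have c1 : (Fin.castSucc (1 : Fin (k + 2))) = (1 : Fin (k + 3)) := rfl
      have c2 : (Fin.succ (1 : Fin (k + 2))) = (2 : Fin (k + 3)) := rfl
      rw [c1, c2] at h
      rw [h]
      have h3 : (e 0 : VV) + (e 1 : VV) + ((e 1 : VV) + (e 2 : VV))
          = (e 0 : VV) + (2 : F) • (e 1 : VV) + (e 2 : VV) := by
        module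
      rw [h3, h2, zero_smul, add_zero]
    rw [← h1]
    exact Xs_act hu he01
  -- `w2 = f 2 + l⁻¹ f 1`
  have hw2 : (f 2 : VV) + l⁻¹ • (f 1 : VV) ∈ Xs H := by
    have h2' : 2 < k + 3 := by omega
    have hf2 : (f ⟨2, h2'⟩ : VV) = (f 2 : VV) := by
      congr 1
    have h1 : act u2 ((f 0 : VV) + (f 1 : VV)) = (f 2 : VV) + l⁻¹ • (f 1 : VV) := by
      rw [act_add, P5 h2', P6, hf2]
      have h3 : (2 - l) • (f 0 : VV) + ((1 - l) ^ 2 / l) • (f 1 : VV) + (f 2 : VV) +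
          (-l) • ((f 0 : VV) - (f 1 : VV))
          = (f 2 : VV) + l⁻¹ • (f 1 : VV) + ((2 : F) * (1 - l)) • (f 0 : VV)
            + ((2 : F) * (l - 1)) • (f 1 : VV) := by
        have hl' : (1 - l) ^ 2 / l = l⁻¹ + 2 * (l - 1) - l := by
          field_simp
          ring
        rw [hl']
        module
      rw [h3, h2]
      simp only [zero_mul, zero_smul, add_zero]
    rw [← h1]
    exact Xs_act hu2 hb
  have hW3 := Cfsg.Agent.Lib.Helper23.RU.np_base_even (k := k) hF h2 (Xs H) (Xs_hyp H) (Xs_smul H)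
    l hl he0 hb h02 hw2 he01 hf1
  have hf0W : (f 0 : VV) ∈ Wk (k + 3) F 2 := f_mem_Wk 0 (by simp)
  have hf1W : (f 1 : VV) ∈ Wk (k + 3) F 2 := f_mem_Wk 1 (by
    show (1 : Fin (k + 3)).val < 2
    rw [Fin.val_one]
    omega)
  have hf0W3 : (f 0 : VV) ∈ Wk (k + 3) F 3 := f_mem_Wk 0 (by simp)
  have hF0 : ∀ h2' : 2 < k + 1 + 2, ∃ w' ∈ Wk (k + 1 + 2) F 2, w' + (f ⟨2, h2'⟩ : VV) ∈ Xs H := by
    intro h2'
    refine ⟨(2 - l) • (f 0 : VV) + ((1 - l) ^ 2 / l) • (f 1 : VV), ?_, ?_⟩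
    · exact (Wk _ F 2).add_mem ((Wk _ F 2).smul_mem _ hf0W) ((Wk _ F 2).smul_mem _ hf1W)
    · rw [← P5 h2']
      exact Xs_act hu2 (hW3 (f 0) hf0W3 (f_ne_zero 0))
  exact eq_top_of_Xs H
    (Cfsg.Agent.Lib.Helper24.RU.np_induct (k := k + 1) hF (Xs H) (Xs_hyp H) (Xs_smul H) hE hFm hF0 3
      (by omega) hW3)

end even

section main
variable {k : ℕ} {F : Type*} [Field F]

local notation "ff" => Cfsg.sympForm (k + 2) F
local notation "VV" => (Fin (k + 2) ⊕ Fin (k + 2) → F)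
local notation "GG" => Matrix.symplecticGroup (Fin (k + 2)) F

/-- B11.  closure in the "large field" case. -/
theorem closure_NP (hF : ∃ a b : F, a ≠ 0 ∧ b ≠ 0 ∧ a ≠ b) (hk : (2 : F) ≠ 0 ∨ 1 ≤ k)
    (H : Subgroup GG) (l s : F) (hl : l ≠ 0) (hl2 : l ^ 2 ≠ 1) (hs : s ≠ 0)
    (hgen : ∀ A : AddSubgroup F, (∃ a ∈ A, a ≠ 0) → (∀ a ∈ A, l ^ 2 * a ∈ A) → A = ⊤)
    (u2 : GG) (hu : uh k s ∈ H) (hu' : uh k (l ^ 2 * s) ∈ H) (hu2 : u2 ∈ H)
    (P1 : act u2 (e 0 : VV) = l • ((e 0 : VV) + (e 1 : VV)))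
    (P2 : act u2 ((e 0 : VV) + (e 1 : VV)) =
      (2 - l⁻¹) • (e 0 : VV) + (2 : F) • (e 1 : VV) + (s / l) • ((f 0 : VV) - (f 1 : VV)))
    (P3 : act u2⁻¹ (e 0 : VV) = (2 - l) • (e 0 : VV) - l • (e 1 : VV) - (s / l) • (f 1 : VV))
    (P6 : act u2 (f 1 : VV) = (-l) • ((f 0 : VV) - (f 1 : VV)))
    (P5 : ∀ h2 : 2 < k + 2, act u2 (f 0 : VV) =
      (2 - l) • (f 0 : VV) + ((1 - l) ^ 2 / l) • (f 1 : VV) + (f ⟨2, h2⟩ : VV))
    (P7 : ∀ i : Fin (k + 1), 2 ≤ i.val → act u2 (f i.castSucc : VV) =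
      (f i.castSucc : VV) + (f i.succ : VV)) : H = ⊤ := by
  by_cases h2 : (2 : F) = 0
  · have hk1 : 1 ≤ k := by
      rcases hk with h | h
      · exact absurd h2 h
      · exact h
    obtain ⟨k', rfl⟩ : ∃ k', k = k' + 1 := ⟨k - 1, by omega⟩
    exact closure_NP_even (k := k') hF h2 H l s hl hl2 hs hgen u2 hu hu' hu2 P1 P2 P3 P6 P5 P7
  · exact closure_NP_odd hF h2 H l s hl hl2 hs hgen u2 hu hu' hu2 P1 P2 P3 P5 P7

end main

end Cfsg.Agent.Lib.Helper1.RU
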