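import Mathlib
import Cfsg.Agent.Lib.Helper14.RU0
import Cfsg.Agent.Lib.Helper14.RU1

/-!
# S2281, piece B6: closure in the "prime field" case

A subgroup of `Sp_{2(k+2)}(F)` containing the regular unipotent `uh k s`, its opposite `ulow k s`
and all transvections with centre `e last` is everything.
-/

set_option autoImplicit false

namespace Cfsg.Agent.Lib.Helper1.RU

open Matrix Cfsg.Agent.Lib.Helper6 Cfsg.Agent.Lib.Helper9.SpGen Cfsg.Agent.Lib.Helper14
  Cfsg.Agent.Lib.Helper14.RU

section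
variable {k : ℕ} {F : Type*} [Field F]

local notation "ff" => Cfsg.sympForm (k + 2) F
local notation "VV" => (Fin (k + 2) ⊕ Fin (k + 2) → F)
local notation "GG" => Matrix.symplecticGroup (Fin (k + 2)) F

/-- the alternating sum of the `e i` -/
def zalt (k : ℕ) (F : Type*) [Field F] : Fin (k + 2) ⊕ Fin (k + 2) → F
  | Sum.inl i => (-1) ^ i.val
  | Sum.inr _ => 0

/-- the alternating sum of the `f i` -/
def zalt' (k : ℕ) (F : Type*) [Field F] : Fin (k + 2) ⊕ Fin (k + 2) → F
  | Sum.inl _ => 0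
  | Sum.inr i => (-1) ^ i.val

theorem act_dA_zalt : act (dA k F) (zalt k F) = (e 0 : VV) := by
  funext c
  rcases c with i | i
  · rw [act_dA_inl, e_inl]
    by_cases h : 0 < i.val
    · rw [dif_pos h]
      have hi : i ≠ 0 := by
        intro hh
        rw [hh] at h
        simp at h
      rw [if_neg hi]
      show (-1 : F) ^ i.val + (-1 : F) ^ (i.val - 1) = 0
      obtain ⟨j, hj⟩ : ∃ j, i.val = j + 1 := ⟨i.val - 1, by omega⟩
      rw [hj, pow_succ]
      simp
    · rw [dif_neg h, add_zero]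
      have hi : i = 0 := by
        apply Fin.ext
        simp only [Fin.val_zero]
        omega
      rw [if_pos hi, hi]
      show (-1 : F) ^ (0 : Fin (k + 2)).val = 1
      simp
  · rw [act_dA_inr_of_inr_zero _ (fun _ => rfl), e_inr]

theorem act_Jg_zalt' : act (Jg k F) (zalt' k F) = - zalt k F := by
  funext c
  rcases c with i | i
  · rw [act_Jg_inl]
    rfl
  · rw [act_Jg_inr]
    show (0 : F) = - 0
    simp

theorem act_dA_inv_zalt' :
    act (dA k F)⁻¹ (zalt' k F) = ((-1 : F) ^ (k + 1)) • (f (Fin.last (k + 1)) : VV) := by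
  funext c
  rcases c with i | i
  · rw [act_dA_inv_inl_of_inl_zero _ (fun _ => rfl)]
    simp only [Pi.smul_apply, f_inl, smul_eq_mul, mul_zero]
  · rw [act_dA_inv_inr]
    simp only [Pi.smul_apply, f_inr, smul_eq_mul]
    by_cases h : i.val + 1 < k + 2
    · rw [dif_pos h]
      have hi : i ≠ Fin.last (k + 1) := by
        intro hh
        rw [hh] at h
        simp at h
      rw [if_neg hi, mul_zero]
      show (-1 : F) ^ i.val + (-1 : F) ^ (i.val + 1) = 0
      rw [pow_succ]
      simp
    · rw [dif_neg h, add_zero]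
      have hi : i = Fin.last (k + 1) := by
        apply Fin.ext
        simp only [Fin.val_last]
        have := i.isLt
        omega
      rw [if_pos hi, mul_one, hi]
      rfl

theorem act_Dlow_inv_zalt :
    act (Dlow k F)⁻¹ (zalt k F) = ((-1 : F) ^ (k + 1)) • (e (Fin.last (k + 1)) : VV) := by
  have h1 : act (Jg k F)⁻¹ (zalt k F) = - zalt' k F := by
    have h := act_Jg_zalt' (k := k) (F := F)
    have h2 : act (Jg k F) (- zalt' k F) = zalt k F := by rw [act_neg, h, neg_neg]
    rw [← h2, act_inv_act]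
  rw [Dlow_inv, act_mul, act_mul, h1, act_neg, act_dA_inv_zalt', act_neg, act_smul, act_Jg_f]
  simp

theorem act_Dlow_e_last :
    act (Dlow k F) (e (Fin.last (k + 1)) : VV) = ((-1 : F) ^ (k + 1)) • zalt k F := by
  have h := act_Dlow_inv_zalt (k := k) (F := F)
  have h2 := congrArg (act (Dlow k F)) h
  rw [act_act_inv, act_smul] at h2
  have h3 : ((-1 : F) ^ (k + 1)) • zalt k F
      = ((-1 : F) ^ (k + 1)) • (((-1 : F) ^ (k + 1)) • act (Dlow k F) (e (Fin.last (k + 1)) : VV)) := by
    rw [← h2]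
  rw [h3, smul_smul, ← pow_add, ← two_mul, pow_mul]
  simp

theorem act_Dlow_e_zero : act (Dlow k F) (e 0 : VV) = (e 0 : VV) := by
  have h := act_Dlow_inv_e_zero (k := k) (F := F)
  have h2 := congrArg (act (Dlow k F)) h
  rw [act_act_inv] at h2
  exact h2.symm

theorem act_Dlow_e_add (j : Fin (k + 1)) :
    act (Dlow k F) ((e j.castSucc : VV) + (e j.succ : VV)) = (e j.succ : VV) := by
  have h := act_Dlow_inv_e_succ (k := k) (F := F) j
  have h2 := congrArg (act (Dlow k F)) h
  rw [act_act_inv] at h2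
  rw [add_comm (e j.castSucc : VV)]
  exact h2.symm

theorem act_dA_f_add (j : Fin (k + 1)) :
    act (dA k F) ((f j.castSucc : VV) + (f j.succ : VV)) = (f j.succ : VV) := by
  have h := act_dA_inv_f_succ (k := k) (F := F) j
  have h2 := congrArg (act (dA k F)) h
  rw [act_act_inv] at h2
  rw [add_comm (f j.castSucc : VV)]
  exact h2.symm

/-- B6.  closure in the "prime field" case. -/
theorem closure_P (H : Subgroup GG) (s : F) (hs : s ≠ 0) (hu : uh k s ∈ H) (hl : ulow k s ∈ H)
    (hX : (e (Fin.last (k + 1)) : VV) ∈ Xs H) : H = ⊤ := by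
  have hlast0 : (Fin.last (k + 1) : Fin (k + 2)) ≠ 0 := by
    intro h
    have := congrArg Fin.val h
    simp at this
  -- (i) `e 0 ∈ Xs H`
  have hz : zalt k F ∈ Xs H := by
    have h1 : act (ulow k s) (e (Fin.last (k + 1)) : VV) = ((-1 : F) ^ (k + 1)) • zalt k F := by
      rw [ulow_eq, act_mul, act_T]
      have h0 : ff (e (Fin.last (k + 1)) : VV) (f 0 : VV) = 0 := by
        rw [form_f_right, e_inl, if_neg hlast0.symm, neg_zero]
      rw [h0, mul_zero, zero_smul, add_zero, act_Dlow_e_last]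
    have h2 := Xs_act hl hX
    rw [h1] at h2
    have h3 := Xs_smul H _ h2 ((-1 : F) ^ (k + 1)) (pow_ne_zero _ (neg_ne_zero.mpr one_ne_zero))
    rw [smul_smul, ← pow_add, ← two_mul, pow_mul] at h3
    simpa using h3
  have he0 : (e 0 : VV) ∈ Xs H := by
    have h1 : act (uh k s) (zalt k F) = (e 0 : VV) := by
      unfold uh
      rw [act_mul, act_T]
      have h0 : ff (zalt k F) (e 0 : VV) = 0 := by
        rw [form_e_right]
        rfl
      rw [h0, mul_zero, zero_smul, add_zero, act_dA_zalt]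
    rw [← h1]
    exact Xs_act hu hz
  -- (ii) `dA ∈ H`
  have hdA : dA k F ∈ H := by
    have h1 : dA k F = uh k s * (T (e 0 : VV) s)⁻¹ := by
      unfold uh
      group
    rw [h1]
    exact H.mul_mem hu (H.inv_mem (he0 s))
  -- (iii) `b = f 0 + f 1 ∈ Xs H`
  have hDf0 : act (Dlow k F) (f 0 : VV) = (f 0 : VV) + (f 1 : VV) :=
    act_Dlow_f_castSucc (k := k) (F := F) 0
  have hb : (f 0 : VV) + (f 1 : VV) ∈ Xs H := by
    have h1 : act (ulow k s) (e 0 : VV) = (e 0 : VV) + (-s) • ((f 0 : VV) + (f 1 : VV)) := by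
      rw [ulow_eq, act_mul, act_T]
      have h0 : ff (e 0 : VV) (f 0 : VV) = -1 := by
        rw [form_f_right, e_inl, if_pos rfl]
      rw [h0, act_add, act_smul, act_Dlow_e_zero, hDf0]
      congr 2
      ring
    have h2 : act (ulow k s) (e 0 : VV) ∈ Xs H := Xs_act hl he0
    have h3 : ff (act (ulow k s) (e 0 : VV)) (e 0 : VV) ≠ 0 := by
      rw [h1, sympForm_add_left, sympForm_self, zero_add, sympForm_smul_left, sympForm_add_left,
        form_e_right, form_e_right, f_inr, f_inr, if_pos rfl]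
      have h10 : (0 : Fin (k + 2)) ≠ 1 := by
        intro h
        have := congrArg Fin.val h
        simp at this
      rw [if_neg h10, add_zero, mul_one]
      exact neg_ne_zero.mpr hs
    have h4 := Xs_hyp H _ _ h2 he0 h3 (-1)
    rw [h1] at h4
    have h5 : (e 0 : VV) + (-s) • ((f 0 : VV) + (f 1 : VV)) + (-1 : F) • (e 0 : VV)
        = (-s) • ((f 0 : VV) + (f 1 : VV)) := by
      rw [neg_one_smul]
      abel
    rw [h5] at h4
    have h6 := Xs_smul H _ h4 ((-s)⁻¹) (inv_ne_zero (neg_ne_zero.mpr hs))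
    rw [smul_smul, inv_mul_cancel₀ (neg_ne_zero.mpr hs), one_smul] at h6
    exact h6
  -- (iv) `Dlow ∈ H`, `f 0 ∈ Xs H`
  have hDlow : Dlow k F ∈ H := by
    have h1 : ulow k s = T ((f 0 : VV) + (f 1 : VV)) s * Dlow k F := by
      rw [ulow_eq, ← hDf0, ← conj_T]
      group
    have h2 : Dlow k F = (T ((f 0 : VV) + (f 1 : VV)) s)⁻¹ * ulow k s := by
      rw [h1]
      group
    rw [h2]
    exact H.mul_mem (H.inv_mem (hb s)) hl
  have hf0 : (f 0 : VV) ∈ Xs H := by
    have h1 : act (Dlow k F)⁻¹ ((f 0 : VV) + (f 1 : VV)) = (f 0 : VV) := by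
      rw [← hDf0, act_inv_act]
    rw [← h1]
    exact Xs_act_inv hDlow hb
  -- (v) all `e i`, `f i`
  have He : ∀ i : Fin (k + 2), (e i : VV) ∈ Xs H := by
    intro i
    induction i using Fin.induction with
    | zero => exact he0
    | succ j ih =>
      rw [← act_Dlow_e_add, ← act_dA_e_castSucc]
      exact Xs_act hDlow (Xs_act hdA ih)
  have Hf : ∀ i : Fin (k + 2), (f i : VV) ∈ Xs H := by
    intro i
    induction i using Fin.induction with
    | zero => exact hf0
    | succ j ih =>
      rw [← act_dA_f_add, ← act_Dlow_f_castSucc]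
      exact Xs_act hdA (Xs_act hDlow ih)
  -- (vi) links
  have H4 : ∀ i j : Fin (k + 2), j.val + 1 = i.val →
      ∃ s : F, s ≠ 0 ∧ (e i : VV) + s • (e j : VV) ∈ Xs H := by
    intro i j hij
    refine ⟨1, one_ne_zero, ?_⟩
    have hjlt : j.val < k + 1 := by
      have := i.isLt
      omega
    have hj : j = (⟨j.val, hjlt⟩ : Fin (k + 1)).castSucc := rfl
    have hi : i = (⟨j.val, hjlt⟩ : Fin (k + 1)).succ := by
      apply Fin.ext
      simp only [Fin.val_succ]
      omega
    have h1 := Xs_act hdA (He j)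
    rw [hj, act_dA_e_castSucc, ← hi, ← hj] at h1
    rw [one_smul, add_comm (e i : VV)]
    exact h1
  -- (vii)
  exact eq_top_of_Xs H
    (closure_lemma (Xs H) (Xs_hyp H) (Xs_smul H) (fun i => ⟨He i, Hf i⟩) H4)

end

end Cfsg.Agent.Lib.Helper1.RU
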