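import Mathlib

set_option autoImplicit false

/-! Fixed-point chain step for S3174 (blueprint I.5 / I.7): for a finite commutative group of
exponent two with an involutive automorphism `σ`, `|M| ≤ |C_M(σ)|^2`, with equality only if every
fixed point is of the form `m⁻¹ σ(m)`; and the version internal to a group `T`. -/

namespace Cfsg.Agent.Lib.Helper1.RUChain

/-- abstract step -/
theorem abs_step {M : Type*} [CommGroup M] [Finite M] (hexp : ∀ m : M, m * m = 1)
    (σ : M →* M) (hσ : ∀ m, σ (σ m) = m) :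
    ∃ K : Subgroup M, (∀ m, m ∈ K ↔ σ m = m) ∧ Nat.card M ≤ Nat.card K ^ 2 ∧
      (Nat.card M = Nat.card K ^ 2 → ∀ k ∈ K, ∃ m, m⁻¹ * σ m = k) := by
  have hinv : ∀ m : M, m⁻¹ = m := fun m => inv_eq_of_mul_eq_one_left (hexp m)
  let δ : M →* M :=
    { toFun := fun m => m⁻¹ * σ m
      map_one' := by simp
      map_mul' := by
        intro a b
        rw [map_mul, mul_inv]
        exact mul_mul_mul_comm _ _ _ _ }
  have hδ : ∀ m, δ m = m⁻¹ * σ m := fun _ => rfl
  have hker : ∀ m, m ∈ δ.ker ↔ σ m = m := by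
    intro m
    rw [MonoidHom.mem_ker, hδ]
    constructor
    · intro h
      have := eq_of_inv_mul_eq_one h
      exact this.symm
    · intro h
      rw [h, inv_mul_cancel]
  have hrange : δ.range ≤ δ.ker := by
    rintro _ ⟨m, rfl⟩
    rw [hker, hδ, map_mul, map_inv, hσ, hinv (σ m), hinv m, mul_comm]
  have hcard : Nat.card M = Nat.card δ.range * Nat.card δ.ker := by
    rw [← Subgroup.index_ker, Subgroup.index_mul_card]
  have hle : Nat.card δ.range ≤ Nat.card δ.ker := Subgroup.card_le_of_le hrange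
  refine ⟨δ.ker, hker, ?_, ?_⟩
  · rw [hcard, pow_two]
    exact Nat.mul_le_mul_right _ hle
  · intro heq k hk
    have hpos : 0 < Nat.card δ.ker := Nat.card_pos
    have h1 : Nat.card δ.range = Nat.card δ.ker := by
      rw [hcard, pow_two] at heq
      exact Nat.eq_of_mul_eq_mul_right hpos heq
    have h2 : δ.range = δ.ker := Subgroup.eq_of_le_of_card_ge hrange (le_of_eq h1.symm)
    have : k ∈ δ.range := by rw [h2]; exact hk
    obtain ⟨m, hm⟩ := this
    exact ⟨m, hm⟩

end Cfsg.Agent.Lib.Helper1.RUChain
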