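import Mathlib
import Cfsg.Agent.Lib.Helper12.RU4.Defs
import Cfsg.Agent.Lib.Helper1.RUChain

set_option autoImplicit false

/-! S3174 glue leaf G5 (blueprint I.7): the internal one-step lemma `|A||Z| ≤ |B|²` for
`B = {a ∈ A | [a,g] ∈ Z}` and the three equalities `image = kernel`. -/

namespace Cfsg.Agent.Lib.Helper1.RUG5

open Cfsg.Agent.Lib.Helper12.RU4

variable {T : Type*} [Group T]

theorem cm_mul_rt (a t u : T) : cm a (t * u) = cm a u * (u⁻¹ * cm a t * u) := by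
  simp only [cm]; group

theorem cm_cj_rt (a t y : T) : cm (t⁻¹ * a * t) y = t⁻¹ * cm a (t * y * t⁻¹) * t := by
  simp only [cm]; group

theorem conj_mem_of_normal {N : Subgroup T} (hN : N.Normal) {n : T} (hn : n ∈ N) (t : T) :
    t⁻¹ * n * t ∈ N := by
  have := hN.conj_mem n hn t⁻¹
  simpa using this

theorem cm_coset {Z S : Subgroup T} (hZ : Z.Normal) {w g : T}
    (hS : ∀ y ∈ S, cm w y ∈ Z) (hg : cm w g ∈ Z) (y : T) (hy : y ∈ S ∨ g⁻¹ * y ∈ S) :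
    cm w y ∈ Z := by
  rcases hy with hy | hy
  · exact hS y hy
  · have e : y = g * (g⁻¹ * y) := by group
    rw [e, cm_mul_rt]
    exact Z.mul_mem (hS _ hy) (conj_mem_of_normal hZ hg _)

theorem cent_conj {Z W S : Subgroup T} (hZ : Z.Normal) (hW : W.Normal) (hSn : S.Normal) {w : T}
    (hw : w ∈ W ∧ ∀ y ∈ S, cm w y ∈ Z) (t : T) :
    t⁻¹ * w * t ∈ W ∧ ∀ y ∈ S, cm (t⁻¹ * w * t) y ∈ Z := by
  refine ⟨conj_mem_of_normal hW hw.1 t, ?_⟩
  intro y hy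
  rw [cm_cj_rt]
  apply conj_mem_of_normal hZ
  apply hw.2
  exact hSn.conj_mem y hy t

variable [Finite T]

theorem step (Z A : Subgroup T) (g : T)
    (hZA : Z ≤ A)
    (hgA : ∀ a ∈ A, g⁻¹ * a * g ∈ A)
    (hgZ : ∀ c ∈ Z, g⁻¹ * c * g ∈ Z)
    (hcomm : ∀ u ∈ A, ∀ v ∈ A, cm u v ∈ Z)
    (hsq : ∀ a ∈ A, a * a ∈ Z)
    (hg2 : ∀ a ∈ A, cm a (g * g) ∈ Z) :
    ∃ B : Subgroup T, (∀ w, w ∈ B ↔ w ∈ A ∧ cm w g ∈ Z) ∧
      Nat.card A * Nat.card Z ≤ Nat.card B ^ 2 ∧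
      (Nat.card A * Nat.card Z = Nat.card B ^ 2 →
        ∀ b ∈ B, ∃ a ∈ A, (cm a g)⁻¹ * b ∈ Z) := by
  classical
  have hNn : (Z.subgroupOf A).Normal := by
    constructor
    intro n hn a
    rw [Subgroup.mem_subgroupOf] at hn ⊢
    have h1 : cm (n : T) (a : T)⁻¹ ∈ Z := hcomm _ n.2 _ (A.inv_mem a.2)
    have e : ((a * n * a⁻¹ : A) : T) = (n : T) * cm (n : T) (a : T)⁻¹ := by
      simp only [cm, Subgroup.coe_mul, InvMemClass.coe_inv]; group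
    rw [e]; exact Z.mul_mem hn h1
  have hmk : ∀ a b : A, (QuotientGroup.mk a : A ⧸ Z.subgroupOf A) = QuotientGroup.mk b ↔
      (a : T)⁻¹ * (b : T) ∈ Z := by
    intro a b
    rw [QuotientGroup.eq, Subgroup.mem_subgroupOf]
    simp only [Subgroup.coe_mul, InvMemClass.coe_inv]
  let _ : CommGroup (A ⧸ Z.subgroupOf A) :=
    { (inferInstance : Group (A ⧸ Z.subgroupOf A)) with
      mul_comm := by
        intro m1 m2
        induction m1 using QuotientGroup.induction_on with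
        | H a =>
          induction m2 using QuotientGroup.induction_on with
          | H b =>
            rw [← QuotientGroup.mk_mul, ← QuotientGroup.mk_mul, hmk]
            have h1 := hcomm _ b.2 _ a.2
            have e : ((a * b : A) : T)⁻¹ * ((b * a : A) : T) = cm (b : T) (a : T) := by
              simp only [cm, Subgroup.coe_mul]; group
            rw [e]; exact h1 }
  have hexp : ∀ m : A ⧸ Z.subgroupOf A, m * m = 1 := by
    intro m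
    induction m using QuotientGroup.induction_on with
    | H a =>
      rw [← QuotientGroup.mk_mul, QuotientGroup.eq_one_iff, Subgroup.mem_subgroupOf]
      exact hsq _ a.2
  let φ : A →* A :=
    { toFun := fun a => ⟨g⁻¹ * a * g, hgA a a.2⟩
      map_one' := by
        apply Subtype.ext
        show g⁻¹ * ((1 : A) : T) * g = ((1 : A) : T)
        simp
      map_mul' := by
        intro a b
        apply Subtype.ext
        show g⁻¹ * ((a * b : A) : T) * g = (g⁻¹ * (a : T) * g) * (g⁻¹ * (b : T) * g)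
        simp only [Subgroup.coe_mul]; group }
  have hφ : ∀ a : A, ((φ a : A) : T) = g⁻¹ * (a : T) * g := fun _ => rfl
  have hφN : Z.subgroupOf A ≤ (Z.subgroupOf A).comap φ := by
    intro n hn
    rw [Subgroup.mem_comap, Subgroup.mem_subgroupOf, hφ]
    rw [Subgroup.mem_subgroupOf] at hn
    exact hgZ _ hn
  let σ : (A ⧸ Z.subgroupOf A) →* (A ⧸ Z.subgroupOf A) :=
    QuotientGroup.map (Z.subgroupOf A) (Z.subgroupOf A) φ hφN
  have hσmk : ∀ a : A, σ (QuotientGroup.mk a) = QuotientGroup.mk (φ a) := fun a => rfl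
  have hσ : ∀ m, σ (σ m) = m := by
    intro m
    induction m using QuotientGroup.induction_on with
    | H a =>
      rw [hσmk, hσmk, eq_comm, hmk, hφ, hφ]
      have e : (a : T)⁻¹ * (g⁻¹ * (g⁻¹ * (a : T) * g) * g) = cm (a : T) (g * g) := by
        simp only [cm]; group
      rw [e]; exact hg2 _ a.2
  have hfix : ∀ a : A, σ (QuotientGroup.mk a) = QuotientGroup.mk a ↔ cm (a : T) g ∈ Z := by
    intro a
    rw [hσmk, eq_comm, hmk, hφ]
    have e : (a : T)⁻¹ * (g⁻¹ * (a : T) * g) = cm (a : T) g := by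
      simp only [cm]; group
    rw [e]
  obtain ⟨K, hK, hle, heq⟩ := Cfsg.Agent.Lib.Helper1.RUChain.abs_step hexp σ hσ
  set C : Subgroup A := K.comap (QuotientGroup.mk' (Z.subgroupOf A)) with hC
  have hmemB : ∀ w, w ∈ C.map A.subtype ↔ w ∈ A ∧ cm w g ∈ Z := by
    intro w
    rw [Subgroup.mem_map]
    constructor
    · rintro ⟨a, ha, rfl⟩
      rw [hC, Subgroup.mem_comap, QuotientGroup.mk'_apply, hK, hfix] at ha
      exact ⟨a.2, ha⟩
    · rintro ⟨hwA, hc⟩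
      refine ⟨⟨w, hwA⟩, ?_, rfl⟩
      rw [hC, Subgroup.mem_comap, QuotientGroup.mk'_apply, hK, hfix]
      exact hc
  have hcardN : Nat.card (Z.subgroupOf A) = Nat.card Z :=
    Nat.card_congr (Subgroup.subgroupOfEquivOfLe hZA).toEquiv
  have hA : Nat.card A = Nat.card (A ⧸ Z.subgroupOf A) * Nat.card Z := by
    rw [Subgroup.card_eq_card_quotient_mul_card_subgroup (Z.subgroupOf A), hcardN]
  have hB : Nat.card (C.map A.subtype) = Nat.card K * Nat.card Z := by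
    rw [Subgroup.card_map_of_injective A.subtype_injective]
    have h1 := Subgroup.card_mul_index C
    have h2 : C.index = K.index :=
      Subgroup.index_comap_of_surjective K (QuotientGroup.mk'_surjective _)
    have h3 := Subgroup.card_mul_index K
    have hpos : 0 < K.index := Nat.pos_of_ne_zero (Subgroup.index_ne_zero_of_finite)
    rw [h2, hA, ← h3] at h1
    have : Nat.card C * K.index = (Nat.card K * Nat.card Z) * K.index := by
      rw [h1]; ring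
    exact Nat.eq_of_mul_eq_mul_right hpos this
  have hZpos : 0 < Nat.card Z := Nat.card_pos
  refine ⟨C.map A.subtype, hmemB, ?_, ?_⟩
  · rw [hA, hB]
    calc Nat.card (A ⧸ Z.subgroupOf A) * Nat.card Z * Nat.card Z
        ≤ Nat.card K ^ 2 * Nat.card Z * Nat.card Z :=
          Nat.mul_le_mul_right _ (Nat.mul_le_mul_right _ hle)
      _ = (Nat.card K * Nat.card Z) ^ 2 := by ring
  · intro hEq b hb
    have hM : Nat.card (A ⧸ Z.subgroupOf A) = Nat.card K ^ 2 := by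
      rw [hA, hB] at hEq
      have : Nat.card (A ⧸ Z.subgroupOf A) * (Nat.card Z * Nat.card Z) =
          Nat.card K ^ 2 * (Nat.card Z * Nat.card Z) := by
        rw [← mul_assoc, hEq]; ring
      exact Nat.eq_of_mul_eq_mul_right (Nat.mul_pos hZpos hZpos) this
    obtain ⟨hbA, hbc⟩ := (hmemB b).mp hb
    have hbK : (QuotientGroup.mk (⟨b, hbA⟩ : A) : A ⧸ Z.subgroupOf A) ∈ K := by
      rw [hK, hfix]; exact hbc
    obtain ⟨m, hm⟩ := heq hM _ hbK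
    induction m using QuotientGroup.induction_on with
    | H a =>
      refine ⟨a, a.2, ?_⟩
      rw [hσmk, ← QuotientGroup.mk_inv, ← QuotientGroup.mk_mul, hmk] at hm
      have e : ((a⁻¹ * φ a : A) : T)⁻¹ * ((⟨b, hbA⟩ : A) : T) = (cm (a : T) g)⁻¹ * b := by
        simp only [cm, Subgroup.coe_mul, InvMemClass.coe_inv, hφ]; group
      rw [e] at hm
      exact hm

end Cfsg.Agent.Lib.Helper1.RUG5

namespace Cfsg.Agent.Lib.Helper1.RUG5

open Cfsg.Agent.Lib.Helper12.RU4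

variable {T : Type*} [Group T] [Finite T]

theorem arith {c w n1 n2 y : ℕ} (hc : 0 < c) (hw : w = 2 ^ 8 * c) (hy : y = 2 * c)
    (i1 : w * c ≤ n1 ^ 2) (i2 : n1 * c ≤ n2 ^ 2) (i3 : n2 * c ≤ y ^ 2) :
    n1 = 2 ^ 4 * c ∧ w * c = n1 ^ 2 ∧ n1 * c = n2 ^ 2 ∧ n2 * c = y ^ 2 := by
  subst hw hy
  have h3 : n2 ≤ 4 * c := by
    have : n2 * c ≤ (4 * c) * c := by nlinarith
    exact Nat.le_of_mul_le_mul_right this hc
  have h2 : n1 ≤ 16 * c := by
    have h22 : n2 ^ 2 ≤ (4 * c) ^ 2 := Nat.pow_le_pow_left h3 2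
    have : n1 * c ≤ (16 * c) * c := by nlinarith
    exact Nat.le_of_mul_le_mul_right this hc
  have h1 : 16 * c ≤ n1 := by
    by_contra hlt
    push Not at hlt
    have := Nat.pow_lt_pow_left hlt (two_ne_zero)
    nlinarith
  have e1 : n1 = 16 * c := le_antisymm h2 h1
  have h4 : 4 * c ≤ n2 := by
    by_contra hlt
    push Not at hlt
    have := Nat.pow_lt_pow_left hlt (two_ne_zero)
    subst e1
    nlinarith
  have e2 : n2 = 4 * c := le_antisymm h3 h4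
  subst e1 e2
  refine ⟨by ring, by ring, by ring, by ring⟩

theorem three_step' (Z3 Y W T1 T2 : Subgroup T) (z s x : T)
    (hZ3W : Z3 ≤ W) (hWT1 : W ≤ T1) (hT12 : T1 ≤ T2)
    (hZ3n : Z3.Normal) (hWn : W.Normal) (hT1n : T1.Normal) (hT2n : T2.Normal)
    (hcomm : ∀ u ∈ W, ∀ v ∈ W, cm u v ∈ Z3) (hsq : ∀ w ∈ W, w * w ∈ Z3)
    (hz : z ∈ T1) (hT1 : ∀ t ∈ T1, t ∈ W ∨ z⁻¹ * t ∈ W)
    (hs : s ∈ T2) (hT2 : ∀ t ∈ T2, t ∈ T1 ∨ s⁻¹ * t ∈ T1)
    (hT' : ∀ t : T, t ∈ T2 ∨ x⁻¹ * t ∈ T2)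
    (hT2sq : ∀ t ∈ T2, t * t ∈ W) (hx2 : z⁻¹ * (x * x) ∈ W)
    (hY : ∀ w : T, w ∈ Y ↔ w ∈ W ∧ ∀ t : T, cm w t ∈ Z3)
    (hcardW : Nat.card ↥W = 2 ^ 8 * Nat.card ↥Z3)
    (hcardY : Nat.card ↥Y = 2 * Nat.card ↥Z3) :
    ∃ Y1 : Subgroup T,
      (∀ w : T, w ∈ Y1 ↔ w ∈ W ∧ ∀ y ∈ T1, cm w y ∈ Z3) ∧
      Nat.card ↥Y1 = 2 ^ 4 * Nat.card ↥Z3 ∧
      (∀ v ∈ W, (∀ y ∈ T1, cm v y ∈ Z3) → ∃ u ∈ W, (cm u z)⁻¹ * v ∈ Z3) ∧
      (∀ v ∈ W, (∀ y ∈ T2, cm v y ∈ Z3) →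
        ∃ u ∈ W, (∀ y ∈ T1, cm u y ∈ Z3) ∧ (cm u s)⁻¹ * v ∈ Z3) ∧
      (∀ v ∈ W, (∀ t : T, cm v t ∈ Z3) →
        ∃ u ∈ W, (∀ y ∈ T2, cm u y ∈ Z3) ∧ (cm u x)⁻¹ * v ∈ Z3) := by
  -- commutators of `Z3` with anything lie in `Z3`
  have hZcm : ∀ c ∈ Z3, ∀ t : T, cm c t ∈ Z3 := by
    intro c hc t
    have e : cm c t = c⁻¹ * (t⁻¹ * c * t) := by simp only [cm]; group
    rw [e]
    exact Z3.mul_mem (Z3.inv_mem hc) (conj_mem_of_normal hZ3n hc t)
  have hzz : z * z ∈ W := hT2sq z (hT12 hz)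
  have hss : s * s ∈ W := hT2sq s hs
  have hxx : x * x ∈ T2 := by
    have e : x * x = z * (z⁻¹ * (x * x)) := by group
    rw [e]
    exact hT12 (T1.mul_mem hz (hWT1 hx2))
  -- step 1
  obtain ⟨Y1, hY1, i1, eq1⟩ := step Z3 W z hZ3W
    (fun a ha => conj_mem_of_normal hWn ha z) (fun c hc => conj_mem_of_normal hZ3n hc z)
    hcomm hsq (fun a ha => hcomm a ha _ hzz)
  have hY1' : ∀ w : T, w ∈ Y1 ↔ w ∈ W ∧ ∀ y ∈ T1, cm w y ∈ Z3 := by
    intro w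
    rw [hY1]
    constructor
    · rintro ⟨hw, hc⟩
      exact ⟨hw, fun y hy => cm_coset hZ3n (hcomm w hw) hc y (hT1 y hy)⟩
    · rintro ⟨hw, hc⟩
      exact ⟨hw, hc z hz⟩
  have hY1W : ∀ w ∈ Y1, w ∈ W := fun w hw => ((hY1 w).mp hw).1
  have hZY1 : Z3 ≤ Y1 := fun c hc => (hY1 c).mpr ⟨hZ3W hc, hZcm c hc z⟩
  -- step 2
  obtain ⟨Y2, hY2, i2, eq2⟩ := step Z3 Y1 s hZY1
    (fun a ha => (hY1' _).mpr (cent_conj hZ3n hWn hT1n ((hY1' a).mp ha) s))
    (fun c hc => conj_mem_of_normal hZ3n hc s)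
    (fun u hu v hv => hcomm u (hY1W u hu) v (hY1W v hv)) (fun a ha => hsq a (hY1W a ha))
    (fun a ha => hcomm a (hY1W a ha) _ hss)
  have hY2' : ∀ w : T, w ∈ Y2 ↔ w ∈ W ∧ ∀ y ∈ T2, cm w y ∈ Z3 := by
    intro w
    rw [hY2]
    constructor
    · rintro ⟨hw, hc⟩
      have hw' := (hY1' w).mp hw
      exact ⟨hw'.1, fun y hy => cm_coset hZ3n hw'.2 hc y (hT2 y hy)⟩
    · rintro ⟨hw, hc⟩
      exact ⟨(hY1' w).mpr ⟨hw, fun y hy => hc y (hT12 hy)⟩, hc s hs⟩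
  have hY2W : ∀ w ∈ Y2, w ∈ W := fun w hw => ((hY2' w).mp hw).1
  have hZY2 : Z3 ≤ Y2 := fun c hc => (hY2 c).mpr ⟨hZY1 hc, hZcm c hc s⟩
  -- step 3
  obtain ⟨Y3, hY3, i3, eq3⟩ := step Z3 Y2 x hZY2
    (fun a ha => (hY2' _).mpr (cent_conj hZ3n hWn hT2n ((hY2' a).mp ha) x))
    (fun c hc => conj_mem_of_normal hZ3n hc x)
    (fun u hu v hv => hcomm u (hY2W u hu) v (hY2W v hv)) (fun a ha => hsq a (hY2W a ha))
    (fun a ha => ((hY2' a).mp ha).2 _ hxx)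
  have hY3Y : Y3 = Y := by
    ext w
    rw [hY3, hY]
    constructor
    · rintro ⟨hw, hc⟩
      have hw' := (hY2' w).mp hw
      exact ⟨hw'.1, fun t => cm_coset hZ3n hw'.2 hc t (hT' t)⟩
    · rintro ⟨hw, hc⟩
      exact ⟨(hY2' w).mpr ⟨hw, fun y _ => hc y⟩, hc x⟩
  rw [hY3Y] at i3 eq3
  have hcpos : 0 < Nat.card Z3 := Nat.card_pos
  obtain ⟨e1, q1, q2, q3⟩ := arith hcpos hcardW hcardY i1 i2 i3
  refine ⟨Y1, hY1', e1, ?_, ?_, ?_⟩
  · intro v hv hc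
    exact eq1 q1 v ((hY1' v).mpr ⟨hv, hc⟩)
  · intro v hv hc
    obtain ⟨u, hu, hu2⟩ := eq2 q2 v ((hY2' v).mpr ⟨hv, hc⟩)
    have hu' := (hY1' u).mp hu
    exact ⟨u, hu'.1, hu'.2, hu2⟩
  · intro v hv hc
    have hvY : v ∈ Y := (hY v).mpr ⟨hv, hc⟩
    obtain ⟨u, hu, hu2⟩ := eq3 q3 v hvY
    have hu' := (hY2' u).mp hu
    exact ⟨u, hu'.1, hu'.2, hu2⟩

end Cfsg.Agent.Lib.Helper1.RUG5
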