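import Mathlib

namespace Cfsg.Agent.Lib.Helper1.RSyl

open Finset

set_option linter.unusedSectionVars false

variable {I : Type*} [Fintype I] [DecidableEq I] [AddCommGroup I] {F : Type*} [Field F]

/-- monomial matrix with shift `k`: the entry at `(i, j)` is `t i` when `i = j + k`. -/
def mono (t : I → F) (k : I) : Matrix I I F := fun i j => if i = j + k then t i else 0

lemma mono_apply (t : I → F) (k i j : I) : mono t k i j = if i = j + k then t i else 0 := rfl

lemma mono_mul (t s : I → F) (k l : I) :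
    mono t k * mono s l = mono (fun i => t i * s (i - k)) (k + l) := by
  ext i j
  rw [Matrix.mul_apply, Finset.sum_eq_single (i - k)]
  · simp only [mono_apply]
    have h1 : i = i - k + k := by abel
    rw [if_pos h1]
    by_cases h2 : i = j + (k + l)
    · have h3 : i - k = j + l := by rw [h2]; abel
      rw [if_pos h3, if_pos h2]
    · have h3 : ¬ (i - k = j + l) := by
        intro h; apply h2
        have : i = (i - k) + k := by abel
        rw [this, h]; abel
      rw [if_neg h3, if_neg h2, mul_zero]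
  · intro m _ hm
    simp only [mono_apply]
    have h1 : ¬ (i = m + k) := by
      intro h; apply hm; rw [h]; abel
    rw [if_neg h1, zero_mul]
  · intro h; exact absurd (Finset.mem_univ _) h

lemma mono_one : mono (fun _ : I => (1 : F)) 0 = 1 := by
  ext i j
  simp only [mono_apply, add_zero, Matrix.one_apply]

lemma mono_zero_shift (t : I → F) : mono t 0 = Matrix.diagonal t := by
  ext i j
  simp only [mono_apply, add_zero, Matrix.diagonal_apply]

lemma mono_inj {t t' : I → F} {k k' : I} (ht : ∀ i, t i ≠ 0) (h : mono t k = mono t' k') :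
    k = k' ∧ t = t' := by
  have hk : k = k' := by
    have h1 := congrFun (congrFun h (0 + k)) 0
    simp only [mono_apply, if_true] at h1
    by_contra hne
    have h2 : ¬ ((0 : I) + k = 0 + k') := by
      intro h3; exact hne (add_left_cancel h3)
    rw [if_neg h2] at h1
    exact ht _ h1
  refine ⟨hk, ?_⟩
  subst hk
  funext i
  have h1 := congrFun (congrFun h i) (i - k)
  simp only [mono_apply] at h1
  have h2 : i = i - k + k := by abel
  rw [if_pos h2, if_pos h2] at h1
  exact h1

/-- powers of the shifted coefficient function -/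
def tp (t : I → F) (k : I) : ℕ → I → F
  | 0 => fun _ => 1
  | (m + 1) => fun i => tp t k m i * t (i - m • k)

lemma mono_pow (t : I → F) (k : I) (m : ℕ) : mono t k ^ m = mono (tp t k m) (m • k) := by
  induction m with
  | zero => simp [tp, mono_one]
  | succ m ih =>
    rw [pow_succ, ih, mono_mul, succ_nsmul]
    rfl

lemma tp_ne_zero {t : I → F} (ht : ∀ i, t i ≠ 0) (k : I) (m : ℕ) (i : I) : tp t k m i ≠ 0 := by
  induction m generalizing i with
  | zero => simp [tp]
  | succ m ih => exact mul_ne_zero (ih i) (ht _)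


section prime

variable {p : ℕ} [hpF : Fact p.Prime]

lemma addOrderOf_eq_p (hI : Fintype.card I = p) {k : I} (hk : k ≠ 0) : addOrderOf k = p := by
  apply addOrderOf_eq_prime _ hk
  rw [← hI]
  exact card_nsmul_eq_zero

lemma exists_nsmul_eq (hI : Fintype.card I = p) {k : I} (hk : k ≠ 0) (a : I) :
    ∃ m, m < p ∧ m • k = a := by
  have hc : Nat.card I = p := by rw [Nat.card_eq_fintype_card]; exact hI
  have h1 : a ∈ AddSubgroup.zmultiples k := mem_zmultiples_of_prime_card (p := p) hc hk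
  rw [mem_zmultiples_iff_mem_range_addOrderOf, addOrderOf_eq_p hI hk] at h1
  obtain ⟨m, hm, rfl⟩ := Finset.mem_image.mp h1
  exact ⟨m, Finset.mem_range.mp hm, rfl⟩

lemma nsmul_inj_of_lt (hI : Fintype.card I = p) {k : I} (hk : k ≠ 0) {m m' : ℕ} (hm : m < p)
    (hm' : m' < p) (h : m • k = m' • k) : m = m' := by
  have := nsmul_injOn_Iio_addOrderOf (x := k)
  rw [addOrderOf_eq_p hI hk] at this
  exact this hm hm' h

/-- entries of the geometric sum of a monomial matrix with nonzero shift -/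
lemma geom_entry_ne_zero (hI : Fintype.card I = p) {t : I → F} (ht : ∀ i, t i ≠ 0) {k : I}
    (hk : k ≠ 0) (i j : I) : (∑ m ∈ Finset.range p, mono t k ^ m) i j ≠ 0 := by
  obtain ⟨m₀, hm₀, hm₀'⟩ := exists_nsmul_eq hI hk (i - j)
  rw [Matrix.sum_apply, Finset.sum_eq_single m₀]
  · rw [mono_pow, mono_apply, if_pos (by rw [hm₀']; abel)]
    exact tp_ne_zero ht _ _ _
  · intro m hm hne
    rw [mono_pow, mono_apply, if_neg]
    intro h
    apply hne
    apply nsmul_inj_of_lt hI hk (Finset.mem_range.mp hm) hm₀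
    rw [hm₀', h]; abel
  · intro h; exact absurd (Finset.mem_range.mpr hm₀) h

lemma tp_p (hI : Fintype.card I = p) (t : I → F) {k : I} (hk : k ≠ 0) (i : I) :
    tp t k p i = ∏ i' : I, t i' := by
  have key : ∀ m, tp t k m i = ∏ l ∈ Finset.range m, t (i - l • k) := by
    intro m
    induction m with
    | zero => simp [tp]
    | succ m ih => rw [Finset.prod_range_succ, ← ih]; rfl
  rw [key]
  symm
  apply Finset.prod_bij' (fun (i' : I) _ => Classical.choose (exists_nsmul_eq hI hk (i - i')))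
    (fun (l : ℕ) _ => i - l • k)
  · intro a _
    exact Finset.mem_range.mpr (Classical.choose_spec (exists_nsmul_eq hI hk (i - a))).1
  · intro a _; exact Finset.mem_univ _
  · intro a _
    have := (Classical.choose_spec (exists_nsmul_eq hI hk (i - a))).2
    rw [this]; abel
  · intro l hl
    have h1 := (Classical.choose_spec (exists_nsmul_eq hI hk (i - (i - l • k))))
    apply nsmul_inj_of_lt hI hk h1.1 (Finset.mem_range.mp hl)
    rw [h1.2]; abel
  · intro a _
    have := (Classical.choose_spec (exists_nsmul_eq hI hk (i - a))).2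
    rw [this]; congr 1; abel

lemma mono_pow_p (hI : Fintype.card I = p) (t : I → F) {k : I} (hk : k ≠ 0) :
    mono t k ^ p = (∏ i' : I, t i') • (1 : Matrix I I F) := by
  rw [mono_pow]
  have h0 : p • k = 0 := by rw [← hI]; exact card_nsmul_eq_zero
  rw [h0]
  ext i j
  rw [mono_apply, Matrix.smul_apply, Matrix.one_apply, add_zero, tp_p hI t hk]
  by_cases h : i = j
  · rw [if_pos h, if_pos h, smul_eq_mul, mul_one]
  · rw [if_neg h, if_neg h, smul_zero]

end prime


/-- monomial unit -/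
def monoU (t : I → Fˣ) (k : I) : GL I F :=
  ⟨mono (fun i => (t i : F)) k, mono (fun i => (((t (i + k))⁻¹ : Fˣ) : F)) (-k), by
    rw [mono_mul, add_neg_cancel, ← mono_one]
    congr 1
    funext i
    rw [sub_add_cancel, Units.mul_inv], by
    rw [mono_mul, neg_add_cancel, ← mono_one]
    congr 1
    funext i
    rw [sub_neg_eq_add, Units.inv_mul]⟩

lemma monoU_val (t : I → Fˣ) (k : I) :
    ((monoU t k : GL I F) : Matrix I I F) = mono (fun i => (t i : F)) k := rfl

lemma monoU_mul (t s : I → Fˣ) (k l : I) :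
    monoU t k * monoU s l = monoU (fun i => t i * s (i - k)) (k + l) := by
  apply Units.ext
  rw [Units.val_mul, monoU_val, monoU_val, monoU_val, mono_mul]
  rfl

lemma monoU_one : monoU (fun _ : I => (1 : Fˣ)) 0 = 1 := by
  apply Units.ext
  rw [monoU_val, Units.val_one]
  exact mono_one

lemma monoU_inv (t : I → Fˣ) (k : I) :
    (monoU t k)⁻¹ = monoU (fun i => (t (i + k))⁻¹) (-k) := by
  apply Units.ext
  rfl

lemma monoU_inj {t t' : I → Fˣ} {k k' : I} (h : monoU t k = monoU t' k') : k = k' ∧ t = t' := by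
  have h1 : mono (fun i => (t i : F)) k = mono (fun i => (t' i : F)) k' := by
    rw [← monoU_val, ← monoU_val, h]
  obtain ⟨hk, ht⟩ := mono_inj (fun i => (t i).ne_zero) h1
  refine ⟨hk, ?_⟩
  funext i
  exact Units.ext (congrFun ht i)

/-- the monomial `p`-subgroup `T ⋊ ⟨σ⟩` -/
def Q0 (I : Type*) [Fintype I] [DecidableEq I] [AddCommGroup I] (F : Type*) [Field F] (p : ℕ) :
    Subgroup (GL I F) where
  carrier := {g | ∃ (t : I → Fˣ) (k : I), (∀ i, t i ^ p = 1) ∧ g = monoU t k}
  one_mem' := ⟨fun _ => 1, 0, fun _ => one_pow _, monoU_one.symm⟩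
  mul_mem' := by
    rintro _ _ ⟨t, k, ht, rfl⟩ ⟨s, l, hs, rfl⟩
    refine ⟨_, _, fun i => ?_, monoU_mul t s k l⟩
    rw [mul_pow, ht, hs, one_mul]
  inv_mem' := by
    rintro _ ⟨t, k, ht, rfl⟩
    refine ⟨_, _, fun i => ?_, monoU_inv t k⟩
    rw [inv_pow, ht, inv_one]

lemma mem_Q0_iff (p : ℕ) (g : GL I F) :
    g ∈ Q0 I F p ↔ ∃ (t : I → Fˣ) (k : I), (∀ i, t i ^ p = 1) ∧ g = monoU t k := Iff.rfl

lemma card_Q0 (p : ℕ) (hroots : Nat.card (rootsOfUnity p F) = p) :
    Nat.card (Q0 I F p) = p ^ Fintype.card I * Fintype.card I := by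
  let f : (I → rootsOfUnity p F) × I → Q0 I F p := fun x =>
    ⟨monoU (fun i => ((x.1 i : rootsOfUnity p F) : Fˣ)) x.2, ⟨_, _, fun i => by
      have := (x.1 i).2
      rw [mem_rootsOfUnity] at this
      exact this, rfl⟩⟩
  have hf : Function.Bijective f := by
    constructor
    · rintro ⟨t, k⟩ ⟨t', k'⟩ h
      have h1 := congrArg Subtype.val h
      obtain ⟨hk, ht⟩ := monoU_inj h1
      refine Prod.ext ?_ hk
      funext i
      exact Subtype.ext (congrFun ht i)
    · rintro ⟨g, t, k, ht, rfl⟩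
      refine ⟨(fun i => ⟨t i, by rw [mem_rootsOfUnity]; exact ht i⟩, k), rfl⟩
  rw [← Nat.card_congr (Equiv.ofBijective f hf), Nat.card_prod, Nat.card_fun, hroots,
    Nat.card_eq_fintype_card]


/-- entries of elements of `Q0`: monomial with some shift -/
lemma Q0_entry {p : ℕ} {g : GL I F} (hg : g ∈ Q0 I F p) :
    ∃ k : I, ∀ i j, (g : Matrix I I F) i j ≠ 0 → i = j + k := by
  obtain ⟨t, k, _, rfl⟩ := hg
  refine ⟨k, fun i j h => ?_⟩
  rw [monoU_val, mono_apply] at h
  by_contra hne
  rw [if_neg hne] at h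
  exact h rfl

lemma Q0_row {p : ℕ} {g : GL I F} (hg : g ∈ Q0 I F p) {i j j' : I}
    (h : (g : Matrix I I F) i j ≠ 0) (h' : (g : Matrix I I F) i j' ≠ 0) : j = j' := by
  obtain ⟨k, hk⟩ := Q0_entry hg
  have h1 := hk i j h
  have h2 := hk i j' h'
  rw [h1] at h2
  exact add_right_cancel h2

lemma Q0_col {p : ℕ} {g : GL I F} (hg : g ∈ Q0 I F p) {i i' j : I}
    (h : (g : Matrix I I F) i j ≠ 0) (h' : (g : Matrix I I F) i' j ≠ 0) : i = i' := by
  obtain ⟨k, hk⟩ := Q0_entry hg
  rw [hk i j h, hk i' j h']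

/-- the multiplicative map `c ↦ 1 + (c - 1) • E` for an idempotent `E` -/
def idemHom (E : Matrix I I F) (hE : E * E = E) : F →* Matrix I I F where
  toFun c := 1 + (c - 1) • E
  map_one' := by simp
  map_mul' c d := by
    rw [mul_add, add_mul, add_mul, one_mul, mul_one, one_mul, smul_mul_smul_comm, hE]
    have : (c * d - 1) • E = (c - 1) • E + ((d - 1) • E + ((c - 1) * (d - 1)) • E) := by
      rw [← add_smul, ← add_smul]
      congr 1
      ring
    rw [this]
    abel

lemma idemHom_apply (E : Matrix I I F) (hE : E * E = E) (c : F) :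
    idemHom E hE c = 1 + (c - 1) • E := rfl

/-- the unit attached to an idempotent and a unit scalar -/
def idemU (E : Matrix I I F) (hE : E * E = E) (c : Fˣ) : GL I F := Units.map (idemHom E hE) c

lemma idemU_val (E : Matrix I I F) (hE : E * E = E) (c : Fˣ) :
    ((idemU E hE c : GL I F) : Matrix I I F) = 1 + ((c : F) - 1) • E := rfl

lemma idemU_pow (E : Matrix I I F) (hE : E * E = E) (c : Fˣ) (n : ℕ) (hc : c ^ n = 1) :
    idemU E hE c ^ n = 1 := by
  unfold idemU
  rw [← map_pow, hc, map_one]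

lemma idemU_commute (E : Matrix I I F) (hE : E * E = E) (c : Fˣ) (x : GL I F)
    (hx : (x : Matrix I I F) * E = E * (x : Matrix I I F)) : Commute x (idemU E hE c) := by
  unfold Commute SemiconjBy
  apply Units.ext
  rw [Units.val_mul, Units.val_mul, idemU_val, mul_add, add_mul, mul_one, one_mul, mul_smul_comm,
    smul_mul_assoc, hx]


lemma case_a {p : ℕ} (ω : Fˣ) (hω : ω ^ p = 1) (hω1 : ω ≠ 1) (t : I → Fˣ) {i j : I}
    (hij : i ≠ j) (ht : t i = t j) :
    ∃ y : GL I F, Commute (monoU t 0) y ∧ y ^ p = 1 ∧ y ∉ Q0 I F p := by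
  set E : Matrix I I F := Matrix.single i i 1 - Matrix.single i j 1 with hEdef
  have hE : E * E = E := by
    rw [hEdef, sub_mul, mul_sub, mul_sub, Matrix.single_mul_single_same,
      Matrix.single_mul_single_same, Matrix.single_mul_single_of_ne _ _ _ _ hij.symm,
      Matrix.single_mul_single_of_ne _ _ _ _ hij.symm, mul_one, sub_zero, sub_zero]
  have hEii : E i i = 1 := by
    rw [hEdef, Matrix.sub_apply, Matrix.single_apply, Matrix.single_apply]
    simp [hij.symm]
  have hEij : E i j = -1 := by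
    rw [hEdef, Matrix.sub_apply, Matrix.single_apply, Matrix.single_apply]
    simp [hij.symm, hij]
  have hEsupp : ∀ a b, E a b ≠ 0 → a = i ∧ (b = i ∨ b = j) := by
    intro a b h
    rw [hEdef, Matrix.sub_apply, Matrix.single_apply, Matrix.single_apply] at h
    by_cases ha : i = a
    · refine ⟨ha.symm, ?_⟩
      by_contra hb
      push Not at hb
      simp [hb.1.symm, hb.2.symm] at h
    · simp [ha] at h
  refine ⟨idemU E hE ω, ?_, idemU_pow E hE ω p hω, ?_⟩
  · apply idemU_commute
    rw [monoU_val, mono_zero_shift]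
    ext a b
    rw [Matrix.diagonal_mul, Matrix.mul_diagonal]
    by_cases h : E a b = 0
    · rw [h, mul_zero, zero_mul]
    · obtain ⟨ha, hb⟩ := hEsupp a b h
      rw [mul_comm]
      congr 2
      rcases hb with hb | hb
      · rw [ha, hb]
      · rw [ha, hb, ht]
  · intro hmem
    have hω1' : (ω : F) - 1 ≠ 0 := by
      intro h
      apply hω1
      apply Units.ext
      rw [Units.val_one]
      exact sub_eq_zero.mp h
    have h1 : ((idemU E hE ω : GL I F) : Matrix I I F) i i ≠ 0 := by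
      rw [idemU_val, Matrix.add_apply, Matrix.smul_apply, hEii, Matrix.one_apply_eq, smul_eq_mul,
        mul_one, add_sub_cancel]
      exact ω.ne_zero
    have h2 : ((idemU E hE ω : GL I F) : Matrix I I F) i j ≠ 0 := by
      rw [idemU_val, Matrix.add_apply, Matrix.smul_apply, hEij, Matrix.one_apply_ne hij,
        smul_eq_mul, zero_add, mul_neg, mul_one]
      exact neg_ne_zero.mpr hω1'
    exact hij (Q0_row hmem h1 h2)


lemma single_idem (a : I) : (Matrix.single a a (1 : F)) * Matrix.single a a 1 = Matrix.single a a 1 := by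
  rw [Matrix.single_mul_single_same, mul_one]

/-- the diagonal pseudo-reflection `diag(1,…,ω,…,1)` -/
def dU (a : I) (ω : Fˣ) : GL I F := idemU (Matrix.single a a 1) (single_idem a) ω

lemma dU_mem_Q0 {p : ℕ} (a : I) (ω : Fˣ) (hω : ω ^ p = 1) : dU a ω ∈ Q0 I F p := by
  refine ⟨Function.update (fun _ => 1) a ω, 0, fun i => ?_, ?_⟩
  · by_cases h : i = a
    · subst h; rw [Function.update_self, hω]
    · rw [Function.update_of_ne h, one_pow]
  · apply Units.ext
    rw [monoU_val, mono_zero_shift]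
    unfold dU
    rw [idemU_val]
    ext x y
    rw [Matrix.add_apply, Matrix.smul_apply, Matrix.single_apply, Matrix.diagonal_apply,
      Matrix.one_apply]
    by_cases hxy : x = y
    · subst hxy
      by_cases hxa : x = a
      · subst hxa
        simp
      · have h1 : ¬ (a = x ∧ a = x) := fun h => hxa h.1.symm
        rw [if_neg h1, if_pos rfl, if_pos rfl, Function.update_of_ne hxa, smul_zero, add_zero,
          Units.val_one]
    · have h1 : ¬ (a = x ∧ a = y) := fun h => hxy (h.1.symm.trans h.2)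
      rw [if_neg h1, if_neg hxy, if_neg hxy, smul_zero, add_zero]

lemma mul_single_mul_apply (A B : Matrix I I F) (a x y : I) :
    (A * Matrix.single a a 1 * B : Matrix I I F) x y = A x a * B a y := by
  rw [Matrix.mul_apply, Finset.sum_eq_single a]
  · rw [Matrix.mul_apply, Finset.sum_eq_single a]
    · rw [Matrix.single_apply_same, mul_one]
    · intro b _ hb
      have hz : Matrix.single a a (1 : F) b a = 0 := by
        rw [Matrix.single_apply, if_neg]
        rintro ⟨h1, _⟩; exact hb h1.symm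
      rw [hz, mul_zero]
    · intro h; exact absurd (Finset.mem_univ _) h
  · intro b _ hb
    rw [Matrix.mul_apply]
    rw [Finset.sum_eq_zero, zero_mul]
    intro c _
    have hz : Matrix.single a a (1 : F) c b = 0 := by
      rw [Matrix.single_apply, if_neg]
      rintro ⟨_, h2⟩; exact hb h2.symm
    rw [hz, mul_zero]
  · intro h; exact absurd (Finset.mem_univ _) h

lemma conj_dU_apply (h : GL I F) (a : I) (ω : Fˣ) (x y : I) :
    ((h * dU a ω * h⁻¹ : GL I F) : Matrix I I F) x y =
      (if x = y then 1 else 0) + ((ω : F) - 1) *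
        ((h : Matrix I I F) x a * ((h⁻¹ : GL I F) : Matrix I I F) a y) := by
  rw [Units.val_mul, Units.val_mul]
  unfold dU
  rw [idemU_val, mul_add, add_mul, mul_one, ← Units.val_mul, mul_inv_cancel, Units.val_one,
    mul_smul_comm, smul_mul_assoc, Matrix.add_apply, Matrix.smul_apply, mul_single_mul_apply,
    Matrix.one_apply, smul_eq_mul]


section kne

variable {p : ℕ} [hpF' : Fact p.Prime]

lemma omega_sub_one_ne_zero {ω : Fˣ} (hω1 : ω ≠ 1) : (ω : F) - 1 ≠ 0 := by
  intro h
  apply hω1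
  apply Units.ext
  rw [Units.val_one]
  exact sub_eq_zero.mp h

lemma exists_three (hI : Fintype.card I = p) (hp3 : 3 ≤ p) :
    ∃ a b c : I, a ≠ b ∧ a ≠ c ∧ b ≠ c := by
  apply Fintype.two_lt_card_iff.mp
  omega

lemma mono_pow_p_units (hI : Fintype.card I = p) (t : I → Fˣ) {k : I} (hk : k ≠ 0) :
    mono (fun i => (t i : F)) k ^ p = ((∏ i, t i : Fˣ) : F) • (1 : Matrix I I F) := by
  rw [mono_pow_p hI _ hk, Units.coe_prod]

lemma case_c (hI : Fintype.card I = p) (hp3 : 3 ≤ p) (hpF : (p : F) ≠ 0) (ω : Fˣ)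
    (hω : ω ^ p = 1) (hω1 : ω ≠ 1) (t : I → Fˣ) {k : I} (hk : k ≠ 0) (hc : ∏ i, t i = 1) :
    ∃ y : GL I F, Commute (monoU t k) y ∧ y ^ p = 1 ∧ y ∉ Q0 I F p := by
  set X : Matrix I I F := mono (fun i => (t i : F)) k with hX
  have hXp : X ^ p = 1 := by
    rw [hX, mono_pow_p_units hI t hk, hc, Units.val_one, one_smul]
  set S : Matrix I I F := ∑ m ∈ Finset.range p, X ^ m with hS
  have hXS : X * S = S := by
    have := mul_geom_sum X p
    rw [hXp, sub_self, sub_mul, one_mul, sub_eq_zero] at this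
    exact this
  have hSX : S * X = S := by
    have := geom_sum_mul X p
    rw [hXp, sub_self, mul_sub, mul_one, sub_eq_zero] at this
    exact this
  have hpowS : ∀ m : ℕ, X ^ m * S = S := by
    intro m
    induction m with
    | zero => rw [pow_zero, one_mul]
    | succ m ih => rw [pow_succ, mul_assoc, hXS, ih]
  have hSS : S * S = (p : F) • S := by
    conv_lhs => rw [hS, Finset.sum_mul]
    rw [Finset.sum_congr rfl (fun m _ => hpowS m), Finset.sum_const, Finset.card_range,
      Nat.cast_smul_eq_nsmul]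
  set E : Matrix I I F := (p : F)⁻¹ • S with hEdef
  have hE : E * E = E := by
    rw [hEdef, smul_mul_smul_comm, hSS, smul_smul, mul_assoc, inv_mul_cancel₀ hpF, mul_one]
  have hSne : ∀ a b, S a b ≠ 0 := fun a b =>
    geom_entry_ne_zero hI (fun i => (t i).ne_zero) hk a b
  refine ⟨idemU E hE ω, ?_, idemU_pow E hE ω p hω, ?_⟩
  · apply idemU_commute
    rw [monoU_val, hEdef, mul_smul_comm, smul_mul_assoc]
    rw [← hX, hXS, hSX]
  · intro hmem
    obtain ⟨a, b, c, hab, hac, hbc⟩ := exists_three hI hp3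
    have hy : ∀ b', a ≠ b' → ((idemU E hE ω : GL I F) : Matrix I I F) a b' ≠ 0 := by
      intro b' hab'
      rw [idemU_val, Matrix.add_apply, Matrix.smul_apply, Matrix.one_apply_ne hab', zero_add,
        hEdef, Matrix.smul_apply, smul_eq_mul, smul_eq_mul]
      exact mul_ne_zero (omega_sub_one_ne_zero hω1) (mul_ne_zero (inv_ne_zero hpF) (hSne a b'))
    exact hbc (Q0_row hmem (hy b hab) (hy c hac))

lemma case_d (hI : Fintype.card I = p) (hp3 : 3 ≤ p) (ω : Fˣ)
    (hω : ω ^ p = 1) (hω1 : ω ≠ 1) (t : I → Fˣ) (ht : ∀ i, t i ^ p = 1) {k : I} (hk : k ≠ 0)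
    (hc : ∏ i, t i ≠ 1) :
    ∃ h d : GL I F, d ∈ Q0 I F p ∧ h⁻¹ * monoU t k * h ∈ Q0 I F p ∧
      h * d * h⁻¹ ∉ Q0 I F p := by
  set X : Matrix I I F := mono (fun i => (t i : F)) k with hX
  set c : Fˣ := ∏ i, t i with hcdef
  have hXp : X ^ p = (c : F) • (1 : Matrix I I F) := mono_pow_p_units hI t hk
  set S : Matrix I I F := ∑ m ∈ Finset.range p, X ^ m with hS
  have hc1 : (c : F) - 1 ≠ 0 := omega_sub_one_ne_zero hc
  have h1 : (X - 1) * S = ((c : F) - 1) • (1 : Matrix I I F) := by
    rw [mul_geom_sum, hXp, sub_smul, one_smul]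
  have h2 : S * (X - 1) = ((c : F) - 1) • (1 : Matrix I I F) := by
    rw [geom_sum_mul, hXp, sub_smul, one_smul]
  let hU : GL I F := ⟨X - 1, ((c : F) - 1)⁻¹ • S, by
    rw [mul_smul_comm, h1, smul_smul, inv_mul_cancel₀ hc1, one_smul], by
    rw [smul_mul_assoc, h2, smul_smul, inv_mul_cancel₀ hc1, one_smul]⟩
  have hSne : ∀ a b, S a b ≠ 0 := fun a b =>
    geom_entry_ne_zero hI (fun i => (t i).ne_zero) hk a b
  obtain ⟨a, b, c', hab, hac, hbc⟩ := exists_three hI hp3
  refine ⟨hU, dU a ω, dU_mem_Q0 a ω hω, ?_, ?_⟩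
  · have hcomm : monoU t k * hU = hU * monoU t k := by
      apply Units.ext
      rw [Units.val_mul, Units.val_mul, monoU_val]
      show X * (X - 1) = (X - 1) * X
      rw [mul_sub, sub_mul, mul_one, one_mul]
    rw [mul_assoc, hcomm, ← mul_assoc, inv_mul_cancel, one_mul]
    exact ⟨t, k, ht, rfl⟩
  · intro hmem
    have hy : ∀ b', a ≠ b' → ((hU * dU a ω * hU⁻¹ : GL I F) : Matrix I I F) a b' ≠ 0 := by
      intro b' hab'
      rw [conj_dU_apply, if_neg hab', zero_add]
      have hUaa : (hU : Matrix I I F) a a = -1 := by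
        show (X - 1) a a = -1
        rw [Matrix.sub_apply, Matrix.one_apply_eq, hX, mono_apply, if_neg, zero_sub]
        intro h
        apply hk
        have : a + 0 = a + k := by rw [add_zero]; exact h
        exact (add_left_cancel this).symm
      have hUinv : ((hU⁻¹ : GL I F) : Matrix I I F) a b' = ((c : F) - 1)⁻¹ * S a b' := by
        show (((c : F) - 1)⁻¹ • S) a b' = _
        rw [Matrix.smul_apply, smul_eq_mul]
      rw [hUaa, hUinv]
      exact mul_ne_zero (omega_sub_one_ne_zero hω1)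
        (mul_ne_zero (by norm_num) (mul_ne_zero (inv_ne_zero hc1) (hSne a b')))
    exact hbc (Q0_row hmem (hy b hab) (hy c' hac))

end kne


section vdm

variable {p : ℕ} [hpF' : Fact p.Prime]

lemma exists_two_ne {J : Type*} [Fintype J] (hJ : 3 ≤ Fintype.card J) (y : J) :
    ∃ a b : J, a ≠ b ∧ a ≠ y ∧ b ≠ y := by
  obtain ⟨a, b, c, hab, hac, hbc⟩ := Fintype.two_lt_card_iff.mp (by omega : 2 < Fintype.card J)
  by_cases ha : a = y
  · subst ha
    exact ⟨b, c, hbc, hab.symm, hac.symm⟩
  · by_cases hb : b = y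
    · subst hb
      exact ⟨a, c, hac, ha, hbc.symm⟩
    · exact ⟨a, b, hab, ha, hb⟩

lemma case_b (hp3 : 3 ≤ p) (ω : Fˣ) (hω : ω ^ p = 1) (hω1 : ω ≠ 1) (t : Fin p → Fˣ)
    (ht : ∀ i, t i ^ p = 1) (hinj : Function.Injective t) :
    ∃ h d : GL (Fin p) F, d ∈ Q0 (Fin p) F p ∧ h⁻¹ * monoU t 0 * h ∈ Q0 (Fin p) F p ∧
      h * d * h⁻¹ ∉ Q0 (Fin p) F p := by
  have hp := hpF'.out
  set v : Fin p → F := fun i => (t i : F) with hv
  have hvinj : Function.Injective v := fun i j h => hinj (Units.ext h)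
  have hdet : (Matrix.vandermonde v).det ≠ 0 := Matrix.det_vandermonde_ne_zero_iff.mpr hvinj
  set hU : GL (Fin p) F := Matrix.GeneralLinearGroup.mkOfDetNeZero (Matrix.vandermonde v) hdet
    with hUdef
  have hUval : (hU : Matrix (Fin p) (Fin p) F) = Matrix.vandermonde v := rfl
  have hone : ((1 : Fin p) : ℕ) = 1 := by
    rw [Fin.val_one', Nat.mod_eq_of_lt (by omega)]
  have hvp : ∀ i, v i ^ p = 1 := by
    intro i
    rw [hv]
    show ((t i : F)) ^ p = 1
    rw [← Units.val_pow_eq_pow_val, ht, Units.val_one]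
  have hconj : monoU t 0 * hU = hU * monoU (fun _ => 1) 1 := by
    apply Units.ext
    rw [Units.val_mul, Units.val_mul, monoU_val, monoU_val, hUval, mono_zero_shift]
    ext i j
    rw [Matrix.diagonal_mul, Matrix.mul_apply, Finset.sum_eq_single (j + 1)]
    · rw [mono_apply, if_pos rfl, Units.val_one, mul_one, Matrix.vandermonde_apply,
        Matrix.vandermonde_apply, Fin.val_add, hone]
      rw [← pow_eq_pow_mod _ (hvp i), pow_succ, mul_comm]
    · intro m _ hm
      rw [mono_apply, if_neg hm, mul_zero]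
    · intro h; exact absurd (Finset.mem_univ _) h
  have hcardp : Fintype.card (Fin p) = p := Fintype.card_fin p
  set a : Fin p := 0 with ha
  refine ⟨hU, dU a ω, dU_mem_Q0 a ω hω, ?_, ?_⟩
  · rw [mul_assoc, hconj, ← mul_assoc, inv_mul_cancel, one_mul]
    exact ⟨fun _ => 1, 1, fun _ => one_pow _, rfl⟩
  · intro hmem
    have hUa : ∀ x, (hU : Matrix (Fin p) (Fin p) F) x a = 1 := by
      intro x
      rw [hUval, Matrix.vandermonde_apply, ha, Fin.val_zero, pow_zero]
    obtain ⟨y₀, hy₀⟩ : ∃ y₀, ((hU⁻¹ : GL (Fin p) F) : Matrix (Fin p) (Fin p) F) a y₀ ≠ 0 := by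
      by_contra hall
      push Not at hall
      have h1 : ((hU⁻¹ * hU : GL (Fin p) F) : Matrix (Fin p) (Fin p) F) a a = 1 := by
        rw [inv_mul_cancel, Units.val_one, Matrix.one_apply_eq]
      rw [Units.val_mul, Matrix.mul_apply] at h1
      rw [Finset.sum_eq_zero] at h1
      · exact zero_ne_one h1
      · intro y _
        rw [hall y, zero_mul]
    obtain ⟨x, x', hxx', hx, hx'⟩ := exists_two_ne (by rw [hcardp]; exact hp3) y₀
    have hy : ∀ z, z ≠ y₀ → ((hU * dU a ω * hU⁻¹ : GL (Fin p) F) : Matrix (Fin p) (Fin p) F) z y₀ ≠ 0 := by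
      intro z hz
      rw [conj_dU_apply, if_neg hz, zero_add, hUa, one_mul]
      exact mul_ne_zero (omega_sub_one_ne_zero hω1) hy₀
    exact hxx' (Q0_col hmem (hy x hx) (hy x' hx'))

end vdm


lemma padic_GL_card (q p : ℕ) [hpF : Fact p.Prime] (hp2 : p ≠ 2) (h1 : p ∣ q - 1)
    (h2 : ¬ p ^ 2 ∣ q - 1) (hq : 2 ≤ q) :
    (∏ i : Fin p, (q ^ p - q ^ (i : ℕ))).factorization p = p + 1 := by
  have hp := hpF.out
  have hodd : Odd p := hp.odd_of_ne_two hp2
  have hq1 : q - 1 ≠ 0 := by omega
  have hpq : ¬ p ∣ q := by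
    intro h
    have : p ∣ q - (q - 1) := Nat.dvd_sub h h1
    have h3 : q - (q - 1) = 1 := by omega
    rw [h3] at this
    exact hp.one_lt.ne' (Nat.dvd_one.mp this)
  have hv1 : padicValNat p (q - 1) = 1 := by
    have ha : 1 ≤ padicValNat p (q - 1) := one_le_padicValNat_of_dvd hq1 h1
    have hb : ¬ 2 ≤ padicValNat p (q - 1) := by
      intro h
      exact h2 ((padicValNat_dvd_iff_le hq1).mpr h)
    omega
  have hfac : ∀ i : Fin p, q ^ p - q ^ (i : ℕ) ≠ 0 := by
    intro i
    have : q ^ (i : ℕ) < q ^ p := Nat.pow_lt_pow_right (by omega) i.2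
    omega
  rw [Nat.factorization_prod (fun i _ => hfac i), Finsupp.finsetSum_apply]
  have hterm : ∀ i : Fin p, (q ^ p - q ^ (i : ℕ)).factorization p =
      1 + (if (i : ℕ) = 0 then 1 else 0) := by
    intro i
    have hi : (i : ℕ) < p := i.2
    have e1 : q ^ p - q ^ (i : ℕ) = q ^ (i : ℕ) * (q ^ (p - i) - 1 ^ (p - i)) := by
      rw [one_pow, Nat.mul_sub, mul_one, ← pow_add]
      congr 2
      omega
    have hne : p - (i : ℕ) ≠ 0 := by omega
    have h1lt : 1 < q := by omega
    have e2 := padicValNat.pow_sub_pow (p := p) hodd h1lt h1 hpq hne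
    have hqi : q ^ (i : ℕ) ≠ 0 := pow_ne_zero _ (by omega)
    have hsub : q ^ (p - (i : ℕ)) - 1 ^ (p - (i : ℕ)) ≠ 0 := by
      rw [one_pow]
      have : 1 < q ^ (p - (i : ℕ)) := Nat.one_lt_pow hne h1lt
      omega
    rw [e1, Nat.factorization_mul hqi hsub, Finsupp.add_apply, Nat.factorization_def _ hp,
      Nat.factorization_def _ hp, e2, hv1]
    have h0 : padicValNat p (q ^ (i : ℕ)) = 0 := by
      rw [padicValNat.pow]
      rw [padicValNat.eq_zero_of_not_dvd hpq, mul_zero]
    rw [h0, zero_add]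
    congr 1
    by_cases hi0 : (i : ℕ) = 0
    · rw [if_pos hi0, hi0, Nat.sub_zero, padicValNat_self]
    · rw [if_neg hi0]
      apply padicValNat.eq_zero_of_not_dvd
      intro hd
      have := Nat.le_of_dvd (by omega) hd
      omega
  rw [Finset.sum_congr rfl (fun i _ => hterm i), Finset.sum_add_distrib, Finset.sum_const,
    Finset.card_univ, Fintype.card_fin, smul_eq_mul, mul_one]
  congr 1
  have : NeZero p := ⟨hp.ne_zero⟩
  rw [Finset.sum_eq_single (0 : Fin p)]
  · simp
  · intro b _ hb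
    rw [if_neg]
    intro h
    apply hb
    exact Fin.ext (by simpa using h)
  · intro h; exact absurd (Finset.mem_univ _) h

section final

variable {G : Type*} [Group G] {p : ℕ} [hpF' : Fact p.Prime]

lemma mem_sylow_smul_iff {g x : G} {P : Sylow p G} : x ∈ g • P ↔ g⁻¹ * x * g ∈ P := by
  change x ∈ ((g • P : Sylow p G) : Subgroup G) ↔ _
  rw [Sylow.coe_subgroup_smul, Subgroup.mem_pointwise_smul_iff_inv_smul_mem,
    MulAut.smul_def, ← map_inv, MulAut.conj_apply, inv_inv]
  rfl

/-- a second Sylow subgroup from a commuting `p`-element outside `Q` -/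
lemma exists_sylow_of_commute [Finite G] (Q : Sylow p G) {x y : G} (hx : x ∈ Q) (hxy : Commute x y)
    (hy : y ^ p = 1) (hyQ : y ∉ Q) : ∃ P : Sylow p G, P ≠ Q ∧ x ∈ P := by
  have h1 : IsPGroup p (Subgroup.zpowers x) :=
    Q.isPGroup'.to_le (Subgroup.zpowers_le.mpr hx)
  have h2 : IsPGroup p (Subgroup.zpowers y) := by
    rintro ⟨g, hg⟩
    obtain ⟨n, rfl⟩ := Subgroup.mem_zpowers_iff.mp hg
    refine ⟨1, ?_⟩
    apply Subtype.ext
    rw [pow_one, Subgroup.coe_pow, Subgroup.coe_one, ← zpow_natCast, ← zpow_mul, mul_comm,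
      zpow_mul, zpow_natCast, hy, one_zpow]
  have h3 : Subgroup.zpowers y ≤ Subgroup.normalizer (Subgroup.zpowers x : Set G) := by
    rw [Subgroup.zpowers_le]
    rw [Subgroup.mem_normalizer_iff]
    intro h
    have hc : ∀ h ∈ Subgroup.zpowers x, y * h * y⁻¹ = h := by
      intro h hh
      obtain ⟨n, rfl⟩ := Subgroup.mem_zpowers_iff.mp hh
      have : Commute y (x ^ n) := (hxy.symm).zpow_right n
      rw [this.eq, mul_inv_cancel_right]
    constructor
    · intro hh
      rw [hc h hh]; exact hh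
    · intro hh
      have := hc _ hh
      have h5 : y⁻¹ * (y * h * y⁻¹) * y = h := by group
      rw [← h5]
      have h6 : y⁻¹ * (y * h * y⁻¹) * y = y * h * y⁻¹ := by
        have h7 : y * (y * h * y⁻¹) * y⁻¹ = y * h * y⁻¹ := this
        have h8 : y⁻¹ * (y * (y * h * y⁻¹) * y⁻¹) * y = y⁻¹ * (y * h * y⁻¹) * y := by rw [h7]
        rw [← h8]; group
      rw [h6]; exact hh
  obtain ⟨P, hP⟩ := (h1.to_sup_of_normal_left' h2 h3).exists_le_sylow
  refine ⟨P, ?_, hP (Subgroup.mem_sup_left (Subgroup.mem_zpowers x))⟩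
  intro h
  apply hyQ
  rw [← h]
  exact hP (Subgroup.mem_sup_right (Subgroup.mem_zpowers y))

/-- a second Sylow subgroup by conjugation -/
lemma exists_sylow_of_conj (Q : Sylow p G) {x h d : G} (hd : d ∈ Q) (hx : h⁻¹ * x * h ∈ Q)
    (hdQ : h * d * h⁻¹ ∉ Q) : ∃ P : Sylow p G, P ≠ Q ∧ x ∈ P := by
  refine ⟨h • Q, ?_, mem_sylow_smul_iff.mpr hx⟩
  intro heq
  apply hdQ
  rw [← heq, mem_sylow_smul_iff]
  have : h⁻¹ * (h * d * h⁻¹) * h = d := by group
  rw [this]
  exact hd

end final

theorem redundant_sylow {F : Type*} [Field F] [Fintype F] (p : ℕ) [hpF' : Fact p.Prime]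
    (hp : p ≠ 2) (h1 : p ∣ Fintype.card F - 1) (h2 : ¬ p ^ 2 ∣ Fintype.card F - 1) :
    ∃ Q : Sylow p (GL (Fin p) F), ∀ x : GL (Fin p) F, (∃ k : ℕ, orderOf x = p ^ k) →
      ∃ P : Sylow p (GL (Fin p) F), P ≠ Q ∧ x ∈ P := by
  classical
  have hpp := hpF'.out
  have hp3 : 3 ≤ p := by
    have := hpp.two_le
    omega
  have hq : 2 ≤ Fintype.card F := Fintype.one_lt_card
  -- primitive root
  have hdvd : p ∣ Nat.card Fˣ := by
    rw [Nat.card_units, Nat.card_eq_fintype_card]; exact h1
  obtain ⟨ω, hord⟩ := exists_prime_orderOf_dvd_card' p hdvd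
  have hω : ω ^ p = 1 := by rw [← hord]; exact pow_orderOf_eq_one ω
  have hω1 : ω ≠ 1 := by
    intro h
    rw [h, orderOf_one] at hord
    exact hpp.one_lt.ne hord
  have hprim : IsPrimitiveRoot ω p := by
    rw [← hord]; exact IsPrimitiveRoot.orderOf ω
  have hroots : Nat.card (rootsOfUnity p F) = p := hprim.card_rootsOfUnity'
  have hpF : (p : F) ≠ 0 := by
    intro h0
    obtain ⟨m, hm⟩ := h1
    have h3 : ((Fintype.card F - 1 : ℕ) : F) = 0 := by
      rw [hm, Nat.cast_mul, h0, zero_mul]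
    rw [Nat.cast_sub (by omega), FiniteField.cast_card_eq_zero, Nat.cast_one, zero_sub] at h3
    exact one_ne_zero (neg_eq_zero.mp h3)
  -- the Sylow subgroup
  have hcardI : Fintype.card (Fin p) = p := Fintype.card_fin p
  have hcard : Nat.card (Q0 (Fin p) F p) = p ^ (Nat.card (GL (Fin p) F)).factorization p := by
    rw [card_Q0 p hroots, hcardI, Matrix.card_GL_field, padic_GL_card _ p hp h1 h2 hq, pow_succ]
  set Q : Sylow p (GL (Fin p) F) := Sylow.ofCard (Q0 (Fin p) F p) hcard with hQ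
  have hQmem : ∀ g, g ∈ Q ↔ g ∈ Q0 (Fin p) F p := by
    intro g
    change g ∈ (Q : Subgroup (GL (Fin p) F)) ↔ _
    rw [hQ, Sylow.coe_ofCard]
  -- the key claim
  have key : ∀ x ∈ Q0 (Fin p) F p, ∃ P : Sylow p (GL (Fin p) F), P ≠ Q ∧ x ∈ P := by
    rintro _ ⟨t, k, ht, rfl⟩
    have hxQ : monoU t k ∈ Q := (hQmem _).mpr ⟨t, k, ht, rfl⟩
    by_cases hk : k = 0
    · subst hk
      by_cases hinj : Function.Injective t
      · obtain ⟨h, d, hd, hx, hdn⟩ := case_b hp3 ω hω hω1 t ht hinj
        exact exists_sylow_of_conj Q ((hQmem _).mpr hd) ((hQmem _).mpr hx)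
          (fun hc => hdn ((hQmem _).mp hc))
      · rw [Function.Injective] at hinj
        push Not at hinj
        obtain ⟨i, j, hij, hne⟩ := hinj
        obtain ⟨y, hc, hy, hyn⟩ := case_a (p := p) ω hω hω1 t hne hij
        exact exists_sylow_of_commute Q hxQ hc hy (fun hc => hyn ((hQmem _).mp hc))
    · by_cases hc : ∏ i, t i = 1
      · obtain ⟨y, hcm, hy, hyn⟩ := case_c hcardI hp3 hpF ω hω hω1 t hk hc
        exact exists_sylow_of_commute Q hxQ hcm hy (fun hc => hyn ((hQmem _).mp hc))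
      · obtain ⟨h, d, hd, hx, hdn⟩ := case_d hcardI hp3 ω hω hω1 t ht hk hc
        exact exists_sylow_of_conj Q ((hQmem _).mpr hd) ((hQmem _).mpr hx)
          (fun hc => hdn ((hQmem _).mp hc))
  refine ⟨Q, ?_⟩
  rintro x ⟨n, hn⟩
  have hxp : IsPGroup p (Subgroup.zpowers x) := by
    apply IsPGroup.of_card (n := n)
    rw [Nat.card_zpowers, hn]
  obtain ⟨P₀, hP₀⟩ := hxp.exists_le_sylow
  have hxP₀ : x ∈ P₀ := hP₀ (Subgroup.mem_zpowers x)
  obtain ⟨g, hg⟩ := MulAction.exists_smul_eq (GL (Fin p) F) Q P₀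
  have hx' : g⁻¹ * x * g ∈ Q := by
    rw [← hg] at hxP₀
    exact mem_sylow_smul_iff.mp hxP₀
  obtain ⟨P, hPQ, hxP⟩ := key _ ((hQmem _).mp hx')
  by_cases hgP : g • P = Q
  · refine ⟨P₀, ?_, hxP₀⟩
    intro h
    apply hPQ
    have : g • P = g • Q := by rw [hgP, hg, h]
    exact smul_left_cancel g this
  · exact ⟨g • P, hgP, mem_sylow_smul_iff.mpr hxP⟩

end Cfsg.Agent.Lib.Helper1.RSyl
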