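import Mathlib

/-!
# S3626-[P3] (helper26's front): element orders in a semidirect product with abelian kernel of prime exponent
-/

set_option autoImplicit false

namespace Cfsg.Agent.Lib.Helper26.ReeCube

/-- [P3] element orders in a semidirect product with abelian kernel of prime exponent -/
theorem orderOf_semidirect {N L : Type*} [CommGroup N] [Group L] (φ : L →* MulAut N) (p : ℕ)
    (hp : p.Prime) (hN : ∀ n : N, n ^ p = 1) (x : N ⋊[φ] L) (hfin : 0 < orderOf x.right) :
    orderOf x = orderOf x.right ∨
      (orderOf x = p * orderOf x.right ∧ ∃ w : N, w ≠ 1 ∧ φ x.right w = w) := by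
  set m := orderOf x.right with hm
  set y := x ^ m with hy
  have hyr : y.right = 1 := by
    have : y.right = x.right ^ m := by
      rw [hy, ← SemidirectProduct.rightHom_eq_right, map_pow]
    rw [this, hm, pow_orderOf_eq_one]
  have hyinl : y = SemidirectProduct.inl y.left := by
    apply SemidirectProduct.ext
    · rw [SemidirectProduct.left_inl]
    · rw [SemidirectProduct.right_inl, hyr]
  have hcomm : x * y = y * x := by rw [hy, ← pow_succ', ← pow_succ]
  have hfix : φ x.right y.left = y.left := by
    have h1 := congrArg SemidirectProduct.left hcomm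
    rw [SemidirectProduct.mul_left, SemidirectProduct.mul_left, hyr, map_one, MulAut.one_apply,
      mul_comm y.left] at h1
    exact mul_left_cancel h1
  have hmdvd : m ∣ orderOf x := by
    have := orderOf_map_dvd (SemidirectProduct.rightHom : N ⋊[φ] L →* L) x
    rwa [SemidirectProduct.rightHom_eq_right] at this
  by_cases hw : y.left = 1
  · left
    have hy1 : x ^ m = 1 := by
      rw [← hy, hyinl, hw, map_one]
    exact Nat.dvd_antisymm (orderOf_dvd_of_pow_eq_one hy1) hmdvd
  · right
    refine ⟨?_, y.left, hw, hfix⟩
    have hyp : x ^ (m * p) = 1 := by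
      rw [pow_mul, ← hy, hyinl, ← map_pow, hN, map_one]
    have hdvd : orderOf x ∣ m * p := orderOf_dvd_of_pow_eq_one hyp
    obtain ⟨j, hj⟩ := hmdvd
    rw [hj] at hdvd
    have hjp : j ∣ p := Nat.dvd_of_mul_dvd_mul_left hfin hdvd
    rcases (Nat.dvd_prime hp).mp hjp with h1 | h1
    · exfalso
      rw [h1, mul_one] at hj
      have hy1 : x ^ m = 1 := by rw [← hj, pow_orderOf_eq_one]
      apply hw
      have h2 : SemidirectProduct.inl (φ := φ) y.left = SemidirectProduct.inl 1 := by
        rw [← hyinl, hy, hy1, map_one]
      exact SemidirectProduct.inl_injective h2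
    · rw [hj, h1, mul_comm]

end Cfsg.Agent.Lib.Helper26.ReeCube
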