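import Cfsg.Agent.Lib.Helper14.S2276.Merge
import Cfsg.Agent.Lib.Helper14.S2276.Extract
import Cfsg.Agent.Lib.Helper14.S2276.CertA

/-! # S2276 farm, piece [A2] (helper1's version): an orbit of size `≥ 9` inside the block. -/

set_option autoImplicit false

namespace Cfsg.Agent.Lib.Helper14.S2276

open Equiv Equiv.Perm

variable {α : Type*} [Fintype α] [DecidableEq α]

namespace Helper1

/-- conjugating a full cycle on `S` by a permutation preserving `S`. -/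
theorem fullOn_conj (f κ : Perm α) (S : Finset α) (hf : FullOn f S)
    (hκ : ∀ x, κ x ∈ S ↔ x ∈ S) : FullOn (κ * f * κ⁻¹) S := by
  have hκ' : ∀ x, κ⁻¹ x ∈ S ↔ x ∈ S := by
    intro x
    rw [← hκ (κ⁻¹ x)]
    simp
  constructor
  · intro x hx
    have : κ⁻¹ x ∉ S := fun h => hx ((hκ' x).1 h)
    rw [Perm.mul_apply, Perm.mul_apply, hf.1 _ this]
    simp
  · intro x hx z hz
    rw [sameCycle_conj]
    exact hf.2 _ ((hκ' x).2 hx) _ ((hκ' z).2 hz)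

theorem swap_swap_comm {a b c d : α} (hac : a ≠ c) (had : a ≠ d) (hbc : b ≠ c) (hbd : b ≠ d) :
    swap a b * swap c d = swap c d * swap a b := by
  ext x
  simp only [Perm.mul_apply]
  by_cases h1 : x = a
  · subst h1
    rw [swap_apply_of_ne_of_ne hac had, swap_apply_left, swap_apply_of_ne_of_ne hbc hbd]
  by_cases h2 : x = b
  · subst h2
    rw [swap_apply_of_ne_of_ne hbc hbd, swap_apply_right, swap_apply_of_ne_of_ne hac had]
  by_cases h3 : x = c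
  · subst h3
    rw [swap_apply_left, swap_apply_of_ne_of_ne (Ne.symm hac) (Ne.symm hbc),
      swap_apply_of_ne_of_ne (Ne.symm had) (Ne.symm hbd), swap_apply_left]
  by_cases h4 : x = d
  · subst h4
    rw [swap_apply_right, swap_apply_of_ne_of_ne (Ne.symm had) (Ne.symm hbd),
      swap_apply_of_ne_of_ne (Ne.symm hac) (Ne.symm hbc), swap_apply_right]
  rw [swap_apply_of_ne_of_ne h3 h4, swap_apply_of_ne_of_ne h1 h2, swap_apply_of_ne_of_ne h3 h4]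

/-- facts about a product of two disjoint swaps -/
theorem two_swaps (a b c d : α) (hab : a ≠ b) (hcd : c ≠ d) (hac : a ≠ c) (had : a ≠ d)
    (hbc : b ≠ c) (hbd : b ≠ d) :
    Perm.sign (swap a b * swap c d) = 1 ∧ (swap a b * swap c d) * (swap a b * swap c d) = 1 ∧
      swap a b * swap c d ≠ 1 ∧
      ∀ x, (swap a b * swap c d) x ≠ x → x = a ∨ x = b ∨ x = c ∨ x = d := by
  refine ⟨?_, ?_, ?_, ?_⟩
  · rw [Perm.sign_mul, sign_swap hab, sign_swap hcd]; rfl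
  · have hc := swap_swap_comm hac had hbc hbd
    calc swap a b * swap c d * (swap a b * swap c d)
        = swap a b * (swap c d * swap a b) * swap c d := by group
      _ = swap a b * (swap a b * swap c d) * swap c d := by rw [hc]
      _ = (swap a b * swap a b) * (swap c d * swap c d) := by group
      _ = 1 := by rw [swap_mul_self, swap_mul_self, one_mul]
  · intro h
    have := congrArg (fun f : Perm α => f a) h
    simp only [Perm.mul_apply, Perm.one_apply] at this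
    rw [swap_apply_of_ne_of_ne hac had, swap_apply_left] at this
    exact hab this.symm
  · intro x hx
    by_contra hcon
    push Not at hcon
    obtain ⟨h1, h2, h3, h4⟩ := hcon
    apply hx
    rw [Perm.mul_apply, swap_apply_of_ne_of_ne h3 h4, swap_apply_of_ne_of_ne h1 h2]

theorem caseA_two_spare (p : ℕ) (hp : p.Prime) (hp2 : p ≠ 2) (w : Perm α)
    (hw : ∃ k : ℕ, orderOf w = p ^ k) (S : Finset α) (hS : Inv w S) (hScard : Odd S.card)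
    (y : α) (hy : y ∈ S) (hy9 : 9 ≤ mp w y) :
    ∃ σ₁ σ₂ κ : Perm α, FullOn σ₁ S ∧ Good p σ₁ (restr w S) ∧ Good p σ₂ (restr w S) ∧
      σ₂ = κ * σ₁ * κ⁻¹ ∧ Perm.sign κ = -1 ∧ (∀ x, x ∉ S → κ x = x) := by
  set ρ : Perm α := restr w S with hρdef
  have hρS : Inv ρ S := restr_inv_mem w S hS
  have hmp : mp ρ y = mp w y := mp_restr w S hS y hy
  have hpodd : Odd p := hp.odd_of_ne_two hp2
  have hbodd : Odd (mp ρ y) := by
    rw [hmp]
    obtain ⟨i, hi⟩ := mp_prime_pow p hp w hw y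
    rw [hi]; exact hpodd.pow
  have hb9 : 9 ≤ mp ρ y := by rw [hmp]; exact hy9
  have hb5 : 5 ≤ mp ρ y := le_trans (by norm_num) hb9
  -- sign of ρ
  have hρord : ∃ k : ℕ, orderOf ρ = p ^ k := by
    obtain ⟨k, hk⟩ := hw
    have hd : orderOf ρ ∣ p ^ k := by rw [← hk]; exact orderOf_restr_dvd w S hS
    obtain ⟨m, _, hm⟩ := (Nat.dvd_prime_pow hp).1 hd
    exact ⟨m, hm⟩
  have hρsign : Perm.sign ρ = 1 := sign_eq_one_of_prime_pow p hp hp2 ρ hρord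
  -- the points
  have hyS : ∀ i : ℕ, (ρ ^ i) y ∈ S := fun i => (Helper1.inv_pow ρ S hρS i y).2 hy
  have hne : ∀ i j : ℕ, i < 9 → j < 9 → i ≠ j → (ρ ^ i) y ≠ (ρ ^ j) y := by
    intro i j hi hj hij h
    have := (pow_apply_eq_iff ρ y i j).1 h
    exact hij (this.eq_of_lt_of_lt (lt_of_lt_of_le hi hb9) (lt_of_lt_of_le hj hb9))
  have hS2 : 2 ≤ S.card := by
    have h01 : (ρ ^ 0) y ≠ (ρ ^ 1) y := hne 0 1 (by norm_num) (by norm_num) (by norm_num)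
    have : 1 < S.card := Finset.one_lt_card.2 ⟨_, hyS 0, _, hyS 1, h01⟩
    exact this
  -- F
  set F : Finset α := (Finset.range 7).image (fun i => (ρ ^ i) y) with hF
  have hFmem : ∀ x, x ∈ F ↔ ∃ i, i < 7 ∧ (ρ ^ i) y = x := by
    intro x
    rw [hF, Finset.mem_image]
    constructor
    · rintro ⟨i, hi, rfl⟩; exact ⟨i, Finset.mem_range.1 hi, rfl⟩
    · rintro ⟨i, hi, rfl⟩; exact ⟨i, Finset.mem_range.2 hi, rfl⟩
  have hyF : ∀ i, i < 7 → (ρ ^ i) y ∈ F := fun i hi => (hFmem _).2 ⟨i, hi, rfl⟩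
  have h7F : (ρ ^ 7) y ∉ F := by
    intro h
    obtain ⟨i, hi, h'⟩ := (hFmem _).1 h
    exact hne i 7 (by omega) (by norm_num) (by omega) h'
  -- merge
  have hπ : ∀ x, x ∉ S → ρ⁻¹ x = x := by
    intro x hx
    rw [Perm.inv_eq_iff_eq]
    exact (restr_apply_not_mem w S x hx).symm
  have hFF : ∀ x ∈ S, ∃ k : ℕ, ((ρ⁻¹) ^ k) x ∉ F := by
    intro x _
    by_cases hxF : x ∈ F
    · obtain ⟨i, hi, rfl⟩ := (hFmem _).1 hxF
      -- ρ^i y = ρ^k (ρ^7 y) with k = i + b - 7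
      refine ⟨i + mp ρ y - 7, ?_⟩
      have hk : (ρ ^ (i + mp ρ y - 7)) ((ρ ^ 7) y) = (ρ ^ i) y := by
        rw [← Perm.mul_apply, ← pow_add]
        have : i + mp ρ y - 7 + 7 = i + mp ρ y := by omega
        rw [this]
        apply (pow_apply_eq_iff ρ y _ _).2
        unfold Nat.ModEq
        simp
      rw [← hk]
      have hz : ((ρ⁻¹) ^ (i + mp ρ y - 7)) ((ρ ^ (i + mp ρ y - 7)) ((ρ ^ 7) y))
          = (ρ ^ 7) y := by
        rw [_root_.inv_pow]; simp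
      rw [hz]; exact h7F
    · exact ⟨0, by simpa using hxF⟩
  obtain ⟨lam, hlam, hlamF, hlamS, hfull0⟩ := merge (ρ⁻¹) S F hπ hFF
  -- κ's preserve S
  have hswapS : ∀ i j : ℕ, ∀ x, (swap ((ρ ^ i) y) ((ρ ^ j) y)) x ∈ S ↔ x ∈ S := by
    intro i j x
    by_cases h1 : x = (ρ ^ i) y
    · subst h1; rw [swap_apply_left]; exact ⟨fun _ => hyS i, fun _ => hyS j⟩
    by_cases h2 : x = (ρ ^ j) y
    · subst h2; rw [swap_apply_right]; exact ⟨fun _ => hyS j, fun _ => hyS i⟩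
    rw [swap_apply_of_ne_of_ne h1 h2]
  -- swaps of F-points commute with lam
  have hswaplam : ∀ i j : ℕ, i < 7 → j < 7 →
      swap ((ρ ^ i) y) ((ρ ^ j) y) * lam = lam * swap ((ρ ^ i) y) ((ρ ^ j) y) := by
    intro i j hi hj
    have hd : Perm.Disjoint (swap ((ρ ^ i) y) ((ρ ^ j) y)) lam := by
      intro x
      by_cases hxF : x ∈ F
      · exact Or.inr (hlamF x hxF)
      · left
        apply swap_apply_of_ne_of_ne
        · intro h; exact hxF (h ▸ hyF i hi)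
        · intro h; exact hxF (h ▸ hyF j hj)
    exact hd.commute.eq
  -- conjugating swaps by ρ⁻¹
  have hconj : ∀ i j : ℕ, ρ⁻¹ * swap ((ρ ^ (i + 1)) y) ((ρ ^ (j + 1)) y) * ρ
      = swap ((ρ ^ i) y) ((ρ ^ j) y) := by
    intro i j
    have := swap_apply_apply (ρ⁻¹) ((ρ ^ (i + 1)) y) ((ρ ^ (j + 1)) y)
    rw [inv_inv] at this
    rw [← this]
    congr 1
    · rw [pow_succ', Perm.mul_apply]; simp
    · rw [pow_succ', Perm.mul_apply]; simp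
  -- the two involutions (in the form of the certificates)
  set e₁ : Perm α := swap y ((ρ ^ 2) y) * swap (ρ y) ((ρ ^ 3) y) with he₁
  set e₂ : Perm α := swap y ((ρ ^ 4) y) * swap ((ρ ^ 2) y) ((ρ ^ 6) y) with he₂
  have hy0 : y = (ρ ^ 0) y := by simp
  have hy1 : ρ y = (ρ ^ 1) y := by simp
  have N : ∀ i j : ℕ, i < 9 → j < 9 → i ≠ j → (ρ ^ i) y ≠ (ρ ^ j) y := hne
  have he₁' : e₁ = swap ((ρ ^ 0) y) ((ρ ^ 2) y) * swap ((ρ ^ 1) y) ((ρ ^ 3) y) := by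
    rw [he₁, ← hy0, ← hy1]
  have he₂' : e₂ = swap ((ρ ^ 0) y) ((ρ ^ 4) y) * swap ((ρ ^ 2) y) ((ρ ^ 6) y) := by
    rw [he₂, ← hy0]
  set κ₁ : Perm α := swap ((ρ ^ 1) y) ((ρ ^ 3) y) with hκ₁
  set κ₂ : Perm α := swap ((ρ ^ 1) y) ((ρ ^ 5) y) * swap ((ρ ^ 2) y) ((ρ ^ 6) y) with hκ₂
  set σ₀ : Perm α := lam * ρ⁻¹ with hσ₀
  -- σ₁
  have hσ₁ : κ₁ * σ₀ * κ₁⁻¹ = lam * e₁ * ρ⁻¹ := by
    have h1 : κ₁ * lam = lam * κ₁ := hswaplam 1 3 (by norm_num) (by norm_num)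
    have h2 : ρ⁻¹ * κ₁ * ρ = swap ((ρ ^ 0) y) ((ρ ^ 2) y) := hconj 0 2
    have h3 : κ₁⁻¹ = κ₁ := swap_inv _ _
    have h4 : e₁ = κ₁ * (ρ⁻¹ * κ₁ * ρ) := by
      rw [h2, he₁', hκ₁]
      exact (swap_swap_comm (N 1 0 (by norm_num) (by norm_num) (by norm_num))
        (N 1 2 (by norm_num) (by norm_num) (by norm_num))
        (N 3 0 (by norm_num) (by norm_num) (by norm_num))
        (N 3 2 (by norm_num) (by norm_num) (by norm_num))).symm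
    rw [h4, h3, hσ₀]
    calc κ₁ * (lam * ρ⁻¹) * κ₁ = (κ₁ * lam) * ρ⁻¹ * κ₁ := by group
      _ = (lam * κ₁) * ρ⁻¹ * κ₁ := by rw [h1]
      _ = lam * (κ₁ * (ρ⁻¹ * κ₁ * ρ)) * ρ⁻¹ := by group
  -- σ₂
  have hσ₂ : κ₂ * σ₀ * κ₂⁻¹ = lam * e₂ * ρ⁻¹ := by
    have ha : swap ((ρ ^ 1) y) ((ρ ^ 5) y) * lam = lam * swap ((ρ ^ 1) y) ((ρ ^ 5) y) :=
      hswaplam 1 5 (by norm_num) (by norm_num)
    have hb : swap ((ρ ^ 2) y) ((ρ ^ 6) y) * lam = lam * swap ((ρ ^ 2) y) ((ρ ^ 6) y) :=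
      hswaplam 2 6 (by norm_num) (by norm_num)
    have h1 : κ₂ * lam = lam * κ₂ := by
      rw [hκ₂]
      calc swap ((ρ ^ 1) y) ((ρ ^ 5) y) * swap ((ρ ^ 2) y) ((ρ ^ 6) y) * lam
          = swap ((ρ ^ 1) y) ((ρ ^ 5) y) * (swap ((ρ ^ 2) y) ((ρ ^ 6) y) * lam) := by group
        _ = swap ((ρ ^ 1) y) ((ρ ^ 5) y) * (lam * swap ((ρ ^ 2) y) ((ρ ^ 6) y)) := by rw [hb]
        _ = (swap ((ρ ^ 1) y) ((ρ ^ 5) y) * lam) * swap ((ρ ^ 2) y) ((ρ ^ 6) y) := by group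
        _ = (lam * swap ((ρ ^ 1) y) ((ρ ^ 5) y)) * swap ((ρ ^ 2) y) ((ρ ^ 6) y) := by rw [ha]
        _ = lam * (swap ((ρ ^ 1) y) ((ρ ^ 5) y) * swap ((ρ ^ 2) y) ((ρ ^ 6) y)) := by group
    have c15_26 : swap ((ρ ^ 1) y) ((ρ ^ 5) y) * swap ((ρ ^ 2) y) ((ρ ^ 6) y)
        = swap ((ρ ^ 2) y) ((ρ ^ 6) y) * swap ((ρ ^ 1) y) ((ρ ^ 5) y) :=
      swap_swap_comm (N 1 2 (by norm_num) (by norm_num) (by norm_num))
        (N 1 6 (by norm_num) (by norm_num) (by norm_num))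
        (N 5 2 (by norm_num) (by norm_num) (by norm_num))
        (N 5 6 (by norm_num) (by norm_num) (by norm_num))
    have c15_04 : swap ((ρ ^ 1) y) ((ρ ^ 5) y) * swap ((ρ ^ 0) y) ((ρ ^ 4) y)
        = swap ((ρ ^ 0) y) ((ρ ^ 4) y) * swap ((ρ ^ 1) y) ((ρ ^ 5) y) :=
      swap_swap_comm (N 1 0 (by norm_num) (by norm_num) (by norm_num))
        (N 1 4 (by norm_num) (by norm_num) (by norm_num))
        (N 5 0 (by norm_num) (by norm_num) (by norm_num))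
        (N 5 4 (by norm_num) (by norm_num) (by norm_num))
    have c26_04 : swap ((ρ ^ 2) y) ((ρ ^ 6) y) * swap ((ρ ^ 0) y) ((ρ ^ 4) y)
        = swap ((ρ ^ 0) y) ((ρ ^ 4) y) * swap ((ρ ^ 2) y) ((ρ ^ 6) y) :=
      swap_swap_comm (N 2 0 (by norm_num) (by norm_num) (by norm_num))
        (N 2 4 (by norm_num) (by norm_num) (by norm_num))
        (N 6 0 (by norm_num) (by norm_num) (by norm_num))
        (N 6 4 (by norm_num) (by norm_num) (by norm_num))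
    have h3 : κ₂⁻¹ = swap ((ρ ^ 2) y) ((ρ ^ 6) y) * swap ((ρ ^ 1) y) ((ρ ^ 5) y) := by
      rw [hκ₂, mul_inv_rev, swap_inv, swap_inv]
    have h2 : ρ⁻¹ * κ₂⁻¹ * ρ
        = swap ((ρ ^ 1) y) ((ρ ^ 5) y) * swap ((ρ ^ 0) y) ((ρ ^ 4) y) := by
      rw [h3]
      calc ρ⁻¹ * (swap ((ρ ^ 2) y) ((ρ ^ 6) y) * swap ((ρ ^ 1) y) ((ρ ^ 5) y)) * ρ
          = (ρ⁻¹ * swap ((ρ ^ (1 + 1)) y) ((ρ ^ (5 + 1)) y) * ρ) *
            (ρ⁻¹ * swap ((ρ ^ (0 + 1)) y) ((ρ ^ (4 + 1)) y) * ρ) := by group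
        _ = swap ((ρ ^ 1) y) ((ρ ^ 5) y) * swap ((ρ ^ 0) y) ((ρ ^ 4) y) := by
            rw [hconj 1 5, hconj 0 4]
    have h4 : e₂ = κ₂ * (ρ⁻¹ * κ₂⁻¹ * ρ) := by
      rw [h2, he₂', hκ₂]
      calc swap ((ρ ^ 0) y) ((ρ ^ 4) y) * swap ((ρ ^ 2) y) ((ρ ^ 6) y)
          = swap ((ρ ^ 2) y) ((ρ ^ 6) y) * swap ((ρ ^ 0) y) ((ρ ^ 4) y) := c26_04.symm
        _ = swap ((ρ ^ 2) y) ((ρ ^ 6) y) *
              ((swap ((ρ ^ 1) y) ((ρ ^ 5) y) * swap ((ρ ^ 1) y) ((ρ ^ 5) y)) *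
                swap ((ρ ^ 0) y) ((ρ ^ 4) y)) := by rw [swap_mul_self, one_mul]
        _ = (swap ((ρ ^ 2) y) ((ρ ^ 6) y) * swap ((ρ ^ 1) y) ((ρ ^ 5) y)) *
              (swap ((ρ ^ 1) y) ((ρ ^ 5) y) * swap ((ρ ^ 0) y) ((ρ ^ 4) y)) := by group
        _ = swap ((ρ ^ 1) y) ((ρ ^ 5) y) * swap ((ρ ^ 2) y) ((ρ ^ 6) y) *
              (swap ((ρ ^ 1) y) ((ρ ^ 5) y) * swap ((ρ ^ 0) y) ((ρ ^ 4) y)) := by rw [c15_26]
    rw [h4, hσ₀]
    calc κ₂ * (lam * ρ⁻¹) * κ₂⁻¹ = (κ₂ * lam) * ρ⁻¹ * κ₂⁻¹ := by group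
      _ = (lam * κ₂) * ρ⁻¹ * κ₂⁻¹ := by rw [h1]
      _ = lam * (κ₂ * (ρ⁻¹ * κ₂⁻¹ * ρ)) * ρ⁻¹ := by group
  -- κ's preserve S
  have hκ₁S : ∀ x, κ₁ x ∈ S ↔ x ∈ S := hswapS 1 3
  have hκ₂S : ∀ x, κ₂ x ∈ S ↔ x ∈ S := by
    intro x
    rw [hκ₂, Perm.mul_apply, hswapS 1 5, hswapS 2 6]
  have hfull1 : FullOn (κ₁ * σ₀ * κ₁⁻¹) S := fullOn_conj σ₀ κ₁ S hfull0 hκ₁S
  have hfull2 : FullOn (κ₂ * σ₀ * κ₂⁻¹) S := fullOn_conj σ₀ κ₂ S hfull0 hκ₂S
  -- facts on e₁, e₂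
  obtain ⟨s1, q1, n1, m1⟩ := two_swaps ((ρ ^ 0) y) ((ρ ^ 2) y) ((ρ ^ 1) y) ((ρ ^ 3) y)
    (N 0 2 (by norm_num) (by norm_num) (by norm_num))
    (N 1 3 (by norm_num) (by norm_num) (by norm_num))
    (N 0 1 (by norm_num) (by norm_num) (by norm_num))
    (N 0 3 (by norm_num) (by norm_num) (by norm_num))
    (N 2 1 (by norm_num) (by norm_num) (by norm_num))
    (N 2 3 (by norm_num) (by norm_num) (by norm_num))
  obtain ⟨s2, q2, n2, m2⟩ := two_swaps ((ρ ^ 0) y) ((ρ ^ 4) y) ((ρ ^ 2) y) ((ρ ^ 6) y)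
    (N 0 4 (by norm_num) (by norm_num) (by norm_num))
    (N 2 6 (by norm_num) (by norm_num) (by norm_num))
    (N 0 2 (by norm_num) (by norm_num) (by norm_num))
    (N 0 6 (by norm_num) (by norm_num) (by norm_num))
    (N 4 2 (by norm_num) (by norm_num) (by norm_num))
    (N 4 6 (by norm_num) (by norm_num) (by norm_num))
  rw [← he₁'] at s1 q1 n1 m1
  rw [← he₂'] at s2 q2 n2 m2
  have hdisj1 : ∀ x, e₁ x ≠ x → lam x = x := by
    intro x hx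
    apply hlamF
    rcases m1 x hx with h | h | h | h <;> rw [h]
    · exact hyF 0 (by norm_num)
    · exact hyF 2 (by norm_num)
    · exact hyF 1 (by norm_num)
    · exact hyF 3 (by norm_num)
  have hdisj2 : ∀ x, e₂ x ≠ x → lam x = x := by
    intro x hx
    apply hlamF
    rcases m2 x hx with h | h | h | h <;> rw [h]
    · exact hyF 0 (by norm_num)
    · exact hyF 4 (by norm_num)
    · exact hyF 2 (by norm_num)
    · exact hyF 6 (by norm_num)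
  have hcert1 : ¬ Group.IsSolvable (Subgroup.closure ({ρ, e₁} : Set (Perm α))) :=
    cert_A1 ρ y hbodd hb5
  have hcert2 : ¬ Group.IsSolvable (Subgroup.closure ({ρ, e₂} : Set (Perm α))) :=
    cert_A1_sq ρ y hbodd hb5
  have hgood1 : Good p (κ₁ * σ₀ * κ₁⁻¹) ρ := by
    rw [hσ₁]
    exact good_of_merge p hp hp2 ρ e₁ lam S hScard hS2 hρsign s1 q1 n1 hlam hdisj1
      (hσ₁ ▸ hfull1) hcert1
  have hgood2 : Good p (κ₂ * σ₀ * κ₂⁻¹) ρ := by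
    rw [hσ₂]
    exact good_of_merge p hp hp2 ρ e₂ lam S hScard hS2 hρsign s2 q2 n2 hlam hdisj2
      (hσ₂ ▸ hfull2) hcert2
  refine ⟨κ₁ * σ₀ * κ₁⁻¹, κ₂ * σ₀ * κ₂⁻¹, κ₂ * κ₁⁻¹, hfull1, hgood1, hgood2, ?_, ?_, ?_⟩
  · group
  · rw [Perm.sign_mul, Perm.sign_inv, hκ₁, hκ₂, Perm.sign_mul,
      sign_swap (N 1 3 (by norm_num) (by norm_num) (by norm_num)),
      sign_swap (N 1 5 (by norm_num) (by norm_num) (by norm_num)),
      sign_swap (N 2 6 (by norm_num) (by norm_num) (by norm_num))]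
    rfl
  · intro x hx
    have h1 : κ₁⁻¹ x = x := by
      rw [Perm.inv_eq_iff_eq]
      by_contra h
      have : κ₁ x ∈ S ↔ x ∈ S := hκ₁S x
      have hx1 : x = (ρ ^ 1) y ∨ x = (ρ ^ 3) y := by
        by_contra hcon
        push Not at hcon
        exact h (by rw [hκ₁, swap_apply_of_ne_of_ne hcon.1 hcon.2])
      rcases hx1 with h' | h' <;> exact hx (h' ▸ hyS _)
    rw [Perm.mul_apply, h1]
    by_contra h
    have hx2 : x = (ρ ^ 1) y ∨ x = (ρ ^ 5) y ∨ x = (ρ ^ 2) y ∨ x = (ρ ^ 6) y := by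
      by_contra hcon
      push Not at hcon
      exact h (by rw [hκ₂, Perm.mul_apply, swap_apply_of_ne_of_ne hcon.2.2.1 hcon.2.2.2,
        swap_apply_of_ne_of_ne hcon.1 hcon.2.1])
    rcases hx2 with h' | h' | h' | h' <;> exact hx (h' ▸ hyS _)

end Helper1

end Cfsg.Agent.Lib.Helper14.S2276
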