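import Mathlib
import Cfsg.Prelude.Def_LocalEven
import Cfsg.Agent.Lib.Helper18.S4Section
import Cfsg.Agent.Lib.Helper10.PGroup
import Cfsg.Agent.Lib.Helper22.PElt
import Cfsg.Agent.Lib.Helper27.Involves
import Cfsg.Agent.Lib.Helper1.CoprimeAbelian

/-!
# `S₄` is involved in `G` iff `S₃` is involved in some `N_G(T)/C_G(T)`, `T` a `2`-subgroup

* `involves_s4_of_abelian`, `involves_s4_of_act`, `involves_s4_of_elements`: producing a section `S₄`
  from a `3`-element acting nontrivially on a `2`-group and inverted by a `2`-element.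
* `exists_inverting`: a group mapping onto `S₃` contains a `3`-element outside the kernel inverted by
  a `2`-element.
* `involves_s4_of_local`, `exists_local_of_involves_s4`: the two directions.
-/

set_option autoImplicit false

open scoped commutatorElement Pointwise
open Subgroup

namespace Cfsg.Agent.Lib.Helper1.S4Inv

universe u

section Four

variable {Q : Type*} [Group Q]

/-- the four-group generated by two commuting involutions -/
def fourSub (a b : Q) (ha : a * a = 1) (hb : b * b = 1) (hab : a * b = b * a) : Subgroup Q where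
  carrier := {x | x = 1 ∨ x = a ∨ x = b ∨ x = a * b}
  one_mem' := Or.inl rfl
  mul_mem' := by
    have e1 : a * (a * b) = b := by rw [← mul_assoc, ha, one_mul]
    have e2 : b * (a * b) = a := by rw [hab, ← mul_assoc, hb, one_mul]
    have e3 : a * b * a = b := by rw [hab, mul_assoc, ha, mul_one]
    have e4 : a * b * b = a := by rw [mul_assoc, hb, mul_one]
    have e5 : a * b * (a * b) = 1 := by rw [mul_assoc, e2, ha]
    intro x y hx hy
    simp only [Set.mem_ofPred_eq] at hx hy ⊢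
    rcases hx with hx|hx|hx|hx <;> rcases hy with hy|hy|hy|hy <;> subst hx <;> subst hy
    · left; rw [one_mul]
    · right; left; rw [one_mul]
    · right; right; left; rw [one_mul]
    · right; right; right; rw [one_mul]
    · right; left; rw [mul_one]
    · left; exact ha
    · right; right; right; rfl
    · right; right; left; exact e1
    · right; right; left; rw [mul_one]
    · right; right; right; exact hab.symm
    · left; exact hb
    · right; left; exact e2
    · right; right; right; rw [mul_one]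
    · right; right; left; exact e3
    · right; left; exact e4
    · left; exact e5
  inv_mem' := by
    have i1 : a⁻¹ = a := inv_eq_of_mul_eq_one_left ha
    have i2 : b⁻¹ = b := inv_eq_of_mul_eq_one_left hb
    intro x hx
    simp only [Set.mem_ofPred_eq] at hx ⊢
    rcases hx with hx|hx|hx|hx <;> subst hx
    · left; exact inv_one
    · right; left; exact i1
    · right; right; left; exact i2
    · right; right; right; rw [mul_inv_rev, i1, i2, hab]

theorem mem_fourSub {a b : Q} {ha : a * a = 1} {hb : b * b = 1} {hab : a * b = b * a} {x : Q} :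
    x ∈ fourSub a b ha hb hab ↔ x = 1 ∨ x = a ∨ x = b ∨ x = a * b := Iff.rfl

theorem card_fourSub {a b : Q} (ha : a * a = 1) (hb : b * b = 1) (hab : a * b = b * a)
    (ha1 : a ≠ 1) (hb1 : b ≠ 1) (hne : a ≠ b) : Nat.card (fourSub a b ha hb hab) = 4 := by
  classical
  have hset : ((fourSub a b ha hb hab : Subgroup Q) : Set Q) = {1, a, b, a * b} := by
    ext x
    simp only [SetLike.mem_coe, mem_fourSub, Set.mem_insert_iff, Set.mem_singleton_iff]
  have hab1 : a * b ≠ 1 := by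
    intro h
    apply hne
    have : a = b⁻¹ := eq_inv_of_mul_eq_one_left h
    rw [this, inv_eq_of_mul_eq_one_left hb]
  rw [← SetLike.coe_sort_coe, Nat.card_coe_set_eq, hset]
  rw [Set.ncard_insert_of_notMem, Set.ncard_insert_of_notMem, Set.ncard_insert_of_notMem,
    Set.ncard_singleton]
  · simp only [Set.mem_singleton_iff]
    intro h
    apply ha1
    have : 1 * b = a * b := by rw [one_mul]; exact h
    exact (mul_right_cancel this).symm
  · simp only [Set.mem_insert_iff, Set.mem_singleton_iff, not_or]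
    refine ⟨hne, ?_⟩
    intro h
    apply hb1
    have : a * 1 = a * b := by rw [mul_one]; exact h
    exact (mul_left_cancel this).symm
  · simp only [Set.mem_insert_iff, Set.mem_singleton_iff, not_or]
    exact ⟨fun h => ha1 h.symm, fun h => hb1 h.symm, fun h => hab1 h.symm⟩

end Four

section B1

variable {Q : Type u} [Group Q] [Finite Q]

theorem exists_central_involution (V : Subgroup Q) (hV2 : IsPGroup 2 V) (hVne : V ≠ ⊥) (t : Q)
    (htV : t ∈ normalizer (V : Set Q)) (ht2 : ∃ k : ℕ, orderOf t = 2 ^ k) :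
    ∃ v ∈ V, v ≠ 1 ∧ v * v = 1 ∧ t * v = v * t := by
  classical
  have hp2 : Fact (Nat.Prime 2) := ⟨Nat.prime_two⟩
  have hZt : IsPGroup 2 (zpowers t) := by
    obtain ⟨k, hk⟩ := ht2
    apply IsPGroup.of_card (n := k)
    rw [Nat.card_zpowers, hk]
  have hZV : zpowers t ≤ normalizer (V : Set Q) := by rw [zpowers_le]; exact htV
  set P : Subgroup Q := zpowers t ⊔ V with hP
  have hP2 : IsPGroup 2 P := IsPGroup.to_sup_of_normal_right' hZt hV2 hZV
  have hVP : V ≤ P := le_sup_right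
  have htP : t ∈ P := (le_sup_left : zpowers t ≤ P) (mem_zpowers t)
  have hPN : P ≤ normalizer (V : Set Q) := sup_le hZV le_normalizer
  have hVn : (V.subgroupOf P).Normal := by
    rw [← Subgroup.normal_subgroupOf_iff_le_normalizer hVP] at hPN
    exact hPN
  have hne : V.subgroupOf P ≠ ⊥ := by
    intro h
    apply hVne
    rw [Subgroup.subgroupOf_eq_bot] at h
    rw [disjoint_iff, inf_of_le_left hVP] at h
    exact h
  have hcen := Cfsg.Agent.Lib.Helper10.normal_inf_center_ne_bot hP2 (V.subgroupOf P) hne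
  -- the intersection is a nontrivial 2-group, so contains an involution
  set Z : Subgroup P := V.subgroupOf P ⊓ center P with hZ
  have hZ2 : IsPGroup 2 Z := hP2.to_subgroup Z
  have hZcard : Nat.card Z ≠ 1 := by
    rw [Ne, Subgroup.card_eq_one]; exact hcen
  obtain ⟨k, hk⟩ := hZ2.exists_card_eq
  have hk0 : k ≠ 0 := by
    intro h; rw [h, pow_zero] at hk; exact hZcard hk
  have hdvd : 2 ∣ Nat.card Z := by rw [hk]; exact dvd_pow_self 2 hk0
  obtain ⟨z, hz⟩ := exists_prime_orderOf_dvd_card' 2 hdvd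
  have hzV : ((z : P) : Q) ∈ V := by
    have h0 : (z : P) ∈ V.subgroupOf P ⊓ center P := z.2
    exact Subgroup.mem_subgroupOf.mp (Subgroup.mem_inf.mp h0).1
  have hzc : (z : P) ∈ center P := by
    have h0 : (z : P) ∈ V.subgroupOf P ⊓ center P := z.2
    exact (Subgroup.mem_inf.mp h0).2
  refine ⟨((z : P) : Q), hzV, ?_, ?_, ?_⟩
  · intro h
    have h1 : z = 1 := by
      apply Subtype.ext; apply Subtype.ext; exact h
    rw [h1, orderOf_one] at hz
    norm_num at hz
  · have h1 : z ^ 2 = 1 := by rw [← hz]; exact pow_orderOf_eq_one z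
    have h2 : (((z ^ 2 : Z) : P) : Q) = 1 := by rw [h1]; rfl
    rw [← h2, pow_two]
    rfl
  · have := Subgroup.mem_center_iff.mp hzc ⟨t, htP⟩
    have h2 := congrArg (Subtype.val) this
    exact h2


theorem involves_s4_of_abelian (V : Subgroup Q) [IsMulCommutative V] (hV2 : IsPGroup 2 V)
    (hVne : V ≠ ⊥) (y t : Q) (hyV : y ∈ normalizer (V : Set Q)) (htV : t ∈ normalizer (V : Set Q))
    (hy3 : orderOf y = 3) (hty : t * y * t⁻¹ = y⁻¹) (ht2 : ∃ k : ℕ, orderOf t = 2 ^ k)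
    (hcomm : ⁅V, zpowers y⁆ = V) :
    Cfsg.Involves (Equiv.Perm (Fin 4)) Q := by
  classical
  have hp2 : Fact (Nat.Prime 2) := ⟨Nat.prime_two⟩
  obtain ⟨A, hA⟩ : ∃ A : Subgroup Q, A = zpowers y := ⟨_, rfl⟩
  rw [← hA] at hcomm
  have hAcard : Nat.card A = 3 := by rw [hA, Nat.card_zpowers, hy3]
  have hAV : A ≤ normalizer (V : Set Q) := by rw [hA, zpowers_le]; exact hyV
  obtain ⟨n, hn⟩ := hV2.exists_card_eq
  have hcop : (Nat.card A).Coprime (Nat.card V) := by
    rw [hAcard, hn]; exact Nat.Coprime.pow_right n (by norm_num)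
  have hfix : V ⊓ centralizer (A : Set Q) = ⊥ := by
    have := abelian_centralizer_inf_commutator_eq_bot A V hAV hcop
    rw [hcomm, inf_of_le_left inf_le_left] at this
    exact this
  have hy3' : y ^ 3 = 1 := by rw [← hy3]; exact pow_orderOf_eq_one y
  have hyyy : y * y * y = 1 := by
    have := hy3'
    rwa [pow_succ, pow_succ, pow_one] at this
  have hyinv : y⁻¹ = y * y := by
    rw [inv_eq_iff_mul_eq_one, ← mul_assoc]; exact hyyy
  -- membership in the fixed point subgroup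
  have hfix' : ∀ w ∈ V, y * w * y⁻¹ = w → w = 1 := by
    intro w hw hyw
    have hc : Commute y w := by
      show y * w = w * y
      calc y * w = (y * w * y⁻¹) * y := by group
        _ = w * y := by rw [hyw]
    have : w ∈ V ⊓ centralizer (A : Set Q) := by
      refine Subgroup.mem_inf.mpr ⟨hw, ?_⟩
      rw [Subgroup.mem_centralizer_iff]
      intro a ha
      rw [hA] at ha
      obtain ⟨k, rfl⟩ := Subgroup.mem_zpowers_iff.mp ha
      exact (hc.zpow_left k).eq
    rw [hfix] at this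
    exact Subgroup.mem_bot.mp this
  have hconjV : ∀ w ∈ V, y * w * y⁻¹ ∈ V := fun w hw =>
    (Subgroup.mem_normalizer_iff.mp hyV w).mp hw
  have hcommV : ∀ a ∈ V, ∀ b ∈ V, a * b = b * a := by
    intro a ha b hb
    have := (IsMulCommutative.is_comm (M := V)).comm ⟨a, ha⟩ ⟨b, hb⟩
    exact congrArg Subtype.val this
  obtain ⟨v, hvV, hv1, hvv, htv⟩ := exists_central_involution V hV2 hVne t htV ht2
  obtain ⟨v', hv'⟩ : ∃ v' : Q, v' = y * v * y⁻¹ := ⟨_, rfl⟩
  obtain ⟨v'', hv''⟩ : ∃ v'' : Q, v'' = y * v' * y⁻¹ := ⟨_, rfl⟩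
  have hv'V : v' ∈ V := by rw [hv']; exact hconjV v hvV
  have hv''V : v'' ∈ V := by rw [hv'']; exact hconjV v' hv'V
  have hv'v' : v' * v' = 1 := by
    rw [hv']
    calc y * v * y⁻¹ * (y * v * y⁻¹) = y * (v * v) * y⁻¹ := by group
      _ = 1 := by rw [hvv]; group
  have hyv'' : y * v'' * y⁻¹ = v := by
    rw [hv'', hv']
    calc y * (y * (y * v * y⁻¹) * y⁻¹) * y⁻¹ = (y * y * y) * v * (y * y * y)⁻¹ := by group
      _ = v := by rw [hyyy]; group
  have hprod : v * v' * v'' = 1 := by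
    apply hfix' _ (mul_mem (mul_mem hvV hv'V) hv''V)
    calc y * (v * v' * v'') * y⁻¹ = (y * v * y⁻¹) * (y * v' * y⁻¹) * (y * v'' * y⁻¹) := by group
      _ = v' * v'' * v := by rw [hyv'', ← hv', ← hv'']
      _ = v * v' * v'' := by
          rw [hcommV _ (mul_mem hv'V hv''V) v hvV, mul_assoc]
  have hvv'comm : v * v' = v' * v := hcommV v hvV v' hv'V
  have hv''eq : v'' = v * v' := by
    have h1 : v'' = (v * v')⁻¹ := eq_inv_of_mul_eq_one_right hprod
    rw [h1, mul_inv_rev, inv_eq_of_mul_eq_one_left hvv, inv_eq_of_mul_eq_one_left hv'v', hvv'comm]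
  have hv'1 : v' ≠ 1 := by
    intro h
    apply hv1
    have h2 : v = y⁻¹ * (y * v * y⁻¹) * y := by group
    rw [h2, ← hv', h]; group
  have hvne : v ≠ v' := by
    intro h
    apply hv1
    apply hfix' v hvV
    rw [← hv', ← h]
  obtain ⟨W, hW⟩ : ∃ W : Subgroup Q, W = fourSub v v' hvv hv'v' hvv'comm := ⟨_, rfl⟩
  have hmemW : ∀ x : Q, x ∈ W ↔ x = 1 ∨ x = v ∨ x = v' ∨ x = v * v' := by
    intro x; rw [hW]; exact mem_fourSub
  have hW4 : Nat.card W = 4 := by
    rw [hW]; exact card_fourSub hvv hv'v' hvv'comm hv1 hv'1 hvne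
  have hWV : W ≤ V := by
    intro w hw
    rcases (hmemW w).mp hw with rfl | rfl | rfl | rfl
    · exact one_mem _
    · exact hvV
    · exact hv'V
    · exact mul_mem hvV hv'V
  have hyW : y ∈ normalizer (W : Set Q) := by
    apply Cfsg.Agent.Lib.Helper18.mem_normalizer_of_forall_conj_mem
    intro w hw
    rcases (hmemW w).mp hw with h | h | h | h
    · rw [h, mul_one, mul_inv_cancel]; exact one_mem _
    · rw [h, ← hv']; exact (hmemW _).mpr (Or.inr (Or.inr (Or.inl rfl)))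
    · rw [h, ← hv'']; exact (hmemW _).mpr (Or.inr (Or.inr (Or.inr hv''eq)))
    · refine (hmemW _).mpr (Or.inr (Or.inl ?_))
      rw [h]
      calc y * (v * v') * y⁻¹ = (y * v * y⁻¹) * (y * v' * y⁻¹) := by group
        _ = v' * (v * v') := by rw [← hv', ← hv'', hv''eq]
        _ = v' * (v' * v) := by rw [hvv'comm]
        _ = v := by rw [← mul_assoc, hv'v', one_mul]
  have htvc : t * v * t⁻¹ = v := by rw [htv]; group
  have htv' : t * v' * t⁻¹ = v * v' := by
    rw [← hv''eq]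
    calc t * v' * t⁻¹ = (t * y * t⁻¹) * (t * v * t⁻¹) * (t * y * t⁻¹)⁻¹ := by rw [hv']; group
      _ = y⁻¹ * v * y := by rw [hty, htvc, inv_inv]
      _ = (y * y) * v * (y * y)⁻¹ := by rw [← hyinv, inv_inv]
      _ = y * (y * v * y⁻¹) * y⁻¹ := by group
      _ = v'' := by rw [← hv', ← hv'']
  have htW : t ∈ normalizer (W : Set Q) := by
    apply Cfsg.Agent.Lib.Helper18.mem_normalizer_of_forall_conj_mem
    intro w hw
    rcases (hmemW w).mp hw with h | h | h | h
    · rw [h, mul_one, mul_inv_cancel]; exact one_mem _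
    · rw [h, htvc]; exact (hmemW _).mpr (Or.inr (Or.inl rfl))
    · rw [h, htv']; exact (hmemW _).mpr (Or.inr (Or.inr (Or.inr rfl)))
    · refine (hmemW _).mpr (Or.inr (Or.inr (Or.inl ?_)))
      rw [h]
      calc t * (v * v') * t⁻¹ = (t * v * t⁻¹) * (t * v' * t⁻¹) := by group
        _ = v * (v * v') := by rw [htvc, htv']
        _ = v' := by rw [← mul_assoc, hvv, one_mul]
  exact Cfsg.Agent.Lib.Helper18.involves_s4_of_klein W y t hyW htW hW4 hy3 hty
    (fun w hw => hfix' w (hWV hw))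

end B1

section B2

variable {G : Type u} [Group G]

theorem mem_normalizer_commutator {T A : Subgroup G} {g : G}
    (hT : g ∈ normalizer (T : Set G)) (hA : g ∈ normalizer (A : Set G)) :
    g ∈ normalizer ((⁅T, A⁆ : Subgroup G) : Set G) := by
  rw [← conj_smul_eq_self_iff_mem_normalizer] at hT hA ⊢
  show Subgroup.map (MulAut.conj g).toMonoidHom ⁅T, A⁆ = ⁅T, A⁆
  rw [Subgroup.map_commutator]
  show ⁅MulAut.conj g • T, MulAut.conj g • A⁆ = ⁅T, A⁆
  rw [hT, hA]

variable [Finite G]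

theorem involves_s4_of_act (T : Subgroup G) (hT : IsPGroup 2 T) (y t : G)
    (hyT : y ∈ normalizer (T : Set G)) (htT : t ∈ normalizer (T : Set G))
    (hy3 : orderOf y = 3) (hty : t * y * t⁻¹ = y⁻¹) (ht2 : ∃ k : ℕ, orderOf t = 2 ^ k)
    (hyC : y ∉ centralizer (T : Set G)) :
    Cfsg.Involves (Equiv.Perm (Fin 4)) G := by
  classical
  have hp2 : Fact (Nat.Prime 2) := ⟨Nat.prime_two⟩
  obtain ⟨A, hA⟩ : ∃ A : Subgroup G, A = zpowers y := ⟨_, rfl⟩
  have hyA0 : y ∈ A := by rw [hA]; exact mem_zpowers y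
  have hAcard : Nat.card A = 3 := by rw [hA, Nat.card_zpowers, hy3]
  have hAT : A ≤ normalizer (T : Set G) := by rw [hA, zpowers_le]; exact hyT
  obtain ⟨n, hn⟩ := hT.exists_card_eq
  have hcop : (Nat.card A).Coprime (Nat.card T) := by
    rw [hAcard, hn]; exact Nat.Coprime.pow_right n (by norm_num)
  have hTnil : Group.IsNilpotent T := hT.isNilpotent
  have hact : CoprimeAct A T := ⟨hAT, hcop, Or.inr inferInstance⟩
  obtain ⟨T₁, hT₁⟩ : ∃ T₁ : Subgroup G, T₁ = ⁅T, A⁆ := ⟨_, rfl⟩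
  have hT₁T : T₁ ≤ T := by rw [hT₁]; exact commutator_le_of_le_normalizer hAT
  have hT₁A : ⁅T₁, A⁆ = T₁ := by rw [hT₁]; exact hact.commutator_commutator_eq
  have hT₁ne : T₁ ≠ ⊥ := by
    intro h
    apply hyC
    rw [hT₁, Subgroup.commutator_eq_bot_iff_le_centralizer] at h
    rw [Subgroup.mem_centralizer_iff]
    intro x hx
    have := Subgroup.mem_centralizer_iff.mp (h hx) y hyA0
    exact this.symm
  obtain ⟨U₀, hU₀⟩ : ∃ U₀ : Subgroup G, U₀ = ⁅T₁, T₁⁆ := ⟨_, rfl⟩
  have hT₁p : IsPGroup 2 T₁ := hT.to_le hT₁T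
  have hU₀T₁ : U₀ ≤ T₁ := by rw [hU₀]; exact Subgroup.commutator_le_self T₁
  have hU₀ne : U₀ ≠ T₁ := by
    have : Nontrivial T₁ := (Subgroup.nontrivial_iff_ne_bot T₁).2 hT₁ne
    have : Group.IsNilpotent T₁ := hT₁p.isNilpotent
    have hlt := Group.IsSolvable.commutator_lt_top_of_nontrivial T₁
    intro h
    have h2 : (commutator T₁).map T₁.subtype = ⁅T₁, T₁⁆ := Subgroup.map_subtype_commutator T₁
    rw [← hU₀, h] at h2
    apply hlt.ne
    rw [eq_top_iff]
    intro x _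
    have hx : (x : G) ∈ (commutator T₁).map T₁.subtype := by rw [h2]; exact x.2
    obtain ⟨x', hx', hxx⟩ := hx
    have : x' = x := Subtype.ext hxx
    rwa [this] at hx'
  -- normalizers
  have hyA : y ∈ normalizer (A : Set G) := le_normalizer hyA0
  have htA : t ∈ normalizer (A : Set G) := by
    apply Cfsg.Agent.Lib.Helper18.mem_normalizer_of_forall_conj_mem
    intro a ha
    rw [hA] at ha ⊢
    obtain ⟨k, rfl⟩ := Subgroup.mem_zpowers_iff.mp ha
    have e : t * y ^ k * t⁻¹ = (y⁻¹) ^ k := by rw [← hty, conj_zpow]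
    rw [e]
    exact Subgroup.zpow_mem _ (Subgroup.inv_mem _ (mem_zpowers y)) k
  have hyT₁ : y ∈ normalizer (T₁ : Set G) := by rw [hT₁]; exact mem_normalizer_commutator hyT hyA
  have htT₁ : t ∈ normalizer (T₁ : Set G) := by rw [hT₁]; exact mem_normalizer_commutator htT htA
  have hyU₀ : y ∈ normalizer (U₀ : Set G) := by rw [hU₀]; exact mem_normalizer_commutator hyT₁ hyT₁
  have htU₀ : t ∈ normalizer (U₀ : Set G) := by rw [hU₀]; exact mem_normalizer_commutator htT₁ htT₁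
  have hT₁U₀ : T₁ ≤ normalizer (U₀ : Set G) := by
    intro x hx
    rw [hU₀]
    exact mem_normalizer_commutator (le_normalizer hx) (le_normalizer hx)
  obtain ⟨M, hM⟩ : ∃ M : Subgroup G, M = normalizer (U₀ : Set G) := ⟨_, rfl⟩
  rw [← hM] at hyU₀ htU₀ hT₁U₀
  have hU₀M : U₀ ≤ M := by rw [hM]; exact le_normalizer
  have hnorm : (U₀.subgroupOf M).Normal := by rw [hM]; exact Subgroup.normal_in_normalizer
  obtain ⟨ym, hym⟩ : ∃ ym : M, ym = ⟨y, hyU₀⟩ := ⟨_, rfl⟩
  obtain ⟨tm, htm⟩ : ∃ tm : M, tm = ⟨t, htU₀⟩ := ⟨_, rfl⟩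
  have hymv : (ym : G) = y := by rw [hym]
  have htmv : (tm : G) = t := by rw [htm]
  obtain ⟨T₁', hT₁'⟩ : ∃ T₁' : Subgroup M, T₁' = T₁.subgroupOf M := ⟨_, rfl⟩
  have hT₁'map : T₁'.map M.subtype = T₁ := by
    rw [hT₁', Subgroup.subgroupOf_map_subtype, inf_of_le_left hT₁U₀]
  have hA'map : (zpowers ym).map M.subtype = A := by
    rw [MonoidHom.map_zpowers, hA]
    congr 1
  have hT₁'A' : ⁅T₁', zpowers ym⁆ = T₁' := by
    apply Subgroup.map_injective M.subtype_injective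
    rw [Subgroup.map_commutator, hT₁'map, hA'map, hT₁A]
  have hT₁'2 : IsPGroup 2 T₁' := by
    rw [hT₁']
    exact hT₁p.of_equiv (Subgroup.subgroupOfEquivOfLe hT₁U₀).symm
  -- the quotient
  obtain ⟨π, hπ⟩ : ∃ π : M →* M ⧸ U₀.subgroupOf M, π = QuotientGroup.mk' _ := ⟨_, rfl⟩
  have hπker : ∀ x : M, π x = 1 ↔ (x : G) ∈ U₀ := by
    intro x
    rw [hπ, QuotientGroup.mk'_apply, QuotientGroup.eq_one_iff, Subgroup.mem_subgroupOf]
  obtain ⟨V, hV⟩ : ∃ V : Subgroup (M ⧸ U₀.subgroupOf M), V = T₁'.map π := ⟨_, rfl⟩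
  have hVcomm : IsMulCommutative V := by
    refine ⟨⟨?_⟩⟩
    rintro ⟨a, ha⟩ ⟨b, hb⟩
    apply Subtype.ext
    show a * b = b * a
    rw [hV] at ha hb
    obtain ⟨a', ha', rfl⟩ := ha
    obtain ⟨b', hb', rfl⟩ := hb
    have hc : ⁅(a' : G), (b' : G)⁆ ∈ U₀ := by
      rw [hU₀]
      rw [hT₁'] at ha' hb'
      exact Subgroup.commutator_mem_commutator (Subgroup.mem_subgroupOf.mp ha')
        (Subgroup.mem_subgroupOf.mp hb')
    have h1 : π ⁅a', b'⁆ = 1 := by
      rw [hπker]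
      exact hc
    rw [map_commutatorElement, commutatorElement_eq_one_iff_mul_comm] at h1
    exact h1
  have hV2 : IsPGroup 2 V := by rw [hV]; exact hT₁'2.map π
  have hVne : V ≠ ⊥ := by
    intro h
    apply hU₀ne
    apply le_antisymm hU₀T₁
    intro x hx
    have hxM : x ∈ M := hT₁U₀ hx
    have h1 : π ⟨x, hxM⟩ ∈ V := by
      rw [hV]
      refine Subgroup.mem_map_of_mem π ?_
      rw [hT₁']
      exact Subgroup.mem_subgroupOf.mpr hx
    rw [h, Subgroup.mem_bot, hπker] at h1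
    exact h1
  have hnormV : ∀ m : M, (m : G) ∈ normalizer (T₁ : Set G) → π m ∈ normalizer (V : Set _) := by
    intro m hm
    apply Cfsg.Agent.Lib.Helper18.mem_normalizer_of_forall_conj_mem
    intro v hv
    rw [hV] at hv ⊢
    obtain ⟨a, ha, rfl⟩ := hv
    refine ⟨m * a * m⁻¹, ?_, by simp⟩
    rw [hT₁'] at ha ⊢
    rw [SetLike.mem_coe, Subgroup.mem_subgroupOf] at ha ⊢
    exact (Subgroup.mem_normalizer_iff.mp hm _).mp ha
  have hyV : π ym ∈ normalizer (V : Set _) := hnormV ym (by rw [hymv]; exact hyT₁)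
  have htV : π tm ∈ normalizer (V : Set _) := hnormV tm (by rw [htmv]; exact htT₁)
  have hy3' : y ^ 3 = 1 := by rw [← hy3]; exact pow_orderOf_eq_one y
  have hyb3 : orderOf (π ym) = 3 := by
    have : Fact (Nat.Prime 3) := ⟨by norm_num⟩
    apply orderOf_eq_prime
    · rw [← map_pow]
      have : ym ^ 3 = 1 := by
        apply Subtype.ext
        rw [Subgroup.coe_pow, hymv, hy3']; rfl
      rw [this, map_one]
    · intro h
      rw [hπker, hymv] at h
      have hyT' : y ∈ T := hT₁T (hU₀T₁ h)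
      obtain ⟨k, hk⟩ := hT ⟨y, hyT'⟩
      have hk' : y ^ (2 ^ k) = 1 := by
        have := congrArg Subtype.val hk
        simpa using this
      have hdvd : 3 ∣ 2 ^ k := by rw [← hy3]; exact orderOf_dvd_of_pow_eq_one hk'
      have := Nat.Prime.dvd_of_dvd_pow (by norm_num : Nat.Prime 3) hdvd
      omega
  have htyb : π tm * π ym * (π tm)⁻¹ = (π ym)⁻¹ := by
    rw [← map_inv, ← map_mul, ← map_mul, ← map_inv]
    congr 1
    apply Subtype.ext
    simp only [Subgroup.coe_mul, Subgroup.coe_inv, hymv, htmv]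
    exact hty
  have ht2b : ∃ k : ℕ, orderOf (π tm) = 2 ^ k := by
    obtain ⟨k, hk⟩ := ht2
    have h1 : orderOf (π tm) ∣ orderOf tm := orderOf_map_dvd π tm
    have h2 : orderOf tm = orderOf t := by rw [← htmv]; exact Subgroup.orderOf_coe tm |>.symm
    rw [h2, hk] at h1
    obtain ⟨j, _, hj⟩ := (Nat.dvd_prime_pow Nat.prime_two).mp h1
    exact ⟨j, hj⟩
  have hcommV : ⁅V, zpowers (π ym)⁆ = V := by
    rw [hV, ← MonoidHom.map_zpowers, ← Subgroup.map_commutator, hT₁'A']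
  have hQ := involves_s4_of_abelian V hV2 hVne (π ym) (π tm) hyV htV hyb3 htyb ht2b hcommV
  have hM' : Cfsg.Involves (Equiv.Perm (Fin 4)) M :=
    Cfsg.Agent.Lib.Helper27.involves_trans hQ
      (Cfsg.Agent.Lib.Helper27.involves_of_surjective π (by rw [hπ]; exact QuotientGroup.mk'_surjective _))
  exact Cfsg.Agent.Lib.Helper27.involves_of_injective M.subtype M.subtype_injective hM'

end B2

section A

theorem s3_sq : ∀ σ : Equiv.Perm (Fin 3), Equiv.Perm.sign σ = -1 → σ * σ = 1 := by decide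

theorem s3_inv : ∀ σ ρ : Equiv.Perm (Fin 3), Equiv.Perm.sign σ = -1 → Equiv.Perm.sign ρ = 1 → ρ ≠ 1 →
    ρ⁻¹ * (σ * ρ * σ⁻¹) ≠ 1 := by decide

variable {K : Type u} [Group K] [Finite K]

theorem exists_pElt_preimage {H : Type*} [Group H] (f : K →* H) (hf : Function.Surjective f) (p : ℕ)
    [Fact p.Prime] (h : H) (hh : ∃ k : ℕ, orderOf h = p ^ k) :
    ∃ g : K, (∃ k : ℕ, orderOf g = p ^ k) ∧ f g = h := by
  let e := QuotientGroup.quotientKerEquivOfSurjective f hf
  have ho : orderOf (e.symm h) = orderOf h := MulEquiv.orderOf_eq e.symm h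
  obtain ⟨g, hg, hgm⟩ := Cfsg.Agent.Lib.Helper22.exists_pElt_lift p f.ker (e.symm h) (by rw [ho]; exact hh)
  refine ⟨g, hg, ?_⟩
  have : e (QuotientGroup.mk g) = h := by rw [hgm]; exact e.apply_symm_apply h
  rw [← this]
  rfl

theorem exists_inverting (f : K →* Equiv.Perm (Fin 3)) (hf : Function.Surjective f) :
    ∃ y t : K, f y ≠ 1 ∧ (∃ k : ℕ, orderOf y = 3 ^ k) ∧ (∃ k : ℕ, orderOf t = 2 ^ k) ∧
      t * y * t⁻¹ = y⁻¹ := by
  classical
  have hp3 : Fact (Nat.Prime 3) := ⟨by norm_num⟩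
  have hp2 : Fact (Nat.Prime 2) := ⟨Nat.prime_two⟩
  obtain ⟨sg, hsg⟩ : ∃ sg : K →* ℤˣ, sg = Equiv.Perm.sign.comp f := ⟨_, rfl⟩
  have hsgf : ∀ x : K, sg x = Equiv.Perm.sign (f x) := by intro x; rw [hsg]; rfl
  obtain ⟨N₁, hN₁⟩ : ∃ N₁ : Subgroup K, N₁ = sg.ker := ⟨_, rfl⟩
  have hN₁n : N₁.Normal := by rw [hN₁]; infer_instance
  have hmemN₁ : ∀ x : K, x ∈ N₁ ↔ Equiv.Perm.sign (f x) = 1 := by
    intro x; rw [hN₁, MonoidHom.mem_ker, hsgf]
  -- a 3-element mapping to a 3-cycle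
  obtain ⟨c₀, hc₀⟩ : ∃ c₀ : Equiv.Perm (Fin 3), c₀ = finRotate 3 := ⟨_, rfl⟩
  have hc₀o : orderOf c₀ = 3 := by
    have : Fact (Nat.Prime 3) := hp3
    apply orderOf_eq_prime
    · rw [hc₀]; decide
    · rw [hc₀]; decide
  have hc₀s : Equiv.Perm.sign c₀ = 1 := by rw [hc₀]; decide
  have hc₀1 : c₀ ≠ 1 := by rw [hc₀]; decide
  obtain ⟨x₂, hx₂o, hx₂f⟩ := exists_pElt_preimage f hf 3 c₀ ⟨1, by rw [hc₀o, pow_one]⟩
  have hx₂N : x₂ ∈ N₁ := by rw [hmemN₁, hx₂f]; exact hc₀s
  -- a Sylow 3-subgroup of N₁ containing x₂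
  obtain ⟨P, hP⟩ : ∃ P : Sylow 3 N₁, (⟨x₂, hx₂N⟩ : N₁) ∈ (P : Subgroup N₁) := by
    apply Cfsg.Agent.Lib.Helper22.exists_sylow_mem
    obtain ⟨k, hk⟩ := hx₂o
    exact ⟨k, by rw [Subgroup.orderOf_mk]; exact hk⟩
  obtain ⟨P', hP'⟩ : ∃ P' : Subgroup K, P' = (P : Subgroup N₁).map N₁.subtype := ⟨_, rfl⟩
  have hx₂P : x₂ ∈ P' := by
    rw [hP']; exact ⟨⟨x₂, hx₂N⟩, hP, rfl⟩
  have hP'N : P' ≤ N₁ := by
    rw [hP']; rintro _ ⟨z, _, rfl⟩; exact z.2
  have hP'3 : IsPGroup 3 P' := by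
    rw [hP']; exact P.isPGroup'.map _
  have hfrat : normalizer (P' : Set K) ⊔ N₁ = ⊤ := by
    rw [hP']; exact Sylow.normalizer_sup_eq_top P
  -- an element of the normalizer with odd image
  obtain ⟨s₀, hs₀⟩ : ∃ s₀ : Equiv.Perm (Fin 3), s₀ = Equiv.swap 0 1 := ⟨_, rfl⟩
  have hs₀s : Equiv.Perm.sign s₀ = -1 := by rw [hs₀]; decide
  obtain ⟨t₀, ht₀⟩ := hf s₀
  have ht₀top : t₀ ∈ normalizer (P' : Set K) ⊔ N₁ := by rw [hfrat]; exact Subgroup.mem_top _
  obtain ⟨t₁, ht₁, n₁, hn₁, ht₁n₁⟩ := Subgroup.mem_sup_of_normal_right.mp ht₀top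
  have hsgt₁ : sg t₁ = -1 := by
    have h1 : sg t₀ = -1 := by rw [hsgf, ht₀]; exact hs₀s
    have h2 : sg n₁ = 1 := by rw [hsgf]; exact (hmemN₁ n₁).mp hn₁
    rw [← ht₁n₁, map_mul, h2, mul_one] at h1
    exact h1
  obtain ⟨t, u, htz, huz, htu, hto, huo⟩ := Cfsg.Agent.Lib.Helper22.exists_p_decomp 2 t₁
  have htN : t ∈ normalizer (P' : Set K) := by
    have : zpowers t₁ ≤ normalizer (P' : Set K) := by rw [zpowers_le]; exact ht₁
    exact this htz
  have hsgu : sg u = 1 := by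
    have hodd : Odd (orderOf u) := by
      rw [← Nat.not_even_iff_odd]
      intro he
      have := Nat.Coprime.eq_one_of_dvd huo.symm he.two_dvd
      omega
    obtain ⟨j, hj⟩ := hodd
    have h1 : (sg u) ^ (orderOf u) = 1 := by rw [← map_pow, pow_orderOf_eq_one, map_one]
    rw [hj, pow_succ, pow_mul, Int.units_sq, one_pow, one_mul] at h1
    exact h1
  have hsgt : sg t = -1 := by
    rw [htu, map_mul, hsgu, mul_one] at hsgt₁
    exact hsgt₁
  have hσσ : f t * f t = 1 := s3_sq (f t) (by rw [← hsgf]; exact hsgt)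
  -- coprime action of ⟨t²⟩ on P'
  obtain ⟨A, hA⟩ : ∃ A : Subgroup K, A = zpowers (t * t) := ⟨_, rfl⟩
  have httN : t * t ∈ normalizer (P' : Set K) := mul_mem htN htN
  have hAN : A ≤ normalizer (P' : Set K) := by rw [hA, zpowers_le]; exact httN
  have hAf : ∀ a ∈ A, f a = 1 := by
    intro a ha
    rw [hA] at ha
    obtain ⟨k, rfl⟩ := Subgroup.mem_zpowers_iff.mp ha
    rw [map_zpow, map_mul, hσσ, one_zpow]
  have hAcard : ∃ j : ℕ, Nat.card A = 2 ^ j := by
    obtain ⟨k, hk⟩ := hto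
    have h1 : (t * t) ^ (2 ^ k) = 1 := by
      rw [← pow_two, ← pow_mul, mul_comm, pow_mul, ← hk, pow_orderOf_eq_one, one_pow]
    have h2 : orderOf (t * t) ∣ 2 ^ k := orderOf_dvd_of_pow_eq_one h1
    obtain ⟨j, _, hj⟩ := (Nat.dvd_prime_pow Nat.prime_two).mp h2
    exact ⟨j, by rw [hA, Nat.card_zpowers, hj]⟩
  obtain ⟨j, hj⟩ := hAcard
  obtain ⟨c, hc⟩ := hP'3.exists_card_eq
  have hcop : (Nat.card A).Coprime (Nat.card P') := by
    rw [hj, hc]
    exact Nat.Coprime.pow _ _ (by norm_num)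
  have hP'nil : Group.IsNilpotent P' := hP'3.isNilpotent
  have hact : CoprimeAct A P' := ⟨hAN, hcop, Or.inr inferInstance⟩
  obtain ⟨N, hN⟩ : ∃ N : Subgroup K, N = P' ⊓ f.ker := ⟨_, rfl⟩
  have hNP : N ≤ P' := by rw [hN]; exact inf_le_left
  have hNA : A ≤ normalizer (N : Set K) := by
    intro a ha
    rw [Subgroup.mem_normalizer_iff]
    intro z
    have h1 := Subgroup.mem_normalizer_iff.mp (hAN ha) z
    have h2 : z ∈ f.ker ↔ a * z * a⁻¹ ∈ f.ker := by
      rw [MonoidHom.mem_ker, MonoidHom.mem_ker, map_mul, map_mul, map_inv, hAf a ha]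
      simp
    rw [hN, Subgroup.mem_inf, Subgroup.mem_inf, h1, h2]
  have hx : ∀ a ∈ A, x₂⁻¹ * (a * x₂ * a⁻¹) ∈ N := by
    intro a ha
    rw [hN, Subgroup.mem_inf]
    constructor
    · exact mul_mem (inv_mem hx₂P) ((Subgroup.mem_normalizer_iff.mp (hAN ha) x₂).mp hx₂P)
    · rw [MonoidHom.mem_ker, map_mul, map_mul, map_mul, map_inv, map_inv, hAf a ha]
      simp
  obtain ⟨w, hwN, hxw⟩ := hact.exists_mul_mem_centralizer hNP hNA x₂ hx₂P hx
  obtain ⟨x₀, hx₀⟩ : ∃ x₀ : K, x₀ = x₂ * w := ⟨_, rfl⟩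
  rw [← hx₀] at hxw
  have hx₀P : x₀ ∈ P' := (Subgroup.mem_inf.mp hxw).1
  have hx₀c : (t * t) * x₀ = x₀ * (t * t) := by
    have := Subgroup.mem_centralizer_iff.mp (Subgroup.mem_inf.mp hxw).2 (t * t)
      (by rw [hA]; exact mem_zpowers _)
    exact this
  have hfx₀ : f x₀ = c₀ := by
    have hw1 : f w = 1 := by
      rw [hN, Subgroup.mem_inf] at hwN
      exact MonoidHom.mem_ker.mp hwN.2
    rw [hx₀, map_mul, hw1, mul_one, hx₂f]
  refine ⟨x₀⁻¹ * (t * x₀ * t⁻¹), t, ?_, ?_, hto, ?_⟩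
  · rw [map_mul, map_mul, map_mul, map_inv, map_inv, hfx₀]
    exact s3_inv (f t) c₀ (by rw [← hsgf]; exact hsgt) hc₀s hc₀1
  · apply Cfsg.Agent.Lib.Helper22.isPElt_of_mem_isPGroup hp3.out P' hP'3
    exact mul_mem (inv_mem hx₀P) ((Subgroup.mem_normalizer_iff.mp htN x₀).mp hx₀P)
  · have h1 : t * (x₀⁻¹ * (t * x₀ * t⁻¹)) * t⁻¹ = (t * x₀ * t⁻¹)⁻¹ * ((t * t) * x₀ * (t * t)⁻¹) := by
      group
    rw [h1, hx₀c]
    group

end A

section Backward

variable {G : Type u} [Group G] [Finite G]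

/-- the group-level form of the data -/
theorem involves_s4_of_elements (T : Subgroup G) (hT : IsPGroup 2 T) (y t : G)
    (hyT : y ∈ normalizer (T : Set G)) (htT : t ∈ normalizer (T : Set G))
    (hyo : ∃ k : ℕ, orderOf y = 3 ^ k) (hto : ∃ k : ℕ, orderOf t = 2 ^ k)
    (hty : t * y * t⁻¹ = y⁻¹) (hy3C : y ^ 3 ∈ centralizer (T : Set G))
    (hyC : y ∉ centralizer (T : Set G)) :
    Cfsg.Involves (Equiv.Perm (Fin 4)) G := by
  classical
  have hp2 : Fact (Nat.Prime 2) := ⟨Nat.prime_two⟩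
  have hp3 : Fact (Nat.Prime 3) := ⟨by norm_num⟩
  obtain ⟨z, hz⟩ : ∃ z : G, z = y ^ 3 := ⟨_, rfl⟩
  rw [← hz] at hy3C
  obtain ⟨D, hD⟩ : ∃ D : Subgroup G, D = zpowers z := ⟨_, rfl⟩
  obtain ⟨L, hL⟩ : ∃ L : Subgroup G, L = normalizer (D : Set G) := ⟨_, rfl⟩
  have hcommL : ∀ x : G, x * z = z * x → x ∈ L := by
    intro x hx
    rw [hL]
    apply Cfsg.Agent.Lib.Helper18.mem_normalizer_of_forall_conj_mem
    intro d hd
    rw [hD] at hd
    obtain ⟨i, rfl⟩ := Subgroup.mem_zpowers_iff.mp hd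
    have hc : Commute x (z ^ i) := Commute.zpow_right hx i
    have : x * z ^ i * x⁻¹ = z ^ i := by rw [hc.eq]; group
    rw [this, hD]
    exact Subgroup.zpow_mem _ (mem_zpowers z) i
  have hTL : T ≤ L := fun x hx => hcommL x (Subgroup.mem_centralizer_iff.mp hy3C x hx)
  have hyL : y ∈ L := by
    apply hcommL
    rw [hz, ← pow_succ', ← pow_succ]
  have htz : t * z * t⁻¹ = z⁻¹ := by
    rw [hz, ← conj_pow, hty, inv_pow]
  have htL : t ∈ L := by
    rw [hL]
    apply Cfsg.Agent.Lib.Helper18.mem_normalizer_of_forall_conj_mem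
    intro d hd
    rw [hD] at hd ⊢
    obtain ⟨i, rfl⟩ := Subgroup.mem_zpowers_iff.mp hd
    rw [← conj_zpow, htz]
    exact Subgroup.zpow_mem _ (inv_mem (mem_zpowers z)) i
  have hDL : D ≤ L := by rw [hL]; exact le_normalizer
  have hnorm : (D.subgroupOf L).Normal := by rw [hL]; exact Subgroup.normal_in_normalizer
  obtain ⟨π, hπ⟩ : ∃ π : L →* L ⧸ D.subgroupOf L, π = QuotientGroup.mk' _ := ⟨_, rfl⟩
  have hπker : ∀ x : L, π x = 1 ↔ (x : G) ∈ D := by
    intro x
    rw [hπ, QuotientGroup.mk'_apply, QuotientGroup.eq_one_iff, Subgroup.mem_subgroupOf]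
  obtain ⟨yl, hyl⟩ : ∃ yl : L, yl = ⟨y, hyL⟩ := ⟨_, rfl⟩
  obtain ⟨tl, htl⟩ : ∃ tl : L, tl = ⟨t, htL⟩ := ⟨_, rfl⟩
  have hylv : (yl : G) = y := by rw [hyl]
  have htlv : (tl : G) = t := by rw [htl]
  obtain ⟨Tb, hTb⟩ : ∃ Tb : Subgroup (L ⧸ D.subgroupOf L), Tb = (T.subgroupOf L).map π := ⟨_, rfl⟩
  have hTb2 : IsPGroup 2 Tb := by
    rw [hTb]
    exact (hT.of_equiv (Subgroup.subgroupOfEquivOfLe hTL).symm).map π
  have hnormTb : ∀ m : L, (m : G) ∈ normalizer (T : Set G) → π m ∈ normalizer (Tb : Set _) := by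
    intro m hm
    apply Cfsg.Agent.Lib.Helper18.mem_normalizer_of_forall_conj_mem
    intro v hv
    rw [hTb] at hv ⊢
    obtain ⟨a, ha, rfl⟩ := hv
    refine ⟨m * a * m⁻¹, ?_, by simp⟩
    rw [SetLike.mem_coe, Subgroup.mem_subgroupOf] at ha ⊢
    exact (Subgroup.mem_normalizer_iff.mp hm _).mp ha
  have hyTb : π yl ∈ normalizer (Tb : Set _) := hnormTb yl (by rw [hylv]; exact hyT)
  have htTb : π tl ∈ normalizer (Tb : Set _) := hnormTb tl (by rw [htlv]; exact htT)
  -- D is a 3-group meeting T trivially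
  obtain ⟨k, hk⟩ := hyo
  have hD3 : IsPGroup 3 D := by
    have h1 : z ^ (3 ^ k) = 1 := by
      rw [hz, ← pow_mul, mul_comm, pow_mul, ← hk, pow_orderOf_eq_one, one_pow]
    obtain ⟨j, _, hj⟩ := (Nat.dvd_prime_pow hp3.out).mp (orderOf_dvd_of_pow_eq_one h1)
    apply IsPGroup.of_card (n := j)
    rw [hD, Nat.card_zpowers, hj]
  have hdisj : Disjoint D T := IsPGroup.disjoint_of_ne 3 2 (by norm_num) D T hD3 hT
  have hy1 : y ≠ 1 := by
    intro h; apply hyC; rw [h]; exact one_mem _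
  have hk0 : k ≠ 0 := by
    intro h
    rw [h, pow_zero, orderOf_eq_one_iff] at hk
    exact hy1 hk
  have hyD : y ∉ D := by
    intro h
    rw [hD] at h
    obtain ⟨i, hi⟩ := Subgroup.mem_zpowers_iff.mp h
    have h1 : y ^ (3 * i - 1) = 1 := by
      rw [zpow_sub, zpow_mul, zpow_one]
      have : (y ^ (3 : ℤ)) = z := by rw [hz]; exact zpow_natCast y 3
      rw [this, hi]; group
    have h2 := (orderOf_dvd_iff_zpow_eq_one).mpr h1
    rw [hk] at h2
    have h3 : (3 : ℤ) ∣ 3 * i - 1 := by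
      refine dvd_trans ?_ h2
      push_cast
      exact dvd_pow_self 3 hk0
    omega
  have hyb3 : orderOf (π yl) = 3 := by
    apply orderOf_eq_prime
    · rw [← map_pow, hπker, Subgroup.coe_pow, hylv, ← hz, hD]
      exact mem_zpowers z
    · intro h
      rw [hπker, hylv] at h
      exact hyD h
  have htyb : π tl * π yl * (π tl)⁻¹ = (π yl)⁻¹ := by
    rw [← map_inv, ← map_mul, ← map_mul, ← map_inv]
    congr 1
    apply Subtype.ext
    simp only [Subgroup.coe_mul, Subgroup.coe_inv, hylv, htlv]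
    exact hty
  have ht2b : ∃ j : ℕ, orderOf (π tl) = 2 ^ j := by
    obtain ⟨j, hj⟩ := hto
    have h1 : orderOf (π tl) ∣ orderOf tl := orderOf_map_dvd π tl
    have h2 : orderOf tl = orderOf t := by rw [← htlv]; exact (Subgroup.orderOf_coe tl).symm
    rw [h2, hj] at h1
    obtain ⟨i, _, hi⟩ := (Nat.dvd_prime_pow Nat.prime_two).mp h1
    exact ⟨i, hi⟩
  have hycb : π yl ∉ centralizer (Tb : Set _) := by
    intro h
    apply hyC
    rw [Subgroup.mem_centralizer_iff]
    intro x hx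
    have hxb : π ⟨x, hTL hx⟩ ∈ Tb := by
      rw [hTb]
      exact Subgroup.mem_map_of_mem π (Subgroup.mem_subgroupOf.mpr hx)
    have h1 := Subgroup.mem_centralizer_iff.mp h _ hxb
    -- so the commutator lies in D ∩ T
    have h2 : π ⁅(⟨x, hTL hx⟩ : L), yl⁆ = 1 := by
      rw [map_commutatorElement, commutatorElement_eq_one_iff_mul_comm]
      exact h1
    rw [hπker] at h2
    have h3 : ⁅x, y⁆ ∈ T := by
      rw [commutatorElement_def]
      have : x * y * x⁻¹ * y⁻¹ = x * (y * x⁻¹ * y⁻¹) := by group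
      rw [this]
      exact mul_mem hx ((Subgroup.mem_normalizer_iff.mp hyT _).mp (inv_mem hx))
    have h4 : ⁅x, y⁆ = 1 := by
      have h5 : ⁅x, y⁆ ∈ D := by
        have : ((⁅(⟨x, hTL hx⟩ : L), yl⁆ : L) : G) = ⁅x, y⁆ := by
          rw [commutatorElement_def, commutatorElement_def]
          simp only [Subgroup.coe_mul, Subgroup.coe_inv, hylv]
        rw [← this]; exact h2
      have := Subgroup.disjoint_def.mp hdisj h5 h3
      exact this
    exact commutatorElement_eq_one_iff_mul_comm.mp h4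
  have hQ := involves_s4_of_act Tb hTb2 (π yl) (π tl) hyTb htTb hyb3 htyb ht2b hycb
  have hL' : Cfsg.Involves (Equiv.Perm (Fin 4)) L :=
    Cfsg.Agent.Lib.Helper27.involves_trans hQ
      (Cfsg.Agent.Lib.Helper27.involves_of_surjective π (by rw [hπ]; exact QuotientGroup.mk'_surjective _))
  exact Cfsg.Agent.Lib.Helper27.involves_of_injective L.subtype L.subtype_injective hL'

theorem involves_s4_of_local (T : Subgroup G) (hT : IsPGroup 2 T)
    (h : Cfsg.Involves (Equiv.Perm (Fin 3)) (↥(Subgroup.normalizer (T : Set G)) ⧸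
        (Subgroup.centralizer (T : Set G)).subgroupOf (Subgroup.normalizer (T : Set G)))) :
    Cfsg.Involves (Equiv.Perm (Fin 4)) G := by
  classical
  obtain ⟨Kq, fq, hfq⟩ := Cfsg.Agent.Lib.Helper27.involves_iff.mp h
  obtain ⟨π, hπ⟩ : ∃ π : ↥(normalizer (T : Set G)) →* ↥(normalizer (T : Set G)) ⧸
      (centralizer (T : Set G)).subgroupOf (normalizer (T : Set G)), π = QuotientGroup.mk' _ := ⟨_, rfl⟩
  have hπsurj : Function.Surjective π := by rw [hπ]; exact QuotientGroup.mk'_surjective _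
  have hπone : ∀ x : ↥(normalizer (T : Set G)), π x = 1 ↔
      x ∈ (centralizer (T : Set G)).subgroupOf (normalizer (T : Set G)) := by
    intro x; rw [hπ]; exact QuotientGroup.eq_one_iff x
  let f : Kq.comap π →* Equiv.Perm (Fin 3) := fq.comp (π.subgroupComap Kq)
  have hf : Function.Surjective f := hfq.comp (π.subgroupComap_surjective_of_surjective Kq hπsurj)
  obtain ⟨y, t, hfy, hyo, hto, hty⟩ := exists_inverting f hf
  -- the underlying elements of G
  obtain ⟨yG, hyG⟩ : ∃ yG : G, yG = ((y : ↥(normalizer (T : Set G))) : G) := ⟨_, rfl⟩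
  obtain ⟨tG, htG⟩ : ∃ tG : G, tG = ((t : ↥(normalizer (T : Set G))) : G) := ⟨_, rfl⟩
  have hyN : yG ∈ normalizer (T : Set G) := by rw [hyG]; exact (y : ↥(normalizer (T : Set G))).2
  have htN : tG ∈ normalizer (T : Set G) := by rw [htG]; exact (t : ↥(normalizer (T : Set G))).2
  have hyoG : ∃ k : ℕ, orderOf yG = 3 ^ k := by
    obtain ⟨k, hk⟩ := hyo
    exact ⟨k, by rw [hyG, Subgroup.orderOf_coe, Subgroup.orderOf_coe]; exact hk⟩
  have htoG : ∃ k : ℕ, orderOf tG = 2 ^ k := by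
    obtain ⟨k, hk⟩ := hto
    exact ⟨k, by rw [htG, Subgroup.orderOf_coe, Subgroup.orderOf_coe]; exact hk⟩
  have htyG : tG * yG * tG⁻¹ = yG⁻¹ := by
    have := congrArg (fun w : Kq.comap π => ((w : ↥(normalizer (T : Set G))) : G)) hty
    simpa [hyG, htG] using this
  have hyCG : yG ∉ centralizer (T : Set G) := by
    intro hc
    apply hfy
    have h1 : (y : ↥(normalizer (T : Set G))) ∈
        (centralizer (T : Set G)).subgroupOf (normalizer (T : Set G)) := by
      rw [Subgroup.mem_subgroupOf, ← hyG]; exact hc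
    have h2 : π (y : ↥(normalizer (T : Set G))) = 1 := (hπone _).mpr h1
    have h3 : π.subgroupComap Kq y = 1 := by
      apply Subtype.ext
      exact h2
    show fq (π.subgroupComap Kq y) = 1
    rw [h3, map_one]
  -- choose the right power of yG
  obtain ⟨k, hk⟩ := hyoG
  have hex : ∃ m : ℕ, yG ^ (3 ^ m) ∈ centralizer (T : Set G) :=
    ⟨k, by rw [← hk, pow_orderOf_eq_one]; exact one_mem _⟩
  obtain ⟨m, hm, hmin⟩ : ∃ m : ℕ, yG ^ (3 ^ m) ∈ centralizer (T : Set G) ∧
      ∀ j < m, yG ^ (3 ^ j) ∉ centralizer (T : Set G) :=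
    ⟨Nat.find hex, Nat.find_spec hex, fun j hj => Nat.find_min hex hj⟩
  have hm0 : m ≠ 0 := by
    intro h
    rw [h, pow_zero, pow_one] at hm
    exact hyCG hm
  obtain ⟨m', rfl⟩ := Nat.exists_eq_succ_of_ne_zero hm0
  obtain ⟨y', hy'⟩ : ∃ y' : G, y' = yG ^ (3 ^ m') := ⟨_, rfl⟩
  have hy'C : y' ∉ centralizer (T : Set G) := by rw [hy']; exact hmin m' (Nat.lt_succ_self m')
  have hy'3 : y' ^ 3 ∈ centralizer (T : Set G) := by
    rw [hy', ← pow_mul, ← pow_succ]; exact hm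
  have hy'N : y' ∈ normalizer (T : Set G) := by rw [hy']; exact pow_mem hyN _
  have hy'o : ∃ j : ℕ, orderOf y' = 3 ^ j := by
    have h1 : orderOf y' ∣ orderOf yG := by rw [hy']; exact orderOf_pow_dvd _
    rw [hk] at h1
    obtain ⟨j, _, hj⟩ := (Nat.dvd_prime_pow (by norm_num : Nat.Prime 3)).mp h1
    exact ⟨j, hj⟩
  have hty' : tG * y' * tG⁻¹ = y'⁻¹ := by
    rw [hy', ← conj_pow, htyG, inv_pow]
  exact involves_s4_of_elements T hT y' tG hy'N htN hy'o htoG hty' hy'3 hy'C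

end Backward

/-- index of the perfect matching of `Fin 4` containing the pair `{a, b}` -/
def matchIdx : Fin 4 → Fin 4 → Fin 3 :=
  ![![0, 0, 1, 2], ![0, 0, 2, 1], ![1, 2, 0, 0], ![2, 1, 0, 0]]

/-- the three double transpositions -/
def dbl : Fin 3 → Equiv.Perm (Fin 4) :=
  ![Equiv.swap 0 1 * Equiv.swap 2 3, Equiv.swap 0 2 * Equiv.swap 1 3, Equiv.swap 0 3 * Equiv.swap 1 2]

def gFun (σ : Equiv.Perm (Fin 4)) (i : Fin 3) : Fin 3 := matchIdx (σ 0) (σ i.succ)

theorem dbl_injective : ∀ i j : Fin 3, dbl i = dbl j → i = j := by decide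

set_option maxRecDepth 100000 in
theorem conj_dbl : ∀ (σ : Equiv.Perm (Fin 4)) (i : Fin 3), σ * dbl i * σ⁻¹ = dbl (gFun σ i) := by
  decide

theorem dbl_comm : ∀ i j : Fin 3, dbl i * dbl j = dbl j * dbl i := by decide

set_option maxRecDepth 100000 in
theorem ker_sq : ∀ σ : Equiv.Perm (Fin 4), (∀ i : Fin 3, gFun σ i = i) → σ * σ = 1 := by decide

set_option maxRecDepth 100000 in
theorem gFun_surj : ∀ ρ : Equiv.Perm (Fin 3), ∃ σ : Equiv.Perm (Fin 4), ∀ i : Fin 3, gFun σ i = ρ i := by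
  decide

theorem gFun_mul (σ τ : Equiv.Perm (Fin 4)) (i : Fin 3) : gFun (σ * τ) i = gFun σ (gFun τ i) := by
  apply dbl_injective
  rw [← conj_dbl, ← conj_dbl, ← conj_dbl]
  group

theorem gFun_one (i : Fin 3) : gFun 1 i = i := by
  apply dbl_injective
  rw [← conj_dbl]
  group

def gPerm (σ : Equiv.Perm (Fin 4)) : Equiv.Perm (Fin 3) where
  toFun := gFun σ
  invFun := gFun σ⁻¹
  left_inv i := by rw [← gFun_mul, inv_mul_cancel, gFun_one]
  right_inv i := by rw [← gFun_mul, mul_inv_cancel, gFun_one]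

def gHom : Equiv.Perm (Fin 4) →* Equiv.Perm (Fin 3) where
  toFun := gPerm
  map_one' := by ext i; exact congrArg Fin.val (gFun_one i)
  map_mul' σ τ := by ext i; exact congrArg Fin.val (gFun_mul σ τ i)

theorem gHom_apply (σ : Equiv.Perm (Fin 4)) (i : Fin 3) : gHom σ i = gFun σ i := rfl

theorem gHom_surjective : Function.Surjective gHom := by
  intro ρ
  obtain ⟨σ, hσ⟩ := gFun_surj ρ
  exact ⟨σ, Equiv.ext hσ⟩

theorem mem_ker_gHom {σ : Equiv.Perm (Fin 4)} : σ ∈ gHom.ker ↔ ∀ i : Fin 3, gFun σ i = i := by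
  rw [MonoidHom.mem_ker]
  constructor
  · intro h i
    have := congrArg (fun ρ : Equiv.Perm (Fin 3) => ρ i) h
    exact this
  · intro h
    exact Equiv.ext h

theorem dbl_mem_ker (j : Fin 3) : dbl j ∈ gHom.ker := by
  rw [mem_ker_gHom]
  intro i
  apply dbl_injective
  rw [← conj_dbl, dbl_comm j i]
  group

theorem ker_isPGroup : IsPGroup 2 gHom.ker := by
  rintro ⟨σ, hσ⟩
  refine ⟨1, ?_⟩
  apply Subtype.ext
  rw [pow_one, Subgroup.coe_pow, pow_two]
  exact ker_sq σ (mem_ker_gHom.mp hσ)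

theorem mem_ker_of_centralizes {σ : Equiv.Perm (Fin 4)} (h : ∀ τ ∈ gHom.ker, σ * τ = τ * σ) :
    σ ∈ gHom.ker := by
  rw [mem_ker_gHom]
  intro i
  apply dbl_injective
  rw [← conj_dbl, h _ (dbl_mem_ker i)]
  group

section Forward

variable {G : Type u} [Group G] [Finite G]

theorem exists_local_of_involves_s4 (h : Cfsg.Involves (Equiv.Perm (Fin 4)) G) :
    ∃ T : Subgroup G, IsPGroup 2 T ∧
      Cfsg.Involves (Equiv.Perm (Fin 3)) (↥(Subgroup.normalizer (T : Set G)) ⧸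
        (Subgroup.centralizer (T : Set G)).subgroupOf (Subgroup.normalizer (T : Set G))) := by
  classical
  have hp2 : Fact (Nat.Prime 2) := ⟨Nat.prime_two⟩
  obtain ⟨K, f, hf⟩ := Cfsg.Agent.Lib.Helper27.involves_iff.mp h
  obtain ⟨X, hX⟩ : ∃ X : Subgroup K, X = gHom.ker.comap f := ⟨_, rfl⟩
  have hXn : X.Normal := by rw [hX]; infer_instance
  have hmemX : ∀ x : K, x ∈ X ↔ gHom (f x) = 1 := by
    intro x; rw [hX, Subgroup.mem_comap, MonoidHom.mem_ker]
  obtain ⟨T₀⟩ : Nonempty (Sylow 2 X) := inferInstance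
  obtain ⟨T₁, hT₁⟩ : ∃ T₁ : Subgroup K, T₁ = (T₀ : Subgroup X).map X.subtype := ⟨_, rfl⟩
  have hT₁2 : IsPGroup 2 T₁ := by rw [hT₁]; exact T₀.isPGroup'.map _
  have hfrat : normalizer (T₁ : Set K) ⊔ X = ⊤ := by
    rw [hT₁]; exact Sylow.normalizer_sup_eq_top T₀
  -- f maps T₁ onto the kernel of gHom
  have hontoV : ∀ v ∈ gHom.ker, ∃ x ∈ T₁, f x = v := by
    intro v hv
    -- the restriction of f to X is onto the kernel
    let fX : X →* gHom.ker := (f.subgroupComap gHom.ker).comp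
      (MulEquiv.subgroupCongr hX).toMonoidHom
    have hfX : Function.Surjective fX := by
      refine (f.subgroupComap_surjective_of_surjective gHom.ker hf).comp ?_
      exact (MulEquiv.subgroupCongr hX).surjective
    have htop : ((T₀.mapSurjective hfX : Sylow 2 gHom.ker) : Subgroup gHom.ker) = ⊤ := by
      have h2 : IsPGroup 2 (⊤ : Subgroup gHom.ker) := ker_isPGroup.to_subgroup _
      exact ((T₀.mapSurjective hfX).is_maximal' h2 le_top).symm
    have hvmem : (⟨v, hv⟩ : gHom.ker) ∈ ((T₀.mapSurjective hfX : Sylow 2 gHom.ker) : Subgroup gHom.ker) := by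
      rw [htop]; exact Subgroup.mem_top _
    have h1 : ((T₀.mapSurjective hfX : Sylow 2 gHom.ker) : Subgroup gHom.ker) =
        (T₀ : Subgroup X).map fX := rfl
    rw [h1] at hvmem
    obtain ⟨x, hx, hxv⟩ := hvmem
    refine ⟨(x : K), ?_, ?_⟩
    · rw [hT₁]; exact ⟨x, hx, rfl⟩
    · have := congrArg Subtype.val hxv
      exact this
  obtain ⟨T, hT⟩ : ∃ T : Subgroup G, T = T₁.map K.subtype := ⟨_, rfl⟩
  refine ⟨T, ?_, ?_⟩
  · rw [hT]; exact hT₁2.map _
  -- the normalizer M of T₁ in K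
  obtain ⟨M, hM⟩ : ∃ M : Subgroup K, M = normalizer (T₁ : Set K) := ⟨_, rfl⟩
  rw [← hM] at hfrat
  have hMT : ∀ m ∈ M, ((m : K) : G) ∈ normalizer (T : Set G) := by
    intro m hm
    rw [hM] at hm
    apply Cfsg.Agent.Lib.Helper18.mem_normalizer_of_forall_conj_mem
    intro z hz
    rw [hT] at hz ⊢
    obtain ⟨z', hz', rfl⟩ := hz
    refine ⟨m * z' * m⁻¹, (Subgroup.mem_normalizer_iff.mp hm z').mp hz', ?_⟩
    simp
  -- the map ψ = gHom ∘ f on M
  obtain ⟨ψ, hψ⟩ : ∃ ψ : M →* Equiv.Perm (Fin 3), ψ = (gHom.comp f).comp M.subtype := ⟨_, rfl⟩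
  have hψapp : ∀ m : M, ψ m = gHom (f (m : K)) := by intro m; rw [hψ]; rfl
  have hψsurj : Function.Surjective ψ := by
    intro ρ
    obtain ⟨σ, hσ⟩ := gHom_surjective ρ
    obtain ⟨k, hk⟩ := hf σ
    have hk' : k ∈ M ⊔ X := by rw [hfrat]; exact Subgroup.mem_top _
    obtain ⟨m, hm, x, hx, hmx⟩ := Subgroup.mem_sup_of_normal_right.mp hk'
    refine ⟨⟨m, hm⟩, ?_⟩
    rw [hψapp, ← hσ, ← hk, ← hmx, map_mul, map_mul, (hmemX x).mp hx, mul_one]
  -- ι : M → N_G(T)
  let ι : M →* normalizer (T : Set G) :=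
    (K.subtype.comp M.subtype).codRestrict (normalizer (T : Set G)) (fun m => hMT m m.2)
  let φ : M →* ↥(normalizer (T : Set G)) ⧸ (centralizer (T : Set G)).subgroupOf (normalizer (T : Set G)) :=
    (QuotientGroup.mk' _).comp ι
  have hker : φ.ker ≤ ψ.ker := by
    intro m hm
    rw [MonoidHom.mem_ker] at hm ⊢
    have h1 : ι m ∈ (centralizer (T : Set G)).subgroupOf (normalizer (T : Set G)) := by
      rw [← QuotientGroup.eq_one_iff]; exact hm
    rw [Subgroup.mem_subgroupOf] at h1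
    have h2 : (((m : M) : K) : G) ∈ centralizer (T : Set G) := h1
    rw [hψapp]
    have : f (m : K) ∈ gHom.ker := by
      apply mem_ker_of_centralizes
      intro τ hτ
      obtain ⟨x, hx, hxτ⟩ := hontoV τ hτ
      have h3 : ((x : K) : G) * (((m : M) : K) : G) = (((m : M) : K) : G) * ((x : K) : G) :=
        Subgroup.mem_centralizer_iff.mp h2 _ (by rw [hT]; exact ⟨x, hx, rfl⟩)
      have h4 : x * (m : K) = (m : K) * x := by
        apply Subtype.ext
        simpa using h3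
      rw [← hxτ, ← map_mul, ← map_mul, h4]
    exact MonoidHom.mem_ker.mp this
  have h1 : Cfsg.Involves (Equiv.Perm (Fin 3)) (M ⧸ φ.ker) := by
    apply Cfsg.Agent.Lib.Helper27.involves_of_surjective (QuotientGroup.lift φ.ker ψ hker)
    intro ρ
    obtain ⟨m, hm⟩ := hψsurj ρ
    exact ⟨QuotientGroup.mk m, by rw [QuotientGroup.lift_mk]; exact hm⟩
  exact Cfsg.Agent.Lib.Helper27.involves_of_injective (QuotientGroup.kerLift φ)
    (QuotientGroup.kerLift_injective φ) h1

end Forward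

end Cfsg.Agent.Lib.Helper1.S4Inv
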