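import Mathlib
import Cfsg.Prelude.Def_GeometricClasses

/-!
# S5630 CORE-FFa / CORE-FFb (helper1): subfields of finite fields

* `ncard_pow_eq_self`: in a finite field with `Q ^ e` elements exactly `Q` elements satisfy `x ^ Q = x`;
* `exists_prime_index_subfield` (CORE-FFb);
* `fixedSub`, `exists_prime_field_subalgebra`, `normalizer_le_of_canonical` (CORE-FFa).
-/

set_option autoImplicit false

namespace Cfsg.Agent.Lib.Helper1.S5630FF

open Matrix Cfsg.Geo

/-- In a finite field of cardinality `Q ^ e` (`2 ≤ Q`) exactly `Q` elements satisfy `x ^ Q = x`. -/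
theorem ncard_pow_eq_self {L : Type*} [Field L] [Fintype L] (Q e : ℕ) (hQ : 2 ≤ Q)
    (hcard : Fintype.card L = Q ^ e) : {x : L | x ^ Q = x}.ncard = Q := by
  classical
  have hQ1 : 1 ≤ Q := by omega
  have hk : Nat.card (powMonoidHom (Q - 1) : Lˣ →* Lˣ).ker = Q - 1 := by
    rw [IsCyclic.card_powMonoidHom_ker, Nat.card_eq_fintype_card, Fintype.card_units, hcard]
    exact Nat.gcd_eq_right (Nat.sub_one_dvd_pow_sub_one ..)
  have hset : {x : L | x ^ Q = x} =
      insert 0 (Units.val '' ((powMonoidHom (Q - 1) : Lˣ →* Lˣ).ker : Set Lˣ)) := by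
    ext x
    simp only [Set.mem_ofPred_eq, Set.mem_insert_iff, Set.mem_image, SetLike.mem_coe,
      MonoidHom.mem_ker, powMonoidHom_apply]
    constructor
    · intro hx
      by_cases h0 : x = 0
      · exact Or.inl h0
      · refine Or.inr ⟨Units.mk0 x h0, ?_, rfl⟩
        apply Units.ext
        simp only [Units.val_pow_eq_pow_val, Units.val_mk0, Units.val_one]
        have : x ^ (Q - 1) * x = 1 * x := by
          rw [← pow_succ, Nat.sub_add_cancel hQ1, hx, one_mul]
        exact mul_right_cancel₀ h0 this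
    · rintro (rfl | ⟨u, hu, rfl⟩)
      · exact zero_pow (by omega)
      · have h1 : (u : L) ^ (Q - 1) = 1 := by
          have := congrArg Units.val hu
          simpa using this
        calc (u : L) ^ Q = (u : L) ^ (Q - 1) * u := by rw [← pow_succ, Nat.sub_add_cancel hQ1]
          _ = u := by rw [h1, one_mul]
  rw [hset, Set.ncard_insert_of_notMem, Set.ncard_image_of_injective _ Units.val_injective,
    ← Nat.card_coe_set_eq]
  · change Nat.card (powMonoidHom (Q - 1) : Lˣ →* Lˣ).ker + 1 = Q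
    rw [hk]; omega
  · rintro ⟨u, -, hu⟩
    exact u.ne_zero hu

variable {F : Type*} [Field F]

/-- **CORE-FFb** every proper subfield of a finite field lies in a subfield of prime index -/
theorem exists_prime_index_subfield [Fintype F] (F₀ : Subfield F) (h0 : F₀ ≠ ⊤) :
    ∃ (F₁ : Subfield F) (r : ℕ), F₀ ≤ F₁ ∧ r.Prime ∧ Fintype.card F = Nat.card F₁ ^ r := by
  classical
  let _ : Fintype F₀ := Fintype.ofFinite _
  set q₀ := Fintype.card F₀ with hq₀
  set d := Module.finrank F₀ F with hd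
  have hcard : Fintype.card F = q₀ ^ d := Module.card_eq_pow_finrank
  have hq₀2 : 2 ≤ q₀ := Fintype.one_lt_card
  have hd1 : d ≠ 1 := by
    intro h1
    apply h0
    rw [h1, pow_one] at hcard
    have hsurj : Function.Surjective (Subtype.val : F₀ → F) :=
      ((Fintype.bijective_iff_injective_and_card _).2 ⟨Subtype.val_injective, hcard.symm⟩).2
    exact eq_top_iff.2 fun x _ => by obtain ⟨y, rfl⟩ := hsurj x; exact y.2
  have hd0 : d ≠ 0 := by
    intro h
    rw [h, pow_zero] at hcard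
    have := Fintype.one_lt_card (α := F)
    omega
  obtain ⟨m, hm⟩ : d.minFac ∣ d := Nat.minFac_dvd d
  have hr : d.minFac.Prime := Nat.minFac_prime hd1
  set r := d.minFac
  have hm0 : m ≠ 0 := by rintro rfl; exact hd0 (by rw [hm, mul_zero])
  set Q := q₀ ^ m with hQ
  have hQ2 : 2 ≤ Q := by
    calc 2 ≤ q₀ := hq₀2
      _ = q₀ ^ 1 := (pow_one _).symm
      _ ≤ q₀ ^ m := Nat.pow_le_pow_right (by omega) (by omega)
  have hcardQ : Fintype.card F = Q ^ r := by rw [hcard, hm, hQ, ← pow_mul, mul_comm]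
  let φ : F →+* F := (FiniteField.frobeniusAlgHom F₀ F : F →+* F) ^ m
  have hφ : ∀ x : F, φ x = x ^ Q := by
    intro x
    change ((FiniteField.frobeniusAlgHom F₀ F : F →+* F) ^ m) x = x ^ Q
    rw [RingHom.coe_pow]
    have : ⇑(FiniteField.frobeniusAlgHom F₀ F : F →+* F) = (· ^ q₀) := rfl
    rw [this, pow_iterate]
  refine ⟨φ.eqLocusField (RingHom.id F), r, ?_, hr, ?_⟩
  · intro x hx
    rw [RingHom.mem_eqLocusField, hφ, RingHom.id_apply]
    have h1 : x ^ q₀ = x := by
      have := FiniteField.pow_card (⟨x, hx⟩ : F₀)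
      have := congrArg Subtype.val this
      simpa using this
    have hpow : ∀ k : ℕ, x ^ (q₀ ^ k) = x := by
      intro k
      induction k with
      | zero => simp
      | succ k ih => rw [pow_succ, pow_mul, ih, h1]
    exact hpow m
  · rw [hcardQ]
    congr 1
    change Q = Nat.card ↥((φ.eqLocusField (RingHom.id F) : Subfield F) : Set F)
    rw [Nat.card_coe_set_eq]
    have : ((φ.eqLocusField (RingHom.id F) : Subfield F) : Set F) = {x : F | x ^ Q = x} := by
      ext x
      simp only [SetLike.mem_coe, RingHom.mem_eqLocusField, hφ, RingHom.id_apply, Set.mem_ofPred_eq]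
    rw [this]
    exact (ncard_pow_eq_self Q r hQ2 hcardQ).symm

variable {κ : Type} [Fintype κ] [DecidableEq κ]

/-- the elements of a commutative subalgebra fixed by `x ↦ x ^ (q ^ r)` form a subalgebra -/
def fixedSub [Fintype F] [Nonempty κ] (E : Subalgebra F (Matrix κ κ F))
    (hcomm : ∀ x ∈ E, ∀ y ∈ E, x * y = y * x) (r : ℕ) : Subalgebra F (Matrix κ κ F) where
  carrier := {x | x ∈ E ∧ x ^ (Fintype.card F ^ r) = x}
  mul_mem' := by
    rintro x y ⟨hx, hx'⟩ ⟨hy, hy'⟩
    refine ⟨E.mul_mem hx hy, ?_⟩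
    have hc : Commute x y := hcomm x hx y hy
    rw [hc.mul_pow, hx', hy']
  one_mem' := ⟨E.one_mem, one_pow _⟩
  add_mem' := by
    rintro x y ⟨hx, hx'⟩ ⟨hy, hy'⟩
    refine ⟨E.add_mem hx hy, ?_⟩
    have hc : Commute x y := hcomm x hx y hy
    obtain ⟨p, hp⟩ := CharP.exists F
    obtain ⟨n, hpp, hn⟩ := FiniteField.card F p
    have : Fact p.Prime := ⟨hpp⟩
    rw [hn, ← pow_mul] at hx' hy' ⊢
    rw [add_pow_char_pow_of_commute p ((n : ℕ) * r) hc, hx', hy']
  zero_mem' := ⟨E.zero_mem, zero_pow (pow_ne_zero _ Fintype.card_ne_zero)⟩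
  algebraMap_mem' := by
    intro c
    refine ⟨E.algebraMap_mem c, ?_⟩
    rw [← map_pow, FiniteField.pow_card_pow]

/-- **CORE-FFa** a field subalgebra `E ≠ F` of `M_d(F)` (`F` finite) contains a canonical subfield of prime degree -/
theorem exists_prime_field_subalgebra [Fintype F] (E : Subalgebra F (Matrix κ κ F))
    (hcomm : ∀ x ∈ E, ∀ y ∈ E, x * y = y * x) (hinv : ∀ x ∈ E, x ≠ 0 → ∃ y ∈ E, x * y = 1)
    (hne : ∃ x ∈ E, ∀ c : F, x ≠ c • (1 : Matrix κ κ F)) :
    ∃ (r : ℕ) (K : Subalgebra F (Matrix κ κ F)), r.Prime ∧ IsFieldSubalgebra r K ∧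
      (∀ x, x ∈ K ↔ x ∈ E ∧ x ^ (Fintype.card F ^ r) = x) := by
  classical
  obtain ⟨x₀, hx₀E, hx₀⟩ := hne
  have hκ : Nonempty κ := by
    by_contra h
    rw [not_nonempty_iff] at h
    exact hx₀ 0 (Subsingleton.elim _ _)
  set q := Fintype.card F with hq
  have hq2 : 2 ≤ q := Fintype.one_lt_card
  set d := Module.finrank F E with hd
  have hcardE : Nat.card E = q ^ d := by
    rw [Module.natCard_eq_pow_finrank (K := F), Nat.card_eq_fintype_card]
  have hd1 : d ≠ 1 := by
    intro h
    have := Subalgebra.eq_bot_of_finrank_one h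
    rw [this] at hx₀E
    obtain ⟨c, hc⟩ := Algebra.mem_bot.1 hx₀E
    exact hx₀ c (by rw [← hc, Algebra.algebraMap_eq_smul_one])
  have h01 : (0 : E) ≠ 1 := by
    intro h
    have := congrArg Subtype.val h
    simp at this
  have hd0 : d ≠ 0 := by
    intro h
    rw [h, pow_zero] at hcardE
    have : Subsingleton E := (Nat.card_eq_one_iff_unique.1 hcardE).1
    exact h01 (Subsingleton.elim _ _)
  obtain ⟨m, hm⟩ : d.minFac ∣ d := Nat.minFac_dvd d
  have hr : d.minFac.Prime := Nat.minFac_prime hd1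
  set r := d.minFac with hrdef
  set Q := q ^ r with hQ
  have hQ2 : 2 ≤ Q := by
    calc 2 ≤ q := hq2
      _ = q ^ 1 := (pow_one _).symm
      _ ≤ q ^ r := Nat.pow_le_pow_right (by omega) hr.one_lt.le
  have hcardQ : Nat.card E = Q ^ m := by rw [hcardE, hm, hQ, ← pow_mul]
  -- the field structure on `E`
  have hE : IsField E :=
    { exists_pair_ne := ⟨0, 1, h01⟩
      mul_comm := fun a b => Subtype.ext (hcomm a a.2 b b.2)
      mul_inv_cancel := by
        intro a ha
        obtain ⟨y, hy, hay⟩ := hinv a a.2 (fun h => ha (Subtype.ext h))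
        exact ⟨⟨y, hy⟩, Subtype.ext hay⟩ }
  have hcount : ({x : Matrix κ κ F | x ∈ E ∧ x ^ Q = x}).ncard = Q := by
    let _ : Field E := hE.toField
    let _ : Fintype E := Fintype.ofFinite E
    have h1 := ncard_pow_eq_self (L := E) Q m hQ2 (by rw [← Nat.card_eq_fintype_card, hcardQ])
    have hset : {x : Matrix κ κ F | x ∈ E ∧ x ^ Q = x} = Subtype.val '' {x : E | x ^ Q = x} := by
      ext x
      constructor
      · rintro ⟨hxE, hx⟩
        exact ⟨⟨x, hxE⟩, Subtype.ext hx, rfl⟩
      · rintro ⟨y, hy, rfl⟩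
        exact ⟨y.2, congrArg Subtype.val hy⟩
    rw [hset, Set.ncard_image_of_injective _ Subtype.val_injective, h1]
  refine ⟨r, fixedSub E hcomm r, hr, ⟨?_, ?_, ?_⟩, fun x => Iff.rfl⟩
  · rintro x ⟨hx, -⟩ y ⟨hy, -⟩
    exact hcomm x hx y hy
  · rintro x ⟨hx, hx'⟩ hx0
    obtain ⟨y, hy, hxy⟩ := hinv x hx hx0
    refine ⟨y, ⟨hy, ?_⟩, hxy⟩
    have hyx : y * x = 1 := by rw [← hcomm x hx y hy, hxy]
    have hc : Commute x y := hcomm x hx y hy
    have h1 : x * y ^ Q = 1 := by
      have := congrArg (· ^ Q) hxy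
      simp only [one_pow] at this
      rw [hc.mul_pow, hx'] at this
      exact this
    calc y ^ Q = (y * x) * y ^ Q := by rw [hyx, one_mul]
      _ = y * (x * y ^ Q) := by rw [mul_assoc]
      _ = y := by rw [h1, mul_one]
  · have hK : Nat.card (fixedSub E hcomm r) = q ^ Module.finrank F (fixedSub E hcomm r) := by
      rw [Module.natCard_eq_pow_finrank (K := F), Nat.card_eq_fintype_card]
    have hK2 : Nat.card (fixedSub E hcomm r) = Q := by
      rw [← hcount]
      exact Nat.card_coe_set_eq _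
    rw [hK2, hQ] at hK
    exact (Nat.pow_right_injective hq2 hK).symm

/-- consequence of the canonical description: whoever normalises `E` normalises `K` -/
theorem normalizer_le_of_canonical [Fintype F] (E K : Subalgebra F (Matrix κ κ F)) (N : ℕ)
    (hK : ∀ x, x ∈ K ↔ x ∈ E ∧ x ^ N = x) : subalgebraNormalizer E ≤ subalgebraNormalizer K := by
  intro g hg k
  have hg' : ∀ k : Matrix κ κ F, k ∈ E ↔ (g : Matrix κ κ F) * k * ((g⁻¹ : GL κ F) : Matrix κ κ F) ∈ E := hg
  rw [hK, hK, ← hg' k, Units.conj_pow]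
  constructor
  · rintro ⟨h1, h2⟩
    exact ⟨h1, by rw [h2]⟩
  · rintro ⟨h1, h2⟩
    refine ⟨h1, ?_⟩
    have := congrArg (fun M => ((g⁻¹ : GL κ F) : Matrix κ κ F) * M * (g : Matrix κ κ F)) h2
    simpa [mul_assoc] using this

end Cfsg.Agent.Lib.Helper1.S5630FF
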