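import Mathlib
import Cfsg.Prelude.Def_GeometricClasses
import Cfsg.Agent.Lib.Helper2.BurnsidePQ

/-!
# S5662 C7-32 (helper1, for helper16): a perfect subgroup of `GL_2(3)` is trivial

`|GL_2(3)| = 48 = 2⁴ · 3`, so `GL_2(3)` is solvable (Burnside `p^a q^b`, helper2), and a perfect subgroup of a solvable
group is trivial.
-/

set_option autoImplicit false
set_option linter.unusedSectionVars false
set_option linter.unusedVariables false

namespace Cfsg.Agent.Lib.Helper1.S5662C732

open Matrix Cfsg.Geo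
open scoped commutatorElement

/-- a perfect subgroup of a solvable group is trivial -/
theorem perfect_eq_bot_of_isSolvable {G : Type*} [Group G] [Group.IsSolvable G] (Y : Subgroup G) (h : ⁅Y, Y⁆ = Y) :
    Y = ⊥ := by
  obtain ⟨n, hn⟩ := Group.IsSolvable.solvable (G := G)
  have hle : ∀ k, Y ≤ derivedSeries G k := by
    intro k
    induction k with
    | zero => exact le_top
    | succ k ih =>
      rw [derivedSeries_succ]
      calc Y = ⁅Y, Y⁆ := h.symm
        _ ≤ ⁅derivedSeries G k, derivedSeries G k⁆ := Subgroup.commutator_mono ih ih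
  rw [eq_bot_iff, ← hn]
  exact hle n

variable {F : Type*} [Field F] [Fintype F]

theorem card_gl2_three (h3 : Fintype.card F = 3) : Nat.card (GL (Fin 2) F) = 2 ^ 4 * 3 ^ 1 := by
  rw [Matrix.card_GL_field, h3, Fin.prod_univ_two]
  norm_num

theorem isSolvable_gl2_three (h3 : Fintype.card F = 3) : Group.IsSolvable (GL (Fin 2) F) :=
  Cfsg.Agent.Lib.Helper2.isSolvable_of_card_eq_prime_pow_mul_prime_pow 2 3 Nat.prime_two Nat.prime_three _
    (GL (Fin 2) F) rfl ⟨4, 1, card_gl2_three h3⟩

/-- a perfect subgroup of `GL_2(3)` is trivial -/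
theorem eq_bot_of_perfect_gl2_three (h3 : Fintype.card F = 3) (Y : Subgroup (GL (Fin 2) F)) (hperf : ⁅Y, Y⁆ = Y) :
    Y = ⊥ := by
  haveI := isSolvable_gl2_three h3
  exact perfect_eq_bot_of_isSolvable Y hperf

/-- **C7-32** -/
theorem le_scalars_of_perfect_gl2_three (h3 : Fintype.card F = 3) (Y : Subgroup (GL (Fin 2) F)) (hperf : ⁅Y, Y⁆ = Y) :
    Y ≤ scalars (Fin 2) F := by
  rw [eq_bot_of_perfect_gl2_three h3 Y hperf]
  exact bot_le

end Cfsg.Agent.Lib.Helper1.S5662C732
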