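import Mathlib
import Cfsg.Prelude.Def_GeometricClasses
import Cfsg.Agent.Lib.Helper6.Unitary
import Cfsg.Agent.Lib.Helper14.UCent7
import Cfsg.Agent.Lib.Helper16.UnitaryCount3
import Cfsg.Agent.Lib.Helper2.BurnsidePQ

/-!
# S5663 U7-M9 (helper1, for helper22): a perfect group of isometries of a non-degenerate hermitian form on `F_4³` is trivial

`Aᵀ = W^♯ W` (helper14's `exists_root`), so `W K W⁻¹ ≤ GU_3(2)`, of order `2³ · 3⁴`, solvable by Burnside (helper2);
a perfect subgroup of a solvable group is trivial.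
-/

set_option autoImplicit false
set_option linter.unusedSectionVars false
set_option linter.unusedVariables false

namespace Cfsg.Agent.Lib.Helper1.S5663U7M9

open Matrix Cfsg Cfsg.Geo Cfsg.Agent.Lib.Helper6
open Cfsg.Agent.Lib.Helper14.HSemi (sigQ sigQ_apply)
open Cfsg.Agent.Lib.Helper14.GUConj (sharp sharp_mul sharp_sharp sharp_inv det_sharp sharp_eq)
open scoped commutatorElement

/-- a perfect subgroup contained in a solvable subgroup is trivial -/
theorem perfect_eq_bot_of_le_isSolvable {G : Type*} [Group G] (S Y : Subgroup G) [Group.IsSolvable S] (hle : Y ≤ S)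
    (h : ⁅Y, Y⁆ = Y) : Y = ⊥ := by
  obtain ⟨n, hn⟩ := Group.IsSolvable.solvable (G := S)
  have hk : ∀ k, Y ≤ (derivedSeries S k).map S.subtype := by
    intro k
    induction k with
    | zero =>
      rw [derivedSeries_zero, ← MonoidHom.range_eq_map, Subgroup.range_subtype]
      exact hle
    | succ k ih =>
      rw [derivedSeries_succ, Subgroup.map_commutator]
      calc Y = ⁅Y, Y⁆ := h.symm
        _ ≤ _ := Subgroup.commutator_mono ih ih
  have := hk n
  rw [hn, Subgroup.map_bot] at this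
  exact eq_bot_iff.2 this

variable {F : Type*} [Field F]

theorem card_gu3_two [Fintype F] (hF : Fintype.card F = 2 ^ 2) : Nat.card (Cfsg.GU 3 F 2) = 2 ^ 3 * 3 ^ 4 := by
  rw [Cfsg.Agent.Lib.Helper16.card_GU hF 3]
  decide

theorem isSolvable_gu3_two [Fintype F] (hF : Fintype.card F = 2 ^ 2) : Group.IsSolvable (Cfsg.GU 3 F 2) :=
  Cfsg.Agent.Lib.Helper2.isSolvable_of_card_eq_prime_pow_mul_prime_pow 2 3 Nat.prime_two Nat.prime_three _
    (Cfsg.GU 3 F 2) rfl ⟨3, 4, card_gu3_two hF⟩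

theorem map_conjQ_eq [Fintype F] {q : ℕ} (hF : Fintype.card F = q ^ 2) {k : ℕ} (M : Matrix (Fin k) (Fin k) F) :
    M.map (conjQ hF) = M.map (sigQ hF) := by
  ext i j
  rfl

/-- **M9** (SOLV) a perfect group of isometries of a non-degenerate hermitian form on `F_4³` is trivial -/
theorem perfect_trivial_32 [Fintype F] (hF : Fintype.card F = 2 ^ 2) (A : Matrix (Fin 3) (Fin 3) F) (hA : IsUnit A)
    (hherm : (A.map (conjQ hF))ᵀ = A) (K : Subgroup (GL (Fin 3) F))
    (hK : ∀ k ∈ K, (k : Matrix (Fin 3) (Fin 3) F)ᵀ * A * (k : Matrix (Fin 3) (Fin 3) F).map (conjQ hF) = A)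
    (hperf : ⁅K, K⁆ = K) : K = ⊥ := by
  -- `Aᵀ` is hermitian and invertible
  have hAT : sharp hF Aᵀ = Aᵀ := by
    rw [sharp_eq, ← map_conjQ_eq hF, Matrix.transpose_map, hherm]
  have hATdet : IsUnit (Aᵀ).det := by
    rw [Matrix.det_transpose]
    exact (Matrix.isUnit_iff_isUnit_det A).1 hA
  obtain ⟨W, hWd, hW⟩ := Cfsg.Agent.Lib.Helper14.UCent.exists_root hF Aᵀ hAT hATdet
  have hsWd : IsUnit (sharp hF W).det := by
    rw [det_sharp]
    exact hWd.map (sigQ hF)
  let P₀ : GL (Fin 3) F := ((Matrix.isUnit_iff_isUnit_det W).mpr hWd).unit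
  have hP₀ : (P₀ : Matrix (Fin 3) (Fin 3) F) = W := rfl
  have hP₀i : ((P₀⁻¹ : GL (Fin 3) F) : Matrix (Fin 3) (Fin 3) F) = W⁻¹ := by
    rw [Matrix.coe_units_inv, hP₀]
  -- the fixing condition in `sharp` form
  have hfix : ∀ k ∈ K, sharp hF (k : Matrix (Fin 3) (Fin 3) F) * Aᵀ * (k : Matrix (Fin 3) (Fin 3) F) = Aᵀ := by
    intro k hk
    have h := congrArg Matrix.transpose (hK k hk)
    rw [Matrix.transpose_mul, Matrix.transpose_mul, Matrix.transpose_transpose, ← Matrix.mul_assoc,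
      map_conjQ_eq hF] at h
    rw [sharp_eq]
    exact h
  -- the conjugate of `K` lies in `GU_3(2)`
  have hle : K.map (MulAut.conj P₀).toMonoidHom ≤ Cfsg.GU 3 F 2 := by
    rintro _ ⟨k, hk, rfl⟩
    change P₀ * k * P₀⁻¹ ∈ Cfsg.GU 3 F 2
    rw [Cfsg.Agent.Lib.Helper14.UCent.mem_GU_iff hF, Units.val_mul, Units.val_mul, hP₀i, hP₀, sharp_mul, sharp_mul,
      sharp_inv hF W hWd]
    calc (sharp hF W)⁻¹ * (sharp hF (k : Matrix (Fin 3) (Fin 3) F) * sharp hF W) *
          (W * (k : Matrix (Fin 3) (Fin 3) F) * W⁻¹)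
        = (sharp hF W)⁻¹ * (sharp hF (k : Matrix (Fin 3) (Fin 3) F) * (sharp hF W * W) *
            (k : Matrix (Fin 3) (Fin 3) F)) * W⁻¹ := by simp only [Matrix.mul_assoc]
      _ = (sharp hF W)⁻¹ * (sharp hF W * W) * W⁻¹ := by rw [hW, hfix k hk]
      _ = 1 := by
          rw [← Matrix.mul_assoc (sharp hF W)⁻¹, Matrix.nonsing_inv_mul _ hsWd, Matrix.one_mul,
            Matrix.mul_nonsing_inv _ hWd]
  have hperf' : ⁅K.map (MulAut.conj P₀).toMonoidHom, K.map (MulAut.conj P₀).toMonoidHom⁆ =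
      K.map (MulAut.conj P₀).toMonoidHom := by
    rw [← Subgroup.map_commutator, hperf]
  haveI := isSolvable_gu3_two hF
  have hbot := perfect_eq_bot_of_le_isSolvable (Cfsg.GU 3 F 2) _ hle hperf'
  exact (Subgroup.map_eq_bot_iff_of_injective K (MulAut.conj P₀).injective).1 hbot

end Cfsg.Agent.Lib.Helper1.S5663U7M9
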