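import Mathlib
import Cfsg.Agent.Lib.Helper27.SpOBDefs
import Cfsg.Agent.Lib.Helper15.Witt1

/-!
# S5666 CORE B, piece B-GEO (helper1, for sub-architect helper27): orthogonal geometry of `W`

`exists_singular`, `exists_partner'`, `exists_sing_pair` with the exact statements of
`notes/S5666CoreBSkel_helper27.lean.txt`.
-/

set_option autoImplicit false
set_option linter.unusedSectionVars false
set_option linter.unusedVariables false

namespace Cfsg.Agent.Lib.Helper1.S5666BGEO

open Matrix Module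
open scoped Kronecker commutatorElement
open Cfsg.Agent.Lib.Helper16.Tens
open Cfsg.Agent.Lib.Helper3.SpT
open Cfsg.Agent.Lib.Helper27.SpOB

variable {F : Type*} [Field F] {a b : ℕ} {J1 : Matrix (Fin a) (Fin a) F} {J2 : Matrix (Fin b) (Fin b) F}

/-- the Mathlib bilinear form of a Gram matrix -/
noncomputable def BF (J : Matrix (Fin b) (Fin b) F) : LinearMap.BilinForm F (Fin b → F) :=
  Matrix.toLinearMap₂' F J

theorem BF_apply (J : Matrix (Fin b) (Fin b) F) (x y : Fin b → F) : BF J x y = bf J x y :=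
  Matrix.toLinearMap₂'_apply' J x y

theorem BF_nondeg (hJ : SymG J2) : (BF J2).Nondegenerate := by
  constructor
  · intro x hx
    exact hJ.nondeg x (fun y => by rw [← BF_apply]; exact hx y)
  · intro y hy
    exact hJ.nondeg y (fun x => by rw [hJ.symm, ← BF_apply]; exact hy x)

/-- the orthogonal complement -/
noncomputable def perp (J : Matrix (Fin b) (Fin b) F) (Z : Submodule F (Fin b → F)) :
    Submodule F (Fin b → F) := (BF J).orthogonal Z

theorem mem_perp_iff (J : Matrix (Fin b) (Fin b) F) (Z : Submodule F (Fin b → F)) (x : Fin b → F) :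
    x ∈ perp J Z ↔ ∀ z ∈ Z, bf J z x = 0 := by
  unfold perp
  rw [LinearMap.BilinForm.mem_orthogonal_iff]
  constructor
  · intro h z hz
    rw [← BF_apply]
    exact h z hz
  · intro h z hz
    change BF J z x = 0
    rw [BF_apply]
    exact h z hz

theorem finrank_perp (hJ : SymG J2) (Z : Submodule F (Fin b → F)) :
    finrank F ↥(perp J2 Z) = b - finrank F ↥Z := by
  unfold perp
  rw [LinearMap.BilinForm.finrank_orthogonal (BF_nondeg hJ), Module.finrank_fintype_fun_eq_card,
    Fintype.card_fin]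

/-- the quadratic form `x ↦ f(x,x)` -/
noncomputable def QF (J : Matrix (Fin b) (Fin b) F) : QuadraticForm F (Fin b → F) :=
  (BF J).toQuadraticMap

theorem QF_apply (J : Matrix (Fin b) (Fin b) F) (x : Fin b → F) : QF J x = bf J x x := by
  unfold QF
  rw [LinearMap.BilinMap.toQuadraticMap_apply, BF_apply]

/-- a subspace of dimension `≥ 3` over a finite field contains a non-zero singular vector -/
theorem exists_singular_sub [Fintype F] (J : Matrix (Fin b) (Fin b) F) (S : Submodule F (Fin b → F))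
    (hS : 3 ≤ finrank F ↥S) : ∃ k ∈ S, k ≠ 0 ∧ bf J k k = 0 := by
  obtain ⟨z, hz0, hz⟩ := Cfsg.Agent.Lib.Helper15.exists_singular_of_three_le_finrank
    ((QF J).comp S.subtype) hS
  refine ⟨(z : Fin b → F), z.2, fun h0 => hz0 (Subtype.ext h0), ?_⟩
  rw [QuadraticMap.comp_apply, Submodule.subtype_apply, QF_apply] at hz
  exact hz

theorem exists_singular [Fintype F] (hJ2 : SymG J2) (hb : 3 ≤ b) :
    ∃ k : Fin b → F, k ≠ 0 ∧ bf J2 k k = 0 := by
  obtain ⟨k, -, hk0, hk⟩ := exists_singular_sub J2 (⊤ : Submodule F (Fin b → F))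
    (by rw [finrank_top, Module.finrank_fintype_fun_eq_card, Fintype.card_fin]; exact hb)
  exact ⟨k, hk0, hk⟩

theorem exists_partner' (h2 : (2 : F) ≠ 0) (hJ2 : SymG J2) (k : Fin b → F) (hk0 : k ≠ 0) (hk : bf J2 k k = 0) :
    ∃ k' : Fin b → F, bf J2 k' k' = 0 ∧ bf J2 k k' = 1 := by
  obtain ⟨y, hy⟩ : ∃ y, bf J2 k y ≠ 0 := by
    by_contra hcon
    push Not at hcon
    exact hk0 (hJ2.nondeg k hcon)
  obtain ⟨y₁, hy₁⟩ : ∃ y₁, y₁ = (bf J2 k y)⁻¹ • y := ⟨_, rfl⟩
  have h1 : bf J2 k y₁ = 1 := by rw [hy₁, bf_smul_right, inv_mul_cancel₀ hy]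
  have h1' : bf J2 y₁ k = 1 := by rw [hJ2.symm, h1]
  refine ⟨y₁ - (bf J2 y₁ y₁ / 2) • k, ?_, ?_⟩
  · simp only [bf_sub_left, bf_sub_right, bf_smul_left, bf_smul_right, hk, h1, h1']
    field_simp
    ring
  · rw [bf_sub_right, bf_smul_right, hk, h1]
    ring

theorem exists_sing_pair [Fintype F] (h2 : (2 : F) ≠ 0) (hJ2 : SymG J2) (Z : Submodule F (Fin b → F))
    (hZ1 : finrank F Z + 4 ≤ b) (hZ2 : 2 * finrank F Z < b) :
    ∃ k c : Fin b → F, k ≠ 0 ∧ bf J2 k k = 0 ∧ bf J2 k c = 0 ∧ bf J2 c c ≠ 0 ∧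
      (∀ z ∈ Z, bf J2 z k = 0) ∧ (∀ z ∈ Z, bf J2 z c = 0) := by
  have hX : finrank F ↥(perp J2 Z) = b - finrank F ↥Z := finrank_perp hJ2 Z
  -- a non-singular vector of `Z^⊥`
  obtain ⟨c, hcX, hc⟩ : ∃ c ∈ perp J2 Z, bf J2 c c ≠ 0 := by
    by_contra hcon
    push Not at hcon
    have hts : ∀ x ∈ perp J2 Z, ∀ y ∈ perp J2 Z, bf J2 x y = 0 := by
      intro x hx y hy
      have h := hcon (x + y) (Submodule.add_mem _ hx hy)
      rw [bf_add_left, bf_add_right, bf_add_right, hcon x hx, hcon y hy, hJ2.symm y x] at h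
      have h' : 2 * bf J2 x y = 0 := by linear_combination h
      exact (mul_eq_zero.mp h').resolve_left h2
    have hle : perp J2 Z ≤ perp J2 (perp J2 Z) := by
      intro x hx
      rw [mem_perp_iff]
      intro z hz
      exact hts z hz x hx
    have h1 := Submodule.finrank_mono hle
    rw [finrank_perp hJ2 (perp J2 Z), hX] at h1
    omega
  -- a singular vector of `⟨Z, c⟩^⊥`
  have hZc : finrank F ↥(Z ⊔ Submodule.span F ({c} : Set (Fin b → F))) ≤ finrank F ↥Z + 1 := by
    have h1 : finrank F ↥(Submodule.span F ({c} : Set (Fin b → F))) ≤ 1 := by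
      have := finrank_span_le_card (R := F) ({c} : Set (Fin b → F))
      simpa [Set.finrank] using this
    have h3 := Submodule.finrank_add_le_finrank_add_finrank Z (Submodule.span F ({c} : Set (Fin b → F)))
    omega
  obtain ⟨k, hkX, hk0, hk⟩ := exists_singular_sub J2 (perp J2 (Z ⊔ Submodule.span F ({c} : Set (Fin b → F))))
    (by rw [finrank_perp hJ2]; omega)
  rw [mem_perp_iff] at hkX hcX
  have hck : bf J2 c k = 0 :=
    hkX c (Submodule.mem_sup_right (Submodule.subset_span (Set.mem_singleton c)))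
  refine ⟨k, c, hk0, hk, by rw [hJ2.symm, hck], hc, fun z hz => hkX z (Submodule.mem_sup_left hz), hcX⟩

end Cfsg.Agent.Lib.Helper1.S5666BGEO
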