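import Mathlib
import Cfsg.Agent.Lib.Helper27.SpOBDefs
import Cfsg.Agent.Lib.Helper10.KronRank2
import Cfsg.Agent.Lib.Helper10.S5637FORANK

/-!
# S5666 CORE B, piece B-RANK (helper1, for sub-architect helper27)

A conjugate `g⁻¹ (1 ⊗ ρ_{k,c}) g` (`c` non-singular) lying in `N0` forces `g (U ⊗ k') = U ⊗ k` for some `k' ≠ 0`.
-/

set_option autoImplicit false
set_option linter.unusedSectionVars false
set_option linter.unusedVariables false

namespace Cfsg.Agent.Lib.Helper1.S5666BRANK

open Matrix Module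
open scoped Kronecker commutatorElement
open Cfsg.Agent.Lib.Helper16.Tens
open Cfsg.Agent.Lib.Helper3.SpT
open Cfsg.Agent.Lib.Helper27.SpOB

variable {F : Type*} [Field F] {a b : ℕ} {J1 : Matrix (Fin a) (Fin a) F} {J2 : Matrix (Fin b) (Fin b) F}

theorem J_mulVec_ne_zero' (hJ2 : SymG J2) {k : Fin b → F} (hk : k ≠ 0) : J2 *ᵥ k ≠ 0 := by
  intro h
  apply hk
  apply hJ2.nondeg
  intro x
  rw [hJ2.symm]
  unfold bf
  rw [h, dotProduct_zero]

theorem pur_sub_right' (u : Fin a → F) (w w' : Fin b → F) : pur u (w - w') = pur u w - pur u w' := by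
  rw [sub_eq_add_neg, pur_add_right, pur_neg_right, ← sub_eq_add_neg]

theorem pur_sub_left' (u u' : Fin a → F) (w : Fin b → F) : pur (u - u') w = pur u w - pur u' w := by
  rw [sub_eq_add_neg, pur_add_left, pur_neg_left, ← sub_eq_add_neg]

/-- the action of `1 ⊗ ρ_{k,c}` on an arbitrary vector, via contractions -/
theorem act_sieg' (h2 : (2 : F) ≠ 0) (hJ2 : SymG J2) (k c : Fin b → F) (hk : bf J2 k k = 0)
    (hkc : bf J2 k c = 0) (v : Fin a × Fin b → F) :
    act (sieg (a := a) J2 h2 hJ2 k c hk hkc) v =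
      v + pur (ctr (J2 *ᵥ k) v) c - pur (ctr (J2 *ᵥ c) v) k
        - (bf J2 c c / 2) • pur (ctr (J2 *ᵥ k) v) k := by
  refine pur_induction (p := fun v => act (sieg (a := a) J2 h2 hJ2 k c hk hkc) v =
      v + pur (ctr (J2 *ᵥ k) v) c - pur (ctr (J2 *ᵥ c) v) k
        - (bf J2 c c / 2) • pur (ctr (J2 *ᵥ k) v) k) ?_ ?_ ?_ v
  · simp
  · intro x x' hx hx'
    rw [map_add, hx, hx', map_add, map_add, pur_add_left, pur_add_left, pur_add_left]
    module
  · intro u x
    rw [act_sieg, ctr_J_pur, ctr_J_pur]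
    simp only [pur_add_right, pur_sub_right', pur_smul_right, pur_smul_left]
    module

/-- `(y - 1)² v = -f(c,c) (ctr_k v) ⊗ k` -/
theorem sieg_sq (h2 : (2 : F) ≠ 0) (hJ2 : SymG J2) (k c : Fin b → F) (hk : bf J2 k k = 0)
    (hkc : bf J2 k c = 0) (v : Fin a × Fin b → F) :
    act (sieg (a := a) J2 h2 hJ2 k c hk hkc) (act (sieg (a := a) J2 h2 hJ2 k c hk hkc) v - v)
        - (act (sieg (a := a) J2 h2 hJ2 k c hk hkc) v - v) =
      (-(bf J2 c c)) • pur (ctr (J2 *ᵥ k) v) k := by
  have hck : bf J2 c k = 0 := by rw [hJ2.symm, hkc]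
  have e1 : act (sieg (a := a) J2 h2 hJ2 k c hk hkc) v - v =
      pur (ctr (J2 *ᵥ k) v) c - pur (ctr (J2 *ᵥ c) v) k
        - (bf J2 c c / 2) • pur (ctr (J2 *ᵥ k) v) k := by
    rw [act_sieg']; abel
  rw [e1]
  generalize ctr (J2 *ᵥ k) v = α
  generalize ctr (J2 *ᵥ c) v = β
  have e2 : ∀ w : Fin a × Fin b → F, act (sieg (a := a) J2 h2 hJ2 k c hk hkc) w - w =
      pur (ctr (J2 *ᵥ k) w) c - pur (ctr (J2 *ᵥ c) w) k
        - (bf J2 c c / 2) • pur (ctr (J2 *ᵥ k) w) k := by
    intro w; rw [act_sieg']; abel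
  rw [e2]
  simp only [map_sub, map_smul, ctr_J_pur, hck, hk, hkc, zero_smul, smul_zero, sub_zero, pur_zero_left,
    zero_sub, pur_smul_left]
  module

theorem act_conj (g y : GL (Fin a × Fin b) F) (v : Fin a × Fin b → F) :
    act (g⁻¹ * y * g) v = act g⁻¹ (act y (act g v)) := by
  rw [act_mul, act_mul]

/-- `hyp ψ` has codimension at most `a` -/
theorem finrank_hyp_ge (ψ : Fin b → F) : a * b ≤ finrank F ↥(hyp (a := a) ψ) + a := by
  by_cases hψ : ψ = 0
  · have : hyp (a := a) ψ = ⊤ := by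
      rw [eq_top_iff]
      intro v _
      rw [mem_hyp_iff, hψ]
      funext i
      simp [ctr_apply]
    rw [this, finrank_top, Module.finrank_fintype_fun_eq_card, Fintype.card_prod, Fintype.card_fin,
      Fintype.card_fin]
    omega
  · rw [finrank_hyp hψ]

theorem exists_Lk_of_conj (h2 : (2 : F) ≠ 0) (hJ2 : SymG J2) (ha : 1 ≤ a) (hab : 2 * a + 3 ≤ b)
    (k c : Fin b → F) (hk0 : k ≠ 0) (hk : bf J2 k k = 0) (hkc : bf J2 k c = 0) (hc : bf J2 c c ≠ 0)
    (g : GL (Fin a × Fin b) F)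
    (hn : g⁻¹ * sieg (a := a) J2 h2 hJ2 k c hk hkc * g ∈ Cfsg.Geo.kroneckerSubgroup a b F) :
    ∃ k' : Fin b → F, k' ≠ 0 ∧ img g (Lk (F := F) (a := a) k') = Lk k := by
  classical
  set y := sieg (a := a) J2 h2 hJ2 k c hk hkc with hy
  set n := g⁻¹ * y * g with hnn
  obtain ⟨A, B, hAB⟩ := (mem_kron_iff n).mp hn
  -- the key identity: `g (n - 1)² v = (y - 1)² g v ∈ Lk k`
  have hkey : ∀ v : Fin a × Fin b → F,
      act g (act n (act n v - v) - (act n v - v)) = (-(bf J2 c c)) • pur (ctr (J2 *ᵥ k) (act g v)) k := by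
    intro v
    have e : ∀ w : Fin a × Fin b → F, act g (act n w - w) = act y (act g w) - act g w := by
      intro w
      rw [map_sub, hnn, act_conj, act_act_inv]
    rw [e, e, hy, sieg_sq]
  -- `ctr_k ∘ g` does not vanish on all pure tensors
  have hJk : J2 *ᵥ k ≠ 0 := J_mulVec_ne_zero' hJ2 hk0
  have hnz : ∃ (u : Fin a → F) (w : Fin b → F), ctr (J2 *ᵥ k) (act g (pur u w)) ≠ 0 := by
    by_contra hcon
    push Not at hcon
    have hall : ∀ v : Fin a × Fin b → F, ctr (J2 *ᵥ k) (act g v) = 0 := by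
      intro v
      refine pur_induction (p := fun v => ctr (J2 *ᵥ k) (act g v) = 0) ?_ ?_ hcon v
      · simp
      · intro x x' hx hx'
        rw [map_add, map_add, hx, hx', add_zero]
    obtain ⟨v, hv⟩ := ctr_surjective (a := a) hJk (Pi.single (⟨0, ha⟩ : Fin a) (1 : F))
    have := hall (act g⁻¹ v)
    rw [act_act_inv, hv] at this
    have := congrFun this ⟨0, ha⟩
    simp at this
  -- fixed space of `n` is large
  have hfix : Fintype.card (Fin a) * Fintype.card (Fin b) + 2 <
      finrank F (LinearMap.ker (Matrix.toLin' ((A : Matrix (Fin a) (Fin a) F) ⊗ₖ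
        (B : Matrix (Fin b) (Fin b) F)) - LinearMap.id)) + Fintype.card (Fin a) + Fintype.card (Fin b) := by
    rw [← hAB, Fintype.card_fin, Fintype.card_fin]
    have hle : img g⁻¹ (Pk (a := a) J2 k ⊓ Pk (a := a) J2 c) ≤
        LinearMap.ker (Matrix.toLin' (n : Matrix (Fin a × Fin b) (Fin a × Fin b) F) - LinearMap.id) := by
      intro v hv
      rw [mem_img_iff, inv_inv] at hv
      rw [LinearMap.mem_ker, LinearMap.sub_apply, LinearMap.id_apply, sub_eq_zero, Matrix.toLin'_apply,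
        ← act_apply, hnn, act_conj]
      have h1 : act y (act g v) = act g v := by
        rw [hy, act_sieg', (mem_Pk_iff k _).mp hv.1, (mem_Pk_iff c _).mp hv.2]
        simp
      rw [h1, act_inv_act]
    have h1 := Submodule.finrank_mono hle
    rw [finrank_img] at h1
    have h3 := Submodule.finrank_sup_add_finrank_inf_eq (Pk (a := a) J2 k) (Pk (a := a) J2 c)
    have h4 := Submodule.finrank_le (Pk (a := a) J2 k ⊔ Pk (a := a) J2 c)
    rw [Module.finrank_fintype_fun_eq_card, Fintype.card_prod, Fintype.card_fin, Fintype.card_fin] at h4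
    have h5 : a * b ≤ finrank F ↥(Pk (a := a) J2 k) + a := finrank_hyp_ge _
    have h6 : a * b ≤ finrank F ↥(Pk (a := a) J2 c) + a := finrank_hyp_ge _
    omega
  rcases Cfsg.Agent.Lib.Helper10.KronRank2.scalar_or_scalar_of_fix _ _ hfix with ⟨z, hz⟩ | ⟨z, hz⟩
  · -- `A` scalar: `n = 1 ⊗ B'`
    have hact : ∀ (u : Fin a → F) (w : Fin b → F),
        act n (pur u w) = pur u ((z • (B : Matrix (Fin b) (Fin b) F)) *ᵥ w) := by
      intro u w
      rw [act_apply, hAB, hz, kron_mulVec_pur, Matrix.smul_mulVec, Matrix.one_mulVec, Matrix.smul_mulVec,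
        pur_smul_left, pur_smul_right]
    set B' := z • (B : Matrix (Fin b) (Fin b) F) with hB'
    have hsq : ∀ (u : Fin a → F) (w : Fin b → F),
        act n (act n (pur u w) - pur u w) - (act n (pur u w) - pur u w) =
          pur u (B' *ᵥ (B' *ᵥ w - w) - (B' *ᵥ w - w)) := by
      intro u w
      have e : ∀ w' : Fin b → F, act n (pur u w') - pur u w' = pur u (B' *ᵥ w' - w') := by
        intro w'
        rw [hact, pur_sub_right']
      rw [e, e]
    obtain ⟨u₀, w₀, hne⟩ := hnz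
    have hk' : B' *ᵥ (B' *ᵥ w₀ - w₀) - (B' *ᵥ w₀ - w₀) ≠ 0 := by
      intro h0
      have := hkey (pur u₀ w₀)
      rw [hsq, h0, pur_zero_right, map_zero] at this
      have h1 : pur (ctr (J2 *ᵥ k) (act g (pur u₀ w₀))) k = 0 := by
        rcases smul_eq_zero.mp this.symm with h | h
        · exact absurd (neg_eq_zero.mp h) hc
        · exact h
      rcases pur_eq_zero h1 with h | h
      · exact hne h
      · exact hk0 h
    refine ⟨_, hk', ?_⟩
    apply Submodule.eq_of_le_of_finrank_eq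
    · intro v hv
      rw [mem_img_iff] at hv
      obtain ⟨u, hu⟩ := (mem_Lk_iff _ _).mp hv
      have hv' : v = act g (pur u (B' *ᵥ (B' *ᵥ w₀ - w₀) - (B' *ᵥ w₀ - w₀))) := by
        rw [← hu, act_act_inv]
      rw [hv', ← hsq, hkey, ← pur_smul_left]
      exact pur_mem_Lk _ _
    · rw [finrank_img, finrank_Lk hk', finrank_Lk hk0]
  · -- `B` scalar: impossible
    exfalso
    have hact : ∀ (u : Fin a → F) (w : Fin b → F),
        act n (pur u w) = pur ((z • (A : Matrix (Fin a) (Fin a) F)) *ᵥ u) w := by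
      intro u w
      rw [act_apply, hAB, hz, kron_mulVec_pur, Matrix.smul_mulVec, Matrix.one_mulVec, Matrix.smul_mulVec,
        pur_smul_left, pur_smul_right]
    set A' := z • (A : Matrix (Fin a) (Fin a) F) with hA'
    have hsq : ∀ (u : Fin a → F) (w : Fin b → F),
        act n (act n (pur u w) - pur u w) - (act n (pur u w) - pur u w) =
          pur (A' *ᵥ (A' *ᵥ u - u) - (A' *ᵥ u - u)) w := by
      intro u w
      have e : ∀ u' : Fin a → F, act n (pur u' w) - pur u' w = pur (A' *ᵥ u' - u') w := by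
        intro u'
        rw [hact, pur_sub_left']
      rw [e, e]
    obtain ⟨u₀, w₀, hne⟩ := hnz
    have hu₁ : A' *ᵥ (A' *ᵥ u₀ - u₀) - (A' *ᵥ u₀ - u₀) ≠ 0 := by
      intro h0
      have := hkey (pur u₀ w₀)
      rw [hsq, h0, pur_zero_left, map_zero] at this
      have h1 : pur (ctr (J2 *ᵥ k) (act g (pur u₀ w₀))) k = 0 := by
        rcases smul_eq_zero.mp this.symm with h | h
        · exact absurd (neg_eq_zero.mp h) hc
        · exact h
      rcases pur_eq_zero h1 with h | h
      · exact hne h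
      · exact hk0 h
    set u₁ := A' *ᵥ (A' *ᵥ u₀ - u₀) - (A' *ᵥ u₀ - u₀) with hu₁def
    have hle : img g (LinearMap.range (purR (F := F) (b := b) u₁)) ≤ Lk (F := F) (a := a) k := by
      intro v hv
      rw [mem_img_iff] at hv
      obtain ⟨w, hw⟩ := hv
      have hv' : v = act g (pur u₁ w) := by
        rw [← purR_apply, hw, act_act_inv]
      rw [hv', hu₁def, ← hsq, hkey, ← pur_smul_left]
      exact pur_mem_Lk _ _
    have h1 := Submodule.finrank_mono hle
    rw [finrank_img, finrank_Lk hk0, LinearMap.finrank_range_of_inj (purR_injective hu₁),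
      Module.finrank_fintype_fun_eq_card, Fintype.card_fin] at h1
    omega

end Cfsg.Agent.Lib.Helper1.S5666BRANK
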