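import Mathlib
import Cfsg.Agent.Lib.Helper27.SpOBDefs

/-!
# S5666 CORE B, piece B-SING (helper1, for sub-architect helper27)

If an isometry `g` maps `U ⊗ k'` onto the totally isotropic `U ⊗ k` (`k` singular) then `k'` is singular.
-/

set_option autoImplicit false
set_option linter.unusedSectionVars false
set_option linter.unusedVariables false

namespace Cfsg.Agent.Lib.Helper1.S5666BSING

open Matrix Module
open scoped Kronecker commutatorElement
open Cfsg.Agent.Lib.Helper16.Tens
open Cfsg.Agent.Lib.Helper3.SpT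
open Cfsg.Agent.Lib.Helper27.SpOB

variable {F : Type*} [Field F] {a b : ℕ} {J1 : Matrix (Fin a) (Fin a) F} {J2 : Matrix (Fin b) (Fin b) F}

/-- a non-degenerate alternating form on a non-zero space has a pair with non-zero value -/
theorem exists_bf_ne_zero (h1 : SympG J1) (ha : 1 ≤ a) : ∃ u u' : Fin a → F, bf J1 u u' ≠ 0 := by
  by_contra hcon
  push Not at hcon
  have h0 : (Pi.single (⟨0, ha⟩ : Fin a) (1 : F) : Fin a → F) = 0 := h1.nondeg _ (fun y => hcon _ y)
  have := congrFun h0 ⟨0, ha⟩
  simp at this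

theorem sing_of_img_Lk (h1 : SympG J1) (ha : 1 ≤ a) (k k' : Fin b → F) (hk : bf J2 k k = 0)
    (g : GL (Fin a × Fin b) F) (hg : g ∈ IsoG (J1 ⊗ₖ J2))
    (h : img g (Lk (F := F) (a := a) k') = Lk k) : bf J2 k' k' = 0 := by
  obtain ⟨u, u', huu'⟩ := exists_bf_ne_zero h1 ha
  have hmem : ∀ x : Fin a → F, ∃ v : Fin a → F, act g (pur x k') = pur v k := by
    intro x
    have : act g (pur x k') ∈ img g (Lk (F := F) (a := a) k') := by
      rw [mem_img_iff, act_inv_act]
      exact pur_mem_Lk x k'
    rw [h] at this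
    exact (mem_Lk_iff k _).mp this
  obtain ⟨v, hv⟩ := hmem u
  obtain ⟨v', hv'⟩ := hmem u'
  have hiso := hg (pur u k') (pur u' k')
  rw [← act_apply, ← act_apply, hv, hv', bf_kron_pur, bf_kron_pur, hk, mul_zero] at hiso
  rcases mul_eq_zero.mp hiso.symm with h0 | h0
  · exact absurd h0 huu'
  · exact h0

end Cfsg.Agent.Lib.Helper1.S5666BSING
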