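import Mathlib
import Cfsg.Agent.Lib.Helper27.SpOBDefs

/-!
# S5666 CORE B, piece B-T1 (helper1, for sub-architect helper27): the max-intersection argument

`HypL` (hypothesis (A_L): an element of `M` mapping a standard totally isotropic subspace `U ⊗ k'` to a standard one lies in `N0`)
implies `M ≤ N0`, for `2a + 3 ≤ b`.

`T1_aux` takes the lower-layer pieces (B-GEO, B-SIEG, B-RANK, B-SING) as explicit hypotheses, stated exactly as in
`notes/S5666CoreBSkel_helper27.lean.txt`.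
-/

set_option autoImplicit false
set_option linter.unusedSectionVars false
set_option linter.unusedVariables false

namespace Cfsg.Agent.Lib.Helper1.S5666BT1

open Matrix Module
open scoped Kronecker commutatorElement
open Cfsg.Agent.Lib.Helper16.Tens
open Cfsg.Agent.Lib.Helper3.SpT
open Cfsg.Agent.Lib.Helper27.SpOB

variable {F : Type*} [Field F] {a b : ℕ} {J1 : Matrix (Fin a) (Fin a) F} {J2 : Matrix (Fin b) (Fin b) F}

theorem act_inv_eq_self {y : GL (Fin a × Fin b) F} {v : Fin a × Fin b → F} (h : act y v = v) :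
    act y⁻¹ v = v := by
  have := act_inv_act y v
  rw [h] at this
  exact this

theorem img_inf (g : GL (Fin a × Fin b) F) (P P' : Submodule F (Fin a × Fin b → F)) :
    img g (P ⊓ P') = img g P ⊓ img g P' := by
  unfold img
  exact Submodule.map_inf _ (act g).injective

/-- the rows of a vector of `U ⊗ W` -/
def row (l : Fin a × Fin b → F) (i : Fin a) : Fin b → F := fun j => l (i, j)

/-- `l ∈ U ⊗ k^⊥` iff all rows of `l` are orthogonal to `k` -/
theorem mem_Pk_of_rows (k : Fin b → F) (l : Fin a × Fin b → F) (h : ∀ i, bf J2 (row l i) k = 0) :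
    l ∈ Pk (a := a) J2 k := by
  rw [mem_Pk_iff]
  funext i
  rw [ctr_apply]
  exact h i

/-- the span of `k0` and the rows of `l` has dimension at most `a + 1` -/
theorem finrank_Z_le (k0 : Fin b → F) (l : Fin a × Fin b → F) :
    finrank F ↥(Submodule.span F ({k0} : Set (Fin b → F)) ⊔ Submodule.span F (Set.range (row l))) ≤ a + 1 := by
  have h1 : finrank F ↥(Submodule.span F ({k0} : Set (Fin b → F))) ≤ 1 := by
    have := finrank_span_le_card (R := F) ({k0} : Set (Fin b → F))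
    simpa [Set.finrank] using this
  have h2 : finrank F ↥(Submodule.span F (Set.range (row l))) ≤ a := by
    have := finrank_range_le_card (R := F) (row l)
    simpa [Set.finrank] using this
  have h3 := Submodule.finrank_add_le_finrank_add_finrank (Submodule.span F ({k0} : Set (Fin b → F)))
    (Submodule.span F (Set.range (row l)))
  omega

/-- **B-T1**, with the lower-layer pieces as hypotheses -/
theorem T1_aux [Fintype F] (h2 : (2 : F) ≠ 0) (h1 : SympG J1) (hJ2 : SymG J2) (ha : 2 ≤ a) (hab : 2 * a + 3 ≤ b)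
    (hGEO1 : ∃ k : Fin b → F, k ≠ 0 ∧ bf J2 k k = 0)
    (hGEO2 : ∀ Z : Submodule F (Fin b → F), finrank F Z + 4 ≤ b → 2 * finrank F Z < b →
      ∃ k c : Fin b → F, k ≠ 0 ∧ bf J2 k k = 0 ∧ bf J2 k c = 0 ∧ bf J2 c c ≠ 0 ∧
        (∀ z ∈ Z, bf J2 z k = 0) ∧ (∀ z ∈ Z, bf J2 z c = 0))
    (hSIEG1 : ∀ (k c : Fin b → F) (hk : bf J2 k k = 0) (hkc : bf J2 k c = 0),
      sieg (a := a) J2 h2 hJ2 k c hk hkc ∈ Cfsg.Geo.kroneckerSubgroup a b F)
    (hSIEG2 : ∀ (k c : Fin b → F) (hk : bf J2 k k = 0) (hkc : bf J2 k c = 0),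
      sieg (a := a) J2 h2 hJ2 k c hk hkc ∈ IsoG (J1 ⊗ₖ J2))
    (hSIEG3 : ∀ (k c : Fin b → F) (hk : bf J2 k k = 0) (hkc : bf J2 k c = 0) (v : Fin a × Fin b → F),
      v ∈ Pk (a := a) J2 k → v ∈ Pk (a := a) J2 c → act (sieg (a := a) J2 h2 hJ2 k c hk hkc) v = v)
    (hRANK : ∀ (k c : Fin b → F), k ≠ 0 → ∀ (hk : bf J2 k k = 0) (hkc : bf J2 k c = 0), bf J2 c c ≠ 0 →
      ∀ g : GL (Fin a × Fin b) F,
        g⁻¹ * sieg (a := a) J2 h2 hJ2 k c hk hkc * g ∈ Cfsg.Geo.kroneckerSubgroup a b F →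
        ∃ k' : Fin b → F, k' ≠ 0 ∧ img g (Lk (F := F) (a := a) k') = Lk k)
    (hSING : ∀ (k k' : Fin b → F), bf J2 k k = 0 → ∀ g : GL (Fin a × Fin b) F, g ∈ IsoG (J1 ⊗ₖ J2) →
      img g (Lk (F := F) (a := a) k') = Lk k → bf J2 k' k' = 0)
    (M : Subgroup (GL (Fin a × Fin b) F)) (hM : Over J1 J2 M) (hA : HypL J2 M) :
    M ≤ Cfsg.Geo.kroneckerSubgroup a b F := by
  by_contra hcon
  rw [SetLike.not_le_iff_exists] at hcon
  obtain ⟨g1, hg1, hg1N⟩ := hcon
  obtain ⟨w0, hw0, hw0s⟩ := hGEO1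
  have hex : ∃ n : ℕ, ∃ (k0 k' : Fin b → F) (g : GL (Fin a × Fin b) F), k0 ≠ 0 ∧ k' ≠ 0 ∧
      bf J2 k0 k0 = 0 ∧ bf J2 k' k' = 0 ∧ g ∈ M ∧ g ∉ Cfsg.Geo.kroneckerSubgroup a b F ∧
      a - finrank F ↥(img g (Lk (F := F) (a := a) k') ⊓ Lk k0) = n :=
    ⟨_, w0, w0, g1, hw0, hw0, hw0s, hw0s, hg1, hg1N, rfl⟩
  classical
  obtain ⟨k0, k', g, hk0, hk', hk0s, hk's, hg, hgN, hn⟩ := Nat.find_spec hex
  have hbound : ∀ (k0' k'' : Fin b → F) (g' : GL (Fin a × Fin b) F), k0' ≠ 0 →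
      finrank F ↥(img g' (Lk (F := F) (a := a) k'') ⊓ Lk k0') ≤ a := by
    intro k0' k'' g' h1
    have := Submodule.finrank_mono
      (inf_le_right : img g' (Lk (F := F) (a := a) k'') ⊓ Lk k0' ≤ Lk k0')
    rw [finrank_Lk h1] at this
    exact this
  have hmin : ∀ (k0' k'' : Fin b → F) (g' : GL (Fin a × Fin b) F), k0' ≠ 0 → k'' ≠ 0 →
      bf J2 k0' k0' = 0 → bf J2 k'' k'' = 0 → g' ∈ M →
      g' ∉ Cfsg.Geo.kroneckerSubgroup a b F →
      finrank F ↥(img g' (Lk (F := F) (a := a) k'') ⊓ Lk k0') ≤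
        finrank F ↥(img g (Lk (F := F) (a := a) k') ⊓ Lk k0) := by
    intro k0' k'' g' h1 h2 h1s h2s h3 h4
    have h5 := Nat.find_min' hex ⟨k0', k'', g', h1, h2, h1s, h2s, h3, h4, rfl⟩
    rw [← hn] at h5
    have hx := hbound k0 k' g hk0
    have hy := hbound k0' k'' g' h1
    omega
  have hgiso : g ∈ IsoG (J1 ⊗ₖ J2) := hM.le_Sp hg
  -- `L' ≠ Lk k0`
  have hne : img g (Lk (F := F) (a := a) k') ≠ Lk k0 := fun h =>
    hgN (hA g hg k0 k' hk0 hk' hk0s hk's h)
  obtain ⟨l, hlL', hl⟩ : ∃ l ∈ img g (Lk (F := F) (a := a) k'), l ∉ Lk (F := F) (a := a) k0 := by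
    by_contra hc
    push Not at hc
    apply hne
    apply Submodule.eq_of_le_of_finrank_eq hc
    rw [finrank_img, finrank_Lk hk', finrank_Lk hk0]
  -- the subspace `Z`
  set Z : Submodule F (Fin b → F) :=
    Submodule.span F ({k0} : Set (Fin b → F)) ⊔ Submodule.span F (Set.range (row l)) with hZ
  have hZle : finrank F ↥Z ≤ a + 1 := finrank_Z_le k0 l
  obtain ⟨k, c, hk_ne, hks, hkc, hcns, hZk, hZc⟩ := hGEO2 Z (by omega) (by omega)
  have hk0Z : k0 ∈ Z := Submodule.mem_sup_left (Submodule.subset_span (Set.mem_singleton k0))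
  have hrowZ : ∀ i, row l i ∈ Z := fun i =>
    Submodule.mem_sup_right (Submodule.subset_span (Set.mem_range_self i))
  set y := sieg (a := a) J2 h2 hJ2 k c hks hkc with hy
  have hyM : y ∈ M := hM.kron_mem _ (hSIEG1 k c hks hkc) (hSIEG2 k c hks hkc)
  -- `y` fixes `Lk k0` pointwise
  have hfixLk : ∀ v ∈ Lk (F := F) (a := a) k0, act y v = v := by
    intro v hv
    obtain ⟨u, rfl⟩ := (mem_Lk_iff k0 v).mp hv
    exact hSIEG3 k c hks hkc _ (pur_mem_Pk u (hZk k0 hk0Z)) (pur_mem_Pk u (hZc k0 hk0Z))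
  -- `y` fixes `l`
  have hfixl : act y l = l :=
    hSIEG3 k c hks hkc l (mem_Pk_of_rows k l fun i => hZk _ (hrowZ i))
      (mem_Pk_of_rows c l fun i => hZc _ (hrowZ i))
  -- the conjugate `y' = g⁻¹ y g` lies in `N0` by maximality
  have hconjM : g⁻¹ * y * g ∈ M := M.mul_mem (M.mul_mem (M.inv_mem hg) hyM) hg
  have hconjN : g⁻¹ * y * g ∈ Cfsg.Geo.kroneckerSubgroup a b F := by
    by_contra hnot
    have h1' := hmin k' k' _ hk' hk' hk's hk's hconjM hnot
    have h2' : img g (img (g⁻¹ * y * g) (Lk (F := F) (a := a) k') ⊓ Lk k')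
        = img y (img g (Lk (F := F) (a := a) k')) ⊓ img g (Lk (F := F) (a := a) k') := by
      have hgrp : g * (g⁻¹ * y * g) = y * g := by group
      rw [img_inf, ← img_mul, hgrp, img_mul]
    have hI_le : img g (Lk (F := F) (a := a) k') ⊓ Lk k0 ≤
        img y (img g (Lk (F := F) (a := a) k')) ⊓ img g (Lk (F := F) (a := a) k') := by
      intro v hv
      refine ⟨(mem_img_iff _ _ _).mpr ?_, hv.1⟩
      rw [act_inv_eq_self (hfixLk v hv.2)]
      exact hv.1
    have hl_mem : l ∈ img y (img g (Lk (F := F) (a := a) k')) ⊓ img g (Lk (F := F) (a := a) k') := by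
      refine ⟨(mem_img_iff _ _ _).mpr ?_, hlL'⟩
      rw [act_inv_eq_self hfixl]
      exact hlL'
    have hlt : img g (Lk (F := F) (a := a) k') ⊓ Lk k0 <
        img y (img g (Lk (F := F) (a := a) k')) ⊓ img g (Lk (F := F) (a := a) k') := by
      refine lt_of_le_of_ne hI_le ?_
      intro heq
      rw [← heq] at hl_mem
      exact hl hl_mem.2
    have h3' := Submodule.finrank_lt_finrank_of_lt hlt
    rw [← h2', finrank_img] at h3'
    omega
  -- B-RANK + B-SING + (A_L)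
  obtain ⟨k'', hk''0, himg⟩ := hRANK k c hk_ne hks hkc hcns g hconjN
  have hk''s : bf J2 k'' k'' = 0 := hSING k k'' hks g hgiso himg
  exact hgN (hA g hg k k'' hk_ne hk''0 hks hk''s himg)

end Cfsg.Agent.Lib.Helper1.S5666BT1
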