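import Mathlib
import Cfsg.Agent.Lib.Helper27.SpOBDefs
import Cfsg.Agent.Lib.Helper27.S5666BSIEG
import Cfsg.Agent.Lib.Helper1.S5666BT1
import Cfsg.Agent.Lib.Helper1.S5666BGEO
import Cfsg.Agent.Lib.Helper1.S5666BSING
import Cfsg.Agent.Lib.Helper1.S5666BRANK

/-!
# S5666 CORE B, piece B-T1 (helper1): the exact skeleton statement, assembled from `T1_aux` and the landed
pieces B-GEO, B-SIEG, B-RANK, B-SING
-/

set_option autoImplicit false

namespace Cfsg.Agent.Lib.Helper1.S5666BT1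

open Matrix Module
open scoped Kronecker commutatorElement
open Cfsg.Agent.Lib.Helper16.Tens
open Cfsg.Agent.Lib.Helper3.SpT
open Cfsg.Agent.Lib.Helper27.SpOB

variable {F : Type*} [Field F] {a b : ℕ} {J1 : Matrix (Fin a) (Fin a) F} {J2 : Matrix (Fin b) (Fin b) F}

/-- **B-T1**: (A_L) implies `M ≤ N0` -/
theorem T1 [Fintype F] (h2 : (2 : F) ≠ 0) (h1 : SympG J1) (hJ2 : SymG J2) (ha : 2 ≤ a) (hab : 2 * a + 3 ≤ b)
    (M : Subgroup (GL (Fin a × Fin b) F)) (hM : Over J1 J2 M) (hA : HypL J2 M) :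
    M ≤ Cfsg.Geo.kroneckerSubgroup a b F :=
  T1_aux h2 h1 hJ2 ha hab
    (Cfsg.Agent.Lib.Helper1.S5666BGEO.exists_singular hJ2 (by omega))
    (fun Z hZ1 hZ2 => Cfsg.Agent.Lib.Helper1.S5666BGEO.exists_sing_pair h2 hJ2 Z hZ1 hZ2)
    (fun k c hk hkc => Cfsg.Agent.Lib.Helper27.S5666BSIEG.sieg_mem_kron h2 hJ2 k c hk hkc)
    (fun k c hk hkc => Cfsg.Agent.Lib.Helper27.S5666BSIEG.sieg_mem_IsoG h2 hJ2 k c hk hkc)
    (fun k c hk hkc v hvk hvc => Cfsg.Agent.Lib.Helper27.S5666BSIEG.act_sieg_eq_self h2 hJ2 k c hk hkc v hvk hvc)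
    (fun k c hk0 hk hkc hc g hn =>
      Cfsg.Agent.Lib.Helper1.S5666BRANK.exists_Lk_of_conj h2 hJ2 (by omega) hab k c hk0 hk hkc hc g hn)
    (fun k k' hk g hg h => Cfsg.Agent.Lib.Helper1.S5666BSING.sing_of_img_Lk h1 (by omega) k k' hk g hg h)
    M hM hA

end Cfsg.Agent.Lib.Helper1.S5666BT1
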