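import Mathlib
import Cfsg.Agent.Lib.Helper13.TensSODefs
import Cfsg.Agent.Lib.Helper13.S5666FOAPI
import Cfsg.Agent.Lib.Helper20.S5666ExitDefs
import Cfsg.Agent.Lib.Helper20.S5666ES
import Cfsg.Agent.Lib.Helper26.S5666EC
import Cfsg.Agent.Lib.Helper21.S5704FODECOMP

/-!
# S5666 EXIT (a ≥ 4), piece E-L (helper1, for helper20): `decomp_leviL`

An isometry `m` stabilising `u₀ ⊗ W` and conjugating the elements `siegU x c` of `N0 ∩ Q` into the Kronecker group `N0` is the product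
of an element of `N0 ∩ IsoG` and an element of the radical.  Mirror image of `Helper21.S5704FODECOMP` (whose `exists_Sigma`, the
extension of a partial similitude of a symplectic space, is re-used as it is).  Also `fix_kron'` (= E-NK with an explicit `u₁`).
-/

set_option autoImplicit false
set_option linter.unusedSectionVars false
set_option linter.unusedVariables false

namespace Cfsg.Agent.Lib.Helper1.S5666EL

open Matrix Module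
open Cfsg.Agent.Lib.Helper16.Tens Cfsg.Agent.Lib.Helper10.TensFund Cfsg.Agent.Lib.Helper13.TensSO
open Cfsg.Agent.Lib.Helper28.TensU (ctrL ctrL_apply ctrL_pur hypL mem_hypL_iff ptL mem_ptL_iff pur_mem_ptL rootGLL
  rootGLL_val act_rootGLL rootGLL_mem_SL rootGLL_mem_kron)
open Cfsg.Agent.Lib.Helper3.SpT (bf SympG E E_mulVec E_mul_E uni uni_val uni_inv_val bf_add_left bf_add_right
  bf_smul_left bf_smul_right bf_sub_left bf_sub_right bf_neg_left bf_neg_right bf_zero_left bf_zero_right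
  bf_kron_pur pur_induction)
open Cfsg.Agent.Lib.Helper23.S5637T3b (kronGL kronGL_val kronGL_mem_kron)
open Cfsg.Agent.Lib.Helper20.S5666Exit
open Cfsg.Agent.Lib.Helper13.S5666API (bf_kron_pur_right' exists_bf_eq_one)
open scoped Kronecker

variable {F : Type*} [Field F] {a b : ℕ}
variable {J1 : Matrix (Fin a) (Fin a) F} {J2 : Matrix (Fin b) (Fin b) F}

local notation "K" => Cfsg.Geo.kroneckerSubgroup a b F
local notation "V" => (Fin a × Fin b → F)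

theorem exists_dot_eq_one {n : ℕ} (u : Fin n → F) (hu : u ≠ 0) : ∃ φ : Fin n → F, u ⬝ᵥ φ = 1 := by
  obtain ⟨i, hi⟩ : ∃ i, u i ≠ 0 := by
    by_contra hall
    push Not at hall
    exact hu (funext hall)
  exact ⟨Pi.single i (u i)⁻¹, by rw [dotProduct_single, mul_inv_cancel₀ hi]⟩

theorem single_ne_zero' {n : ℕ} (hn : 1 ≤ n) : (Pi.single (⟨0, by omega⟩ : Fin n) (1 : F) : Fin n → F) ≠ 0 := by
  intro h
  have h3 := congrFun h ⟨0, by omega⟩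
  simp at h3

theorem mulVec_ne_zero_of_isUnit' {n : ℕ} {μ : Matrix (Fin n) (Fin n) F} (hμu : IsUnit μ) {u : Fin n → F}
    (hu : u ≠ 0) : μ *ᵥ u ≠ 0 := by
  intro h
  apply hu
  apply (Matrix.mulVec_injective_iff_isUnit.2 hμu)
  rw [h, Matrix.mulVec_zero]

theorem exists_mulVec_eq {n : ℕ} {β : Matrix (Fin n) (Fin n) F} (hβu : IsUnit β) (z : Fin n → F) :
    ∃ w, β *ᵥ w = z := by
  refine ⟨((hβu.unit⁻¹ : (Matrix (Fin n) (Fin n) F)ˣ) : Matrix (Fin n) (Fin n) F) *ᵥ z, ?_⟩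
  rw [Matrix.mulVec_mulVec, hβu.mul_val_inv, Matrix.one_mulVec]

/-- the matrix `β` of `m` on `u₀ ⊗ W` -/
theorem exists_beta {u₀ : Fin a → F} (hu0 : u₀ ≠ 0) (m : GL (Fin a × Fin b) F)
    (hst : img m (ptL (b := b) u₀) = ptL u₀) :
    ∃ β : Matrix (Fin b) (Fin b) F, ∀ w, act m (pur u₀ w) = pur u₀ (β *ᵥ w) := by
  obtain ⟨φ, hφ⟩ := exists_dot_eq_one u₀ hu0
  let βL : (Fin b → F) →ₗ[F] (Fin b → F) :=
    (ctrL (b := b) φ) ∘ₗ ((act m).toLinearMap ∘ₗ purR (b := b) u₀)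
  refine ⟨LinearMap.toMatrix' βL, ?_⟩
  intro w
  have h1 : act m (pur u₀ w) ∈ img m (ptL (b := b) u₀) := by
    rw [mem_img_iff, act_inv_act]
    exact pur_mem_ptL u₀ w
  rw [hst] at h1
  obtain ⟨w', hw'⟩ := (mem_ptL_iff _ _).1 h1
  rw [LinearMap.toMatrix'_mulVec]
  have h2 : βL w = w' := by
    show ctrL φ (act m (pur u₀ w)) = w'
    rw [← hw', ctrL_pur, hφ, one_smul]
  rw [h2, hw']

theorem beta_isUnit {u₀ : Fin a → F} (hu0 : u₀ ≠ 0) (m : GL (Fin a × Fin b) F)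
    (β : Matrix (Fin b) (Fin b) F) (hβ : ∀ w, act m (pur u₀ w) = pur u₀ (β *ᵥ w)) : IsUnit β := by
  rw [← Matrix.mulVec_injective_iff_isUnit]
  intro w w' h
  have h1 : act m (pur u₀ w) = act m (pur u₀ w') := by
    rw [hβ, hβ]
    exact congrArg (fun z => pur u₀ z) h
  exact purR_injective hu0 ((act m).injective h1)

/-- `f₂(π(m v), β w) = f₂(π v, w)`, `π = ctrL (J1 *ᵥ u₀)` -/
theorem bf_ctr_act (m : GL (Fin a × Fin b) F) (hm : m ∈ IsoG (J1 ⊗ₖ J2)) {u₀ : Fin a → F}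
    (β : Matrix (Fin b) (Fin b) F) (hβ : ∀ w, act m (pur u₀ w) = pur u₀ (β *ᵥ w)) (v : V) (w : Fin b → F) :
    bf J2 (ctrL (J1 *ᵥ u₀) (act m v)) (β *ᵥ w) = bf J2 (ctrL (J1 *ᵥ u₀) v) w := by
  rw [← bf_kron_pur_right', ← hβ, ← bf_kron_pur_right']
  exact hm v (pur u₀ w)

/-- `m` and `m⁻¹` stabilise `u₀^⊥ ⊗ W` -/
theorem ctr_act_eq_zero_iff (hJ2 : OrthG J2) (m : GL (Fin a × Fin b) F) (hm : m ∈ IsoG (J1 ⊗ₖ J2))
    {u₀ : Fin a → F} (β : Matrix (Fin b) (Fin b) F) (hβ : ∀ w, act m (pur u₀ w) = pur u₀ (β *ᵥ w))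
    (hβu : IsUnit β) (v : V) :
    ctrL (J1 *ᵥ u₀) (act m v) = 0 ↔ ctrL (J1 *ᵥ u₀) v = 0 := by
  constructor
  · intro h
    apply hJ2.nondeg
    intro w
    rw [← bf_ctr_act m hm β hβ, h, bf_zero_left]
  · intro h
    apply hJ2.nondeg
    intro z
    obtain ⟨w, rfl⟩ := exists_mulVec_eq hβu z
    rw [bf_ctr_act m hm β hβ, h, bf_zero_left]

/-- an element of `N0` fixing `u₀ ⊗ W` pointwise is `A ⊗ 1` -/
theorem kron_fix_structL (hb : 1 ≤ b) {u₀ : Fin a → F} (hu0 : u₀ ≠ 0) (n : GL (Fin a × Fin b) F)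
    (hn : n ∈ K) (hfix : ∀ w : Fin b → F, act n (pur u₀ w) = pur u₀ w) :
    ∃ A : Matrix (Fin a) (Fin a) F, ∀ (y : Fin a → F) (w : Fin b → F), act n (pur y w) = pur (A *ᵥ y) w := by
  obtain ⟨A0, B, hAB⟩ := (mem_kron_iff n).1 hn
  obtain ⟨φ, hφ⟩ := exists_dot_eq_one u₀ hu0
  obtain ⟨c, hc⟩ : ∃ c : F, c = (A0.val *ᵥ u₀) ⬝ᵥ φ := ⟨_, rfl⟩
  have h1 : ∀ w : Fin b → F, c • (B.val *ᵥ w) = w := by
    intro w
    have h := hfix w
    rw [act_apply, hAB, kron_mulVec_pur] at h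
    have h' := congrArg (ctrL φ) h
    rw [ctrL_pur, ctrL_pur, hφ, one_smul, ← hc] at h'
    exact h'
  have hc0 : c ≠ 0 := by
    intro h0
    have h2 := h1 (Pi.single ⟨0, by omega⟩ 1)
    rw [h0, zero_smul] at h2
    exact single_ne_zero' hb h2.symm
  refine ⟨c⁻¹ • A0.val, ?_⟩
  intro y w
  rw [act_apply, hAB, kron_mulVec_pur, Matrix.smul_mulVec, pur_smul_left, ← pur_smul_right]
  congr 1
  conv_rhs => rw [← h1 w]
  rw [smul_smul, inv_mul_cancel₀ hc0, one_smul]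

/-- E-NK with an explicit `u₁`: an element of `N0` fixing `u₀^⊥ ⊗ W` pointwise is `v ↦ v + d ⊗ π(v)` -/
theorem fix_kron' (hJ1 : SympG J1) (hb : 1 ≤ b) {u₀ u₁ : Fin a → F} (hu0 : u₀ ≠ 0) (h10 : bf J1 u₁ u₀ = 1)
    (z : GL (Fin a × Fin b) F) (hzK : z ∈ K)
    (hfix : ∀ v ∈ hypL (b := b) (J1 *ᵥ u₀), act z v = v) :
    ∃ d : Fin a → F, ∀ v : V, act z v = v + pur d (ctrL (J1 *ᵥ u₀) v) := by
  have hfixL : ∀ w : Fin b → F, act z (pur u₀ w) = pur u₀ w := by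
    intro w
    apply hfix
    rw [mem_hypL_iff, ctrL_J_pur, hJ1.alt, zero_smul]
  obtain ⟨A, hA⟩ := kron_fix_structL hb hu0 z hzK hfixL
  have hAy : ∀ y : Fin a → F, bf J1 y u₀ = 0 → A *ᵥ y = y := by
    intro y hy
    have h1 : act z (pur y (Pi.single ⟨0, by omega⟩ 1)) = pur y (Pi.single ⟨0, by omega⟩ 1) := by
      apply hfix
      rw [mem_hypL_iff, ctrL_J_pur, hy, zero_smul]
    rw [hA] at h1
    exact purL_injective (single_ne_zero' hb) h1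
  refine ⟨A *ᵥ u₁ - u₁, ?_⟩
  intro v
  refine pur_induction (p := fun v => act z v = v + pur (A *ᵥ u₁ - u₁) (ctrL (J1 *ᵥ u₀) v)) ?_ ?_ ?_ v
  · simp
  · intro x y hx hy
    rw [map_add, hx, hy, map_add, pur_add_right]
    abel
  · intro y w
    have hy₁ : bf J1 (y - bf J1 y u₀ • u₁) u₀ = 0 := by
      rw [bf_sub_left, bf_smul_left, h10, mul_one, sub_self]
    have h2 := hAy _ hy₁
    rw [Matrix.mulVec_sub, Matrix.mulVec_smul] at h2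
    have h3 : A *ᵥ y = y + bf J1 y u₀ • (A *ᵥ u₁ - u₁) := by
      rw [smul_sub]
      have : A *ᵥ y = (A *ᵥ y - bf J1 y u₀ • A *ᵥ u₁) + bf J1 y u₀ • A *ᵥ u₁ := by abel
      rw [this, h2]
      abel
    rw [hA, h3, ctrL_J_pur, pur_add_left, pur_smul_left, pur_smul_right]


/-- the multiplier: `β` is a `μ`-similitude of `f₂` and `μ π(m v) = β π(v)` (from `m (rU u₀ 1) m⁻¹ ∈ N0`) -/
theorem exists_mu (hS : SetupSO J1 J2) (hb : 1 ≤ b) {u₀ u₁ : Fin a → F} (hu0 : u₀ ≠ 0) (h10 : bf J1 u₁ u₀ = 1)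
    (m : GL (Fin a × Fin b) F) (hm : m ∈ IsoG (J1 ⊗ₖ J2))
    (β : Matrix (Fin b) (Fin b) F) (hβ : ∀ w, act m (pur u₀ w) = pur u₀ (β *ᵥ w)) (hβu : IsUnit β)
    (h0 : m * siegU J1 hS.h1 u₀ 0 1 (Cfsg.Agent.Lib.Helper3.SpT.bf_zero_left J1 u₀) * m⁻¹ ∈ K) :
    ∃ μ : F, μ ≠ 0 ∧ (∀ w w', bf J2 (β *ᵥ w) (β *ᵥ w') = μ * bf J2 w w') ∧
      ∀ v : V, μ • ctrL (J1 *ᵥ u₀) (act m v) = β *ᵥ ctrL (J1 *ᵥ u₀) v := by
  rw [Cfsg.Agent.Lib.Helper20.S5666ES.siegU_zero] at h0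
  have hg0 : ∀ v : V, act (rU (b := b) J1 hS.h1 u₀ 1) v = v + pur u₀ (ctrL (J1 *ᵥ u₀) v) := by
    intro v
    rw [act_rU, one_smul]
  -- `X₀` fixes `u₀^⊥ ⊗ W` pointwise
  have hfix : ∀ v ∈ hypL (b := b) (J1 *ᵥ u₀), act (m * rU (b := b) J1 hS.h1 u₀ 1 * m⁻¹) v = v := by
    intro v hv
    rw [mem_hypL_iff] at hv
    have h1 : ctrL (J1 *ᵥ u₀) (act m⁻¹ v) = 0 := by
      rw [← ctr_act_eq_zero_iff hS.h2 m hm β hβ hβu, act_act_inv]
      exact hv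
    rw [act_mul, act_mul, hg0, h1, pur_zero_right, add_zero, act_act_inv]
  obtain ⟨d, hd⟩ := fix_kron' hS.h1 hb hu0 h10 _ h0 hfix
  obtain ⟨φ, hφ⟩ := exists_dot_eq_one u₀ hu0
  -- `(d·φ) π(m (u₁ ⊗ w)) = β w`
  have hkey : ∀ w : Fin b → F, (d ⬝ᵥ φ) • ctrL (J1 *ᵥ u₀) (act m (pur u₁ w)) = β *ᵥ w := by
    intro w
    have h1 : act (m * rU (b := b) J1 hS.h1 u₀ 1 * m⁻¹) (act m (pur u₁ w)) =
        act m (act (rU (b := b) J1 hS.h1 u₀ 1) (pur u₁ w)) := by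
      rw [act_mul, act_mul, act_inv_act]
    rw [hd, hg0, ctrL_J_pur, h10, one_smul, map_add, hβ] at h1
    have h2 := add_left_cancel h1
    have h3 := congrArg (ctrL φ) h2
    rw [ctrL_pur, ctrL_pur, hφ, one_smul] at h3
    exact h3
  have hsim : ∀ w w', bf J2 (β *ᵥ w) (β *ᵥ w') = (d ⬝ᵥ φ) * bf J2 w w' := by
    intro w w'
    rw [← hkey w, bf_smul_left, bf_ctr_act m hm β hβ, ctrL_J_pur, h10, one_smul]
  have hμ0 : d ⬝ᵥ φ ≠ 0 := by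
    intro h
    have h1 := hkey (Pi.single ⟨0, by omega⟩ 1)
    rw [h, zero_smul] at h1
    exact mulVec_ne_zero_of_isUnit' hβu (single_ne_zero' hb) h1.symm
  refine ⟨d ⬝ᵥ φ, hμ0, hsim, ?_⟩
  intro v
  rw [← sub_eq_zero]
  apply hS.h2.nondeg
  intro z
  obtain ⟨w, rfl⟩ := exists_mulVec_eq hβu z
  rw [bf_sub_left, bf_smul_left, bf_ctr_act m hm β hβ, hsim, sub_self]

theorem rad_kron_auxL (A : Matrix (Fin a) (Fin a) F) (w : Fin b → F) (y₁ u₁ : Fin a → F) (c : F) :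
    pur (A *ᵥ (y₁ + c • u₁)) w - pur (y₁ + c • u₁) w - pur (A *ᵥ u₁ - u₁) (c • w) =
      pur (A *ᵥ y₁) w - pur y₁ w := by
  rw [Matrix.mulVec_add, Matrix.mulVec_smul, pur_add_left, pur_add_left, pur_smul_left, pur_smul_left,
    pur_smul_right, sub_eq_add_neg (A *ᵥ u₁), pur_add_left, pur_neg_left]
  module

/-- shape of an element `A ⊗ 1` of the radical: `(n - 1) v ≡ (A u₁ - u₁) ⊗ π(v)` modulo `u₀ ⊗ W` -/
theorem rad_kron_shapeL {u₀ u₁ : Fin a → F} (h10 : bf J1 u₁ u₀ = 1)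
    (n : GL (Fin a × Fin b) F) (hr : InRadL J1 u₀ n) (A : Matrix (Fin a) (Fin a) F)
    (hA : ∀ (y : Fin a → F) (w : Fin b → F), act n (pur y w) = pur (A *ᵥ y) w) (v : V) :
    act n v - v - pur (A *ᵥ u₁ - u₁) (ctrL (J1 *ᵥ u₀) v) ∈ ptL (b := b) u₀ := by
  refine pur_induction
    (p := fun v => act n v - v - pur (A *ᵥ u₁ - u₁) (ctrL (J1 *ᵥ u₀) v) ∈ ptL (b := b) u₀) ?_ ?_ ?_ v
  · simp
  · intro x y hx hy
    have h : act n (x + y) - (x + y) - pur (A *ᵥ u₁ - u₁) (ctrL (J1 *ᵥ u₀) (x + y)) =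
        (act n x - x - pur (A *ᵥ u₁ - u₁) (ctrL (J1 *ᵥ u₀) x)) +
          (act n y - y - pur (A *ᵥ u₁ - u₁) (ctrL (J1 *ᵥ u₀) y)) := by
      rw [map_add, map_add, pur_add_right]
      abel
    rw [h]
    exact Submodule.add_mem _ hx hy
  · intro y w
    have hy₁ : bf J1 (y - bf J1 y u₀ • u₁) u₀ = 0 := by
      rw [bf_sub_left, bf_smul_left, h10, mul_one, sub_self]
    have hmem : pur (y - bf J1 y u₀ • u₁) w ∈ hypL (b := b) (J1 *ᵥ u₀) := by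
      rw [mem_hypL_iff, ctrL_J_pur, hy₁, zero_smul]
    have hmod := hr.modL _ hmem
    have hy : y = (y - bf J1 y u₀ • u₁) + bf J1 y u₀ • u₁ := by
      rw [sub_add_cancel]
    have key : act n (pur y w) - pur y w - pur (A *ᵥ u₁ - u₁) (ctrL (J1 *ᵥ u₀) (pur y w)) =
        act n (pur (y - bf J1 y u₀ • u₁) w) - pur (y - bf J1 y u₀ • u₁) w := by
      rw [ctrL_J_pur, hA, hA]
      have h := rad_kron_auxL A w (y - bf J1 y u₀ • u₁) u₁ (bf J1 y u₀)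
      rw [← hy] at h
      exact h
    rw [key]
    exact hmod

variable [Fintype F]

/-- for `x ⟂ u₀`: `m (x ⊗ w) ≡ s ⊗ β w` modulo `u₀ ⊗ W`, for some `s` -/
theorem exists_relL (hS : SetupSO J1 J2) (hb : 1 ≤ b) {u₀ u₁ : Fin a → F} (hu0 : u₀ ≠ 0)
    (h10 : bf J1 u₁ u₀ = 1) (m : GL (Fin a × Fin b) F) (hm : m ∈ IsoG (J1 ⊗ₖ J2))
    (hst : img m (ptL (b := b) u₀) = ptL u₀)
    (β : Matrix (Fin b) (Fin b) F) (hβ : ∀ w, act m (pur u₀ w) = pur u₀ (β *ᵥ w))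
    (μ : F) (hμ0 : μ ≠ 0) (hμ : ∀ v : V, μ • ctrL (J1 *ᵥ u₀) (act m v) = β *ᵥ ctrL (J1 *ᵥ u₀) v)
    (x : Fin a → F) (hx : bf J1 x u₀ = 0) (hn : m * siegU J1 hS.h1 u₀ x 0 hx * m⁻¹ ∈ K) :
    ∃ s : Fin a → F, ∀ w : Fin b → F, act m (pur x w) - pur s (β *ᵥ w) ∈ ptL (b := b) u₀ := by
  have hr : InRadL J1 u₀ (m * siegU J1 hS.h1 u₀ x 0 hx * m⁻¹) :=
    Cfsg.Agent.Lib.Helper26.S5666EC.conj_inRadL hS m hm u₀ hst _
      (Cfsg.Agent.Lib.Helper20.S5666ES.inRadL_siegU hS.h1 u₀ x 0 hx)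
  obtain ⟨A, hA⟩ := kron_fix_structL hb hu0 _ hn (fun w => hr.fixL _ (pur_mem_ptL u₀ w))
  refine ⟨μ⁻¹ • (A *ᵥ u₁ - u₁), fun w => ?_⟩
  have hnm : act (m * siegU J1 hS.h1 u₀ x 0 hx * m⁻¹) (act m (pur u₁ w)) =
      act m (act (siegU J1 hS.h1 u₀ x 0 hx) (pur u₁ w)) := by
    rw [act_mul, act_mul, act_inv_act]
  have hs : act (siegU (b := b) J1 hS.h1 u₀ x 0 hx) (pur u₁ w) =
      pur u₁ w + bf J1 u₁ x • pur u₀ w + pur x w := by
    rw [act_siegU_pur, h10, zero_mul, zero_add, one_smul, pur_add_left, pur_add_left, pur_smul_left]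
  rw [hs, map_add, map_add, map_smul, hβ] at hnm
  have hπ : ctrL (J1 *ᵥ u₀) (act m (pur u₁ w)) = μ⁻¹ • β *ᵥ w := by
    have h := hμ (pur u₁ w)
    rw [ctrL_J_pur, h10, one_smul] at h
    rw [← h, smul_smul, inv_mul_cancel₀ hμ0, one_smul]
  have hshape := rad_kron_shapeL h10 _ hr A hA (act m (pur u₁ w))
  rw [hnm, hπ] at hshape
  have hL : bf J1 u₁ x • pur u₀ (β *ᵥ w) ∈ ptL (b := b) u₀ :=
    Submodule.smul_mem _ _ (pur_mem_ptL _ _)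
  have key : act m (pur x w) - pur (μ⁻¹ • (A *ᵥ u₁ - u₁)) (β *ᵥ w) =
      (act m (pur u₁ w) + bf J1 u₁ x • pur u₀ (β *ᵥ w) + act m (pur x w) - act m (pur u₁ w) -
        pur (A *ᵥ u₁ - u₁) (μ⁻¹ • β *ᵥ w)) - bf J1 u₁ x • pur u₀ (β *ᵥ w) := by
    rw [pur_smul_left, pur_smul_right]
    abel
  rw [key]
  exact Submodule.sub_mem _ hshape hL

/-- the first component is orthogonal to `u₀` -/
theorem rel_perpL (hS : SetupSO J1 J2) (hb : 1 ≤ b) {u₀ : Fin a → F}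
    (m : GL (Fin a × Fin b) F) (hm : m ∈ IsoG (J1 ⊗ₖ J2))
    (β : Matrix (Fin b) (Fin b) F) (hβ : ∀ w, act m (pur u₀ w) = pur u₀ (β *ᵥ w)) (hβu : IsUnit β)
    (x s : Fin a → F) (hx : bf J1 x u₀ = 0)
    (hrel : ∀ w : Fin b → F, act m (pur x w) - pur s (β *ᵥ w) ∈ ptL (b := b) u₀) :
    bf J1 s u₀ = 0 := by
  have h1 : ctrL (J1 *ᵥ u₀) (act m (pur x (Pi.single ⟨0, by omega⟩ 1))) = 0 := by
    rw [ctr_act_eq_zero_iff hS.h2 m hm β hβ hβu, ctrL_J_pur, hx, zero_smul]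
  obtain ⟨c, hc⟩ := (mem_ptL_iff _ _).1 (hrel (Pi.single ⟨0, by omega⟩ 1))
  have h2 : pur s (β *ᵥ (Pi.single ⟨0, by omega⟩ 1)) =
      act m (pur x (Pi.single ⟨0, by omega⟩ 1)) - pur u₀ c := by
    rw [hc]; abel
  have h3 := congrArg (ctrL (J1 *ᵥ u₀)) h2
  rw [map_sub, h1, ctrL_J_pur, ctrL_J_pur, hS.h1.alt, zero_smul, sub_zero] at h3
  rcases smul_eq_zero.1 h3 with h | h
  · exact h
  · exact absurd h (mulVec_ne_zero_of_isUnit' hβu (single_ne_zero' hb))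

/-- the first components scale the form by `μ⁻¹` -/
theorem rel_formL (hS : SetupSO J1 J2) (hb : 1 ≤ b) {u₀ : Fin a → F}
    (m : GL (Fin a × Fin b) F) (hm : m ∈ IsoG (J1 ⊗ₖ J2))
    (β : Matrix (Fin b) (Fin b) F) (μ : F)
    (hsim : ∀ w w', bf J2 (β *ᵥ w) (β *ᵥ w') = μ * bf J2 w w')
    (x s y r : Fin a → F) (hs : bf J1 s u₀ = 0) (hr : bf J1 r u₀ = 0)
    (hrel : ∀ w : Fin b → F, act m (pur x w) - pur s (β *ᵥ w) ∈ ptL (b := b) u₀)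
    (hrel' : ∀ w : Fin b → F, act m (pur y w) - pur r (β *ᵥ w) ∈ ptL (b := b) u₀) :
    μ * bf J1 s r = bf J1 x y := by
  obtain ⟨w', hw'⟩ : ∃ w', bf J2 (Pi.single ⟨0, by omega⟩ 1) w' ≠ 0 := by
    by_contra hall
    push Not at hall
    exact single_ne_zero' hb (hS.h2.nondeg _ hall)
  obtain ⟨c, hc⟩ := (mem_ptL_iff _ _).1 (hrel (Pi.single ⟨0, by omega⟩ 1))
  obtain ⟨c', hc'⟩ := (mem_ptL_iff _ _).1 (hrel' w')
  have h1 : act m (pur x (Pi.single ⟨0, by omega⟩ 1)) =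
      pur s (β *ᵥ (Pi.single ⟨0, by omega⟩ 1)) + pur u₀ c := by
    rw [hc]; abel
  have h2 : act m (pur y w') = pur r (β *ᵥ w') + pur u₀ c' := by
    rw [hc']; abel
  have h3 := hm (pur x (Pi.single ⟨0, by omega⟩ 1)) (pur y w')
  rw [← act_apply, ← act_apply, h1, h2, bf_add_left, bf_add_right, bf_add_right, bf_kron_pur, bf_kron_pur,
    bf_kron_pur, bf_kron_pur, bf_kron_pur, hsim, hs, hS.h1.alt, hS.h1.skew u₀ r, hr] at h3
  have h4 : bf J2 (Pi.single ⟨0, by omega⟩ 1) w' * (μ * bf J1 s r) =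
      bf J2 (Pi.single ⟨0, by omega⟩ 1) w' * bf J1 x y := by
    linear_combination h3
  exact mul_left_cancel₀ hw' h4

/-- a linear map `σ₀` of `U` with `σ₀ u₀ = u₀` and `m (x ⊗ w) ≡ σ₀ x ⊗ β w` modulo `u₀ ⊗ W` for `x ⟂ u₀` -/
theorem exists_sigma0L (hS : SetupSO J1 J2) (hb : 1 ≤ b) {u₀ u₁ : Fin a → F} (hu0 : u₀ ≠ 0)
    (h10 : bf J1 u₁ u₀ = 1) (m : GL (Fin a × Fin b) F) (hm : m ∈ IsoG (J1 ⊗ₖ J2))
    (hst : img m (ptL (b := b) u₀) = ptL u₀)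
    (β : Matrix (Fin b) (Fin b) F) (hβ : ∀ w, act m (pur u₀ w) = pur u₀ (β *ᵥ w)) (hβu : IsUnit β)
    (μ : F) (hμ0 : μ ≠ 0) (hμ : ∀ v : V, μ • ctrL (J1 *ᵥ u₀) (act m v) = β *ᵥ ctrL (J1 *ᵥ u₀) v)
    (hnorm : ∀ (x : Fin a → F) (hx : bf J1 x u₀ = 0), m * siegU J1 hS.h1 u₀ x 0 hx * m⁻¹ ∈ K) :
    ∃ σ₀ : (Fin a → F) →ₗ[F] (Fin a → F), σ₀ u₀ = u₀ ∧
      ∀ x : Fin a → F, bf J1 x u₀ = 0 →
        ∀ w : Fin b → F, act m (pur x w) - pur (σ₀ x) (β *ᵥ w) ∈ ptL (b := b) u₀ := by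
  have hβw : β *ᵥ (Pi.single ⟨0, by omega⟩ 1) ≠ 0 := mulVec_ne_zero_of_isUnit' hβu (single_ne_zero' hb)
  obtain ⟨ψ, hψ⟩ := exists_dot_eq_one _ hβw
  let σ₀ : (Fin a → F) →ₗ[F] (Fin a → F) :=
    (ctr (a := a) ψ) ∘ₗ ((act m).toLinearMap ∘ₗ purL (a := a) (Pi.single ⟨0, by omega⟩ 1))
  have hσ : ∀ x, σ₀ x = ctr ψ (act m (pur x (Pi.single ⟨0, by omega⟩ 1))) := fun x => rfl
  refine ⟨σ₀, ?_, ?_⟩
  · rw [hσ, hβ, ctr_pur, hψ, one_smul]
  · intro x hx w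
    obtain ⟨s, hs⟩ := exists_relL hS hb hu0 h10 m hm hst β hβ μ hμ0 hμ x hx (hnorm x hx)
    obtain ⟨c, hc⟩ := (mem_ptL_iff _ _).1 (hs (Pi.single ⟨0, by omega⟩ 1))
    have h1 : act m (pur x (Pi.single ⟨0, by omega⟩ 1)) =
        pur s (β *ᵥ (Pi.single ⟨0, by omega⟩ 1)) + pur u₀ c := by
      rw [hc]; abel
    have h3 : σ₀ x = s + (c ⬝ᵥ ψ) • u₀ := by
      rw [hσ, h1, map_add, ctr_pur, ctr_pur, hψ, one_smul]
    have h4 : act m (pur x w) - pur (σ₀ x) (β *ᵥ w) =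
        (act m (pur x w) - pur s (β *ᵥ w)) - (c ⬝ᵥ ψ) • pur u₀ (β *ᵥ w) := by
      rw [h3, pur_add_left, pur_smul_left]
      abel
    rw [h4]
    exact Submodule.sub_mem _ (hs w) (Submodule.smul_mem _ _ (pur_mem_ptL _ _))


/-- **E-L** (exact signature of helper20's sub-skeleton): the Levi decomposition -/
theorem decomp_leviL (hS : SetupSO J1 J2) (hb : 1 ≤ b) (u₀ : Fin a → F) (hu0 : u₀ ≠ 0)
    (m : GL (Fin a × Fin b) F) (hm : m ∈ IsoG (J1 ⊗ₖ J2)) (hstab : img m (ptL (b := b) u₀) = ptL u₀)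
    (hnorm : ∀ (x : Fin a → F) (c : F) (hx : bf J1 x u₀ = 0), m * siegU J1 hS.h1 u₀ x c hx * m⁻¹ ∈ K) :
    ∃ n : GL (Fin a × Fin b) F, n ∈ K ∧ n ∈ IsoG (J1 ⊗ₖ J2) ∧ InRadL J1 u₀ (n⁻¹ * m) := by
  obtain ⟨u₁, h10⟩ := exists_bf_eq_one hS.h1 u₀ hu0
  obtain ⟨β, hβ⟩ := exists_beta hu0 m hstab
  have hβu : IsUnit β := beta_isUnit hu0 m β hβ
  obtain ⟨μ, hμ0, hsim, hμ⟩ := exists_mu hS hb hu0 h10 m hm β hβ hβu (hnorm 0 1 _)
  obtain ⟨σ₀, hσ0, hσrel⟩ :=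
    exists_sigma0L hS hb hu0 h10 m hm hstab β hβ hβu μ hμ0 hμ (fun x hx => hnorm x 0 hx)
  have h00 : bf J1 u₀ (-u₁) = 1 := by
    rw [bf_neg_right, ← hS.h1.skew, h10]
  have hperp : ∀ x, bf J1 u₀ x = 0 → bf J1 (σ₀ x) u₀ = 0 := fun x hx =>
    rel_perpL hS hb m hm β hβ hβu x (σ₀ x) (hS.h1.eq_zero_comm hx) (hσrel x (hS.h1.eq_zero_comm hx))
  have hform : ∀ x y, bf J1 u₀ x = 0 → bf J1 u₀ y = 0 → bf J1 (σ₀ x) (σ₀ y) = μ⁻¹ * bf J1 x y := by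
    intro x y hx hy
    have hx' := hS.h1.eq_zero_comm hx
    have hy' := hS.h1.eq_zero_comm hy
    have h := rel_formL hS hb m hm β μ hsim x (σ₀ x) y (σ₀ y) (hperp x hx) (hperp y hy) (hσrel x hx')
      (hσrel y hy')
    rw [← h, ← mul_assoc, inv_mul_cancel₀ hμ0, one_mul]
  obtain ⟨S, hSsim, hS0, hSrel⟩ :=
    Cfsg.Agent.Lib.Helper21.S5704DECOMP.exists_Sigma hS.h1 h00 μ⁻¹ σ₀ hσ0 hperp hform
  have hSu : IsUnit S := by
    rw [← Matrix.mulVec_injective_iff_isUnit]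
    intro x y hxy
    rw [← sub_eq_zero]
    apply hS.h1.nondeg
    intro z
    have h := hSsim (x - y) z
    rw [Matrix.mulVec_sub, hxy, sub_self, bf_zero_left] at h
    have h' : μ⁻¹ * bf J1 (x - y) z = 0 := h.symm
    rcases mul_eq_zero.1 h' with h'' | h''
    · exact absurd h'' (inv_ne_zero hμ0)
    · exact h''
  have hA : (hSu.unit : Matrix (Fin a) (Fin a) F) = S := hSu.unit_spec
  have hB : (hβu.unit : Matrix (Fin b) (Fin b) F) = β := hβu.unit_spec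
  have hact : ∀ (y : Fin a → F) (w : Fin b → F),
      act (kronGL hSu.unit hβu.unit) (pur y w) = pur (S *ᵥ y) (β *ᵥ w) := by
    intro y w
    rw [Cfsg.Agent.Lib.Helper3.SpT.act_kronGL, hA, hB]
  have hinvL : ∀ l ∈ ptL (b := b) u₀, act (kronGL hSu.unit hβu.unit)⁻¹ l ∈ ptL (b := b) u₀ := by
    intro l hl
    obtain ⟨w, rfl⟩ := (mem_ptL_iff _ _).1 hl
    obtain ⟨w', hw'⟩ := exists_mulVec_eq hβu w
    have h4 : act (kronGL hSu.unit hβu.unit) (pur u₀ w') = pur u₀ w := by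
      rw [hact, hS0, hw']
    rw [← h4, act_inv_act]
    exact pur_mem_ptL _ _
  refine ⟨kronGL hSu.unit hβu.unit, kronGL_mem_kron _ _, ?_, ?_, ?_⟩
  · apply Cfsg.Agent.Lib.Helper13.S5666T4.mem_IsoG_of_pur
    intro y y' w w'
    rw [hact, hact, bf_kron_pur, bf_kron_pur, hSsim, hsim]
    field_simp
  · intro x hx
    obtain ⟨w, rfl⟩ := (mem_ptL_iff _ _).1 hx
    have h4 : act (kronGL hSu.unit hβu.unit) (pur u₀ w) = act m (pur u₀ w) := by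
      rw [hact, hS0, hβ]
    rw [act_mul, ← h4, act_inv_act]
  · intro x hx
    have hkey : ∀ v : V,
        act m (v - pur u₁ (ctrL (J1 *ᵥ u₀) v)) -
          act (kronGL hSu.unit hβu.unit) (v - pur u₁ (ctrL (J1 *ᵥ u₀) v)) ∈ ptL (b := b) u₀ := by
      intro v
      refine pur_induction (p := fun v => act m (v - pur u₁ (ctrL (J1 *ᵥ u₀) v)) -
          act (kronGL hSu.unit hβu.unit) (v - pur u₁ (ctrL (J1 *ᵥ u₀) v)) ∈ ptL (b := b) u₀) ?_ ?_ ?_ v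
      · simp
      · intro v v' hv hv'
        have h : act m (v + v' - pur u₁ (ctrL (J1 *ᵥ u₀) (v + v'))) -
            act (kronGL hSu.unit hβu.unit) (v + v' - pur u₁ (ctrL (J1 *ᵥ u₀) (v + v'))) =
            (act m (v - pur u₁ (ctrL (J1 *ᵥ u₀) v)) -
              act (kronGL hSu.unit hβu.unit) (v - pur u₁ (ctrL (J1 *ᵥ u₀) v))) +
            (act m (v' - pur u₁ (ctrL (J1 *ᵥ u₀) v')) -
              act (kronGL hSu.unit hβu.unit) (v' - pur u₁ (ctrL (J1 *ᵥ u₀) v'))) := by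
          rw [map_add (ctrL (J1 *ᵥ u₀)), pur_add_right]
          simp only [map_add, map_sub]
          abel
        rw [h]
        exact Submodule.add_mem _ hv hv'
      · intro y w
        have hy' : bf J1 u₀ (y - bf J1 y u₀ • u₁) = 0 := by
          apply hS.h1.eq_zero_comm
          rw [bf_sub_left, bf_smul_left, h10, mul_one, sub_self]
        have h5 : pur y w - pur u₁ (ctrL (J1 *ᵥ u₀) (pur y w)) = pur (y - bf J1 y u₀ • u₁) w := by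
          rw [ctrL_J_pur, pur_smul_right, sub_eq_add_neg y, pur_add_left, pur_neg_left, pur_smul_left,
            ← sub_eq_add_neg]
        obtain ⟨d, hd⟩ := hSrel _ hy'
        rw [h5, hact, hd]
        have h6 : act m (pur (y - bf J1 y u₀ • u₁) w) -
            pur (σ₀ (y - bf J1 y u₀ • u₁) + d • u₀) (β *ᵥ w) =
            (act m (pur (y - bf J1 y u₀ • u₁) w) - pur (σ₀ (y - bf J1 y u₀ • u₁)) (β *ᵥ w)) -
              d • pur u₀ (β *ᵥ w) := by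
          rw [pur_add_left, pur_smul_left]
          abel
        rw [h6]
        exact Submodule.sub_mem _ (hσrel _ (hS.h1.eq_zero_comm hy') w)
          (Submodule.smul_mem _ _ (pur_mem_ptL _ _))
    have h7 := hkey x
    rw [(mem_hypL_iff _ x).1 hx, pur_zero_right, sub_zero] at h7
    have h8 : act ((kronGL hSu.unit hβu.unit)⁻¹ * m) x - x =
        act (kronGL hSu.unit hβu.unit)⁻¹ (act m x - act (kronGL hSu.unit hβu.unit) x) := by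
      rw [map_sub, act_inv_act, act_mul]
    rw [h8]
    exact hinvL _ h7


/-- **E-NK** (exact signature of helper20's sub-skeleton; spare twin) -/
theorem fix_kron (hJ1 : SympG J1) (hb : 1 ≤ b) (u₀ : Fin a → F) (hu0 : u₀ ≠ 0) (z : GL (Fin a × Fin b) F)
    (hzK : z ∈ K) (hfix : ∀ v ∈ hypL (b := b) (J1 *ᵥ u₀), act z v = v) :
    ∃ d : Fin a → F, ∀ v : V, act z v = v + pur d (ctrL (J1 *ᵥ u₀) v) := by
  obtain ⟨u₁, h10⟩ := exists_bf_eq_one hJ1 u₀ hu0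
  exact fix_kron' hJ1 hb hu0 h10 z hzK hfix

end Cfsg.Agent.Lib.Helper1.S5666EL
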