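import Mathlib
import Cfsg.Agent.Lib.Helper13.TensSODefs
import Cfsg.Agent.Lib.Helper13.S5666FOAPI

/-!
# S5666 T4-CL : the closure lemma of T4 (helper1)

Exact signatures of helper13's skeleton (`notes/S5666Skel_helper13.lean.txt`, rev 2):
* `exists_three_ne_zero` : three linear maps `Lx`, `Ly`, `Lx + Ly ≠ 0` are simultaneously non-zero somewhere (`2 ≠ 0`);
* `exists_pur_three`     : a pure tensor non-orthogonal to `x`, `y` and `x + y`;
* `closure_univ`         : a set `X ∋ 0` containing the pure tensors with `x, y ∈ X, f(x,y) ≠ 0 ⇒ x + l y ∈ X` is everything.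
-/

set_option autoImplicit false
set_option linter.unusedSectionVars false
set_option linter.unusedVariables false

namespace Cfsg.Agent.Lib.Helper1.S5666T4CL

open Matrix Module
open Cfsg.Agent.Lib.Helper16.Tens Cfsg.Agent.Lib.Helper10.TensFund Cfsg.Agent.Lib.Helper13.TensSO
open Cfsg.Agent.Lib.Helper3.SpT (bf SympG bf_add_left bf_add_right bf_smul_left bf_smul_right bf_kron_pur
  bf_kron_pur_right pur_induction bf_zero_left bf_zero_right bf_neg_left bf_neg_right bf_sub_left bf_sub_right)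
open scoped Kronecker

variable {F : Type*} [Field F] {a b : ℕ}
variable {J1 : Matrix (Fin a) (Fin a) F} {J2 : Matrix (Fin b) (Fin b) F}

local notation "V" => (Fin a × Fin b → F)

/-- among `t = 0, 1, -1` one avoids the (at most one) zero of `p₂ + t q₂` and of `p₃ + t q₃` -/
theorem exists_smul_ne_zero {G : Type*} [AddCommGroup G] [Module F G] (h2 : (2 : F) ≠ 0)
    (p₂ q₂ p₃ q₃ : G) (hq₂ : q₂ ≠ 0) (hq₃ : q₃ ≠ 0) :
    ∃ t : F, p₂ + t • q₂ ≠ 0 ∧ p₃ + t • q₃ ≠ 0 := by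
  -- two zeros of `p + t q` coincide
  have huniq : ∀ (p q : G), q ≠ 0 → ∀ t t' : F, p + t • q = 0 → p + t' • q = 0 → t = t' := by
    intro p q hq t t' h h'
    have h3 : (t - t') • q = 0 := by
      rw [sub_smul]
      have : t • q - t' • q = (p + t • q) - (p + t' • q) := by abel
      rw [this, h, h', sub_zero]
    rcases smul_eq_zero.1 h3 with h4 | h4
    · exact sub_eq_zero.1 h4
    · exact absurd h4 hq
  have h01 : (0 : F) ≠ 1 := zero_ne_one
  have h0m : (0 : F) ≠ -1 := by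
    intro h
    have : (1 : F) = 0 := by
      rw [← neg_neg (1 : F), ← h, neg_zero]
    exact one_ne_zero this
  have h1m : (1 : F) ≠ -1 := by
    intro h
    apply h2
    linear_combination h
  by_contra hcon
  push Not at hcon
  have a0 := hcon 0
  have a1 := hcon 1
  have am := hcon (-1)
  by_cases b0 : p₂ + (0 : F) • q₂ = 0
  · by_cases b1 : p₂ + (1 : F) • q₂ = 0
    · exact h01 (huniq p₂ q₂ hq₂ _ _ b0 b1)
    · by_cases bm : p₂ + (-1 : F) • q₂ = 0
      · exact h0m (huniq p₂ q₂ hq₂ _ _ b0 bm)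
      · exact h1m (huniq p₃ q₃ hq₃ _ _ (a1 b1) (am bm))
  · by_cases b1 : p₂ + (1 : F) • q₂ = 0
    · by_cases bm : p₂ + (-1 : F) • q₂ = 0
      · exact h1m (huniq p₂ q₂ hq₂ _ _ b1 bm)
      · exact h0m (huniq p₃ q₃ hq₃ _ _ (a0 b0) (am bm))
    · exact h01 (huniq p₃ q₃ hq₃ _ _ (a0 b0) (a1 b1))

/-- T4-CL (a): three linear maps `Lx`, `Ly`, `Lx + Ly ≠ 0` are simultaneously non-zero somewhere (char ≠ 2) -/
theorem exists_three_ne_zero {E G : Type*} [AddCommGroup E] [Module F E] [AddCommGroup G] [Module F G]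
    (h2 : (2 : F) ≠ 0) (Lx Ly : E →ₗ[F] G) (hx : Lx ≠ 0) (hy : Ly ≠ 0) (hz : Lx + Ly ≠ 0) :
    ∃ e : E, Lx e ≠ 0 ∧ Ly e ≠ 0 ∧ Lx e + Ly e ≠ 0 := by
  have hex : ∀ L : E →ₗ[F] G, L ≠ 0 → ∃ e, L e ≠ 0 := by
    intro L hL
    by_contra h
    push Not at h
    exact hL (LinearMap.ext h)
  obtain ⟨w₁, hw₁⟩ := hex _ hz
  rw [LinearMap.add_apply] at hw₁
  by_cases h1 : Lx w₁ = 0
  · -- then `Ly w₁ ≠ 0`
    have h1y : Ly w₁ ≠ 0 := by
      intro h
      apply hw₁
      rw [h1, h, add_zero]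
    obtain ⟨w₂, hw₂⟩ := hex _ hx
    obtain ⟨t, ht1, ht2⟩ := exists_smul_ne_zero h2 (Ly w₂) (Ly w₁) (Lx w₂ + Ly w₂) (Lx w₁ + Ly w₁) h1y hw₁
    refine ⟨w₂ + t • w₁, ?_, ?_, ?_⟩
    · rw [map_add, map_smul, h1, smul_zero, add_zero]; exact hw₂
    · rw [map_add, map_smul]; exact ht1
    · rw [map_add, map_smul, map_add, map_smul]
      have : Lx w₂ + t • Lx w₁ + (Ly w₂ + t • Ly w₁) = Lx w₂ + Ly w₂ + t • (Lx w₁ + Ly w₁) := by
        rw [smul_add]; abel
      rw [this]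
      exact ht2
  · by_cases h1y : Ly w₁ = 0
    · obtain ⟨w₂, hw₂⟩ := hex _ hy
      obtain ⟨t, ht1, ht2⟩ := exists_smul_ne_zero h2 (Lx w₂) (Lx w₁) (Lx w₂ + Ly w₂) (Lx w₁ + Ly w₁) h1 hw₁
      refine ⟨w₂ + t • w₁, ?_, ?_, ?_⟩
      · rw [map_add, map_smul]; exact ht1
      · rw [map_add, map_smul, h1y, smul_zero, add_zero]; exact hw₂
      · rw [map_add, map_smul, map_add, map_smul]
        have : Lx w₂ + t • Lx w₁ + (Ly w₂ + t • Ly w₁) = Lx w₂ + Ly w₂ + t • (Lx w₁ + Ly w₁) := by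
          rw [smul_add]; abel
        rw [this]
        exact ht2
    · exact ⟨w₁, h1, h1y, hw₁⟩

/-- `Λ_v : W → U`, `w ↦ ctr (J2 *ᵥ w) v`; `f(v, u ⊗ w) = f₁(Λ_v w, u)` -/
def lam (J2 : Matrix (Fin b) (Fin b) F) (v : V) : (Fin b → F) →ₗ[F] (Fin a → F) where
  toFun w := ctr (J2 *ᵥ w) v
  map_add' w w' := by rw [Matrix.mulVec_add, ctr_add]
  map_smul' c w := by rw [Matrix.mulVec_smul, ctr_smul]; rfl

theorem lam_apply (v : V) (w : Fin b → F) : lam J2 v w = ctr (J2 *ᵥ w) v := rfl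

theorem lam_add (x y : V) : lam (a := a) J2 (x + y) = lam J2 x + lam J2 y := by
  apply LinearMap.ext
  intro w
  rw [LinearMap.add_apply, lam_apply, lam_apply, lam_apply, map_add]

theorem lam_ne_zero (hS : SetupSO J1 J2) (v : V) (hv : v ≠ 0) : lam (a := a) J2 v ≠ 0 := by
  intro h
  apply hv
  apply Cfsg.Agent.Lib.Helper13.S5666API.bf_kron_nondeg hS
  intro y
  refine pur_induction (p := fun y => bf (J1 ⊗ₖ J2) v y = 0) ?_ ?_ ?_ y
  · simp
  · intro y y' hy hy'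
    rw [bf_add_right, hy, hy', add_zero]
  · intro u w
    rw [bf_kron_pur_right, ← lam_apply, h, LinearMap.zero_apply, bf_zero_left]

/-- the functional `u ↦ f₁(p, u)` -/
def bfl (J1 : Matrix (Fin a) (Fin a) F) (p : Fin a → F) : (Fin a → F) →ₗ[F] F where
  toFun u := bf J1 p u
  map_add' u u' := bf_add_right J1 p u u'
  map_smul' c u := by rw [bf_smul_right]; rfl

theorem bfl_apply (p u : Fin a → F) : bfl J1 p u = bf J1 p u := rfl

theorem bfl_ne_zero (hJ1 : SympG J1) (p : Fin a → F) (hp : p ≠ 0) : bfl J1 p ≠ 0 := by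
  intro h
  apply hp
  apply hJ1.nondeg
  intro y
  rw [← bfl_apply, h, LinearMap.zero_apply]

/-- T4-CL (b): a pure tensor non-orthogonal to `x`, `y` and `x + y` -/
theorem exists_pur_three (hS : SetupSO J1 J2) (x y : V) (hx : x ≠ 0) (hy : y ≠ 0) (hxy : x + y ≠ 0) :
    ∃ (u : Fin a → F) (w : Fin b → F), bf (J1 ⊗ₖ J2) x (pur u w) ≠ 0 ∧ bf (J1 ⊗ₖ J2) y (pur u w) ≠ 0 ∧
      bf (J1 ⊗ₖ J2) (x + y) (pur u w) ≠ 0 := by
  have hz : lam (a := a) J2 x + lam J2 y ≠ 0 := by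
    rw [← lam_add]; exact lam_ne_zero hS _ hxy
  obtain ⟨w, hw1, hw2, hw3⟩ :=
    exists_three_ne_zero hS.two (lam J2 x) (lam J2 y) (lam_ne_zero hS x hx) (lam_ne_zero hS y hy) hz
  have hz' : bfl J1 (lam J2 x w) + bfl J1 (lam J2 y w) ≠ 0 := by
    have : bfl J1 (lam J2 x w) + bfl J1 (lam J2 y w) = bfl J1 (lam J2 x w + lam J2 y w) := by
      apply LinearMap.ext
      intro u
      rw [LinearMap.add_apply, bfl_apply, bfl_apply, bfl_apply, bf_add_left]
    rw [this]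
    exact bfl_ne_zero hS.h1 _ hw3
  obtain ⟨u, hu1, hu2, hu3⟩ :=
    exists_three_ne_zero hS.two (bfl J1 (lam J2 x w)) (bfl J1 (lam J2 y w)) (bfl_ne_zero hS.h1 _ hw1)
      (bfl_ne_zero hS.h1 _ hw2) hz'
  refine ⟨u, w, ?_, ?_, ?_⟩
  · rw [bf_kron_pur_right]; exact hu1
  · rw [bf_kron_pur_right]; exact hu2
  · rw [bf_add_left, bf_kron_pur_right, bf_kron_pur_right]; exact hu3

/-- T4-CL (c): the CLOSURE LEMMA -/
theorem closure_univ (hS : SetupSO J1 J2) (X : Set V) (h0 : (0 : V) ∈ X)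
    (hrule : ∀ x ∈ X, ∀ y ∈ X, bf (J1 ⊗ₖ J2) x y ≠ 0 → ∀ l : F, x + l • y ∈ X)
    (hpur : ∀ (u : Fin a → F) (w : Fin b → F), pur u w ∈ X) : ∀ v : V, v ∈ X := by
  have hskew := Cfsg.Agent.Lib.Helper13.S5666T4.bf_kron_skew hS
  have halt := Cfsg.Agent.Lib.Helper13.S5666T4.bf_kron_alt hS
  have hadd : ∀ x y : V, x ∈ X → y ∈ X → x + y ∈ X := by
    intro x y hx hy
    by_cases hx0 : x = 0
    · rw [hx0, zero_add]; exact hy
    by_cases hy0 : y = 0
    · rw [hy0, add_zero]; exact hx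
    by_cases hxy0 : x + y = 0
    · rw [hxy0]; exact h0
    by_cases hf : bf (J1 ⊗ₖ J2) x y = 0
    · obtain ⟨u, w, h1, h2, h3⟩ := exists_pur_three hS x y hx0 hy0 hxy0
      have hc : pur u w ∈ X := hpur u w
      have s1 : x + pur u w ∈ X := by
        have := hrule x hx (pur u w) hc h1 1
        rwa [one_smul] at this
      have s2 : x + pur u w + y ∈ X := by
        have := hrule (x + pur u w) s1 y hy ?_ 1
        · rwa [one_smul] at this
        · rw [bf_add_left, hf, zero_add, hskew, neg_ne_zero]; exact h2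
      have s3 := hrule (x + pur u w + y) s2 (pur u w) hc ?_ (-1)
      · have e : x + pur u w + y + (-1 : F) • pur u w = x + y := by
          rw [neg_smul, one_smul]; abel
        rwa [e] at s3
      · rw [bf_add_left, bf_add_left, halt, add_zero]
        rw [bf_add_left] at h3
        exact h3
    · have := hrule x hx y hy hf 1
      rwa [one_smul] at this
  intro v
  exact pur_induction (p := fun v => v ∈ X) h0 hadd hpur v

end Cfsg.Agent.Lib.Helper1.S5666T4CL
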