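import Mathlib
import Cfsg.Agent.Lib.Helper13.TensSODefs

/-!
# S5666 T4-W : the orthogonal side of T4 (helper1)

`wside_univ` : a set of vectors of `W = F^b` (with the non-degenerate symmetric form `bf J2`, `2 ≠ 0`) closed under scalars,
under the isometries of `bf J2` and under the restricted rule `w, w' ∈ S, f(w,w') ≠ 0 ≠ f(w + l w', w') ⇒ w + l w' ∈ S`, which
contains a non-zero SINGULAR vector, is everything.  Exact signature of helper13's skeleton (`notes/S5666Skel_helper13.lean.txt`).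

By-products: the reflection `reflGL J c hc ∈ IsoG J` (`reflM_mulVec`, `reflGL_mem_IsoG`, `bf_refl`).
-/

set_option autoImplicit false
set_option linter.unusedSectionVars false
set_option linter.unusedVariables false

namespace Cfsg.Agent.Lib.Helper1.S5666T4W

open Matrix Module
open Cfsg.Agent.Lib.Helper13.TensSO
open Cfsg.Agent.Lib.Helper3.SpT (bf E E_mulVec mat_ext_mulVec bf_add_left bf_add_right bf_smul_left bf_smul_right
  bf_sub_left bf_sub_right bf_neg_left bf_neg_right bf_zero_left bf_zero_right)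

variable {F : Type*} [Field F]

section refl
variable {κ : Type} [Fintype κ] [DecidableEq κ]

/-- the matrix of the reflection `x ↦ x - (2 f(x,c)/f(c,c)) c` -/
noncomputable def reflM (J : Matrix κ κ F) (c : κ → F) : Matrix κ κ F := 1 - (2 / bf J c c) • E J c c

theorem reflM_mulVec (J : Matrix κ κ F) (c x : κ → F) :
    reflM J c *ᵥ x = x - (2 * bf J x c / bf J c c) • c := by
  unfold reflM
  rw [Matrix.sub_mulVec, Matrix.one_mulVec, Matrix.smul_mulVec, E_mulVec, smul_smul]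
  congr 2
  ring

theorem reflM_sq (J : Matrix κ κ F) (c : κ → F) (hc : bf J c c ≠ 0) : reflM J c * reflM J c = 1 := by
  apply mat_ext_mulVec
  intro x
  rw [← Matrix.mulVec_mulVec, reflM_mulVec, reflM_mulVec, Matrix.one_mulVec, bf_sub_left, bf_smul_left]
  rw [sub_sub, ← add_smul]
  have : 2 * bf J x c / bf J c c +
      2 * (bf J x c - 2 * bf J x c / bf J c c * bf J c c) / bf J c c = 0 := by
    field_simp
    ring
  rw [this, zero_smul, sub_zero]

/-- the reflection in `GL` -/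
noncomputable def reflGL (J : Matrix κ κ F) (c : κ → F) (hc : bf J c c ≠ 0) : GL κ F :=
  ⟨reflM J c, reflM J c, reflM_sq J c hc, reflM_sq J c hc⟩

@[simp] theorem reflGL_val (J : Matrix κ κ F) (c : κ → F) (hc : bf J c c ≠ 0) :
    ((reflGL J c hc : GL κ F) : Matrix κ κ F) = reflM J c := rfl

/-- a reflection is an isometry -/
theorem bf_refl {J : Matrix κ κ F} (hJ : OrthG J) (c : κ → F) (hc : bf J c c ≠ 0) (x y : κ → F) :
    bf J (x - (2 * bf J x c / bf J c c) • c) (y - (2 * bf J y c / bf J c c) • c) = bf J x y := by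
  rw [bf_sub_left, bf_sub_right, bf_sub_right, bf_smul_left, bf_smul_left, bf_smul_right, bf_smul_right,
    hJ.symm c y]
  field_simp
  ring

theorem reflGL_mem_IsoG {J : Matrix κ κ F} (hJ : OrthG J) (c : κ → F) (hc : bf J c c ≠ 0) :
    reflGL J c hc ∈ IsoG J := by
  rw [mem_IsoG_iff]
  intro x y
  rw [reflGL_val, reflM_mulVec, reflM_mulVec, bf_refl hJ c hc]

/-- a vector on which two non-zero functionals `f(w₀, ·)`, `f(k', ·)` do not vanish -/
theorem exists_two_ne_zero {J : Matrix κ κ F} (hJ : OrthG J) (w₀ k' : κ → F) (hw0 : w₀ ≠ 0) (hk' : k' ≠ 0) :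
    ∃ y : κ → F, bf J w₀ y ≠ 0 ∧ bf J k' y ≠ 0 := by
  obtain ⟨y₁, hy₁⟩ : ∃ y, bf J w₀ y ≠ 0 := by
    by_contra h
    push Not at h
    exact hw0 (hJ.nondeg w₀ h)
  obtain ⟨y₂, hy₂⟩ : ∃ y, bf J k' y ≠ 0 := by
    by_contra h
    push Not at h
    exact hk' (hJ.nondeg k' h)
  by_cases h1 : bf J k' y₁ = 0
  · by_cases h2 : bf J w₀ y₂ = 0
    · refine ⟨y₁ + y₂, ?_, ?_⟩
      · rw [bf_add_right, h2, add_zero]; exact hy₁
      · rw [bf_add_right, h1, zero_add]; exact hy₂
    · exact ⟨y₂, h2, hy₂⟩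
  · exact ⟨y₁, hy₁, h1⟩

/-- a NON-SINGULAR vector non-orthogonal to the singular `w₀` and to `k' ⟂ w₀` -/
theorem exists_nonsing_two {J : Matrix κ κ F} (hJ : OrthG J) (h2 : (2 : F) ≠ 0) (w₀ k' : κ → F) (hw0 : w₀ ≠ 0)
    (hk' : k' ≠ 0) (hsing : bf J w₀ w₀ = 0) (hperp : bf J w₀ k' = 0) :
    ∃ c : κ → F, bf J c c ≠ 0 ∧ bf J w₀ c ≠ 0 ∧ bf J k' c ≠ 0 := by
  obtain ⟨y, hy1, hy2⟩ := exists_two_ne_zero hJ w₀ k' hw0 hk'
  by_cases hq : bf J y y = 0
  · refine ⟨y + w₀, ?_, ?_, ?_⟩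
    · rw [bf_add_left, bf_add_right, bf_add_right, hq, hsing, hJ.symm y w₀]
      have : (0 : F) + bf J w₀ y + (bf J w₀ y + 0) = 2 * bf J w₀ y := by ring
      rw [this]
      exact mul_ne_zero h2 hy1
    · rw [bf_add_right, hsing, add_zero]; exact hy1
    · rw [bf_add_right, hJ.symm k' w₀, hperp, add_zero]; exact hy2
  · exact ⟨y, hq, hy1, hy2⟩

end refl

variable {b : ℕ} {J2 : Matrix (Fin b) (Fin b) F}

/-- T4-W: the orthogonal side.  A set of vectors of `W` closed under scalars, isometries and the restricted rule, containing a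
non-zero SINGULAR vector, is everything. -/
theorem wside_univ (hJ2 : OrthG J2) (h2 : (2 : F) ≠ 0) (S : Set (Fin b → F))
    (hsmul : ∀ w ∈ S, ∀ l : F, l • w ∈ S)
    (hiso : ∀ β : GL (Fin b) F, β ∈ IsoG J2 → ∀ w ∈ S, (β : Matrix (Fin b) (Fin b) F) *ᵥ w ∈ S)
    (hrule : ∀ w ∈ S, ∀ w' ∈ S, bf J2 w w' ≠ 0 → ∀ l : F, bf J2 (w + l • w') w' ≠ 0 → w + l • w' ∈ S)
    (w₀ : Fin b → F) (hw0 : w₀ ≠ 0) (hsing : bf J2 w₀ w₀ = 0) (hmem : w₀ ∈ S) : ∀ w : Fin b → F, w ∈ S := by
  -- reflections preserve `S`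
  have hrefl : ∀ c : Fin b → F, bf J2 c c ≠ 0 → ∀ w ∈ S, w - (2 * bf J2 w c / bf J2 c c) • c ∈ S := by
    intro c hc w hw
    have := hiso (reflGL J2 c hc) (reflGL_mem_IsoG hJ2 c hc) w hw
    rwa [reflGL_val, reflM_mulVec] at this
  have h0 : (0 : Fin b → F) ∈ S := by simpa using hsmul w₀ hmem 0
  -- a singular vector of `S` moves to every singular vector not orthogonal to it
  have hsingsing : ∀ k₁ ∈ S, bf J2 k₁ k₁ = 0 → ∀ k' : Fin b → F, bf J2 k' k' = 0 → bf J2 k₁ k' ≠ 0 →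
      k' ∈ S := by
    intro k₁ hk₁ hq₁ k' hq' hne
    have hd : bf J2 (k₁ - k') (k₁ - k') = -2 * bf J2 k₁ k' := by
      rw [bf_sub_left, bf_sub_right, bf_sub_right, hq₁, hq', hJ2.symm k' k₁]; ring
    have hdne : bf J2 (k₁ - k') (k₁ - k') ≠ 0 := by
      rw [hd]; exact mul_ne_zero (neg_ne_zero.2 h2) hne
    have := hrefl (k₁ - k') hdne k₁ hk₁
    have hcoef : 2 * bf J2 k₁ (k₁ - k') / bf J2 (k₁ - k') (k₁ - k') = 1 := by
      rw [hd, bf_sub_right, hq₁]; field_simp; ring
    rw [hcoef, one_smul, sub_sub_cancel] at this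
    exact this
  -- a second singular vector `w'`, not orthogonal to `w₀`
  obtain ⟨c, hcc, hw0c, -⟩ := exists_nonsing_two hJ2 h2 w₀ w₀ hw0 hw0 hsing hsing
  obtain ⟨w', hw'⟩ : ∃ w', w' = w₀ - (2 * bf J2 w₀ c / bf J2 c c) • c := ⟨_, rfl⟩
  have hw'S : w' ∈ S := by rw [hw']; exact hrefl c hcc w₀ hmem
  have hw'sing : bf J2 w' w' = 0 := by rw [hw', bf_refl hJ2 c hcc, hsing]
  have hw0w' : bf J2 w₀ w' ≠ 0 := by
    rw [hw', bf_sub_right, bf_smul_right, hsing, zero_sub, neg_ne_zero]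
    exact mul_ne_zero (div_ne_zero (mul_ne_zero h2 hw0c) hcc) hw0c
  -- every norm occurs in `S`
  have hnorm : ∀ n : F, ∃ v ∈ S, bf J2 v v = n := by
    intro n
    refine ⟨w₀ + (n / (2 * bf J2 w₀ w')) • w', hrule w₀ hmem w' hw'S hw0w' _ ?_, ?_⟩
    · rw [bf_add_left, bf_smul_left, hw'sing, mul_zero, add_zero]; exact hw0w'
    · rw [bf_add_left, bf_add_right, bf_add_right, bf_smul_left, bf_smul_left, bf_smul_right, bf_smul_right,
        hsing, hw'sing, hJ2.symm w' w₀]
      field_simp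
      ring
  -- the non-singular vectors
  have hnonsing : ∀ v : Fin b → F, bf J2 v v ≠ 0 → v ∈ S := by
    intro v hv
    obtain ⟨v', hv'S, hv'n⟩ := hnorm (bf J2 v v)
    by_cases hd : bf J2 (v' - v) (v' - v) = 0
    · have hvv' : bf J2 v' v = bf J2 v v := by
        rw [bf_sub_left, bf_sub_right, bf_sub_right, hv'n, hJ2.symm v v'] at hd
        have h : 2 * (bf J2 v v - bf J2 v' v) = 0 := by linear_combination hd
        rcases mul_eq_zero.1 h with h | h
        · exact absurd h h2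
        · exact (sub_eq_zero.1 h).symm
      have hs : bf J2 (v' + v) (v' + v) = 2 * 2 * bf J2 v v := by
        rw [bf_add_left, bf_add_right, bf_add_right, hv'n, hJ2.symm v v', hvv']; ring
      have hsne : bf J2 (v' + v) (v' + v) ≠ 0 := by
        rw [hs]; exact mul_ne_zero (mul_ne_zero h2 h2) hv
      have := hrefl (v' + v) hsne v' hv'S
      have hcoef : 2 * bf J2 v' (v' + v) / bf J2 (v' + v) (v' + v) = 1 := by
        rw [hs, bf_add_right, hv'n, hvv']; field_simp; ring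
      rw [hcoef, one_smul] at this
      have h3 := hsmul _ this (-1)
      have h4 : (-1 : F) • (v' - (v' + v)) = v := by
        rw [sub_add_cancel_left, neg_smul, one_smul, neg_neg]
      rwa [h4] at h3
    · have := hrefl (v' - v) hd v' hv'S
      have hcoef : 2 * bf J2 v' (v' - v) / bf J2 (v' - v) (v' - v) = 1 := by
        have hd' : bf J2 (v' - v) (v' - v) = 2 * bf J2 v' (v' - v) := by
          rw [bf_sub_left, bf_sub_right, bf_sub_right, hv'n, hJ2.symm v v']; ring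
        rw [hd'] at hd ⊢
        exact div_self hd
      rw [hcoef, one_smul, sub_sub_cancel] at this
      exact this
  intro w
  by_cases hq : bf J2 w w = 0
  · by_cases hw : w = 0
    · rw [hw]; exact h0
    · by_cases hf : bf J2 w₀ w = 0
      · obtain ⟨d, hdd, hd0, hdw⟩ := exists_nonsing_two hJ2 h2 w₀ w hw0 hw hsing hf
        have hk''S := hrefl d hdd w₀ hmem
        have hk''sing : bf J2 (w₀ - (2 * bf J2 w₀ d / bf J2 d d) • d) (w₀ - (2 * bf J2 w₀ d / bf J2 d d) • d) = 0 := by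
          rw [bf_refl hJ2 d hdd, hsing]
        refine hsingsing _ hk''S hk''sing w hq ?_
        rw [bf_sub_left, bf_smul_left, hf, zero_sub, neg_ne_zero, hJ2.symm d w]
        exact mul_ne_zero (div_ne_zero (mul_ne_zero h2 hd0) hdd) hdw
      · exact hsingsing w₀ hmem hsing w hq hf
  · exact hnonsing w hq

end Cfsg.Agent.Lib.Helper1.S5666T4W
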