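import Mathlib
import Cfsg.Agent.Lib.Helper13.TensSODefs
import Cfsg.Agent.Lib.Helper13.S5666T4
import Cfsg.Agent.Lib.Helper1.S5666T4W
import Cfsg.Agent.Lib.Helper1.S5666T4CL

/-!
# S5666 T4 (final form, helper1): helper13's `iso_le_of_transvection_aux` with T4-CL and T4-W plugged in.

`iso_le_of_transvection` : EXACT signature of helper13's skeleton (`notes/S5666Skel_helper13.lean.txt`, rev 2).
-/

set_option autoImplicit false
set_option linter.unusedSectionVars false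
set_option linter.unusedVariables false

namespace Cfsg.Agent.Lib.Helper1.S5666T4Final

open Matrix Module
open Cfsg.Agent.Lib.Helper16.Tens Cfsg.Agent.Lib.Helper10.TensFund Cfsg.Agent.Lib.Helper13.TensSO
open Cfsg.Agent.Lib.Helper3.SpT (bf SympG)
open scoped Kronecker

variable {F : Type*} [Field F] {a b : ℕ}
variable {J1 : Matrix (Fin a) (Fin a) F} {J2 : Matrix (Fin b) (Fin b) F}
variable {M : Subgroup (GL (Fin a × Fin b) F)}

/-- T4: a full transvection group with pure centre `u ⊗ w`, `w` SINGULAR, in `M` gives `IsoG ≤ M` -/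
theorem iso_le_of_transvection (hS : SetupSO J1 J2) (ha : 2 ≤ a) (hb : 3 ≤ b) (hM : OverS J1 J2 M)
    (u : Fin a → F) (w : Fin b → F) (hu : u ≠ 0) (hw : w ≠ 0) (hsing : bf J2 w w = 0)
    (hX : ∀ (c : F) (t : GL (Fin a × Fin b) F), IsTv (J1 ⊗ₖ J2) (pur u w) c t → t ∈ M) :
    IsoG (J1 ⊗ₖ J2) ≤ M :=
  Cfsg.Agent.Lib.Helper13.S5666T4.iso_le_of_transvection_aux hS hM
    (fun X h0 hr hp => Cfsg.Agent.Lib.Helper1.S5666T4CL.closure_univ hS X h0 hr hp)
    (fun S h1 h2 h3 w₀ h4 h5 h6 =>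
      Cfsg.Agent.Lib.Helper1.S5666T4W.wside_univ hS.h2 hS.two S h1 h2 h3 w₀ h4 h5 h6)
    u w hu hw hsing hX

end Cfsg.Agent.Lib.Helper1.S5666T4Final
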