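import Mathlib
import Cfsg.Agent.Lib.Helper9.OExtDefs
import Cfsg.Agent.Lib.Helper7.SpExtBas
import Cfsg.Agent.Lib.Helper21.S5664FOBASb
import Cfsg.Agent.Lib.Helper22.S5664FOIIa
import Cfsg.Agent.Lib.Helper22.S5701FOC0D0
import Cfsg.Agent.Lib.Helper26.S5701FOBAS
import Cfsg.Agent.Lib.Helper26.S5701FOSIEG
import Cfsg.Agent.Lib.Helper26.S5701FOGEOa
import Cfsg.Agent.H5.S5701FOC2
import Cfsg.Agent.Lib.Helper9.OExtC1

/-!
# S5701 farm-out FO-C3a (`gram_nondeg`) and FO-C3 (`exists_ppair`)   (helper1, for helper9)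

Both are proved in an `_aux` form taking FO-C1 (`inter_perp_le`) as an explicit hypothesis `hC1`;
the exact-signature statements `gram_nondeg`, `exists_ppair` at the end feed
`Helper9.OExtC1.inter_perp_le`.
-/

set_option autoImplicit false

namespace Cfsg.Agent.Lib.Helper1.S5701C3

open Matrix Module QuadraticMap Cfsg.Agent.Lib.Helper7.SpExt Cfsg.Agent.Lib.Helper9.OExt
  Cfsg.Agent.Lib.Helper26.S5701BAS

variable {F : Type*} [Field F] {L : Type*} [Field L] [Algebra F L] {ι : Type} [Fintype ι]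
  [DecidableEq ι] {ρ : L →ₐ[F] Matrix ι ι F} {Q : QuadraticForm F (ι → F)} {τ : L →ₗ[F] F}
  {B : (ι → F) →ₗ[F] (ι → F) →ₗ[F] L} {r : ℕ}

/-- the `L`-Siegel element with centre `v₁` fixes `pt ρ v₁` pointwise -/
theorem sieg_fix (S : OStr ρ Q τ B) {v₁ w : ι → F} {x : GL ι F} (hx : IsSieg ρ B v₁ w x)
    (hv : B v₁ v₁ = 0) (hvw : B v₁ w = 0) : ∀ p ∈ pt ρ v₁, act x p = p := by
  intro p hp
  obtain ⟨a, rfl⟩ := (mem_pt ρ v₁ p).mp hp
  rw [hx, S.lin, S.lin, hv, hvw, mul_zero, mul_zero, map_zero, Matrix.zero_mulVec]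
  simp

/-- `B (x u - u) v₁ = 0` for the Siegel element `x` with centre `v₁` -/
theorem sieg_sub_perp (S : OStr ρ Q τ B) {v₁ w : ι → F} {x : GL ι F} (hx : IsSieg ρ B v₁ w x)
    (hv : B v₁ v₁ = 0) (hwv : B w v₁ = 0) (u : ι → F) : B (act x u - u) v₁ = 0 := by
  rw [hx]
  simp only [map_add, map_sub, LinearMap.add_apply, LinearMap.sub_apply, S.lin, hv, hwv,
    mul_zero, add_zero, sub_zero, sub_self]

/-- the polar form of `x u` against `u'` -/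
theorem polar_sieg (S : OStr ρ Q τ B) {v₁ w : ι → F} {x : GL ι F} (hx : IsSieg ρ B v₁ w x)
    (u u' : ι → F) :
    polar (⇑Q) (act x u) u' = polar (⇑Q) u u' +
      τ (B u w * B v₁ u' - B u v₁ * B w u' - B w w / 2 * B u v₁ * B v₁ u') := by
  rw [S.tr, S.tr, ← map_add, hx]
  congr 1
  simp only [map_add, map_sub, LinearMap.add_apply, LinearMap.sub_apply, S.lin]
  ring

/-- FO-C3a, with FO-C1 as an explicit hypothesis -/
theorem gram_nondeg_aux (S : OStr ρ Q τ B) (H : Subgroup (GL ι F)) (hS : HasSieg ρ B H)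
    (hH : H ≤ Cfsg.isometryGroup F ⇑Q) (hnoP : ∀ h h' v v', ¬ PPair ρ Q B H h h' v v')
    (hC1 : ∀ (v₁ v₀ : ι → F) (g₀ : GL ι F), MaxI ρ B H v₁ v₀ g₀ →
      ∀ u ∈ Img ρ g₀ v₀, B u v₁ = 0 → u ∈ pt ρ v₁)
    (v₁ v₀ : ι → F) (g₀ : GL ι F) (hmax : MaxI ρ B H v₁ v₀ g₀) (v₂ : ι → F)
    (h12 : B v₁ v₂ = 1) (w : ι → F) (hw0 : w ≠ 0) (hw1 : B w v₁ = 0) (hw2 : B w v₂ = 0)
    (x : GL ι F) (hx : IsSieg ρ B v₁ w x) :
    ∀ u ∈ Img ρ g₀ v₀, (∀ u' ∈ Img ρ g₀ v₀, polar (⇑Q) (act x u) u' = 0) → u ∈ pt ρ v₁ := by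
  have hK := hC1 v₁ v₀ g₀ hmax
  obtain ⟨hg₀, hv₁, hv₀, hne, hbot, hmx⟩ := hmax
  have hv1w : B v₁ w = 0 := by rw [S.symm]; exact hw1
  have hxH : x ∈ H := hS v₁ w x hv₁.2 hv1w hx
  have hg₀O := hH hg₀
  have hfix := sieg_fix S hx hv₁.2 hv1w
  -- the pair `(P₁, P')` is intersecting, hence not perpendicular
  have hIP : IPair ρ B H 1 g₀ v₁ v₀ :=
    ⟨H.one_mem, hg₀, hv₁, hv₀, by rwa [Img_one], by rwa [Img_one]⟩
  have hu₀ : ∃ u₀ ∈ Img ρ g₀ v₀, B u₀ v₁ ≠ 0 := by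
    by_contra hcon
    push Not at hcon
    apply hnoP 1 g₀ v₁ v₀
    refine ⟨hIP, ?_⟩
    intro p hp y hy
    rw [Img_one] at hp
    rw [polar_comm]
    exact (B_eq_zero_iff S y v₁).mp (hcon y hy) p hp
  obtain ⟨u₀, hu₀P, hu₀b⟩ := hu₀
  -- `x P' ≠ P'`
  have hneq : Img ρ (x * g₀) v₀ ≠ Img ρ g₀ v₀ := by
    intro heq
    have h1 : act x u₀ ∈ Img ρ g₀ v₀ := by
      rw [← heq, Cfsg.Agent.Lib.Helper22.S5664II.Img_mul]
      exact ⟨u₀, hu₀P, rfl⟩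
    have h2 : act x u₀ - u₀ ∈ Img ρ g₀ v₀ := Submodule.sub_mem _ h1 hu₀P
    have h4 := hK _ h2 (sieg_sub_perp S hx hv₁.2 hw1 u₀)
    have h5 : ρ (B u₀ v₁) *ᵥ w ∈ pt ρ v₁ := by
      have e : ρ (B u₀ v₁) *ᵥ w =
          ρ (B u₀ w) *ᵥ v₁ - ρ (B w w / 2 * B u₀ v₁) *ᵥ v₁ - (act x u₀ - u₀) := by
        rw [hx u₀]; abel
      rw [e]
      exact Submodule.sub_mem _ (Submodule.sub_mem _ (smul_mem_pt ρ v₁ _) (smul_mem_pt ρ v₁ _)) h4
    obtain ⟨c, hc⟩ := (mem_pt ρ v₁ _).mp h5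
    have h6 : w = ρ ((B u₀ v₁)⁻¹ * c) *ᵥ v₁ := by
      rw [rho_mul_mulVec, hc, ← rho_mul_mulVec, inv_mul_cancel₀ hu₀b, rho_one_mulVec]
    have h7 : B w v₂ = (B u₀ v₁)⁻¹ * c := by
      conv_lhs => rw [h6]
      rw [S.lin, h12, mul_one]
    rw [hw2] at h7
    apply hw0
    rw [h6, ← h7, map_zero, Matrix.zero_mulVec]
  -- the new pair `(x P', P')` is again a maximal intersecting pair
  have hD_le : pt ρ v₁ ⊓ Img ρ g₀ v₀ ≤ Img ρ (x * g₀) v₀ ⊓ Img ρ g₀ v₀ := by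
    rintro p ⟨hp1, hp2⟩
    refine ⟨?_, hp2⟩
    rw [Cfsg.Agent.Lib.Helper22.S5664II.Img_mul]
    exact ⟨p, hp2, hfix p hp1⟩
  have hIP2 : IPair ρ B H (x * g₀) g₀ v₀ v₀ :=
    ⟨H.mul_mem hxH hg₀, hg₀, hv₀, hv₀, hneq, fun h => hbot (eq_bot_iff.mpr (h ▸ hD_le))⟩
  have hDeq : pt ρ v₁ ⊓ Img ρ g₀ v₀ = Img ρ (x * g₀) v₀ ⊓ Img ρ g₀ v₀ :=
    Submodule.eq_of_le_of_finrank_le hD_le (hmx _ _ _ _ hIP2)
  obtain ⟨e1, e2, e3, e4⟩ :=
    Cfsg.Agent.Lib.Helper22.S5701C0D0.conj_data (ρ := ρ) g₀ (x * g₀) v₀ v₀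
  have hfr : finrank F ↥(pt ρ v₀ ⊓ Img ρ (g₀⁻¹ * (x * g₀)) v₀) =
      finrank F ↥(pt ρ v₁ ⊓ Img ρ g₀ v₀) := by
    rw [e4, hDeq, inf_comm]
  have hmax2 : MaxI ρ B H v₀ v₀ (g₀⁻¹ * (x * g₀)) := by
    refine ⟨H.mul_mem (H.inv_mem hg₀) (H.mul_mem hxH hg₀), hv₀, hv₀, ?_, ?_, ?_⟩
    · intro heq
      apply hneq
      apply Cfsg.Agent.Lib.Helper22.S5664II.map_actL_inj g₀⁻¹
      rw [e1, e2, ← heq]
    · intro hb
      rw [hb, finrank_bot] at hfr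
      exact hbot (Submodule.finrank_eq_zero.mp hfr.symm)
    · intro k k' w' w'' hI
      rw [hfr]
      exact hmx k k' w' w'' hI
  have hK2 := hC1 v₀ v₀ _ hmax2
  intro u hu hperp
  have h1 : act x u ∈ Img ρ (x * g₀) v₀ := by
    rw [Cfsg.Agent.Lib.Helper22.S5664II.Img_mul]; exact ⟨u, hu, rfl⟩
  have h2 : act g₀⁻¹ (act x u) ∈ Img ρ (g₀⁻¹ * (x * g₀)) v₀ := by
    rw [Cfsg.Agent.Lib.Helper22.S5664II.Img_mul]; exact ⟨_, h1, rfl⟩
  have h3 : B (act g₀⁻¹ (act x u)) v₀ = 0 := by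
    rw [B_eq_zero_iff S]
    intro y hy
    have e : polar (⇑Q) (act g₀⁻¹ (act x u)) y = polar (⇑Q) (act x u) (act g₀ y) := by
      rw [← polar_act hg₀O (act g₀⁻¹ (act x u)) y, act_act_inv]
    rw [e]
    exact hperp _ ⟨y, hy, rfl⟩
  have h4 := hK2 _ h2 h3
  have h5 : act x u ∈ Img ρ g₀ v₀ := by
    have e : act x u = act g₀ (act g₀⁻¹ (act x u)) := by rw [act_act_inv]
    rw [e]; exact ⟨_, h4, rfl⟩
  have h6 : act x u ∈ pt ρ v₁ ⊓ Img ρ g₀ v₀ := by rw [hDeq]; exact ⟨h1, h5⟩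
  have h7 : act x (act x u) = act x u := hfix _ h6.1
  have h8 : act x u = u := act_injective x h7
  rw [← h8]; exact h6.1

/-- a basis of a complement of `D` in `P`, inside the ambient space -/
theorem exists_compl_basis {V : Type*} [AddCommGroup V] [Module F V] [FiniteDimensional F V]
    (P D : Submodule F V) (hDP : D ≤ P) :
    ∃ (k : ℕ) (u : Fin k → V), k + finrank F ↥D = finrank F ↥P ∧ (∀ i, u i ∈ P) ∧
      (∀ c : Fin k → F, (∑ i, c i • u i) ∈ D → c = 0) ∧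
      (∀ p ∈ P, ∃ d ∈ D, ∃ a : Fin k → F, p = d + ∑ i, a i • u i) := by
  classical
  obtain ⟨C', hC'⟩ := Submodule.exists_isCompl (D.comap P.subtype)
  obtain ⟨bC⟩ : Nonempty (Basis (Fin (finrank F ↥C')) F ↥C') := ⟨Module.finBasis F ↥C'⟩
  refine ⟨finrank F ↥C', fun i => ((bC i : ↥P) : V), ?_, ?_, ?_, ?_⟩
  · have h1 := Submodule.finrank_add_eq_of_isCompl hC'
    have h2 : finrank F ↥(D.comap P.subtype) = finrank F ↥D :=
      (Submodule.comapSubtypeEquivOfLe hDP).finrank_eq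
    omega
  · intro i; exact (bC i : ↥P).2
  · intro c hc
    have h1 : (∑ i, c i • ((bC i : ↥C') : ↥P)) ∈ D.comap P.subtype ⊓ C' := by
      refine ⟨?_, ?_⟩
      · show P.subtype (∑ i, c i • ((bC i : ↥C') : ↥P)) ∈ D
        rw [map_sum]
        simpa using hc
      · exact Submodule.sum_mem _ fun i _ => Submodule.smul_mem _ _ (bC i).2
    rw [hC'.inf_eq_bot, Submodule.mem_bot] at h1
    have h2 : ∑ i, c i • bC i = 0 := by
      apply Subtype.ext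
      simpa using h1
    exact funext fun i => Fintype.linearIndependent_iff.mp bC.linearIndependent c h2 i
  · intro p hp
    have h1 : (⟨p, hp⟩ : ↥P) ∈ D.comap P.subtype ⊔ C' := by rw [hC'.sup_eq_top]; trivial
    obtain ⟨d, hd, c', hc', hsum⟩ := Submodule.mem_sup.mp h1
    refine ⟨(d : V), hd, fun i => bC.repr ⟨c', hc'⟩ i, ?_⟩
    have h2 := bC.sum_repr ⟨c', hc'⟩
    have h3 : (c' : V) = ∑ i, bC.repr ⟨c', hc'⟩ i • ((bC i : ↥P) : V) := by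
      conv_lhs => rw [show c' = ((⟨c', hc'⟩ : ↥C') : ↥P) from rfl, ← h2]
      push_cast
      rfl
    have h4 := congrArg (fun z : ↥P => (z : V)) hsum
    simp only [Submodule.coe_add] at h4
    rw [← h4, h3]

/-- Chevalley–Warning for the determinant, on a subspace of the ambient space -/
theorem cw_det_sub [Fintype F] {V : Type*} [AddCommGroup V] [Module F V] [Module.Finite F V]
    (W : Submodule F V) {k : ℕ} (hk : 0 < k) (hdim : 2 * k < finrank F ↥W)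
    (ℓ : Fin k → Fin k → V →ₗ[F] F) (b : Fin k → Fin k → V →ₗ[F] V →ₗ[F] F) :
    ∃ w ∈ W, w ≠ 0 ∧ Matrix.det (Matrix.of fun i j => ℓ i j w + b i j w w) = 0 := by
  obtain ⟨w, hw, hdet⟩ := Cfsg.H5.S5701C2.cw_det hk hdim (fun i j => (ℓ i j).comp W.subtype)
    (fun i j => (b i j).domRestrict₁₂ W W)
  refine ⟨w, w.2, fun h => hw (Subtype.ext h), ?_⟩
  simp only [LinearMap.domRestrict₁₂_apply, LinearMap.comp_apply, Submodule.subtype_apply] at hdet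
  exact hdet

/-- FO-C3, with FO-C1 as an explicit hypothesis -/
theorem exists_ppair_aux [Fintype F] (S : OStr ρ Q τ B) (hr : r.Prime) (hrk : finrank F L = r)
    (hn : 4 * r ≤ Fintype.card ι) (H : Subgroup (GL ι F)) (hS : HasSieg ρ B H)
    (hH : H ≤ Cfsg.isometryGroup F ⇑Q)
    (hC1 : (∀ h h' v v', ¬ PPair ρ Q B H h h' v v') → ∀ (v₁ v₀ : ι → F) (g₀ : GL ι F),
      MaxI ρ B H v₁ v₀ g₀ → ∀ u ∈ Img ρ g₀ v₀, B u v₁ = 0 → u ∈ pt ρ v₁)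
    (h h' : GL ι F) (v v' : ι → F)
    (hI : IPair ρ B H h h' v v') : ∃ k k' w w', PPair ρ Q B H k k' w w' := by
  classical
  by_contra hcon
  have hnoP : ∀ h h' v v', ¬ PPair ρ Q B H h h' v v' := fun a b c d hp => hcon ⟨a, b, c, d, hp⟩
  have hC1' := hC1 hnoP
  obtain ⟨v₁, v₀, g₀, hmax⟩ := Cfsg.Agent.Lib.Helper22.S5701C0D0.exists_max_ipair H h h' v v' hI
  have hmax' := hmax
  obtain ⟨hg₀, hv₁, hv₀, hne, hbot, hmx⟩ := hmax'
  obtain ⟨v₂, hv₂, h12⟩ := Cfsg.Agent.Lib.Helper26.S5701GEO.exists_partner S hv₁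
  have hr0 : 0 < r := hr.pos
  have hv₂n : v₂ ∉ pt ρ v₁ := by
    intro hmem
    obtain ⟨a, rfl⟩ := (mem_pt ρ v₁ v₂).mp hmem
    rw [B_lin_right S, hv₁.2, mul_zero] at h12
    exact zero_ne_one h12
  have hW := Cfsg.Agent.Lib.Helper26.S5701GEO.finrank_perp2 S hrk hr0 hv₁.1 hv₂n
  have hg₀O := hH hg₀
  have hPr : finrank F ↥(Img ρ g₀ v₀) = r :=
    Cfsg.Agent.Lib.Helper21.S5664BASb.finrank_Img ρ hrk hr0 g₀ hv₀.1
  have hP1r : finrank F ↥(pt ρ v₁) = r :=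
    Cfsg.Agent.Lib.Helper21.S5664BASb.finrank_pt ρ hrk hr0 hv₁.1
  obtain ⟨k, u, hk, huP, hind, hdec⟩ :=
    exists_compl_basis (Img ρ g₀ v₀) (pt ρ v₁ ⊓ Img ρ g₀ v₀) inf_le_right
  have hδ : 0 < finrank F ↥(pt ρ v₁ ⊓ Img ρ g₀ v₀) := by
    rw [Nat.pos_iff_ne_zero]
    intro h0
    exact hbot (Submodule.finrank_eq_zero.mp h0)
  have hk0 : 0 < k := by
    rw [Nat.pos_iff_ne_zero]
    intro h0
    have e1 : pt ρ v₁ ⊓ Img ρ g₀ v₀ = pt ρ v₁ :=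
      Submodule.eq_of_le_of_finrank_le inf_le_left (by omega)
    have e2 : pt ρ v₁ ⊓ Img ρ g₀ v₀ = Img ρ g₀ v₀ :=
      Submodule.eq_of_le_of_finrank_le inf_le_right (by omega)
    exact hne (e1.symm.trans e2)
  have hdim : 2 * k <
      finrank F ↥(LinearMap.ker (B.flip v₁) ⊓ LinearMap.ker (B.flip v₂)) := by omega
  obtain ⟨ℓ, hℓ⟩ : ∃ ℓ : Fin k → Fin k → (ι → F) →ₗ[F] F, ∀ i j z,
      ℓ i j z = τ (B (u i) z * B v₁ (u j) - B (u i) v₁ * B z (u j)) :=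
    ⟨fun i j => τ ∘ₗ ((LinearMap.mulRight F (B v₁ (u j))) ∘ₗ (B (u i)) -
      (LinearMap.mulLeft F (B (u i) v₁)) ∘ₗ (B.flip (u j))), fun i j z => rfl⟩
  obtain ⟨b, hb⟩ : ∃ b : Fin k → Fin k → (ι → F) →ₗ[F] (ι → F) →ₗ[F] F, ∀ i j z z',
      b i j z z' = τ (-(B (u i) v₁ * B v₁ (u j)) / 2 * B z z') :=
    ⟨fun i j => B.compr₂ (τ ∘ₗ LinearMap.mulLeft F (-(B (u i) v₁ * B v₁ (u j)) / 2)),
      fun i j z z' => rfl⟩
  obtain ⟨w, hwW, hw0, hdet⟩ := cw_det_sub _ hk0 hdim ℓ b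
  have hw1 : B w v₁ = 0 := hwW.1
  have hw2 : B w v₂ = 0 := hwW.2
  have hv1w : B v₁ w = 0 := by rw [S.symm]; exact hw1
  obtain ⟨x, hx, -, -, -, hxO⟩ :=
    Cfsg.Agent.Lib.Helper26.S5701SIEG.exists_sieg S v₁ w hv₁.2 hv1w
  obtain ⟨c, hc0, hc⟩ := Matrix.exists_vecMul_eq_zero_iff.mpr hdet
  have hM : ∀ i j, ℓ i j w + b i j w w = polar (⇑Q) (act x (u i)) (u j) := by
    intro i j
    rw [polar_sieg S hx, Img_isotropic S hg₀O hv₀.2 _ (huP i) _ (huP j), zero_add, hℓ, hb,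
      ← map_add]
    congr 1
    ring
  have huP' : (∑ i, c i • u i) ∈ Img ρ g₀ v₀ :=
    Submodule.sum_mem _ fun i _ => Submodule.smul_mem _ _ (huP i)
  have hperp_u : ∀ j, polar (⇑Q) (act x (∑ i, c i • u i)) (u j) = 0 := by
    intro j
    have e : ∀ z, polar (⇑Q) (act x z) (u j) = (τ ∘ₗ (B.flip (u j)) ∘ₗ actL x) z := by
      intro z; rw [S.tr]; rfl
    rw [e, map_sum]
    have hcj := congrFun hc j
    simp only [Matrix.vecMul, dotProduct, Matrix.of_apply, Pi.zero_apply] at hcj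
    rw [← hcj]
    apply Finset.sum_congr rfl
    intro i _
    rw [map_smul, ← e, ← hM, smul_eq_mul]
  have hperp : ∀ p ∈ Img ρ g₀ v₀, polar (⇑Q) (act x (∑ i, c i • u i)) p = 0 := by
    intro p hp
    obtain ⟨d, hd, a, rfl⟩ := hdec p hp
    have e : ∀ z, polar (⇑Q) (act x (∑ i, c i • u i)) z =
        (τ ∘ₗ B (act x (∑ i, c i • u i))) z := by
      intro z; rw [S.tr]; rfl
    rw [e, map_add, map_sum, ← e]
    have hd0 : polar (⇑Q) (act x (∑ i, c i • u i)) d = 0 := by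
      have hfd : act x d = d := sieg_fix S hx hv₁.2 hv1w d hd.1
      rw [← hfd, polar_act hxO]
      exact Img_isotropic S hg₀O hv₀.2 _ huP' _ hd.2
    rw [hd0, zero_add]
    apply Finset.sum_eq_zero
    intro j _
    rw [map_smul, ← e, hperp_u j, smul_zero]
  have hfin := gram_nondeg_aux S H hS hH hnoP hC1' v₁ v₀ g₀ hmax v₂ h12 w hw0 hw1 hw2 x hx _
    huP' hperp
  apply hc0
  apply hind c
  exact ⟨hfin, huP'⟩

/-- FO-C3a, exact skeleton signature -/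
theorem gram_nondeg [Fintype F] (S : OStr ρ Q τ B) (hr : r.Prime) (hrk : finrank F L = r)
    (hn : 4 * r ≤ Fintype.card ι) (H : Subgroup (GL ι F)) (hS : HasSieg ρ B H)
    (hH : H ≤ Cfsg.isometryGroup F ⇑Q) (hnoP : ∀ h h' v v', ¬ PPair ρ Q B H h h' v v')
    (v₁ v₀ : ι → F) (g₀ : GL ι F) (hmax : MaxI ρ B H v₁ v₀ g₀) (v₂ : ι → F) (hv₂ : LSing B v₂)
    (h12 : B v₁ v₂ = 1) (w : ι → F) (hw0 : w ≠ 0) (hw1 : B w v₁ = 0) (hw2 : B w v₂ = 0)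
    (x : GL ι F) (hx : IsSieg ρ B v₁ w x) :
    ∀ u ∈ Img ρ g₀ v₀, (∀ u' ∈ Img ρ g₀ v₀, polar (⇑Q) (act x u) u' = 0) → u ∈ pt ρ v₁ :=
  gram_nondeg_aux S H hS hH hnoP
    (fun a b c hm => Cfsg.Agent.Lib.Helper9.OExtC1.inter_perp_le S hr hrk hn H hS hH hnoP a b c hm)
    v₁ v₀ g₀ hmax v₂ h12 w hw0 hw1 hw2 x hx

/-- FO-C3, exact skeleton signature -/
theorem exists_ppair [Fintype F] (S : OStr ρ Q τ B) (hr : r.Prime) (hrk : finrank F L = r)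
    (hn : 4 * r ≤ Fintype.card ι) (H : Subgroup (GL ι F)) (hS : HasSieg ρ B H)
    (hH : H ≤ Cfsg.isometryGroup F ⇑Q) (h h' : GL ι F) (v v' : ι → F)
    (hI : IPair ρ B H h h' v v') : ∃ k k' w w', PPair ρ Q B H k k' w w' :=
  exists_ppair_aux S hr hrk hn H hS hH
    (fun hnoP a b c hm =>
      Cfsg.Agent.Lib.Helper9.OExtC1.inter_perp_le S hr hrk hn H hS hH hnoP a b c hm)
    h h' v v' hI

end Cfsg.Agent.Lib.Helper1.S5701C3
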