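import Mathlib
import Cfsg.Agent.Lib.Helper3.SpTDefs
import Cfsg.Agent.Lib.Helper3.SpTL1
import Cfsg.Agent.Lib.Helper3.SpTL2
import Cfsg.Agent.Lib.Helper13.OrthParab
import Cfsg.Agent.Lib.Helper13.OrthNondeg

/-!
# S5704 farm-out, layer 4, piece T4 (helper1, for helper3)

If `M ≥ N0 ⊓ Ω` contains all short root elements `gE C w w'` then `M ≥ Ω`.

For a pure tensor `x = u0 ⊗ w0` the Siegel transformations `ρ_{x, u ⊗ w}` (`w ⊥ w0` independent of
`w0`) are the short root elements `gE (E u0 u) w0 w`; additivity gives all `ρ_{x,v}`, `v ∈ U ⊗ w0^⊥`;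
conjugating by `k = gE (E u₁ z) w0' w2` (which fixes `x` when `u₁ ⊥ u0`) gives `ρ_{x, u₁ ⊗ w0'}`;
as `x^⊥ = U ⊗ w0^⊥ + u0^⊥ ⊗ w0'` this is `OrX Q M x`, and helper13's engine finishes.
-/

set_option autoImplicit false

namespace Cfsg.Agent.Lib.Helper1.S5704T4

open Matrix Module QuadraticMap
open scoped Kronecker commutatorElement
open Cfsg.Agent.Lib.Helper16.Tens
open Cfsg.Agent.Lib.Helper3.SpT
open Cfsg.Agent.Lib.Helper6 Cfsg.Agent.Lib.Helper13 Cfsg.Agent.Lib.Helper13.OND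

variable {F : Type*} [Field F] {a b : ℕ} {J1 : Matrix (Fin a) (Fin a) F} {J2 : Matrix (Fin b) (Fin b) F}
  {Q : QuadraticForm F (Fin a × Fin b → F)}

/-- the Siegel transformation `ρ_{u⊗w, u'⊗w'}` is the short root element `gE (E u u') w w'` -/
theorem siegIso_eq_gE (hS : Setup J1 J2 Q) (u u' : Fin a → F) (w w' : Fin b → F) (h : bf J2 w w' = 0)
    (hX : Q (pur u w) = 0) (hXY : polar (⇑Q) (pur u w) (pur u' w') = 0) :
    ((siegIso Q (pur u w) (pur u' w') hX hXY : ↥(Cfsg.isometryGroup F ⇑Q)) :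
      GL (Fin a × Fin b) F) = gE J1 J2 hS.h2 (E J1 u u') w w' h := by
  apply Units.ext
  apply mat_ext_mulVec
  intro v
  have h1 := gact_siegIso Q (pur u w) (pur u' w') hX hXY v
  have h2 := act_gE_E hS u u' w w' h v
  rw [act_apply] at h2
  rw [gact_def] at h1
  rw [h1, h2, hS.pure, zero_mul, sub_zero]

/-- `ρ_{u0⊗w0, t(u⊗w)} ∈ M` for `w ⊥ w0` independent of `w0` -/
theorem SIn_pur_of_li (hS : Setup J1 J2 Q) (M : Subgroup (GL (Fin a × Fin b) F))
    (hall : ∀ (C : Matrix (Fin a) (Fin a) F) (w w' : Fin b → F) (h : bf J2 w w' = 0),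
      LinearIndependent F ![w, w'] → gE J1 J2 hS.h2 C w w' h ∈ M)
    (u0 u : Fin a → F) (w0 w : Fin b → F) (h : bf J2 w0 w = 0)
    (hli : LinearIndependent F ![w0, w]) : SIn Q M (pur u0 w0) (pur u w) := by
  have hp : ∀ u' : Fin a → F, polar (⇑Q) (pur u0 w0) (pur u' w) = 0 := by
    intro u'
    rw [hS.polar_pur, h, mul_zero]
  refine ⟨hS.pure u0 w0, hp u, fun t hx hxv => ?_⟩
  have hm : ((siegIso Q (pur u0 w0) (pur (t • u) w) hx (hp (t • u)) :
      ↥(Cfsg.isometryGroup F ⇑Q)) : GL (Fin a × Fin b) F) ∈ M := by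
    rw [siegIso_eq_gE hS u0 (t • u) w0 w h]
    exact hall _ w0 w h hli
  exact sieg_mem_congr rfl (pur_smul_left t u w) hm

/-- `ρ_{u0⊗w0, u⊗w} ∈ M` for every `w ⊥ w0` -/
theorem SIn_pur_of_perp (hS : Setup J1 J2 Q) (hb : 6 ≤ b) (M : Subgroup (GL (Fin a × Fin b) F))
    (hall : ∀ (C : Matrix (Fin a) (Fin a) F) (w w' : Fin b → F) (h : bf J2 w w' = 0),
      LinearIndependent F ![w, w'] → gE J1 J2 hS.h2 C w w' h ∈ M)
    (u0 u : Fin a → F) (w0 w : Fin b → F) (hw0 : w0 ≠ 0) (h : bf J2 w0 w = 0) :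
    SIn Q M (pur u0 w0) (pur u w) := by
  have hfr : 2 * finrank F ↥(Submodule.span F (Set.range ![w0])) < b := by
    have := finrank_range_le_card (R := F) ![w0]
    rw [Fintype.card_fin] at this
    change finrank F ↥(Submodule.span F (Set.range ![w0])) ≤ 1 at this
    omega
  obtain ⟨w1, w1', h1, h1', h11⟩ := exists_pair_perp hS.h2 _ hfr
  have hw0S : w0 ∈ Submodule.span F (Set.range ![w0]) :=
    Submodule.subset_span ⟨0, rfl⟩
  have e1 : bf J2 w0 w1 = 0 := h1 w0 hw0S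
  have e1' : bf J2 w0 w1' = 0 := h1' w0 hw0S
  by_cases hc : bf J2 w w1' = 0
  · -- `w + w1` and `w1` are independent of `w0`
    have hA : SIn Q M (pur u0 w0) (pur u (w + w1)) := by
      apply SIn_pur_of_li hS M hall u0 u w0 (w + w1) (by rw [bf_add_right, h, e1, add_zero])
      apply linInd_of_bf hS.h2 w0 (w + w1) w1' e1' _ hw0
      rw [bf_add_left, hc, h11, zero_add]
      exact one_ne_zero
    have hB : SIn Q M (pur u0 w0) (pur u w1) := by
      apply SIn_pur_of_li hS M hall u0 u w0 w1 e1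
      apply linInd_of_bf hS.h2 w0 w1 w1' e1' _ hw0
      rw [h11]
      exact one_ne_zero
    have hAB := hA.sub hB
    rwa [pur_add_right, add_sub_cancel_right] at hAB
  · exact SIn_pur_of_li hS M hall u0 u w0 w h (linInd_of_bf hS.h2 w0 w w1' e1' hc hw0)

/-- `ρ_{u0⊗w0, u₁⊗w0'} ∈ M` for `u₁ ⊥ u0` -/
theorem SIn_pur_of_perp_left (hS : Setup J1 J2 Q) (ha : 2 ≤ a) (hb : 6 ≤ b)
    (M : Subgroup (GL (Fin a × Fin b) F))
    (hall : ∀ (C : Matrix (Fin a) (Fin a) F) (w w' : Fin b → F) (h : bf J2 w w' = 0),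
      LinearIndependent F ![w, w'] → gE J1 J2 hS.h2 C w w' h ∈ M)
    (u0 u₁ : Fin a → F) (w0 w0' : Fin b → F) (hw0 : w0 ≠ 0) (h00' : bf J2 w0 w0' = 1)
    (hu : bf J1 u0 u₁ = 0) : SIn Q M (pur u0 w0) (pur u₁ w0') := by
  have hw0' : w0' ≠ 0 := by
    intro h0
    rw [h0, bf_zero_right] at h00'
    exact zero_ne_one h00'
  have hfr : 2 * finrank F ↥(Submodule.span F (Set.range ![w0, w0'])) < b := by
    have := finrank_range_le_card (R := F) ![w0, w0']
    rw [Fintype.card_fin] at this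
    change finrank F ↥(Submodule.span F (Set.range ![w0, w0'])) ≤ 2 at this
    omega
  obtain ⟨w2, w2', h2, h2', h22⟩ := exists_pair_perp hS.h2 _ hfr
  have hm0 : w0 ∈ Submodule.span F (Set.range ![w0, w0']) := Submodule.subset_span ⟨0, rfl⟩
  have hm0' : w0' ∈ Submodule.span F (Set.range ![w0, w0']) := Submodule.subset_span ⟨1, rfl⟩
  have e02 : bf J2 w0 w2 = 0 := h2 w0 hm0
  have e0'2 : bf J2 w0' w2 = 0 := h2 w0' hm0'
  have e02' : bf J2 w0 w2' = 0 := h2' w0 hm0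
  have e0'2' : bf J2 w0' w2' = 0 := h2' w0' hm0'
  -- a vector `u` and `z` with `f₁(u, z) = 1`
  obtain ⟨u, hu0⟩ : ∃ u : Fin a → F, u ≠ 0 := by
    refine ⟨Pi.single (⟨0, by omega⟩ : Fin a) 1, ?_⟩
    intro h0
    have := congrFun h0 (⟨0, by omega⟩ : Fin a)
    simp at this
  obtain ⟨z, huz⟩ := exists_partner hS.h1 u hu0
  -- the element `k`
  have hkM : gE J1 J2 hS.h2 (E J1 u₁ z) w0' w2 e0'2 ∈ M := by
    apply hall
    apply linInd_of_bf hS.h2 w0' w2 w2' e0'2' _ hw0'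
    rw [h22]
    exact one_ne_zero
  have hkO := gE_mem_iso hS (E J1 u₁ z) w0' w2 e0'2
  have hG := SIn_pur_of_perp hS hb M hall u0 u w0 w2' hw0 e02'
  have hconj := hG.conj ⟨gE J1 J2 hS.h2 (E J1 u₁ z) w0' w2 e0'2, hkO⟩ hkM
  have hfix : gact Q ⟨gE J1 J2 hS.h2 (E J1 u₁ z) w0' w2 e0'2, hkO⟩ (pur u0 w0) = pur u0 w0 := by
    have := act_gE (J1 := J1) hS.h2 (E J1 u₁ z) w0' w2 e0'2 u0 w0
    rw [act_apply] at this
    rw [gact_def]
    change ((gE J1 J2 hS.h2 (E J1 u₁ z) w0' w2 e0'2 : GL (Fin a × Fin b) F) :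
      Matrix (Fin a × Fin b) (Fin a × Fin b) F) *ᵥ pur u0 w0 = _
    rw [this, e02, zero_smul, add_zero, adj_E hS.h1, Matrix.neg_mulVec, E_mulVec, hu, zero_smul,
      neg_zero, pur_zero_left, smul_zero, add_zero]
  have hmove : gact Q ⟨gE J1 J2 hS.h2 (E J1 u₁ z) w0' w2 e0'2, hkO⟩ (pur u w2') =
      pur u w2' - pur u₁ w0' := by
    have := act_gE (J1 := J1) hS.h2 (E J1 u₁ z) w0' w2 e0'2 u w2'
    rw [act_apply] at this
    rw [gact_def]
    change ((gE J1 J2 hS.h2 (E J1 u₁ z) w0' w2 e0'2 : GL (Fin a × Fin b) F) :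
      Matrix (Fin a × Fin b) (Fin a × Fin b) F) *ᵥ pur u w2' = _
    rw [this, hS.h2.skew w2' w2, h22, hS.h2.skew w2' w0', e0'2', neg_zero, zero_smul, add_zero,
      E_mulVec, huz, one_smul, neg_smul, one_smul, sub_eq_add_neg]
  rw [hfix, hmove] at hconj
  have := hG.sub hconj
  rwa [sub_sub_cancel] at this

/-- all Siegel transformations centred at a pure tensor lie in `M` -/
theorem orX_pur (hS : Setup J1 J2 Q) (ha : 2 ≤ a) (hb : 6 ≤ b) (M : Subgroup (GL (Fin a × Fin b) F))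
    (hall : ∀ (C : Matrix (Fin a) (Fin a) F) (w w' : Fin b → F) (h : bf J2 w w' = 0),
      LinearIndependent F ![w, w'] → gE J1 J2 hS.h2 C w w' h ∈ M)
    (u0 : Fin a → F) (w0 : Fin b → F) (hw0 : w0 ≠ 0) : OrX Q M (pur u0 w0) := by
  obtain ⟨w0', h00'⟩ := exists_partner hS.h2 w0 hw0
  apply OrX_of_SIn (hS.pure u0 w0)
  intro v hv
  have hp : ∀ v' : Fin a × Fin b → F,
      SIn Q M (pur u0 w0) (v' + pur (ctr (J2 *ᵥ w0) v') w0') := by
    intro v'
    refine pur_induction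
      (p := fun v' => SIn Q M (pur u0 w0) (v' + pur (ctr (J2 *ᵥ w0) v') w0')) ?_ ?_ ?_ v'
    · have h0 := SIn_pur_of_perp hS hb M hall u0 0 w0 w0 hw0 (hS.h2.alt w0)
      rw [pur_zero_left] at h0
      simpa using h0
    · intro x y hx hy
      have hxy := hx.add hy
      have e : x + y + pur (ctr (J2 *ᵥ w0) (x + y)) w0' =
          x + pur (ctr (J2 *ᵥ w0) x) w0' + (y + pur (ctr (J2 *ᵥ w0) y) w0') := by
        rw [map_add, pur_add_left]
        abel
      rw [e]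
      exact hxy
    · intro u w
      rw [ctr_J_pur, pur_smul_left, ← pur_smul_right, ← pur_add_right]
      apply SIn_pur_of_perp hS hb M hall u0 u w0 _ hw0
      rw [bf_add_right, bf_smul_right, h00', mul_one, hS.h2.skew w0 w]
      ring
  have hc : bf J1 u0 (ctr (J2 *ᵥ w0) v) = 0 := by
    rw [polar_comm, hS.polar, bf_kron_pur_right] at hv
    exact hS.h1.eq_zero_comm hv
  have h2 := SIn_pur_of_perp_left hS ha hb M hall u0 (ctr (J2 *ᵥ w0) v) w0 w0' hw0 h00' hc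
  have h3 := (hp v).sub h2
  rwa [add_sub_cancel_right] at h3

/-- **FO-T4** (exact stub signature): if `M ≥ N0 ⊓ Ω` contains all short root elements then
`M ≥ Ω` -/
theorem T4 [Fintype F] (hS : Setup J1 J2 Q) (ha : 2 ≤ a) (hb : 6 ≤ b)
    (M : Subgroup (GL (Fin a × Fin b) F)) (hM : Over Q M)
    (hall : ∀ (C : Matrix (Fin a) (Fin a) F) (w w' : Fin b → F) (h : bf J2 w w' = 0),
      LinearIndependent F ![w, w'] → gE J1 J2 hS.h2 C w w' h ∈ M) :
    Cfsg.Geo.omegaGL (⇑Q) ≤ M := by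
  obtain ⟨w0, hw0⟩ : ∃ w : Fin b → F, w ≠ 0 := by
    refine ⟨Pi.single (⟨0, by omega⟩ : Fin b) 1, ?_⟩
    intro h0
    have := congrFun h0 (⟨0, by omega⟩ : Fin b)
    simp at this
  obtain ⟨u0, hu0⟩ : ∃ u : Fin a → F, u ≠ 0 := by
    refine ⟨Pi.single (⟨0, by omega⟩ : Fin a) 1, ?_⟩
    intro h0
    have := congrFun h0 (⟨0, by omega⟩ : Fin a)
    simp at this
  obtain ⟨w0', hw⟩ := exists_partner hS.h2 w0 hw0
  obtain ⟨u0', hu⟩ := exists_partner hS.h1 u0 hu0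
  have hw0' : w0' ≠ 0 := by
    intro h0
    rw [h0, bf_zero_right] at hw
    exact zero_ne_one hw
  have h1 := orX_pur hS ha hb M hall u0 w0 hw0
  have h2 := orX_pur hS ha hb M hall u0' w0' hw0'
  have h12 : polar (⇑Q) (pur u0 w0) (pur u0' w0') ≠ 0 := by
    rw [hS.polar_pur, hu, hw, one_mul]
    exact one_ne_zero
  have h5 : 5 ≤ Fintype.card (Fin a × Fin b) := by
    rw [Fintype.card_prod, Fintype.card_fin, Fintype.card_fin]
    nlinarith
  apply omegaGL_le_of_forall hS.nondeg h5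
  intro z hz
  exact OrX.all hS.nondeg h1 h2 h12 z hz

end Cfsg.Agent.Lib.Helper1.S5704T4
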