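import Mathlib
import Cfsg.Agent.Lib.Helper9.Signalizer
import Cfsg.Agent.Lib.Helper1.FrobConj
import Cfsg.Agent.S0042

/-!
# Solvable subgroups central in all solvable overgroups (helper1)

`H1SolvCentral.main`: a solvable subgroup `A` of a finite group which is central in every solvable
subgroup containing it is central.  Minimal counterexample: `C = C_G(A)` is self-normalizing and TI
modulo `Z(G)`, so `G/Z(G)` is Frobenius with complement `C/Z(G)`; the preimage of the (nilpotent)
kernel is solvable, hence centralizes `A`, contradiction.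
-/

open Pointwise Subgroup Cfsg.Agent.Lib.Helper1
set_option autoImplicit false

namespace H1SolvCentral

universe u

section
variable {G : Type*} [Group G]

/-- Hypothesis: `A` is central in each solvable overgroup. -/
def Hc (A : Subgroup G) : Prop :=
  ∀ S : Subgroup G, A ≤ S → Group.IsSolvable S → ∀ a ∈ A, ∀ s ∈ S, a * s = s * a

/-- the centre of `C` as a subgroup of `G` -/
def Zc (C : Subgroup G) : Subgroup G := C ⊓ centralizer (C : Set G)

theorem Zc_comm (C : Subgroup G) : ∀ x ∈ Zc C, ∀ y ∈ Zc C, x * y = y * x := by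
  intro x hx y hy
  have h1 : y ∈ centralizer (C : Set G) := hy.2
  exact (Subgroup.mem_centralizer_iff.mp h1 x hx.1)

theorem normalizer_le_normalizer_Zc (C : Subgroup G) :
    normalizer (C : Set G) ≤ normalizer (Zc C : Set G) := by
  intro g hg
  rw [Subgroup.mem_normalizer_iff] at hg ⊢
  intro x
  have key : ∀ (g : G), (∀ h, h ∈ C ↔ g * h * g⁻¹ ∈ C) → ∀ x, x ∈ Zc C → g * x * g⁻¹ ∈ Zc C := by
    intro g hg x hx
    refine Subgroup.mem_inf.mpr ⟨(hg x).mp hx.1, ?_⟩
    rw [Subgroup.mem_centralizer_iff]
    intro c hc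
    -- c = g (g⁻¹ c g) g⁻¹
    have hc' : g⁻¹ * c * g ∈ C := by
      have := (hg (g⁻¹ * c * g)).mpr (by simpa [mul_assoc] using hc)
      exact this
    have h2 := Subgroup.mem_centralizer_iff.mp hx.2 _ hc'
    -- (g⁻¹ c g) x = x (g⁻¹ c g)
    calc c * (g * x * g⁻¹) = g * ((g⁻¹ * c * g) * x) * g⁻¹ := by group
      _ = g * (x * (g⁻¹ * c * g)) * g⁻¹ := by rw [h2]
      _ = g * x * g⁻¹ * c := by group
  constructor
  · exact key g hg x
  · intro hx
    have hg' : ∀ h, h ∈ C ↔ g⁻¹ * h * g⁻¹⁻¹ ∈ C := by
      intro h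
      rw [hg (g⁻¹ * h * g⁻¹⁻¹)]
      simp [mul_assoc]
    have := key g⁻¹ hg' _ hx
    simpa [mul_assoc] using this

/-- Facts about a minimal counterexample, part 1. -/
theorem step12 [Finite G] (A : Subgroup G) (hc : Hc A) (hA : Group.IsSolvable A)
    (hprop : ∀ S : Subgroup G, S ≠ ⊤ → A ≤ S → ∀ a ∈ A, ∀ s ∈ S, a * s = s * a) :
    A ≤ Zc (centralizer (A : Set G)) ∧
    (∀ S : Subgroup G, S ≠ ⊤ → A ≤ S → S ≤ centralizer (A : Set G)) ∧
    normalizer ((centralizer (A : Set G) : Subgroup G) : Set G) ≤ centralizer (A : Set G) := by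
  set C : Subgroup G := centralizer (A : Set G) with hC
  have hAab : ∀ a ∈ A, ∀ b ∈ A, a * b = b * a := hc A le_rfl hA
  have hAC : A ≤ C := by
    intro a ha
    rw [hC, Subgroup.mem_centralizer_iff]
    intro b hb
    exact hAab b hb a ha
  have hAZc : A ≤ Zc C := by
    intro a ha
    refine Subgroup.mem_inf.mpr ⟨hAC ha, ?_⟩
    rw [Subgroup.mem_centralizer_iff]
    intro c hc'
    have : c ∈ centralizer (A : Set G) := hc'
    exact (Subgroup.mem_centralizer_iff.mp this a ha).symm
  have step1 : ∀ S : Subgroup G, S ≠ ⊤ → A ≤ S → S ≤ C := by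
    intro S hS hAS s hs
    rw [hC, Subgroup.mem_centralizer_iff]
    intro a ha
    exact hprop S hS hAS a ha s hs
  refine ⟨hAZc, step1, ?_⟩
  intro g hg
  have hgZ : g ∈ normalizer (Zc C : Set G) := normalizer_le_normalizer_Zc C hg
  have hZsolv : Group.IsSolvable (Zc C) := by
    have : ∀ a b : Zc C, a * b = b * a := by
      intro a b
      exact Subtype.ext (Zc_comm C a a.2 b b.2)
    exact Group.isSolvable_of_comm this
  have hzsolv : Group.IsSolvable (zpowers g) := inferInstance
  have hT : Group.IsSolvable ↥(Zc C ⊔ zpowers g) :=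
    Cfsg.Agent.Lib.Helper9.isSolvable_sup_of_le_normalizer hZsolv hzsolv
      ((Subgroup.zpowers_le).mpr hgZ)
  have hAT : A ≤ Zc C ⊔ zpowers g := hAZc.trans le_sup_left
  rw [hC, Subgroup.mem_centralizer_iff]
  intro a ha
  exact hc _ hAT hT a ha g (Subgroup.mem_sup_right (Subgroup.mem_zpowers g))

/-- TI modulo the centre. -/
theorem step3 [Finite G] (A : Subgroup G)
    (_hAC : A ≤ centralizer (A : Set G))
    (step1 : ∀ S : Subgroup G, S ≠ ⊤ → A ≤ S → S ≤ centralizer (A : Set G))
    (step2 : normalizer ((centralizer (A : Set G) : Subgroup G) : Set G) ≤ centralizer (A : Set G))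
    (hCtop : centralizer (A : Set G) ≠ ⊤)
    (g : G) (hg : g ∉ centralizer (A : Set G)) :
    centralizer (A : Set G) ⊓ MulAut.conj g • centralizer (A : Set G) ≤ center G := by
  set C : Subgroup G := centralizer (A : Set G) with hC
  -- conj g • A is not in C
  have h1 : ¬ MulAut.conj g • A ≤ C := by
    intro hle
    have h2 : A ≤ MulAut.conj g⁻¹ • C := by
      intro a ha
      rw [mem_conj_smul, inv_inv]
      have : g * a * g⁻¹ ∈ MulAut.conj g • A := by
        rw [mem_conj_smul]; simpa [mul_assoc] using ha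
      exact hle this
    have hcard : Nat.card (MulAut.conj g⁻¹ • C : Subgroup G) = Nat.card C := card_conj_smul _ _
    have h3 : MulAut.conj g⁻¹ • C ≠ ⊤ := by
      intro htop
      apply hCtop
      apply Subgroup.eq_top_of_card_eq
      rw [← hcard, htop, Subgroup.card_top]
    have h4 : MulAut.conj g⁻¹ • C ≤ C := step1 _ h3 h2
    have h5 : MulAut.conj g⁻¹ • C = C :=
      Subgroup.eq_of_le_of_card_ge h4 (le_of_eq hcard.symm)
    have h6 : g⁻¹ ∈ normalizer (C : Set G) := conj_smul_eq_self_iff_mem_normalizer.mp h5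
    exact hg (by simpa using C.inv_mem (step2 h6))
  have h2 : A ⊔ MulAut.conj g • A = ⊤ := by
    by_contra hne
    exact h1 (le_sup_right.trans (step1 _ hne le_sup_left))
  intro d hd
  obtain ⟨hd1, hd2⟩ := Subgroup.mem_inf.mp hd
  rw [Subgroup.mem_center_iff]
  -- centralizer {d} contains A and conj g • A
  have hA' : A ≤ centralizer ({d} : Set G) := by
    intro a ha
    rw [Subgroup.mem_centralizer_singleton_iff]
    have : d ∈ centralizer (A : Set G) := hd1
    exact (Subgroup.mem_centralizer_iff.mp this a ha)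
  have hB' : MulAut.conj g • A ≤ centralizer ({d} : Set G) := by
    intro b hb
    rw [mem_conj_smul] at hb hd2
    rw [Subgroup.mem_centralizer_singleton_iff]
    have hd3 : g⁻¹ * d * g ∈ centralizer (A : Set G) := hd2
    have := Subgroup.mem_centralizer_iff.mp hd3 _ hb
    -- (g⁻¹ b g) (g⁻¹ d g) = (g⁻¹ d g) (g⁻¹ b g)
    calc b * d = g * ((g⁻¹ * b * g) * (g⁻¹ * d * g)) * g⁻¹ := by group
      _ = g * ((g⁻¹ * d * g) * (g⁻¹ * b * g)) * g⁻¹ := by rw [this]
      _ = d * b := by group
  have hall : (⊤ : Subgroup G) ≤ centralizer ({d} : Set G) := by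
    rw [← h2]; exact sup_le hA' hB'
  intro x
  have := hall (Subgroup.mem_top x)
  rw [Subgroup.mem_centralizer_singleton_iff] at this
  exact this

/-- The Frobenius end-game. -/
theorem endgame [Finite G] (A : Subgroup G) (hc : Hc A) (hA : Group.IsSolvable A)
    (hAC : A ≤ centralizer (A : Set G))
    (hCtop : centralizer (A : Set G) ≠ ⊤)
    (hTI : ∀ g : G, g ∉ centralizer (A : Set G) →
      centralizer (A : Set G) ⊓ MulAut.conj g • centralizer (A : Set G) ≤ center G) : False := by
  set C : Subgroup G := centralizer (A : Set G) with hC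
  set Z : Subgroup G := center G with hZ
  have hZC : Z ≤ C := by
    intro z hz
    rw [hC, Subgroup.mem_centralizer_iff]
    intro a _
    exact (Subgroup.mem_center_iff.mp hz a)
  set π := QuotientGroup.mk' Z with hπ
  have hπs : Function.Surjective π := QuotientGroup.mk'_surjective Z
  set Cb : Subgroup (G ⧸ Z) := C.map π with hCb
  have hcomap : Cb.comap π = C := by
    rw [hCb, Subgroup.comap_map_eq, QuotientGroup.ker_mk', sup_eq_left.mpr hZC]
  -- Frobenius complement
  have hF : Cfsg.IsFrobeniusComplement Cb := by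
    refine ⟨?_, ?_, ?_⟩
    · intro hbot
      have h1 : C ≤ Z := by
        rw [← hcomap, hbot, MonoidHom.comap_bot, QuotientGroup.ker_mk']
      apply hCtop
      rw [eq_top_iff]
      intro x _
      rw [hC, Subgroup.mem_centralizer_iff]
      intro a ha
      have : a ∈ Z := h1 (hAC ha)
      exact (Subgroup.mem_center_iff.mp this x).symm
    · intro htop
      apply hCtop
      rw [← hcomap, htop, Subgroup.comap_top]
    · intro gb hgb
      obtain ⟨g, rfl⟩ := hπs gb
      have hg : g ∉ C := fun h => hgb (Subgroup.mem_map_of_mem _ h)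
      rw [eq_bot_iff]
      intro xb hxb
      obtain ⟨hx1, hx2⟩ := Subgroup.mem_inf.mp hxb
      obtain ⟨c₁, hc₁, rfl⟩ := hx1
      rw [mem_conj_smul] at hx2
      have hx3 : π (g⁻¹ * c₁ * g) ∈ Cb := by
        simpa using hx2
      have hx4 : g⁻¹ * c₁ * g ∈ C := by
        rw [← hcomap]; exact hx3
      have hx5 : c₁ ∈ MulAut.conj g • C := mem_conj_smul.mpr hx4
      have hx6 : c₁ ∈ Z := hTI g hg (Subgroup.mem_inf.mpr ⟨hc₁, hx5⟩)
      rw [Subgroup.mem_bot]
      exact (QuotientGroup.eq_one_iff c₁).mpr hx6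
  obtain ⟨N, hN⟩ := FrobData.exists_of_isFrobeniusComplement hF
  obtain ⟨N', hN'1, -, hN'nil⟩ := Cfsg.Agent.S0042.result Cb hF
  have hNN' : N' = N := by
    apply SetLike.coe_injective
    rw [hN'1, hN.ker]
  subst hNN'
  have := hN.normal
  set K : Subgroup G := N'.comap π with hK
  have hKn : K.Normal := inferInstance
  have hZK : Z ≤ K := by
    intro z hz
    rw [hK, Subgroup.mem_comap]
    have : π z = 1 := (QuotientGroup.eq_one_iff z).mpr hz
    rw [this]; exact N'.one_mem
  -- K is solvable
  have hKsolv : Group.IsSolvable K := by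
    have : Group.IsSolvable N' := inferInstance
    have : Group.IsSolvable Z := Group.isSolvable_of_comm (fun a b => by
      apply Subtype.ext
      show (a : G) * b = b * a
      exact (Subgroup.mem_center_iff.mp b.2 a))
    refine Group.isSolvable_of_ker_le_range (Subgroup.inclusion hZK) (π.subgroupComap N') ?_
    intro x hx
    rw [MonoidHom.mem_ker] at hx
    have h1 : π (x : G) = 1 := by
      have := congrArg Subtype.val hx
      exact this
    have h2 : (x : G) ∈ Z := (QuotientGroup.eq_one_iff (x : G)).mp h1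
    exact ⟨⟨x, h2⟩, Subtype.ext rfl⟩
  have hS : Group.IsSolvable ↥(K ⊔ A) :=
    Cfsg.Agent.Lib.Helper9.isSolvable_sup_of_le_normalizer hKsolv hA (by
      rw [Subgroup.normalizer_eq_top]; exact le_top)
  have hKC : K ≤ C := by
    intro k hk
    rw [hC, Subgroup.mem_centralizer_iff]
    intro a ha
    exact hc _ le_sup_right hS a ha k (Subgroup.mem_sup_left hk)
  have hNCb : N' ≤ Cb := by
    intro n hn
    obtain ⟨k, rfl⟩ := hπs n
    exact Subgroup.mem_map_of_mem _ (hKC hn)
  have hNbot : N' = ⊥ := by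
    rw [eq_bot_iff, ← hN.inf_eq_bot]
    exact le_inf le_rfl hNCb
  have := hN.compl.sup_eq_top
  rw [hNbot, bot_sup_eq] at this
  exact hF.2.1 this

/-- Core: a minimal counterexample does not exist. -/
theorem core [Finite G] (A : Subgroup G) (hc : Hc A) (hA : Group.IsSolvable A)
    (hprop : ∀ S : Subgroup G, S ≠ ⊤ → A ≤ S → ∀ a ∈ A, ∀ s ∈ S, a * s = s * a) :
    A ≤ center G := by
  by_contra hne
  obtain ⟨hAZc, step1, step2⟩ := step12 A hc hA hprop
  have hAC : A ≤ centralizer (A : Set G) := hAZc.trans inf_le_left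
  have hCtop : centralizer (A : Set G) ≠ ⊤ := by
    intro htop
    apply hne
    intro a ha
    rw [Subgroup.mem_center_iff]
    intro x
    have : x ∈ centralizer (A : Set G) := by rw [htop]; exact Subgroup.mem_top x
    exact (Subgroup.mem_centralizer_iff.mp this a ha).symm
  exact endgame A hc hA hAC hCtop (fun g hg => step3 A hAC step1 step2 hCtop g hg)

end

theorem main_aux : ∀ (n : ℕ) (G : Type u) [Group G] [Finite G], Nat.card G = n →
    ∀ A : Subgroup G, Group.IsSolvable A → Hc A → A ≤ center G := by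
  intro n
  induction n using Nat.strong_induction_on with
  | _ n ih =>
  intro G _ _ hn A hA hc
  apply core A hc hA
  intro S hS hAS a ha s hs
  have hlt : Nat.card S < n := by
    rw [← hn]
    apply lt_of_le_of_ne (Subgroup.card_le_card_group S)
    intro h
    exact hS (Subgroup.eq_top_of_card_eq S h)
  have hA' : Group.IsSolvable (A.subgroupOf S) :=
    Group.isSolvable_of_isSolvable_injective
      (f := (Subgroup.subgroupOfEquivOfLe hAS).toMonoidHom)
      (Subgroup.subgroupOfEquivOfLe hAS).injective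
  have hc' : Hc (A.subgroupOf S) := by
    intro T hT hTs a' ha' t ht
    have hT1 : Group.IsSolvable (T.map S.subtype) :=
      Group.isSolvable_of_isSolvable_injective
        (f := (T.equivMapOfInjective S.subtype S.subtype_injective).symm.toMonoidHom)
        (T.equivMapOfInjective S.subtype S.subtype_injective).symm.injective
    have hAT1 : A ≤ T.map S.subtype := by
      intro x hx
      exact ⟨⟨x, hAS hx⟩, hT (Subgroup.mem_subgroupOf.mpr hx), rfl⟩
    have := hc _ hAT1 hT1 (a' : G) (Subgroup.mem_subgroupOf.mp ha') (t : G)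
      (Subgroup.mem_map_of_mem S.subtype ht)
    exact Subtype.ext this
  have key := ih _ hlt S rfl (A.subgroupOf S) hA' hc'
  have h1 : (⟨a, hAS ha⟩ : S) ∈ center S := key (Subgroup.mem_subgroupOf.mpr ha)
  have h2 := Subgroup.mem_center_iff.mp h1 ⟨s, hs⟩
  have := congrArg Subtype.val h2
  exact this.symm


/-- Main theorem. -/
theorem main {G : Type u} [Group G] [Finite G] (A : Subgroup G) (hA : Group.IsSolvable A)
    (hc : ∀ S : Subgroup G, A ≤ S → Group.IsSolvable S → ∀ a ∈ A, ∀ s ∈ S, a * s = s * a) :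
    A ≤ Subgroup.center G :=
  main_aux _ G rfl A hA hc

end H1SolvCentral
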