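import Mathlib
import Cfsg.Prelude.Def_GeometricClasses
import Cfsg.Agent.Lib.Helper13.SpMax
import Cfsg.Agent.Lib.Helper13.AltRank

/-!
# SpCor E-EVEN (helper1, for helper27): a subspace on which the symplectic form is non-degenerate has even dimension

The restricted form is alternating with trivial radical; helper13's `even_finrank_sub_radical` gives the parity.
-/

set_option autoImplicit false
set_option linter.unusedSectionVars false
set_option linter.unusedVariables false

namespace Cfsg.Agent.Lib.Helper1.SpCorEEVEN

open Matrix Module Cfsg Cfsg.Geo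

variable {F : Type*} [Field F] {m : ℕ}

local notation "ff" => Cfsg.sympForm m F
local notation "V" => (Fin m ⊕ Fin m → F)

/-- E-EVEN -/
theorem even_finrank_of_nondeg (W : Submodule F V) (hW : IsNondegenerateOn ff W) : Even (finrank F W) := by
  have h := Cfsg.Agent.Lib.Helper13.even_finrank_sub_radical
    ((Cfsg.Agent.Lib.Helper15.stdSymp m F).domRestrict₁₂ W W)
    (fun x => by
      rw [LinearMap.domRestrict₁₂_apply]
      exact Cfsg.Agent.Lib.Helper15.stdSymp_alt (x : V)) ⊥ (by
      intro x
      rw [Submodule.mem_bot]
      constructor
      · rintro rfl y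
        rw [map_zero]
      · intro hx
        by_contra hne
        have hne' : (x : V) ≠ 0 := fun h0 => hne (Subtype.ext h0)
        obtain ⟨⟨y, hy, hy'⟩, -⟩ := hW x x.2 hne'
        apply hy'
        have := hx ⟨y, hy⟩
        rw [LinearMap.domRestrict₁₂_apply] at this
        exact this)
  rw [finrank_bot, Nat.sub_zero] at h
  exact h

end Cfsg.Agent.Lib.Helper1.SpCorEEVEN
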