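import Mathlib
import Cfsg.Prelude.Def_GeometricClasses
import Cfsg.Agent.Lib.Helper13.SpMax

/-!
# SpCor E-FIELD (helper1, for helper27): a self-adjoint field `K` of degree `r` with `f(kv,v) = 0` needs `r ∣ m`

A maximal `K`-invariant totally isotropic subspace `U` satisfies `U^⊥ = U` (if `v ∈ U^⊥` then `U + K v` is `K`-invariant and
totally isotropic), so `finrank_F U = m`; `U` is a vector space over the field `K`, so `r ∣ finrank_F U`.
-/

set_option autoImplicit false
set_option linter.unusedSectionVars false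
set_option linter.unusedVariables false

namespace Cfsg.Agent.Lib.Helper1.SpCorEFIELD

open Matrix Module Cfsg Cfsg.Geo
open Cfsg.Agent.Lib.Helper6 (sympForm_add_left sympForm_add_right sympForm_smul_left sympForm_smul_right
  sympForm_self sympForm_swap sympForm_zero_left sympForm_zero_right)

variable {F : Type*} [Field F] {m : ℕ}

local notation "ff" => Cfsg.sympForm m F
local notation "V" => (Fin m ⊕ Fin m → F)

/-- E-FIELD: a self-adjoint field with `f(kv,v) = 0` of degree `r` needs `r ∣ m` -/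
theorem dvd_of_selfAdjoint_field (r : ℕ) (K : Subalgebra F (Matrix (Fin m ⊕ Fin m) (Fin m ⊕ Fin m) F))
    (hK : IsFieldSubalgebra r K) (hsa : IsSelfAdjointFor ff K) (halt : ∀ k ∈ K, ∀ v, ff (k *ᵥ v) v = 0) :
    r ∣ m := by
  rcases Nat.eq_zero_or_pos m with hm0 | hm0
  · rw [hm0]; exact dvd_zero r
  haveI : Nonempty (Fin m ⊕ Fin m) := ⟨Sum.inl ⟨0, hm0⟩⟩
  -- a maximal `K`-invariant totally isotropic subspace
  obtain ⟨U, hU, hmax⟩ := WellFounded.has_min (wellFounded_gt (α := Submodule F V))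
    {U : Submodule F V | (∀ k ∈ K, ∀ u ∈ U, k *ᵥ u ∈ U) ∧ ∀ u ∈ U, ∀ v ∈ U, ff u v = 0}
    ⟨⊥, by
      refine ⟨fun k hk u hu => ?_, fun u hu v hv => ?_⟩
      · rw [Submodule.mem_bot] at hu ⊢
        rw [hu, Matrix.mulVec_zero]
      · rw [Submodule.mem_bot] at hu
        rw [hu, sympForm_zero_left]⟩
  have hUinv : ∀ k ∈ K, ∀ u ∈ U, k *ᵥ u ∈ U := hU.1
  have hU' : ∀ u ∈ U, ∀ v ∈ U, ff u v = 0 := hU.2
  -- `U^⊥ ≤ U`
  have hperp : ∀ v : V, (∀ u ∈ U, ff u v = 0) → v ∈ U := by
    intro v hv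
    let Kv : Submodule F V :=
      { carrier := {x | ∃ k ∈ K, k *ᵥ v = x}
        add_mem' := by
          rintro x y ⟨k, hk, rfl⟩ ⟨k', hk', rfl⟩
          exact ⟨k + k', K.add_mem hk hk', Matrix.add_mulVec _ _ _⟩
        zero_mem' := ⟨0, K.zero_mem, Matrix.zero_mulVec _⟩
        smul_mem' := by
          rintro c x ⟨k, hk, rfl⟩
          exact ⟨c • k, K.smul_mem hk c, Matrix.smul_mulVec _ _ _⟩ }
    have hKv : ∀ x, x ∈ Kv ↔ ∃ k ∈ K, k *ᵥ v = x := fun x => Iff.rfl
    have hmem : U ⊔ Kv ∈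
        {U : Submodule F V | (∀ k ∈ K, ∀ u ∈ U, k *ᵥ u ∈ U) ∧ ∀ u ∈ U, ∀ v ∈ U, ff u v = 0} := by
      refine ⟨?_, ?_⟩
      · intro k hk x hx
        obtain ⟨u, hu, z, hz, rfl⟩ := Submodule.mem_sup.1 hx
        obtain ⟨k₁, hk₁, rfl⟩ := (hKv z).1 hz
        rw [Matrix.mulVec_add, Matrix.mulVec_mulVec]
        exact Submodule.add_mem _ (Submodule.mem_sup_left (hUinv k hk u hu))
          (Submodule.mem_sup_right ((hKv _).2 ⟨k * k₁, K.mul_mem hk hk₁, rfl⟩))
      · intro x hx y hy
        obtain ⟨u, hu, z, hz, rfl⟩ := Submodule.mem_sup.1 hx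
        obtain ⟨k, hk, rfl⟩ := (hKv z).1 hz
        obtain ⟨u', hu', z', hz', rfl⟩ := Submodule.mem_sup.1 hy
        obtain ⟨k', hk', rfl⟩ := (hKv z').1 hz'
        rw [sympForm_add_left, sympForm_add_right, sympForm_add_right, hU' u hu u' hu']
        have h1 : ff u (k' *ᵥ v) = 0 := by
          rw [← hsa k' hk']
          exact hv _ (hUinv k' hk' u hu)
        have h2 : ff (k *ᵥ v) u' = 0 := by
          rw [hsa k hk, sympForm_swap, hv _ (hUinv k hk u' hu'), neg_zero]
        have h3 : ff (k *ᵥ v) (k' *ᵥ v) = 0 := by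
          rw [← hsa k' hk', Matrix.mulVec_mulVec]
          exact halt _ (K.mul_mem hk' hk) v
        rw [h1, h2, h3]
        ring
    have hle : U ≤ U ⊔ Kv := le_sup_left
    have hnot := hmax _ hmem
    have heq : U ⊔ Kv = U := by
      by_contra hne
      exact hnot (lt_of_le_of_ne hle (Ne.symm hne))
    rw [← heq]
    exact Submodule.mem_sup_right ((hKv v).2 ⟨1, K.one_mem, Matrix.one_mulVec v⟩)
  -- dimensions
  have hrefl : (Cfsg.Agent.Lib.Helper15.stdSymp m F).IsRefl := by
    intro x y hxy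
    rw [Cfsg.Agent.Lib.Helper15.stdSymp_apply] at hxy ⊢
    rw [sympForm_swap, hxy, neg_zero]
  have hnd : LinearMap.BilinForm.Nondegenerate (Cfsg.Agent.Lib.Helper15.stdSymp m F) :=
    (LinearMap.IsRefl.nondegenerate_iff_separatingLeft hrefl).mpr
      (fun x hx => Cfsg.Agent.Lib.Helper15.stdSymp_nondeg x hx)
  have horth : LinearMap.BilinForm.orthogonal (Cfsg.Agent.Lib.Helper15.stdSymp m F) U = U := by
    apply le_antisymm
    · intro v hv
      rw [LinearMap.BilinForm.mem_orthogonal_iff] at hv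
      exact hperp v (fun u hu => hv u hu)
    · intro v hv
      rw [LinearMap.BilinForm.mem_orthogonal_iff]
      intro u hu
      exact hU' u hu v hv
  have h1 := LinearMap.BilinForm.finrank_orthogonal hnd U
  rw [horth] at h1
  have h2 : finrank F V = 2 * m := by
    rw [Module.finrank_pi, Fintype.card_sum, Fintype.card_fin]
    ring
  have h3 : finrank F ↥U ≤ finrank F V := Submodule.finrank_le _
  have h4 : finrank F ↥U = m := by omega
  -- `U` is a vector space over the field `K`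
  have hfield : IsField ↥K :=
    { exists_pair_ne := by
        refine ⟨0, 1, ?_⟩
        intro h
        have := congrArg Subtype.val h
        exact zero_ne_one this
      mul_comm := fun a b => Subtype.ext (hK.comm a a.2 b b.2)
      mul_inv_cancel := by
        intro a ha
        have ha' : (a : Matrix (Fin m ⊕ Fin m) (Fin m ⊕ Fin m) F) ≠ 0 := fun h => ha (Subtype.ext h)
        obtain ⟨y, hy, hxy⟩ := hK.inv a a.2 ha'
        exact ⟨⟨y, hy⟩, Subtype.ext hxy⟩ }
  letI : Field ↥K := hfield.toField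
  let ρ : ↥K →+* Module.End F ↥U :=
    { toFun := fun k => (Matrix.toLin' (k : Matrix (Fin m ⊕ Fin m) (Fin m ⊕ Fin m) F)).restrict
        (fun u hu => hUinv k k.2 u hu)
      map_one' := by
        apply LinearMap.ext
        intro u
        apply Subtype.ext
        simp [LinearMap.restrict_apply]
      map_mul' := by
        intro k k'
        apply LinearMap.ext
        intro u
        apply Subtype.ext
        change ((k : Matrix (Fin m ⊕ Fin m) (Fin m ⊕ Fin m) F) * (k' : Matrix (Fin m ⊕ Fin m) (Fin m ⊕ Fin m) F)) *ᵥ (u : V) =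
          (k : Matrix (Fin m ⊕ Fin m) (Fin m ⊕ Fin m) F) *ᵥ ((k' : Matrix (Fin m ⊕ Fin m) (Fin m ⊕ Fin m) F) *ᵥ (u : V))
        rw [Matrix.mulVec_mulVec]
      map_zero' := by
        apply LinearMap.ext
        intro u
        apply Subtype.ext
        simp [LinearMap.restrict_apply]
      map_add' := by
        intro k k'
        apply LinearMap.ext
        intro u
        apply Subtype.ext
        change ((k : Matrix (Fin m ⊕ Fin m) (Fin m ⊕ Fin m) F) + (k' : Matrix (Fin m ⊕ Fin m) (Fin m ⊕ Fin m) F)) *ᵥ (u : V) =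
          (k : Matrix (Fin m ⊕ Fin m) (Fin m ⊕ Fin m) F) *ᵥ (u : V) + (k' : Matrix (Fin m ⊕ Fin m) (Fin m ⊕ Fin m) F) *ᵥ (u : V)
        rw [Matrix.add_mulVec] }
  letI : Module ↥K ↥U := Module.compHom ↥U ρ
  have htower : IsScalarTower F ↥K ↥U := by
    refine ⟨fun c a u => ?_⟩
    apply Subtype.ext
    change ((c • a : ↥K) : Matrix (Fin m ⊕ Fin m) (Fin m ⊕ Fin m) F) *ᵥ (u : V) =
      c • ((a : Matrix (Fin m ⊕ Fin m) (Fin m ⊕ Fin m) F) *ᵥ (u : V))
    rw [Subalgebra.coe_smul, Matrix.smul_mulVec]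
  have h6 := @Module.finrank_mul_finrank F ↥K ↥U _ _ _ _ _ _ htower
  rw [hK.finrank_eq, h4] at h6
  exact ⟨_, h6.symm⟩

end Cfsg.Agent.Lib.Helper1.SpCorEFIELD
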