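import Mathlib
import Cfsg.Prelude.Def_GeometricClasses
import Cfsg.Agent.Lib.Helper1.SpCorB4

/-!
# SpCor P5 with the exact signature of `notes/SpCorSkel_helper27.lean.txt` (helper1): wrapper of `SpCorB4`
-/

set_option autoImplicit false
set_option linter.unusedSectionVars false
set_option linter.unusedVariables false

namespace Cfsg.Agent.Lib.Helper1.SpCorP5

open Matrix Module Cfsg Cfsg.Geo

variable {F : Type*} [Field F] {m : ℕ}

/-- P5 -/
theorem not_sp_le_tensorProductSubgroup (n₁ n₂ : ℕ) (h1 : 2 ≤ n₁) (h2 : 2 ≤ n₂)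
    (e : (Fin m ⊕ Fin m) ≃ Fin n₁ × Fin n₂) (P : GL (Fin m ⊕ Fin m) F) :
    ¬ Cfsg.spGL m F ≤ tensorProductSubgroup n₁ n₂ e P := by
  have hm : 1 ≤ m := by
    have h := Fintype.card_congr e
    simp only [Fintype.card_sum, Fintype.card_fin, Fintype.card_prod] at h
    have : 4 ≤ n₁ * n₂ := Nat.mul_le_mul h1 h2
    omega
  exact Cfsg.Agent.Lib.Helper1.SpCorB4.not_sp_le_tensorProductSubgroup hm h1 h2 e P

end Cfsg.Agent.Lib.Helper1.SpCorP5
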