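import Mathlib

/-!
# Fibre powers over a quotient with kernel of exponent two have the same spectrum  (helper1, for S3486)

If `π : G₀ →* Q` has a non-trivial kernel of exponent `2`, the fibre powers
`G_k = {(g_i) ∈ G₀^k | π g_1 = ⋯ = π g_k}` are finite groups of unbounded order with the same set of element
orders as `G₀`.
-/

set_option autoImplicit false

namespace Cfsg.Agent.Lib.Helper1.Spec8A

variable {G₀ Q : Type} [Group G₀] [Group Q]

/-- `o(g) ∈ {m, 2m}` with `m = o(π g)` when `ker π` has exponent `2`. -/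
theorem orderOf_eq_or_two_mul [Finite G₀] (π : G₀ →* Q) (hk : ∀ x ∈ π.ker, x * x = 1) (g : G₀) :
    orderOf g = orderOf (π g) ∨ orderOf g = 2 * orderOf (π g) := by
  have hm : orderOf (π g) ∣ orderOf g := orderOf_map_dvd π g
  have hker : g ^ orderOf (π g) ∈ π.ker := by
    rw [MonoidHom.mem_ker, map_pow, pow_orderOf_eq_one]
  have h2 : g ^ (2 * orderOf (π g)) = 1 := by
    have := hk _ hker
    rw [← pow_add, ← two_mul] at this
    exact this
  have hd : orderOf g ∣ 2 * orderOf (π g) := orderOf_dvd_of_pow_eq_one h2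
  have hpos : 0 < orderOf (π g) := by
    rcases Nat.eq_zero_or_pos (orderOf (π g)) with h0 | h0
    · rw [h0, zero_dvd_iff] at hm
      exact absurd hm (orderOf_pos g).ne'
    · exact h0
  obtain ⟨t, ht⟩ := hm
  rw [ht] at hd
  have ht2 : t ∣ 2 := by
    rw [mul_comm 2 _] at hd
    exact Nat.dvd_of_mul_dvd_mul_left hpos hd
  have : t = 1 ∨ t = 2 := by
    have hle := Nat.le_of_dvd (by norm_num) ht2
    interval_cases t
    · simp at ht2
    · left; rfl
    · right; rfl
  rcases this with rfl | rfl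
  · left; rw [ht, mul_one]
  · right; rw [ht, mul_comm]

/-- the fibre power -/
def fib (π : G₀ →* Q) (k : ℕ) : Subgroup (Fin k → G₀) where
  carrier := {x | ∀ i j, π (x i) = π (x j)}
  one_mem' := fun i j => rfl
  mul_mem' := by
    intro x y hx hy i j
    simp only [Pi.mul_apply, map_mul]
    rw [hx i j, hy i j]
  inv_mem' := by
    intro x hx i j
    simp only [Pi.inv_apply, map_inv]
    rw [hx i j]

theorem mem_fib (π : G₀ →* Q) (k : ℕ) (x : Fin k → G₀) : x ∈ fib π k ↔ ∀ i j, π (x i) = π (x j) := Iff.rfl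

theorem pi_pow_eq_one_iff {k : ℕ} (x : Fin k → G₀) (n : ℕ) : x ^ n = 1 ↔ ∀ i, (x i) ^ n = 1 := by
  constructor
  · intro h i
    have := congrFun h i
    simpa using this
  · intro h
    funext i
    simpa using h i

/-- every element order of the fibre power is an element order of `G₀` -/
theorem orderOf_fib_mem [Finite G₀] (π : G₀ →* Q) (hk : ∀ x ∈ π.ker, x * x = 1) {k : ℕ} (hk0 : 0 < k)
    (x : Fin k → G₀) (hx : x ∈ fib π k) : ∃ g : G₀, orderOf g = orderOf x := by
  obtain ⟨i₀⟩ : Nonempty (Fin k) := ⟨⟨0, hk0⟩⟩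
  set m := orderOf (π (x i₀)) with hm
  have hall : ∀ i, orderOf (x i) = m ∨ orderOf (x i) = 2 * m := by
    intro i
    have := orderOf_eq_or_two_mul π hk (x i)
    rw [hx i i₀] at this
    exact this
  have hproj : ∀ i, orderOf (x i) ∣ orderOf x := by
    intro i
    have := orderOf_map_dvd (Pi.evalMonoidHom (fun _ : Fin k => G₀) i) x
    exact this
  by_cases h2 : ∃ i₁, orderOf (x i₁) = 2 * m
  · obtain ⟨i₁, hi₁⟩ := h2
    refine ⟨x i₁, ?_⟩
    apply Nat.dvd_antisymm (hproj i₁)
    apply orderOf_dvd_of_pow_eq_one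
    rw [pi_pow_eq_one_iff]
    intro i
    apply orderOf_dvd_iff_pow_eq_one.mp
    rcases hall i with h | h
    · rw [h, hi₁]; exact Dvd.intro_left 2 rfl
    · rw [h, hi₁]
  · push Not at h2
    refine ⟨x i₀, ?_⟩
    apply Nat.dvd_antisymm (hproj i₀)
    apply orderOf_dvd_of_pow_eq_one
    rw [pi_pow_eq_one_iff]
    intro i
    apply orderOf_dvd_iff_pow_eq_one.mp
    have hi : orderOf (x i) = m := (hall i).resolve_right (h2 i)
    have hi0 : orderOf (x i₀) = m := (hall i₀).resolve_right (h2 i₀)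
    rw [hi, hi0]

/-- the diagonal -/
def diag (π : G₀ →* Q) (k : ℕ) : G₀ →* fib π k where
  toFun g := ⟨fun _ => g, fun _ _ => rfl⟩
  map_one' := rfl
  map_mul' _ _ := rfl

theorem diag_injective (π : G₀ →* Q) {k : ℕ} (hk0 : 0 < k) : Function.Injective (diag π k) := by
  intro g g' h
  have := congrArg (fun y : fib π k => (y : Fin k → G₀) ⟨0, hk0⟩) h
  exact this

theorem range_orderOf_fib [Finite G₀] (π : G₀ →* Q) (hk : ∀ x ∈ π.ker, x * x = 1) {k : ℕ} (hk0 : 0 < k) :
    Set.range (orderOf : fib π k → ℕ) = Set.range (orderOf : G₀ → ℕ) := by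
  ext n
  constructor
  · rintro ⟨x, rfl⟩
    obtain ⟨g, hg⟩ := orderOf_fib_mem π hk hk0 (x : Fin k → G₀) x.2
    exact ⟨g, by rw [hg, Subgroup.orderOf_coe]⟩
  · rintro ⟨g, rfl⟩
    exact ⟨diag π k g, orderOf_injective (diag π k) (diag_injective π hk0) g⟩

/-- the fibre power contains `(ker π)^k` -/
theorem card_fib_ge [Finite G₀] (π : G₀ →* Q) (k : ℕ) : (Nat.card π.ker) ^ k ≤ Nat.card (fib π k) := by
  have hinj : Function.Injective (fun n : Fin k → π.ker => (⟨fun i => (n i : G₀), by
      intro i j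
      rw [(MonoidHom.mem_ker).mp (n i).2, (MonoidHom.mem_ker).mp (n j).2]⟩ : fib π k)) := by
    intro n n' h
    funext i
    have := congrArg (fun y : fib π k => (y : Fin k → G₀) i) h
    exact Subtype.ext this
  have h1 := Nat.card_le_card_of_injective _ hinj
  rwa [Nat.card_fun, Nat.card_fin] at h1

/-- **Fibre powers**: a finite group with a non-trivial normal subgroup of exponent two (as the kernel of a hom) has
arbitrarily large finite groups with the same spectrum. -/
theorem exists_large_same_spectrum [Finite G₀] (π : G₀ →* Q) (hk : ∀ x ∈ π.ker, x * x = 1)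
    (hnt : ∃ x ∈ π.ker, x ≠ 1) (N : ℕ) :
    ∃ (H : Type) (_ : Group H) (_ : Fintype H), N < Fintype.card H ∧
      Set.range (orderOf : H → ℕ) = Set.range (orderOf : G₀ → ℕ) := by
  have h2 : 2 ≤ Nat.card π.ker := by
    obtain ⟨x, hx, hx1⟩ := hnt
    have : 1 < Nat.card π.ker := by
      rw [Finite.one_lt_card_iff_nontrivial]
      exact ⟨⟨⟨x, hx⟩, 1, fun h => hx1 (congrArg Subtype.val h)⟩⟩
    exact this
  refine ⟨fib π (N + 1), inferInstance, Fintype.ofFinite _, ?_, ?_⟩
  · have h1 := card_fib_ge π (N + 1)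
    have h3 : N < 2 ^ (N + 1) := lt_trans Nat.lt_two_pow_self (Nat.pow_lt_pow_right (by norm_num) (Nat.lt_succ_self N))
    have h4 : 2 ^ (N + 1) ≤ (Nat.card π.ker) ^ (N + 1) := Nat.pow_le_pow_left h2 _
    have h5 : @Fintype.card (fib π (N + 1)) (Fintype.ofFinite _) = Nat.card (fib π (N + 1)) :=
      (@Nat.card_eq_fintype_card _ (Fintype.ofFinite _)).symm
    rw [h5]
    exact lt_of_lt_of_le h3 (le_trans h4 h1)
  · exact range_orderOf_fib π hk (Nat.succ_pos N)

end Cfsg.Agent.Lib.Helper1.Spec8A
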