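import Mathlib

/-!
# Cycle types in `Perm (Fin 8)`  (helper1, for S3486)

The cycle type of a permutation of 8 points is `Σ_{n=2}^{8} replicate a_n n` with `Σ n a_n ≤ 8`; order and sign are
read off the vector `(a_2,…,a_8)`, and finite statements are closed by `decide` over the 720 possible vectors.
-/

set_option autoImplicit false

namespace Cfsg.Agent.Lib.Helper1.Spec8B

open Equiv

/-- `lcm (replicate a n)` -/
def L (a n : ℕ) : ℕ := if a = 0 then 1 else n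

theorem lcm_replicate (a n : ℕ) : (Multiset.replicate a n).lcm = L a n := by
  induction a with
  | zero => simp [L]
  | succ a ih =>
    rw [Multiset.replicate_succ, Multiset.lcm_cons, ih]
    unfold L
    by_cases ha : a = 0
    · subst ha; simp
    · simp [ha]

/-- the total `lcm` of a vector -/
def LCM (a2 a3 a4 a5 a6 a7 a8 : ℕ) : ℕ :=
  Nat.lcm (L a2 2) (Nat.lcm (L a3 3) (Nat.lcm (L a4 4) (Nat.lcm (L a5 5) (Nat.lcm (L a6 6) (Nat.lcm (L a7 7) (L a8 8))))))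

/-- the multiset of a vector -/
def MS (a2 a3 a4 a5 a6 a7 a8 : ℕ) : Multiset ℕ :=
  Multiset.replicate a2 2 + (Multiset.replicate a3 3 + (Multiset.replicate a4 4 + (Multiset.replicate a5 5 +
    (Multiset.replicate a6 6 + (Multiset.replicate a7 7 + Multiset.replicate a8 8)))))

theorem lcm_MS (a2 a3 a4 a5 a6 a7 a8 : ℕ) : (MS a2 a3 a4 a5 a6 a7 a8).lcm = LCM a2 a3 a4 a5 a6 a7 a8 := by
  unfold MS LCM
  simp only [Multiset.lcm_add, lcm_replicate, lcm_eq_nat_lcm]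

theorem sum_MS (a2 a3 a4 a5 a6 a7 a8 : ℕ) :
    (MS a2 a3 a4 a5 a6 a7 a8).sum = 2 * a2 + 3 * a3 + 4 * a4 + 5 * a5 + 6 * a6 + 7 * a7 + 8 * a8 := by
  unfold MS
  simp only [Multiset.sum_add, Multiset.sum_replicate, smul_eq_mul]
  ring

theorem card_MS (a2 a3 a4 a5 a6 a7 a8 : ℕ) :
    Multiset.card (MS a2 a3 a4 a5 a6 a7 a8) = a2 + a3 + a4 + a5 + a6 + a7 + a8 := by
  unfold MS
  simp only [Multiset.card_add, Multiset.card_replicate]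
  ring

/-- a multiset of numbers `≥ 2` with sum `≤ 8` is `MS` of a small vector -/
theorem exists_vec (s : Multiset ℕ) (h2 : ∀ n ∈ s, 2 ≤ n) (hs : s.sum ≤ 8) :
    ∃ a2 a3 a4 a5 a6 a7 a8 : ℕ, a2 < 5 ∧ a3 < 3 ∧ a4 < 3 ∧ a5 < 2 ∧ a6 < 2 ∧ a7 < 2 ∧ a8 < 2 ∧
      2 * a2 + 3 * a3 + 4 * a4 + 5 * a5 + 6 * a6 + 7 * a7 + 8 * a8 ≤ 8 ∧ s = MS a2 a3 a4 a5 a6 a7 a8 := by
  have hle : ∀ n ∈ s, n ≤ 8 := fun n hn =>
    le_trans (Multiset.single_le_sum (fun _ _ => Nat.zero_le _) n hn) hs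
  obtain ⟨a2, ha2⟩ : ∃ a, a = s.count 2 := ⟨_, rfl⟩
  obtain ⟨a3, ha3⟩ : ∃ a, a = s.count 3 := ⟨_, rfl⟩
  obtain ⟨a4, ha4⟩ : ∃ a, a = s.count 4 := ⟨_, rfl⟩
  obtain ⟨a5, ha5⟩ : ∃ a, a = s.count 5 := ⟨_, rfl⟩
  obtain ⟨a6, ha6⟩ : ∃ a, a = s.count 6 := ⟨_, rfl⟩
  obtain ⟨a7, ha7⟩ : ∃ a, a = s.count 7 := ⟨_, rfl⟩
  obtain ⟨a8, ha8⟩ : ∃ a, a = s.count 8 := ⟨_, rfl⟩
  have hform : s = MS a2 a3 a4 a5 a6 a7 a8 := by
    ext m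
    unfold MS
    simp only [Multiset.count_add, Multiset.count_replicate]
    by_cases hm : m ∈ s
    · have h1 := h2 m hm
      have h3 := hle m hm
      interval_cases m <;> simp [ha2, ha3, ha4, ha5, ha6, ha7, ha8]
    · rw [Multiset.count_eq_zero_of_notMem hm]
      have key : ∀ n a : ℕ, a = s.count n → (if n = m then a else 0) = 0 := by
        intro n a ha
        by_cases h : n = m
        · subst h
          rw [if_pos rfl, ha, Multiset.count_eq_zero_of_notMem hm]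
        · rw [if_neg h]
      rw [key 2 a2 ha2, key 3 a3 ha3, key 4 a4 ha4, key 5 a5 ha5, key 6 a6 ha6, key 7 a7 ha7, key 8 a8 ha8]
  have hsum := hs
  rw [hform, sum_MS] at hsum
  exact ⟨a2, a3, a4, a5, a6, a7, a8, by omega, by omega, by omega, by omega, by omega, by omega, by omega, hsum, hform⟩

/-! ## The finite checks -/

/-- possible orders in `S₈` -/
theorem vec_order (a2 a3 a4 a5 a6 a7 a8 : ℕ) (h2 : a2 < 5) (h3 : a3 < 3) (h4 : a4 < 3) (h5 : a5 < 2) (h6 : a6 < 2)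
    (h7 : a7 < 2) (h8 : a8 < 2) (hs : 2 * a2 + 3 * a3 + 4 * a4 + 5 * a5 + 6 * a6 + 7 * a7 + 8 * a8 ≤ 8) :
    LCM a2 a3 a4 a5 a6 a7 a8 ∈ ({1, 2, 3, 4, 5, 6, 7, 8, 10, 12, 15} : Finset ℕ) := by
  have : ∀ a2 ∈ Finset.range 5, ∀ a3 ∈ Finset.range 3, ∀ a4 ∈ Finset.range 3, ∀ a5 ∈ Finset.range 2,
      ∀ a6 ∈ Finset.range 2, ∀ a7 ∈ Finset.range 2, ∀ a8 ∈ Finset.range 2,
      2 * a2 + 3 * a3 + 4 * a4 + 5 * a5 + 6 * a6 + 7 * a7 + 8 * a8 ≤ 8 →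
      LCM a2 a3 a4 a5 a6 a7 a8 ∈ ({1, 2, 3, 4, 5, 6, 7, 8, 10, 12, 15} : Finset ℕ) := by decide
  exact this a2 (Finset.mem_range.mpr h2) a3 (Finset.mem_range.mpr h3) a4 (Finset.mem_range.mpr h4)
    a5 (Finset.mem_range.mpr h5) a6 (Finset.mem_range.mpr h6) a7 (Finset.mem_range.mpr h7) a8 (Finset.mem_range.mpr h8) hs

/-- possible orders of even permutations -/
theorem vec_order_even (a2 a3 a4 a5 a6 a7 a8 : ℕ) (h2 : a2 < 5) (h3 : a3 < 3) (h4 : a4 < 3) (h5 : a5 < 2) (h6 : a6 < 2)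
    (h7 : a7 < 2) (h8 : a8 < 2) (hs : 2 * a2 + 3 * a3 + 4 * a4 + 5 * a5 + 6 * a6 + 7 * a7 + 8 * a8 ≤ 8)
    (he : (2 * a2 + 3 * a3 + 4 * a4 + 5 * a5 + 6 * a6 + 7 * a7 + 8 * a8 + (a2 + a3 + a4 + a5 + a6 + a7 + a8)) % 2 = 0) :
    LCM a2 a3 a4 a5 a6 a7 a8 ∈ ({1, 2, 3, 4, 5, 6, 7, 15} : Finset ℕ) := by
  have : ∀ a2 ∈ Finset.range 5, ∀ a3 ∈ Finset.range 3, ∀ a4 ∈ Finset.range 3, ∀ a5 ∈ Finset.range 2,
      ∀ a6 ∈ Finset.range 2, ∀ a7 ∈ Finset.range 2, ∀ a8 ∈ Finset.range 2,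
      2 * a2 + 3 * a3 + 4 * a4 + 5 * a5 + 6 * a6 + 7 * a7 + 8 * a8 ≤ 8 →
      (2 * a2 + 3 * a3 + 4 * a4 + 5 * a5 + 6 * a6 + 7 * a7 + 8 * a8 + (a2 + a3 + a4 + a5 + a6 + a7 + a8)) % 2 = 0 →
      LCM a2 a3 a4 a5 a6 a7 a8 ∈ ({1, 2, 3, 4, 5, 6, 7, 15} : Finset ℕ) := by decide
  exact this a2 (Finset.mem_range.mpr h2) a3 (Finset.mem_range.mpr h3) a4 (Finset.mem_range.mpr h4)
    a5 (Finset.mem_range.mpr h5) a6 (Finset.mem_range.mpr h6) a7 (Finset.mem_range.mpr h7) a8 (Finset.mem_range.mpr h8) hs he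

/-- order 7 forces the vector of a 7-cycle -/
theorem vec_seven (a2 a3 a4 a5 a6 a7 a8 : ℕ) (h2 : a2 < 5) (h3 : a3 < 3) (h4 : a4 < 3) (h5 : a5 < 2) (h6 : a6 < 2)
    (h7 : a7 < 2) (h8 : a8 < 2) (hs : 2 * a2 + 3 * a3 + 4 * a4 + 5 * a5 + 6 * a6 + 7 * a7 + 8 * a8 ≤ 8)
    (hl : LCM a2 a3 a4 a5 a6 a7 a8 = 7) :
    [a2, a3, a4, a5, a6, a7, a8] = [0, 0, 0, 0, 0, 1, 0] := by
  have : ∀ a2 ∈ Finset.range 5, ∀ a3 ∈ Finset.range 3, ∀ a4 ∈ Finset.range 3, ∀ a5 ∈ Finset.range 2,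
      ∀ a6 ∈ Finset.range 2, ∀ a7 ∈ Finset.range 2, ∀ a8 ∈ Finset.range 2,
      2 * a2 + 3 * a3 + 4 * a4 + 5 * a5 + 6 * a6 + 7 * a7 + 8 * a8 ≤ 8 →
      LCM a2 a3 a4 a5 a6 a7 a8 = 7 →
      [a2, a3, a4, a5, a6, a7, a8] = [0, 0, 0, 0, 0, 1, 0] := by decide
  exact this a2 (Finset.mem_range.mpr h2) a3 (Finset.mem_range.mpr h3) a4 (Finset.mem_range.mpr h4)
    a5 (Finset.mem_range.mpr h5) a6 (Finset.mem_range.mpr h6) a7 (Finset.mem_range.mpr h7) a8 (Finset.mem_range.mpr h8) hs hl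

/-- order 15 forces the vector of a `(3,5)`-element -/
theorem vec_fifteen (a2 a3 a4 a5 a6 a7 a8 : ℕ) (h2 : a2 < 5) (h3 : a3 < 3) (h4 : a4 < 3) (h5 : a5 < 2) (h6 : a6 < 2)
    (h7 : a7 < 2) (h8 : a8 < 2) (hs : 2 * a2 + 3 * a3 + 4 * a4 + 5 * a5 + 6 * a6 + 7 * a7 + 8 * a8 ≤ 8)
    (hl : LCM a2 a3 a4 a5 a6 a7 a8 = 15) :
    [a2, a3, a4, a5, a6, a7, a8] = [0, 1, 0, 1, 0, 0, 0] := by
  have : ∀ a2 ∈ Finset.range 5, ∀ a3 ∈ Finset.range 3, ∀ a4 ∈ Finset.range 3, ∀ a5 ∈ Finset.range 2,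
      ∀ a6 ∈ Finset.range 2, ∀ a7 ∈ Finset.range 2, ∀ a8 ∈ Finset.range 2,
      2 * a2 + 3 * a3 + 4 * a4 + 5 * a5 + 6 * a6 + 7 * a7 + 8 * a8 ≤ 8 →
      LCM a2 a3 a4 a5 a6 a7 a8 = 15 →
      [a2, a3, a4, a5, a6, a7, a8] = [0, 1, 0, 1, 0, 0, 0] := by decide
  exact this a2 (Finset.mem_range.mpr h2) a3 (Finset.mem_range.mpr h3) a4 (Finset.mem_range.mpr h4)
    a5 (Finset.mem_range.mpr h5) a6 (Finset.mem_range.mpr h6) a7 (Finset.mem_range.mpr h7) a8 (Finset.mem_range.mpr h8) hs hl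

/-! ## Permutations of 8 points -/

theorem exists_vec_perm (g : Perm (Fin 8)) :
    ∃ a2 a3 a4 a5 a6 a7 a8 : ℕ, a2 < 5 ∧ a3 < 3 ∧ a4 < 3 ∧ a5 < 2 ∧ a6 < 2 ∧ a7 < 2 ∧ a8 < 2 ∧
      2 * a2 + 3 * a3 + 4 * a4 + 5 * a5 + 6 * a6 + 7 * a7 + 8 * a8 ≤ 8 ∧ g.cycleType = MS a2 a3 a4 a5 a6 a7 a8 := by
  apply exists_vec g.cycleType (fun n hn => Perm.two_le_of_mem_cycleType hn)
  rw [Perm.sum_cycleType]
  exact le_trans (Finset.card_le_univ _) (by simp)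

/-- every permutation of 8 points has order in the list -/
theorem orderOf_mem (g : Perm (Fin 8)) : orderOf g ∈ ({1, 2, 3, 4, 5, 6, 7, 8, 10, 12, 15} : Finset ℕ) := by
  obtain ⟨a2, a3, a4, a5, a6, a7, a8, h2, h3, h4, h5, h6, h7, h8, hs, hf⟩ := exists_vec_perm g
  rw [← Perm.lcm_cycleType, hf, lcm_MS]
  exact vec_order a2 a3 a4 a5 a6 a7 a8 h2 h3 h4 h5 h6 h7 h8 hs

/-- every even permutation of 8 points has order in the shorter list -/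
theorem orderOf_mem_of_even (g : Perm (Fin 8)) (hg : Perm.sign g = 1) :
    orderOf g ∈ ({1, 2, 3, 4, 5, 6, 7, 15} : Finset ℕ) := by
  obtain ⟨a2, a3, a4, a5, a6, a7, a8, h2, h3, h4, h5, h6, h7, h8, hs, hf⟩ := exists_vec_perm g
  rw [← Perm.lcm_cycleType, hf, lcm_MS]
  apply vec_order_even a2 a3 a4 a5 a6 a7 a8 h2 h3 h4 h5 h6 h7 h8 hs
  rw [Perm.sign_of_cycleType, hf, sum_MS, card_MS] at hg
  by_contra hodd
  have hodd' : Odd (2 * a2 + 3 * a3 + 4 * a4 + 5 * a5 + 6 * a6 + 7 * a7 + 8 * a8 + (a2 + a3 + a4 + a5 + a6 + a7 + a8)) := by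
    rw [Nat.odd_iff]
    omega
  rw [hodd'.neg_one_pow] at hg
  exact absurd hg (by decide)

theorem cycleType_of_orderOf_seven (g : Perm (Fin 8)) (hg : orderOf g = 7) : g.cycleType = {7} := by
  obtain ⟨a2, a3, a4, a5, a6, a7, a8, h2, h3, h4, h5, h6, h7, h8, hs, hf⟩ := exists_vec_perm g
  have hl : LCM a2 a3 a4 a5 a6 a7 a8 = 7 := by rw [← lcm_MS, ← hf, Perm.lcm_cycleType, hg]
  have hv := vec_seven a2 a3 a4 a5 a6 a7 a8 h2 h3 h4 h5 h6 h7 h8 hs hl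
  simp only [List.cons.injEq, and_true] at hv
  obtain ⟨rfl, rfl, rfl, rfl, rfl, rfl, rfl⟩ := hv
  rw [hf]
  unfold MS
  simp

theorem cycleType_of_orderOf_fifteen (g : Perm (Fin 8)) (hg : orderOf g = 15) : g.cycleType = {3, 5} := by
  obtain ⟨a2, a3, a4, a5, a6, a7, a8, h2, h3, h4, h5, h6, h7, h8, hs, hf⟩ := exists_vec_perm g
  have hl : LCM a2 a3 a4 a5 a6 a7 a8 = 15 := by rw [← lcm_MS, ← hf, Perm.lcm_cycleType, hg]
  have hv := vec_fifteen a2 a3 a4 a5 a6 a7 a8 h2 h3 h4 h5 h6 h7 h8 hs hl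
  simp only [List.cons.injEq, and_true] at hv
  obtain ⟨rfl, rfl, rfl, rfl, rfl, rfl, rfl⟩ := hv
  rw [hf]
  unfold MS
  simp

end Cfsg.Agent.Lib.Helper1.Spec8B
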