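import Mathlib
import Cfsg.Agent.Lib.Helper1.Spec8A
import Cfsg.Agent.Lib.Helper1.Spec8B

/-!
# The group `2^6 : A_8` has the spectrum of `S_8`  (helper1, for S3486)

`W` = heart of the permutation module `F_2^8`, realised as the coboundaries `(i,j) ↦ u_i + u_j` (`u` of even weight)
inside the functions on ordered pairs; `G0 = W ⋊ A_8` inside `(F_2^{8×8}) ⋊ S_8`.
-/

set_option autoImplicit false

namespace Cfsg.Agent.Lib.Helper1.Spec8C

open Equiv

/-- functions on ordered pairs, written multiplicatively -/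
abbrev N1 : Type := Fin 8 × Fin 8 → Multiplicative (ZMod 2)

/-- the permutation action -/
abbrev phi1 : Perm (Fin 8) →* MulAut N1 := mulAutArrow

/-- the big semidirect product -/
abbrev Gt : Type := N1 ⋊[phi1] Perm (Fin 8)

instance instFiniteGt8 : Finite Gt := Finite.of_equiv _ SemidirectProduct.equivProd.symm

theorem phi1_apply (g : Perm (Fin 8)) (f : N1) (p : Fin 8 × Fin 8) : phi1 g f p = f (g⁻¹ p.1, g⁻¹ p.2) := rfl

/-- the coboundary of a vector -/
def dl (u : Fin 8 → ZMod 2) : N1 := fun p => Multiplicative.ofAdd (u p.1 + u p.2)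

theorem dl_apply (u : Fin 8 → ZMod 2) (p : Fin 8 × Fin 8) : dl u p = Multiplicative.ofAdd (u p.1 + u p.2) := rfl

theorem phi1_dl (g : Perm (Fin 8)) (u : Fin 8 → ZMod 2) : phi1 g (dl u) = dl (fun i => u (g⁻¹ i)) := by
  funext p
  rfl

theorem dl_mul (u v : Fin 8 → ZMod 2) : dl u * dl v = dl (u + v) := by
  funext p
  simp only [Pi.mul_apply, dl_apply, Pi.add_apply, ← ofAdd_add]
  congr 1
  ring

theorem dl_zero : dl 0 = 1 := by
  funext p
  simp [dl_apply]

theorem N1_sq (f : N1) : f * f = 1 := by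
  funext p
  simp only [Pi.mul_apply, Pi.one_apply]
  generalize f p = a
  revert a
  decide

theorem dl_inv (u : Fin 8 → ZMod 2) : (dl u)⁻¹ = dl u := by
  rw [inv_eq_iff_mul_eq_one]
  exact N1_sq _

theorem dl_eq_one_of_const (u : Fin 8 → ZMod 2) (h : ∀ i j, u i = u j) : dl u = 1 := by
  funext p
  rw [dl_apply, h p.1 p.2]
  simp only [Pi.one_apply]
  generalize u p.2 = a
  revert a
  decide

/-- the heart, as a subgroup of `N1` -/
def K : Subgroup N1 where
  carrier := {f | ∃ u : Fin 8 → ZMod 2, ∑ i, u i = 0 ∧ f = dl u}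
  one_mem' := ⟨0, by simp, dl_zero.symm⟩
  mul_mem' := by
    rintro _ _ ⟨u, hu, rfl⟩ ⟨v, hv, rfl⟩
    exact ⟨u + v, by simp [Finset.sum_add_distrib, hu, hv], dl_mul u v⟩
  inv_mem' := by
    rintro _ ⟨u, hu, rfl⟩
    exact ⟨u, hu, dl_inv u⟩

theorem mem_K (f : N1) : f ∈ K ↔ ∃ u : Fin 8 → ZMod 2, ∑ i, u i = 0 ∧ f = dl u := Iff.rfl

theorem phi1_mem_K (g : Perm (Fin 8)) (f : N1) (hf : f ∈ K) : phi1 g f ∈ K := by
  obtain ⟨u, hu, rfl⟩ := hf
  refine ⟨fun i => u (g⁻¹ i), ?_, phi1_dl g u⟩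
  rw [← hu]
  exact Equiv.sum_comp (g⁻¹ : Perm (Fin 8)) u

/-- `2^6 : A_8` -/
def G0 : Subgroup Gt where
  carrier := {x | x.left ∈ K ∧ Perm.sign x.right = 1}
  one_mem' := ⟨K.one_mem, Perm.sign_one⟩
  mul_mem' := by
    rintro x y ⟨hx1, hx2⟩ ⟨hy1, hy2⟩
    refine ⟨?_, ?_⟩
    · rw [SemidirectProduct.mul_left]
      exact K.mul_mem hx1 (phi1_mem_K _ _ hy1)
    · rw [SemidirectProduct.mul_right, Perm.sign_mul, hx2, hy2, one_mul]
  inv_mem' := by
    rintro x ⟨hx1, hx2⟩
    refine ⟨?_, ?_⟩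
    · rw [SemidirectProduct.inv_left]
      exact phi1_mem_K _ _ (K.inv_mem hx1)
    · rw [SemidirectProduct.inv_right, Perm.sign_inv, hx2]

theorem mem_G0 (x : Gt) : x ∈ G0 ↔ x.left ∈ K ∧ Perm.sign x.right = 1 := Iff.rfl

/-- the projection to `S_8` -/
def pi0 : G0 →* Perm (Fin 8) := (SemidirectProduct.rightHom).comp G0.subtype

theorem pi0_apply (x : G0) : pi0 x = (x : Gt).right := rfl

theorem ker_sq (x : G0) (hx : x ∈ pi0.ker) : x * x = 1 := by
  rw [MonoidHom.mem_ker, pi0_apply] at hx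
  apply Subtype.ext
  rw [Subgroup.coe_mul, Subgroup.coe_one]
  ext1
  · rw [SemidirectProduct.mul_left, hx, map_one, MulAut.one_apply, SemidirectProduct.one_left]
    exact N1_sq _
  · rw [SemidirectProduct.mul_right, hx, SemidirectProduct.one_right, one_mul]

/-! ## Elements over fixed-point-free permutations -/

/-- the fixed-point-freeness condition on the heart -/
def Fpf (g : Perm (Fin 8)) : Prop :=
  ∀ u : Fin 8 → ZMod 2, ∑ i, u i = 0 → ∀ c : ZMod 2, (∀ k, u (g⁻¹ k) = u k + c) → ∀ i j, u i = u j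

theorem pow_eq_one_of_fpf (x : Gt) (hx : x ∈ G0) (m : ℕ) (hm : x.right ^ m = 1) (hfix : Fpf x.right) :
    x ^ m = 1 := by
  have hy : x ^ m ∈ G0 := G0.pow_mem hx m
  have hyr : (x ^ m).right = 1 := by
    have := map_pow (SemidirectProduct.rightHom : Gt →* Perm (Fin 8)) x m
    rw [SemidirectProduct.rightHom_eq_right] at this
    rw [this, hm]
  obtain ⟨u, hu, hyl⟩ := hy.1
  have hcomm : x * x ^ m = x ^ m * x := (Commute.self_pow x m).eq
  have hl := congrArg SemidirectProduct.left hcomm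
  rw [SemidirectProduct.mul_left, SemidirectProduct.mul_left, hyr, map_one, MulAut.one_apply, mul_comm] at hl
  have hl2 : phi1 x.right (x ^ m).left = (x ^ m).left := mul_right_cancel hl
  rw [hyl, phi1_dl] at hl2
  have hpair : ∀ i j : Fin 8, u (x.right⁻¹ i) + u (x.right⁻¹ j) = u i + u j := by
    intro i j
    have := congrFun hl2 (i, j)
    rw [dl_apply, dl_apply] at this
    exact Multiplicative.ofAdd.injective this
  have hk : ∀ k, u (x.right⁻¹ k) = u k + (u 0 - u (x.right⁻¹ 0)) := by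
    intro k
    have := hpair k 0
    linear_combination this
  have hconst := hfix u hu _ hk
  ext1
  · rw [hyl, dl_eq_one_of_const u hconst]
    rfl
  · rw [hyr]
    rfl

theorem fpf_conj (σ c₀ g : Perm (Fin 8)) (hg : σ * c₀ * σ⁻¹ = g) (h0 : Fpf c₀) : Fpf g := by
  intro u hu c hk
  have hsum : ∑ i, u (σ i) = 0 := by
    rw [← hu]
    exact Equiv.sum_comp σ u
  have hk' : ∀ k, (fun i => u (σ i)) (c₀⁻¹ k) = (fun i => u (σ i)) k + c := by
    intro k
    have h1 : g⁻¹ (σ k) = σ (c₀⁻¹ k) := by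
      rw [← hg]
      simp [mul_inv_rev, Perm.mul_apply]
    have := hk (σ k)
    rw [h1] at this
    exact this
  have hc := h0 (fun i => u (σ i)) hsum c hk'
  intro i j
  have := hc (σ⁻¹ i) (σ⁻¹ j)
  simpa using this

/-- a `7`-cycle -/
def c7 : Perm (Fin 8) := List.formPerm [0, 1, 2, 3, 4, 5, 6]

/-- an element of cycle type `(5, 3)` -/
def c53 : Perm (Fin 8) := List.formPerm [0, 1, 2, 3, 4] * List.formPerm [5, 6, 7]

theorem fpf_c7 : Fpf c7 := by
  intro u hu c hk
  have h0 := hk 0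
  have h1 := hk 1
  have h2 := hk 2
  have h3 := hk 3
  have h4 := hk 4
  have h5 := hk 5
  have h6 := hk 6
  have e0 : c7⁻¹ 0 = 6 := by decide
  have e1 : c7⁻¹ 1 = 0 := by decide
  have e2 : c7⁻¹ 2 = 1 := by decide
  have e3 : c7⁻¹ 3 = 2 := by decide
  have e4 : c7⁻¹ 4 = 3 := by decide
  have e5 : c7⁻¹ 5 = 4 := by decide
  have e6 : c7⁻¹ 6 = 5 := by decide
  rw [e0] at h0
  rw [e1] at h1
  rw [e2] at h2
  rw [e3] at h3
  rw [e4] at h4
  rw [e5] at h5
  rw [e6] at h6
  rw [Fin.sum_univ_eight] at hu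
  have key : u 1 = u 0 ∧ u 2 = u 0 ∧ u 3 = u 0 ∧ u 4 = u 0 ∧ u 5 = u 0 ∧ u 6 = u 0 ∧ u 7 = u 0 := by
    generalize u 0 = a0 at *
    generalize u 1 = a1 at *
    generalize u 2 = a2 at *
    generalize u 3 = a3 at *
    generalize u 4 = a4 at *
    generalize u 5 = a5 at *
    generalize u 6 = a6 at *
    generalize u 7 = a7 at *
    clear hk
    revert a0 a1 a2 a3 a4 a5 a6 a7 c
    set_option synthInstance.maxSize 4000 in
    decide
  have hall : ∀ i, u i = u 0 := by
    intro i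
    fin_cases i
    · rfl
    · exact key.1
    · exact key.2.1
    · exact key.2.2.1
    · exact key.2.2.2.1
    · exact key.2.2.2.2.1
    · exact key.2.2.2.2.2.1
    · exact key.2.2.2.2.2.2
  intro i j
  rw [hall i, hall j]

theorem fpf_c53 : Fpf c53 := by
  intro u hu c hk
  have h0 := hk 0
  have h1 := hk 1
  have h2 := hk 2
  have h3 := hk 3
  have h4 := hk 4
  have h5 := hk 5
  have h6 := hk 6
  have h7 := hk 7
  have e0 : c53⁻¹ 0 = 4 := by decide
  have e1 : c53⁻¹ 1 = 0 := by decide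
  have e2 : c53⁻¹ 2 = 1 := by decide
  have e3 : c53⁻¹ 3 = 2 := by decide
  have e4 : c53⁻¹ 4 = 3 := by decide
  have e5 : c53⁻¹ 5 = 7 := by decide
  have e6 : c53⁻¹ 6 = 5 := by decide
  have e7 : c53⁻¹ 7 = 6 := by decide
  rw [e0] at h0
  rw [e1] at h1
  rw [e2] at h2
  rw [e3] at h3
  rw [e4] at h4
  rw [e5] at h5
  rw [e6] at h6
  rw [e7] at h7
  rw [Fin.sum_univ_eight] at hu
  have key : u 1 = u 0 ∧ u 2 = u 0 ∧ u 3 = u 0 ∧ u 4 = u 0 ∧ u 5 = u 0 ∧ u 6 = u 0 ∧ u 7 = u 0 := by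
    generalize u 0 = a0 at *
    generalize u 1 = a1 at *
    generalize u 2 = a2 at *
    generalize u 3 = a3 at *
    generalize u 4 = a4 at *
    generalize u 5 = a5 at *
    generalize u 6 = a6 at *
    generalize u 7 = a7 at *
    clear hk
    revert a0 a1 a2 a3 a4 a5 a6 a7 c
    set_option synthInstance.maxSize 4000 in
    decide
  have hall : ∀ i, u i = u 0 := by
    intro i
    fin_cases i
    · rfl
    · exact key.1
    · exact key.2.1
    · exact key.2.2.1
    · exact key.2.2.2.1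
    · exact key.2.2.2.2.1
    · exact key.2.2.2.2.2.1
    · exact key.2.2.2.2.2.2
  intro i j
  rw [hall i, hall j]

theorem cycleType_c7 : c7.cycleType = {7} := by
  have hc : c7.IsCycle := List.isCycle_formPerm (by decide) (by decide)
  rw [hc.cycleType]
  congr 1

theorem cycleType_c53 : c53.cycleType = {3, 5} := by
  have h5 : (List.formPerm [0, 1, 2, 3, 4] : Perm (Fin 8)).IsCycle := List.isCycle_formPerm (by decide) (by decide)
  have h3 : (List.formPerm [5, 6, 7] : Perm (Fin 8)).IsCycle := List.isCycle_formPerm (by decide) (by decide)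
  have hd : Perm.Disjoint (List.formPerm [0, 1, 2, 3, 4] : Perm (Fin 8)) (List.formPerm [5, 6, 7]) := by
    intro x
    revert x
    decide
  unfold c53
  rw [Perm.Disjoint.cycleType_mul hd, h5.cycleType, h3.cycleType]
  have e5 : (List.formPerm [0, 1, 2, 3, 4] : Perm (Fin 8)).support.card = 5 := by decide
  have e3 : (List.formPerm [5, 6, 7] : Perm (Fin 8)).support.card = 3 := by decide
  rw [e5, e3]
  decide

theorem fpf_of_orderOf_seven (g : Perm (Fin 8)) (hg : orderOf g = 7) : Fpf g := by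
  have hct := Spec8B.cycleType_of_orderOf_seven g hg
  have hconj : IsConj c7 g := by
    rw [Perm.isConj_iff_cycleType_eq, hct, cycleType_c7]
  obtain ⟨σ, hσ⟩ := isConj_iff.mp hconj
  exact fpf_conj σ c7 g hσ fpf_c7

theorem fpf_of_orderOf_fifteen (g : Perm (Fin 8)) (hg : orderOf g = 15) : Fpf g := by
  have hct := Spec8B.cycleType_of_orderOf_fifteen g hg
  have hconj : IsConj c53 g := by
    rw [Perm.isConj_iff_cycleType_eq, hct, cycleType_c53]
  obtain ⟨σ, hσ⟩ := isConj_iff.mp hconj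
  exact fpf_conj σ c53 g hσ fpf_c53

/-! ## The spectrum of `G0` is contained in the list -/

theorem orderOf_G0_mem (x : G0) : orderOf x ∈ ({1, 2, 3, 4, 5, 6, 7, 8, 10, 12, 15} : Finset ℕ) := by
  have h := Spec8A.orderOf_eq_or_two_mul pi0 ker_sq x
  have hev : Perm.sign (pi0 x) = 1 := x.2.2
  have hm := Spec8B.orderOf_mem_of_even (pi0 x) hev
  have hodd : ∀ m : ℕ, orderOf (pi0 x) = m → Fpf (pi0 x) → orderOf x ∣ m := by
    intro m hm hf
    apply orderOf_dvd_of_pow_eq_one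
    apply Subtype.ext
    rw [Subgroup.coe_pow, Subgroup.coe_one]
    apply pow_eq_one_of_fpf (x : Gt) x.2 m _ hf
    rw [← hm]
    exact pow_orderOf_eq_one _
  simp only [Finset.mem_insert, Finset.mem_singleton] at hm
  rcases hm with hm | hm | hm | hm | hm | hm | hm | hm
  · rw [hm] at h
    rcases h with h | h <;> rw [h] <;> decide
  · rw [hm] at h
    rcases h with h | h <;> rw [h] <;> decide
  · rw [hm] at h
    rcases h with h | h <;> rw [h] <;> decide
  · rw [hm] at h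
    rcases h with h | h <;> rw [h] <;> decide
  · rw [hm] at h
    rcases h with h | h <;> rw [h] <;> decide
  · rw [hm] at h
    rcases h with h | h <;> rw [h] <;> decide
  · have hd := hodd 7 hm (fpf_of_orderOf_seven _ hm)
    rw [hm] at h
    rcases h with h | h
    · rw [h]; decide
    · rw [h] at hd
      exact absurd hd (by decide)
  · have hd := hodd 15 hm (fpf_of_orderOf_fifteen _ hm)
    rw [hm] at h
    rcases h with h | h
    · rw [h]; decide
    · rw [h] at hd
      exact absurd hd (by decide)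

/-! ## Explicit elements -/

theorem orderOf_of_decide (σ : Perm (Fin 8)) (n : ℕ) (hn : 0 < n)
    (h : σ ^ n = 1 ∧ ∀ m < n, 0 < m → σ ^ m ≠ 1) : orderOf σ = n := (orderOf_eq_iff hn).mpr h

/-- explicit permutations -/
def p2 : Perm (Fin 8) := List.formPerm [0, 1] * List.formPerm [2, 3]
def p3 : Perm (Fin 8) := List.formPerm [0, 1, 2]
def p4 : Perm (Fin 8) := List.formPerm [0, 1, 2, 3] * List.formPerm [4, 5]
def p5 : Perm (Fin 8) := List.formPerm [0, 1, 2, 3, 4]
def p6 : Perm (Fin 8) := List.formPerm [0, 1, 2] * List.formPerm [3, 4] * List.formPerm [5, 6]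
def p8 : Perm (Fin 8) := List.formPerm [0, 1, 2, 3, 4, 5, 6, 7]
def p10 : Perm (Fin 8) := List.formPerm [0, 1, 2, 3, 4] * List.formPerm [5, 6]
def p12 : Perm (Fin 8) := List.formPerm [0, 1, 2, 3] * List.formPerm [4, 5, 6]

set_option maxRecDepth 100000 in
theorem orderOf_p2 : orderOf p2 = 2 := orderOf_of_decide _ _ (by norm_num) (by decide)
set_option maxRecDepth 100000 in
theorem orderOf_p3 : orderOf p3 = 3 := orderOf_of_decide _ _ (by norm_num) (by decide)
set_option maxRecDepth 100000 in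
theorem orderOf_p4 : orderOf p4 = 4 := orderOf_of_decide _ _ (by norm_num) (by decide)
set_option maxRecDepth 100000 in
theorem orderOf_p5 : orderOf p5 = 5 := orderOf_of_decide _ _ (by norm_num) (by decide)
set_option maxRecDepth 100000 in
theorem orderOf_p6 : orderOf p6 = 6 := orderOf_of_decide _ _ (by norm_num) (by decide)
set_option maxRecDepth 100000 in
theorem orderOf_c7 : orderOf c7 = 7 := orderOf_of_decide _ _ (by norm_num) (by decide)
set_option maxRecDepth 100000 in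
theorem orderOf_p8 : orderOf p8 = 8 := orderOf_of_decide _ _ (by norm_num) (by decide)
set_option maxRecDepth 100000 in
theorem orderOf_p10 : orderOf p10 = 10 := orderOf_of_decide _ _ (by norm_num) (by decide)
set_option maxRecDepth 100000 in
theorem orderOf_p12 : orderOf p12 = 12 := orderOf_of_decide _ _ (by norm_num) (by decide)
set_option maxRecDepth 100000 in
theorem orderOf_c53 : orderOf c53 = 15 := orderOf_of_decide _ _ (by norm_num) (by decide)

set_option maxRecDepth 100000 in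
theorem sign_p2 : Perm.sign p2 = 1 := by decide
set_option maxRecDepth 100000 in
theorem sign_p3 : Perm.sign p3 = 1 := by decide
set_option maxRecDepth 100000 in
theorem sign_p4 : Perm.sign p4 = 1 := by decide
set_option maxRecDepth 100000 in
theorem sign_p5 : Perm.sign p5 = 1 := by decide
set_option maxRecDepth 100000 in
theorem sign_p6 : Perm.sign p6 = 1 := by decide
set_option maxRecDepth 100000 in
theorem sign_c7 : Perm.sign c7 = 1 := by decide
set_option maxRecDepth 100000 in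
theorem sign_c53 : Perm.sign c53 = 1 := by decide

/-- the spectrum of `S_8` -/
theorem range_orderOf_S8 :
    Set.range (orderOf : Perm (Fin 8) → ℕ) = (↑({1, 2, 3, 4, 5, 6, 7, 8, 10, 12, 15} : Finset ℕ) : Set ℕ) := by
  ext n
  constructor
  · rintro ⟨g, rfl⟩
    exact Finset.mem_coe.mpr (Spec8B.orderOf_mem g)
  · intro hn
    simp only [Finset.coe_insert, Finset.coe_singleton, Set.mem_insert_iff, Set.mem_singleton_iff] at hn
    rcases hn with rfl | rfl | rfl | rfl | rfl | rfl | rfl | rfl | rfl | rfl | rfl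
    · exact ⟨1, orderOf_one⟩
    · exact ⟨p2, orderOf_p2⟩
    · exact ⟨p3, orderOf_p3⟩
    · exact ⟨p4, orderOf_p4⟩
    · exact ⟨p5, orderOf_p5⟩
    · exact ⟨p6, orderOf_p6⟩
    · exact ⟨c7, orderOf_c7⟩
    · exact ⟨p8, orderOf_p8⟩
    · exact ⟨p10, orderOf_p10⟩
    · exact ⟨p12, orderOf_p12⟩
    · exact ⟨c53, orderOf_c53⟩

/-- the complement `A_8` inside `G0` -/
def inrG0 (g : Perm (Fin 8)) (hg : Perm.sign g = 1) : G0 :=
  ⟨SemidirectProduct.inr g, ⟨K.one_mem, hg⟩⟩

theorem orderOf_inrG0 (g : Perm (Fin 8)) (hg : Perm.sign g = 1) : orderOf (inrG0 g hg) = orderOf g := by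
  have h : ((inrG0 g hg : G0) : Gt) = SemidirectProduct.inr g := rfl
  rw [← Subgroup.orderOf_coe, h]
  exact orderOf_injective (SemidirectProduct.inr : Perm (Fin 8) →* Gt) SemidirectProduct.inr_injective g

theorem orderOf_double (x : Gt) (hx : x ∈ G0) (m : ℕ) (hm : orderOf x.right = m) (hne : x ^ m ≠ 1) :
    orderOf (⟨x, hx⟩ : G0) = 2 * m := by
  have h := Spec8A.orderOf_eq_or_two_mul pi0 ker_sq ⟨x, hx⟩
  rw [pi0_apply] at h
  simp only at h
  rcases h with h | h
  · exfalso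
    apply hne
    rw [← hm, ← h]
    have := pow_orderOf_eq_one (⟨x, hx⟩ : G0)
    exact congrArg Subtype.val this
  · rw [h, hm]

def u8 : Fin 8 → ZMod 2 := ![1, 0, 0, 0, 0, 0, 1, 0]
def u10 : Fin 8 → ZMod 2 := ![1, 0, 0, 0, 0, 1, 0, 0]
def u12 : Fin 8 → ZMod 2 := ![1, 0, 0, 1, 0, 0, 0, 0]

def x8 : Gt := ⟨dl u8, p4⟩
def x10 : Gt := ⟨dl u10, p5⟩
def x12 : Gt := ⟨dl u12, p6⟩

theorem x8_mem : x8 ∈ G0 := ⟨⟨u8, by decide, rfl⟩, sign_p4⟩
theorem x10_mem : x10 ∈ G0 := ⟨⟨u10, by decide, rfl⟩, sign_p5⟩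
theorem x12_mem : x12 ∈ G0 := ⟨⟨u12, by decide, rfl⟩, sign_p6⟩

set_option maxRecDepth 100000 in
theorem x8_pow : x8 ^ 4 ≠ 1 := by
  intro h
  have h1 : (x8 ^ 4).left (0, 4) = 1 := by rw [h]; rfl
  revert h1
  decide

set_option maxRecDepth 100000 in
theorem x10_pow : x10 ^ 5 ≠ 1 := by
  intro h
  have h1 : (x10 ^ 5).left (0, 6) = 1 := by rw [h]; rfl
  revert h1
  decide

set_option maxRecDepth 100000 in
theorem x12_pow : x12 ^ 6 ≠ 1 := by
  intro h
  have h1 : (x12 ^ 6).left (0, 3) = 1 := by rw [h]; rfl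
  revert h1
  decide

theorem orderOf_x8 : orderOf (⟨x8, x8_mem⟩ : G0) = 8 := orderOf_double x8 x8_mem 4 orderOf_p4 x8_pow
theorem orderOf_x10 : orderOf (⟨x10, x10_mem⟩ : G0) = 10 := orderOf_double x10 x10_mem 5 orderOf_p5 x10_pow
theorem orderOf_x12 : orderOf (⟨x12, x12_mem⟩ : G0) = 12 := orderOf_double x12 x12_mem 6 orderOf_p6 x12_pow

/-- the spectrum of `2^6 : A_8` -/
theorem range_orderOf_G0 :
    Set.range (orderOf : G0 → ℕ) = (↑({1, 2, 3, 4, 5, 6, 7, 8, 10, 12, 15} : Finset ℕ) : Set ℕ) := by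
  ext n
  constructor
  · rintro ⟨g, rfl⟩
    exact Finset.mem_coe.mpr (orderOf_G0_mem g)
  · intro hn
    simp only [Finset.coe_insert, Finset.coe_singleton, Set.mem_insert_iff, Set.mem_singleton_iff] at hn
    rcases hn with rfl | rfl | rfl | rfl | rfl | rfl | rfl | rfl | rfl | rfl | rfl
    · exact ⟨1, orderOf_one⟩
    · exact ⟨inrG0 p2 sign_p2, (orderOf_inrG0 _ _).trans orderOf_p2⟩
    · exact ⟨inrG0 p3 sign_p3, (orderOf_inrG0 _ _).trans orderOf_p3⟩
    · exact ⟨inrG0 p4 sign_p4, (orderOf_inrG0 _ _).trans orderOf_p4⟩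
    · exact ⟨inrG0 p5 sign_p5, (orderOf_inrG0 _ _).trans orderOf_p5⟩
    · exact ⟨inrG0 p6 sign_p6, (orderOf_inrG0 _ _).trans orderOf_p6⟩
    · exact ⟨inrG0 c7 sign_c7, (orderOf_inrG0 _ _).trans orderOf_c7⟩
    · exact ⟨_, orderOf_x8⟩
    · exact ⟨_, orderOf_x10⟩
    · exact ⟨_, orderOf_x12⟩
    · exact ⟨inrG0 c53 sign_c53, (orderOf_inrG0 _ _).trans orderOf_c53⟩

/-- the kernel of `pi0` is non-trivial -/
theorem ker_nontrivial : ∃ x ∈ pi0.ker, x ≠ 1 := by
  refine ⟨⟨⟨dl u8, 1⟩, ⟨⟨u8, by decide, rfl⟩, Perm.sign_one⟩⟩, ?_, ?_⟩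
  · rw [MonoidHom.mem_ker, pi0_apply]
  · intro h
    have h1 : (⟨dl u8, 1⟩ : Gt) = 1 := congrArg Subtype.val h
    have h2 : dl u8 (0, 1) = 1 := by
      have := congrArg SemidirectProduct.left h1
      exact congrFun this (0, 1)
    revert h2
    decide

/-- **Arbitrarily large finite groups with the spectrum of `S_8`.** -/
theorem exists_large_spectrum_S8 (N : ℕ) :
    ∃ (H : Type) (_ : Group H) (_ : Fintype H), N < Fintype.card H ∧
      Set.range (orderOf : H → ℕ) = Set.range (orderOf : Perm (Fin 8) → ℕ) := by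
  obtain ⟨H, iG, iF, hN, hr⟩ := Spec8A.exists_large_same_spectrum pi0 ker_sq ker_nontrivial N
  exact ⟨H, iG, iF, hN, by rw [hr, range_orderOf_G0, range_orderOf_S8]⟩

end Cfsg.Agent.Lib.Helper1.Spec8C
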