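import Mathlib
import Cfsg.Prelude.Def_Transfer
import Cfsg.Agent.Lib.Helper1.Critical
import Cfsg.Agent.Lib.Helper1.ClassTwo

/-!
# Helper1 library: `G = [G, A]` with all characteristic abelian subgroups centralized ⇒ special

* `le_center_of_fixed_of_generate`, `mem_commutator_of_fixed` (norm map to the abelianization),
* `commutator_le_center_of_char_abelian_central`, `pow_mem_center_of_char_abelian_central`
  (all char abelian subgroups central ⇒ class ≤ 2 and `G/Z(G)` of exponent `p`),
* `isSpecial_of_char_abelian_fixed` (Gorenstein 5.3.7).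
-/

set_option autoImplicit false

namespace Cfsg.Agent.Lib.Helper1

open scoped commutatorElement

section SpecialOfCharAbelian

variable {G : Type*} [Group G]

/-- If the elements `g⁻¹ a(g)` generate `G` and `A` fixes the characteristic subgroup `M`
pointwise, then `M` is central. -/
theorem le_center_of_fixed_of_generate (A : Subgroup (MulAut G))
    (hGA : Subgroup.closure {x : G | ∃ g : G, ∃ a ∈ A, x = g⁻¹ * a g} = ⊤)
    (M : Subgroup G) [hM : M.Characteristic] (hfix : ∀ a ∈ A, ∀ h ∈ M, a h = h) :
    M ≤ Subgroup.center G := by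
  have hMn : M.Normal := inferInstance
  have h1 : Subgroup.closure {x : G | ∃ g : G, ∃ a ∈ A, x = g⁻¹ * a g} ≤
      Subgroup.centralizer (M : Set G) := by
    rw [Subgroup.closure_le]
    rintro _ ⟨g, a, ha, rfl⟩
    rw [SetLike.mem_coe, Subgroup.mem_centralizer_iff]
    intro m hm
    have h4 : g * m * g⁻¹ ∈ M := hMn.conj_mem m hm g
    have h5 := hfix a ha _ h4
    rw [map_mul, map_mul, hfix a ha m hm, map_inv] at h5
    have h6 : m * (g⁻¹ * a g) = g⁻¹ * (g * m * g⁻¹) * a g := by group
    rw [h6, ← h5]; group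
  rw [hGA] at h1
  intro m hm
  rw [Subgroup.mem_center_iff]
  intro g
  exact (Subgroup.mem_centralizer_iff.mp (h1 (Subgroup.mem_top g)) m hm).symm

variable [Finite G]

/-- If `G = [G, A]` for a `p'`-group `A` of automorphisms of the `p`-group `G`, every element
fixed by `A` lies in the derived subgroup. -/
theorem mem_commutator_of_fixed {p : ℕ} [Fact p.Prime] (hG : IsPGroup p G)
    (A : Subgroup (MulAut G)) (hA : Nat.Coprime (Nat.card A) p)
    (hGA : Subgroup.closure {x : G | ∃ g : G, ∃ a ∈ A, x = g⁻¹ * a g} = ⊤)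
    (x : G) (hx : ∀ a ∈ A, a x = x) : x ∈ commutator G := by
  classical
  have : Fintype A := Fintype.ofFinite A
  let θ : G →* Abelianization G := Abelianization.of
  let N : G →* Abelianization G := ∏ a : A, θ.comp ((a : MulAut G).toMonoidHom)
  have hN : ∀ y : G, N y = ∏ a : A, θ ((a : MulAut G) y) := by
    intro y
    simp only [N, MonoidHom.finsetProd_apply]
    rfl
  have hinv : ∀ b ∈ A, ∀ y : G, N (b y) = N y := by
    intro b hb y
    rw [hN, hN]
    refine Fintype.prod_equiv (Equiv.mulRight (⟨b, hb⟩ : A)) _ _ ?_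
    intro a
    simp [MulAut.mul_apply]
  have hker : N.ker = ⊤ := by
    rw [eq_top_iff, ← hGA, Subgroup.closure_le]
    rintro _ ⟨g, a, ha, rfl⟩
    rw [SetLike.mem_coe, MonoidHom.mem_ker, map_mul, map_inv, hinv a ha, inv_mul_cancel]
  have h1 : N x = 1 := MonoidHom.mem_ker.mp (hker ▸ Subgroup.mem_top x)
  have h2 : N x = θ x ^ Nat.card A := by
    rw [hN, Nat.card_eq_fintype_card, ← Finset.card_univ, ← Finset.prod_const]
    refine Finset.prod_congr rfl fun a _ => ?_
    rw [hx a a.2]
  have h3 : orderOf (θ x) ∣ Nat.card A := orderOf_dvd_of_pow_eq_one (h2 ▸ h1)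
  obtain ⟨k, hk⟩ := hG x
  have h4 : orderOf (θ x) ∣ p ^ k := by
    apply orderOf_dvd_of_pow_eq_one
    rw [← map_pow, hk, map_one]
  have h5 : orderOf (θ x) = 1 := Nat.eq_one_of_dvd_coprimes (Nat.Coprime.pow_right k hA) h3 h4
  have h6 : θ x = 1 := orderOf_eq_one_iff.mp h5
  rw [← Abelianization.ker_of]
  exact MonoidHom.mem_ker.mpr h6

/-- If every characteristic abelian subgroup of the finite `p`-group `G` is central, then `G` has
class at most two. -/
theorem commutator_le_center_of_char_abelian_central {p : ℕ} [Fact p.Prime] (hG : IsPGroup p G)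
    (hcent : ∀ M : Subgroup G, M.Characteristic → IsMulCommutative M → M ≤ Subgroup.center G) :
    commutator G ≤ Subgroup.center G := by
  obtain ⟨C, hCchar, -, hC2, hC3⟩ := exists_critical_subgroup hG
  have hZchar : (Subgroup.centralizer (C : Set G)).Characteristic := inferInstance
  have hZcomm : IsMulCommutative (Subgroup.centralizer (C : Set G)) := by
    refine ⟨⟨?_⟩⟩
    rintro ⟨x, hx⟩ ⟨y, hy⟩
    apply Subtype.ext
    exact (Subgroup.mem_centralizer_iff.mp hy x (hC3 hx))
  have hZ := hcent _ hZchar hZcomm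
  have h1 : ⁅C, (⊤ : Subgroup G)⁆ ≤ Subgroup.center G := hC2.trans (inf_le_right.trans hZ)
  have h2 : ⁅⁅C, (⊤ : Subgroup G)⁆, (⊤ : Subgroup G)⁆ = ⊥ := by
    rw [Subgroup.commutator_eq_bot_iff_le_centralizer, Subgroup.coe_top, Subgroup.centralizer_univ]
    exact h1
  have h3 : ⁅⁅(⊤ : Subgroup G), C⁆, (⊤ : Subgroup G)⁆ = ⊥ := by
    rw [Subgroup.commutator_comm ⊤ C]; exact h2
  have h4 := Subgroup.commutator_commutator_eq_bot_of_rotate h3 h2
  rw [Subgroup.commutator_eq_bot_iff_le_centralizer] at h4
  exact h4.trans hZ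

/-- If every characteristic abelian subgroup of the finite `p`-group `G` is central, then
`x ^ p` is central for every `x`. -/
theorem pow_mem_center_of_char_abelian_central {p : ℕ} [Fact p.Prime] (hG : IsPGroup p G)
    (hcent : ∀ M : Subgroup G, M.Characteristic → IsMulCommutative M → M ≤ Subgroup.center G)
    (x : G) : x ^ p ∈ Subgroup.center G := by
  classical
  have hcl := commutator_le_center_of_char_abelian_central hG hcent
  have hcc : ∀ x y : G, ⁅x, y⁆ ∈ Subgroup.center G := fun x y =>
    hcl (Subgroup.commutator_mem_commutator (Subgroup.mem_top x) (Subgroup.mem_top y))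
  have hpowc : ∀ (x y : G) (n : ℕ), ⁅x ^ n, y⁆ = ⁅x, y⁆ ^ n := fun x y n =>
    commutatorElement_pow_left ((Subgroup.mem_center_iff.mp (hcc x y)) x).symm n
  have hex : ∃ e : ℕ, ∀ x : G, x ^ p ^ e ∈ Subgroup.center G := by
    obtain ⟨k, hk⟩ := IsPGroup.iff_card.mp hG
    refine ⟨k, fun x => ?_⟩
    rw [← hk, pow_card_eq_one']
    exact one_mem _
  have hmin : ∀ {m : ℕ}, m < Nat.find hex → ¬ ∀ x : G, x ^ p ^ m ∈ Subgroup.center G :=
    fun {m} h => Nat.find_min hex h
  have hspec := Nat.find_spec hex
  set e := Nat.find hex with he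
  rcases Nat.lt_or_ge e 2 with hlt | hge
  · interval_cases e
    · have := hspec x
      rw [pow_zero, pow_one] at this
      exact pow_mem this p
    · have := hspec x
      rwa [pow_one] at this
  · exfalso
    obtain ⟨j, hj⟩ : ∃ j, e = j + 2 := ⟨e - 2, by omega⟩
    apply hmin (m := j + 1) (by omega)
    -- the subgroup generated by the p^(j+1)-th powers is characteristic abelian
    set n := p ^ (j + 1) with hn
    set T : Set G := {y | ∃ x : G, y = x ^ n} with hT
    have hchar : (Subgroup.closure T).Characteristic := by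
      rw [Subgroup.characteristic_iff_map_le]
      intro φ
      rw [MonoidHom.map_closure, Subgroup.closure_le]
      rintro _ ⟨_, ⟨x, rfl⟩, rfl⟩
      apply Subgroup.subset_closure
      exact ⟨φ x, by simp⟩
    have hcomm : IsMulCommutative (Subgroup.closure T) := by
      apply Subgroup.isMulCommutative_closure
      rintro _ ⟨x1, rfl⟩ _ ⟨x2, rfl⟩
      have h1 : ⁅x1 ^ n, x2 ^ n⁆ = 1 := by
        rw [hpowc x1 (x2 ^ n) n, ← commutatorElement_inv (x2 ^ n) x1, hpowc x2 x1 n, inv_pow,
          ← pow_mul, ← hpowc x2 x1 (n * n), inv_eq_one, commutatorElement_eq_one_iff_mul_comm]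
        have h2 : x2 ^ (n * n) ∈ Subgroup.center G := by
          have : n * n = p ^ e * p ^ j := by
            rw [hn, hj, ← pow_add, ← pow_add]; congr 1; omega
          rw [this, pow_mul]
          exact pow_mem (hspec x2) _
        exact ((Subgroup.mem_center_iff.mp h2) x1).symm
      exact commutatorElement_eq_one_iff_mul_comm.mp h1
    have hle := hcent _ hchar hcomm
    intro y
    exact hle (Subgroup.subset_closure ⟨y, rfl⟩)

/-- Gorenstein 5.3.7: a `p`-group `G = [G, A]` (`A` a `p'`-group of automorphisms centralizing all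
characteristic abelian subgroups) is special, with `Z(G) = C_G(A)`. -/
theorem isSpecial_of_char_abelian_fixed {p : ℕ} [Fact p.Prime] (hG : IsPGroup p G)
    (A : Subgroup (MulAut G)) (hA : Nat.Coprime (Nat.card A) p)
    (hGA : Subgroup.closure {x : G | ∃ g : G, ∃ a ∈ A, x = g⁻¹ * a g} = ⊤)
    (hchar : ∀ H : Subgroup G, H.Characteristic → IsMulCommutative H → ∀ a ∈ A, ∀ h ∈ H, a h = h) :
    Cfsg.IsSpecial p G ∧ (∀ g : G, (g ∈ Subgroup.center G ↔ ∀ a ∈ A, a g = g)) := by
  have hcent : ∀ M : Subgroup G, M.Characteristic → IsMulCommutative M → M ≤ Subgroup.center G :=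
    fun M hM hMc => le_center_of_fixed_of_generate A hGA M (hchar M hM hMc)
  have hcl := commutator_le_center_of_char_abelian_central hG hcent
  have hfixc : ∀ g : G, (∀ a ∈ A, a g = g) → g ∈ commutator G :=
    fun g hg => mem_commutator_of_fixed hG A hA hGA g hg
  have hcenter_fixed : ∀ g ∈ Subgroup.center G, ∀ a ∈ A, a g = g := fun g hg a ha =>
    hchar (Subgroup.center G) inferInstance inferInstance a ha g hg
  have hDZ : commutator G = Subgroup.center G :=
    le_antisymm hcl (fun z hz => hfixc z (hcenter_fixed z hz))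
  refine ⟨⟨hG, ?_, hDZ⟩, fun g => ⟨hcenter_fixed g, fun hg => hcl (hfixc g hg)⟩⟩
  apply le_antisymm
  · exact frattini_le_of_commutator_le_of_pow_mem (p := p) _ hcl
      (pow_mem_center_of_char_abelian_central hG hcent)
  · rw [← hDZ]
    exact IsPGroup.commutator_le_frattini hG

end SpecialOfCharAbelian

end Cfsg.Agent.Lib.Helper1
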