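import Mathlib
import Cfsg.Prelude.Def_TwoFusion
import Cfsg.Prelude.Def_Solvable
import Cfsg.Prelude.Def_CaseTheorems
import Cfsg.Agent.Lib.Helper9.ZStar
import Cfsg.Agent.Lib.Helper1.Cores

/-!
Strongly closed `2`-subgroups: a strongly closed `A` normalizing `H` with `O(H) = 1` and
`A ∩ H = 1` centralizes `H` (via Glauberman's `Z*`-theorem).
-/

set_option autoImplicit false

namespace Cfsg.Agent.Lib.Helper1.SClosed

open Cfsg

/-- A strongly closed subgroup of a Sylow `p`-subgroup is strongly closed in every `p`-subgroup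
containing it. -/
theorem stronglyClosed_in_pSubgroup {G : Type*} [Group G] [Finite G] {p : ℕ} [Fact p.Prime] (S : Sylow p G) {A : Subgroup G}
    (hA : IsStronglyClosed A (S : Subgroup G)) (T : Subgroup G) (hT : IsPGroup p T) (hAT : A ≤ T)
    (x : G) (hx : x ∈ A) (g : G) (hg : g * x * g⁻¹ ∈ T) : g * x * g⁻¹ ∈ A := by
  obtain ⟨Q, hTQ⟩ := hT.exists_le_sylow
  obtain ⟨h, hh⟩ := MulAction.exists_smul_eq G S Q
  have hmem : ∀ y : G, y ∈ T → h⁻¹ * y * h ∈ (S : Subgroup G) := by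
    intro y hy
    have h1 : y ∈ ((h • S : Sylow p G) : Subgroup G) := by rw [hh]; exact hTQ hy
    rw [Sylow.coe_subgroup_smul, Subgroup.mem_pointwise_smul_iff_inv_smul_mem] at h1
    simpa [MulAut.smul_def] using h1
  -- conjugation by `h⁻¹` maps `A` into `A`
  have hcA : ∀ y ∈ A, h⁻¹ * y * h ∈ A := by
    intro y hy
    have h1 := hA.2 y hy h⁻¹
    rw [inv_inv] at h1
    exact h1 (hmem y (hAT hy))
  -- hence onto `A`
  let φ : ↥A → ↥A := fun y => ⟨h⁻¹ * y.1 * h, hcA y.1 y.2⟩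
  have hφinj : Function.Injective φ := by
    intro y z hyz
    have h1 : h⁻¹ * y.1 * h = h⁻¹ * z.1 * h := congrArg Subtype.val hyz
    have h2 : y.1 = z.1 := by
      have := congrArg (fun w => h * w * h⁻¹) h1
      simpa [mul_assoc] using this
    exact Subtype.ext h2
  have hφsurj : Function.Surjective φ := Finite.injective_iff_surjective.mp hφinj
  -- the conjugate in question
  have h2 : (h⁻¹ * g) * x * (h⁻¹ * g)⁻¹ ∈ A := by
    apply hA.2 x hx
    have := hmem _ hg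
    have e : (h⁻¹ * g) * x * (h⁻¹ * g)⁻¹ = h⁻¹ * (g * x * g⁻¹) * h := by group
    rw [e]; exact this
  obtain ⟨y, hy⟩ := hφsurj ⟨_, h2⟩
  have h3 : h⁻¹ * y.1 * h = (h⁻¹ * g) * x * (h⁻¹ * g)⁻¹ := congrArg Subtype.val hy
  have h4 : y.1 = g * x * g⁻¹ := by
    have := congrArg (fun w => h * w * h⁻¹) h3
    beta_reduce at this
    have e1 : h * (h⁻¹ * y.1 * h) * h⁻¹ = y.1 := by group
    have e2 : h * ((h⁻¹ * g) * x * (h⁻¹ * g)⁻¹) * h⁻¹ = g * x * g⁻¹ := by group
    rw [e1, e2] at this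
    exact this
  rw [← h4]
  exact y.2

/-- Main lemma: `K = HA`, `H` normal with no nontrivial odd-order `K`-normal subgroup, `A` a
`2`-subgroup strongly closed in every `2`-subgroup containing it, `A ∩ H = 1`. Then `[A,H]=1`. -/
theorem centralizes_of_stronglyClosed_aux {K : Type*} [Group K] [Finite K] (H A : Subgroup K)
    [hHn : H.Normal] (hHA : H ⊔ A = ⊤) (hA2 : IsPGroup 2 A)
    (hSC : ∀ T : Subgroup K, IsPGroup 2 T → A ≤ T → ∀ x ∈ A, ∀ g : K, g * x * g⁻¹ ∈ T →
      g * x * g⁻¹ ∈ A)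
    (hO : ∀ N : Subgroup K, N.Normal → N ≤ H → Odd (Nat.card N) → N = ⊥)
    (hdisj : A ⊓ H = ⊥) : A ≤ Subgroup.centralizer (H : Set K) := by
  have h2 : Fact (Nat.Prime 2) := ⟨Nat.prime_two⟩
  by_contra hcon
  -- decomposition of elements
  have hdec : ∀ g : K, ∃ h ∈ H, ∃ a ∈ A, h * a = g := by
    intro g
    have hg : g ∈ H ⊔ A := by rw [hHA]; trivial
    exact Subgroup.mem_sup_of_normal_left.mp hg
  set C : Subgroup K := A ⊓ Subgroup.centralizer (H : Set K) with hC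
  have hCcomm : ∀ c ∈ C, ∀ h ∈ H, h * c = c * h := by
    intro c hc h hh
    exact (Subgroup.mem_centralizer_iff.mp hc.2) h hh
  have hCn : C.Normal := by
    constructor
    intro c hc g
    obtain ⟨h, hh, a, ha, rfl⟩ := hdec g
    have h1 : a * c * a⁻¹ ∈ C := by
      refine ⟨A.mul_mem (A.mul_mem ha hc.1) (A.inv_mem ha), ?_⟩
      exact (Subgroup.normal_centralizer (H := H)).conj_mem c hc.2 a
    have h2 : h * a * c * (h * a)⁻¹ = h * (a * c * a⁻¹) * h⁻¹ := by group
    rw [h2, hCcomm _ h1 h hh, mul_inv_cancel_right]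
    exact h1
  let π : K →* K ⧸ C := QuotientGroup.mk' C
  have hπ1 : ∀ x : K, π x = 1 ↔ x ∈ C := fun x => QuotientGroup.eq_one_iff x
  set Abar : Subgroup (K ⧸ C) := A.map π with hAbar
  have hAbar2 : IsPGroup 2 Abar := hA2.map π
  -- `Abar` is nontrivial
  obtain ⟨a₀, ha₀, ha₀'⟩ := SetLike.not_le_iff_exists.mp hcon
  have hnt : Nontrivial ↥Abar := by
    refine ⟨⟨⟨π a₀, Subgroup.mem_map_of_mem π ha₀⟩, 1, ?_⟩⟩
    intro h
    have h1 : π a₀ = 1 := congrArg Subtype.val h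
    exact ha₀' ((hπ1 a₀).mp h1).2
  -- central involution
  have : Nontrivial ↥(Subgroup.center ↥Abar) := hAbar2.center_nontrivial
  have hZ2 : IsPGroup 2 ↥(Subgroup.center ↥Abar) := hAbar2.to_subgroup _
  obtain ⟨k, hk⟩ := IsPGroup.iff_card.mp hZ2
  have hk0 : k ≠ 0 := by
    intro h0
    rw [h0, pow_zero] at hk
    have := (Nat.card_eq_one_iff_unique.mp hk).1
    exact not_subsingleton _ this
  have hdvd : 2 ∣ Nat.card ↥(Subgroup.center ↥Abar) := by
    rw [hk]; exact dvd_pow_self 2 hk0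
  obtain ⟨z, hz⟩ := exists_prime_orderOf_dvd_card' 2 hdvd
  obtain ⟨a, haA, haz⟩ : ∃ a ∈ A, π a = z.1.1 := by
    have := z.1.2
    obtain ⟨a, ha, h⟩ := Subgroup.mem_map.mp this
    exact ⟨a, ha, h⟩
  have hord : orderOf (π a) = 2 := by
    rw [haz, Subgroup.orderOf_coe, Subgroup.orderOf_coe]; exact hz
  have hcen : ∀ b ∈ A, π b * π a = π a * π b := by
    intro b hb
    have h1 := Subgroup.mem_center_iff.mp z.2 ⟨π b, Subgroup.mem_map_of_mem π hb⟩
    have h3 := congrArg Subtype.val h1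
    rw [haz]
    exact h3
  -- a Sylow 2-subgroup containing `Abar`
  obtain ⟨P, hP⟩ := hAbar2.exists_le_sylow
  set T : Subgroup K := (P : Subgroup (K ⧸ C)).comap π with hT
  have hT2 : IsPGroup 2 T := by
    apply P.isPGroup'.comap_of_ker_isPGroup π
    have hker : π.ker = C := QuotientGroup.ker_mk' C
    rw [hker]
    exact hA2.to_le inf_le_left
  have hAT : A ≤ T := by
    intro x hx
    exact hP (Subgroup.mem_map_of_mem π hx)
  -- conjugates of `a` lying in `A` are congruent to `a`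
  have hconjA : ∀ g : K, g * a * g⁻¹ ∈ A → π (g * a * g⁻¹) = π a := by
    intro g hg
    obtain ⟨h, hh, b, hb, rfl⟩ := hdec g
    set a' := b * a * b⁻¹ with ha'
    have ha'A : a' ∈ A := A.mul_mem (A.mul_mem hb haA) (A.inv_mem hb)
    have e1 : h * b * a * (h * b)⁻¹ = h * a' * h⁻¹ := by rw [ha']; group
    rw [e1] at hg ⊢
    have h1 : a'⁻¹ * (h * a' * h⁻¹) ∈ A ⊓ H := by
      refine ⟨A.mul_mem (A.inv_mem ha'A) hg, ?_⟩
      have e2 : a'⁻¹ * (h * a' * h⁻¹) = (a'⁻¹ * h * a'⁻¹⁻¹) * h⁻¹ := by group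
      rw [e2]
      exact H.mul_mem (hHn.conj_mem h hh a'⁻¹) (H.inv_mem hh)
    rw [hdisj, Subgroup.mem_bot] at h1
    have h2 : h * a' * h⁻¹ = a' := by
      have := congrArg (fun w => a' * w) h1
      simpa using this
    rw [h2, ha', map_mul, map_mul, hcen b hb, map_inv, mul_inv_cancel_right]
  have hiso : ∀ g' : K ⧸ C, g' * π a * g'⁻¹ ∈ P → g' * π a * g'⁻¹ = π a := by
    intro g' hg'
    obtain ⟨g, rfl⟩ : ∃ g, π g = g' := QuotientGroup.mk'_surjective C g'
    have h1 : g * a * g⁻¹ ∈ T := by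
      rw [hT, Subgroup.mem_comap, map_mul, map_mul, map_inv]
      exact hg'
    have h2 := hSC T hT2 hAT a haA g h1
    have h3 := hconjA g h2
    rw [map_mul, map_mul, map_inv] at h3
    exact h3
  have haP : π a ∈ P := hP (Subgroup.mem_map_of_mem π haA)
  have hZstar := fun g' => Cfsg.Agent.Lib.Helper9.zstar_of_weakly_closed P hord haP hiso g'
  -- the relevant odd normal subgroup
  set N' : Subgroup K := (pPrimeCore 2 (K ⧸ C) ⊓ H.map π).comap π ⊓ H with hN'
  have hpn : (pPrimeCore 2 (K ⧸ C)).Normal := Cfsg.Agent.Lib.Helper1.pPrimeCore_normal 2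
  have hHmapn : (H.map π).Normal := hHn.map π (QuotientGroup.mk'_surjective C)
  have hN'n : N'.Normal := by
    have : (pPrimeCore 2 (K ⧸ C) ⊓ H.map π).Normal := Subgroup.normal_inf_normal _ _
    have h3 : ((pPrimeCore 2 (K ⧸ C) ⊓ H.map π).comap π).Normal := this.comap π
    exact Subgroup.normal_inf_normal _ _
  have hodd : Odd (Nat.card (pPrimeCore 2 (K ⧸ C))) := by
    have := Cfsg.Agent.Lib.Helper1.pPrimeCore_coprime (G := K ⧸ C) 2
    exact Nat.Coprime.odd_of_right this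
  have hN'odd : Odd (Nat.card N') := by
    by_contra hne
    rw [Nat.not_odd_iff_even, even_iff_two_dvd] at hne
    obtain ⟨n, hn⟩ := exists_prime_orderOf_dvd_card' 2 hne
    have hn1 : π n.1 ∈ pPrimeCore 2 (K ⧸ C) := n.2.1.1
    have hpow : (π n.1) ^ Nat.card (pPrimeCore 2 (K ⧸ C)) = 1 := by
      have := pow_card_eq_one' (G := ↥(pPrimeCore 2 (K ⧸ C))) (x := ⟨π n.1, hn1⟩)
      exact congrArg Subtype.val this
    rw [← map_pow, hπ1] at hpow
    have h4 : n.1 ^ Nat.card (pPrimeCore 2 (K ⧸ C)) ∈ A ⊓ H :=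
      ⟨hpow.1, H.pow_mem n.2.2 _⟩
    rw [hdisj, Subgroup.mem_bot] at h4
    have h5 := orderOf_dvd_of_pow_eq_one h4
    rw [Subgroup.orderOf_coe, hn] at h5
    exact (Nat.not_even_iff_odd.mpr hodd) (even_iff_two_dvd.mpr h5)
  have hN'bot : N' = ⊥ := hO N' hN'n inf_le_right hN'odd
  -- conclusion: `a` centralizes `H`
  have haC : a ∈ C := by
    refine ⟨haA, ?_⟩
    refine Subgroup.mem_centralizer_iff.mpr ?_
    intro h hh
    have hx : a * h * a⁻¹ * h⁻¹ ∈ N' := by
      refine ⟨⟨?_, ?_⟩, ?_⟩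
      · have := hZstar (π h)
        simpa [map_mul, map_inv] using this
      · apply Subgroup.mem_map_of_mem
        exact H.mul_mem (hHn.conj_mem h hh a) (H.inv_mem hh)
      · exact H.mul_mem (hHn.conj_mem h hh a) (H.inv_mem hh)
    rw [hN'bot, Subgroup.mem_bot] at hx
    have := congrArg (fun w => w * h * a) hx
    simpa [mul_assoc] using this.symm
  have : π a = 1 := (hπ1 a).mpr haC
  rw [this, orderOf_one] at hord
  omega

/-- Strongly closed `A` normalizing `H` with `O(H) = 1`, `A ∩ H = 1` centralizes `H`. -/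
theorem centralizes_of_stronglyClosed {G : Type*} [Group G] [Finite G] (S : Sylow 2 G)
    (A : Subgroup G) (hA : Cfsg.IsStronglyClosed A (S : Subgroup G)) (H : Subgroup G)
    (hAH : A ≤ Subgroup.normalizer (H : Set G)) (hO : Cfsg.pPrimeCore 2 ↥H = ⊥)
    (hdisj : A ⊓ H = ⊥) : A ≤ Subgroup.centralizer (H : Set G) := by
  have h2 : Fact (Nat.Prime 2) := ⟨Nat.prime_two⟩
  set K : Subgroup G := H ⊔ A with hK
  have hHK : H ≤ K := le_sup_left
  have hAK : A ≤ K := le_sup_right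
  have hKN : K ≤ Subgroup.normalizer (H : Set G) := sup_le Subgroup.le_normalizer hAH
  have hHn : (H.subgroupOf K).Normal := Subgroup.normal_subgroupOf_of_le_normalizer hKN
  have hsup : H.subgroupOf K ⊔ A.subgroupOf K = ⊤ := by
    rw [← Subgroup.subgroupOf_sup hHK hAK, ← hK, Subgroup.subgroupOf_self]
  have hA2 : IsPGroup 2 (A.subgroupOf K) :=
    (S.isPGroup'.to_le hA.1).comap_subtype
  have hSC : ∀ T : Subgroup K, IsPGroup 2 T → A.subgroupOf K ≤ T → ∀ x ∈ A.subgroupOf K,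
      ∀ g : K, g * x * g⁻¹ ∈ T → g * x * g⁻¹ ∈ A.subgroupOf K := by
    intro T hT hAT x hx g hg
    have hT0 : IsPGroup 2 (T.map K.subtype) := hT.map _
    have hAT0 : A ≤ T.map K.subtype := by
      intro y hy
      exact ⟨⟨y, hAK hy⟩, hAT (Subgroup.mem_subgroupOf.mpr hy), rfl⟩
    have h1 := stronglyClosed_in_pSubgroup S hA (T.map K.subtype) hT0 hAT0 x.1
      (Subgroup.mem_subgroupOf.mp hx) g.1 ⟨g * x * g⁻¹, hg, by simp⟩
    rw [Subgroup.mem_subgroupOf]
    simpa using h1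
  have hO' : ∀ N : Subgroup K, N.Normal → N ≤ H.subgroupOf K → Odd (Nat.card N) → N = ⊥ := by
    intro N hNn hNH hNodd
    set N₀ : Subgroup H := (N.map K.subtype).subgroupOf H with hN₀
    have hN₀n : N₀.Normal := by
      constructor
      intro n hn h
      rw [hN₀, Subgroup.mem_subgroupOf] at hn ⊢
      obtain ⟨m, hm, hmn⟩ := hn
      refine ⟨⟨h.1, hHK h.2⟩ * m * ⟨h.1, hHK h.2⟩⁻¹, hNn.conj_mem m hm _, ?_⟩
      have hmn' : m.1 = n.1 := hmn
      simp [hmn']
    have hcard : Nat.card N₀ = Nat.card N := by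
      have hle : N.map K.subtype ≤ H := by
        rintro _ ⟨m, hm, rfl⟩
        exact Subgroup.mem_subgroupOf.mp (hNH hm)
      have e1 : Nat.card N₀ = Nat.card (N.map K.subtype) :=
        Nat.card_congr (Subgroup.subgroupOfEquivOfLe hle).toEquiv
      rw [e1]
      exact Subgroup.card_map_of_injective K.subtype_injective
    have hcop : (Nat.card N₀).Coprime 2 := by
      rw [hcard]; exact Nat.Coprime.symm (Nat.coprime_two_left.mpr hNodd)
    have hle := Cfsg.Agent.Lib.Helper1.le_pPrimeCore hN₀n hcop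
    rw [hO] at hle
    rw [eq_bot_iff]
    intro m hm
    have h1 : (⟨m.1, Subgroup.mem_subgroupOf.mp (hNH hm)⟩ : H) ∈ N₀ := by
      rw [hN₀, Subgroup.mem_subgroupOf]
      exact ⟨m, hm, rfl⟩
    have h2 := hle h1
    rw [Subgroup.mem_bot] at h2 ⊢
    have h3 : m.1 = 1 := congrArg Subtype.val h2
    exact Subtype.ext h3
  have hdisj' : A.subgroupOf K ⊓ H.subgroupOf K = ⊥ := by
    rw [eq_bot_iff]
    intro x hx
    have h1 : x.1 ∈ A ⊓ H := ⟨Subgroup.mem_subgroupOf.mp hx.1, Subgroup.mem_subgroupOf.mp hx.2⟩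
    rw [hdisj, Subgroup.mem_bot] at h1
    rw [Subgroup.mem_bot]
    exact Subtype.ext h1
  have hmain := centralizes_of_stronglyClosed_aux (H.subgroupOf K) (A.subgroupOf K) hsup hA2 hSC
    hO' hdisj'
  intro a ha
  refine Subgroup.mem_centralizer_iff.mpr ?_
  intro h hh
  have h1 : (⟨a, hAK ha⟩ : K) ∈ A.subgroupOf K := Subgroup.mem_subgroupOf.mpr ha
  have h2 := Subgroup.mem_centralizer_iff.mp (hmain h1) ⟨h, hHK hh⟩
    (Subgroup.mem_subgroupOf.mpr hh)
  exact congrArg Subtype.val h2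

end Cfsg.Agent.Lib.Helper1.SClosed
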