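import Mathlib
import Cfsg.Agent.Lib.Helper1.BaerSuzuki

set_option autoImplicit false

open Subgroup Equiv Equiv.Perm

namespace Cfsg.Agent.Lib.Helper1.SylUniq

section general
variable {G : Type*} [Group G]

/-- If `x` lies in two distinct Sylow `p`-subgroups, some `p`-subgroup `D` containing `x` has a
normalizer that is not a `p`-group. -/
theorem exists_pgroup_normalizer_not [Finite G] (p : ℕ) [Fact p.Prime] (x : G)
    (P P' : Sylow p G) (hne : P ≠ P') (hx : x ∈ P) (hx' : x ∈ P') :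
    ∃ D : Subgroup G, IsPGroup p D ∧ x ∈ D ∧ ¬ IsPGroup p (normalizer (D : Set G)) := by
  classical
  let α := {q : Sylow p G × Sylow p G // q.1 ≠ q.2 ∧ x ∈ q.1 ∧ x ∈ q.2}
  haveI : Nonempty α := ⟨⟨(P, P'), hne, hx, hx'⟩⟩
  obtain ⟨⟨⟨S, S'⟩, hSne, hxS, hxS'⟩, hmax⟩ := Finite.exists_max
    (fun q : α => Nat.card ((q.1.1 : Subgroup G) ⊓ (q.1.2 : Subgroup G) : Subgroup G))
  simp only at hSne hxS hxS' hmax
  refine ⟨(S : Subgroup G) ⊓ (S' : Subgroup G), S.2.to_le inf_le_left, ⟨hxS, hxS'⟩, ?_⟩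
  intro hN
  obtain ⟨T, hT⟩ := hN.exists_le_sylow
  have hDN : (S : Subgroup G) ⊓ (S' : Subgroup G) ≤
      normalizer (((S : Subgroup G) ⊓ (S' : Subgroup G) : Subgroup G) : Set G) := le_normalizer
  have hxT : x ∈ T := hT (hDN ⟨hxS, hxS'⟩)
  -- key: a Sylow `R` among `S`, `S'` equals `T`
  have key : ∀ R : Sylow p G, x ∈ R → (S : Subgroup G) ⊓ (S' : Subgroup G) < (R : Subgroup G) →
      (∀ R' : Sylow p G, R' ≠ R → x ∈ R' →
        Nat.card ((R' : Subgroup G) ⊓ (R : Subgroup G) : Subgroup G) ≤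
          Nat.card ((S : Subgroup G) ⊓ (S' : Subgroup G) : Subgroup G)) → T = R := by
    intro R hxR hlt hRmax
    by_contra hTR
    obtain ⟨u, huR, huN, huD⟩ :=
      exists_mem_normalizer_notMem_of_lt (R.2.isNilpotent) hlt
    have h1 := hRmax T hTR hxT
    have hle : (S : Subgroup G) ⊓ (S' : Subgroup G) ≤ (T : Subgroup G) ⊓ (R : Subgroup G) :=
      le_inf (hDN.trans hT) hlt.le
    have heq := Subgroup.eq_of_le_of_card_ge hle h1
    apply huD
    rw [heq]
    exact ⟨hT huN, huR⟩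
  have hltS : (S : Subgroup G) ⊓ (S' : Subgroup G) < (S : Subgroup G) := by
    refine lt_of_le_of_ne inf_le_left ?_
    intro h
    have hle : (S : Subgroup G) ≤ (S' : Subgroup G) := by
      rw [← h]; exact inf_le_right
    exact hSne (Sylow.ext (S.3 S'.2 hle).symm)
  have hltS' : (S : Subgroup G) ⊓ (S' : Subgroup G) < (S' : Subgroup G) := by
    refine lt_of_le_of_ne inf_le_right ?_
    intro h
    have hle : (S' : Subgroup G) ≤ (S : Subgroup G) := by
      rw [← h]; exact inf_le_left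
    exact hSne (Sylow.ext (S'.3 S.2 hle))
  have e1 : T = S := by
    apply key S hxS hltS
    intro R' hR' hxR'
    have := hmax ⟨(S, R'), fun h => hR' h.symm, hxS, hxR'⟩
    simp only at this
    rw [inf_comm]
    exact this
  have e2 : T = S' := by
    apply key S' hxS' hltS'
    intro R' hR' hxR'
    have := hmax ⟨(R', S'), hR', hxR', hxS'⟩
    simpa using this
  exact hSne (e1.symm.trans e2)

/-- A finite group whose odd-order elements are trivial is a `2`-group. -/
theorem isPGroup_two_of_odd_trivial {H : Subgroup G} [Finite H]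
    (h : ∀ g ∈ H, ∀ m : ℕ, Odd m → g ^ m = 1 → g = 1) : IsPGroup 2 H := by
  intro g
  have hpos : orderOf (g : G) ≠ 0 := by
    have : 0 < orderOf g := orderOf_pos g
    rw [← Subgroup.orderOf_coe] at this
    omega
  obtain ⟨k, m, hm, hkm⟩ := Nat.exists_eq_two_pow_mul_odd hpos
  refine ⟨k, ?_⟩
  have h1 : ((g : G) ^ 2 ^ k) ^ m = 1 := by
    rw [← pow_mul, ← hkm, pow_orderOf_eq_one]
  have h2 := h _ (pow_mem g.2 _) m hm h1
  exact Subtype.ext (by simpa using h2)

/-- Conjugation invariance of a closure from invariance of generators. -/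
theorem conj_mem_closure {T : Set G} (y : G) (hy : ∀ t ∈ T, y * t * y⁻¹ ∈ closure T) :
    ∀ h ∈ closure T, y * h * y⁻¹ ∈ closure T := by
  intro h hh
  induction hh using Subgroup.closure_induction with
  | mem t ht => exact hy t ht
  | one => simp
  | mul a b _ _ iha ihb =>
    have : y * (a * b) * y⁻¹ = (y * a * y⁻¹) * (y * b * y⁻¹) := by group
    rw [this]; exact mul_mem iha ihb
  | inv a _ iha =>
    have : y * a⁻¹ * y⁻¹ = (y * a * y⁻¹)⁻¹ := by group
    rw [this]; exact inv_mem iha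

theorem mem_normalizer_closure {T : Set G} (y : G) (hy : ∀ t ∈ T, y * t * y⁻¹ ∈ closure T)
    (hy' : ∀ t ∈ T, y⁻¹ * t * y ∈ closure T) : y ∈ normalizer ((closure T : Subgroup G) : Set G) := by
  rw [Subgroup.mem_normalizer_iff]
  intro h
  constructor
  · exact conj_mem_closure y hy h
  · intro hh
    have := conj_mem_closure (T := T) y⁻¹ (by simpa using hy') _ hh
    simpa [mul_assoc] using this

/-- A group generated by pairwise commuting involutions is a `2`-group. -/
theorem isPGroup_closure_of_comm_invol {T : Set G} (hc : ∀ s ∈ T, ∀ t ∈ T, s * t = t * s)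
    (h2 : ∀ t ∈ T, t * t = 1) : IsPGroup 2 (closure T) := by
  have hcomm := Subgroup.isMulCommutative_closure hc
  have hsq : ∀ h ∈ closure T, h * h = 1 := by
    intro h hh
    induction hh using Subgroup.closure_induction with
    | mem t ht => exact h2 t ht
    | one => simp
    | mul a b ha hb iha ihb =>
      have hab : a * b = b * a := by
        have := hcomm.is_comm.comm (⟨a, ha⟩ : closure T) ⟨b, hb⟩
        simpa using congrArg Subtype.val this
      calc a * b * (a * b) = a * (b * a) * b := by group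
        _ = a * (a * b) * b := by rw [hab]
        _ = (a * a) * (b * b) := by group
        _ = 1 := by rw [iha, ihb, one_mul]
    | inv a _ iha =>
      have : a⁻¹ * a⁻¹ = (a * a)⁻¹ := by group
      rw [this, iha, inv_one]
  intro g
  refine ⟨1, ?_⟩
  apply Subtype.ext
  have := hsq g g.2
  simpa [pow_two] using this

end general

section swaps
variable {Ω : Type*} [Fintype Ω] [DecidableEq Ω]

omit [Fintype Ω] in
/-- `x` together with a swap of two points in different `x`-orbits with the same periods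
generates a `2`-group. -/
theorem isPGroup_closure_swap (x : Perm Ω) (hx : ∃ k : ℕ, orderOf x = 2 ^ k) (a b : Ω)
    (hab : ∀ i : ℤ, (x ^ i) a ≠ b) (hper : ∀ i : ℤ, (x ^ i) a = a ↔ (x ^ i) b = b) :
    IsPGroup 2 (closure ({x, swap a b} : Set (Perm Ω))) := by
  haveI : Fact (Nat.Prime 2) := ⟨Nat.prime_two⟩
  set T : Set (Perm Ω) := {t | ∃ i : ℤ, t = swap ((x ^ i) a) ((x ^ i) b)} with hT
  have hcomm : ∀ s ∈ T, ∀ t ∈ T, s * t = t * s := by
    rintro s ⟨i, rfl⟩ t ⟨j, rfl⟩
    by_cases h : (x ^ i) a = (x ^ j) a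
    · have h1 : (x ^ (i - j)) a = a := by
        have : (x ^ (i - j)) a = (x ^ (-j)) ((x ^ i) a) := by
          rw [← Perm.mul_apply, ← zpow_add]; congr 2; ring
        rw [this, h, ← Perm.mul_apply, ← zpow_add]; simp
      have h2 := (hper _).mp h1
      have h3 : (x ^ i) b = (x ^ j) b := by
        have : (x ^ i) b = (x ^ j) ((x ^ (i - j)) b) := by
          rw [← Perm.mul_apply, ← zpow_add]; congr 2; ring
        rw [this, h2]
      rw [h, h3]
    · have h3 : (x ^ i) b ≠ (x ^ j) b := by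
        intro h3
        apply h
        have h1 : (x ^ (i - j)) b = b := by
          have : (x ^ (i - j)) b = (x ^ (-j)) ((x ^ i) b) := by
            rw [← Perm.mul_apply, ← zpow_add]; congr 2; ring
          rw [this, h3, ← Perm.mul_apply, ← zpow_add]; simp
        have h2 := (hper _).mpr h1
        have : (x ^ i) a = (x ^ j) ((x ^ (i - j)) a) := by
          rw [← Perm.mul_apply, ← zpow_add]; congr 2; ring
        rw [this, h2]
      have h4 : ∀ i j : ℤ, (x ^ i) a ≠ (x ^ j) b := by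
        intro i j h4
        apply hab (i - j)
        have : (x ^ (i - j)) a = (x ^ (-j)) ((x ^ i) a) := by
          rw [← Perm.mul_apply, ← zpow_add]; congr 2; ring
        rw [this, h4, ← Perm.mul_apply, ← zpow_add]; simp
      apply (Perm.Disjoint.commute _)
      apply disjoint_swap_swap
      simp only [List.nodup_cons, List.mem_cons, List.not_mem_nil, or_false, not_or,
        List.nodup_nil, and_true, not_false_eq_true]
      exact ⟨⟨h4 i i, h, h4 i j⟩, ⟨fun h' => h4 j i h'.symm, h3⟩, h4 j j⟩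
  have hinv : ∀ t ∈ T, t * t = 1 := by
    rintro t ⟨i, rfl⟩
    exact swap_mul_self _ _
  have hK : IsPGroup 2 (closure T) := isPGroup_closure_of_comm_invol hcomm hinv
  have hxN : x ∈ normalizer ((closure T : Subgroup (Perm Ω)) : Set (Perm Ω)) := by
    apply mem_normalizer_closure
    · rintro t ⟨i, rfl⟩
      apply Subgroup.subset_closure
      refine ⟨i + 1, ?_⟩
      rw [← swap_apply_apply, ← Perm.mul_apply, ← Perm.mul_apply, ← zpow_one_add, add_comm]
    · rintro t ⟨i, rfl⟩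
      apply Subgroup.subset_closure
      refine ⟨i - 1, ?_⟩
      have := swap_apply_apply x⁻¹ ((x ^ i) a) ((x ^ i) b)
      rw [inv_inv] at this
      rw [← this, ← Perm.mul_apply, ← Perm.mul_apply, ← zpow_neg_one, ← zpow_add]
      congr 3 <;> ring
  have hZ : IsPGroup 2 (zpowers x) := by
    obtain ⟨k, hk⟩ := hx
    apply IsPGroup.of_card (n := k)
    rw [Nat.card_zpowers, hk]
  have hsup := IsPGroup.to_sup_of_normal_right' hZ hK
    (by rw [zpowers_le]; exact hxN)
  apply hsup.to_le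
  rw [closure_le]
  rintro y (rfl | rfl)
  · exact (le_sup_left : zpowers y ≤ _) (mem_zpowers y)
  · apply (le_sup_right : closure T ≤ _)
    apply Subgroup.subset_closure
    exact ⟨0, by simp⟩

/-- If `x` lies in a unique Sylow `2`-subgroup `P`, swaps between equal-period orbits lie in `P`. -/
theorem swap_mem_of_unique (x : Perm Ω) (hx : ∃ k : ℕ, orderOf x = 2 ^ k)
    (P : Sylow 2 (Perm Ω)) (hP : ∀ P' : Sylow 2 (Perm Ω), x ∈ P' → P' = P) (a b : Ω)
    (hab : ∀ i : ℤ, (x ^ i) a ≠ b) (hper : ∀ i : ℤ, (x ^ i) a = a ↔ (x ^ i) b = b) :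
    swap a b ∈ P := by
  obtain ⟨P', hP'⟩ := (isPGroup_closure_swap x hx a b hab hper).exists_le_sylow
  have h1 : x ∈ P' := hP' (Subgroup.subset_closure (by simp))
  rw [← hP P' h1]
  exact hP' (Subgroup.subset_closure (by simp))

theorem false_of_unique_of_three (x : Perm Ω) (hx : ∃ k : ℕ, orderOf x = 2 ^ k)
    (P : Sylow 2 (Perm Ω)) (hP : ∀ P' : Sylow 2 (Perm Ω), x ∈ P' → P' = P) (a b c : Ω)
    (hbc : b ≠ c)
    (hab : ∀ i : ℤ, (x ^ i) a ≠ b) (hper : ∀ i : ℤ, (x ^ i) a = a ↔ (x ^ i) b = b)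
    (hac : ∀ i : ℤ, (x ^ i) a ≠ c) (hper' : ∀ i : ℤ, (x ^ i) a = a ↔ (x ^ i) c = c) : False := by
  have h1 := swap_mem_of_unique x hx P hP a b hab hper
  have h2 := swap_mem_of_unique x hx P hP a c hac hper'
  have h3 : swap a b * swap a c ∈ (P : Subgroup (Perm Ω)) := mul_mem h1 h2
  have hab' : a ≠ b := by have := hab 0; simpa using this
  have hac' : a ≠ c := by have := hac 0; simpa using this
  have h4 := (isThreeCycle_swap_mul_swap_same hab' hac' hbc).orderOf
  obtain ⟨k, hk⟩ := (IsPGroup.iff_orderOf.mp P.2) ⟨_, h3⟩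
  rw [Subgroup.orderOf_mk, h4] at hk
  have : 2 ∣ 3 := by
    rcases k with _ | k
    · simp at hk
    · rw [hk, pow_succ]; exact dvd_mul_left _ _
  omega

end swaps

section good
variable {Ω : Type*} [Fintype Ω] [DecidableEq Ω]

/-- cycle length (0 at fixed points) -/
def cl (x : Perm Ω) (a : Ω) : ℕ := (x.cycleOf a).support.card

/-- `x` has at most two fixed points in `O` and its nontrivial cycles inside `O` have distinct
lengths. -/
def GoodOn (x : Perm Ω) (O : Set Ω) : Prop :=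
  (∀ a ∈ O, ∀ b ∈ O, ∀ c ∈ O, x a = a → x b = b → x c = c → a = b ∨ a = c ∨ b = c) ∧
  (∀ a ∈ O, ∀ b ∈ O, x a ≠ a → x b ≠ b → cl x a = cl x b → x.SameCycle a b)

theorem GoodOn.mono {x : Perm Ω} {O O' : Set Ω} (h : GoodOn x O) (hsub : O' ⊆ O) : GoodOn x O' :=
  ⟨fun a ha b hb c hc => h.1 a (hsub ha) b (hsub hb) c (hsub hc),
    fun a ha b hb => h.2 a (hsub ha) b (hsub hb)⟩

theorem goodOn_of_sameCycle {y : Perm Ω} {B : Set Ω} (h : ∀ a ∈ B, ∀ b ∈ B, y.SameCycle a b) :
    GoodOn y B := by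
  refine ⟨?_, fun a ha b hb _ _ _ => h a ha b hb⟩
  intro a ha b hb c _ hfa _ _
  left
  obtain ⟨i, hi⟩ := h a ha b hb
  rw [← hi]
  exact (zpow_apply_eq_self_of_apply_eq_self hfa i).symm

theorem cl_two_le {x : Perm Ω} {a : Ω} (h : x a ≠ a) : 2 ≤ cl x a :=
  (isCycle_cycleOf x h).two_le_card_support

theorem cl_eq_zero {x : Perm Ω} {a : Ω} (h : x a = a) : cl x a = 0 := by
  unfold cl
  rw [(cycleOf_eq_one_iff x).mpr h]
  simp

theorem cl_eq_pow {x : Perm Ω} (hx : ∃ k : ℕ, orderOf x = 2 ^ k) {a : Ω} (h : x a ≠ a) :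
    ∃ j : ℕ, cl x a = 2 ^ j := by
  obtain ⟨k, hk⟩ := hx
  have h1 := orderOf_cycleOf_dvd_orderOf x a
  rw [(isCycle_cycleOf x h).orderOf, hk] at h1
  obtain ⟨m, _, hm⟩ := (Nat.dvd_prime_pow Nat.prime_two).mp h1
  exact ⟨m, hm⟩

theorem zpow_apply_eq_iff {x : Perm Ω} {a : Ω} (h : x a ≠ a) (i : ℤ) :
    (x ^ i) a = a ↔ (cl x a : ℤ) ∣ i := by
  have h1 := isCycleOn_support_cycleOf x a
  have h2 : a ∈ (x.cycleOf a).support := by
    rw [mem_support_cycleOf_iff' h]
  exact h1.zpow_apply_eq h2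

theorem zpow_mem_of_invariant {x : Perm Ω} {O : Set Ω} (hinv : ∀ a ∈ O, x a ∈ O) {a : Ω}
    (ha : a ∈ O) (i : ℤ) : (x ^ i) a ∈ O := by
  have hnat : ∀ n : ℕ, (x ^ n) a ∈ O := by
    intro n
    induction n with
    | zero => simpa using ha
    | succ n ih =>
      rw [pow_succ', Perm.mul_apply]
      exact hinv _ ih
  have hpos : 0 < orderOf x := orderOf_pos x
  rw [← zpow_mod_orderOf]
  have h0 : 0 ≤ i % (orderOf x : ℤ) := Int.emod_nonneg _ (by exact_mod_cast hpos.ne')
  obtain ⟨n, hn⟩ := Int.eq_ofNat_of_zero_le h0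
  rw [hn, zpow_natCast]
  exact hnat n

theorem sameCycle_mem {x : Perm Ω} {O : Set Ω} (hinv : ∀ a ∈ O, x a ∈ O) {a b : Ω}
    (ha : a ∈ O) (h : x.SameCycle a b) : b ∈ O := by
  obtain ⟨i, rfl⟩ := h
  exact zpow_mem_of_invariant hinv ha i

theorem sum_two_pow (e : ℕ) : ∑ j ∈ Finset.range e, 2 ^ j + 1 = 2 ^ e := by
  induction e with
  | zero => simp
  | succ e ih => rw [Finset.sum_range_succ, pow_succ]; omega

/-- An `x`-invariant set of `2`-power size on which `x` is good is a single `x`-orbit or contains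
two fixed points of `x`. -/
theorem sameCycle_or_two_fixed (x : Perm Ω) (hx : ∃ k : ℕ, orderOf x = 2 ^ k) (O : Set Ω)
    (hinv : ∀ a ∈ O, x a ∈ O) (e : ℕ) (hcard : O.ncard = 2 ^ e) (hgood : GoodOn x O) :
    (∀ a ∈ O, ∀ b ∈ O, x.SameCycle a b) ∨ (∃ a ∈ O, ∃ b ∈ O, a ≠ b ∧ x a = a ∧ x b = b) := by
  classical
  by_contra hcon
  push Not at hcon
  obtain ⟨⟨a₀, ha₀, b₀, hb₀, hab₀⟩, hfix⟩ := hcon
  set s : Finset Ω := O.toFinset with hs
  have hsO : ∀ a, a ∈ s ↔ a ∈ O := fun a => Set.mem_toFinset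
  have hscard : s.card = 2 ^ e := by
    rw [← hcard, Set.ncard_eq_toFinset_card']
  have hne : a₀ ≠ b₀ := by
    rintro rfl
    exact hab₀ (SameCycle.refl _ _)
  have he : 0 < e := by
    rcases Nat.eq_zero_or_pos e with h | h
    · exfalso
      rw [h, pow_zero] at hscard
      have := Finset.card_le_one.mp hscard.le a₀ ((hsO _).mpr ha₀) b₀ ((hsO _).mpr hb₀)
      exact hne this
    · exact h
  set f : Ω → ℕ := fun a => if x a = a then 1 else cl x a with hf
  set t : Finset ℕ := (Finset.range e).image (fun j => 2 ^ j) with ht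
  have hmaps : Set.MapsTo f ↑s ↑t := by
    intro a ha
    have haO : a ∈ O := (hsO a).mp ha
    simp only [hf, ht, Finset.coe_image, Finset.coe_range, Set.mem_image, Set.mem_Iio]
    by_cases hfa : x a = a
    · exact ⟨0, he, by simp [hfa]⟩
    · obtain ⟨j, hj⟩ := cl_eq_pow hx hfa
      refine ⟨j, ?_, by simp [hfa, hj]⟩
      -- the cycle of `a` is a proper subset of `O`
      have hsub : (x.cycleOf a).support ⊆ s := by
        intro c hc
        rw [mem_support_cycleOf_iff' hfa] at hc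
        exact (hsO c).mpr (sameCycle_mem hinv haO hc)
      have hne' : (x.cycleOf a).support ≠ s := by
        intro heq
        apply hab₀
        have h1 : a₀ ∈ (x.cycleOf a).support := by rw [heq]; exact (hsO _).mpr ha₀
        have h2 : b₀ ∈ (x.cycleOf a).support := by rw [heq]; exact (hsO _).mpr hb₀
        rw [mem_support_cycleOf_iff' hfa] at h1 h2
        exact h1.symm.trans h2
      have hlt := Finset.card_lt_card (Finset.ssubset_iff_subset_ne.mpr ⟨hsub, hne'⟩)
      have : cl x a < 2 ^ e := by rw [← hscard]; exact hlt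
      rw [hj] at this
      exact (Nat.pow_lt_pow_iff_right (by norm_num)).mp this
  have hfib : ∀ b ∈ t, (s.filter (fun a => f a = b)).card ≤ b := by
    intro b _
    by_cases hb1 : b = 1
    · rw [hb1]
      apply Finset.card_le_one.mpr
      intro a ha c hc
      rw [Finset.mem_filter] at ha hc
      have hfa : x a = a := by
        by_contra hfa
        have := ha.2
        simp only [hf, if_neg hfa] at this
        have h2 := cl_two_le hfa
        omega
      have hfc : x c = c := by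
        by_contra hfc
        have := hc.2
        simp only [hf, if_neg hfc] at this
        have h2 := cl_two_le hfc
        omega
      by_contra hac
      exact hfix a ((hsO a).mp ha.1) c ((hsO c).mp hc.1) hac hfa hfc
    · rcases Finset.eq_empty_or_nonempty (s.filter (fun a => f a = b)) with h | ⟨a, ha⟩
      · rw [h]; simp
      · rw [Finset.mem_filter] at ha
        have hfa : x a ≠ a := by
          intro hfa
          have := ha.2
          simp only [hf, if_pos hfa] at this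
          exact hb1 this.symm
        have hcla : cl x a = b := by
          have := ha.2
          simpa only [hf, if_neg hfa] using this
        have hsub : s.filter (fun a => f a = b) ⊆ (x.cycleOf a).support := by
          intro c hc
          rw [Finset.mem_filter] at hc
          have hfc : x c ≠ c := by
            intro hfc
            have := hc.2
            simp only [hf, if_pos hfc] at this
            exact hb1 this.symm
          have hclc : cl x c = b := by
            have := hc.2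
            simpa only [hf, if_neg hfc] using this
          rw [mem_support_cycleOf_iff' hfa]
          exact hgood.2 a ((hsO a).mp ha.1) c ((hsO c).mp hc.1) hfa hfc (hcla.trans hclc.symm)
        calc (s.filter (fun a => f a = b)).card ≤ (x.cycleOf a).support.card :=
              Finset.card_le_card hsub
          _ = b := hcla
  have h1 := Finset.card_eq_sum_card_fiberwise hmaps
  have h2 : ∑ b ∈ t, (s.filter (fun a => f a = b)).card ≤ ∑ b ∈ t, b :=
    Finset.sum_le_sum hfib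
  have h3 : ∑ b ∈ t, b = ∑ j ∈ Finset.range e, 2 ^ j := by
    rw [ht, Finset.sum_image]
    intro i _ j _ hij
    exact Nat.pow_right_injective (le_refl 2) hij
  have h4 := sum_two_pow e
  omega

end good

section orbits
variable {Ω : Type*} [Fintype Ω] [DecidableEq Ω]

/-- orbit of a subgroup of `Perm Ω`, as a set -/
def orbS (H : Subgroup (Perm Ω)) (α : Ω) : Set Ω := {β | ∃ h ∈ H, h α = β}

omit [Fintype Ω] [DecidableEq Ω] in
theorem mem_orbS_self (H : Subgroup (Perm Ω)) (α : Ω) : α ∈ orbS H α := ⟨1, one_mem _, rfl⟩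

omit [Fintype Ω] [DecidableEq Ω] in
theorem orbS_eq_of_mem {H : Subgroup (Perm Ω)} {α β : Ω} (h : β ∈ orbS H α) :
    orbS H β = orbS H α := by
  obtain ⟨h₀, hh₀, rfl⟩ := h
  ext γ
  constructor
  · rintro ⟨h, hh, rfl⟩
    exact ⟨h * h₀, mul_mem hh hh₀, rfl⟩
  · rintro ⟨h, hh, rfl⟩
    exact ⟨h * h₀⁻¹, mul_mem hh (inv_mem hh₀), by simp⟩

omit [Fintype Ω] [DecidableEq Ω] in
theorem orbS_mono {H K : Subgroup (Perm Ω)} (h : H ≤ K) (α : Ω) : orbS H α ⊆ orbS K α := by
  rintro β ⟨y, hy, rfl⟩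
  exact ⟨y, h hy, rfl⟩

omit [Fintype Ω] [DecidableEq Ω] in
theorem orbS_eq_orbit (H : Subgroup (Perm Ω)) (α : Ω) : orbS H α = MulAction.orbit ↥H α := by
  ext β
  constructor
  · rintro ⟨y, hy, rfl⟩
    exact ⟨⟨y, hy⟩, rfl⟩
  · rintro ⟨y, rfl⟩
    exact ⟨y.1, y.2, rfl⟩

omit [DecidableEq Ω] in
theorem ncard_orbS_pow {H : Subgroup (Perm Ω)} (hH : IsPGroup 2 H) (α : Ω) :
    ∃ e : ℕ, (orbS H α).ncard = 2 ^ e := by
  haveI : Fact (Nat.Prime 2) := ⟨Nat.prime_two⟩
  obtain ⟨e, he⟩ := hH.card_orbit α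
  refine ⟨e, ?_⟩
  rw [orbS_eq_orbit, ← he]
  rfl

omit [Fintype Ω] [DecidableEq Ω] in
theorem orbS_invariant {H : Subgroup (Perm Ω)} {x : Perm Ω} (hx : x ∈ H) {α : Ω} :
    ∀ a ∈ orbS H α, x a ∈ orbS H α := by
  rintro a ⟨y, hy, rfl⟩
  exact ⟨x * y, mul_mem hx hy, rfl⟩

/-- `M` is a subgroup of index two in `D`. -/
structure IsHalf (M D : Subgroup (Perm Ω)) : Prop where
  le : M ≤ D
  mul_mem_iff : ∀ a ∈ D, ∀ b ∈ D, a * b ∈ M ↔ (a ∈ M ↔ b ∈ M)
  ne : ∃ d ∈ D, d ∉ M

omit [Fintype Ω] [DecidableEq Ω] in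
theorem IsHalf.conj_mem {M D : Subgroup (Perm Ω)} (h : IsHalf M D) {d m : Perm Ω} (hd : d ∈ D)
    (hm : m ∈ M) : d * m * d⁻¹ ∈ M := by
  rw [h.mul_mem_iff _ (mul_mem hd (h.le hm)) _ (inv_mem hd), h.mul_mem_iff _ hd _ (h.le hm),
    inv_mem_iff]
  simp [hm]

omit [Fintype Ω] [DecidableEq Ω] in
theorem IsHalf.mul_self_mem {M D : Subgroup (Perm Ω)} (h : IsHalf M D) {d : Perm Ω} (hd : d ∈ D) :
    d * d ∈ M := by
  rw [h.mul_mem_iff _ hd _ hd]

omit [Fintype Ω] [DecidableEq Ω] in
theorem IsHalf.mul_inv_mem {M D : Subgroup (Perm Ω)} (h : IsHalf M D) {a b : Perm Ω} (ha : a ∈ D)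
    (hb : b ∈ D) (ha' : a ∉ M) (hb' : b ∉ M) : a * b⁻¹ ∈ M := by
  rw [h.mul_mem_iff _ ha _ (inv_mem hb), inv_mem_iff]
  simp [ha', hb']

/-- existence of an index two subgroup over a proper subgroup of a finite 2-group -/
theorem exists_isHalf {D S : Subgroup (Perm Ω)} (hD : IsPGroup 2 D) (hSD : S ≤ D)
    (hne : ∃ d ∈ D, d ∉ S) : ∃ M : Subgroup (Perm Ω), IsHalf M D ∧ S ≤ M := by
  haveI : Fact (Nat.Prime 2) := ⟨Nat.prime_two⟩
  obtain ⟨e, he⟩ := IsPGroup.iff_card.mp hD
  have hS' : IsPGroup 2 (S.subgroupOf D) := hD.to_subgroup _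
  obtain ⟨n, hn⟩ := IsPGroup.iff_card.mp hS'
  have hlt : n < e := by
    have h1 : Nat.card (S.subgroupOf D) < Nat.card D := by
      have hlt : S.subgroupOf D < ⊤ := by
        rw [lt_top_iff_ne_top, Ne, Subgroup.subgroupOf_eq_top]
        intro hle
        obtain ⟨d, hd, hdS⟩ := hne
        exact hdS (hle hd)
      have h2 : Nat.card (S.subgroupOf D) ∣ Nat.card D := Subgroup.card_subgroup_dvd_card _
      have h3 := Nat.le_of_dvd Nat.card_pos h2
      rcases lt_or_eq_of_le h3 with h | h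
      · exact h
      · exfalso
        exact hlt.ne (Subgroup.eq_top_of_card_eq _ h)
    rw [hn, he] at h1
    exact (Nat.pow_lt_pow_iff_right (by norm_num)).mp h1
  obtain ⟨K, hKcard, hSK⟩ := Sylow.exists_subgroup_card_pow_prime_le 2 (m := e - 1)
    (by rw [he]; exact pow_dvd_pow 2 (by omega)) (S.subgroupOf D) hn (by omega)
  have hidx : K.index = 2 := by
    have h1 := K.card_mul_index
    rw [hKcard, he] at h1
    have h2 : (2 : ℕ) ^ e = 2 ^ (e - 1) * 2 := by
      rw [← pow_succ]; congr 1; omega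
    rw [h2] at h1
    exact Nat.eq_of_mul_eq_mul_left (by positivity) h1
  have hmem : ∀ y : Perm Ω, y ∈ K.map D.subtype ↔ ∃ h : y ∈ D, (⟨y, h⟩ : D) ∈ K := by
    intro y
    rw [Subgroup.mem_map]
    constructor
    · rintro ⟨z, hz, rfl⟩
      exact ⟨z.2, hz⟩
    · rintro ⟨h, hy⟩
      exact ⟨⟨y, h⟩, hy, rfl⟩
  refine ⟨K.map D.subtype, ⟨?_, ?_, ?_⟩, ?_⟩
  · intro y hy
    exact ((hmem y).mp hy).1
  · intro a ha b hb
    have h1 := Subgroup.mul_mem_iff_of_index_two hidx (a := (⟨a, ha⟩ : D)) (b := ⟨b, hb⟩)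
    rw [hmem, hmem, hmem]
    constructor
    · rintro ⟨_, h⟩
      have := h1.mp h
      constructor
      · rintro ⟨_, h'⟩; exact ⟨hb, this.mp h'⟩
      · rintro ⟨_, h'⟩; exact ⟨ha, this.mpr h'⟩
    · intro h
      refine ⟨mul_mem ha hb, h1.mpr ?_⟩
      constructor
      · intro h'; exact (h.mp ⟨ha, h'⟩).2
      · intro h'; exact (h.mpr ⟨hb, h'⟩).2
  · by_contra hcon
    push Not at hcon
    have : K = ⊤ := by
      rw [eq_top_iff]
      intro y _
      obtain ⟨_, h⟩ := (hmem y.1).mp (hcon y.1 y.2)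
      exact h
    rw [this, Subgroup.index_top] at hidx
    omega
  · intro y hy
    rw [hmem]
    exact ⟨hSD hy, hSK (Subgroup.mem_subgroupOf.mpr hy)⟩

omit [Fintype Ω] [DecidableEq Ω] in
theorem card_lt_of_isHalf {M D : Subgroup (Perm Ω)} [Finite D] (h : IsHalf M D) :
    Nat.card M < Nat.card D := by
  have h1 : Nat.card M = Nat.card (M.subgroupOf D) :=
    Nat.card_congr (Subgroup.subgroupOfEquivOfLe h.le).symm.toEquiv
  have hlt : M.subgroupOf D < ⊤ := by
    rw [lt_top_iff_ne_top, Ne, Subgroup.subgroupOf_eq_top]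
    intro hle
    obtain ⟨d, hd, hdS⟩ := h.ne
    exact hdS (hle hd)
  have h2 : Nat.card (M.subgroupOf D) ∣ Nat.card D := Subgroup.card_subgroup_dvd_card _
  have h3 := Nat.le_of_dvd Nat.card_pos h2
  rw [h1]
  rcases lt_or_eq_of_le h3 with h | h
  · exact h
  · exfalso
    exact hlt.ne (Subgroup.eq_top_of_card_eq _ h)

section half
variable {M D : Subgroup (Perm Ω)} (hM : IsHalf M D) (α : Ω)
  (hS : ∀ d ∈ D, d α = α → d ∈ M)
include hM hS

omit [Fintype Ω] [DecidableEq Ω] in
/-- stabilizers of all points of the orbit lie in `M` -/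
theorem IsHalf.stab_mem {β : Ω} (hβ : β ∈ orbS D α) {d : Perm Ω} (hd : d ∈ D) (hdβ : d β = β) :
    d ∈ M := by
  obtain ⟨y, hy, rfl⟩ := hβ
  have h1 : y⁻¹ * d * y ∈ M := by
    apply hS _ (mul_mem (mul_mem (inv_mem hy) hd) hy)
    simp [hdβ]
  have h2 := hM.conj_mem hy h1
  simpa [mul_assoc] using h2

omit [Fintype Ω] [DecidableEq Ω] in
theorem IsHalf.orbS_union {d : Perm Ω} (hd : d ∈ D) (hdM : d ∉ M) :
    orbS D α = orbS M α ∪ orbS M (d α) := by
  ext β
  constructor
  · rintro ⟨y, hy, rfl⟩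
    by_cases hyM : y ∈ M
    · left; exact ⟨y, hyM, rfl⟩
    · right
      exact ⟨y * d⁻¹, hM.mul_inv_mem hy hd hyM hdM, by simp⟩
  · rintro (⟨y, hy, rfl⟩ | ⟨y, hy, rfl⟩)
    · exact ⟨y, hM.le hy, rfl⟩
    · exact ⟨y * d, mul_mem (hM.le hy) hd, rfl⟩

omit [Fintype Ω] [DecidableEq Ω] in
theorem IsHalf.orbS_disjoint {d : Perm Ω} (hd : d ∈ D) (hdM : d ∉ M) :
    Disjoint (orbS M α) (orbS M (d α)) := by
  rw [Set.disjoint_left]
  rintro β ⟨y, hy, rfl⟩ ⟨y', hy', h⟩
  apply hdM
  have h1 : y⁻¹ * y' * d ∈ M := by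
    apply hS _ (mul_mem (mul_mem (inv_mem (hM.le hy)) (hM.le hy')) hd)
    simp only [Perm.mul_apply] at h ⊢
    rw [h]; simp
  have h2 : d = (y'⁻¹ * y) * (y⁻¹ * y' * d) := by group
  rw [h2]
  exact mul_mem (mul_mem (inv_mem hy') hy) h1

omit [Fintype Ω] [DecidableEq Ω] in
theorem IsHalf.orbS_image {d : Perm Ω} (hd : d ∈ D) :
    orbS M (d α) = d '' orbS M α := by
  ext β
  constructor
  · rintro ⟨y, hy, rfl⟩
    refine ⟨(d⁻¹ * y * d) α, ⟨d⁻¹ * y * d, ?_, rfl⟩, by simp⟩
    have := hM.conj_mem (inv_mem hd) hy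
    simpa using this
  · rintro ⟨γ, ⟨y, hy, rfl⟩, rfl⟩
    refine ⟨d * y * d⁻¹, hM.conj_mem hd hy, by simp⟩

omit [DecidableEq Ω] in
theorem IsHalf.ncard_eq {d : Perm Ω} (hd : d ∈ D) :
    (orbS M (d α)).ncard = (orbS M α).ncard := by
  rw [hM.orbS_image α hS hd]
  exact Set.ncard_image_of_injective _ d.injective

omit [DecidableEq Ω] in
theorem IsHalf.ncard_orbit {d : Perm Ω} (hd : d ∈ D) (hdM : d ∉ M) :
    (orbS D α).ncard = 2 * (orbS M α).ncard := by
  rw [hM.orbS_union α hS hd hdM, Set.ncard_union_eq (hM.orbS_disjoint α hS hd hdM),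
    hM.ncard_eq α hS hd]
  ring

end half

end orbits

section unique
variable {Ω : Type*} [Fintype Ω] [DecidableEq Ω]

omit [Fintype Ω] [DecidableEq Ω] in
/-- uniqueness of the index two subgroup over a point stabilizer: transitive cyclic case -/
theorem half_le_of_transitive {D M M' : Subgroup (Perm Ω)} (hM : IsHalf M D) (hM' : IsHalf M' D)
    (α : Ω) (hS : ∀ d ∈ D, d α = α → d ∈ M) (hS' : ∀ d ∈ D, d α = α → d ∈ M')
    (x : Perm Ω) (hxD : x ∈ D) (htr : ∀ β ∈ orbS D α, x.SameCycle α β) : M ≤ M' := by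
  have hnot : ∀ N : Subgroup (Perm Ω), IsHalf N D → (∀ d ∈ D, d α = α → d ∈ N) → x ∉ N := by
    intro N hN hSN hxN
    obtain ⟨d, hd, hdN⟩ := hN.ne
    apply hdN
    obtain ⟨i, hi⟩ := htr (d α) ⟨d, hd, rfl⟩
    have h1 : (x ^ i)⁻¹ * d ∈ N := by
      apply hSN _ (mul_mem (inv_mem (zpow_mem hxD i)) hd)
      rw [Perm.mul_apply, ← hi]; simp
    have h2 : d = x ^ i * ((x ^ i)⁻¹ * d) := by group
    rw [h2]
    exact mul_mem (zpow_mem hxN i) h1
  have hxM := hnot M hM hS
  intro m hm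
  obtain ⟨i, hi⟩ := htr (m α) ⟨m, hM.le hm, rfl⟩
  have hsD : (x ^ i)⁻¹ * m ∈ D := mul_mem (inv_mem (zpow_mem hxD i)) (hM.le hm)
  have hsα : ((x ^ i)⁻¹ * m) α = α := by
    rw [Perm.mul_apply, ← hi]; simp
  have hs : (x ^ i)⁻¹ * m ∈ M := hS _ hsD hsα
  have hs' : (x ^ i)⁻¹ * m ∈ M' := hS' _ hsD hsα
  have hxi : x ^ i ∈ M := by
    have : x ^ i = m * ((x ^ i)⁻¹ * m)⁻¹ := by group
    rw [this]
    exact mul_mem hm (inv_mem hs)
  have hm2 : m = x ^ i * ((x ^ i)⁻¹ * m) := by group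
  rw [hm2]
  refine mul_mem ?_ hs'
  rcases Int.even_or_odd' i with ⟨j, hj | hj⟩
  · rw [hj, zpow_mul, zpow_two]
    exact zpow_mem (hM'.mul_self_mem hxD) j
  · exfalso
    apply hxM
    rw [hj, zpow_add, zpow_one, zpow_mul, zpow_two] at hxi
    have h3 : (x * x) ^ j ∈ M := zpow_mem (hM.mul_self_mem hxD) j
    have : x = ((x * x) ^ j)⁻¹ * ((x * x) ^ j * x) := by group
    rw [this]
    exact mul_mem (inv_mem h3) hxi

/-- uniqueness of the index two subgroup over a point stabilizer: fixed point case -/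
theorem half_le_of_fixed {D M M' : Subgroup (Perm Ω)} (hD : IsPGroup 2 D) (hM : IsHalf M D)
    (hM' : IsHalf M' D)
    (α : Ω) (hS : ∀ d ∈ D, d α = α → d ∈ M) (hS' : ∀ d ∈ D, d α = α → d ∈ M')
    (x : Perm Ω) (hxD : x ∈ D) (hxα : x α = α) (hx2 : ∃ k : ℕ, orderOf x = 2 ^ k)
    (hgood : GoodOn x (orbS D α)) : M ≤ M' := by
  by_contra hcon
  obtain ⟨d', hd'M, hd'M'⟩ := SetLike.not_le_iff_exists.mp hcon
  have hd'D : d' ∈ D := hM.le hd'M
  have hxM : x ∈ M := hS x hxD hxα
  have hxM' : x ∈ M' := hS' x hxD hxα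
  obtain ⟨d, hdD, hdM⟩ := hM.ne
  -- the second `M'`-orbit
  have hsubO : orbS M' (d' α) ⊆ orbS D α := by
    have h1 : orbS M' (d' α) ⊆ orbS D (d' α) := orbS_mono hM'.le _
    rw [orbS_eq_of_mem (⟨d', hd'D, rfl⟩ : d' α ∈ orbS D α)] at h1
    exact h1
  have hαnot : α ∉ orbS M' (d' α) := by
    intro h
    exact Set.disjoint_left.mp (hM'.orbS_disjoint α hS' hd'D hd'M') (mem_orbS_self M' α) h
  obtain ⟨e, he⟩ := ncard_orbS_pow (hD.to_le hM'.le) (d' α)
  rcases sameCycle_or_two_fixed x hx2 (orbS M' (d' α)) (orbS_invariant hxM') e he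
    (hgood.mono hsubO) with h | ⟨b, hb, c, hc, hbc, hfb, hfc⟩
  · -- the orbit is a single cycle, contained in `orbS M α`
    have hsub : orbS M' (d' α) ⊆ orbS M α := by
      intro γ hγ
      have h1 := h (d' α) (mem_orbS_self M' _) γ hγ
      exact sameCycle_mem (orbS_invariant hxM) ⟨d', hd'M, rfl⟩ h1
    have hc1 := hM.ncard_orbit α hS hdD hdM
    have hc2 := hM'.ncard_orbit α hS' hd'D hd'M'
    rw [← hM'.ncard_eq α hS' hd'D] at hc2
    have heq : orbS M' (d' α) = orbS M α :=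
      Set.eq_of_subset_of_ncard_le hsub (by omega) (Set.toFinite _)
    apply hαnot
    rw [heq]
    exact mem_orbS_self M α
  · -- three distinct fixed points
    have hbα : b ≠ α := by rintro rfl; exact hαnot hb
    have hcα : c ≠ α := by rintro rfl; exact hαnot hc
    rcases hgood.1 α (mem_orbS_self D α) b (hsubO hb) c (hsubO hc) hxα hfb hfc with h | h | h
    · exact hbα h.symm
    · exact hcα h.symm
    · exact hbc h

omit [Fintype Ω] [DecidableEq Ω] in
/-- the conjugate of a half subgroup by a normalizing element -/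
theorem isHalf_conj {D M : Subgroup (Perm Ω)} (hM : IsHalf M D) {g : Perm Ω}
    (hg : g ∈ normalizer (D : Set (Perm Ω))) :
    IsHalf (M.comap (MulAut.conj g⁻¹).toMonoidHom) D := by
  have hg' : ∀ y, y ∈ D ↔ g⁻¹ * y * g ∈ D := by
    intro y
    have := (Subgroup.mem_normalizer_iff.mp (inv_mem hg)) y
    simpa using this
  have hmem : ∀ y, y ∈ M.comap (MulAut.conj g⁻¹).toMonoidHom ↔ g⁻¹ * y * g ∈ M := by
    intro y
    simp [Subgroup.mem_comap]
  refine ⟨?_, ?_, ?_⟩
  · intro y hy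
    rw [hmem] at hy
    exact (hg' y).mpr (hM.le hy)
  · intro a ha b hb
    rw [hmem, hmem, hmem]
    have : g⁻¹ * (a * b) * g = (g⁻¹ * a * g) * (g⁻¹ * b * g) := by group
    rw [this]
    exact hM.mul_mem_iff _ ((hg' a).mp ha) _ ((hg' b).mp hb)
  · obtain ⟨d, hd, hdM⟩ := hM.ne
    refine ⟨g * d * g⁻¹, ?_, ?_⟩
    · rw [hg']; simpa [mul_assoc] using hd
    · rw [hmem]; simpa [mul_assoc] using hdM

end unique

section main
variable {Ω : Type*} [Fintype Ω] [DecidableEq Ω]

omit [Fintype Ω] [DecidableEq Ω] in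
/-- an odd order permutation preserving a relation with "two classes locally" fixes classes -/
theorem odd_rel (R : Ω → Ω → Prop) (hsymm : ∀ a b, R a b → R b a)
    (htrans : ∀ a b c, R a b → R b c → R a c) (g : Perm Ω) (hg : ∀ a b, R a b ↔ R (g a) (g b))
    (m : ℕ) (hm : Odd m) (hgm : g ^ m = 1) (β : Ω)
    (h3 : R β (g β) ∨ R (g β) (g (g β)) ∨ R β (g (g β))) : R β (g β) := by
  rcases h3 with h | h | h
  · exact h
  · exact (hg _ _).mpr h
  · have key : ∀ i : ℕ, R β ((g ^ (2 * i)) β) := by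
      intro i
      induction i with
      | zero =>
        simp only [mul_zero, pow_zero, Perm.one_apply]
        exact htrans _ _ _ h (hsymm _ _ h)
      | succ i ih =>
        have h1 := (hg _ _).mp ((hg _ _).mp ih)
        have h2 : (g ^ (2 * (i + 1))) β = g (g ((g ^ (2 * i)) β)) := by
          rw [← Perm.mul_apply, ← Perm.mul_apply, ← pow_two, ← pow_add]
          congr 2; ring
        rw [h2]
        exact htrans _ _ _ h h1
    obtain ⟨i, hi⟩ := hm
    have h1 := (hg _ _).mp (key i)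
    have h2 : g ((g ^ (2 * i)) β) = β := by
      rw [← Perm.mul_apply, ← pow_succ', ← hi, hgm]; rfl
    rw [h2] at h1
    exact hsymm _ _ h1

omit [Fintype Ω] [DecidableEq Ω] in
theorem zpow_eq_of_mem_half {D M : Subgroup (Perm Ω)} (hM : IsHalf M D) {x : Perm Ω} (hxD : x ∈ D)
    (hxM : x ∉ M) {i : ℤ} (hi : x ^ i ∈ M) : ∃ j : ℤ, x ^ i = (x * x) ^ j := by
  rcases Int.even_or_odd' i with ⟨j, hj | hj⟩
  · exact ⟨j, by rw [hj, zpow_mul, zpow_two]⟩
  · exfalso
    apply hxM
    rw [hj, zpow_add, zpow_one, zpow_mul, zpow_two] at hi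
    have h3 : (x * x) ^ j ∈ M := zpow_mem (hM.mul_self_mem hxD) j
    have : x = ((x * x) ^ j)⁻¹ * ((x * x) ^ j * x) := by group
    rw [this]
    exact mul_mem (inv_mem h3) hi

omit [Fintype Ω] [DecidableEq Ω] in
theorem not_mem_half_of_transitive {D M : Subgroup (Perm Ω)} (hM : IsHalf M D)
    (α : Ω) (hS : ∀ d ∈ D, d α = α → d ∈ M)
    (x : Perm Ω) (hxD : x ∈ D) (htr : ∀ β ∈ orbS D α, x.SameCycle α β) : x ∉ M := by
  intro hxN
  obtain ⟨d, hd, hdN⟩ := hM.ne
  apply hdN
  obtain ⟨i, hi⟩ := htr (d α) ⟨d, hd, rfl⟩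
  have h1 : (x ^ i)⁻¹ * d ∈ M := by
    apply hS _ (mul_mem (inv_mem (zpow_mem hxD i)) hd)
    rw [Perm.mul_apply, ← hi]; simp
  have h2 : d = x ^ i * ((x ^ i)⁻¹ * d) := by group
  rw [h2]
  exact mul_mem (zpow_mem hxN i) h1

omit [Fintype Ω] [DecidableEq Ω] in
/-- the inductive step: reduce to the two orbits of an invariant half subgroup -/
theorem step {D M : Subgroup (Perm Ω)} (hM : IsHalf M D) (α : Ω)
    (hS : ∀ d ∈ D, d α = α → d ∈ M)
    (g : Perm Ω) (hgM : g ∈ normalizer (M : Set (Perm Ω))) (m : ℕ) (hm : Odd m) (hgm : g ^ m = 1)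
    (hgO : ∀ β ∈ orbS D α, g β ∈ orbS D α)
    (ih : ∀ β ∈ orbS D α, (∀ γ ∈ orbS M β, g γ ∈ orbS M β) → ∀ γ ∈ orbS M β, g γ = γ) :
    ∀ β ∈ orbS D α, g β = β := by
  obtain ⟨d, hdD, hdM⟩ := hM.ne
  have hU := hM.orbS_union α hS hdD hdM
  have hsame : ∀ α₁ u v, u ∈ orbS M α₁ → v ∈ orbS M α₁ → v ∈ orbS M u := by
    intro α₁ u v hu hv
    rw [orbS_eq_of_mem hu]; exact hv
  have hpig : ∀ u ∈ orbS D α, ∀ v ∈ orbS D α, ∀ w ∈ orbS D α,
      v ∈ orbS M u ∨ w ∈ orbS M v ∨ w ∈ orbS M u := by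
    intro u hu v hv w hw
    rw [hU] at hu hv hw
    rcases hu with hu | hu <;> rcases hv with hv | hv <;> rcases hw with hw | hw
    · exact Or.inl (hsame _ _ _ hu hv)
    · exact Or.inl (hsame _ _ _ hu hv)
    · exact Or.inr (Or.inr (hsame _ _ _ hu hw))
    · exact Or.inr (Or.inl (hsame _ _ _ hv hw))
    · exact Or.inr (Or.inl (hsame _ _ _ hv hw))
    · exact Or.inr (Or.inr (hsame _ _ _ hu hw))
    · exact Or.inl (hsame _ _ _ hu hv)
    · exact Or.inl (hsame _ _ _ hu hv)
  have hgN := Subgroup.mem_normalizer_iff.mp hgM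
  have hgN' := Subgroup.mem_normalizer_iff.mp (inv_mem hgM)
  have hR : ∀ γ ∈ orbS D α, g γ ∈ orbS M γ := by
    intro γ hγ
    apply odd_rel (fun a b => b ∈ orbS M a) _ _ g _ m hm hgm γ
    · exact hpig γ hγ (g γ) (hgO γ hγ) (g (g γ)) (hgO _ (hgO γ hγ))
    · intro a b hab
      rw [orbS_eq_of_mem hab]; exact mem_orbS_self M a
    · intro a b c hab hbc
      rw [← orbS_eq_of_mem hab]; exact hbc
    · intro a b
      constructor
      · rintro ⟨y, hy, rfl⟩
        exact ⟨g * y * g⁻¹, (hgN y).mp hy, by simp⟩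
      · rintro ⟨y, hy, h⟩
        refine ⟨g⁻¹ * y * g, ?_, ?_⟩
        · have := (hgN' y).mp hy
          simpa using this
        · simp only [Perm.mul_apply]
          rw [h]; simp
  intro β hβ
  apply ih β hβ _ β (mem_orbS_self M β)
  intro γ hγ
  have hγO : γ ∈ orbS D α := by
    have h1 := orbS_mono hM.le β hγ
    rwa [orbS_eq_of_mem hβ] at h1
  have := hR γ hγO
  rwa [orbS_eq_of_mem hγ] at this

/-- Main induction: an odd-order element normalizing a `2`-group `D` that contains a good element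
`x` fixes pointwise every `D`-orbit that it preserves. -/
theorem fix_of_normalizer : ∀ (k : ℕ) (D : Subgroup (Perm Ω)), Nat.card D = k → IsPGroup 2 D →
    ∀ x ∈ D, ∀ α : Ω, GoodOn x (orbS D α) → ∀ g ∈ normalizer (D : Set (Perm Ω)), ∀ m : ℕ,
    Odd m → g ^ m = 1 → (∀ β ∈ orbS D α, g β ∈ orbS D α) → ∀ β ∈ orbS D α, g β = β := by
  intro k
  induction k using Nat.strong_induction_on with
  | _ k ih =>
  intro D hk hD x hxD α hgood g hgN m hm hgm hgO
  have hx2 : ∃ k : ℕ, orderOf x = 2 ^ k := by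
    obtain ⟨k, hk⟩ := (IsPGroup.iff_orderOf.mp hD) ⟨x, hxD⟩
    exact ⟨k, by rwa [Subgroup.orderOf_mk] at hk⟩
  by_cases htriv : ∀ d ∈ D, d α = α
  · intro β hβ
    obtain ⟨d, hd, rfl⟩ := hβ
    rw [htriv d hd]
    obtain ⟨d', hd', h⟩ := hgO α (mem_orbS_self D α)
    rw [← h, htriv d' hd']
  push Not at htriv
  obtain ⟨d₁, hd₁, hd₁α⟩ := htriv
  -- `g⁻¹` preserves the orbit
  have hginvO : ∀ β ∈ orbS D α, g⁻¹ β ∈ orbS D α := by
    have hpow : ∀ n : ℕ, ∀ β ∈ orbS D α, (g ^ n) β ∈ orbS D α := by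
      intro n
      induction n with
      | zero => intro β hβ; simpa using hβ
      | succ n ihn =>
        intro β hβ
        rw [pow_succ', Perm.mul_apply]
        exact hgO _ (ihn β hβ)
    obtain ⟨i, hi⟩ := hm
    have : g⁻¹ = g ^ (2 * i) := by
      rw [inv_eq_iff_mul_eq_one, ← pow_succ', ← hi, hgm]
    rw [this]
    exact hpow _
  have hgD := Subgroup.mem_normalizer_iff.mp hgN
  have hgD' : ∀ y, y ∈ D ↔ g⁻¹ * y * g ∈ D := by
    intro y
    have := (Subgroup.mem_normalizer_iff.mp (inv_mem hgN)) y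
    simpa using this
  -- common part
  have common : ∀ a : Ω, orbS D a = orbS D α → ∀ M : Subgroup (Perm Ω), IsHalf M D →
      (∀ d ∈ D, d a = a → d ∈ M) →
      (∀ M' M'' : Subgroup (Perm Ω), IsHalf M' D → (∀ d ∈ D, d a = a → d ∈ M') →
        IsHalf M'' D → (∀ d ∈ D, d a = a → d ∈ M'') → M' ≤ M'') →
      ∀ x' ∈ M, (∀ β ∈ orbS D a, GoodOn x' (orbS M β)) → ∀ β ∈ orbS D α, g β = β := by
    intro a hO M hM hS huniq x' hx'M hgood'
    have hMg := isHalf_conj hM hgN
    have hmem : ∀ y, y ∈ M.comap (MulAut.conj g⁻¹).toMonoidHom ↔ g⁻¹ * y * g ∈ M := by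
      intro y
      simp [Subgroup.mem_comap]
    have hSg : ∀ d ∈ D, d a = a → d ∈ M.comap (MulAut.conj g⁻¹).toMonoidHom := by
      intro d hd hda
      rw [hmem]
      have h1 : g⁻¹ a ∈ orbS D a := by
        rw [hO]; apply hginvO; rw [← hO]; exact mem_orbS_self D a
      apply hM.stab_mem a hS h1 ((hgD' d).mp hd)
      simp [hda]
    have h1 := huniq _ _ hM hS hMg hSg
    have h2 := huniq _ _ hMg hSg hM hS
    have hgM : g ∈ normalizer (M : Set (Perm Ω)) := by
      rw [Subgroup.mem_normalizer_iff]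
      intro y
      constructor
      · intro hy
        have := h2 (show g * y * g⁻¹ ∈ M.comap (MulAut.conj g⁻¹).toMonoidHom by
          rw [hmem]; simpa [mul_assoc] using hy)
        exact this
      · intro hy
        have := (hmem _).mp (h1 hy)
        simpa [mul_assoc] using this
    rw [← hO]
    rw [← hO] at hgO
    apply step hM a hS g hgM m hm hgm hgO
    intro β hβ hgβ
    have hlt : Nat.card M < k := by
      rw [← hk]
      haveI : Finite D := inferInstance
      exact card_lt_of_isHalf hM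
    exact ih (Nat.card M) hlt M rfl (hD.to_le hM.le) x' hx'M β (hgood' β hβ) g hgM m hm hgm hgβ
  obtain ⟨e, he⟩ := ncard_orbS_pow hD α
  rcases sameCycle_or_two_fixed x hx2 (orbS D α) (orbS_invariant hxD) e he hgood with
    htr | ⟨a, ha, b, hb, hab, hfa, hfb⟩
  · -- transitive cyclic case
    have hne : ∃ d ∈ D, d ∉ D ⊓ MulAction.stabilizer (Perm Ω) α := by
      refine ⟨d₁, hd₁, ?_⟩
      rintro ⟨_, h⟩
      exact hd₁α (by simpa using h)
    obtain ⟨M, hM, hSM⟩ := exists_isHalf hD (inf_le_left) hne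
    have hS : ∀ d ∈ D, d α = α → d ∈ M := by
      intro d hd hdα
      exact hSM ⟨hd, by simpa using hdα⟩
    have hxM : x ∉ M := not_mem_half_of_transitive hM α hS x hxD
      (fun β hβ => htr α (mem_orbS_self D α) β hβ)
    apply common α rfl M hM hS _ (x * x) (hM.mul_self_mem hxD)
    · intro β hβ
      apply goodOn_of_sameCycle
      have key : ∀ γ ∈ orbS M β, (x * x).SameCycle β γ := by
        rintro γ ⟨y, hy, rfl⟩
        have hγO : y β ∈ orbS D α := by
          have h1 := orbS_mono hM.le β ⟨y, hy, rfl⟩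
          rwa [orbS_eq_of_mem hβ] at h1
        obtain ⟨i, hi⟩ := htr β hβ (y β) hγO
        have h1 : (x ^ i)⁻¹ * y ∈ M := by
          apply hM.stab_mem α hS hβ (mul_mem (inv_mem (zpow_mem hxD i)) (hM.le hy))
          rw [Perm.mul_apply, ← hi]; simp
        have h2 : x ^ i ∈ M := by
          have : x ^ i = y * ((x ^ i)⁻¹ * y)⁻¹ := by group
          rw [this]
          exact mul_mem hy (inv_mem h1)
        obtain ⟨j, hj⟩ := zpow_eq_of_mem_half hM hxD hxM h2
        exact ⟨j, by rw [← hj, hi]⟩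
      intro u hu v hv
      exact (key u hu).symm.trans (key v hv)
    · intro M' M'' hM' hS' hM'' hS''
      exact half_le_of_transitive hM' hM'' α hS' hS'' x hxD
        (fun β hβ => htr α (mem_orbS_self D α) β hβ)
  · -- fixed point case
    have hO : orbS D a = orbS D α := orbS_eq_of_mem ha
    have hne : ∃ d ∈ D, d ∉ D ⊓ MulAction.stabilizer (Perm Ω) a := by
      have hb' : b ∈ orbS D a := by rw [hO]; exact hb
      obtain ⟨d, hd, hdb⟩ := hb'
      refine ⟨d, hd, ?_⟩
      rintro ⟨_, h⟩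
      apply hab
      rw [← hdb]
      exact (by simpa using h : d a = a).symm
    obtain ⟨M, hM, hSM⟩ := exists_isHalf hD (inf_le_left) hne
    have hS : ∀ d ∈ D, d a = a → d ∈ M := by
      intro d hd hdα
      exact hSM ⟨hd, by simpa using hdα⟩
    apply common a hO M hM hS _ x (hS x hxD hfa)
    · intro β hβ
      apply hgood.mono
      have h1 := orbS_mono hM.le β
      rwa [orbS_eq_of_mem hβ, hO] at h1
    · intro M' M'' hM' hS' hM'' hS''
      exact half_le_of_fixed hD hM' hM'' a hS' hS'' x hxD hfa hx2 (by rw [hO]; exact hgood)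

end main

section top
variable {Ω : Type*} [Fintype Ω] [DecidableEq Ω]

theorem ncard_of_sameCycle {x : Perm Ω} {O : Set Ω} (hinv : ∀ a ∈ O, x a ∈ O) {u : Ω} (hu : u ∈ O)
    (hT : ∀ b ∈ O, x.SameCycle u b) : O.ncard = if x u = u then 1 else cl x u := by
  by_cases hfu : x u = u
  · rw [if_pos hfu]
    have : O = {u} := by
      ext b
      constructor
      · intro hb
        obtain ⟨i, hi⟩ := hT b hb
        rw [← hi]
        exact zpow_apply_eq_self_of_apply_eq_self hfu i
      · rintro rfl; exact hu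
    rw [this, Set.ncard_singleton]
  · rw [if_neg hfu]
    have : O = ↑(x.cycleOf u).support := by
      ext b
      rw [Finset.mem_coe, mem_support_cycleOf_iff' hfu]
      exact ⟨fun hb => hT b hb, fun hb => sameCycle_mem hinv hu hb⟩
    rw [this, Set.ncard_coe_finset]
    rfl

theorem orbit_pair_T {x : Perm Ω} (hgood : GoodOn x Set.univ) {D : Subgroup (Perm Ω)}
    (hxD : x ∈ D) {u v : Ω} (hTu : ∀ a ∈ orbS D u, ∀ b ∈ orbS D u, x.SameCycle a b)
    (hTv : ∀ a ∈ orbS D v, ∀ b ∈ orbS D v, x.SameCycle a b)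
    (hcard : (orbS D u).ncard = (orbS D v).ncard) (hv : v ∉ orbS D u) :
    (orbS D u).ncard = 1 := by
  have h1 := ncard_of_sameCycle (orbS_invariant hxD) (mem_orbS_self D u)
    (fun b hb => hTu u (mem_orbS_self D u) b hb)
  have h2 := ncard_of_sameCycle (orbS_invariant hxD) (mem_orbS_self D v)
    (fun b hb => hTv v (mem_orbS_self D v) b hb)
  by_cases hfu : x u = u
  · rw [h1, if_pos hfu]
  · exfalso
    rw [if_neg hfu] at h1
    by_cases hfv : x v = v
    · rw [if_pos hfv] at h2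
      have := cl_two_le hfu
      omega
    · rw [if_neg hfv] at h2
      have h3 : cl x u = cl x v := by omega
      have h4 := hgood.2 u (Set.mem_univ _) v (Set.mem_univ _) hfu hfv h3
      exact hv (sameCycle_mem (orbS_invariant hxD) (mem_orbS_self D u) h4)

theorem orbit_pair_F {x : Perm Ω} (hgood : GoodOn x Set.univ) {D : Subgroup (Perm Ω)}
    {u v : Ω} (hFu : ∃ a ∈ orbS D u, ∃ b ∈ orbS D u, a ≠ b ∧ x a = a ∧ x b = b)
    (hFv : ∃ a ∈ orbS D v, ∃ b ∈ orbS D v, a ≠ b ∧ x a = a ∧ x b = b)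
    (hv : v ∉ orbS D u) : False := by
  obtain ⟨a, ha, b, hb, hab, hfa, hfb⟩ := hFu
  obtain ⟨c, hc, _, _, _, hfc, _⟩ := hFv
  have hcu : c ∉ orbS D u := by
    intro h
    apply hv
    rw [← orbS_eq_of_mem h, orbS_eq_of_mem hc]
    exact mem_orbS_self D v
  rcases hgood.1 a (Set.mem_univ _) b (Set.mem_univ _) c (Set.mem_univ _) hfa hfb hfc with h | h | h
  · exact hab h
  · exact hcu (h ▸ ha)
  · exact hcu (h ▸ hb)

omit [DecidableEq Ω] in
theorem eq_of_ncard_orbS_one {D : Subgroup (Perm Ω)} {u : Ω} (h : (orbS D u).ncard = 1) {b : Ω}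
    (hb : b ∈ orbS D u) : b = u := by
  obtain ⟨c, hc⟩ := Set.ncard_eq_one.mp h
  have h1 : u = c := by
    have := mem_orbS_self D u
    rw [hc] at this
    exact this
  rw [hc] at hb
  rw [h1]
  exact hb

/-- among three `D`-orbits of the same size two coincide -/
theorem orbit_three {x : Perm Ω} (hx2 : ∃ k : ℕ, orderOf x = 2 ^ k) (hgood : GoodOn x Set.univ)
    {D : Subgroup (Perm Ω)} (hD : IsPGroup 2 D) (hxD : x ∈ D) (u v w : Ω)
    (huv : (orbS D u).ncard = (orbS D v).ncard) (hvw : (orbS D v).ncard = (orbS D w).ncard) :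
    v ∈ orbS D u ∨ w ∈ orbS D v ∨ w ∈ orbS D u := by
  by_contra hcon
  push Not at hcon
  obtain ⟨h1, h2, h3⟩ := hcon
  have hdich : ∀ t : Ω, (∀ a ∈ orbS D t, ∀ b ∈ orbS D t, x.SameCycle a b) ∨
      (∃ a ∈ orbS D t, ∃ b ∈ orbS D t, a ≠ b ∧ x a = a ∧ x b = b) := by
    intro t
    obtain ⟨e, he⟩ := ncard_orbS_pow hD t
    exact sameCycle_or_two_fixed x hx2 (orbS D t) (orbS_invariant hxD) e he
      (hgood.mono (Set.subset_univ _))
  have hone : (orbS D u).ncard = 1 := by
    rcases hdich u with hu | hu <;> rcases hdich v with hv | hv <;> rcases hdich w with hw | hw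
    · exact orbit_pair_T hgood hxD hu hv huv h1
    · exact orbit_pair_T hgood hxD hu hv huv h1
    · exact orbit_pair_T hgood hxD hu hw (huv.trans hvw) h3
    · exact (orbit_pair_F hgood hv hw h2).elim
    · rw [huv]; exact orbit_pair_T hgood hxD hv hw hvw h2
    · exact (orbit_pair_F hgood hu hw h3).elim
    · exact (orbit_pair_F hgood hu hv h1).elim
    · exact (orbit_pair_F hgood hu hv h1).elim
  have hfix : ∀ t : Ω, (orbS D t).ncard = 1 → x t = t := by
    intro t ht
    exact eq_of_ncard_orbS_one ht (orbS_invariant hxD t (mem_orbS_self D t))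
  have hu := hfix u hone
  have hv := hfix v (huv ▸ hone)
  have hw := hfix w (hvw ▸ huv ▸ hone)
  rcases hgood.1 u (Set.mem_univ _) v (Set.mem_univ _) w (Set.mem_univ _) hu hv hw with h | h | h
  · exact h1 (h ▸ mem_orbS_self D u)
  · exact h3 (h ▸ mem_orbS_self D u)
  · exact h2 (h ▸ mem_orbS_self D v)

omit [DecidableEq Ω] in
theorem ncard_orbS_apply {D : Subgroup (Perm Ω)} {g : Perm Ω}
    (hg : g ∈ normalizer (D : Set (Perm Ω))) (u : Ω) :
    (orbS D (g u)).ncard = (orbS D u).ncard := by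
  have : orbS D (g u) = g '' orbS D u := by
    ext b
    constructor
    · rintro ⟨y, hy, rfl⟩
      refine ⟨(g⁻¹ * y * g) u, ⟨g⁻¹ * y * g, ?_, rfl⟩, by simp⟩
      have := (Subgroup.mem_normalizer_iff.mp (inv_mem hg) y).mp hy
      simpa using this
    · rintro ⟨c, ⟨y, hy, rfl⟩, rfl⟩
      exact ⟨g * y * g⁻¹, (Subgroup.mem_normalizer_iff.mp hg y).mp hy, by simp⟩
  rw [this]
  exact Set.ncard_image_of_injective _ g.injective

/-- an odd order element normalizing `D ∋ x` preserves every `D`-orbit -/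
theorem orbit_fixed {x : Perm Ω} (hx2 : ∃ k : ℕ, orderOf x = 2 ^ k) (hgood : GoodOn x Set.univ)
    {D : Subgroup (Perm Ω)} (hD : IsPGroup 2 D) (hxD : x ∈ D) {g : Perm Ω}
    (hg : g ∈ normalizer (D : Set (Perm Ω))) (m : ℕ) (hm : Odd m) (hgm : g ^ m = 1) (β : Ω) :
    g β ∈ orbS D β := by
  have hgN := Subgroup.mem_normalizer_iff.mp hg
  have hgN' := Subgroup.mem_normalizer_iff.mp (inv_mem hg)
  apply odd_rel (fun a b => b ∈ orbS D a) _ _ g _ m hm hgm β
  · exact orbit_three hx2 hgood hD hxD β (g β) (g (g β)) (ncard_orbS_apply hg β).symm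
      (ncard_orbS_apply hg (g β)).symm
  · intro a b hab
    rw [orbS_eq_of_mem hab]; exact mem_orbS_self D a
  · intro a b c hab hbc
    rw [← orbS_eq_of_mem hab]; exact hbc
  · intro a b
    constructor
    · rintro ⟨y, hy, rfl⟩
      exact ⟨g * y * g⁻¹, (hgN y).mp hy, by simp⟩
    · rintro ⟨y, hy, h⟩
      refine ⟨g⁻¹ * y * g, ?_, ?_⟩
      · have := (hgN' y).mp hy
        simpa using this
      · simp only [Perm.mul_apply]
        rw [h]; simp

theorem normalizer_isPGroup {x : Perm Ω} (hx2 : ∃ k : ℕ, orderOf x = 2 ^ k)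
    (hgood : GoodOn x Set.univ) {D : Subgroup (Perm Ω)} (hD : IsPGroup 2 D) (hxD : x ∈ D) :
    IsPGroup 2 (normalizer (D : Set (Perm Ω))) := by
  apply isPGroup_two_of_odd_trivial
  intro g hg m hm hgm
  ext β
  rw [Perm.one_apply]
  apply fix_of_normalizer (Nat.card D) D rfl hD x hxD β (hgood.mono (Set.subset_univ _)) g hg m hm
    hgm _ β (mem_orbS_self D β)
  intro γ hγ
  have := orbit_fixed hx2 hgood hD hxD hg m hm hgm γ
  rwa [orbS_eq_of_mem hγ] at this

/-- a good `2`-element lies in at most one Sylow `2`-subgroup -/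
theorem sylow_unique_of_good {x : Perm Ω} (hx2 : ∃ k : ℕ, orderOf x = 2 ^ k)
    (hgood : GoodOn x Set.univ) (P P' : Sylow 2 (Perm Ω)) (hx : x ∈ P) (hx' : x ∈ P') : P = P' := by
  haveI : Fact (Nat.Prime 2) := ⟨Nat.prime_two⟩
  by_contra hne
  obtain ⟨D, hD, hxD, hN⟩ := exists_pgroup_normalizer_not 2 x P P' hne hx hx'
  exact hN (normalizer_isPGroup hx2 hgood hD hxD)

/-- translation of the cycle type condition -/
theorem goodOn_univ_of_cycleType {x : Perm Ω} (h1 : Fintype.card Ω ≤ x.support.card + 2)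
    (h2 : x.cycleType.Nodup) : GoodOn x Set.univ := by
  constructor
  · intro a _ b _ c _ hfa hfb hfc
    by_contra hcon
    push Not at hcon
    obtain ⟨hab, hac, hbc⟩ := hcon
    have hsub : ({a, b, c} : Finset Ω) ⊆ Finset.univ \ x.support := by
      intro t ht
      simp only [Finset.mem_insert, Finset.mem_singleton] at ht
      rw [Finset.mem_sdiff, Perm.mem_support, not_not]
      refine ⟨Finset.mem_univ _, ?_⟩
      rcases ht with rfl | rfl | rfl <;> assumption
    have hcard := Finset.card_le_card hsub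
    rw [Finset.card_sdiff_of_subset (Finset.subset_univ _), Finset.card_univ] at hcard
    have h3 : ({a, b, c} : Finset Ω).card = 3 := by
      rw [Finset.card_insert_of_notMem, Finset.card_insert_of_notMem, Finset.card_singleton]
      · simpa using hbc
      · simp [hab, hac]
    omega
  · intro a _ b _ hfa hfb hcl
    rw [cycleType_def, Multiset.nodup_map_iff_inj_on (Finset.nodup _)] at h2
    have ha : x.cycleOf a ∈ x.cycleFactorsFinset.val :=
      cycleOf_mem_cycleFactorsFinset_iff.mpr (Perm.mem_support.mpr hfa)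
    have hb : x.cycleOf b ∈ x.cycleFactorsFinset.val :=
      cycleOf_mem_cycleFactorsFinset_iff.mpr (Perm.mem_support.mpr hfb)
    have h3 := h2 _ ha _ hb hcl
    have h4 : b ∈ (x.cycleOf b).support := by
      rw [mem_support_cycleOf_iff' hfb]
    rw [← h3, mem_support_cycleOf_iff' hfa] at h4
    exact h4

end top

end Cfsg.Agent.Lib.Helper1.SylUniq
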