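import Mathlib
import Cfsg.Agent.Lib.Helper1.NilpotentSym
import Cfsg.Agent.Lib.Helper1.NilpotentSymMax
import Cfsg.Agent.Lib.Helper1.SylowTwoUnique

set_option autoImplicit false


namespace Cfsg.Agent.Lib.Helper1.SylMax

open Cfsg.Agent.Lib.Helper1.NSym

theorem e2_add (a b : ℕ) :
    e2 (a + b) = e2 a + e2 b + padicValNat 2 ((a + b).choose a) := by
  unfold e2
  have h := Nat.add_choose_mul_factorial_mul_factorial a b
  rw [← Nat.choose_symm_add] at h
  have hc : (a + b).choose a ≠ 0 := (Nat.choose_pos (Nat.le_add_right a b)).ne'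
  rw [← h, padicValNat.mul (mul_ne_zero hc (Nat.factorial_ne_zero a)) (Nat.factorial_ne_zero b),
    padicValNat.mul hc (Nat.factorial_ne_zero a)]
  ring

theorem val_choose_two_mul (a b : ℕ) :
    padicValNat 2 ((2 * (a + b)).choose (2 * a)) = padicValNat 2 ((a + b).choose a) := by
  have h1 := e2_add (2 * a) (2 * b)
  have h2 := e2_add a b
  rw [← mul_add, e2_two_mul, e2_two_mul, e2_two_mul] at h1
  omega

theorem odd_of_val_eq_zero {x : ℕ} (hx : x ≠ 0) (h : padicValNat 2 x = 0) : Odd x := by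
  rw [Nat.odd_iff]
  by_contra hne
  have h2 : 2 ∣ x := by omega
  have := one_le_padicValNat_of_dvd hx h2
  omega

theorem val_eq_zero_of_odd {x : ℕ} (h : Odd x) : padicValNat 2 x = 0 :=
  padicValNat.eq_zero_of_not_dvd (by
    intro h2
    rw [Nat.odd_iff] at h
    omega)

theorem odd_choose_two_pow_mul (b m : ℕ) (hm : Odd m) : Odd ((2 ^ b * m).choose (2 ^ b)) := by
  have hpos : 1 ≤ m := by
    obtain ⟨k, rfl⟩ := hm; omega
  have key : padicValNat 2 ((2 ^ b * m).choose (2 ^ b)) = 0 := by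
    induction b with
    | zero =>
      simp only [pow_zero, one_mul, Nat.choose_one_right]
      exact val_eq_zero_of_odd hm
    | succ b ih =>
      have e1 : 2 ^ (b + 1) * m = 2 * (2 ^ b + 2 ^ b * (m - 1)) := by
        have : m = 1 + (m - 1) := by omega
        rw [pow_succ]
        nth_rewrite 1 [this]
        ring
      have e2' : 2 ^ (b + 1) = 2 * 2 ^ b := by rw [pow_succ]; ring
      have e3 : 2 ^ b + 2 ^ b * (m - 1) = 2 ^ b * m := by
        have : m = 1 + (m - 1) := by omega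
        nth_rewrite 2 [this]
        ring
      rw [e1, e2', val_choose_two_mul, e3]
      exact ih
  apply odd_of_val_eq_zero _ key
  apply (Nat.choose_pos _).ne'
  exact Nat.le_mul_of_pos_right _ hpos

theorem odd_choose_succ_of_even {n k : ℕ} (hn : Even n)
    (h : Odd (n.choose k)) : Odd ((n + 1).choose k) := by
  have h1 := Nat.choose_mul_succ_eq n k
  have h2 : Odd (n + 1) := hn.add_one
  have h3 : Odd (n.choose k * (n + 1)) := h.mul h2
  rw [h1] at h3
  exact (Nat.odd_mul.mp h3).1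

theorem even_choose_two_pow (a j : ℕ) (h0 : 0 < j) (h1 : j < 2 ^ a) : Even ((2 ^ a).choose j) := by
  rw [even_iff_two_dvd]
  exact Nat.Prime.dvd_choose_pow Nat.prime_two (by omega) (by omega)

theorem even_choose_two_pow_succ (k j : ℕ) (h2 : 2 ≤ j) (hj : j ≤ 2 ^ k - 1) :
    Even ((2 ^ k + 1).choose j) := by
  obtain ⟨i, rfl⟩ : ∃ i, j = i + 1 := ⟨j - 1, by omega⟩
  rw [Nat.choose_succ_succ']
  have hk : 1 ≤ 2 ^ k := Nat.one_le_two_pow
  exact (even_choose_two_pow k i (by omega) (by omega)).add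
    (even_choose_two_pow k (i + 1) (by omega) (by omega))

/-- the three families of degrees different from `2 ^ k + 1` -/
theorem degree_cases (n : ℕ) (hn : 5 ≤ n) (h : ¬ ∃ k : ℕ, 2 ≤ k ∧ n = 2 ^ k + 1) :
    (∃ b m : ℕ, 1 ≤ b ∧ Odd m ∧ 3 ≤ m ∧ n = 2 ^ b * m) ∨ (∃ a : ℕ, 3 ≤ a ∧ n = 2 ^ a) ∨
    (∃ c m : ℕ, 1 ≤ c ∧ Odd m ∧ 3 ≤ m ∧ n = 2 ^ c * m + 1) := by
  rcases Nat.even_or_odd n with he | ho
  · obtain ⟨b, m, hm, hnm⟩ := Nat.exists_eq_two_pow_mul_odd (show n ≠ 0 by omega)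
    have hb : 1 ≤ b := by
      by_contra hb
      have : b = 0 := by omega
      subst this
      rw [pow_zero, one_mul] at hnm
      rw [hnm] at he
      exact (Nat.not_even_iff_odd.mpr hm) he
    by_cases hm1 : m = 1
    · right; left
      subst hm1
      rw [mul_one] at hnm
      refine ⟨b, ?_, hnm⟩
      by_contra hb3
      have : b = 1 ∨ b = 2 := by omega
      rcases this with rfl | rfl <;> omega
    · left
      refine ⟨b, m, hb, hm, ?_, hnm⟩
      obtain ⟨k, rfl⟩ := hm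
      omega
  · right; right
    obtain ⟨c, m, hm, hnm⟩ := Nat.exists_eq_two_pow_mul_odd (show n - 1 ≠ 0 by omega)
    have hc : 1 ≤ c := by
      by_contra hc
      have : c = 0 := by omega
      subst this
      rw [pow_zero, one_mul] at hnm
      obtain ⟨k, rfl⟩ := ho
      obtain ⟨l, rfl⟩ := hm
      omega
    have hm3 : 3 ≤ m := by
      by_contra hm3
      have hm1 : m = 1 := by
        obtain ⟨k, rfl⟩ := hm
        omega
      subst hm1
      rw [mul_one] at hnm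
      apply h
      refine ⟨c, ?_, by omega⟩
      by_contra hc2
      have : c = 1 := by omega
      subst this
      omega
    exact ⟨c, m, hc, hm, hm3, by omega⟩

theorem odd_quot_factorial (h x : ℕ) (hx : x * (2 ^ h * h.factorial) = (2 * h).factorial) :
    Odd x := by
  have hx0 : x ≠ 0 := by
    rintro rfl
    rw [zero_mul] at hx
    exact (Nat.factorial_ne_zero _) hx.symm
  apply odd_of_val_eq_zero hx0
  have h1 : padicValNat 2 (x * (2 ^ h * h.factorial)) = e2 (2 * h) := by rw [hx]; rfl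
  rw [padicValNat.mul hx0 (mul_ne_zero (by positivity) (Nat.factorial_ne_zero h)),
    padicValNat.mul (by positivity) (Nat.factorial_ne_zero h), padicValNat.prime_pow,
    e2_two_mul] at h1
  have : padicValNat 2 h.factorial = e2 h := rfl
  omega

open Cfsg.Agent.Lib.Helper1.NSym
open scoped Pointwise
open MulAction

section generic

variable {G : Type*} [Group G] {Ω : Type*} [Finite Ω] [DecidableEq Ω] [MulAction G Ω]

/-- A `2`-subgroup fixes an `m`-subset whenever `choose (card Ω) m` is odd. -/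
theorem exists_fixed_set (R : Subgroup G) (hR : IsPGroup 2 R) (m : ℕ)
    (hodd : Odd ((Nat.card Ω).choose m)) :
    ∃ s : Set Ω, s.ncard = m ∧ R ≤ stabilizer G s := by
  haveI : Fact (Nat.Prime 2) := ⟨Nat.prime_two⟩
  have hcard : ¬ 2 ∣ Nat.card (Set.powersetCard Ω m) := by
    rw [Set.powersetCard.card]
    intro h
    rw [Nat.odd_iff] at hodd
    omega
  obtain ⟨s, hs⟩ := hR.nonempty_fixed_point_of_prime_not_dvd_card (Set.powersetCard Ω m) hcard
  refine ⟨(s : Set Ω), Set.powersetCard.ncard_eq s, ?_⟩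
  intro r hr
  rw [← Set.powersetCard.stabilizer_coe, mem_stabilizer_iff]
  exact hs ⟨r, hr⟩

theorem not_dvd_index_of_sylow_le [Finite G] (R : Sylow 2 G) (W : Subgroup G) (h : (R : Subgroup G) ≤ W) :
    ¬ 2 ∣ W.index := by
  haveI : Fact (Nat.Prime 2) := ⟨Nat.prime_two⟩
  intro h2
  exact R.not_dvd_index (h2.trans (Subgroup.index_dvd_of_le h))

theorem odd_choose_of_le_stabilizer [Finite G] (R : Sylow 2 G) (s : Set Ω)
    [IsPretransitive G (Set.powersetCard Ω s.ncard)]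
    (h : (R : Subgroup G) ≤ stabilizer G s) : Odd ((Nat.card Ω).choose s.ncard) := by
  have h1 := not_dvd_index_of_sylow_le R _ h
  let t : Set.powersetCard Ω s.ncard := ⟨s.toFinite.toFinset, by
    rw [Set.powersetCard.mem_iff, Set.ncard_eq_toFinset_card s s.toFinite]⟩
  have h2 : stabilizer G t = stabilizer G s := by
    rw [Set.powersetCard.stabilizer_coe]
    congr 1
    exact Set.Finite.coe_toFinset s.toFinite
  rw [← h2, index_stabilizer_of_transitive, Set.powersetCard.card] at h1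
  rw [Nat.odd_iff]
  omega

theorem invariant_small_or_large [Finite G] (R : Sylow 2 G) (k : ℕ)
    (hn : Nat.card Ω = 2 ^ k + 1) (htr : ∀ m, IsPretransitive G (Set.powersetCard Ω m))
    (s : Set Ω) (hs : ∀ r ∈ R, r • s = s) : s.ncard ≤ 1 ∨ 2 ^ k ≤ s.ncard := by
  by_contra hcon
  push Not at hcon
  have := htr s.ncard
  have h1 : (R : Subgroup G) ≤ stabilizer G s := fun r hr => mem_stabilizer_iff.mpr (hs r hr)
  have h2 := odd_choose_of_le_stabilizer R s h1
  rw [hn] at h2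
  have h3 := even_choose_two_pow_succ k s.ncard (by omega) (by omega)
  rw [← Nat.not_odd_iff_even] at h3
  exact h3 h2

theorem stab_or_primitive [Finite G] (R : Sylow 2 G) (k : ℕ) (hk : 2 ≤ k)
    (hn : Nat.card Ω = 2 ^ k + 1) (htr : ∀ m, IsPretransitive G (Set.powersetCard Ω m))
    (x₀ : Ω) (hx₀ : ∀ r ∈ R, r • x₀ = x₀) (M : Subgroup G) (hRM : (R : Subgroup G) ≤ M) :
    M ≤ stabilizer G x₀ ∨ IsPreprimitive M Ω := by
  have hk4 : 4 ≤ 2 ^ k := by
    calc 4 = 2 ^ 2 := by norm_num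
      _ ≤ 2 ^ k := Nat.pow_le_pow_right (by norm_num) hk
  by_cases hfix : ∀ m ∈ M, m • x₀ = x₀
  · left
    intro m hm
    exact mem_stabilizer_iff.mpr (hfix m hm)
  right
  push Not at hfix
  obtain ⟨m₀, hm₀, hm₀x⟩ := hfix
  -- the orbit of x₀ under M
  set s : Set Ω := {y | ∃ m ∈ M, m • x₀ = y} with hs
  have hx₀s : x₀ ∈ s := ⟨1, M.one_mem, one_smul _ _⟩
  have hMs : ∀ m ∈ M, m • s = s := by
    intro m hm
    ext y
    constructor
    · rintro ⟨z, ⟨m', hm', rfl⟩, rfl⟩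
      exact ⟨m * m', M.mul_mem hm hm', mul_smul _ _ _⟩
    · rintro ⟨m', hm', rfl⟩
      refine ⟨m⁻¹ • (m' • x₀), ⟨m⁻¹ * m', M.mul_mem (M.inv_mem hm) hm', mul_smul _ _ _⟩, ?_⟩
      simp
  have hMsc : ∀ m ∈ M, m • sᶜ = sᶜ := by
    intro m hm
    rw [Set.smul_set_compl, hMs m hm]
  -- the set `sᶜ ∪ {x₀}` is `R`-invariant
  have hRt : ∀ r ∈ R, r • (sᶜ ∪ {x₀}) = sᶜ ∪ {x₀} := by
    intro r hr
    rw [Set.smul_set_union, hMsc r (hRM hr), Set.smul_set_singleton, hx₀ r hr]
  have hs2 : 2 ≤ s.ncard := by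
    have : ({x₀, m₀ • x₀} : Set Ω) ⊆ s := by
      intro y hy
      rcases hy with rfl | rfl
      · exact hx₀s
      · exact ⟨m₀, hm₀, rfl⟩
    have h1 := Set.ncard_le_ncard this (Set.toFinite s)
    rw [Set.ncard_pair (Ne.symm hm₀x)] at h1
    exact h1
  have hRs : ∀ r ∈ R, r • s = s := fun r hr => hMs r (hRM hr)
  have hcs := invariant_small_or_large R k hn htr s hRs
  have hct := invariant_small_or_large R k hn htr (sᶜ ∪ {x₀}) hRt
  have hsum := Set.ncard_add_ncard_compl s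
  rw [hn] at hsum
  have htc : (sᶜ ∪ {x₀}).ncard = sᶜ.ncard + 1 := by
    rw [Set.union_singleton, Set.ncard_insert_of_notMem (by simpa using hx₀s)]
  have hsuniv : s = Set.univ := by
    rw [← Set.compl_empty_iff, ← Set.ncard_eq_zero]
    omega
  have hpre : IsPretransitive M Ω := by
    rw [isPretransitive_iff_base x₀]
    intro y
    have : y ∈ s := by rw [hsuniv]; trivial
    obtain ⟨m, hm, rfl⟩ := this
    exact ⟨⟨m, hm⟩, rfl⟩
  apply IsPreprimitive.of_isTrivialBlock_base x₀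
  intro B hxB hB
  have hRB : ∀ r ∈ R, r • B = B := by
    intro r hr
    have h1 := hB.smul_eq_or_disjoint (⟨r, hRM hr⟩ : M)
    rcases h1 with h1 | h1
    · exact h1
    · exfalso
      rw [Set.disjoint_left] at h1
      apply h1 (a := x₀) _ hxB
      refine ⟨x₀, hxB, ?_⟩
      exact hx₀ r hr
  have hcB := invariant_small_or_large R k hn htr B hRB
  have hdvd := hB.ncard_dvd_card ⟨x₀, hxB⟩
  rw [hn] at hdvd
  rcases hcB with h | h
  · left
    exact Set.ncard_le_one_iff_subsingleton.mp h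
  · right
    have hle : B.ncard ≤ 2 ^ k + 1 := by
      rw [← hn, ← Set.ncard_univ]
      exact Set.ncard_le_ncard (Set.subset_univ _) (Set.toFinite _)
    have hBn : B.ncard = 2 ^ k + 1 := by
      by_contra hne
      have : B.ncard = 2 ^ k := by omega
      rw [this] at hdvd
      have h2 : 2 ^ k ∣ 1 := (Nat.dvd_add_right (dvd_refl _)).mp hdvd
      have := Nat.le_of_dvd (by norm_num) h2
      omega
    rw [Set.eq_univ_iff_ncard, hBn, hn]
    
end generic

open Cfsg.Agent.Lib.Helper1.NSym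
open scoped Pointwise
open MulAction

section generic

variable {G : Type*} [Group G] {Ω : Type*} [Finite Ω] [MulAction G Ω]

theorem exists_fixed_point_of_odd (R : Subgroup G) (hR : IsPGroup 2 R) (hodd : Odd (Nat.card Ω)) :
    ∃ x₀ : Ω, ∀ r ∈ R, r • x₀ = x₀ := by
  haveI : Fact (Nat.Prime 2) := ⟨Nat.prime_two⟩
  have hcard : ¬ 2 ∣ Nat.card Ω := by
    intro h
    rw [Nat.odd_iff] at hodd
    omega
  obtain ⟨x, hx⟩ := hR.nonempty_fixed_point_of_prime_not_dvd_card Ω hcard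
  exact ⟨x, fun r hr => hx ⟨r, hr⟩⟩

theorem not_existsUnique_of_two (R : Subgroup G) (M₁ M₂ : Subgroup G) (h1 : IsCoatom M₁)
    (h2 : IsCoatom M₂) (hR1 : R ≤ M₁) (hR2 : R ≤ M₂) (hne : M₁ ≠ M₂) :
    ¬ ∃! M : Subgroup G, IsCoatom M ∧ R ≤ M := by
  rintro ⟨M, -, huniq⟩
  exact hne ((huniq M₁ ⟨h1, hR1⟩).trans (huniq M₂ ⟨h2, hR2⟩).symm)

theorem not_existsUnique_of_sup [Finite G] (R : Subgroup G) (W₁ W₂ : Subgroup G) (h1 : W₁ ≠ ⊤)
    (h2 : W₂ ≠ ⊤) (hR1 : R ≤ W₁) (hR2 : R ≤ W₂) (hsup : W₁ ⊔ W₂ = ⊤) :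
    ¬ ∃! M : Subgroup G, IsCoatom M ∧ R ≤ M := by
  obtain ⟨M₁, hM₁, hle1⟩ := (eq_top_or_exists_le_coatom W₁).resolve_left h1
  obtain ⟨M₂, hM₂, hle2⟩ := (eq_top_or_exists_le_coatom W₂).resolve_left h2
  apply not_existsUnique_of_two R M₁ M₂ hM₁ hM₂ (hR1.trans hle1) (hR2.trans hle2)
  intro heq
  apply hM₁.1
  rw [eq_top_iff, ← hsup]
  exact sup_le hle1 (heq ▸ hle2)

end generic

section perm

variable {Ω : Type*} [Fintype Ω] [DecidableEq Ω]

theorem sylow_perm_swap_mem (R : Sylow 2 (Equiv.Perm Ω)) (h2 : 2 ≤ Nat.card Ω) :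
    ∃ a b : Ω, a ≠ b ∧ Equiv.swap a b ∈ R := by
  haveI : Fact (Nat.Prime 2) := ⟨Nat.prime_two⟩
  have hnt : Nontrivial Ω := by
    rw [← Finite.one_lt_card_iff_nontrivial]; omega
  obtain ⟨a, b, hab⟩ := exists_pair_ne Ω
  have hQ : IsPGroup 2 (Subgroup.zpowers (Equiv.swap a b)) := by
    rw [IsPGroup.iff_card, Nat.card_zpowers, (Equiv.Perm.swap_isSwap_iff.mpr hab).orderOf]
    exact ⟨1, by norm_num⟩
  obtain ⟨P, hP⟩ := hQ.exists_le_sylow
  obtain ⟨g, hg⟩ := MulAction.exists_smul_eq (Equiv.Perm Ω) R P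
  refine ⟨g⁻¹ a, g⁻¹ b, fun h => hab (g⁻¹.injective h), ?_⟩
  have h1 : Equiv.swap a b ∈ g • R := by
    rw [hg]; exact hP (Subgroup.mem_zpowers _)
  rw [NSymMax.mem_sylow_smul_iff'] at h1
  rw [Equiv.swap_apply_apply]
  simpa using h1

theorem perm_unique (k : ℕ) (hk : 2 ≤ k) (hn : Nat.card Ω = 2 ^ k + 1)
    (R : Sylow 2 (Equiv.Perm Ω)) :
    ∃! M : Subgroup (Equiv.Perm Ω), IsCoatom M ∧ (R : Subgroup (Equiv.Perm Ω)) ≤ M := by
  have hk4 : 4 ≤ 2 ^ k := by
    calc 4 = 2 ^ 2 := by norm_num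
      _ ≤ 2 ^ k := Nat.pow_le_pow_right (by norm_num) hk
  have hodd : Odd (Nat.card Ω) := by
    rw [hn]
    exact (Nat.even_pow.mpr ⟨even_two, by omega⟩).add_one
  obtain ⟨x₀, hx₀⟩ := exists_fixed_point_of_odd (R : Subgroup (Equiv.Perm Ω)) R.isPGroup' hodd
  have hco : IsCoatom (stabilizer (Equiv.Perm Ω) ({x₀} : Set Ω)) := by
    apply Equiv.Perm.isCoatom_stabilizer (Set.singleton_nonempty x₀)
    · rw [← Set.ncard_pos, Set.ncard_compl, Set.ncard_singleton]
      omega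
    · rw [Set.ncard_singleton]; omega
  refine ⟨stabilizer (Equiv.Perm Ω) ({x₀} : Set Ω), ⟨hco, ?_⟩, ?_⟩
  · intro r hr
    rw [stabilizer_singleton]
    exact mem_stabilizer_iff.mpr (hx₀ r hr)
  · rintro M ⟨hM, hRM⟩
    rcases stab_or_primitive R k hk hn (fun m => Set.powersetCard.isPretransitive) x₀ hx₀ M hRM
      with h | h
    · rw [← stabilizer_singleton] at h
      by_contra hne
      exact hco.1 (hM.2 _ (lt_of_le_of_ne h hne))
    · exfalso
      obtain ⟨a, b, hab, hmem⟩ := sylow_perm_swap_mem R (by omega)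
      exact hM.1 (Equiv.Perm.subgroup_eq_top_of_isPreprimitive_of_isSwap_mem h _
        (Equiv.Perm.swap_isSwap_iff.mpr hab) (hRM hmem))

end perm

open Cfsg.Agent.Lib.Helper1.NSym
open scoped Pointwise
open MulAction Equiv

section dt

variable {Ω : Type*} [DecidableEq Ω]

/-- double transposition -/
def dt (a b c d : Ω) : Perm Ω := swap a b * swap c d

theorem dt_conj (g : Perm Ω) (a b c d : Ω) :
    g * dt a b c d * g⁻¹ = dt (g a) (g b) (g c) (g d) := by
  unfold dt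
  rw [Equiv.swap_apply_apply, Equiv.swap_apply_apply]
  group

theorem dt_mul_self {a b c d : Ω} (h : [a, b, c, d].Nodup) : dt a b c d * dt a b c d = 1 := by
  unfold dt
  have hc : Commute (swap a b) (swap c d) := (Perm.disjoint_swap_swap h).commute
  rw [hc.symm.mul_mul_mul_comm, swap_mul_self, swap_mul_self, one_mul]

theorem dt_mul_dt {a b c d : Ω} (h : [a, b, c, d].Nodup) :
    dt a b c d * dt a c b d = dt a d b c := by
  unfold dt
  simp only [List.nodup_cons, List.mem_cons, List.not_mem_nil, or_false, not_or, and_true,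
    List.nodup_nil, not_false_eq_true] at h
  obtain ⟨⟨hab, hac, had⟩, ⟨hbc, hbd⟩, hcd⟩ := h
  have hba := Ne.symm hab
  have hca := Ne.symm hac
  have hda := Ne.symm had
  have hcb := Ne.symm hbc
  have hdb := Ne.symm hbd
  have hdc := Ne.symm hcd
  ext z
  simp only [Perm.mul_apply]
  by_cases hza : z = a
  · subst hza
    simp [swap_apply_of_ne_of_ne, *]
  by_cases hzb : z = b
  · subst hzb
    simp [swap_apply_of_ne_of_ne, *]
  by_cases hzc : z = c
  · subst hzc
    simp [swap_apply_of_ne_of_ne, *]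
  by_cases hzd : z = d
  · subst hzd
    simp [swap_apply_of_ne_of_ne, *]
  simp [swap_apply_of_ne_of_ne, *]

/-- `M` contains the Klein four group on `{a,b,c,d}`. -/
def HasV (M : Subgroup (Perm Ω)) (a b c d : Ω) : Prop :=
  dt a b c d ∈ M ∧ dt a c b d ∈ M ∧ dt a d b c ∈ M

theorem dt_inv (a b c d : Ω) : (dt a b c d)⁻¹ = dt c d a b := by
  unfold dt
  rw [mul_inv_rev, swap_inv, swap_inv]

theorem HasV.s12 {M : Subgroup (Perm Ω)} {a b c d : Ω} (h : HasV M a b c d) : HasV M b a c d := by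
  obtain ⟨h1, h2, h3⟩ := h
  refine ⟨?_, ?_, ?_⟩
  · unfold dt at *; rwa [swap_comm b a]
  · have := M.inv_mem h3
    rwa [dt_inv] at this
  · have := M.inv_mem h2
    rwa [dt_inv] at this

theorem HasV.s23 {M : Subgroup (Perm Ω)} {a b c d : Ω} (h : HasV M a b c d) : HasV M a c b d := by
  obtain ⟨h1, h2, h3⟩ := h
  refine ⟨h2, h1, ?_⟩
  unfold dt at *; rwa [swap_comm c b]

theorem HasV.s34 {M : Subgroup (Perm Ω)} {a b c d : Ω} (h : HasV M a b c d) : HasV M a b d c := by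
  obtain ⟨h1, h2, h3⟩ := h
  refine ⟨?_, h3, h2⟩
  unfold dt at *; rwa [swap_comm d c]

theorem HasV.perm {M : Subgroup (Perm Ω)} {a : Fin 4 → Ω} (h : HasV M (a 0) (a 1) (a 2) (a 3))
    (u₁ u₂ u₃ u₄ : Fin 4) (hn : [u₁, u₂, u₃, u₄].Nodup) : HasV M (a u₁) (a u₂) (a u₃) (a u₄) := by
  fin_cases u₁ <;> fin_cases u₂ <;> fin_cases u₃ <;> fin_cases u₄ <;>
  first
  | (exfalso; revert hn; decide)
  | exact h
  | exact h.s12
  | exact h.s23
  | exact h.s34
  | exact h.s12.s23
  | exact h.s12.s34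
  | exact h.s23.s12
  | exact h.s23.s34
  | exact h.s34.s23
  | exact h.s12.s23.s12
  | exact h.s12.s23.s34
  | exact h.s23.s12.s34
  | exact h.s23.s34.s23
  | exact h.s34.s23.s12
  | exact h.s12.s34.s23
  | exact h.s23.s34.s12
  | exact h.s12.s23.s12.s34
  | exact h.s12.s23.s34.s23
  | exact h.s23.s12.s34.s23
  | exact h.s12.s34.s23.s12
  | exact h.s23.s34.s23.s12
  | exact h.s34.s23.s12.s23
  | exact h.s12.s23.s34.s12
  | exact h.s23.s12.s34.s23.s12
  | exact h.s12.s23.s12.s34.s23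
  | exact h.s12.s23.s34.s23.s12
  | exact h.s12.s23.s12.s34.s23.s12

theorem HasV.conj {M : Subgroup (Perm Ω)} {a b c d : Ω} (h : HasV M a b c d) (g : Perm Ω)
    (hg : g ∈ M) : HasV M (g a) (g b) (g c) (g d) := by
  obtain ⟨h1, h2, h3⟩ := h
  refine ⟨?_, ?_, ?_⟩ <;> rw [← dt_conj]
  · exact M.mul_mem (M.mul_mem hg h1) (M.inv_mem hg)
  · exact M.mul_mem (M.mul_mem hg h2) (M.inv_mem hg)
  · exact M.mul_mem (M.mul_mem hg h3) (M.inv_mem hg)

variable [Fintype Ω]

theorem key_b {M : Subgroup (Perm Ω)} {x s p q r : Ω} (h1 : HasV M x p q r) (h2 : HasV M s p q r)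
    (hn : [x, s, p, q, r].Nodup) : ∃ c ∈ M, c.IsThreeCycle := by
  simp only [List.nodup_cons, List.mem_cons, List.not_mem_nil, or_false, not_or, and_true,
    List.nodup_nil, not_false_eq_true] at hn
  obtain ⟨⟨hxs, hxp, hxq, hxr⟩, ⟨hsp, hsq, hsr⟩, ⟨hpq, hpr⟩, hqr⟩ := hn
  refine ⟨dt s p q r * dt x p q r, M.mul_mem h2.1 h1.1, ?_⟩
  have hc : Commute (swap q r) (swap x p) := by
    apply Perm.Disjoint.commute
    apply Perm.disjoint_swap_swap
    simp [hxp, hqr, Ne.symm hxq, Ne.symm hxr, Ne.symm hpq, Ne.symm hpr]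
  have : dt s p q r * dt x p q r = swap p s * swap p x := by
    unfold dt
    rw [hc.mul_mul_mul_comm, swap_mul_self, mul_one, swap_comm s p, swap_comm x p]
  rw [this]
  exact Perm.isThreeCycle_swap_mul_swap_same (Ne.symm hsp) (Ne.symm hxp) (Ne.symm hxs)

theorem key_a {M : Subgroup (Perm Ω)} {x p q r b1 b2 b3 : Ω} (h1 : HasV M x p q r)
    (h2 : HasV M p b1 b2 b3)
    (hn : [x, p, q, r, b1, b2, b3].Nodup) : ∃ c ∈ M, c.IsThreeCycle := by
  simp only [List.nodup_cons, List.mem_cons, List.not_mem_nil, or_false, not_or, and_true,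
    List.nodup_nil, not_false_eq_true] at hn
  obtain ⟨⟨hxp, hxq, hxr, hx1, hx2, hx3⟩, ⟨hpq, hpr, hp1, hp2, hp3⟩, ⟨hqr, hq1, hq2, hq3⟩,
    ⟨hr1, hr2, hr3⟩, ⟨h12, h13⟩, h23⟩ := hn
  refine ⟨(dt x p q r * dt p b1 b2 b3) * (dt x p q r * dt p b1 b2 b3),
    M.mul_mem (M.mul_mem h1.1 h2.1) (M.mul_mem h1.1 h2.1), ?_⟩
  have hBC : Commute (swap q r) (swap p b1) := by
    apply Perm.Disjoint.commute
    apply Perm.disjoint_swap_swap
    simp [*, Ne.symm hpq, Ne.symm hpr]
  have hBA : Commute (swap q r) (swap x p) := by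
    apply Perm.Disjoint.commute
    apply Perm.disjoint_swap_swap
    simp [*, Ne.symm hpq, Ne.symm hpr, Ne.symm hxq, Ne.symm hxr]
  have hBD : Commute (swap q r) (swap b2 b3) := by
    apply Perm.Disjoint.commute
    apply Perm.disjoint_swap_swap
    simp [*]
  have hDA : Commute (swap b2 b3) (swap x p) := by
    apply Perm.Disjoint.commute
    apply Perm.disjoint_swap_swap
    simp [*, Ne.symm hx2, Ne.symm hx3, Ne.symm hp2, Ne.symm hp3]
  have hDC : Commute (swap b2 b3) (swap p b1) := by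
    apply Perm.Disjoint.commute
    apply Perm.disjoint_swap_swap
    simp [*, Ne.symm hp2, Ne.symm hp3, Ne.symm h12, Ne.symm h13]
  have e1 : dt x p q r * dt p b1 b2 b3 = (swap x p * swap p b1) * (swap q r * swap b2 b3) := by
    unfold dt
    rw [hBC.mul_mul_mul_comm]
  have hW : Commute (swap q r * swap b2 b3) (swap x p * swap p b1) :=
    (hBA.mul_right hBC).mul_left (hDA.mul_right hDC)
  have hW2 : (swap q r * swap b2 b3) * (swap q r * swap b2 b3) = 1 := by
    rw [hBD.symm.mul_mul_mul_comm, swap_mul_self, swap_mul_self, one_mul]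
  rw [e1, hW.mul_mul_mul_comm, hW2, mul_one, swap_comm x p]
  exact (Perm.isThreeCycle_swap_mul_swap_same (Ne.symm hxp) hp1 hx1).isThreeCycle_sq

end dt

open Cfsg.Agent.Lib.Helper1.NSym
open scoped Pointwise
open MulAction Equiv

section three

variable {Ω : Type*} [DecidableEq Ω] [Fintype Ω]

theorem fin4_others (c : Fin 4) : ∃ c₁ c₂ c₃ : Fin 4, [c, c₁, c₂, c₃].Nodup := by
  revert c; decide

theorem fin4_fourth (c d e : Fin 4) (h1 : c ≠ d) (h2 : c ≠ e) (h3 : d ≠ e) :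
    ∃ f : Fin 4, [f, c, d, e].Nodup := by
  revert c d e; decide

theorem exists_outside (m : ℕ) (hn : Nat.card Ω = 4 * m + 1) (y : Fin m → Fin 4 → Ω)
    (hy : ∀ i c j d, y i c = y j d → i = j ∧ c = d) :
    ∃ x : Ω, (∀ i c, y i c ≠ x) ∧ ∀ z, z ≠ x → ∃ i c, y i c = z := by
  let Y : Fin m × Fin 4 → Ω := fun p => y p.1 p.2
  have hY : Function.Injective Y := by
    rintro ⟨i, c⟩ ⟨j, d⟩ h
    obtain ⟨h1, h2⟩ := hy i c j d h
    rw [h1, h2]
  have h1 : (Set.range Y).ncard = 4 * m := by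
    rw [← Set.image_univ, Set.ncard_image_of_injective _ hY, Set.ncard_univ, Nat.card_eq_fintype_card]
    simp [mul_comm]
  have h2 : (Set.range Y)ᶜ.ncard = 1 := by
    have := Set.ncard_add_ncard_compl (Set.range Y)
    omega
  rw [Set.ncard_eq_one] at h2
  obtain ⟨x, hx⟩ := h2
  refine ⟨x, ?_, ?_⟩
  · intro i c h
    have : x ∈ (Set.range Y)ᶜ := by rw [hx]; rfl
    exact this ⟨(i, c), h⟩
  · intro z hz
    by_contra hcon
    have : z ∈ (Set.range Y)ᶜ := by
      rintro ⟨⟨i, c⟩, h⟩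
      exact hcon ⟨i, c, h⟩
    rw [hx] at this
    exact hz this

theorem sub_a {M : Subgroup (Perm Ω)} {m : ℕ} (y : Fin m → Fin 4 → Ω)
    (hy : ∀ i c j d, y i c = y j d → i = j ∧ c = d)
    (hV : ∀ i, HasV M (y i 0) (y i 1) (y i 2) (y i 3))
    (x : Ω) (hx : ∀ i c, y i c ≠ x) (i j l : Fin m) (c d e : Fin 4)
    (h : HasV M x (y i c) (y j d) (y l e)) (hn : [x, y i c, y j d, y l e].Nodup)
    (hij : i ≠ j) (hil : i ≠ l) : ∃ t ∈ M, t.IsThreeCycle := by
  obtain ⟨c₁, c₂, c₃, hc⟩ := fin4_others c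
  have h2 : HasV M (y i c) (y i c₁) (y i c₂) (y i c₃) :=
    HasV.perm (a := y i) (hV i) c c₁ c₂ c₃ hc
  apply key_a h h2
  simp only [List.nodup_cons, List.mem_cons, List.not_mem_nil, or_false, not_or, and_true,
    List.nodup_nil, not_false_eq_true] at hn hc ⊢
  obtain ⟨⟨hxp, hxq, hxr⟩, ⟨hpq, hpr⟩, hqr⟩ := hn
  obtain ⟨⟨hc1, hc2, hc3⟩, ⟨h12, h13⟩, h23⟩ := hc
  refine ⟨⟨hxp, hxq, hxr, (hx _ _).symm, (hx _ _).symm, (hx _ _).symm⟩, ⟨hpq, hpr, ?_, ?_, ?_⟩,
    ⟨hqr, ?_, ?_, ?_⟩, ⟨?_, ?_, ?_⟩, ⟨?_, ?_⟩, ?_⟩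
  · intro h; exact hc1 (hy _ _ _ _ h).2
  · intro h; exact hc2 (hy _ _ _ _ h).2
  · intro h; exact hc3 (hy _ _ _ _ h).2
  · intro h; exact hij (hy _ _ _ _ h).1.symm
  · intro h; exact hij (hy _ _ _ _ h).1.symm
  · intro h; exact hij (hy _ _ _ _ h).1.symm
  · intro h; exact hil (hy _ _ _ _ h).1.symm
  · intro h; exact hil (hy _ _ _ _ h).1.symm
  · intro h; exact hil (hy _ _ _ _ h).1.symm
  · intro h; exact h12 (hy _ _ _ _ h).2
  · intro h; exact h13 (hy _ _ _ _ h).2
  · intro h; exact h23 (hy _ _ _ _ h).2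

theorem sub_b {M : Subgroup (Perm Ω)} {m : ℕ} (y : Fin m → Fin 4 → Ω)
    (hy : ∀ i c j d, y i c = y j d → i = j ∧ c = d)
    (hV : ∀ i, HasV M (y i 0) (y i 1) (y i 2) (y i 3))
    (x : Ω) (hx : ∀ i c, y i c ≠ x) (i : Fin m) (c d e : Fin 4)
    (h : HasV M x (y i c) (y i d) (y i e)) (hn : [x, y i c, y i d, y i e].Nodup) :
    ∃ t ∈ M, t.IsThreeCycle := by
  simp only [List.nodup_cons, List.mem_cons, List.not_mem_nil, or_false, not_or, and_true,
    List.nodup_nil, not_false_eq_true] at hn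
  obtain ⟨⟨hxp, hxq, hxr⟩, ⟨hpq, hpr⟩, hqr⟩ := hn
  have hcd : c ≠ d := fun h => hpq (by rw [h])
  have hce : c ≠ e := fun h => hpr (by rw [h])
  have hde : d ≠ e := fun h => hqr (by rw [h])
  obtain ⟨f, hf⟩ := fin4_fourth c d e hcd hce hde
  have h2 : HasV M (y i f) (y i c) (y i d) (y i e) :=
    HasV.perm (a := y i) (hV i) f c d e hf
  apply key_b h h2
  simp only [List.nodup_cons, List.mem_cons, List.not_mem_nil, or_false, not_or, and_true,
    List.nodup_nil, not_false_eq_true] at hf ⊢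
  obtain ⟨⟨hfc, hfd, hfe⟩, -⟩ := hf
  refine ⟨⟨(hx _ _).symm, hxp, hxq, hxr⟩, ⟨?_, ?_, ?_⟩, ⟨hpq, hpr⟩, hqr⟩
  · intro h; exact hfc (hy _ _ _ _ h).2
  · intro h; exact hfd (hy _ _ _ _ h).2
  · intro h; exact hfe (hy _ _ _ _ h).2

theorem exists_three_cycle (M : Subgroup (Perm Ω)) [IsPretransitive M Ω] (m : ℕ) (hm : 1 ≤ m)
    (hn : Nat.card Ω = 4 * m + 1) (y : Fin m → Fin 4 → Ω)
    (hy : ∀ i c j d, y i c = y j d → i = j ∧ c = d)
    (hV : ∀ i, HasV M (y i 0) (y i 1) (y i 2) (y i 3)) : ∃ t ∈ M, t.IsThreeCycle := by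
  obtain ⟨x, hx, hx'⟩ := exists_outside m hn y hy
  let i₀ : Fin m := ⟨0, hm⟩
  obtain ⟨⟨g, hg⟩, hga⟩ := exists_smul_eq M (y i₀ 0) x
  change g (y i₀ 0) = x at hga
  have h0 : HasV M x (g (y i₀ 1)) (g (y i₀ 2)) (g (y i₀ 3)) := by
    have := (hV i₀).conj g hg
    rwa [hga] at this
  have hne : ∀ c : Fin 4, c ≠ 0 → g (y i₀ c) ≠ x := by
    intro c hc h
    rw [← hga] at h
    exact hc (hy _ _ _ _ (g.injective h)).2
  obtain ⟨i, c, hp⟩ := hx' _ (hne 1 (by decide))
  obtain ⟨j, d, hq⟩ := hx' _ (hne 2 (by decide))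
  obtain ⟨l, e, hr⟩ := hx' _ (hne 3 (by decide))
  have hnd : [x, g (y i₀ 1), g (y i₀ 2), g (y i₀ 3)].Nodup := by
    simp only [List.nodup_cons, List.mem_cons, List.not_mem_nil, or_false, not_or, and_true,
      List.nodup_nil, not_false_eq_true]
    refine ⟨⟨(hne 1 (by decide)).symm, (hne 2 (by decide)).symm, (hne 3 (by decide)).symm⟩,
      ⟨?_, ?_⟩, ?_⟩
    · intro h; exact absurd (hy _ _ _ _ (g.injective h)).2 (by decide)
    · intro h; exact absurd (hy _ _ _ _ (g.injective h)).2 (by decide)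
    · intro h; exact absurd (hy _ _ _ _ (g.injective h)).2 (by decide)
  rw [← hp, ← hq, ← hr] at h0 hnd
  by_cases hij : i = j
  · by_cases hjl : j = l
    · subst hij hjl
      exact sub_b y hy hV x hx i c d e h0 hnd
    · -- l differs from i = j
      subst hij
      have h0' : HasV M x (y l e) (y i d) (y i c) := h0.s23.s34.s23
      apply sub_a y hy hV x hx l i i e d c h0' _ (Ne.symm hjl) (Ne.symm hjl)
      simp only [List.nodup_cons, List.mem_cons, List.not_mem_nil, or_false, not_or, and_true,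
        List.nodup_nil, not_false_eq_true] at hnd ⊢
      obtain ⟨⟨hxp, hxq, hxr⟩, ⟨hpq, hpr⟩, hqr⟩ := hnd
      exact ⟨⟨hxr, hxq, hxp⟩, ⟨Ne.symm hqr, Ne.symm hpr⟩, Ne.symm hpq⟩
  · by_cases hil : i = l
    · -- j differs from i = l
      subst hil
      have h0' : HasV M x (y j d) (y i c) (y i e) := h0.s23
      apply sub_a y hy hV x hx j i i d c e h0' _ (Ne.symm hij) (Ne.symm hij)
      simp only [List.nodup_cons, List.mem_cons, List.not_mem_nil, or_false, not_or, and_true,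
        List.nodup_nil, not_false_eq_true] at hnd ⊢
      obtain ⟨⟨hxp, hxq, hxr⟩, ⟨hpq, hpr⟩, hqr⟩ := hnd
      exact ⟨⟨hxq, hxp, hxr⟩, ⟨Ne.symm hpq, hqr⟩, hpr⟩
    · exact sub_a y hy hV x hx i j l c d e h0 hnd hij hil

end three

open Cfsg.Agent.Lib.Helper1.NSym
open scoped Pointwise
open MulAction Equiv

section blocks

variable {Ω : Type*} [DecidableEq Ω] [Fintype Ω]

theorem dt_mem_alt {a b c d : Ω} (hab : a ≠ b) (hcd : c ≠ d) : dt a b c d ∈ alternatingGroup Ω := by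
  rw [Perm.mem_alternatingGroup]
  unfold dt
  rw [Perm.sign_mul, Perm.sign_swap hab, Perm.sign_swap hcd]
  rfl

theorem dt_disjoint {a b c d a' b' c' d' : Ω} (h1 : [a, b, a', b'].Nodup) (h2 : [a, b, c', d'].Nodup)
    (h3 : [c, d, a', b'].Nodup) (h4 : [c, d, c', d'].Nodup) :
    Perm.Disjoint (dt a b c d) (dt a' b' c' d') := by
  unfold dt
  apply Perm.Disjoint.mul_left
  · apply Perm.Disjoint.mul_right
    · exact Perm.disjoint_swap_swap h1
    · exact Perm.disjoint_swap_swap h2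
  · apply Perm.Disjoint.mul_right
    · exact Perm.disjoint_swap_swap h3
    · exact Perm.disjoint_swap_swap h4

theorem nodup4 {m : ℕ} (y : Fin m → Fin 4 → Ω)
    (hy : ∀ i c j d, y i c = y j d → i = j ∧ c = d) (i j : Fin m) (hij : i ≠ j)
    (u₁ u₂ v₁ v₂ : Fin 4) (hu : u₁ ≠ u₂) (hv : v₁ ≠ v₂) :
    [y i u₁, y i u₂, y j v₁, y j v₂].Nodup := by
  simp only [List.nodup_cons, List.mem_cons, List.not_mem_nil, or_false, not_or, and_true,
    List.nodup_nil, not_false_eq_true]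
  refine ⟨⟨?_, ?_, ?_⟩, ⟨?_, ?_⟩, ?_⟩
  · intro h; exact hu (hy _ _ _ _ h).2
  · intro h; exact hij (hy _ _ _ _ h).1
  · intro h; exact hij (hy _ _ _ _ h).1
  · intro h; exact hij (hy _ _ _ _ h).1
  · intro h; exact hij (hy _ _ _ _ h).1
  · intro h; exact hv (hy _ _ _ _ h).2

theorem nodup_block {m : ℕ} (y : Fin m → Fin 4 → Ω)
    (hy : ∀ i c j d, y i c = y j d → i = j ∧ c = d) (i : Fin m)
    (u₁ u₂ u₃ u₄ : Fin 4) (hu : [u₁, u₂, u₃, u₄].Nodup) :
    [y i u₁, y i u₂, y i u₃, y i u₄].Nodup := by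
  simp only [List.nodup_cons, List.mem_cons, List.not_mem_nil, or_false, not_or, and_true,
    List.nodup_nil, not_false_eq_true] at hu ⊢
  obtain ⟨⟨h12, h13, h14⟩, ⟨h23, h24⟩, h34⟩ := hu
  refine ⟨⟨?_, ?_, ?_⟩, ⟨?_, ?_⟩, ?_⟩
  · intro h; exact h12 (hy _ _ _ _ h).2
  · intro h; exact h13 (hy _ _ _ _ h).2
  · intro h; exact h14 (hy _ _ _ _ h).2
  · intro h; exact h23 (hy _ _ _ _ h).2
  · intro h; exact h24 (hy _ _ _ _ h).2
  · intro h; exact h34 (hy _ _ _ _ h).2

/-- The generating set of the elementary abelian group `E`. -/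
def genSet {m : ℕ} (y : Fin m → Fin 4 → Ω) : Set (Perm Ω) :=
  {t | ∃ i, t = dt (y i 0) (y i 1) (y i 2) (y i 3) ∨ t = dt (y i 0) (y i 2) (y i 1) (y i 3)}

theorem genSet_comm {m : ℕ} (y : Fin m → Fin 4 → Ω)
    (hy : ∀ i c j d, y i c = y j d → i = j ∧ c = d) :
    ∀ s ∈ genSet y, ∀ t ∈ genSet y, s * t = t * s := by
  rintro s ⟨i, hs⟩ t ⟨j, ht⟩
  by_cases hij : i = j
  · subst hij
    have e1 := dt_mul_dt (nodup_block y hy i 0 1 2 3 (by decide))
    have e2 := dt_mul_dt (nodup_block y hy i 0 2 1 3 (by decide))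
    have e3 : dt (y i 0) (y i 3) (y i 2) (y i 1) = dt (y i 0) (y i 3) (y i 1) (y i 2) := by
      unfold dt; rw [swap_comm (y i 2)]
    rcases hs with rfl | rfl <;> rcases ht with rfl | rfl
    · rfl
    · rw [e1, e2, e3]
    · rw [e1, e2, e3]
    · rfl
  · have hd : Perm.Disjoint s t := by
      rcases hs with rfl | rfl <;> rcases ht with rfl | rfl <;>
      apply dt_disjoint <;> apply nodup4 y hy i j hij <;> decide
    exact hd.commute.eq

theorem genSet_invol {m : ℕ} (y : Fin m → Fin 4 → Ω)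
    (hy : ∀ i c j d, y i c = y j d → i = j ∧ c = d) :
    ∀ t ∈ genSet y, t * t = 1 := by
  rintro t ⟨i, rfl | rfl⟩
  · exact dt_mul_self (nodup_block y hy i 0 1 2 3 (by decide))
  · exact dt_mul_self (nodup_block y hy i 0 2 1 3 (by decide))

theorem genSet_le_alt {m : ℕ} (y : Fin m → Fin 4 → Ω)
    (hy : ∀ i c j d, y i c = y j d → i = j ∧ c = d) :
    Subgroup.closure (genSet y) ≤ alternatingGroup Ω := by
  rw [Subgroup.closure_le]
  rintro t ⟨i, rfl | rfl⟩
  · apply dt_mem_alt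
    · intro h; exact absurd (hy _ _ _ _ h).2 (by decide)
    · intro h; exact absurd (hy _ _ _ _ h).2 (by decide)
  · apply dt_mem_alt
    · intro h; exact absurd (hy _ _ _ _ h).2 (by decide)
    · intro h; exact absurd (hy _ _ _ _ h).2 (by decide)

theorem exists_blocks (m : ℕ) (hn : Nat.card Ω = 4 * m + 1) (R : Sylow 2 (alternatingGroup Ω)) :
    ∃ y : Fin m → Fin 4 → Ω, (∀ i c j d, y i c = y j d → i = j ∧ c = d) ∧
      ∀ i, HasV ((R : Subgroup (alternatingGroup Ω)).map (alternatingGroup Ω).subtype)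
        (y i 0) (y i 1) (y i 2) (y i 3) := by
  haveI : Fact (Nat.Prime 2) := ⟨Nat.prime_two⟩
  have hcard : Fintype.card (Fin m × Fin 4) ≤ Fintype.card Ω := by
    rw [← Nat.card_eq_fintype_card (α := Ω), hn]
    simp [mul_comm]
  obtain ⟨Y⟩ := Function.Embedding.nonempty_of_card_le hcard
  let y₀ : Fin m → Fin 4 → Ω := fun i c => Y (i, c)
  have hy₀ : ∀ i c j d, y₀ i c = y₀ j d → i = j ∧ c = d := by
    intro i c j d h
    have := Y.injective h
    exact ⟨congrArg Prod.fst this, congrArg Prod.snd this⟩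
  have hE : IsPGroup 2 (Subgroup.closure (genSet y₀)) :=
    SylUniq.isPGroup_closure_of_comm_invol (genSet_comm y₀ hy₀) (genSet_invol y₀ hy₀)
  have hEle := genSet_le_alt y₀ hy₀
  have hE' : IsPGroup 2 ((Subgroup.closure (genSet y₀)).subgroupOf (alternatingGroup Ω)) :=
    hE.comap_subtype
  obtain ⟨P, hP⟩ := hE'.exists_le_sylow
  obtain ⟨g, hg⟩ := MulAction.exists_smul_eq (alternatingGroup Ω) P R
  have hgen : ∀ t ∈ genSet y₀, (g : Perm Ω) * t * (g : Perm Ω)⁻¹ ∈
      (R : Subgroup (alternatingGroup Ω)).map (alternatingGroup Ω).subtype := by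
    intro t ht
    have htE : t ∈ Subgroup.closure (genSet y₀) := Subgroup.subset_closure ht
    have htA : t ∈ alternatingGroup Ω := hEle htE
    have htP : (⟨t, htA⟩ : alternatingGroup Ω) ∈ P := by
      apply hP
      rw [Subgroup.mem_subgroupOf]
      exact htE
    have : g * ⟨t, htA⟩ * g⁻¹ ∈ R := by
      rw [← hg, NSymMax.mem_sylow_smul_iff']
      simpa [mul_assoc] using htP
    exact ⟨_, this, rfl⟩
  refine ⟨fun i c => (g : Perm Ω) (y₀ i c), ?_, ?_⟩
  · intro i c j d h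
    exact hy₀ _ _ _ _ ((g : Perm Ω).injective h)
  · intro i
    have h1 : dt ((g : Perm Ω) (y₀ i 0)) ((g : Perm Ω) (y₀ i 1)) ((g : Perm Ω) (y₀ i 2))
        ((g : Perm Ω) (y₀ i 3)) ∈
        (R : Subgroup (alternatingGroup Ω)).map (alternatingGroup Ω).subtype := by
      rw [← dt_conj]
      exact hgen _ ⟨i, Or.inl rfl⟩
    have h2 : dt ((g : Perm Ω) (y₀ i 0)) ((g : Perm Ω) (y₀ i 2)) ((g : Perm Ω) (y₀ i 1))
        ((g : Perm Ω) (y₀ i 3)) ∈
        (R : Subgroup (alternatingGroup Ω)).map (alternatingGroup Ω).subtype := by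
      rw [← dt_conj]
      exact hgen _ ⟨i, Or.inr rfl⟩
    refine ⟨h1, h2, ?_⟩
    have hnd : [(g : Perm Ω) (y₀ i 0), (g : Perm Ω) (y₀ i 1), (g : Perm Ω) (y₀ i 2),
        (g : Perm Ω) (y₀ i 3)].Nodup := by
      have := nodup_block (fun i c => (g : Perm Ω) (y₀ i c))
        (fun i c j d h => hy₀ _ _ _ _ ((g : Perm Ω).injective h)) i 0 1 2 3 (by decide)
      exact this
    rw [← dt_mul_dt hnd]
    exact Subgroup.mul_mem _ h1 h2

end blocks

open Cfsg.Agent.Lib.Helper1.NSym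
open scoped Pointwise
open MulAction Equiv

section alt

variable {Ω : Type*} [DecidableEq Ω] [Fintype Ω]

theorem alt_unique (k : ℕ) (hk : 2 ≤ k) (hn : Nat.card Ω = 2 ^ k + 1)
    (R : Sylow 2 (alternatingGroup Ω)) :
    ∃! M : Subgroup (alternatingGroup Ω), IsCoatom M ∧ (R : Subgroup (alternatingGroup Ω)) ≤ M := by
  have hk4 : 4 ≤ 2 ^ k := by
    calc 4 = 2 ^ 2 := by norm_num
      _ ≤ 2 ^ k := Nat.pow_le_pow_right (by norm_num) hk
  have hodd : Odd (Nat.card Ω) := by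
    rw [hn]
    exact (Nat.even_pow.mpr ⟨even_two, by omega⟩).add_one
  obtain ⟨x₀, hx₀⟩ := exists_fixed_point_of_odd (Ω := Ω) (R : Subgroup (alternatingGroup Ω))
    R.isPGroup' hodd
  have hco : IsCoatom (stabilizer (alternatingGroup Ω) ({x₀} : Set Ω)) := by
    apply alternatingGroup.isCoatom_stabilizer (Set.singleton_nonempty x₀)
    · rw [← Set.ncard_pos, Set.ncard_compl, Set.ncard_singleton]
      omega
    · rw [Set.ncard_singleton]; omega
  refine ⟨stabilizer (alternatingGroup Ω) ({x₀} : Set Ω), ⟨hco, ?_⟩, ?_⟩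
  · intro r hr
    rw [stabilizer_singleton]
    exact mem_stabilizer_iff.mpr (hx₀ r hr)
  · rintro M ⟨hM, hRM⟩
    rcases stab_or_primitive R k hk hn
      (fun m => Set.powersetCard.isPretransitive_alternatingGroup (by omega)) x₀ hx₀ M hRM
      with h | h
    · rw [← stabilizer_singleton] at h
      by_contra hne
      exact hco.1 (hM.2 _ (lt_of_le_of_ne h hne))
    · exfalso
      apply hM.1
      -- the image of M in Perm Ω
      have hprim : IsPreprimitive (M.map (alternatingGroup Ω).subtype) Ω := by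
        let φ := (alternatingGroup Ω).subtype.subgroupMap M
        let f : Ω →ₑ[φ] Ω := {
          toFun := id
          map_smul' _ _ := rfl }
        rwa [← isPreprimitive_congr (f := f) ((alternatingGroup Ω).subtype.subgroupMap_surjective M)
          Function.bijective_id]
      have hm : 1 ≤ 2 ^ (k - 2) := Nat.one_le_two_pow
      have hn' : Nat.card Ω = 4 * 2 ^ (k - 2) + 1 := by
        rw [hn]
        congr 1
        obtain ⟨j, rfl⟩ := Nat.exists_eq_add_of_le hk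
        rw [Nat.add_sub_cancel_left, pow_add]
        norm_num
      obtain ⟨y, hy, hV⟩ := exists_blocks (2 ^ (k - 2)) hn' R
      have hV' : ∀ i, HasV (M.map (alternatingGroup Ω).subtype) (y i 0) (y i 1) (y i 2) (y i 3) := by
        intro i
        obtain ⟨h1, h2, h3⟩ := hV i
        have hle := Subgroup.map_mono (f := (alternatingGroup Ω).subtype) hRM
        exact ⟨hle h1, hle h2, hle h3⟩
      haveI := hprim.toIsPretransitive
      obtain ⟨t, htM, ht3⟩ := exists_three_cycle (M.map (alternatingGroup Ω).subtype)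
        (2 ^ (k - 2)) hm hn' y hy hV'
      have hle := Equiv.Perm.alternatingGroup_le_of_isPreprimitive_of_isThreeCycle_mem hprim ht3 htM
      rw [eq_top_iff]
      intro a _
      obtain ⟨b, hb, hba⟩ := hle a.2
      have : b = a := Subtype.ext hba
      rwa [← this]

end alt

open Cfsg.Agent.Lib.Helper1.NSym
open scoped Pointwise
open MulAction Equiv

section fpf

variable {Ω : Type*} [DecidableEq Ω] [Fintype Ω]

theorem odd_card_fpf (h : ℕ) (hh : 1 ≤ h) (hn : Fintype.card Ω = 2 * h) :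
    Odd (Finset.univ.filter (fun g : Perm Ω => g.cycleType = Multiset.replicate h 2)).card := by
  have := Perm.card_of_cycleType_mul_eq (α := Ω) (Multiset.replicate h 2)
  rw [if_pos] at this
  · apply odd_quot_factorial h
    rw [← hn, ← this]
    congr 1
    have h1 : (Multiset.replicate h 2).sum = 2 * h := by simp [mul_comm]
    have h2 : (Multiset.replicate h 2).prod = 2 ^ h := by simp
    have h3 : (Multiset.replicate h 2).toFinset = {2} := by
      ext a
      simp only [Multiset.mem_toFinset, Multiset.mem_replicate, Finset.mem_singleton]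
      constructor
      · rintro ⟨-, rfl⟩; rfl
      · rintro rfl; exact ⟨by omega, rfl⟩
    rw [h1, h2, h3, hn, Nat.sub_self, Nat.factorial_zero, one_mul, Finset.prod_singleton,
      Multiset.count_replicate_self]
  · refine ⟨by simp [hn, mul_comm], ?_⟩
    intro a ha
    rw [Multiset.mem_replicate] at ha
    omega

theorem exists_fpf_invol (K : Subgroup (Perm Ω)) (hK : IsPGroup 2 K) (h : ℕ) (hh : 1 ≤ h)
    (hn : Fintype.card Ω = 2 * h) :
    ∃ ζ : Perm Ω, ζ.cycleType = Multiset.replicate h 2 ∧ ∀ k ∈ K, k * ζ = ζ * k := by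
  haveI : Fact (Nat.Prime 2) := ⟨Nat.prime_two⟩
  let X := {g : Perm Ω // g.cycleType = Multiset.replicate h 2}
  letI : MulAction K X :=
    { smul := fun k σ => ⟨(k : Perm Ω) * σ.1 * (k : Perm Ω)⁻¹, by
        rw [Perm.cycleType_conj]; exact σ.2⟩
      one_smul := fun σ => by
        apply Subtype.ext
        change ((1 : K) : Perm Ω) * σ.1 * ((1 : K) : Perm Ω)⁻¹ = σ.1
        simp
      mul_smul := fun k₁ k₂ σ => by
        apply Subtype.ext
        change ((k₁ * k₂ : K) : Perm Ω) * σ.1 * ((k₁ * k₂ : K) : Perm Ω)⁻¹ =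
          (k₁ : Perm Ω) * ((k₂ : Perm Ω) * σ.1 * (k₂ : Perm Ω)⁻¹) * (k₁ : Perm Ω)⁻¹
        push_cast
        group }
  have hcard : ¬ 2 ∣ Nat.card X := by
    have := odd_card_fpf (Ω := Ω) h hh hn
    rw [Nat.card_eq_fintype_card, Fintype.card_subtype]
    intro h2
    rw [Nat.odd_iff] at this
    omega
  obtain ⟨σ, hσ⟩ := hK.nonempty_fixed_point_of_prime_not_dvd_card X hcard
  refine ⟨σ.1, σ.2, ?_⟩
  intro k hk
  have := hσ ⟨k, hk⟩
  have h2 : k * σ.1 * k⁻¹ = σ.1 := congrArg Subtype.val this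
  calc k * σ.1 = k * σ.1 * k⁻¹ * k := by group
    _ = σ.1 * k := by rw [h2]

theorem fpf_props {ζ : Perm Ω} {h : ℕ} (hh : 1 ≤ h) (hn : Fintype.card Ω = 2 * h)
    (hζ : ζ.cycleType = Multiset.replicate h 2) :
    (∀ x, ζ (ζ x) = x) ∧ ∀ x, ζ x ≠ x := by
  constructor
  · have h1 : orderOf ζ = 2 := by
      rw [← Perm.lcm_cycleType, hζ]
      obtain ⟨j, rfl⟩ := Nat.exists_eq_add_of_le hh
      rw [add_comm, Multiset.replicate_succ]
      clear hn hζ hh
      induction j with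
      | zero => simp
      | succ j ih => 
        rw [Multiset.replicate_succ, Multiset.lcm_cons, ih]
        rfl
    have h2 : ζ ^ 2 = 1 := by rw [← h1]; exact pow_orderOf_eq_one ζ
    intro x
    have := congrArg (fun f : Perm Ω => f x) h2
    simpa [pow_two] using this
  · have h1 : ζ.support.card = Fintype.card Ω := by
      rw [← Perm.sum_cycleType, hζ, hn]
      simp [mul_comm]
    have h2 : ζ.support = Finset.univ := Finset.eq_univ_of_card _ h1
    intro x
    rw [← Perm.mem_support, h2]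
    exact Finset.mem_univ x

end fpf

open Cfsg.Agent.Lib.Helper1.NSym
open scoped Pointwise
open MulAction Equiv

section cent

variable {Ω : Type*} [DecidableEq Ω]

theorem nodup4_iff {a b c d : Ω} : [a, b, c, d].Nodup ↔
    a ≠ b ∧ a ≠ c ∧ a ≠ d ∧ b ≠ c ∧ b ≠ d ∧ c ≠ d := by
  simp only [List.nodup_cons, List.mem_cons, List.not_mem_nil, or_false, not_or, and_true,
    List.nodup_nil, not_false_eq_true, ne_eq]
  tauto

theorem dt_apply_1 {a b c d : Ω} (h : [a, b, c, d].Nodup) : dt a b c d a = b := by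
  rw [nodup4_iff] at h
  obtain ⟨hab, hac, had, hbc, hbd, hcd⟩ := h
  unfold dt
  rw [Perm.mul_apply, swap_apply_of_ne_of_ne hac had, swap_apply_left]

theorem dt_apply_2 {a b c d : Ω} (h : [a, b, c, d].Nodup) : dt a b c d b = a := by
  rw [nodup4_iff] at h
  obtain ⟨hab, hac, had, hbc, hbd, hcd⟩ := h
  unfold dt
  rw [Perm.mul_apply, swap_apply_of_ne_of_ne hbc hbd, swap_apply_right]

theorem dt_apply_3 {a b c d : Ω} (h : [a, b, c, d].Nodup) : dt a b c d c = d := by
  rw [nodup4_iff] at h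
  obtain ⟨hab, hac, had, hbc, hbd, hcd⟩ := h
  unfold dt
  rw [Perm.mul_apply, swap_apply_left, swap_apply_of_ne_of_ne (Ne.symm had) (Ne.symm hbd)]

theorem dt_apply_4 {a b c d : Ω} (h : [a, b, c, d].Nodup) : dt a b c d d = c := by
  rw [nodup4_iff] at h
  obtain ⟨hab, hac, had, hbc, hbd, hcd⟩ := h
  unfold dt
  rw [Perm.mul_apply, swap_apply_right, swap_apply_of_ne_of_ne (Ne.symm hac) (Ne.symm hbc)]

theorem dt_apply_of_ne {a b c d z : Ω} (ha : z ≠ a) (hb : z ≠ b) (hc : z ≠ c) (hd : z ≠ d) :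
    dt a b c d z = z := by
  unfold dt
  rw [Perm.mul_apply, swap_apply_of_ne_of_ne hc hd, swap_apply_of_ne_of_ne ha hb]

variable {ζ : Perm Ω}

theorem P_nodup (hinv : ∀ x, ζ (ζ x) = x) (hfpf : ∀ x, ζ x ≠ x) {u v : Ω}
    (h1 : v ≠ u) (h2 : v ≠ ζ u) : [u, v, ζ u, ζ v].Nodup := by
  rw [nodup4_iff]
  refine ⟨Ne.symm h1, (hfpf u).symm, ?_, h2, (hfpf v).symm, ?_⟩
  · intro h
    apply h2
    rw [h, hinv]
  · intro h
    exact h1 (ζ.injective h).symm

theorem P_comm (hinv : ∀ x, ζ (ζ x) = x) {u v : Ω} (hn : [u, v, ζ u, ζ v].Nodup) :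
    ζ * dt u v (ζ u) (ζ v) = dt u v (ζ u) (ζ v) * ζ := by
  have h1 : ζ * dt u v (ζ u) (ζ v) * ζ⁻¹ = dt u v (ζ u) (ζ v) := by
    rw [dt_conj, hinv, hinv]
    unfold dt
    exact ((Perm.disjoint_swap_swap hn).commute.eq).symm
  calc ζ * dt u v (ζ u) (ζ v) = ζ * dt u v (ζ u) (ζ v) * ζ⁻¹ * ζ := by group
    _ = dt u v (ζ u) (ζ v) * ζ := by rw [h1]

theorem Q_nodup (hinv : ∀ x, ζ (ζ x) = x) (hfpf : ∀ x, ζ x ≠ x) {u w : Ω}
    (h1 : w ≠ u) (h2 : w ≠ ζ u) : [u, ζ u, w, ζ w].Nodup := by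
  rw [nodup4_iff]
  refine ⟨(hfpf u).symm, Ne.symm h1, ?_, Ne.symm h2, ?_, (hfpf w).symm⟩
  · intro h
    apply h2
    rw [h, hinv]
  · intro h
    exact h1 (ζ.injective h).symm

theorem Q_comm (hinv : ∀ x, ζ (ζ x) = x) (u w : Ω) :
    ζ * dt u (ζ u) w (ζ w) = dt u (ζ u) w (ζ w) * ζ := by
  have h1 : ζ * dt u (ζ u) w (ζ w) * ζ⁻¹ = dt u (ζ u) w (ζ w) := by
    rw [dt_conj, hinv, hinv]
    unfold dt
    rw [swap_comm (ζ u), swap_comm (ζ w)]
  calc ζ * dt u (ζ u) w (ζ w) = ζ * dt u (ζ u) w (ζ w) * ζ⁻¹ * ζ := by group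
    _ = dt u (ζ u) w (ζ w) * ζ := by rw [h1]

variable [Fintype Ω]

theorem exists_notMem_finset (S : Finset Ω) (h : S.card < Fintype.card Ω) : ∃ w, w ∉ S := by
  by_contra hcon
  push Not at hcon
  have : S = Finset.univ := Finset.eq_univ_iff_forall.mpr hcon
  rw [this] at h
  simp at h

theorem dt_mem_alt' {a b c d : Ω} (h : [a, b, c, d].Nodup) : dt a b c d ∈ alternatingGroup Ω := by
  rw [nodup4_iff] at h
  exact dt_mem_alt h.1 h.2.2.2.2.2

/-- transitivity of the even part of the centralizer of `ζ` -/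
theorem trans_lemma (hinv : ∀ x, ζ (ζ x) = x) (hfpf : ∀ x, ζ x ≠ x) (h3 : 3 ≤ Fintype.card Ω)
    (x y : Ω) : ∃ g ∈ alternatingGroup Ω, ζ * g = g * ζ ∧ g x = y := by
  by_cases hxy : y = x
  · exact ⟨1, Subgroup.one_mem _, by simp, by simp [hxy]⟩
  by_cases hxy' : y = ζ x
  · obtain ⟨w, hw⟩ := exists_notMem_finset ({x, ζ x} : Finset Ω)
      (lt_of_le_of_lt (Finset.card_le_two) (by omega))
    simp only [Finset.mem_insert, Finset.mem_singleton, not_or] at hw
    have hn := Q_nodup hinv hfpf hw.1 hw.2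
    exact ⟨dt x (ζ x) w (ζ w), dt_mem_alt' hn, Q_comm hinv x w, by rw [dt_apply_1 hn, hxy']⟩
  · have hn := P_nodup hinv hfpf hxy hxy'
    exact ⟨dt x y (ζ x) (ζ y), dt_mem_alt' hn, P_comm hinv hn, dt_apply_1 hn⟩

/-- the stabilizer of `x` in the even part of the centralizer is transitive off `{x, ζ x}` -/
theorem fix_lemma (hinv : ∀ x, ζ (ζ x) = x) (hfpf : ∀ x, ζ x ≠ x) (h5 : 5 ≤ Fintype.card Ω)
    (x u v : Ω) (hux : u ≠ x) (hux' : u ≠ ζ x) (hvx : v ≠ x) (hvx' : v ≠ ζ x) (huv : v ≠ u) :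
    ∃ g ∈ alternatingGroup Ω, ζ * g = g * ζ ∧ g x = x ∧ g u = v := by
  have hxu' : x ≠ ζ u := by
    intro h; apply hux'; rw [h, hinv]
  have hxv' : x ≠ ζ v := by
    intro h; apply hvx'; rw [h, hinv]
  by_cases hv : v = ζ u
  · obtain ⟨w, hw⟩ := exists_notMem_finset ({x, ζ x, u, ζ u} : Finset Ω)
      (lt_of_le_of_lt (Finset.card_le_four) (by omega))
    simp only [Finset.mem_insert, Finset.mem_singleton, not_or] at hw
    obtain ⟨hwx, hwx', hwu, hwu'⟩ := hw
    have hn := Q_nodup hinv hfpf hwu hwu'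
    have hxw' : x ≠ ζ w := by
      intro h; apply hwx'; rw [h, hinv]
    exact ⟨dt u (ζ u) w (ζ w), dt_mem_alt' hn, Q_comm hinv u w,
      dt_apply_of_ne (Ne.symm hux) hxu' (Ne.symm hwx) hxw', by rw [dt_apply_1 hn, hv]⟩
  · have hn := P_nodup hinv hfpf huv hv
    exact ⟨dt u v (ζ u) (ζ v), dt_mem_alt' hn, P_comm hinv hn,
      dt_apply_of_ne (Ne.symm hux) (Ne.symm hvx) hxu' hxv', dt_apply_1 hn⟩

end cent

open Cfsg.Agent.Lib.Helper1.NSym
open scoped Pointwise
open MulAction Equiv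

section blk

variable {Ω : Type*} [DecidableEq Ω] [Fintype Ω]

theorem exists_mem_notMem (S : Set Ω) (F : Finset Ω) (h : F.card < S.ncard) :
    ∃ w ∈ S, w ∉ F := by
  by_contra hcon
  push Not at hcon
  have hsub : S ⊆ (F : Set Ω) := fun w hw => hcon w hw
  have := Set.ncard_le_ncard hsub (F : Set Ω).toFinite
  rw [Set.ncard_coe_finset] at this
  omega

theorem block_lemma_C {ζ : Perm Ω} (hinv : ∀ x, ζ (ζ x) = x) (hfpf : ∀ x, ζ x ≠ x)
    (h5 : 5 ≤ Fintype.card Ω) (H : Subgroup (Perm Ω)) [IsPretransitive H Ω]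
    (hC : ∀ g ∈ alternatingGroup Ω, ζ * g = g * ζ → g ∈ H)
    (D : Set Ω) (hD : IsBlock H D) (x : Ω) (hx : x ∈ D)
    (hex : ∃ u ∈ D, u ≠ x ∧ u ≠ ζ x) : D = Set.univ := by
  obtain ⟨u, huD, hux, hux'⟩ := hex
  have key : ∀ v, v ≠ ζ x → v ∈ D := by
    intro v hv
    by_cases hvx : v = x
    · rw [hvx]; exact hx
    by_cases hvu : v = u
    · rw [hvu]; exact huD
    obtain ⟨g, hgA, hgc, hgx, hgu⟩ := fix_lemma hinv hfpf h5 x u v hux hux' hvx hv hvu
    have hgH : g ∈ H := hC g hgA hgc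
    have h1 : (⟨g, hgH⟩ : H) • D = D := by
      apply hD.smul_eq_of_mem hx
      change g x ∈ D
      rw [hgx]; exact hx
    rw [← h1, ← hgu]
    exact Set.smul_mem_smul_set (a := (⟨g, hgH⟩ : H)) huD
  apply hD.eq_univ_of_card_lt
  have hsub : ({ζ x} : Set Ω)ᶜ ⊆ D := by
    intro v hv
    exact key v hv
  have h1 := Set.ncard_le_ncard hsub D.toFinite
  rw [Set.ncard_compl, Set.ncard_singleton] at h1
  rw [Nat.card_eq_fintype_card] at h1 ⊢
  omega

theorem S_lemma (S : Set Ω) (h3 : 3 ≤ S.ncard) (h3' : 3 ≤ Sᶜ.ncard) (x y : Ω) (hx : x ∈ S)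
    (hxy : y ≠ x) :
    ∃ g ∈ alternatingGroup Ω, g • S = S ∧ g x = x ∧ g y ≠ y ∧ g y ≠ x := by
  by_cases hy : y ∈ S
  · obtain ⟨w, hwS, hw⟩ := exists_mem_notMem S {x, y}
      (lt_of_le_of_lt Finset.card_le_two (by omega))
    obtain ⟨c, hcS, -⟩ := exists_mem_notMem Sᶜ ∅ (by simp; omega)
    obtain ⟨d, hdS, hd⟩ := exists_mem_notMem Sᶜ {c}
      (lt_of_le_of_lt (Finset.card_singleton c).le (by omega))
    simp only [Finset.mem_insert, Finset.mem_singleton, not_or] at hw hd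
    have hn : [y, w, c, d].Nodup := by
      rw [nodup4_iff]
      refine ⟨Ne.symm hw.2, ?_, ?_, ?_, ?_, Ne.symm hd⟩
      · rintro rfl; exact hcS hy
      · rintro rfl; exact hdS hy
      · rintro rfl; exact hcS hwS
      · rintro rfl; exact hdS hwS
    refine ⟨dt y w c d, dt_mem_alt' hn, ?_, ?_, ?_, ?_⟩
    · have h1 : swap y w ∈ stabilizer (Perm Ω) S := Perm.swap_mem_stabilizer hy hwS
      have h2 : swap c d ∈ stabilizer (Perm Ω) S := by
        rw [← stabilizer_compl]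
        exact Perm.swap_mem_stabilizer hcS hdS
      exact mem_stabilizer_iff.mp (Subgroup.mul_mem _ h1 h2)
    · apply dt_apply_of_ne (Ne.symm hxy) (Ne.symm hw.1)
      · rintro rfl; exact hcS hx
      · rintro rfl; exact hdS hx
    · rw [dt_apply_1 hn]; exact hw.2
    · rw [dt_apply_1 hn]; exact hw.1
  · obtain ⟨w, hwS, hw⟩ := exists_mem_notMem Sᶜ {y}
      (lt_of_le_of_lt (Finset.card_singleton y).le (by omega))
    obtain ⟨c, hcS, hc⟩ := exists_mem_notMem S {x}
      (lt_of_le_of_lt (Finset.card_singleton x).le (by omega))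
    obtain ⟨d, hdS, hd⟩ := exists_mem_notMem S {x, c}
      (lt_of_le_of_lt Finset.card_le_two (by omega))
    simp only [Finset.mem_insert, Finset.mem_singleton, not_or] at hw hc hd
    have hn : [y, w, c, d].Nodup := by
      rw [nodup4_iff]
      refine ⟨Ne.symm hw, ?_, ?_, ?_, ?_, Ne.symm hd.2⟩
      · rintro rfl; exact hy hcS
      · rintro rfl; exact hy hdS
      · rintro rfl; exact hwS hcS
      · rintro rfl; exact hwS hdS
    refine ⟨dt y w c d, dt_mem_alt' hn, ?_, ?_, ?_, ?_⟩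
    · have h1 : swap y w ∈ stabilizer (Perm Ω) S := by
        rw [← stabilizer_compl]
        exact Perm.swap_mem_stabilizer hy hwS
      have h2 : swap c d ∈ stabilizer (Perm Ω) S := Perm.swap_mem_stabilizer hcS hdS
      exact mem_stabilizer_iff.mp (Subgroup.mul_mem _ h1 h2)
    · apply dt_apply_of_ne (Ne.symm hxy) _ (Ne.symm hc) (Ne.symm hd.1)
      rintro rfl; exact hwS hx
    · rw [dt_apply_1 hn]; exact hw
    · rw [dt_apply_1 hn]; rintro rfl; exact hwS hx

theorem block_lemma_B (B : Set Ω) (h3 : 3 ≤ B.ncard) (h3' : 3 ≤ Bᶜ.ncard)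
    (H : Subgroup (Perm Ω)) (hB : ∀ g ∈ alternatingGroup Ω, g • B = B → g ∈ H)
    (D : Set Ω) (hD : IsBlock H D) (x y : Ω) (hx : x ∈ D) (hy : y ∈ D) (hxy : y ≠ x) :
    ∃ z ∈ D, z ≠ x ∧ z ≠ y := by
  have main : ∀ g ∈ alternatingGroup Ω, g • B = B → g x = x → g y ≠ y → g y ≠ x →
      ∃ z ∈ D, z ≠ x ∧ z ≠ y := by
    intro g hgA hgB hgx hgy hgy'
    have hgH : g ∈ H := hB g hgA hgB
    have h1 : (⟨g, hgH⟩ : H) • D = D := by
      apply hD.smul_eq_of_mem hx
      change g x ∈ D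
      rw [hgx]; exact hx
    refine ⟨g y, ?_, hgy', hgy⟩
    rw [← h1]
    exact Set.smul_mem_smul_set (a := (⟨g, hgH⟩ : H)) hy
  by_cases hxB : x ∈ B
  · obtain ⟨g, hgA, hgS, hgx, hgy, hgy'⟩ := S_lemma B h3 h3' x y hxB hxy
    exact main g hgA hgS hgx hgy hgy'
  · obtain ⟨g, hgA, hgS, hgx, hgy, hgy'⟩ := S_lemma Bᶜ h3' (by rwa [compl_compl]) x y hxB hxy
    apply main g hgA _ hgx hgy hgy'
    rw [Set.smul_set_compl] at hgS
    exact compl_injective hgS

theorem prim_lemma {ζ : Perm Ω} (hinv : ∀ x, ζ (ζ x) = x) (hfpf : ∀ x, ζ x ≠ x)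
    (h5 : 5 ≤ Fintype.card Ω) (B : Set Ω) (h3 : 3 ≤ B.ncard) (h3' : 3 ≤ Bᶜ.ncard)
    (H : Subgroup (Perm Ω))
    (hC : ∀ g ∈ alternatingGroup Ω, ζ * g = g * ζ → g ∈ H)
    (hB : ∀ g ∈ alternatingGroup Ω, g • B = B → g ∈ H) : IsPreprimitive H Ω := by
  haveI : IsPretransitive H Ω := by
    constructor
    intro x y
    obtain ⟨g, hgA, hgc, hgx⟩ := trans_lemma hinv hfpf (by omega) x y
    exact ⟨⟨g, hC g hgA hgc⟩, hgx⟩
  have hne : Nonempty Ω := by
    rw [← Fintype.card_pos_iff]; omega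
  obtain ⟨x⟩ := hne
  apply IsPreprimitive.of_isTrivialBlock_base x
  intro D hx hD
  by_cases hex : ∃ u ∈ D, u ≠ x ∧ u ≠ ζ x
  · right
    exact block_lemma_C hinv hfpf h5 H hC D hD x hx hex
  · left
    push Not at hex
    by_cases hζ : ζ x ∈ D
    · exfalso
      obtain ⟨z, hzD, hzx, hzy⟩ := block_lemma_B B h3 h3' H hB D hD x (ζ x) hx hζ (hfpf x)
      exact hzy (hex z hzD hzx)
    · intro a ha b hb
      have h1 : a = x := by
        by_contra hax
        have := hex a ha hax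
        rw [this] at ha
        exact hζ ha
      have h2 : b = x := by
        by_contra hbx
        have := hex b hb hbx
        rw [this] at hb
        exact hζ hb
      rw [h1, h2]

end blk

open Cfsg.Agent.Lib.Helper1.NSym
open scoped Pointwise
open MulAction Equiv

section bisect

variable {G : Type*} [Group G] [Finite G] {Ω : Type*} [Finite Ω] [DecidableEq Ω] [MulAction G Ω]

theorem invariant_trivial (R : Sylow 2 G) (a : ℕ) (hn : Nat.card Ω = 2 ^ a)
    (htr : ∀ m, IsPretransitive G (Set.powersetCard Ω m))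
    (s : Set Ω) (hs : ∀ r ∈ R, r • s = s) : s.ncard = 0 ∨ s.ncard = 2 ^ a := by
  by_contra hcon
  push Not at hcon
  have := htr s.ncard
  have h1 : (R : Subgroup G) ≤ stabilizer G s := fun r hr => mem_stabilizer_iff.mpr (hs r hr)
  have h2 := odd_choose_of_le_stabilizer R s h1
  have h3 : s.ncard ≤ 2 ^ a := by
    rw [← hn, ← Set.ncard_univ]
    exact Set.ncard_le_ncard (Set.subset_univ s) Set.finite_univ
  rw [hn] at h2
  have h4 := even_choose_two_pow a s.ncard (by omega) (by omega)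
  exact (Nat.not_even_iff_odd.mpr h2) h4

theorem sylow_transitive (R : Sylow 2 G) (a : ℕ) (hn : Nat.card Ω = 2 ^ a)
    (htr : ∀ m, IsPretransitive G (Set.powersetCard Ω m)) :
    IsPretransitive (R : Subgroup G) Ω := by
  have hne : Nonempty Ω := by
    rw [← Finite.card_pos_iff, hn]; positivity
  obtain ⟨x⟩ := hne
  have hO : ∀ r ∈ R, r • orbit (R : Subgroup G) x = orbit (R : Subgroup G) x := by
    intro r hr
    exact smul_orbit (⟨r, hr⟩ : (R : Subgroup G)) x
  have h1 := invariant_trivial R a hn htr _ hO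
  have h2 : (orbit (R : Subgroup G) x).ncard ≠ 0 := by
    rw [← Nat.pos_iff_ne_zero, Set.ncard_pos]
    exact nonempty_orbit x
  have h3 : orbit (R : Subgroup G) x = Set.univ := by
    rw [Set.eq_univ_iff_ncard, hn]
    exact h1.resolve_left h2
  rw [isPretransitive_iff_base x]
  intro y
  have : y ∈ orbit (R : Subgroup G) x := by rw [h3]; trivial
  exact this

theorem exists_bisection (R : Sylow 2 G) (a : ℕ) (ha : 1 ≤ a) (hn : Nat.card Ω = 2 ^ a)
    (htr : ∀ m, IsPretransitive G (Set.powersetCard Ω m)) :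
    ∃ B : Set Ω, B.ncard = 2 ^ (a - 1) ∧ ∀ r ∈ R, r • B = B ∨ r • B = Bᶜ := by
  haveI : Fact (Nat.Prime 2) := ⟨Nat.prime_two⟩
  haveI := sylow_transitive R a hn htr
  have hne : Nonempty Ω := by
    rw [← Finite.card_pos_iff, hn]; positivity
  obtain ⟨x⟩ := hne
  obtain ⟨e, he⟩ := (IsPGroup.iff_card.mp R.isPGroup')
  -- the point stabilizer in R
  have hidx : (stabilizer (R : Subgroup G) x).index = 2 ^ a := by
    rw [index_stabilizer_of_transitive, hn]
  have hcardSt := Subgroup.card_mul_index (stabilizer (R : Subgroup G) x)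
  rw [hidx, he] at hcardSt
  have hae : a ≤ e := by
    have : 2 ^ a ∣ 2 ^ e := Dvd.intro_left _ hcardSt
    exact (Nat.pow_dvd_pow_iff_le_right (by norm_num)).mp this
  have hSt : Nat.card (stabilizer (R : Subgroup G) x) = 2 ^ (e - a) := by
    have h2 : (2 : ℕ) ^ e = 2 ^ (e - a) * 2 ^ a := by
      rw [← pow_add]; congr 1; omega
    rw [h2] at hcardSt
    exact Nat.eq_of_mul_eq_mul_right (by positivity) hcardSt
  have he1 : 1 ≤ e := le_trans ha hae
  obtain ⟨K, hKcard, hStK⟩ := Sylow.exists_subgroup_card_pow_prime_le 2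
    (show 2 ^ (e - 1) ∣ Nat.card (R : Subgroup G) by
      rw [he]; exact pow_dvd_pow 2 (by omega))
    (stabilizer (R : Subgroup G) x) hSt (by omega)
  have hKidx : K.index = 2 := by
    have := Subgroup.card_mul_index K
    rw [hKcard, he] at this
    have h2 : (2 : ℕ) ^ e = 2 ^ (e - 1) * 2 := by
      rw [← pow_succ]; congr 1; omega
    rw [h2] at this
    exact Nat.eq_of_mul_eq_mul_left (by positivity) this
  have hrel : (stabilizer (R : Subgroup G) x).relIndex K = 2 ^ (a - 1) := by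
    have := Subgroup.relIndex_mul_index hStK
    rw [hKidx, hidx] at this
    have h2 : (2 : ℕ) ^ a = 2 ^ (a - 1) * 2 := by
      rw [← pow_succ]; congr 1; omega
    rw [h2] at this
    exact Nat.eq_of_mul_eq_mul_right (by norm_num) this
  have hBcard : (orbit K x).ncard = 2 ^ (a - 1) := by
    rw [← index_stabilizer, ← hrel]
    rfl
  refine ⟨orbit K x, hBcard, ?_⟩
  intro r hr
  by_cases hrK : (⟨r, hr⟩ : (R : Subgroup G)) ∈ K
  · left
    exact smul_orbit (⟨⟨r, hr⟩, hrK⟩ : K) x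
  · right
    have hdisj : r • orbit K x ⊆ (orbit K x)ᶜ := by
      rintro z ⟨w, ⟨k₁, rfl⟩, rfl⟩ ⟨k₂, hk₂⟩
      apply hrK
      have hk : (k₂ : (R : Subgroup G))⁻¹ * ⟨r, hr⟩ * (k₁ : (R : Subgroup G)) ∈
          stabilizer (R : Subgroup G) x := by
        rw [mem_stabilizer_iff, mul_smul, mul_smul, inv_smul_eq_iff]
        exact hk₂.symm
      have hk' := hStK hk
      have := K.mul_mem (K.mul_mem k₂.2 hk') (K.inv_mem k₁.2)
      simpa [mul_assoc] using this
    apply Set.eq_of_subset_of_ncard_le hdisj _ (Set.toFinite _)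
    rw [Set.ncard_compl, hn, hBcard]
    have : (r • orbit K x).ncard = 2 ^ (a - 1) := by
      rw [← hBcard]
      exact Set.ncard_image_of_injective _ (MulAction.injective r)
    rw [this]
    have h2 : (2 : ℕ) ^ a = 2 ^ (a - 1) * 2 := by
      rw [← pow_succ]; congr 1; omega
    omega

end bisect

open Cfsg.Agent.Lib.Helper1.NSym
open scoped Pointwise
open MulAction Equiv

section oddcase

variable {G : Type*} [Group G] [Finite G] {Ω : Type*} [Finite Ω] [DecidableEq Ω] [MulAction G Ω]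

theorem not_unique_odd (R : Sylow 2 G) (c m : ℕ) (hc : 1 ≤ c) (hm : Odd m) (hm3 : 3 ≤ m)
    (hn : Nat.card Ω = 2 ^ c * m + 1)
    (moves : ∀ (t : Set Ω), ∀ a ∈ t, ∀ b ∈ t, ∃ g ∈ stabilizer G t, g • a = b)
    (coatom : ∀ s : Set Ω, s.Nonempty → sᶜ.Nonempty → Nat.card Ω ≠ 2 * s.ncard →
      IsCoatom (stabilizer G s)) :
    ¬ ∃! M : Subgroup G, IsCoatom M ∧ (R : Subgroup G) ≤ M := by
  have h2c : 2 ≤ 2 ^ c := by
    calc 2 = 2 ^ 1 := by norm_num
      _ ≤ 2 ^ c := Nat.pow_le_pow_right (by norm_num) hc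
  have heven : Even (2 ^ c * m) := (Nat.even_pow.mpr ⟨even_two, by omega⟩).mul_right m
  have hodd : Odd (Nat.card Ω) := by
    rw [hn]; exact heven.add_one
  obtain ⟨x₀, hx₀⟩ := exists_fixed_point_of_odd (Ω := Ω) (R : Subgroup G) R.isPGroup' hodd
  have hch : Odd ((Nat.card Ω).choose (2 ^ c)) := by
    rw [hn]
    exact odd_choose_succ_of_even heven (odd_choose_two_pow_mul c m hm)
  obtain ⟨s, hs, hRs⟩ := exists_fixed_set (R : Subgroup G) R.isPGroup' (2 ^ c) hch
  have hlt : 2 ^ c * 3 ≤ 2 ^ c * m := Nat.mul_le_mul_left _ hm3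
  have hco1 : IsCoatom (stabilizer G ({x₀} : Set Ω)) := by
    apply coatom _ (Set.singleton_nonempty x₀)
    · rw [← Set.ncard_pos, Set.ncard_compl, Set.ncard_singleton]
      omega
    · rw [Set.ncard_singleton]; omega
  have hco2 : IsCoatom (stabilizer G s) := by
    apply coatom
    · rw [← Set.ncard_pos]; omega
    · rw [← Set.ncard_pos, Set.ncard_compl]; omega
    · omega
  apply not_existsUnique_of_two (R : Subgroup G) _ _ hco1 hco2 _ hRs
  · intro heq
    by_cases hx : x₀ ∈ s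
    · obtain ⟨b, hbs, hb⟩ : ∃ b ∈ s, b ≠ x₀ := by
        by_contra hcon
        push Not at hcon
        have : s ⊆ {x₀} := fun b hb => hcon b hb
        have := Set.ncard_le_ncard this (Set.toFinite _)
        rw [Set.ncard_singleton] at this
        omega
      obtain ⟨g, hg, hgx⟩ := moves s x₀ hx b hbs
      rw [← heq, stabilizer_singleton, mem_stabilizer_iff] at hg
      exact hb (hgx ▸ hg)
    · obtain ⟨b, hbs, hb⟩ : ∃ b ∈ sᶜ, b ≠ x₀ := by
        by_contra hcon
        push Not at hcon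
        have : sᶜ ⊆ {x₀} := fun b hb => hcon b hb
        have := Set.ncard_le_ncard this (Set.toFinite _)
        rw [Set.ncard_singleton, Set.ncard_compl] at this
        omega
      obtain ⟨g, hg, hgx⟩ := moves sᶜ x₀ hx b hbs
      rw [stabilizer_compl, ← heq, stabilizer_singleton, mem_stabilizer_iff] at hg
      exact hb (hgx ▸ hg)
  · intro r hr
    rw [stabilizer_singleton]
    exact mem_stabilizer_iff.mpr (hx₀ r hr)

/-- the stabilizer of the bisection `{B, Bᶜ}` -/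
def bisectStab (G : Type*) [Group G] {Ω : Type*} [MulAction G Ω] (B : Set Ω) : Subgroup G where
  carrier := {g | g • B = B ∨ g • B = Bᶜ}
  one_mem' := Or.inl (one_smul _ _)
  mul_mem' := by
    intro g g' hg hg'
    change (g * g') • B = B ∨ (g * g') • B = Bᶜ
    rw [mul_smul]
    rcases hg' with h' | h'
    · rw [h']; exact hg
    · rw [h', Set.smul_set_compl]
      rcases hg with h | h
      · right; rw [h]
      · left; rw [h, compl_compl]
  inv_mem' := by
    intro g hg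
    change g⁻¹ • B = B ∨ g⁻¹ • B = Bᶜ
    rcases hg with h | h
    · left
      rw [inv_smul_eq_iff, h]
    · right
      rw [inv_smul_eq_iff, Set.smul_set_compl, h, compl_compl]

theorem mem_bisectStab {G : Type*} [Group G] {Ω : Type*} [MulAction G Ω] {B : Set Ω} {g : G} :
    g ∈ bisectStab G B ↔ g • B = B ∨ g • B = Bᶜ := Iff.rfl

end oddcase

open Cfsg.Agent.Lib.Helper1.NSym
open scoped Pointwise
open MulAction Equiv

section evencase

variable {Ω : Type*} [DecidableEq Ω] [Fintype Ω]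

theorem exists_not_comm {ζ : Perm Ω} (hfpf : ∀ x, ζ x ≠ x)
    (h5 : 5 ≤ Fintype.card Ω) : ∃ g ∈ alternatingGroup Ω, ζ * g ≠ g * ζ := by
  have hne : Nonempty Ω := by
    rw [← Fintype.card_pos_iff]; omega
  obtain ⟨x⟩ := hne
  obtain ⟨y, hy⟩ := exists_notMem_finset ({x, ζ x} : Finset Ω)
    (lt_of_le_of_lt Finset.card_le_two (by omega))
  obtain ⟨c, hc⟩ := exists_notMem_finset ({x, y, ζ x} : Finset Ω)
    (lt_of_le_of_lt Finset.card_le_three (by omega))
  obtain ⟨d, hd⟩ := exists_notMem_finset ({x, y, ζ x, c} : Finset Ω)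
    (lt_of_le_of_lt Finset.card_le_four (by omega))
  simp only [Finset.mem_insert, Finset.mem_singleton, not_or] at hy hc hd
  have hn : [x, y, c, d].Nodup := by
    rw [nodup4_iff]
    exact ⟨Ne.symm hy.1, Ne.symm hc.1, Ne.symm hd.1, Ne.symm hc.2.1, Ne.symm hd.2.1,
      Ne.symm hd.2.2.2⟩
  refine ⟨dt x y c d, dt_mem_alt' hn, ?_⟩
  intro heq
  have h1 := congrArg (fun f : Perm Ω => f x) heq
  simp only [Perm.mul_apply] at h1
  rw [dt_apply_1 hn, dt_apply_of_ne (hfpf x) (Ne.symm hy.2) (Ne.symm hc.2.2) (Ne.symm hd.2.2.1)] at h1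
  exact hy.1 (ζ.injective h1)

theorem exists_not_bisect (B : Set Ω) (h3 : 3 ≤ B.ncard) (h1 : 1 ≤ Bᶜ.ncard) :
    ∃ g ∈ alternatingGroup Ω, g • B ≠ B ∧ g • B ≠ Bᶜ := by
  obtain ⟨x, hxB, -⟩ := exists_mem_notMem B ∅ (by simp; omega)
  obtain ⟨c, hcB, hc⟩ := exists_mem_notMem B {x}
    (lt_of_le_of_lt (Finset.card_singleton x).le (by omega))
  obtain ⟨d, hdB, hd⟩ := exists_mem_notMem B {x, c}
    (lt_of_le_of_lt Finset.card_le_two (by omega))
  obtain ⟨y, hyB, -⟩ := exists_mem_notMem Bᶜ ∅ (by simp; omega)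
  simp only [Finset.mem_insert, Finset.mem_singleton, not_or] at hc hd
  have hn : [x, y, c, d].Nodup := by
    rw [nodup4_iff]
    refine ⟨?_, Ne.symm hc, Ne.symm hd.1, ?_, ?_, Ne.symm hd.2⟩
    · rintro rfl; exact hyB hxB
    · rintro rfl; exact hyB hcB
    · rintro rfl; exact hyB hdB
  refine ⟨dt x y c d, dt_mem_alt' hn, ?_, ?_⟩
  · intro heq
    have : dt x y c d x ∈ dt x y c d • B := Set.smul_mem_smul_set (a := dt x y c d) hxB
    rw [heq, dt_apply_1 hn] at this
    exact hyB this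
  · intro heq
    have : dt x y c d c ∈ dt x y c d • B := Set.smul_mem_smul_set (a := dt x y c d) hcB
    rw [heq, dt_apply_3 hn] at this
    exact this hdB

theorem top_of_alt_le (H : Subgroup (alternatingGroup Ω))
    (h : alternatingGroup Ω ≤ H.map (alternatingGroup Ω).subtype) : H = ⊤ := by
  rw [eq_top_iff]
  intro a _
  obtain ⟨b, hb, hba⟩ := h a.2
  have : b = a := Subtype.ext hba
  rwa [← this]

end evencase

open Cfsg.Agent.Lib.Helper1.NSym
open scoped Pointwise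
open MulAction Equiv

section twopow

variable {Ω : Type*} [DecidableEq Ω] [Fintype Ω]

theorem perm_not_unique_two_pow (a : ℕ) (ha : 3 ≤ a) (hn : Nat.card Ω = 2 ^ a)
    (R : Sylow 2 (Perm Ω)) :
    ¬ ∃! M : Subgroup (Perm Ω), IsCoatom M ∧ (R : Subgroup (Perm Ω)) ≤ M := by
  have h8 : 8 ≤ 2 ^ a := by
    calc 8 = 2 ^ 3 := by norm_num
      _ ≤ 2 ^ a := Nat.pow_le_pow_right (by norm_num) ha
  have h4 : 4 ≤ 2 ^ (a - 1) := by
    calc 4 = 2 ^ 2 := by norm_num
      _ ≤ 2 ^ (a - 1) := Nat.pow_le_pow_right (by norm_num) (by omega)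
  have h2 : (2 : ℕ) ^ a = 2 * 2 ^ (a - 1) := by
    rw [← pow_succ']; congr 1; omega
  have hcard : Fintype.card Ω = 2 * 2 ^ (a - 1) := by
    rw [← Nat.card_eq_fintype_card, hn, h2]
  obtain ⟨ζ, hζ, hζR⟩ := exists_fpf_invol (R : Subgroup (Perm Ω)) R.isPGroup' (2 ^ (a - 1))
    (by omega) hcard
  obtain ⟨hinv, hfpf⟩ := fpf_props (by omega) hcard hζ
  obtain ⟨B, hBcard, hBR⟩ := exists_bisection R a (by omega) hn
    (fun m => Set.powersetCard.isPretransitive)
  have hBc : Bᶜ.ncard = 2 ^ (a - 1) := by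
    rw [Set.ncard_compl, hn, hBcard]; omega
  have hW1 : Subgroup.centralizer {ζ} ≠ ⊤ := by
    obtain ⟨g, -, hg⟩ := exists_not_comm hfpf (by omega)
    intro h
    have : g ∈ Subgroup.centralizer {ζ} := by rw [h]; trivial
    rw [Subgroup.mem_centralizer_iff] at this
    exact hg (this ζ rfl)
  have hW2 : bisectStab (Perm Ω) B ≠ ⊤ := by
    obtain ⟨g, -, hg1, hg2⟩ := exists_not_bisect B (by omega) (by omega)
    intro h
    have : g ∈ bisectStab (Perm Ω) B := by rw [h]; trivial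
    rcases this with h | h
    · exact hg1 h
    · exact hg2 h
  apply not_existsUnique_of_sup (R : Subgroup (Perm Ω)) _ _ hW1 hW2
  · intro r hr
    rw [Subgroup.mem_centralizer_iff]
    rintro _ rfl
    exact (hζR r hr).symm
  · intro r hr
    exact hBR r hr
  · have hprim : IsPreprimitive (Subgroup.centralizer {ζ} ⊔ bisectStab (Perm Ω) B : Subgroup (Perm Ω)) Ω := by
      apply prim_lemma hinv hfpf (by omega) B (by omega) (by omega)
      · intro g _ hg
        apply (le_sup_left : Subgroup.centralizer {ζ} ≤ _)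
        rw [Subgroup.mem_centralizer_iff]
        rintro _ rfl
        exact hg
      · intro g _ hg
        apply (le_sup_right : bisectStab (Perm Ω) B ≤ _)
        exact Or.inl hg
    obtain ⟨x, y, hxy, hmem⟩ := sylow_perm_swap_mem R (by omega)
    apply Equiv.Perm.subgroup_eq_top_of_isPreprimitive_of_isSwap_mem hprim _
      (Equiv.Perm.swap_isSwap_iff.mpr hxy)
    apply (le_sup_left : Subgroup.centralizer {ζ} ≤ _)
    rw [Subgroup.mem_centralizer_iff]
    rintro _ rfl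
    exact (hζR _ hmem).symm

theorem alt_not_unique_two_pow (a : ℕ) (ha : 3 ≤ a) (hn : Nat.card Ω = 2 ^ a)
    (R : Sylow 2 (alternatingGroup Ω)) :
    ¬ ∃! M : Subgroup (alternatingGroup Ω), IsCoatom M ∧
      (R : Subgroup (alternatingGroup Ω)) ≤ M := by
  have h8 : 8 ≤ 2 ^ a := by
    calc 8 = 2 ^ 3 := by norm_num
      _ ≤ 2 ^ a := Nat.pow_le_pow_right (by norm_num) ha
  have h4 : 4 ≤ 2 ^ (a - 1) := by
    calc 4 = 2 ^ 2 := by norm_num
      _ ≤ 2 ^ (a - 1) := Nat.pow_le_pow_right (by norm_num) (by omega)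
  have h2 : (2 : ℕ) ^ a = 2 * 2 ^ (a - 1) := by
    rw [← pow_succ']; congr 1; omega
  have hcard : Fintype.card Ω = 2 * 2 ^ (a - 1) := by
    rw [← Nat.card_eq_fintype_card, hn, h2]
  have hK : IsPGroup 2 ((R : Subgroup (alternatingGroup Ω)).map (alternatingGroup Ω).subtype) :=
    R.isPGroup'.map _
  obtain ⟨ζ, hζ, hζR⟩ := exists_fpf_invol _ hK (2 ^ (a - 1)) (by omega) hcard
  obtain ⟨hinv, hfpf⟩ := fpf_props (by omega) hcard hζ
  obtain ⟨B, hBcard, hBR⟩ := exists_bisection R a (by omega) hn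
    (fun m => Set.powersetCard.isPretransitive_alternatingGroup (by omega))
  have hBc : Bᶜ.ncard = 2 ^ (a - 1) := by
    rw [Set.ncard_compl, hn, hBcard]; omega
  have hW1 : (Subgroup.centralizer {ζ}).subgroupOf (alternatingGroup Ω) ≠ ⊤ := by
    obtain ⟨g, hgA, hg⟩ := exists_not_comm hfpf (by omega)
    intro h
    have : (⟨g, hgA⟩ : alternatingGroup Ω) ∈
        (Subgroup.centralizer {ζ}).subgroupOf (alternatingGroup Ω) := by rw [h]; trivial
    rw [Subgroup.mem_subgroupOf, Subgroup.mem_centralizer_iff] at this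
    exact hg (this ζ rfl)
  have hW2 : bisectStab (alternatingGroup Ω) B ≠ ⊤ := by
    obtain ⟨g, hgA, hg1, hg2⟩ := exists_not_bisect B (by omega) (by omega)
    intro h
    have : (⟨g, hgA⟩ : alternatingGroup Ω) ∈ bisectStab (alternatingGroup Ω) B := by
      rw [h]; trivial
    rcases this with h | h
    · exact hg1 h
    · exact hg2 h
  apply not_existsUnique_of_sup (R : Subgroup (alternatingGroup Ω)) _ _ hW1 hW2
  · intro r hr
    rw [Subgroup.mem_subgroupOf, Subgroup.mem_centralizer_iff]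
    rintro _ rfl
    exact (hζR r ⟨r, hr, rfl⟩).symm
  · intro r hr
    exact hBR r hr
  · apply top_of_alt_le
    have hC : ∀ g ∈ alternatingGroup Ω, ζ * g = g * ζ → g ∈
        ((Subgroup.centralizer {ζ}).subgroupOf (alternatingGroup Ω) ⊔
          bisectStab (alternatingGroup Ω) B).map (alternatingGroup Ω).subtype := by
      intro g hgA hg
      refine ⟨⟨g, hgA⟩, ?_, rfl⟩
      apply (le_sup_left : (Subgroup.centralizer {ζ}).subgroupOf (alternatingGroup Ω) ≤ _)
      rw [Subgroup.mem_subgroupOf, Subgroup.mem_centralizer_iff]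
      rintro _ rfl
      exact hg
    have hB : ∀ g ∈ alternatingGroup Ω, g • B = B → g ∈
        ((Subgroup.centralizer {ζ}).subgroupOf (alternatingGroup Ω) ⊔
          bisectStab (alternatingGroup Ω) B).map (alternatingGroup Ω).subtype := by
      intro g hgA hg
      refine ⟨⟨g, hgA⟩, ?_, rfl⟩
      apply (le_sup_right : bisectStab (alternatingGroup Ω) B ≤ _)
      exact Or.inl hg
    have hprim := prim_lemma hinv hfpf (by omega) B (by omega) (by omega) _ hC hB
    obtain ⟨t, htB, ht3⟩ := Equiv.Perm.exists_mem_stabilizer_isThreeCycle_of_two_lt_ncard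
      (s := B) (by omega)
    exact Equiv.Perm.alternatingGroup_le_of_isPreprimitive_of_isThreeCycle_mem hprim ht3
      (hB t ht3.mem_alternatingGroup (mem_stabilizer_iff.mp htB))

end twopow

open Cfsg.Agent.Lib.Helper1.NSym
open scoped Pointwise
open MulAction Equiv

section evenmixed

variable {Ω : Type*} [DecidableEq Ω] [Fintype Ω]

theorem perm_not_unique_even (b m : ℕ) (hb : 1 ≤ b) (hm : Odd m) (hm3 : 3 ≤ m)
    (hn : Nat.card Ω = 2 ^ b * m) (R : Sylow 2 (Perm Ω)) :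
    ¬ ∃! M : Subgroup (Perm Ω), IsCoatom M ∧ (R : Subgroup (Perm Ω)) ≤ M := by
  have h2b : 2 ≤ 2 ^ b := by
    calc 2 = 2 ^ 1 := by norm_num
      _ ≤ 2 ^ b := Nat.pow_le_pow_right (by norm_num) hb
  have hlt : 2 ^ b * 3 ≤ 2 ^ b * m := Nat.mul_le_mul_left _ hm3
  have h2 : (2 : ℕ) ^ b * m = 2 * (2 ^ (b - 1) * m) := by
    rw [← mul_assoc, ← pow_succ']; congr 2; omega
  have hcard : Fintype.card Ω = 2 * (2 ^ (b - 1) * m) := by
    rw [← Nat.card_eq_fintype_card, hn, h2]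
  have hh : 3 ≤ 2 ^ (b - 1) * m := by omega
  obtain ⟨ζ, hζ, hζR⟩ := exists_fpf_invol (R : Subgroup (Perm Ω)) R.isPGroup' (2 ^ (b - 1) * m)
    (by omega) hcard
  obtain ⟨hinv, hfpf⟩ := fpf_props (by omega) hcard hζ
  have hch : Odd ((Nat.card Ω).choose (2 ^ b)) := by
    rw [hn]
    exact odd_choose_two_pow_mul b m hm
  obtain ⟨s, hs, hRs⟩ := exists_fixed_set (R : Subgroup (Perm Ω)) R.isPGroup' (2 ^ b) hch
  have hco1 : IsCoatom (stabilizer (Perm Ω) s) := by
    apply Equiv.Perm.isCoatom_stabilizer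
    · rw [← Set.ncard_pos]; omega
    · rw [← Set.ncard_pos, Set.ncard_compl]; omega
    · omega
  have hW1 : Subgroup.centralizer {ζ} ≠ ⊤ := by
    obtain ⟨g, -, hg⟩ := exists_not_comm hfpf (by omega)
    intro h
    have : g ∈ Subgroup.centralizer {ζ} := by rw [h]; trivial
    rw [Subgroup.mem_centralizer_iff] at this
    exact hg (this ζ rfl)
  obtain ⟨M₂, hM₂, hle2⟩ := (eq_top_or_exists_le_coatom _).resolve_left hW1
  apply not_existsUnique_of_two (R : Subgroup (Perm Ω)) _ _ hco1 hM₂ hRs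
  · intro r hr
    apply hle2
    rw [Subgroup.mem_centralizer_iff]
    rintro _ rfl
    exact (hζR r hr).symm
  · intro heq
    obtain ⟨x, hx⟩ : s.Nonempty := by rw [← Set.ncard_pos]; omega
    obtain ⟨y, hy⟩ : sᶜ.Nonempty := by rw [← Set.ncard_pos, Set.ncard_compl]; omega
    obtain ⟨g, -, hgc, hgx⟩ := trans_lemma hinv hfpf (by omega) x y
    have : g ∈ stabilizer (Perm Ω) s := by
      rw [heq]
      apply hle2
      rw [Subgroup.mem_centralizer_iff]
      rintro _ rfl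
      exact hgc
    rw [mem_stabilizer_iff] at this
    apply hy
    rw [← this, ← hgx]
    exact Set.smul_mem_smul_set (a := g) hx

theorem alt_not_unique_even (b m : ℕ) (hb : 1 ≤ b) (hm : Odd m) (hm3 : 3 ≤ m)
    (hn : Nat.card Ω = 2 ^ b * m) (R : Sylow 2 (alternatingGroup Ω)) :
    ¬ ∃! M : Subgroup (alternatingGroup Ω), IsCoatom M ∧
      (R : Subgroup (alternatingGroup Ω)) ≤ M := by
  have h2b : 2 ≤ 2 ^ b := by
    calc 2 = 2 ^ 1 := by norm_num
      _ ≤ 2 ^ b := Nat.pow_le_pow_right (by norm_num) hb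
  have hlt : 2 ^ b * 3 ≤ 2 ^ b * m := Nat.mul_le_mul_left _ hm3
  have h2 : (2 : ℕ) ^ b * m = 2 * (2 ^ (b - 1) * m) := by
    rw [← mul_assoc, ← pow_succ']; congr 2; omega
  have hcard : Fintype.card Ω = 2 * (2 ^ (b - 1) * m) := by
    rw [← Nat.card_eq_fintype_card, hn, h2]
  have hh : 3 ≤ 2 ^ (b - 1) * m := by omega
  have hK : IsPGroup 2 ((R : Subgroup (alternatingGroup Ω)).map (alternatingGroup Ω).subtype) :=
    R.isPGroup'.map _
  obtain ⟨ζ, hζ, hζR⟩ := exists_fpf_invol _ hK (2 ^ (b - 1) * m) (by omega) hcard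
  obtain ⟨hinv, hfpf⟩ := fpf_props (by omega) hcard hζ
  have hch : Odd ((Nat.card Ω).choose (2 ^ b)) := by
    rw [hn]
    exact odd_choose_two_pow_mul b m hm
  obtain ⟨s, hs, hRs⟩ := exists_fixed_set (Ω := Ω) (R : Subgroup (alternatingGroup Ω)) R.isPGroup'
    (2 ^ b) hch
  have hco1 : IsCoatom (stabilizer (alternatingGroup Ω) s) := by
    apply alternatingGroup.isCoatom_stabilizer
    · rw [← Set.ncard_pos]; omega
    · rw [← Set.ncard_pos, Set.ncard_compl]; omega
    · omega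
  have hW1 : (Subgroup.centralizer {ζ}).subgroupOf (alternatingGroup Ω) ≠ ⊤ := by
    obtain ⟨g, hgA, hg⟩ := exists_not_comm hfpf (by omega)
    intro h
    have : (⟨g, hgA⟩ : alternatingGroup Ω) ∈
        (Subgroup.centralizer {ζ}).subgroupOf (alternatingGroup Ω) := by rw [h]; trivial
    rw [Subgroup.mem_subgroupOf, Subgroup.mem_centralizer_iff] at this
    exact hg (this ζ rfl)
  obtain ⟨M₂, hM₂, hle2⟩ := (eq_top_or_exists_le_coatom _).resolve_left hW1
  apply not_existsUnique_of_two (R : Subgroup (alternatingGroup Ω)) _ _ hco1 hM₂ hRs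
  · intro r hr
    apply hle2
    rw [Subgroup.mem_subgroupOf, Subgroup.mem_centralizer_iff]
    rintro _ rfl
    exact (hζR r ⟨r, hr, rfl⟩).symm
  · intro heq
    obtain ⟨x, hx⟩ : s.Nonempty := by rw [← Set.ncard_pos]; omega
    obtain ⟨y, hy⟩ : sᶜ.Nonempty := by rw [← Set.ncard_pos, Set.ncard_compl]; omega
    obtain ⟨g, hgA, hgc, hgx⟩ := trans_lemma hinv hfpf (by omega) x y
    have : (⟨g, hgA⟩ : alternatingGroup Ω) ∈ stabilizer (alternatingGroup Ω) s := by
      rw [heq]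
      apply hle2
      rw [Subgroup.mem_subgroupOf, Subgroup.mem_centralizer_iff]
      rintro _ rfl
      exact hgc
    rw [mem_stabilizer_iff] at this
    apply hy
    rw [← this, ← hgx]
    exact Set.smul_mem_smul_set (a := (⟨g, hgA⟩ : alternatingGroup Ω)) hx

end evenmixed

open Cfsg.Agent.Lib.Helper1.NSym
open scoped Pointwise
open MulAction Equiv

section mainsec

variable {Ω : Type*} [DecidableEq Ω] [Fintype Ω]

theorem main_alt (hn5 : 5 ≤ Nat.card Ω) (R : Sylow 2 (alternatingGroup Ω)) :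
    (∃! M : Subgroup (alternatingGroup Ω), IsCoatom M ∧
      (R : Subgroup (alternatingGroup Ω)) ≤ M) ↔ ∃ k : ℕ, 2 ≤ k ∧ Nat.card Ω = 2 ^ k + 1 := by
  constructor
  · intro hu
    by_contra h
    rcases degree_cases (Nat.card Ω) hn5 h with ⟨b, m, hb, hm, hm3, hn⟩ | ⟨a, ha, hn⟩ |
      ⟨c, m, hc, hm, hm3, hn⟩
    · exact alt_not_unique_even b m hb hm hm3 hn R hu
    · exact alt_not_unique_two_pow a ha hn R hu
    · refine not_unique_odd R c m hc hm hm3 hn ?_ ?_ hu
      · intro t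
        exact alternatingGroup.exists_mem_stabilizer_smul_eq (by omega)
      · intro s h0 h1 hs
        exact alternatingGroup.isCoatom_stabilizer h0 h1 hs
  · rintro ⟨k, hk, hn⟩
    exact alt_unique k hk hn R

theorem main_perm (hn5 : 5 ≤ Nat.card Ω) (R : Sylow 2 (Perm Ω)) :
    (∃! M : Subgroup (Perm Ω), IsCoatom M ∧
      (R : Subgroup (Perm Ω)) ≤ M) ↔ ∃ k : ℕ, 2 ≤ k ∧ Nat.card Ω = 2 ^ k + 1 := by
  constructor
  · intro hu
    by_contra h
    rcases degree_cases (Nat.card Ω) hn5 h with ⟨b, m, hb, hm, hm3, hn⟩ | ⟨a, ha, hn⟩ |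
      ⟨c, m, hc, hm, hm3, hn⟩
    · exact perm_not_unique_even b m hb hm hm3 hn R hu
    · exact perm_not_unique_two_pow a ha hn R hu
    · refine not_unique_odd R c m hc hm hm3 hn ?_ ?_ hu
      · intro t
        exact Equiv.Perm.exists_mem_stabilizer_smul_eq
      · intro s h0 h1 hs
        exact Equiv.Perm.isCoatom_stabilizer h0 h1 hs
  · rintro ⟨k, hk, hn⟩
    exact perm_unique k hk hn R

theorem main (n : ℕ) (hn : 5 ≤ n) :
    ((∀ R : Sylow 2 ↥(alternatingGroup (Fin n)), (∃! M : Subgroup ↥(alternatingGroup (Fin n)),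
      IsCoatom M ∧ (R : Subgroup ↥(alternatingGroup (Fin n))) ≤ M) ↔
        ∃ k : ℕ, 2 ≤ k ∧ n = 2 ^ k + 1) ∧
    (∀ R : Sylow 2 (Equiv.Perm (Fin n)), (∃! M : Subgroup (Equiv.Perm (Fin n)),
      IsCoatom M ∧ (R : Subgroup (Equiv.Perm (Fin n))) ≤ M) ↔
        ∃ k : ℕ, 2 ≤ k ∧ n = 2 ^ k + 1)) := by
  have hc : Nat.card (Fin n) = n := by simp
  constructor
  · intro R
    have := main_alt (Ω := Fin n) (by rw [hc]; exact hn) R
    rw [hc] at this
    exact this
  · intro R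
    have := main_perm (Ω := Fin n) (by rw [hc]; exact hn) R
    rw [hc] at this
    exact this

end mainsec

end Cfsg.Agent.Lib.Helper1.SylMax
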