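import Mathlib
import Cfsg.Prelude.Def_Local
import Cfsg.Agent.Lib.Helper1.CoprimeSylow
import Cfsg.Agent.H5.PSolvable
import Cfsg.Agent.Lib.Helper22.PElt

/-!
# Sylow p normalizing Sylow q from class sizes (helper1)

`H1SylowNorm.main`: `G` `p`-solvable or `q`-solvable, no `q`-element has class size divisible by `p`
⟹ some Sylow `p`-subgroup normalizes some Sylow `q`-subgroup.
Auxiliary: `le_of_normal_pgroup_of_not_dvd_index`, `relIndex_normal_dvd_index`, `sylSetEquiv`,
`exists_invariant_sylSet_of_not_dvd` (fixed point lemma for Sylow subgroups of a normalized subgroup).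
-/

open Pointwise Subgroup Cfsg.Agent.Lib.Helper1
set_option autoImplicit false

namespace H1SylowNorm

universe u

section
variable {G : Type u} [Group G] [Finite G]

omit [Finite G] in
theorem relIndex_mul_card' {H K : Subgroup G} (h : H ≤ K) :
    H.relIndex K * Nat.card H = Nat.card K := by
  have := Subgroup.relIndex_mul_relIndex (⊥ : Subgroup G) H K bot_le h
  rw [Subgroup.relIndex_bot_left, Subgroup.relIndex_bot_left] at this
  rw [mul_comm]; exact this

/-- A normal `p`-subgroup lies in every subgroup of index prime to `p`. -/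
theorem le_of_normal_pgroup_of_not_dvd_index {p : ℕ} [hp : Fact p.Prime] (M C : Subgroup G)
    [M.Normal] (hM : IsPGroup p M) (hC : ¬ p ∣ C.index) : M ≤ C := by
  obtain ⟨T₀⟩ := (inferInstance : Nonempty (Sylow p C))
  set T : Subgroup G := (T₀ : Subgroup C).map C.subtype with hT
  have hTC : T ≤ C := Subgroup.map_subtype_le _
  have hcard : Nat.card T = p ^ (Nat.card G).factorization p := by
    rw [hT, ← Nat.card_congr ((T₀ : Subgroup C).equivMapOfInjective _ C.subtype_injective).toEquiv,
      T₀.card_eq_multiplicity]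
    congr 1
    have h1 : Nat.card C * C.index = Nat.card G := C.card_mul_index
    rw [← h1, Nat.factorization_mul (Nat.card_pos.ne') (fun h0 => hC (by rw [h0]; exact dvd_zero p))]
    simp [Nat.factorization_eq_zero_of_not_dvd hC]
  exact (hM.le_sylow_of_normal (Sylow.ofCard T hcard)).trans hTC

/-- For `M` normal, `|M : M ∩ C|` divides `|G : C|`. -/
theorem relIndex_normal_dvd_index (M C : Subgroup G) [M.Normal] : C.relIndex M ∣ C.index := by
  have h1 : M.relIndex (C ⊔ M) = M.relIndex C := Subgroup.relIndex_sup_right C M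
  have h2 : C.relIndex (C ⊔ M) ∣ C.index := Subgroup.relIndex_dvd_index_of_le le_sup_left
  suffices h : C.relIndex M = C.relIndex (C ⊔ M) by rw [h]; exact h2
  -- cardinal arithmetic
  have e1 : M.relIndex (C ⊔ M) * Nat.card M = Nat.card (C ⊔ M : Subgroup G) :=
    relIndex_mul_card' le_sup_right
  have e2 : C.relIndex (C ⊔ M) * Nat.card C = Nat.card (C ⊔ M : Subgroup G) :=
    relIndex_mul_card' le_sup_left
  have e3 : M.relIndex C * Nat.card (M ⊓ C : Subgroup G) = Nat.card C := by
    rw [← Subgroup.inf_relIndex_right]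
    exact relIndex_mul_card' inf_le_right
  have e4 : C.relIndex M * Nat.card (M ⊓ C : Subgroup G) = Nat.card M := by
    have h0 : (M ⊓ C).relIndex M = C.relIndex M := by rw [inf_comm]; exact Subgroup.inf_relIndex_right C M
    rw [← h0]
    exact relIndex_mul_card' inf_le_left
  have hpos : 0 < Nat.card (M ⊓ C : Subgroup G) := Nat.card_pos
  have hposC : 0 < M.relIndex C := by
    rcases Nat.eq_zero_or_pos (M.relIndex C) with h | h
    · rw [h, zero_mul] at e3; exact absurd e3.symm (Nat.card_pos.ne')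
    · exact h
  -- C.relIndex (C⊔M) * |C| = M.relIndex C * |M|
  rw [h1] at e1
  have : C.relIndex (C ⊔ M) * (M.relIndex C * Nat.card (M ⊓ C : Subgroup G)) =
      M.relIndex C * (C.relIndex M * Nat.card (M ⊓ C : Subgroup G)) := by
    rw [e3, e4, e2, e1]
  have h5 : C.relIndex (C ⊔ M) * (M.relIndex C * Nat.card (M ⊓ C : Subgroup G)) =
      C.relIndex M * (M.relIndex C * Nat.card (M ⊓ C : Subgroup G)) := by
    rw [this]; ring
  exact (Nat.eq_of_mul_eq_mul_right (Nat.mul_pos hposC hpos) h5).symm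


/-- `SylSet p K ≃ Sylow p K`. -/
noncomputable def sylSetEquiv (p : ℕ) [Fact p.Prime] (K : Subgroup G) : SylSet p K ≃ Sylow p K where
  toFun x := x.toSylow
  invFun P := SylSet.ofSylow P
  left_inv x := by
    apply Subtype.ext
    exact x.toSylow_map
  right_inv P := by
    apply Sylow.ext
    apply Subgroup.map_injective K.subtype_injective
    rw [SylSet.toSylow_map]
    rfl

/-- Fixed-point lemma: a `p`-group normalizing `H` normalizes some Sylow `q`-subgroup of `H` as soon
as the number of Sylow `q`-subgroups of `H` is prime to `p`. -/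
theorem exists_invariant_sylSet_of_not_dvd {p q : ℕ} [Fact p.Prime] [Fact q.Prime]
    (H P : Subgroup G) (hP : IsPGroup p P) (hPH : P ≤ normalizer (H : Set G))
    (hcount : ¬ p ∣ Nat.card (Sylow q H)) :
    ∃ Q' : SylSet q H, P ≤ normalizer (Q'.1 : Set G) := by
  let _ := sylSetAction q H P hPH
  have hfin : Finite (SylSet q H) := Finite.of_equiv _ (sylSetEquiv q H).symm
  have hc : ¬ p ∣ Nat.card (SylSet q H) := by
    rw [Nat.card_congr (sylSetEquiv q H)]; exact hcount
  obtain ⟨Q', hQ'⟩ := hP.nonempty_fixed_point_of_prime_not_dvd_card (SylSet q H) hc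
  refine ⟨Q', ?_⟩
  intro x hx
  have h1 : (⟨x, hx⟩ : P) • Q' = Q' := hQ' ⟨x, hx⟩
  have h2 : MulAut.conj x • Q'.1 = Q'.1 := congrArg Subtype.val h1
  exact conj_smul_eq_self_iff_mem_normalizer.mp h2


/-- The hypothesis: every `q`-element has class size prime to `p`. -/
def Hyp (p q : ℕ) (G : Type*) [Group G] : Prop :=
  ∀ y : G, (∃ k : ℕ, orderOf y = q ^ k) → ¬ p ∣ (Subgroup.centralizer ({y} : Set G)).index

theorem Hyp.quotient {p q : ℕ} [Fact q.Prime] (h : Hyp p q G) (M : Subgroup G) [M.Normal] :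
    Hyp p q (G ⧸ M) := by
  intro ybar hybar
  obtain ⟨y, hy, rfl⟩ := Cfsg.Agent.Lib.Helper22.exists_pElt_lift q M ybar hybar
  have h1 := h y hy
  have hle : (Subgroup.centralizer ({y} : Set G)).map (QuotientGroup.mk' M) ≤
      Subgroup.centralizer ({(QuotientGroup.mk y : G ⧸ M)} : Set (G ⧸ M)) := by
    rintro _ ⟨c, hc, rfl⟩
    have hc : c ∈ Subgroup.centralizer ({y} : Set G) := hc
    rw [Subgroup.mem_centralizer_singleton_iff] at hc ⊢
    show (QuotientGroup.mk c : G ⧸ M) * QuotientGroup.mk y = QuotientGroup.mk y * QuotientGroup.mk c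
    rw [← QuotientGroup.mk_mul, ← QuotientGroup.mk_mul, hc]
  intro hdvd
  apply h1
  exact (hdvd.trans (Subgroup.index_dvd_of_le hle)).trans
    (Subgroup.index_map_dvd _ (QuotientGroup.mk'_surjective M))

/-- card of `Q ⊔ M` divides `card Q * card M` for `M` normal. -/
theorem card_sup_dvd (Q M : Subgroup G) [M.Normal] :
    Nat.card (Q ⊔ M : Subgroup G) ∣ Nat.card Q * Nat.card M := by
  have h1 : M.relIndex (Q ⊔ M) = M.relIndex Q := Subgroup.relIndex_sup_right Q M
  have e1 : M.relIndex (Q ⊔ M) * Nat.card M = Nat.card (Q ⊔ M : Subgroup G) :=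
    relIndex_mul_card' le_sup_right
  rw [← e1, h1]
  exact Nat.mul_dvd_mul_right (Subgroup.relIndex_dvd_card M Q) _


/-- Finish: from a count prime to `p`. -/
theorem finish_of_count {p q : ℕ} [Fact p.Prime] [hq : Fact q.Prime]
    (H : Subgroup G) (P : Sylow p G) (Q : Sylow q G) (hQH : (Q : Subgroup G) ≤ H)
    (hPH : (P : Subgroup G) ≤ normalizer (H : Set G))
    (hcount : ¬ p ∣ Nat.card (Sylow q H)) :
    ∃ (P' : Sylow p G) (Q' : Sylow q G),
      (P' : Subgroup G) ≤ normalizer ((Q' : Subgroup G) : Set G) := by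
  obtain ⟨Q', hQ'⟩ := exists_invariant_sylSet_of_not_dvd H (P : Subgroup G) P.isPGroup' hPH hcount
  have hfac : (Nat.card H).factorization q = (Nat.card G).factorization q := by
    apply le_antisymm
    · exact (Nat.factorization_le_iff_dvd (Nat.card_pos.ne') (Nat.card_pos.ne')).mpr
        (Subgroup.card_subgroup_dvd_card H) q
    · have h1 : Nat.card Q ∣ Nat.card H := Subgroup.card_dvd_of_le hQH
      rw [Q.card_eq_multiplicity] at h1
      exact (Nat.Prime.pow_dvd_iff_le_factorization hq.out (Nat.card_pos.ne')).mp h1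
  have hcard : Nat.card Q'.1 = q ^ (Nat.card G).factorization q := by
    rw [Q'.2.2, hfac]
  exact ⟨P, Sylow.ofCard Q'.1 hcard, by rw [Sylow.coe_ofCard]; exact hQ'⟩


/-- In case (d): a `Q`-invariant Sylow `p`-subgroup of `M` is centralized by `Q`. -/
theorem exists_sylSet_le_centralizer {p q : ℕ} [hp : Fact p.Prime] [hq : Fact q.Prime]
    (h : Hyp p q G) (M : Subgroup G) [hMn : M.Normal] (hM : (Nat.card M).Coprime q)
    (Q : Sylow q G) :
    ∃ P₀ : SylSet p M, P₀.1 ≤ centralizer ((Q : Subgroup G) : Set G) := by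
  have hQM : (Q : Subgroup G) ≤ normalizer (M : Set G) := by
    rw [Subgroup.normalizer_eq_top]; exact le_top
  have hcardQ : Nat.card Q = q ^ (Nat.card G).factorization q := Q.card_eq_multiplicity
  have hcop : (Nat.card (Q : Subgroup G)).Coprime (Nat.card M) := by
    rw [hcardQ]; exact Nat.Coprime.pow_left _ hM.symm
  have hQsolv : Group.IsSolvable (Q : Subgroup G) := by
    have : Group.IsNilpotent (Q : Subgroup G) := Q.isPGroup'.isNilpotent
    infer_instance
  have hact : CoprimeAct (Q : Subgroup G) M := ⟨hQM, hcop, Or.inl hQsolv⟩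
  obtain ⟨P₀, hP₀⟩ := hact.exists_invariant_sylSet p
  refine ⟨P₀, ?_⟩
  -- each y ∈ Q centralizes P₀
  have key : ∀ y ∈ (Q : Subgroup G), P₀.1 ≤ centralizer ({y} : Set G) := by
    intro y hy
    have hyq : ∃ k : ℕ, orderOf y = q ^ k := Cfsg.Agent.Lib.Helper22.isPElt_of_mem_sylow Q y hy
    set C : Subgroup G := centralizer ({y} : Set G) with hC
    have hCi : ¬ p ∣ C.index := h y hyq
    have hrel : ¬ p ∣ C.relIndex M := fun hd => hCi (hd.trans (relIndex_normal_dvd_index M C))
    have hzQ : zpowers y ≤ (Q : Subgroup G) := (Subgroup.zpowers_le).mpr hy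
    have hact' : CoprimeAct (zpowers y) M := by
      refine ⟨hzQ.trans hQM, ?_, Or.inl ?_⟩
      · exact Nat.Coprime.coprime_dvd_left (Subgroup.card_dvd_of_le hzQ) hcop
      · infer_instance
    -- T
    obtain ⟨T₀⟩ := (inferInstance : Nonempty (Sylow p (M ⊓ C : Subgroup G)))
    set T : Subgroup G := (T₀ : Subgroup (M ⊓ C : Subgroup G)).map (M ⊓ C).subtype with hT
    have hTle : T ≤ M ⊓ C := Subgroup.map_subtype_le _
    have hTcard : Nat.card T = p ^ (Nat.card M).factorization p := by
      rw [hT, ← Nat.card_congr ((T₀ : Subgroup (M ⊓ C : Subgroup G)).equivMapOfInjective _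
        (M ⊓ C).subtype_injective).toEquiv, T₀.card_eq_multiplicity]
      congr 1
      have e4 : C.relIndex M * Nat.card (M ⊓ C : Subgroup G) = Nat.card M := by
        have h0 : (M ⊓ C).relIndex M = C.relIndex M := by
          rw [inf_comm]; exact Subgroup.inf_relIndex_right C M
        rw [← h0]
        exact relIndex_mul_card' inf_le_left
      have hne : C.relIndex M ≠ 0 := fun h0 => hrel (by rw [h0]; exact dvd_zero p)
      rw [← e4, Nat.factorization_mul hne (Nat.card_pos.ne')]
      simp [Nat.factorization_eq_zero_of_not_dvd hrel]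
    let T' : SylSet p M := ⟨T, hTle.trans inf_le_left, hTcard⟩
    have hyT : zpowers y ≤ normalizer (T : Set G) := by
      rw [Subgroup.zpowers_le]
      apply Subgroup.centralizer_le_normalizer
      rw [Subgroup.mem_centralizer_iff]
      intro t ht
      have htC : t ∈ C := (hTle ht).2
      rw [hC, Subgroup.mem_centralizer_singleton_iff] at htC
      exact htC
    have hyP₀ : zpowers y ≤ normalizer (P₀.1 : Set G) := hzQ.trans hP₀
    obtain ⟨c, hc, hcT⟩ := hact'.exists_conj_sylSet T' P₀ hyT hyP₀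
    obtain ⟨hcM, hcy⟩ := Subgroup.mem_inf.mp hc
    have hcy' : Commute c y := by
      have := (Subgroup.mem_centralizer_iff.mp hcy) y (Subgroup.mem_zpowers y)
      exact this.symm
    intro x hx
    rw [← hcT] at hx
    have hx' : c⁻¹ * x * c ∈ T := mem_conj_smul.mp hx
    have hxC : c⁻¹ * x * c ∈ C := (hTle hx').2
    rw [hC, Subgroup.mem_centralizer_singleton_iff] at hxC ⊢
    have hxC' : Commute (c⁻¹ * x * c) y := hxC
    have h1 : x = c * (c⁻¹ * x * c) * c⁻¹ := by group
    have : Commute x y := by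
      rw [h1]
      exact (hcy'.mul_left hxC').mul_left hcy'.inv_left
    exact this
  intro x hx
  rw [Subgroup.mem_centralizer_iff]
  intro y hy
  have := key y hy hx
  rw [Subgroup.mem_centralizer_singleton_iff] at this
  exact this.symm


/-- Case (d): the number of Sylow `q`-subgroups of `QM` is prime to `p`. -/
theorem count_of_coprime_q {p q : ℕ} [hp : Fact p.Prime] [hq : Fact q.Prime] (hpq : p ≠ q)
    (h : Hyp p q G) (M : Subgroup G) [hMn : M.Normal] (hM : (Nat.card M).Coprime q)
    (Q : Sylow q G) :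
    ¬ p ∣ Nat.card (Sylow q (Q ⊔ M : Subgroup G)) := by
  obtain ⟨P₀, hP₀⟩ := exists_sylSet_le_centralizer (p := p) h M hM Q
  set H : Subgroup G := (Q : Subgroup G) ⊔ M with hH
  have hQH : (Q : Subgroup G) ≤ H := le_sup_left
  have hP₀H : P₀.1 ≤ H := P₀.2.1.trans le_sup_right
  let QH : Sylow q H := Q.subtype hQH
  rw [Sylow.card_eq_index_normalizer QH]
  have hle : P₀.1.subgroupOf H ≤ normalizer ((QH : Subgroup H) : Set H) := by
    intro z hz
    have hz' : (z : G) ∈ P₀.1 := Subgroup.mem_subgroupOf.mp hz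
    have hzN : (z : G) ∈ normalizer ((Q : Subgroup G) : Set G) :=
      Subgroup.centralizer_le_normalizer _ (hP₀ hz')
    rw [Subgroup.mem_normalizer_iff]
    intro w
    rw [Sylow.coe_subtype, Subgroup.mem_subgroupOf, Subgroup.mem_subgroupOf]
    exact (Subgroup.mem_normalizer_iff.mp hzN) (w : G)
  intro hdvd
  have h1 : p ∣ (P₀.1.subgroupOf H).index := hdvd.trans (Subgroup.index_dvd_of_le hle)
  have h2 : P₀.1.relIndex H * Nat.card P₀.1 = Nat.card H := relIndex_mul_card' hP₀H
  have h3 : Nat.card H ∣ Nat.card (Q : Subgroup G) * Nat.card M := card_sup_dvd _ _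
  rw [P₀.2.2] at h2
  have h4 : p ^ ((Nat.card M).factorization p + 1) ∣ Nat.card (Q : Subgroup G) * Nat.card M := by
    refine dvd_trans ?_ h3
    rw [← h2, pow_succ, mul_comm]
    exact Nat.mul_dvd_mul h1 dvd_rfl
  have hcardQ : Nat.card (Q : Subgroup G) = q ^ (Nat.card G).factorization q :=
    Q.card_eq_multiplicity
  have hcopQ : Nat.Coprime (p ^ ((Nat.card M).factorization p + 1)) (Nat.card (Q : Subgroup G)) := by
    rw [hcardQ]
    exact Nat.coprime_pow_primes _ _ hp.out hq.out hpq
  have h5 : p ^ ((Nat.card M).factorization p + 1) ∣ Nat.card M := hcopQ.dvd_of_dvd_mul_left h4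
  exact Nat.pow_succ_factorization_not_dvd (Nat.card_pos.ne') hp.out h5


/-- The inductive step. -/
theorem step {p q : ℕ} [hp : Fact p.Prime] [hq : Fact q.Prime] (hpq : p ≠ q) (h : Hyp p q G)
    (M : Subgroup G) [M.Normal] (P : Sylow p G) (Q : Sylow q G)
    (hPH : (P : Subgroup G) ≤ normalizer (((Q : Subgroup G) ⊔ M : Subgroup G) : Set G))
    (hM : IsPGroup p M ∨ (Nat.card M).Coprime p ∨ IsPGroup q M ∨ (Nat.card M).Coprime q) :
    ∃ (P' : Sylow p G) (Q' : Sylow q G),
      (P' : Subgroup G) ≤ normalizer ((Q' : Subgroup G) : Set G) := by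
  rcases hM with hM | hM | hM | hM
  · -- (a) M a p-group
    have hQM : ∀ y ∈ (Q : Subgroup G), M ≤ centralizer ({y} : Set G) := by
      intro y hy
      exact le_of_normal_pgroup_of_not_dvd_index M _ hM
        (h y (Cfsg.Agent.Lib.Helper22.isPElt_of_mem_sylow Q y hy))
    have hMN : M ≤ normalizer ((Q : Subgroup G) : Set G) := by
      intro m hm
      apply Subgroup.centralizer_le_normalizer
      rw [Subgroup.mem_centralizer_iff]
      intro y hy
      have := hQM y hy hm
      rw [Subgroup.mem_centralizer_singleton_iff] at this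
      exact this.symm
    have hHN : (Q : Subgroup G) ⊔ M ≤ normalizer ((Q : Subgroup G) : Set G) :=
      sup_le Subgroup.le_normalizer hMN
    refine ⟨P, Q, ?_⟩
    intro x hx
    have hxH := hPH hx
    have h1 : ((x • Q : Sylow q G) : Subgroup G) ≤ (Q : Subgroup G) ⊔ M := by
      rw [Sylow.coe_subgroup_smul]
      exact conj_smul_le_of_mem_normalizer hxH le_sup_left
    have h2 : IsPGroup q (((Q : Subgroup G) ⊔ ((x • Q : Sylow q G) : Subgroup G) : Subgroup G)) :=
      IsPGroup.to_sup_of_normal_left' Q.isPGroup' (x • Q : Sylow q G).isPGroup' (h1.trans hHN)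
    have h3 := Q.is_maximal' h2 le_sup_left
    have h4 : ((x • Q : Sylow q G) : Subgroup G) ≤ Q := by
      rw [← h3]; exact le_sup_right
    have h5 : (Q : Subgroup G) = ((x • Q : Sylow q G) : Subgroup G) :=
      (x • Q : Sylow q G).is_maximal' Q.isPGroup' h4
    have h6 : x • Q = Q := Sylow.ext h5.symm
    exact Sylow.smul_eq_iff_mem_normalizer.mp h6
  · -- (b) M a p'-group
    apply finish_of_count ((Q : Subgroup G) ⊔ M) P Q le_sup_left hPH
    intro hdvd
    obtain ⟨S⟩ := (inferInstance : Nonempty (Sylow q ((Q : Subgroup G) ⊔ M : Subgroup G)))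
    have h1 : p ∣ Nat.card ((Q : Subgroup G) ⊔ M : Subgroup G) :=
      (hdvd.trans (Sylow.card_dvd_index S)).trans (Subgroup.index_dvd_card _)
    have h2 : p ∣ Nat.card (Q : Subgroup G) * Nat.card M := h1.trans (card_sup_dvd _ _)
    have hcardQ : Nat.card (Q : Subgroup G) = q ^ (Nat.card G).factorization q :=
      Q.card_eq_multiplicity
    rcases (Nat.Prime.dvd_mul hp.out).mp h2 with h3 | h3
    · rw [hcardQ] at h3
      have := (Nat.prime_dvd_prime_iff_eq hp.out hq.out).mp (hp.out.dvd_of_dvd_pow h3)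
      exact hpq this
    · exact (Nat.Prime.coprime_iff_not_dvd hp.out).mp hM.symm h3
  · -- (c) M a q-group
    have hMQ : M ≤ (Q : Subgroup G) := hM.le_sylow_of_normal Q
    have : (Q : Subgroup G) ⊔ M = Q := sup_eq_left.mpr hMQ
    rw [this] at hPH
    exact ⟨P, Q, hPH⟩
  · -- (d) M a q'-group
    exact finish_of_count ((Q : Subgroup G) ⊔ M) P Q le_sup_left hPH
      (count_of_coprime_q hpq h M hM Q)

end

theorem main_aux {p q : ℕ} [hp : Fact p.Prime] [hq : Fact q.Prime] (hpq : p ≠ q) :
    ∀ (n : ℕ) (G : Type u) [Group G] [Finite G], Nat.card G = n →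
      (Cfsg.IsPSolvable p G ∨ Cfsg.IsPSolvable q G) → Hyp p q G →
      ∃ (P : Sylow p G) (Q : Sylow q G),
        (P : Subgroup G) ≤ normalizer ((Q : Subgroup G) : Set G) := by
  intro n
  induction n using Nat.strong_induction_on with
  | _ n ih =>
  intro G _ _ hn hsolv h
  by_cases hG : Subsingleton G
  · obtain ⟨P⟩ := (inferInstance : Nonempty (Sylow p G))
    obtain ⟨Q⟩ := (inferInstance : Nonempty (Sylow q G))
    refine ⟨P, Q, ?_⟩
    intro x _
    rw [Subsingleton.elim x 1]
    exact one_mem _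
  · rw [not_subsingleton_iff_nontrivial] at hG
    have htop : (⊤ : Subgroup G) ≠ ⊥ := top_ne_bot
    -- get M
    obtain ⟨M, hMn, hM1, hM⟩ : ∃ M : Subgroup G, M.Normal ∧ M ≠ ⊥ ∧
        (IsPGroup p M ∨ (Nat.card M).Coprime p ∨ IsPGroup q M ∨ (Nat.card M).Coprime q) := by
      rcases hsolv with hs | hs
      · obtain ⟨L, -, hLn, hL1, hL⟩ := Cfsg.H5.exists_normal_p_or_pPrime_le hs ⊤ inferInstance htop
        rcases hL with hL | hL
        · exact ⟨L, hLn, hL1, Or.inl hL⟩
        · exact ⟨L, hLn, hL1, Or.inr (Or.inl hL)⟩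
      · obtain ⟨L, -, hLn, hL1, hL⟩ := Cfsg.H5.exists_normal_p_or_pPrime_le hs ⊤ inferInstance htop
        rcases hL with hL | hL
        · exact ⟨L, hLn, hL1, Or.inr (Or.inr (Or.inl hL))⟩
        · exact ⟨L, hLn, hL1, Or.inr (Or.inr (Or.inr hL))⟩
    -- quotient
    have hcardlt : Nat.card (G ⧸ M) < n := by
      rw [← hn, ← Subgroup.index_eq_card, ← M.card_mul_index]
      have h1 : 1 < Nat.card M := by
        rw [Subgroup.one_lt_card_iff_ne_bot]; exact hM1
      have h2 : 0 < M.index := Nat.pos_of_ne_zero Subgroup.index_ne_zero_of_finite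
      nlinarith
    have hsolv' : Cfsg.IsPSolvable p (G ⧸ M) ∨ Cfsg.IsPSolvable q (G ⧸ M) := by
      rcases hsolv with hs | hs
      · exact Or.inl (Cfsg.H5.isPSolvable_quotient M hs)
      · exact Or.inr (Cfsg.H5.isPSolvable_quotient M hs)
    obtain ⟨Pbar, Qbar, hbar⟩ := ih _ hcardlt (G ⧸ M) rfl hsolv' (h.quotient M)
    have hπ := QuotientGroup.mk'_surjective M
    obtain ⟨P, rfl⟩ := Sylow.mapSurjective_surjective hπ p Pbar
    obtain ⟨Q, rfl⟩ := Sylow.mapSurjective_surjective hπ q Qbar
    apply step hpq h M P Q ?_ hM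
    intro x hx
    have h1 : (QuotientGroup.mk' M) x ∈ ((P.mapSurjective hπ : Sylow p (G ⧸ M)) : Subgroup (G ⧸ M)) := by
      rw [Sylow.coe_mapSurjective]
      exact Subgroup.mem_map_of_mem _ hx
    have h2 := hbar h1
    rw [Sylow.coe_mapSurjective] at h2
    have h3 : x ∈ (normalizer (((Q : Subgroup G).map (QuotientGroup.mk' M) : Subgroup (G ⧸ M)) : Set (G ⧸ M))).comap (QuotientGroup.mk' M) := h2
    rw [Subgroup.comap_normalizer_eq_of_surjective _ hπ, Subgroup.comap_map_eq,
      QuotientGroup.ker_mk'] at h3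
    exact h3


/-- Main theorem. -/
theorem main {G : Type u} [Group G] [Finite G] (p q : ℕ) [hp : Fact p.Prime] [hq : Fact q.Prime]
    (hsolv : Cfsg.IsPSolvable p G ∨ Cfsg.IsPSolvable q G)
    (h : ∀ y : G, (∃ k : ℕ, orderOf y = q ^ k) →
      ¬ p ∣ (Subgroup.centralizer ({y} : Set G)).index) :
    ∃ (P : Sylow p G) (Q : Sylow q G),
      (P : Subgroup G) ≤ Subgroup.normalizer ((Q : Subgroup G) : Set G) := by
  by_cases hpq : p = q
  · subst hpq
    obtain ⟨P⟩ := (inferInstance : Nonempty (Sylow p G))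
    exact ⟨P, P, Subgroup.le_normalizer⟩
  · exact main_aux hpq _ G rfl hsolv h

end H1SylowNorm
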