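import Mathlib
import Cfsg.Agent.Lib.Helper6.SiegelOmega

/-!
# Hyperbolic frames and the groups `S L x` of Siegel parameters

For a quadratic form `Q` on `F^ι`, a *hyperbolic frame* is a family of singular vectors `b x`
(`x : X`) with an involution `st` on `X` such that `polar (b x) (b y) = 1` if `y = st x` and
`0` otherwise.  For a subgroup `L` of the isometry group, `S L x` is the additive group of all
`v ⟂ b x` such that the Siegel transformation `ρ_{b x, v}` lies in `L`.
-/

set_option autoImplicit false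
set_option linter.unusedSectionVars false
set_option linter.unusedVariables false

namespace Cfsg.Agent.Lib.Helper1.TG

open Cfsg.Agent.Lib.Helper6 QuadraticMap Matrix

section
variable {F : Type*} [Field F] {ι : Type} [Fintype ι] [DecidableEq ι]
  (Q : QuadraticForm F (ι → F))

/-- for two orthogonal singular vectors, `ρ_{u,w} = ρ_{w,-u}` -/
theorem siegIso_swap (u w : ι → F) (hu : Q u = 0) (hw : Q w = 0) (huw : polar (⇑Q) u w = 0) :
    siegIso Q u w hu huw = siegIso Q w (-u) hw (by
      rw [polar_neg_right, polar_comm, huw, neg_zero]) := by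
  apply iso_ext_gact
  intro x
  rw [gact_siegIso, gact_siegIso, hw, QuadraticMap.map_neg, hu]
  ext i
  simp only [polar_neg_left, zero_mul, sub_zero, Pi.add_apply, Pi.smul_apply, Pi.neg_apply,
    smul_eq_mul]
  ring

/-- a hyperbolic frame -/
structure HFrame (X : Type) [DecidableEq X] where
  b : X → (ι → F)
  st : X → X
  st_st : ∀ x, st (st x) = x
  sing : ∀ x, Q (b x) = 0
  pol : ∀ x y, polar (⇑Q) (b x) (b y) = if y = st x then 1 else 0

variable {Q} {X : Type} [DecidableEq X] (fr : HFrame Q X)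

theorem HFrame.st_ne (x : X) : fr.st x ≠ x := by
  intro h
  have h1 := fr.pol x x
  rw [if_pos h.symm, polar_self, fr.sing x, smul_zero] at h1
  exact zero_ne_one h1

theorem HFrame.st_inj {x y : X} (h : fr.st x = fr.st y) : x = y := by
  rw [← fr.st_st x, h, fr.st_st]

theorem HFrame.pol_st (x : X) : polar (⇑Q) (fr.b x) (fr.b (fr.st x)) = 1 := by
  rw [fr.pol, if_pos rfl]

theorem HFrame.pol_st' (x : X) : polar (⇑Q) (fr.b (fr.st x)) (fr.b x) = 1 := by
  rw [fr.pol, if_pos (fr.st_st x).symm]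

theorem HFrame.pol_ne {x y : X} (h : y ≠ fr.st x) : polar (⇑Q) (fr.b x) (fr.b y) = 0 := by
  rw [fr.pol, if_neg h]

theorem HFrame.b_ne_zero (x : X) : fr.b x ≠ 0 := by
  intro h
  have := fr.pol_st x
  rw [h, polar_zero_left] at this
  exact zero_ne_one this

/-- the additive group of Siegel parameters at `b x` lying in `L` -/
def S (L : Subgroup ↥(Cfsg.isometryGroup F ⇑Q)) (x : X) : AddSubgroup (ι → F) where
  carrier := {v | ∃ h : polar (⇑Q) (fr.b x) v = 0, siegIso Q (fr.b x) v (fr.sing x) h ∈ L}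
  zero_mem' := ⟨by simp, by rw [siegIso_zero]; exact one_mem L⟩
  add_mem' := by
    rintro v w ⟨hv, hv'⟩ ⟨hw, hw'⟩
    refine ⟨by rw [polar_add_right, hv, hw, add_zero], ?_⟩
    rw [← siegIso_mul Q _ v w (fr.sing x) hv hw]
    exact mul_mem hv' hw'
  neg_mem' := by
    rintro v ⟨hv, hv'⟩
    refine ⟨by rw [polar_neg_right, hv, neg_zero], ?_⟩
    rw [← siegIso_inv Q _ v (fr.sing x) hv]
    exact inv_mem hv'

variable {fr} {L : Subgroup ↥(Cfsg.isometryGroup F ⇑Q)}

theorem mem_S_iff {x : X} {v : ι → F} :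
    v ∈ S fr L x ↔ ∃ h : polar (⇑Q) (fr.b x) v = 0, siegIso Q (fr.b x) v (fr.sing x) h ∈ L :=
  Iff.rfl

theorem perp_of_mem_S {x : X} {v : ι → F} (h : v ∈ S fr L x) : polar (⇑Q) (fr.b x) v = 0 :=
  h.1

theorem siegIso_mem_of_mem_S {x : X} {v : ι → F} (h : v ∈ S fr L x)
    (h' : polar (⇑Q) (fr.b x) v = 0) : siegIso Q (fr.b x) v (fr.sing x) h' ∈ L :=
  h.2

/-- multiples of `b x` are trivially in `S L x` -/
theorem smul_self_mem_S (x : X) (t : F) : t • fr.b x ∈ S fr L x := by
  have h0 : polar (⇑Q) (fr.b x) (t • fr.b x) = 0 := by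
    rw [polar_smul_right, polar_self, fr.sing x]; simp
  refine ⟨h0, ?_⟩
  have := siegIso_add_smul Q t (fr.b x) 0 (fr.sing x) (by simp)
  rw [siegIso_congr Q (fr.b x) (t • fr.b x) (0 + t • fr.b x) (fr.sing x) h0 (zero_add _).symm, this,
    siegIso_zero]
  exact one_mem L

/-- the conjugation rule -/
theorem conj_mem_S {g : ↥(Cfsg.isometryGroup F ⇑Q)} (hg : g ∈ L) {x x' : X} {c : F}
    (hgx : gact Q g (fr.b x) = c • fr.b x') {v : ι → F} (hv : v ∈ S fr L x) :
    c • gact Q g v ∈ S fr L x' := by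
  obtain ⟨h1, h2⟩ := hv
  have h3 : g * siegIso Q (fr.b x) v (fr.sing x) h1 * g⁻¹ ∈ L := mul_mem (mul_mem hg h2) (inv_mem hg)
  rw [conj_siegIso] at h3
  have hp : polar (⇑Q) (fr.b x') (gact Q g v) = 0 ∨ c = 0 := by
    have : polar (⇑Q) (gact Q g (fr.b x)) (gact Q g v) = 0 := by rw [polar_gact, h1]
    rw [hgx, polar_smul_left, smul_eq_mul] at this
    rcases mul_eq_zero.mp this with h | h
    · exact Or.inr h
    · exact Or.inl h
  have hc : c ≠ 0 := by
    intro hc
    rw [hc, zero_smul] at hgx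
    exact fr.b_ne_zero x ((gact_eq_zero_iff Q g _).mp hgx)
  have hp' : polar (⇑Q) (fr.b x') (gact Q g v) = 0 := hp.resolve_right hc
  have h0 : polar (⇑Q) (fr.b x') (c • gact Q g v) = 0 := by
    rw [polar_smul_right, hp', smul_zero]
  refine ⟨h0, ?_⟩
  have e : siegIso Q (gact Q g (fr.b x)) (gact Q g v) (by rw [Q_gact, fr.sing x])
      (by rw [polar_gact, h1]) =
      siegIso Q (fr.b x') (c • gact Q g v) (fr.sing x') h0 := by
    rw [← siegIso_smul_left Q c (fr.b x') (gact Q g v) (fr.sing x') hp']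
    apply iso_ext_gact
    intro y
    rw [gact_siegIso, gact_siegIso, hgx]
  rw [← e]
  exact h3

/-- symmetry -/
theorem smul_mem_S_symm {x y : X} (hxy : y ≠ fr.st x) {t : F} (h : t • fr.b y ∈ S fr L x) :
    t • fr.b x ∈ S fr L y := by
  obtain ⟨h1, h2⟩ := h
  have hyx : x ≠ fr.st y := by
    intro h
    apply hxy
    rw [h, fr.st_st]
  have h0 : polar (⇑Q) (fr.b y) (t • fr.b x) = 0 := by
    rw [polar_smul_right, fr.pol_ne hyx, smul_zero]
  have h3 : (-t) • fr.b x ∈ S fr L y := by
    have h0' : polar (⇑Q) (fr.b y) ((-t) • fr.b x) = 0 := by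
      rw [polar_smul_right, fr.pol_ne hyx, smul_zero]
    refine ⟨h0', ?_⟩
    have e : siegIso Q (fr.b x) (t • fr.b y) (fr.sing x) h1 =
        siegIso Q (fr.b y) ((-t) • fr.b x) (fr.sing y) h0' := by
      apply iso_ext_gact
      intro z
      rw [gact_siegIso, gact_siegIso, Q_smul, Q_smul, fr.sing x, fr.sing y]
      ext i
      simp only [polar_smul_left, smul_eq_mul, mul_zero, zero_mul, sub_zero, Pi.add_apply,
        Pi.smul_apply, Pi.neg_apply, neg_mul]
      ring
    rw [← e]
    exact h2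
  have := (S fr L y).neg_mem h3
  rwa [← neg_smul, neg_neg] at this

end

end Cfsg.Agent.Lib.Helper1.TG
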