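import Mathlib
import Cfsg.Agent.Lib.Helper1.TG1

/-!
# A subgroup containing all Siegel transformations at the frame vectors contains `Ω`
-/

set_option autoImplicit false
set_option linter.unusedSectionVars false
set_option linter.unusedVariables false

namespace Cfsg.Agent.Lib.Helper1.TG

open Cfsg.Agent.Lib.Helper6 QuadraticMap Matrix

section
variable {F : Type*} [Field F] {ι : Type} [Fintype ι] [DecidableEq ι]
  {Q : QuadraticForm F (ι → F)} {X : Type} [DecidableEq X] (fr : HFrame Q X)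
  (L : Subgroup ↥(Cfsg.isometryGroup F ⇑Q))

/-- the orbit relation of `L` on vectors -/
def Rel (u u' : ι → F) : Prop := ∃ g ∈ L, gact Q g u = u'

variable {fr} {L}

theorem Rel.refl (u : ι → F) : Rel L u u := ⟨1, one_mem L, gact_one Q u⟩

theorem Rel.symm {u u' : ι → F} (h : Rel L u u') : Rel L u' u := by
  obtain ⟨g, hg, rfl⟩ := h
  exact ⟨g⁻¹, inv_mem hg, gact_inv_gact Q g u⟩

theorem Rel.trans {u u' u'' : ι → F} (h : Rel L u u') (h' : Rel L u' u'') : Rel L u u'' := by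
  obtain ⟨g, hg, rfl⟩ := h
  obtain ⟨g', hg', rfl⟩ := h'
  exact ⟨g' * g, mul_mem hg' hg, gact_mul Q g' g u⟩

/-- singular vectors with `polar (b x) u = c ≠ 0` are in the orbit of `c • b (st x)` -/
theorem rel_of_polar (hfull : ∀ x v, polar (⇑Q) (fr.b x) v = 0 → v ∈ S fr L x)
    (x : X) (u : ι → F) (hu : Q u = 0) {c : F} (hc : c ≠ 0) (hcu : polar (⇑Q) (fr.b x) u = c) :
    Rel L (c • fr.b (fr.st x)) u := by
  have hv : polar (⇑Q) (fr.b x) (fr.b (fr.st x) - c⁻¹ • u) = 0 := by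
    rw [polar_sub_right, fr.pol_st, polar_smul_right, hcu, smul_eq_mul, inv_mul_cancel₀ hc, sub_self]
  obtain ⟨_, hg⟩ := hfull x _ hv
  refine ⟨_, hg, ?_⟩
  rw [gact_smul, gact_siegIso, fr.pol_st]
  have hQv : Q (fr.b (fr.st x) - c⁻¹ • u) = - (c⁻¹ * polar (⇑Q) (fr.b (fr.st x)) u) := by
    rw [Q_sub, fr.sing, Q_smul, hu, polar_smul_right, smul_eq_mul]
    ring
  have hpv : polar (⇑Q) (fr.b (fr.st x) - c⁻¹ • u) (fr.b (fr.st x)) =
      - (c⁻¹ * polar (⇑Q) (fr.b (fr.st x)) u) := by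
    rw [polar_sub_left, polar_self, fr.sing, polar_smul_left, smul_eq_mul,
      polar_comm (⇑Q) u (fr.b (fr.st x))]
    simp
  rw [hQv, hpv]
  ext i
  simp only [Pi.add_apply, Pi.smul_apply, Pi.sub_apply, smul_eq_mul]
  field_simp
  ring

/-- scalar multiples of a frame vector are in one orbit -/
theorem rel_smul (hfull : ∀ x v, polar (⇑Q) (fr.b x) v = 0 → v ∈ S fr L x)
    (hX : ∀ x : X, ∃ z, z ≠ x ∧ z ≠ fr.st x) (y : X) {c : F} (hc : c ≠ 0) :
    Rel L (c • fr.b y) (fr.b y) := by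
  obtain ⟨z, hzx, hzy⟩ := hX (fr.st y)
  rw [fr.st_st] at hzy
  have hz'x : fr.st z ≠ fr.st y := fun h => hzy (fr.st_inj h)
  have hz'y : fr.st z ≠ y := by
    intro h
    apply hzx
    rw [← h, fr.st_st]
  -- the two auxiliary vectors
  have hQ1 : Q (c • fr.b y + fr.b (fr.st z)) = 0 := by
    rw [Q_add, Q_smul, fr.sing, fr.sing, polar_smul_left, fr.pol_ne hz'x]
    simp
  have hQ2 : Q (fr.b y + fr.b (fr.st z)) = 0 := by
    rw [Q_add, fr.sing, fr.sing, fr.pol_ne hz'x]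
    simp
  have hyz : y ≠ fr.st z := fun h => hz'y h.symm
  have hp1 : polar (⇑Q) (fr.b z) (c • fr.b y + fr.b (fr.st z)) = 1 := by
    rw [polar_add_right, polar_smul_right, fr.pol_ne hyz, fr.pol_st]
    simp
  have hp2 : polar (⇑Q) (fr.b z) (fr.b y + fr.b (fr.st z)) = 1 := by
    rw [polar_add_right, fr.pol_ne hyz, fr.pol_st]
    simp
  have hp3 : polar (⇑Q) (fr.b (fr.st y)) (c • fr.b y + fr.b (fr.st z)) = c := by
    rw [polar_add_right, polar_smul_right, fr.pol_st', fr.pol_ne (by rw [fr.st_st]; exact hz'y)]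
    simp
  have hp4 : polar (⇑Q) (fr.b (fr.st y)) (fr.b y + fr.b (fr.st z)) = 1 := by
    rw [polar_add_right, fr.pol_st', fr.pol_ne (by rw [fr.st_st]; exact hz'y)]
    simp
  have r1 := rel_of_polar hfull z _ hQ1 one_ne_zero hp1
  have r2 := rel_of_polar hfull z _ hQ2 one_ne_zero hp2
  have r3 := rel_of_polar hfull (fr.st y) _ hQ1 hc hp3
  have r4 := rel_of_polar hfull (fr.st y) _ hQ2 one_ne_zero hp4
  rw [fr.st_st] at r3 r4
  rw [one_smul] at r1 r2 r4
  exact (r3.trans r1.symm).trans (r2.trans r4.symm)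

/-- all frame vectors are in one orbit -/
theorem rel_frame_of_ne (hfull : ∀ x v, polar (⇑Q) (fr.b x) v = 0 → v ∈ S fr L x)
    {y z : X} (h1 : z ≠ y) (h2 : z ≠ fr.st y) : Rel L (fr.b y) (fr.b z) := by
  have hQ : Q (fr.b y + fr.b z) = 0 := by
    rw [Q_add, fr.sing, fr.sing, fr.pol_ne h2]
    simp
  have hp1 : polar (⇑Q) (fr.b (fr.st y)) (fr.b y + fr.b z) = 1 := by
    rw [polar_add_right, fr.pol_st', fr.pol_ne (by rw [fr.st_st]; exact h1)]
    simp
  have hp2 : polar (⇑Q) (fr.b (fr.st z)) (fr.b y + fr.b z) = 1 := by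
    rw [polar_add_right, fr.pol_st', fr.pol_ne (by rw [fr.st_st]; exact fun h => h1 h.symm)]
    simp
  have r1 := rel_of_polar hfull (fr.st y) _ hQ one_ne_zero hp1
  have r2 := rel_of_polar hfull (fr.st z) _ hQ one_ne_zero hp2
  rw [fr.st_st, one_smul] at r1 r2
  exact r1.trans r2.symm

theorem rel_frame (hfull : ∀ x v, polar (⇑Q) (fr.b x) v = 0 → v ∈ S fr L x)
    (hX : ∀ x : X, ∃ z, z ≠ x ∧ z ≠ fr.st x) (y z : X) : Rel L (fr.b y) (fr.b z) := by
  by_cases h1 : z = y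
  · rw [h1]
    exact Rel.refl _
  by_cases h2 : z = fr.st y
  · obtain ⟨w, hw1, hw2⟩ := hX y
    have r1 := rel_frame_of_ne hfull hw1 hw2
    have r2 : Rel L (fr.b w) (fr.b z) := by
      apply rel_frame_of_ne hfull
      · rw [h2]
        intro h
        apply hw2
        exact h.symm
      · rw [h2]
        intro h
        exact hw1 (fr.st_inj h).symm
    exact r1.trans r2
  · exact rel_frame_of_ne hfull h1 h2

/-- transitivity on nonzero singular vectors -/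
theorem rel_singular (hfull : ∀ x v, polar (⇑Q) (fr.b x) v = 0 → v ∈ S fr L x)
    (hX : ∀ x : X, ∃ z, z ≠ x ∧ z ≠ fr.st x)
    (hcomp : ∀ u : ι → F, Q u = 0 → u ≠ 0 → ∃ x, polar (⇑Q) (fr.b x) u ≠ 0)
    (x0 : X) (u : ι → F) (hu : Q u = 0) (hu0 : u ≠ 0) : Rel L (fr.b x0) u := by
  obtain ⟨x, hx⟩ := hcomp u hu hu0
  have r1 := rel_of_polar hfull x u hu hx rfl
  have r2 := rel_smul hfull hX (fr.st x) hx
  have r3 := rel_frame hfull hX x0 (fr.st x)
  exact r3.trans (r2.symm.trans r1)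

theorem siegIso_zero_left (w : ι → F) (h : polar (⇑Q) (0 : ι → F) w = 0) :
    siegIso Q 0 w (by simp) h = 1 := by
  apply iso_ext_gact
  intro x
  rw [gact_siegIso, gact_one]
  simp

/-- the generation theorem -/
theorem Omega_le_of_full [Fintype F] (hQ : (polarBilin Q).Nondegenerate)
    (h5 : 5 ≤ Fintype.card ι)
    (hfull : ∀ x v, polar (⇑Q) (fr.b x) v = 0 → v ∈ S fr L x)
    (hX : ∀ x : X, ∃ z, z ≠ x ∧ z ≠ fr.st x)
    (hcomp : ∀ u : ι → F, Q u = 0 → u ≠ 0 → ∃ x, polar (⇑Q) (fr.b x) u ≠ 0)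
    (x0 : X) : Cfsg.Omega F ⇑Q ≤ L := by
  rw [← Sg_eq_Omega Q hQ h5]
  unfold Sg
  rw [Subgroup.closure_le]
  rintro g ⟨u, w, hu, huw, rfl⟩
  by_cases hu0 : u = 0
  · subst hu0
    rw [siegIso_zero_left]
    exact one_mem L
  · obtain ⟨g, hg, hgu⟩ := rel_singular hfull hX hcomp x0 u hu hu0
    have hw' : polar (⇑Q) (fr.b x0) (gact Q g⁻¹ w) = 0 := by
      rw [← polar_gact Q g, hgu, gact_gact_inv, huw]
    obtain ⟨_, h1⟩ := hfull x0 _ hw'
    have h2 : g * siegIso Q (fr.b x0) (gact Q g⁻¹ w) (fr.sing x0) hw' * g⁻¹ ∈ L :=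
      mul_mem (mul_mem hg h1) (inv_mem hg)
    rw [conj_siegIso] at h2
    have e : siegIso Q (gact Q g (fr.b x0)) (gact Q g (gact Q g⁻¹ w)) (by rw [Q_gact, fr.sing])
        (by rw [polar_gact, hw']) = siegIso Q u w hu huw := by
      apply iso_ext_gact
      intro y
      rw [gact_siegIso, gact_siegIso, hgu, gact_gact_inv]
    rw [← e]
    exact h2

end

end Cfsg.Agent.Lib.Helper1.TG
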