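import Mathlib
import Cfsg.Agent.Lib.Helper1.TG2

/-!
# Root subgroups at a frame: closure rules
-/

set_option autoImplicit false
set_option linter.unusedSectionVars false
set_option linter.unusedVariables false

namespace Cfsg.Agent.Lib.Helper1.TG

open Cfsg.Agent.Lib.Helper6 QuadraticMap Matrix

section
variable {F : Type*} [Field F] {ι : Type} [Fintype ι] [DecidableEq ι]
  {Q : QuadraticForm F (ι → F)} {X : Type} [DecidableEq X] (fr : HFrame Q X)
  (L : Subgroup ↥(Cfsg.isometryGroup F ⇑Q))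

/-- the full root subgroup `{ρ_{b x, t b y}}` lies in `L` -/
def Full (x y : X) : Prop := ∀ t : F, t • fr.b y ∈ S fr L x

/-- some nontrivial element of the root subgroup lies in `L` -/
def Single (x y : X) : Prop := ∃ s : F, s ≠ 0 ∧ s • fr.b y ∈ S fr L x

variable {fr} {L}

theorem Full.single {x y : X} (h : Full fr L x y) : Single fr L x y :=
  ⟨1, one_ne_zero, h 1⟩

theorem Full.symm {x y : X} (hxy : y ≠ fr.st x) (h : Full fr L x y) : Full fr L y x :=
  fun t => smul_mem_S_symm hxy (h t)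

theorem Single.symm {x y : X} (hxy : y ≠ fr.st x) (h : Single fr L x y) : Single fr L y x := by
  obtain ⟨s, hs, h⟩ := h
  exact ⟨s, hs, smul_mem_S_symm hxy h⟩

theorem Full.self (x : X) : Full fr L x x := fun t => smul_self_mem_S x t

/-- the commutator rule -/
theorem Full.comm {a b d : X} (hab : Full fr L a b) (hbd : Single fr L (fr.st b) d)
    (h1 : a ≠ b) (h2 : d ≠ fr.st a) (h3 : d ≠ fr.st b) (h4 : d ≠ b) : Full fr L a d := by
  obtain ⟨s, hs, hsd⟩ := hbd
  obtain ⟨hp, hg⟩ := hsd
  intro t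
  -- the conjugating element fixes `b a`
  have hga : gact Q (siegIso Q (fr.b (fr.st b)) (s • fr.b d) (fr.sing _) hp) (fr.b a) =
      (1 : F) • fr.b a := by
    rw [gact_siegIso, polar_smul_left, fr.pol_ne (x := d) (y := a) (fun h => h2 (by rw [h, fr.st_st])),
      fr.pol_ne (x := fr.st b) (y := a) (by rw [fr.st_st]; exact h1)]
    simp
  have hgb : gact Q (siegIso Q (fr.b (fr.st b)) (s • fr.b d) (fr.sing _) hp) ((t / s) • fr.b b) =
      (t / s) • fr.b b - t • fr.b d := by
    rw [gact_smul, gact_siegIso, polar_smul_left,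
      fr.pol_ne (x := d) (y := b) (fun h => h3 (by rw [h, fr.st_st])), fr.pol_st', Q_smul,
      fr.sing d]
    ext i
    simp only [Pi.add_apply, Pi.smul_apply, Pi.sub_apply, smul_eq_mul]
    field_simp
    ring
  have h5 := conj_mem_S hg hga (hab (t / s))
  rw [hgb, one_smul] at h5
  have h6 := (S fr L a).sub_mem (hab (t / s)) h5
  rwa [sub_sub_cancel] at h6

/-- transport by a monomial element of `L` -/
theorem Full.map {n : ↥(Cfsg.isometryGroup F ⇑Q)} (hn : n ∈ L) {π : X → X} {ε : X → F}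
    (hmono : ∀ x, gact Q n (fr.b x) = ε x • fr.b (π x)) {x y : X} (h : Full fr L x y) :
    Full fr L (π x) (π y) := by
  have hε : ∀ x, ε x ≠ 0 := by
    intro x hx
    have := hmono x
    rw [hx, zero_smul] at this
    exact fr.b_ne_zero x ((gact_eq_zero_iff Q n _).mp this)
  intro t
  have h1 := conj_mem_S hn (hmono x) (h (t / (ε x * ε y)))
  rw [gact_smul, hmono y, smul_smul, smul_smul] at h1
  have e : ε x * (t / (ε x * ε y)) * ε y = t := by
    have := hε x
    have := hε y
    field_simp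
  rwa [e] at h1

theorem Single.map {n : ↥(Cfsg.isometryGroup F ⇑Q)} (hn : n ∈ L) {π : X → X} {ε : X → F}
    (hmono : ∀ x, gact Q n (fr.b x) = ε x • fr.b (π x)) {x y : X} (h : Single fr L x y) :
    Single fr L (π x) (π y) := by
  have hε : ∀ x, ε x ≠ 0 := by
    intro x hx
    have := hmono x
    rw [hx, zero_smul] at this
    exact fr.b_ne_zero x ((gact_eq_zero_iff Q n _).mp this)
  obtain ⟨s, hs, h⟩ := h
  have h1 := conj_mem_S hn (hmono x) h
  rw [gact_smul, hmono y, smul_smul, smul_smul] at h1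
  exact ⟨_, mul_ne_zero (mul_ne_zero (hε x) hs) (hε y), h1⟩

/-- the orthogonal complement of the frame -/
def Wperp (fr : HFrame Q X) : Set (ι → F) := {w | ∀ z, polar (⇑Q) (fr.b z) w = 0}

/-- from root subgroups to all Siegel transformations at the frame vectors -/
theorem full_of_pairs [Fintype X]
    (hW : ∀ x w, w ∈ Wperp fr → w ∈ S fr L x)
    (hpairs : ∀ x y, y ≠ x → y ≠ fr.st x → Full fr L x y) :
    ∀ x v, polar (⇑Q) (fr.b x) v = 0 → v ∈ S fr L x := by
  intro x v hv
  have hw : v - ∑ y : X, polar (⇑Q) v (fr.b (fr.st y)) • fr.b y ∈ Wperp fr := by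
    intro z
    rw [polar_sub_right, sub_eq_zero]
    have : polar (⇑Q) (fr.b z) (∑ y : X, polar (⇑Q) v (fr.b (fr.st y)) • fr.b y) =
        ∑ y : X, polar (⇑Q) v (fr.b (fr.st y)) * (if y = fr.st z then 1 else 0) := by
      have hlin : ∀ s : Finset X, polar (⇑Q) (fr.b z)
          (∑ y ∈ s, polar (⇑Q) v (fr.b (fr.st y)) • fr.b y) =
          ∑ y ∈ s, polar (⇑Q) v (fr.b (fr.st y)) * (if y = fr.st z then 1 else 0) := by
        intro s
        induction s using Finset.induction_on with
        | empty => simp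
        | insert a s ha ih =>
          rw [Finset.sum_insert ha, Finset.sum_insert ha, polar_add_right, ih, polar_smul_right,
            fr.pol, smul_eq_mul]
      exact hlin Finset.univ
    rw [this]
    simp only [mul_ite, mul_one, mul_zero, Finset.sum_ite_eq', Finset.mem_univ, if_true,
      fr.st_st]
    exact polar_comm _ _ _
  have h1 := hW x _ hw
  have h2 : ∑ y : X, polar (⇑Q) v (fr.b (fr.st y)) • fr.b y ∈ S fr L x := by
    apply AddSubgroup.sum_mem
    intro y _
    by_cases hyx : y = x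
    · rw [hyx]
      exact smul_self_mem_S x _
    by_cases hyx' : y = fr.st x
    · rw [hyx', fr.st_st, polar_comm, hv, zero_smul]
      exact (S fr L x).zero_mem
    · exact hpairs x y hyx hyx' _
  have := (S fr L x).add_mem h1 h2
  rwa [sub_add_cancel] at this

/-- closure for frames with a nondegenerate complement and a transitive monomial element -/
theorem full_of_cox [Fintype X] {n : ↥(Cfsg.isometryGroup F ⇑Q)} (hn : n ∈ L)
    {π : Equiv.Perm X} {ε : X → F}
    (hmono : ∀ x, gact Q n (fr.b x) = ε x • fr.b (π x))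
    (x0 : X) (hind : ∀ P : X → Prop, P x0 → (∀ x, P x → P (π x)) → ∀ x, P x)
    (hW0 : ∀ w, w ∈ Wperp fr → w ∈ S fr L x0)
    (w1 w2 : ι → F) (hw1 : w1 ∈ Wperp fr) (hw2 : w2 ∈ Wperp fr)
    (hw12 : polar (⇑Q) w1 w2 = 1) :
    ∀ x v, polar (⇑Q) (fr.b x) v = 0 → v ∈ S fr L x := by
  have hε : ∀ x, ε x ≠ 0 := by
    intro x hx
    have := hmono x
    rw [hx, zero_smul] at this
    exact fr.b_ne_zero x ((gact_eq_zero_iff Q n _).mp this)
  have hninv : ∀ z, gact Q n⁻¹ (fr.b z) = (ε (π.symm z))⁻¹ • fr.b (π.symm z) := by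
    intro z
    have h1 := hmono (π.symm z)
    rw [Equiv.apply_symm_apply] at h1
    have h2 : gact Q n⁻¹ (gact Q n (fr.b (π.symm z))) = gact Q n⁻¹ (ε (π.symm z) • fr.b z) := by
      rw [h1]
    rw [gact_inv_gact, gact_smul] at h2
    rw [h2, smul_smul, inv_mul_cancel₀ (hε _), one_smul]
  have hWn : ∀ w, w ∈ Wperp fr → ∀ c : F, c • gact Q n⁻¹ w ∈ Wperp fr := by
    intro w hw c z
    rw [polar_smul_right, ← polar_gact Q n, gact_gact_inv, hmono, polar_smul_left, hw]
    simp
  have hC1 : ∀ x, ∀ w, w ∈ Wperp fr → w ∈ S fr L x := by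
    apply hind
    · exact hW0
    · intro x ih w hw
      have h1 := ih _ (hWn w hw (ε x)⁻¹)
      have h2 := conj_mem_S hn (hmono x) h1
      rwa [gact_smul, gact_gact_inv, smul_smul, mul_inv_cancel₀ (hε x), one_smul] at h2
  apply full_of_pairs hC1
  intro x y hyx hyx' t
  obtain ⟨hp, hg⟩ := hC1 y w1 hw1
  have hxy : x ≠ fr.st y := by
    intro h
    apply hyx'
    rw [h, fr.st_st]
  have hga : gact Q (siegIso Q (fr.b y) w1 (fr.sing y) hp) (fr.b x) = (1 : F) • fr.b x := by
    rw [gact_siegIso, fr.pol_ne hxy, polar_comm, hw1 x]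
    simp
  have hw2t : t • w2 ∈ Wperp fr := by
    intro z
    rw [polar_smul_right, hw2 z, smul_zero]
  have hgw : gact Q (siegIso Q (fr.b y) w1 (fr.sing y) hp) (t • w2) = t • w2 + t • fr.b y := by
    rw [gact_smul, gact_siegIso, hw12, hw2 y]
    simp
  have h5 := conj_mem_S hg hga (hC1 x _ hw2t)
  rw [hgw, one_smul] at h5
  have h6 := (S fr L x).sub_mem h5 (hC1 x _ hw2t)
  rwa [add_sub_cancel_left] at h6

end

end Cfsg.Agent.Lib.Helper1.TG
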