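import Mathlib
import Cfsg.Agent.Lib.Helper1.TG3

/-!
# Closure of root subgroups under a Coxeter element of type `D`
-/

set_option autoImplicit false
set_option linter.unusedSectionVars false
set_option linter.unusedVariables false

namespace Cfsg.Agent.Lib.Helper1.TG

open Cfsg.Agent.Lib.Helper6 QuadraticMap Matrix

section
variable {F : Type*} [Field F] {ι : Type} [Fintype ι] [DecidableEq ι]
  {Q : QuadraticForm F (ι → F)} {X : Type} [DecidableEq X] {fr : HFrame Q X}
  {L : Subgroup ↥(Cfsg.isometryGroup F ⇑Q)}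

/-- the labels are `c k` (a cycle of length `2r` of the monomial element, with `st (c k) = c (k+r)`)
and `d k` (swapped).  From one full root subgroup and one single root element all root subgroups
are obtained. -/
theorem full_of_dcox {n : ↥(Cfsg.isometryGroup F ⇑Q)} (hn : n ∈ L) {π : X → X} {ε : X → F}
    (hmono : ∀ x, gact Q n (fr.b x) = ε x • fr.b (π x))
    (r : ℕ) (hr : 1 ≤ r) (c d : ℕ → X)
    (hcπ : ∀ k, π (c k) = c (k + 1)) (hdπ : ∀ k, π (d k) = d (k + 1))
    (hcst : ∀ k, fr.st (c k) = c (k + r)) (hdst : ∀ k, fr.st (d k) = d (k + 1))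
    (hcd : ∀ j k, c j ≠ d k)
    (hc1 : ∀ j, c (j + 1) ≠ c j) (hc1' : ∀ j, c (j + 1) ≠ c (j + r))
    (hsurj : ∀ x, (∃ k, x = c k) ∨ (∃ k, x = d k))
    (h0 : Full fr L (c 0) (d 0)) (h1 : Single fr L (c 2) (d 1)) :
    ∀ x y, y ≠ x → y ≠ fr.st x → Full fr L x y := by
  have hd2 : ∀ k, d (k + 2) = d k := by
    intro k
    have := fr.st_st (d k)
    rwa [hdst, hdst] at this
  have hd_even : ∀ i k, d (k + 2 * i) = d k := by
    intro i
    induction i with
    | zero => intro k; rfl
    | succ i ih =>
      intro k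
      have : k + 2 * (i + 1) = (k + 2 * i) + 2 := by ring
      rw [this, hd2, ih]
  have hdpar : ∀ j k, j % 2 = k % 2 → d j = d k := by
    intro j k h
    have e1 : d j = d (j % 2) := by
      have := hd_even (j / 2) (j % 2)
      rwa [Nat.mod_add_div] at this
    have e2 : d k = d (k % 2) := by
      have := hd_even (k / 2) (k % 2)
      rwa [Nat.mod_add_div] at this
    rw [e1, e2, h]
  have hc2r : ∀ k, c (k + 2 * r) = c k := by
    intro k
    have := fr.st_st (c k)
    rw [hcst, hcst] at this
    rw [← this]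
    congr 1
    ring
  -- the two orbits
  have hB : ∀ k, Full fr L (c k) (d k) := by
    intro k
    induction k with
    | zero => exact h0
    | succ k ih =>
      have := ih.map hn hmono
      rwa [hcπ, hdπ] at this
  have hC : ∀ k, Single fr L (c (k + 2)) (d (k + 1)) := by
    intro k
    induction k with
    | zero => exact h1
    | succ k ih =>
      have := ih.map hn hmono
      rwa [hcπ, hdπ] at this
  -- pairs of `c`'s of different parity
  have hS1 : ∀ j k, k % 2 ≠ j % 2 → c k ≠ c j → c k ≠ fr.st (c j) → Full fr L (c j) (c k) := by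
    intro j k hpar hne hne'
    apply (hB j).comm (b := d j)
    · rw [hdst]
      have h2 : Single fr L (d k) (c k) := (hB k).single.symm (by rw [hcst]; exact (hcd _ _).symm)
      have : d (j + 1) = d k := hdpar _ _ (by omega)
      rwa [this]
    · exact hcd _ _
    · exact hne'
    · rw [hdst]; exact hcd _ _
    · exact hcd _ _
  -- pairs of `c`'s of equal parity
  have hS2 : ∀ j k, k % 2 = j % 2 → c k ≠ c j → c k ≠ fr.st (c j) → Full fr L (c j) (c k) := by
    intro j k hpar hne hne'
    obtain ⟨k', hk'⟩ : ∃ k', k + 2 * r = k' + 2 := ⟨k + 2 * r - 2, by omega⟩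
    have hck : c k = c (k' + 2) := by rw [← hk', hc2r]
    rw [hck] at hne hne' ⊢
    apply (hB j).comm (b := d j)
    · rw [hdst]
      have h2 : Single fr L (d (k' + 1)) (c (k' + 2)) :=
        (hC k').symm (by rw [hcst]; exact (hcd _ _).symm)
      have : d (j + 1) = d (k' + 1) := hdpar _ _ (by omega)
      rwa [this]
    · exact hcd _ _
    · exact hne'
    · rw [hdst]; exact hcd _ _
    · exact hcd _ _
  have hS : ∀ j k, c k ≠ c j → c k ≠ fr.st (c j) → Full fr L (c j) (c k) := by
    intro j k hne hne'
    by_cases hpar : k % 2 = j % 2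
    · exact hS2 j k hpar hne hne'
    · exact hS1 j k hpar hne hne'
  -- the remaining pairs `c`, `d`
  have hS3 : ∀ j i, Full fr L (c j) (d i) := by
    intro j i
    by_cases hpar : i % 2 = j % 2
    · rw [hdpar i j hpar]
      exact hB j
    · apply (hS j (j + 1) (hc1 j) (by rw [hcst]; exact hc1' j)).comm (b := c (j + 1))
      · rw [hcst]
        by_cases hpar2 : i % 2 = (j + 1 + r) % 2
        · rw [hdpar i _ hpar2]
          exact (hB _).single
        · obtain ⟨k', hk'⟩ : ∃ k', j + 1 + r = k' + 2 := ⟨j + r - 1, by omega⟩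
          rw [hk']
          have : d i = d (k' + 1) := hdpar _ _ (by omega)
          rw [this]
          exact hC k'
      · exact (hc1 j).symm
      · rw [hcst]; exact (hcd _ _).symm
      · rw [hcst]; exact (hcd _ _).symm
      · exact (hcd _ _).symm
  intro x y hyx hyx'
  rcases hsurj x with ⟨j, rfl⟩ | ⟨i, rfl⟩
  · rcases hsurj y with ⟨k, rfl⟩ | ⟨i, rfl⟩
    · exact hS j k hyx hyx'
    · exact hS3 j i
  · rcases hsurj y with ⟨k, rfl⟩ | ⟨i', rfl⟩
    · exact (hS3 k i).symm (by rw [hcst]; exact (hcd _ _).symm)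
    · exfalso
      by_cases hpar : i' % 2 = i % 2
      · exact hyx (hdpar _ _ hpar)
      · apply hyx'
        rw [hdst]
        exact hdpar _ _ (by omega)

end

end Cfsg.Agent.Lib.Helper1.TG
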