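import Mathlib
import Cfsg.Agent.Lib.Helper1.TG4
import Cfsg.Agent.Lib.Helper15.QuadF2a
import Cfsg.Agent.Lib.Helper6.OmegaOdd
import Cfsg.Agent.Lib.Helper14.TriMono1

/-!
# The plus type form: the standard frame and permutation isometries
-/

set_option autoImplicit false
set_option linter.unusedSectionVars false
set_option linter.unusedVariables false

namespace Cfsg.Agent.Lib.Helper1.TG

open Cfsg.Agent.Lib.Helper6 Cfsg.Agent.Lib.Helper15 Cfsg.Agent.Lib.Helper14.TriMono QuadraticMap Matrix

section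
variable {F : Type*} [Field F] {m : ℕ}

theorem QPlus_single (x : Fin m ⊕ Fin m) : QPlus F m (Pi.single x 1) = 0 := by
  rw [QPlus_apply]
  unfold Cfsg.quadFormPlus
  apply Finset.sum_eq_zero
  intro i _
  rcases x with j | j
  · have : (Pi.single (Sum.inl j) (1 : F) : Fin m ⊕ Fin m → F) (Sum.inr i) = 0 :=
      Pi.single_eq_of_ne (by simp) _
    rw [this, mul_zero]
  · have : (Pi.single (Sum.inr j) (1 : F) : Fin m ⊕ Fin m → F) (Sum.inl i) = 0 :=
      Pi.single_eq_of_ne (by simp) _
    rw [this, zero_mul]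

theorem polar_single_left (x : Fin m ⊕ Fin m) (v : Fin m ⊕ Fin m → F) :
    polar (⇑(QPlus F m)) (Pi.single x 1) v = v x.swap := by
  rw [polar_QPlus]
  rcases x with j | j
  · simp [Pi.single_apply, Finset.sum_ite_eq']
  · simp [Pi.single_apply, Finset.sum_ite_eq']

/-- the standard frame of the plus type form -/
noncomputable def plusFrame (F : Type*) [Field F] (m : ℕ) : HFrame (QPlus F m) (Fin m ⊕ Fin m) where
  b x := Pi.single x 1
  st := Sum.swap
  st_st := Sum.swap_swap
  sing := QPlus_single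
  pol x y := by
    rw [polar_single_left, Pi.single_apply]
    by_cases h : y = x.swap
    · rw [if_pos h, if_pos h.symm]
    · rw [if_neg h, if_neg (fun h' => h h'.symm)]

@[simp] theorem plusFrame_b (x : Fin m ⊕ Fin m) : (plusFrame F m).b x = Pi.single x 1 := rfl

@[simp] theorem plusFrame_st (x : Fin m ⊕ Fin m) : (plusFrame F m).st x = x.swap := rfl

theorem plusFrame_complete (u : Fin m ⊕ Fin m → F) (hu : u ≠ 0) :
    ∃ x, polar (⇑(QPlus F m)) ((plusFrame F m).b x) u ≠ 0 := by
  have : ∃ y, u y ≠ 0 := by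
    by_contra h
    apply hu
    funext y
    by_contra hy
    exact h ⟨y, hy⟩
  obtain ⟨y, hy⟩ := this
  refine ⟨y.swap, ?_⟩
  rw [plusFrame_b, polar_single_left, Sum.swap_swap]
  exact hy

theorem plusFrame_Wperp (w : Fin m ⊕ Fin m → F) (hw : w ∈ Wperp (plusFrame F m)) : w = 0 := by
  funext y
  have := hw y.swap
  rwa [plusFrame_b, polar_single_left, Sum.swap_swap] at this

/-- the matrix of the permutation isometry -/
noncomputable def permMat (F : Type*) [Field F] (τ : Equiv.Perm (Fin m)) :
    Matrix (Fin m ⊕ Fin m) (Fin m ⊕ Fin m) F :=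
  Matrix.permMatrixHom (Equiv.Perm.sumCongrHom (Fin m) (Fin m) (τ, τ))

theorem permMat_mul (τ τ' : Equiv.Perm (Fin m)) :
    permMat F (τ * τ') = permMat F τ * permMat F τ' := by
  unfold permMat
  rw [← map_mul, ← map_mul]
  rfl

theorem permMat_one : permMat F (1 : Equiv.Perm (Fin m)) = 1 := by
  unfold permMat
  have : ((1 : Equiv.Perm (Fin m)), (1 : Equiv.Perm (Fin m))) = 1 := rfl
  rw [this, map_one, map_one]

theorem permMat_mulVec (τ : Equiv.Perm (Fin m)) (v : Fin m ⊕ Fin m → F) :
    permMat F τ *ᵥ v = fun x => v (Sum.map τ.symm τ.symm x) := by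
  unfold permMat
  rw [Matrix.permMatrixHom_apply, Matrix.permMatrix_mulVec]
  funext x
  rcases x with i | i <;> rfl

theorem QPlus_permMat (τ : Equiv.Perm (Fin m)) (v : Fin m ⊕ Fin m → F) :
    QPlus F m (permMat F τ *ᵥ v) = QPlus F m v := by
  rw [permMat_mulVec, QPlus_apply, QPlus_apply]
  unfold Cfsg.quadFormPlus
  exact Equiv.sum_comp τ.symm (fun i => v (Sum.inl i) * v (Sum.inr i))

/-- the permutation isometries -/
noncomputable def permIso (F : Type*) [Field F] (m : ℕ) :
    Equiv.Perm (Fin m) →* ↥(Cfsg.isometryGroup F ⇑(QPlus F m)) where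
  toFun τ := mkIso (QPlus F m) (permMat F τ) (permMat F τ⁻¹)
    (by rw [← permMat_mul, mul_inv_cancel, permMat_one])
    (by rw [← permMat_mul, inv_mul_cancel, permMat_one])
    (QPlus_permMat τ)
  map_one' := by
    apply Subtype.ext
    apply Units.ext
    exact permMat_one
  map_mul' τ τ' := by
    apply Subtype.ext
    apply Units.ext
    exact permMat_mul τ τ'

theorem gact_permIso (τ : Equiv.Perm (Fin m)) (v : Fin m ⊕ Fin m → F) :
    gact (QPlus F m) (permIso F m τ) v = fun x => v (Sum.map τ.symm τ.symm x) :=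
  permMat_mulVec τ v

theorem gact_permIso_single (τ : Equiv.Perm (Fin m)) (x : Fin m ⊕ Fin m) :
    gact (QPlus F m) (permIso F m τ) (Pi.single x 1) = Pi.single (Sum.map τ τ x) 1 := by
  rw [gact_permIso]
  funext y
  rw [Pi.single_apply, Pi.single_apply]
  congr 1
  rcases x with i | i <;> rcases y with j | j <;>
    simp [Equiv.eq_symm_apply, eq_comm]

theorem nondegenerate_QPlus' (F : Type*) [Field F] (m : ℕ) :
    (polarBilin (QPlus F m)).Nondegenerate := nondegenerate_QPlus F m

/-- permutation isometries of odd order lie in `Ω` -/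
theorem permIso_mem_Omega [Fintype F] (hm : 3 ≤ m) (τ : Equiv.Perm (Fin m)) (k : ℕ) (hk : Odd k)
    (hτ : τ ^ k = 1) : permIso F m τ ∈ Cfsg.Omega F ⇑(QPlus F m) := by
  apply mem_Omega_of_pow_odd' (QPlus F m) (nondegenerate_QPlus F m) _ _ _ k hk
  · rw [← map_pow, hτ, map_one]
  · simp only [Fintype.card_sum, Fintype.card_fin]; omega
  · right
    simp only [Fintype.card_sum, Fintype.card_fin]; omega

end

end Cfsg.Agent.Lib.Helper1.TG
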