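import Mathlib
import Cfsg.Agent.Lib.Helper1.TG5

/-!
# Diagonal isometries of the plus type form, conjugation of root elements
-/

set_option autoImplicit false
set_option linter.unusedSectionVars false
set_option linter.unusedVariables false

namespace Cfsg.Agent.Lib.Helper1.TG

open Cfsg.Agent.Lib.Helper6 Cfsg.Agent.Lib.Helper15 QuadraticMap Matrix

section general
variable {F : Type*} [Field F] {ι : Type} [Fintype ι] [DecidableEq ι]
  (Q : QuadraticForm F (ι → F))

/-- isometries agreeing on the standard basis are equal -/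
theorem iso_ext_single {g h : ↥(Cfsg.isometryGroup F ⇑Q)}
    (H : ∀ x, gact Q g (Pi.single x 1) = gact Q h (Pi.single x 1)) : g = h := by
  apply Subtype.ext
  apply Units.ext
  ext i j
  have := congrFun (H j) i
  unfold gact at this
  rwa [Matrix.mulVec_single_one, Matrix.mulVec_single_one] at this

theorem siegIso_pow (u w : ι → F) (hu : Q u = 0) (huw : polar (⇑Q) u w = 0) (k : ℕ) :
    (siegIso Q u w hu huw) ^ k = siegIso Q u (k • w) hu (by
      rw [polar_smul_right_of_tower, huw, smul_zero]) := by
  induction k with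
  | zero =>
    rw [pow_zero]
    symm
    rw [siegIso_congr Q u ((0 : ℕ) • w) 0 hu _ (zero_smul _ _)]
    exact siegIso_zero Q u hu
  | succ k ih =>
    rw [pow_succ, ih, siegIso_mul]
    exact siegIso_congr Q u _ _ hu _ (by rw [add_smul, one_smul])

theorem siegIso_pow_char (p : ℕ) [CharP F p] (u w : ι → F) (hu : Q u = 0)
    (huw : polar (⇑Q) u w = 0) : (siegIso Q u w hu huw) ^ p = 1 := by
  rw [siegIso_pow]
  have : (p • w : ι → F) = 0 := by
    funext i
    rw [Pi.smul_apply, Pi.zero_apply, nsmul_eq_mul, CharP.cast_eq_zero, zero_mul]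
  rw [siegIso_congr Q u _ 0 hu _ this]
  exact siegIso_zero Q u hu

variable {Q} {X : Type} [DecidableEq X] (fr : HFrame Q X)

/-- conjugating a root element by an element acting monomially on the two frame vectors -/
theorem conj_root (g : ↥(Cfsg.isometryGroup F ⇑Q)) {x y x' y' : X} {α β : F}
    (hgx : gact Q g (fr.b x) = α • fr.b x') (hgy : gact Q g (fr.b y) = β • fr.b y') (t : F)
    (h1 : polar (⇑Q) (fr.b x) (t • fr.b y) = 0)
    (h2 : polar (⇑Q) (fr.b x') ((α * β * t) • fr.b y') = 0) :
    g * siegIso Q (fr.b x) (t • fr.b y) (fr.sing x) h1 * g⁻¹ =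
      siegIso Q (fr.b x') ((α * β * t) • fr.b y') (fr.sing x') h2 := by
  rw [conj_siegIso]
  apply iso_ext_gact
  intro z
  rw [gact_siegIso, gact_siegIso, hgx, gact_smul, hgy, Q_smul, Q_smul, Q_smul]
  ext i
  simp only [polar_smul_left, smul_eq_mul, mul_zero, zero_mul, sub_zero, Pi.add_apply,
    Pi.smul_apply, neg_mul]
  ring

end general

section plus
variable {F : Type*} [Field F] {m : ℕ}

/-- the diagonal entries -/
def diagFun (lam : Fin m → Fˣ) : Fin m ⊕ Fin m → F :=
  Sum.elim (fun i => (lam i : F)) (fun i => ((lam i)⁻¹ : Fˣ))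

theorem diagFun_mul_swap (lam : Fin m → Fˣ) (x : Fin m ⊕ Fin m) :
    diagFun lam x * diagFun lam x.swap = 1 := by
  rcases x with i | i
  · simp [diagFun]
  · simp [diagFun]

theorem diagFun_inv (lam : Fin m → Fˣ) (x : Fin m ⊕ Fin m) :
    diagFun lam⁻¹ x = diagFun lam x.swap := by
  rcases x with i | i
  · simp [diagFun]
  · simp [diagFun]

theorem QPlus_diag (lam : Fin m → Fˣ) (v : Fin m ⊕ Fin m → F) :
    QPlus F m (Matrix.diagonal (diagFun lam) *ᵥ v) = QPlus F m v := by
  rw [QPlus_apply, QPlus_apply]
  unfold Cfsg.quadFormPlus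
  apply Finset.sum_congr rfl
  intro i _
  rw [Matrix.mulVec_diagonal, Matrix.mulVec_diagonal]
  have := diagFun_mul_swap lam (Sum.inl i)
  simp only [Sum.swap_inl] at this
  calc diagFun lam (Sum.inl i) * v (Sum.inl i) * (diagFun lam (Sum.inr i) * v (Sum.inr i))
      = (diagFun lam (Sum.inl i) * diagFun lam (Sum.inr i)) * (v (Sum.inl i) * v (Sum.inr i)) := by
        ring
    _ = v (Sum.inl i) * v (Sum.inr i) := by rw [this, one_mul]

/-- diagonal isometries -/
noncomputable def diagIso (F : Type*) [Field F] (m : ℕ) :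
    (Fin m → Fˣ) →* ↥(Cfsg.isometryGroup F ⇑(QPlus F m)) where
  toFun lam := mkIso (QPlus F m) (Matrix.diagonal (diagFun lam)) (Matrix.diagonal (diagFun lam⁻¹))
    (by
      rw [Matrix.diagonal_mul_diagonal, ← Matrix.diagonal_one]
      congr 1
      funext x
      rw [diagFun_inv]
      exact diagFun_mul_swap lam x)
    (by
      rw [Matrix.diagonal_mul_diagonal, ← Matrix.diagonal_one]
      congr 1
      funext x
      rw [diagFun_inv, mul_comm]
      exact diagFun_mul_swap lam x)
    (QPlus_diag lam)
  map_one' := by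
    apply Subtype.ext
    apply Units.ext
    show Matrix.diagonal (diagFun (1 : Fin m → Fˣ)) = 1
    rw [← Matrix.diagonal_one]
    congr 1
    funext x
    rcases x with i | i <;> simp [diagFun]
  map_mul' lam lam' := by
    apply Subtype.ext
    apply Units.ext
    show Matrix.diagonal (diagFun (lam * lam')) =
      Matrix.diagonal (diagFun lam) * Matrix.diagonal (diagFun lam')
    rw [Matrix.diagonal_mul_diagonal]
    congr 1
    funext x
    rcases x with i | i <;> simp [diagFun, mul_comm]

theorem gact_diagIso (lam : Fin m → Fˣ) (v : Fin m ⊕ Fin m → F) :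
    gact (QPlus F m) (diagIso F m lam) v = fun x => diagFun lam x * v x := by
  funext x
  exact Matrix.mulVec_diagonal _ _ _

theorem gact_diagIso_single (lam : Fin m → Fˣ) (x : Fin m ⊕ Fin m) :
    gact (QPlus F m) (diagIso F m lam) (Pi.single x 1) = diagFun lam x • Pi.single x 1 := by
  rw [gact_diagIso]
  funext y
  rw [Pi.smul_apply, smul_eq_mul]
  by_cases h : y = x
  · rw [h]
  · rw [Pi.single_eq_of_ne h, mul_zero, mul_zero]

theorem diagIso_pow_card [Fintype F] (lam : Fin m → Fˣ) :
    (diagIso F m lam) ^ (Fintype.card F - 1) = 1 := by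
  rw [← map_pow]
  have : lam ^ (Fintype.card F - 1) = 1 := by
    funext i
    rw [Pi.pow_apply, Pi.one_apply]
    apply Units.ext
    rw [Units.val_pow_eq_pow_val, Units.val_one]
    exact FiniteField.pow_card_sub_one_eq_one _ (Units.ne_zero _)
  rw [this, map_one]

/-- conjugation of diagonal isometries by permutation isometries -/
theorem permIso_conj_diagIso (τ : Equiv.Perm (Fin m)) (lam : Fin m → Fˣ) :
    permIso F m τ * diagIso F m lam * (permIso F m τ)⁻¹ = diagIso F m (fun i => lam (τ.symm i)) := by
  apply iso_ext_gact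
  intro v
  rw [gact_mul, gact_mul, gact_permIso, gact_diagIso, gact_diagIso, ← map_inv, gact_permIso]
  funext x
  rcases x with i | i
  · simp [diagFun, Equiv.Perm.inv_def]
  · simp [diagFun, Equiv.Perm.inv_def]

/-- diagonal isometries whose entries are "balanced" lie in `Ω` -/
theorem diagIso_mem_Omega [Fintype F] (hm : 3 ≤ m) (τ : Equiv.Perm (Fin m)) (lam : Fin m → Fˣ) :
    diagIso F m (fun i => lam i * lam (τ.symm i)) ∈ Cfsg.Omega F ⇑(QPlus F m) := by
  have e : diagIso F m (fun i => lam i * lam (τ.symm i)) =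
      (diagIso F m lam * permIso F m τ * (diagIso F m lam)⁻¹ * (permIso F m τ)⁻¹) *
        ((permIso F m τ * diagIso F m lam * (permIso F m τ)⁻¹) *
          (permIso F m τ * diagIso F m lam * (permIso F m τ)⁻¹)) := by
    have h1 : (fun i => lam i * lam (τ.symm i)) = lam * (fun i => lam (τ.symm i)) := rfl
    rw [h1, map_mul, ← permIso_conj_diagIso]
    group
  rw [e]
  apply mul_mem
  · rw [← commutatorElement_def]
    exact Subgroup.commutator_mem_commutator (Subgroup.mem_top _) (Subgroup.mem_top _)
  · apply sq_mem_Omega' (QPlus F m) (nondegenerate_QPlus F m)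
    · simp only [Fintype.card_sum, Fintype.card_fin]; omega
    · right
      simp only [Fintype.card_sum, Fintype.card_fin]; omega

end plus

end Cfsg.Agent.Lib.Helper1.TG
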