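import Mathlib
import Cfsg.Agent.Lib.Helper1.TG3
import Cfsg.Agent.Lib.Helper1.TG8
import Cfsg.Agent.Lib.Helper8.ChevTg2

/-!
# Root elements of a hyperbolic frame, and the two-generation trick in that setting
-/

set_option autoImplicit false
set_option linter.unusedSectionVars false
set_option linter.unusedVariables false
set_option linter.unusedSimpArgs false

namespace Cfsg.Agent.Lib.Helper1.TG

open Cfsg.Agent.Lib.Helper6 QuadraticMap Matrix

section general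
variable {F : Type*} [Field F] {ι : Type} [Fintype ι] [DecidableEq ι]
  {Q : QuadraticForm F (ι → F)} {X : Type} [DecidableEq X] (fr : HFrame Q X)

theorem HFrame.pol_smul {x y : X} (hxy : y ≠ fr.st x) (t : F) :
    polar (⇑Q) (fr.b x) (t • fr.b y) = 0 := by
  rw [polar_smul_right, fr.pol_ne hxy, smul_zero]

/-- the root element `ρ_{b x, t b y}` -/
noncomputable def rootEl (x y : X) (hxy : y ≠ fr.st x) (t : F) : ↥(Cfsg.isometryGroup F ⇑Q) :=
  siegIso Q (fr.b x) (t • fr.b y) (fr.sing x) (fr.pol_smul hxy t)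

theorem rootEl_mul (x y : X) (hxy : y ≠ fr.st x) (t s : F) :
    rootEl fr x y hxy t * rootEl fr x y hxy s = rootEl fr x y hxy (t + s) := by
  unfold rootEl
  rw [siegIso_mul]
  exact siegIso_congr Q _ _ _ _ _ (add_smul t s _).symm

theorem rootEl_zero (x y : X) (hxy : y ≠ fr.st x) : rootEl fr x y hxy 0 = 1 := by
  have := rootEl_mul fr x y hxy 0 0
  rw [add_zero] at this
  exact mul_eq_left.mp this

theorem rootEl_pow (x y : X) (hxy : y ≠ fr.st x) (t : F) (k : ℕ) :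
    (rootEl fr x y hxy t) ^ k = rootEl fr x y hxy (k * t) := by
  induction k with
  | zero => rw [pow_zero, Nat.cast_zero, zero_mul, rootEl_zero]
  | succ k ih =>
    rw [pow_succ, ih, rootEl_mul]
    congr 1
    push_cast
    ring

theorem rootEl_pow_card [Fintype F] (x y : X) (hxy : y ≠ fr.st x) (t : F) :
    (rootEl fr x y hxy t) ^ (Fintype.card F) = 1 := by
  rw [rootEl_pow, FiniteField.cast_card_eq_zero, zero_mul, rootEl_zero]

theorem rootEl_mem_iff {L : Subgroup ↥(Cfsg.isometryGroup F ⇑Q)} (x y : X) (hxy : y ≠ fr.st x)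
    (t : F) : rootEl fr x y hxy t ∈ L ↔ t • fr.b y ∈ S fr L x := by
  rw [mem_S_iff]
  constructor
  · intro h
    exact ⟨fr.pol_smul hxy t, h⟩
  · rintro ⟨_, h⟩
    exact h

theorem rootEl_mem_Omega [Fintype F] (hQ : (polarBilin Q).Nondegenerate)
    (h5 : 5 ≤ Fintype.card ι) (x y : X) (hxy : y ≠ fr.st x) (t : F) :
    rootEl fr x y hxy t ∈ Cfsg.Omega F ⇑Q :=
  siegIso_mem_Omega Q hQ h5 _ _ _ _

/-- conjugation of root elements -/
theorem conj_rootEl (g : ↥(Cfsg.isometryGroup F ⇑Q)) {x y x' y' : X} {α β : F}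
    (hgx : gact Q g (fr.b x) = α • fr.b x') (hgy : gact Q g (fr.b y) = β • fr.b y')
    (hxy : y ≠ fr.st x) (hxy' : y' ≠ fr.st x') (t : F) :
    g * rootEl fr x y hxy t * g⁻¹ = rootEl fr x' y' hxy' (α * β * t) :=
  conj_root fr g hgx hgy t _ _

/-- two diagonal isometries commute -/
theorem diag_commute {g₁ g₂ : ↥(Cfsg.isometryGroup F ⇑Q)}
    (h₁ : ∀ i : ι, ∃ d : F, gact Q g₁ (Pi.single i 1) = d • Pi.single i 1)
    (h₂ : ∀ i : ι, ∃ d : F, gact Q g₂ (Pi.single i 1) = d • Pi.single i 1) :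
    g₁ * g₂ = g₂ * g₁ := by
  apply iso_ext_single
  intro i
  obtain ⟨d₁, e₁⟩ := h₁ i
  obtain ⟨d₂, e₂⟩ := h₂ i
  rw [gact_mul, gact_mul, e₂, e₁, gact_smul, gact_smul, e₁, e₂, smul_comm]

/-- a monomial conjugate of a diagonal isometry is diagonal -/
theorem conj_diag {n h : ↥(Cfsg.isometryGroup F ⇑Q)} {σ : ι → ι} (hσ : Function.Surjective σ)
    {ε : ι → F} (hn : ∀ i, gact Q n (Pi.single i 1) = ε i • Pi.single (σ i) 1)
    (hh : ∀ i : ι, ∃ d : F, gact Q h (Pi.single i 1) = d • Pi.single i 1) (i : ι) :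
    ∃ d : F, gact Q (n * h * n⁻¹) (Pi.single i 1) = d • Pi.single i 1 := by
  obtain ⟨j, rfl⟩ := hσ i
  obtain ⟨d, hd⟩ := hh j
  have hε : ε j ≠ 0 := by
    intro h0
    have := hn j
    rw [h0, zero_smul, gact_eq_zero_iff] at this
    have := congrFun this j
    rw [Pi.single_eq_same, Pi.zero_apply] at this
    exact one_ne_zero this
  have hinv : gact Q n⁻¹ (Pi.single (σ j) 1) = (ε j)⁻¹ • Pi.single j 1 := by
    have : gact Q n ((ε j)⁻¹ • Pi.single j 1) = Pi.single (σ j) 1 := by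
      rw [gact_smul, hn, smul_smul, inv_mul_cancel₀ hε, one_smul]
    rw [← this, gact_inv_gact]
  refine ⟨d, ?_⟩
  rw [gact_mul, gact_mul, hinv, gact_smul, hd, gact_smul, gact_smul, hn, smul_smul, smul_smul]
  congr 1
  field_simp

/-- the two-generation trick for a frame -/
theorem trick_frame {h n : ↥(Cfsg.isometryGroup F ⇑Q)} {x0 y0 x1 y1 : X}
    (hxy0 : y0 ≠ fr.st x0) (hxy1 : y1 ≠ fr.st x1) {ε ε' μ : F}
    (hnx : gact Q n (fr.b x0) = ε • fr.b x1) (hny : gact Q n (fr.b y0) = ε' • fr.b y1)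
    (hhx0 : gact Q h (fr.b x0) = μ • fr.b x0) (hhy0 : gact Q h (fr.b y0) = (1 : F) • fr.b y0)
    (hhx1 : gact Q h (fr.b x1) = μ • fr.b x1) (hhy1 : gact Q h (fr.b y1) = (1 : F) • fr.b y1)
    (hcomm : h * (n * h * n⁻¹) = (n * h * n⁻¹) * h)
    (hμ : μ ≠ 1) (hgen : ∀ t : F, t ≠ 0 → ∃ j : ℕ, t = μ ^ j)
    (L : Subgroup ↥(Cfsg.isometryGroup F ⇑Q)) (hh : h ∈ L)
    (hy : n * rootEl fr x0 y0 hxy0 1 ∈ L) :
    n ∈ L ∧ ∀ t, rootEl fr x0 y0 hxy0 t ∈ L := by
  have key := Cfsg.Agent.Lib.Helper8.Chev.two_gen_trick (K := F)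
    (x := fun t => rootEl fr x0 y0 hxy0 t)
    (x' := fun t => n * rootEl fr x0 y0 hxy0 t * n⁻¹) (h := h) (c := n) (α := μ) (μ := μ)
    (fun t s => rootEl_mul fr x0 y0 hxy0 t s)
    (fun t s => by
      show n * rootEl fr x0 y0 hxy0 t * n⁻¹ * (n * rootEl fr x0 y0 hxy0 s * n⁻¹) =
        n * rootEl fr x0 y0 hxy0 (t + s) * n⁻¹
      rw [← rootEl_mul]
      group)
    (fun t => rfl)
    (fun t => by
      show h * rootEl fr x0 y0 hxy0 t * h⁻¹ = rootEl fr x0 y0 hxy0 (μ * t)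
      rw [conj_rootEl fr h hhx0 hhy0 hxy0 hxy0, mul_one])
    (fun t => by
      show h * (n * rootEl fr x0 y0 hxy0 t * n⁻¹) * h⁻¹ = n * rootEl fr x0 y0 hxy0 (μ * t) * n⁻¹
      rw [conj_rootEl fr n hnx hny hxy0 hxy1, conj_rootEl fr n hnx hny hxy0 hxy1,
        conj_rootEl fr h hhx1 hhy1 hxy1 hxy1]
      congr 1
      ring)
    hcomm hμ hμ hgen L hh hy
  exact ⟨key.1, key.2.1⟩

end general

end Cfsg.Agent.Lib.Helper1.TG
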