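import Mathlib
import Cfsg.Agent.Lib.Helper1.TG5

/-!
# The label permutation of the Coxeter element of type `D_{N+2}`
-/

set_option autoImplicit false
set_option linter.unusedSectionVars false
set_option linter.unusedVariables false

namespace Cfsg.Agent.Lib.Helper1.TG

variable {N : ℕ}

/-- index set of the plus type form in dimension `2(N+2)` -/
abbrev PIdx (N : ℕ) := Fin (N + 1 + 1) ⊕ Fin (N + 1 + 1)

/-- the label permutation of the Coxeter element:
`e_0 → e_1 → ⋯ → e_N → f_0 → f_1 → ⋯ → f_N → e_0`, `e_{N+1} ↔ f_{N+1}` -/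
def piCox (N : ℕ) : PIdx N → PIdx N
  | Sum.inl i => if h : i.val < N then Sum.inl ⟨i.val + 1, by omega⟩
      else if i.val = N then Sum.inr 0 else Sum.inr i
  | Sum.inr i => if h : i.val < N then Sum.inr ⟨i.val + 1, by omega⟩
      else if i.val = N then Sum.inl 0 else Sum.inl i

theorem piCox_inl (i : Fin (N + 1 + 1)) : piCox N (Sum.inl i) =
    if h : i.val < N then Sum.inl ⟨i.val + 1, by omega⟩
      else if i.val = N then Sum.inr 0 else Sum.inr i := rfl

theorem piCox_inr (i : Fin (N + 1 + 1)) : piCox N (Sum.inr i) =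
    if h : i.val < N then Sum.inr ⟨i.val + 1, by omega⟩
      else if i.val = N then Sum.inl 0 else Sum.inl i := rfl

theorem piCox_swap (x : PIdx N) : piCox N x.swap = (piCox N x).swap := by
  rcases x with i | i
  · show piCox N (Sum.inr i) = (piCox N (Sum.inl i)).swap
    rw [piCox_inl, piCox_inr]
    split_ifs <;> rfl
  · show piCox N (Sum.inl i) = (piCox N (Sum.inr i)).swap
    rw [piCox_inl, piCox_inr]
    split_ifs <;> rfl

/-- the underlying index -/
def idx : PIdx N → Fin (N + 1 + 1) := Sum.elim id id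

theorem idx_piCox_last (x : PIdx N) : idx (piCox N x) = Fin.last (N + 1) ↔ idx x = Fin.last (N + 1) := by
  rcases x with i | i
  all_goals
    first | rw [piCox_inl] | rw [piCox_inr]
    unfold idx
    simp only [Sum.elim_inl, Sum.elim_inr, id]
    split_ifs with h1 h2
    · simp only [Sum.elim_inl, Sum.elim_inr, id, Fin.ext_iff, Fin.val_last]
      omega
    · simp only [Sum.elim_inl, Sum.elim_inr, id, Fin.ext_iff, Fin.val_last, Fin.val_zero]
      omega
    · simp only [Sum.elim_inl, Sum.elim_inr, id]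

theorem piCox_ne (x : PIdx N) : piCox N x ≠ x := by
  rcases x with i | i
  all_goals
    first | rw [piCox_inl] | rw [piCox_inr]
    split_ifs with h1 h2
    · intro h
      simp only [Sum.inl.injEq, Sum.inr.injEq, Fin.ext_iff] at h
      omega
    · simp
    · simp

theorem piCox_ne_swap (hN : 1 ≤ N) (x : PIdx N) (hx : idx x ≠ Fin.last (N + 1)) :
    piCox N x ≠ x.swap := by
  rcases x with i | i
  all_goals
    unfold idx at hx
    simp only [Sum.elim_inl, Sum.elim_inr, id, ne_eq, Fin.ext_iff, Fin.val_last] at hx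
    first | rw [piCox_inl] | rw [piCox_inr]
    have := i.2
    split_ifs with h1 h2
    · simp
    · intro h
      simp only [Sum.swap_inl, Sum.swap_inr, Sum.inl.injEq, Sum.inr.injEq, Fin.ext_iff,
        Fin.val_zero] at h
      omega
    · exfalso; omega

/-- the long cycle -/
def cSeq (N : ℕ) : ℕ → PIdx N
  | 0 => Sum.inl 0
  | k + 1 => piCox N (cSeq N k)

/-- the short cycle -/
def dSeq (N : ℕ) : ℕ → PIdx N
  | 0 => Sum.inl (Fin.last (N + 1))
  | k + 1 => piCox N (dSeq N k)

theorem cSeq_succ (k : ℕ) : cSeq N (k + 1) = piCox N (cSeq N k) := rfl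

theorem dSeq_succ (k : ℕ) : dSeq N (k + 1) = piCox N (dSeq N k) := rfl

theorem cSeq_low (i : ℕ) (hi : i ≤ N) : cSeq N i = Sum.inl ⟨i, by omega⟩ := by
  induction i with
  | zero => rfl
  | succ i ih =>
    rw [cSeq_succ, ih (by omega), piCox_inl]
    rw [dif_pos (by simp only; omega)]

theorem cSeq_high (i : ℕ) (hi : i ≤ N) : cSeq N (N + 1 + i) = Sum.inr ⟨i, by omega⟩ := by
  induction i with
  | zero =>
    show piCox N (cSeq N N) = _
    rw [cSeq_low N le_rfl, piCox_inl]
    rw [dif_neg (by simp), if_pos (by simp)]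
    rfl
  | succ i ih =>
    show piCox N (cSeq N (N + 1 + i)) = _
    rw [ih (by omega), piCox_inr]
    rw [dif_pos (by simp only; omega)]

theorem idx_cSeq (k : ℕ) : idx (cSeq N k) ≠ Fin.last (N + 1) := by
  induction k with
  | zero =>
    unfold cSeq idx
    simp only [Sum.elim_inl, id, ne_eq, Fin.ext_iff, Fin.val_zero, Fin.val_last]
    omega
  | succ k ih =>
    rw [cSeq_succ]
    intro h
    exact ih ((idx_piCox_last _).mp h)

theorem idx_dSeq (k : ℕ) : idx (dSeq N k) = Fin.last (N + 1) := by
  induction k with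
  | zero => rfl
  | succ k ih =>
    rw [dSeq_succ]
    exact (idx_piCox_last _).mpr ih

theorem cSeq_ne_dSeq (j k : ℕ) : cSeq N j ≠ dSeq N k := by
  intro h
  apply idx_cSeq (N := N) j
  rw [h, idx_dSeq]

theorem swap_cSeq (k : ℕ) : (cSeq N k).swap = cSeq N (k + (N + 1)) := by
  induction k with
  | zero =>
    have := cSeq_high (N := N) 0 (Nat.zero_le _)
    have e : 0 + (N + 1) = N + 1 + 0 := by ring
    rw [e, this]
    rfl
  | succ k ih =>
    rw [cSeq_succ, ← piCox_swap, ih]
    have : k + 1 + (N + 1) = (k + (N + 1)) + 1 := by ring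
    rw [this, cSeq_succ]

theorem swap_dSeq (k : ℕ) : (dSeq N k).swap = dSeq N (k + 1) := by
  induction k with
  | zero =>
    show Sum.inr (Fin.last (N + 1)) = piCox N (Sum.inl (Fin.last (N + 1)))
    rw [piCox_inl]
    rw [dif_neg (by simp), if_neg (by simp)]
  | succ k ih =>
    rw [dSeq_succ, ← piCox_swap, ih]
    rfl

theorem cSeq_succ_ne (j : ℕ) : cSeq N (j + 1) ≠ cSeq N j := piCox_ne _

theorem cSeq_succ_ne' (hN : 1 ≤ N) (j : ℕ) : cSeq N (j + 1) ≠ cSeq N (j + (N + 1)) := by
  rw [← swap_cSeq]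
  exact piCox_ne_swap hN _ (idx_cSeq j)

theorem seq_surj (x : PIdx N) : (∃ k, x = cSeq N k) ∨ (∃ k, x = dSeq N k) := by
  rcases x with i | i
  · by_cases h : i.val ≤ N
    · left
      exact ⟨i.val, (cSeq_low i.val h).symm⟩
    · right
      refine ⟨0, ?_⟩
      show Sum.inl i = Sum.inl (Fin.last (N + 1))
      congr 1
      apply Fin.ext
      have := i.2
      simp only [Fin.val_last]
      omega
  · by_cases h : i.val ≤ N
    · left
      exact ⟨N + 1 + i.val, (cSeq_high i.val h).symm⟩
    · right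
      refine ⟨1, ?_⟩
      have e : dSeq N 1 = Sum.inr (Fin.last (N + 1)) := by
        rw [← swap_dSeq]
        rfl
      rw [e]
      congr 1
      apply Fin.ext
      have := i.2
      simp only [Fin.val_last]
      omega

end Cfsg.Agent.Lib.Helper1.TG
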