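import Mathlib
import Cfsg.Agent.Lib.Helper1.TG6
import Cfsg.Agent.Lib.Helper1.DBN10

/-!
# A Coxeter element of `Ω⁺_{2N+4}(q)`
-/

set_option autoImplicit false
set_option linter.unusedSectionVars false
set_option linter.unusedVariables false

namespace Cfsg.Agent.Lib.Helper1.TG

open Matrix Cfsg.Agent.Lib.Helper14.MatBN Cfsg.Agent.Lib.Helper14.SpBN Cfsg.Agent.Lib.Helper6
  Cfsg.Agent.Lib.Helper14.TriMono Cfsg.Agent.Lib.Helper1.OBN Cfsg.Agent.Lib.Helper1.DBN
  Cfsg.Agent.Lib.Helper15

variable {N : ℕ} {F : Type*} [Field F]

theorem cycleRange_val (j i : Fin (N + 1 + 1)) :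
    ((Fin.cycleRange j) i).val =
      if i.val < j.val then i.val + 1 else if i.val = j.val then 0 else i.val := by
  rcases lt_trichotomy i j with h | h | h
  · rw [Fin.coe_cycleRange_of_lt h, if_pos (Fin.lt_def.mp h)]
  · subst h
    rw [Fin.cycleRange_self, if_neg (lt_irrefl _), if_pos rfl]
    rfl
  · rw [Fin.cycleRange_of_gt h, if_neg (by have := Fin.lt_def.mp h; omega),
      if_neg (by have := Fin.lt_def.mp h; omega)]

theorem cycleRange_pow (j : Fin (N + 1 + 1)) (hj : j ≠ 0) :
    (Fin.cycleRange j) ^ (j.val + 1) = 1 := by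
  have h := Equiv.Perm.lcm_cycleType (Fin.cycleRange j)
  rw [Fin.cycleType_cycleRange hj, Multiset.lcm_singleton, normalize_eq] at h
  rw [h]
  exact pow_orderOf_eq_one _

/-- the action of a monomial element of `Ω` on the standard basis -/
theorem gact_of_mono (w : DmG N F) {πw : Equiv.Perm (DIdx N)} (h : IsMono (matD N F w) πw)
    (y : DIdx N) :
    gact (QD N F) w.1 (Pi.single y 1) = (matD N F w (πw y) y) • Pi.single (πw y) 1 :=
  dMono_mulVec_single h y

theorem gact_perm_mul (τ : Equiv.Perm (Fin (N + 1 + 1))) (w : DmG N F)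
    {πw : Equiv.Perm (DIdx N)} (h : IsMono (matD N F w) πw) (y : DIdx N) :
    gact (QD N F) (permIso F (N + 1 + 1) τ * w.1) (Pi.single y 1) =
      (matD N F w (πw y) y) • Pi.single (Sum.map τ τ (πw y)) 1 := by
  rw [gact_mul, gact_of_mono w h, gact_smul, gact_permIso_single]

theorem piS_last_e (i : Fin (N + 2)) :
    piS (Fin.last N) (eD i) =
      if i = pre N then eD (lst N) else if i = lst N then eD (pre N) else eD i := by
  rw [piS_inl, Equiv.swap_apply_def, Fin.succ_last]
  split_ifs <;> rfl

theorem piS_last_f (i : Fin (N + 2)) :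
    piS (Fin.last N) (fD i) =
      if i = pre N then fD (lst N) else if i = lst N then fD (pre N) else fD i := by
  rw [piS_inr, Equiv.swap_apply_def, Fin.succ_last]
  split_ifs <;> rfl

theorem val_ne_of_ne {i j : Fin (N + 2)} (h : i ≠ j) : i.val ≠ j.val := fun h' => h (Fin.ext h')

/-- the label permutation in the case of a cycle of length `N + 1` -/
theorem coxA_perm (hN : 1 ≤ N) (x : DIdx N) :
    Sum.map (Fin.cycleRange (pre N)) (Fin.cycleRange (pre N)) ((piD N * piS (Fin.last N)) x) =
      piCox N x := by
  have hpl : pre N ≠ lst N := pre_ne_lst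
  rcases x with i | i
  · show Sum.map _ _ ((piD N * piS (Fin.last N)) (eD i)) = piCox N (Sum.inl i)
    rw [Equiv.Perm.mul_apply, piS_last_e, piCox_inl]
    by_cases h1 : i = pre N
    · rw [if_pos h1, piD_e, if_neg hpl.symm, if_pos rfl, Sum.map_inr, Fin.cycleRange_self,
        dif_neg (by rw [h1]; simp), if_pos (by rw [h1]; rfl)]
    · rw [if_neg h1]
      by_cases h2 : i = lst N
      · rw [if_pos h2, piD_e, if_pos rfl, Sum.map_inr,
          Fin.cycleRange_of_gt (by rw [Fin.lt_def]; simp),
          dif_neg (by rw [h2]; simp), if_neg (by rw [h2]; simp), h2]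
      · rw [if_neg h2, piD_e, if_neg h1, if_neg h2, Sum.map_inl]
        have hi : i.val < N := by
          have := i.2
          have := val_ne_of_ne h1
          have := val_ne_of_ne h2
          simp only [pre_val, lst_val] at *
          omega
        rw [dif_pos hi]
        congr 1
        apply Fin.ext
        rw [cycleRange_val, if_pos (by simpa using hi)]
  · show Sum.map _ _ ((piD N * piS (Fin.last N)) (fD i)) = piCox N (Sum.inr i)
    rw [Equiv.Perm.mul_apply, piS_last_f, piCox_inr]
    by_cases h1 : i = pre N
    · rw [if_pos h1, piD_f, if_pos rfl, Sum.map_inl, Fin.cycleRange_self,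
        dif_neg (by rw [h1]; simp), if_pos (by rw [h1]; rfl)]
    · rw [if_neg h1]
      by_cases h2 : i = lst N
      · rw [if_pos h2, piD_f, if_neg hpl, if_pos rfl, Sum.map_inl,
          Fin.cycleRange_of_gt (by rw [Fin.lt_def]; simp),
          dif_neg (by rw [h2]; simp), if_neg (by rw [h2]; simp), h2]
      · rw [if_neg h2, piD_f, if_neg h2, if_neg h1, Sum.map_inr]
        have hi : i.val < N := by
          have := i.2
          have := val_ne_of_ne h1
          have := val_ne_of_ne h2
          simp only [pre_val, lst_val] at *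
          omega
        rw [dif_pos hi]
        congr 1
        apply Fin.ext
        rw [cycleRange_val, if_pos (by simpa using hi)]

/-- the label permutation in the case of a cycle of length `N + 2` -/
theorem coxB_perm (x : DIdx N) :
    Sum.map (Fin.cycleRange (lst N)) (Fin.cycleRange (lst N)) (piD N x) = piCox N x := by
  have hpl : pre N ≠ lst N := pre_ne_lst
  rcases x with i | i
  · show Sum.map _ _ (piD N (eD i)) = piCox N (Sum.inl i)
    rw [piD_e, piCox_inl]
    by_cases h1 : i = pre N
    · rw [if_pos h1, Sum.map_inr, Fin.cycleRange_self,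
        dif_neg (by rw [h1]; simp), if_pos (by rw [h1]; rfl)]
    · rw [if_neg h1]
      by_cases h2 : i = lst N
      · rw [if_pos h2, Sum.map_inr, dif_neg (by rw [h2]; simp), if_neg (by rw [h2]; simp), h2]
        congr 1
        apply Fin.ext
        rw [cycleRange_val, if_pos (by simp)]
        simp
      · rw [if_neg h2, Sum.map_inl]
        have hi : i.val < N := by
          have := i.2
          have := val_ne_of_ne h1
          have := val_ne_of_ne h2
          simp only [pre_val, lst_val] at *
          omega
        rw [dif_pos hi]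
        congr 1
        apply Fin.ext
        rw [cycleRange_val, if_pos (by simp only [lst_val]; omega)]
  · show Sum.map _ _ (piD N (fD i)) = piCox N (Sum.inr i)
    rw [piD_f, piCox_inr]
    by_cases h2 : i = lst N
    · rw [if_pos h2, Sum.map_inl, dif_neg (by rw [h2]; simp), if_neg (by rw [h2]; simp), h2]
      congr 1
      apply Fin.ext
      rw [cycleRange_val, if_pos (by simp)]
      simp
    · rw [if_neg h2]
      by_cases h1 : i = pre N
      · rw [if_pos h1, Sum.map_inl, Fin.cycleRange_self,
          dif_neg (by rw [h1]; simp), if_pos (by rw [h1]; rfl)]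
      · rw [if_neg h1, Sum.map_inr]
        have hi : i.val < N := by
          have := i.2
          have := val_ne_of_ne h1
          have := val_ne_of_ne h2
          simp only [pre_val, lst_val] at *
          omega
        rw [dif_pos hi]
        congr 1
        apply Fin.ext
        rw [cycleRange_val, if_pos (by simp only [lst_val]; omega)]

/-- existence of a Coxeter element in `Ω` -/
theorem exists_cox [Fintype F] (p : ℕ) [Fact p.Prime] [CharP F p] (hN : 1 ≤ N) :
    ∃ n : DG N F, n ∈ Cfsg.Omega F ⇑(QD N F) ∧ ∃ ε : DIdx N → F,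
      ∀ x, gact (QD N F) n (Pi.single x 1) = ε x • Pi.single (piCox N x) 1 := by
  have hqm : Fintype.card F ≠ 2 ∨ N ≠ 0 := Or.inr (by omega)
  rcases Nat.even_or_odd N with hev | hodd
  · -- cycle of odd length `N + 1`
    have hτ : (Fin.cycleRange (pre N)) ^ (N + 1) = 1 := by
      have h0 : pre N ≠ 0 := by
        intro h
        have := congrArg Fin.val h
        simp only [pre_val, Fin.val_zero] at this
        omega
      exact cycleRange_pow (pre N) h0
    have hmem := permIso_mem_Omega (F := F) (m := N + 1 + 1) (by omega) _ (N + 1)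
      (Even.add_one hev) hτ
    have hmono : IsMono (matD N F (dsL p hqm * dsS p hqm (Fin.last N)))
        (piD N * piS (Fin.last N)) := by
      rw [map_mul]
      exact (d_s_mono p hqm (Sum.inr ())).mul (d_s_mono p hqm (Sum.inl (Fin.last N)))
    refine ⟨permIso F (N + 1 + 1) (Fin.cycleRange (pre N)) *
      (dsL p hqm * dsS p hqm (Fin.last N)).1, mul_mem hmem (Subtype.property _),
      fun x => matD N F (dsL p hqm * dsS p hqm (Fin.last N)) ((piD N * piS (Fin.last N)) x) x, ?_⟩
    intro x
    rw [gact_perm_mul _ _ hmono, coxA_perm hN]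
  · -- cycle of odd length `N + 2`
    have hτ : (Fin.cycleRange (lst N)) ^ (N + 1 + 1) = 1 := by
      have h0 : lst N ≠ 0 := by
        intro h
        have := congrArg Fin.val h
        simp only [lst_val, Fin.val_zero] at this
        omega
      exact cycleRange_pow (lst N) h0
    have hmem := permIso_mem_Omega (F := F) (m := N + 1 + 1) (by omega) _ (N + 1 + 1)
      (by
        obtain ⟨k, hk⟩ := hodd
        exact ⟨k + 1, by omega⟩) hτ
    have hmono : IsMono (matD N F (dsL p hqm)) (piD N) := d_s_mono p hqm (Sum.inr ())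
    refine ⟨permIso F (N + 1 + 1) (Fin.cycleRange (lst N)) * (dsL p hqm).1,
      mul_mem hmem (Subtype.property _),
      fun x => matD N F (dsL p hqm) (piD N x) x, ?_⟩
    intro x
    rw [gact_perm_mul _ _ hmono, coxB_perm]

end Cfsg.Agent.Lib.Helper1.TG
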