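import Mathlib
import Cfsg.Agent.Lib.Helper1.TG2
import Cfsg.Agent.Lib.Helper1.TG4
import Cfsg.Agent.Lib.Helper1.TG7
import Cfsg.Agent.Lib.Helper1.TG8

/-!
# `Ω⁺` is generated by a Coxeter element and two seeds
-/

set_option autoImplicit false
set_option linter.unusedSectionVars false
set_option linter.unusedVariables false

namespace Cfsg.Agent.Lib.Helper1.TG

open Matrix Cfsg.Agent.Lib.Helper6 Cfsg.Agent.Lib.Helper1.DBN Cfsg.Agent.Lib.Helper15 QuadraticMap

variable {N : ℕ} {F : Type*} [Field F]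

theorem cSeq_period (k : ℕ) : cSeq N (k + (N + 1) + (N + 1)) = cSeq N k := by
  rw [← swap_cSeq, ← swap_cSeq, Sum.swap_swap]

theorem dSeq_period (k : ℕ) : dSeq N (k + 1 + 1) = dSeq N k := by
  rw [← swap_dSeq, ← swap_dSeq, Sum.swap_swap]

theorem piCox_surj (x : PIdx N) : ∃ y, piCox N y = x := by
  rcases seq_surj x with ⟨k, rfl⟩ | ⟨k, rfl⟩
  · rcases k with _ | k
    · refine ⟨cSeq N (N + (N + 1)), ?_⟩
      rw [← cSeq_succ]
      have : N + (N + 1) + 1 = 0 + (N + 1) + (N + 1) := by ring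
      rw [this, cSeq_period]
    · exact ⟨cSeq N k, rfl⟩
  · rcases k with _ | k
    · refine ⟨dSeq N 1, ?_⟩
      rw [← dSeq_succ]
      exact dSeq_period 0
    · exact ⟨dSeq N k, rfl⟩

/-- the closure theorem in the form needed for the generation results -/
theorem Omega_le_of_seeds [Fintype F] (hN : 1 ≤ N) (L : Subgroup (DG N F)) {n : DG N F} (hn : n ∈ L)
    {ε : DIdx N → F}
    (hmono : ∀ x, gact (QD N F) n (Pi.single x 1) = ε x • Pi.single (piCox N x) 1)
    (h0 : Full (plusFrame F (N + 1 + 1)) L (cSeq N 0) (dSeq N 0))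
    (h1 : Single (plusFrame F (N + 1 + 1)) L (cSeq N 2) (dSeq N 1)) :
    Cfsg.Omega F ⇑(QD N F) ≤ L := by
  have hpairs := full_of_dcox (fr := plusFrame F (N + 1 + 1)) hn (π := piCox N) (ε := ε) hmono
    (N + 1) (by omega) (cSeq N) (dSeq N) (fun k => rfl) (fun k => rfl) swap_cSeq swap_dSeq
    cSeq_ne_dSeq cSeq_succ_ne (cSeq_succ_ne' hN) seq_surj h0 h1
  have hfull := full_of_pairs (fr := plusFrame F (N + 1 + 1)) (L := L) (by
    intro x w hw
    rw [plusFrame_Wperp w hw]
    exact (S _ L x).zero_mem) hpairs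
  refine Omega_le_of_full (fr := plusFrame F (N + 1 + 1)) (nondegenerate_QPlus F _) ?_ hfull ?_
    (fun u _ hu => plusFrame_complete u hu) (Sum.inl 0)
  · simp only [Fintype.card_sum, Fintype.card_fin]
    omega
  · intro x
    obtain ⟨j, hj⟩ := exists_ne (idx x)
    refine ⟨Sum.inl j, ?_, ?_⟩
    · rcases x with i | i
      · intro h
        apply hj
        exact Sum.inl_injective h
      · simp
    · rcases x with i | i
      · simp
      · intro h
        apply hj
        exact Sum.inl_injective h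

end Cfsg.Agent.Lib.Helper1.TG
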