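import Mathlib
import Cfsg.Agent.Lib.Helper1.TG9
import Cfsg.Agent.Lib.Helper1.TG10

/-!
# Two generators of `Ω⁺_{2N+4}(q)` for `q ≥ 3`
-/

set_option autoImplicit false
set_option linter.unusedSectionVars false
set_option linter.unusedVariables false
set_option linter.unusedSimpArgs false

namespace Cfsg.Agent.Lib.Helper1.TG

open Matrix Cfsg.Agent.Lib.Helper6 Cfsg.Agent.Lib.Helper1.DBN Cfsg.Agent.Lib.Helper15 QuadraticMap

variable {N : ℕ} {F : Type*} [Field F]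

theorem dSeq_ne_st_cSeq (j k : ℕ) : dSeq N k ≠ (plusFrame F (N + 1 + 1)).st (cSeq N j) := by
  rw [plusFrame_st, swap_cSeq]
  exact fun h => cSeq_ne_dSeq _ _ h.symm

/-- auxiliary torus parameter -/
def lam0 (N : ℕ) (μ : Fˣ) : Fin (N + 1 + 1) → Fˣ := fun i => if i = 0 then μ else 1

/-- the torus parameter: `μ` at the indices `0, 1` -/
def lamH (N : ℕ) (μ : Fˣ) : Fin (N + 1 + 1) → Fˣ :=
  fun i => lam0 N μ i * lam0 N μ ((Equiv.swap (0 : Fin (N + 1 + 1)) 1).symm i)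

theorem lamH_zero (hN : 1 ≤ N) (μ : Fˣ) : lamH N μ 0 = μ := by
  unfold lamH lam0
  rw [Equiv.symm_swap, Equiv.swap_apply_left, if_pos rfl, if_neg, mul_one]
  intro h
  have := congrArg Fin.val h
  rw [Fin.val_one, Fin.val_zero] at this
  omega

theorem lamH_one (hN : 1 ≤ N) (μ : Fˣ) : lamH N μ 1 = μ := by
  unfold lamH lam0
  rw [Equiv.symm_swap, Equiv.swap_apply_right, if_pos rfl, if_neg, one_mul]
  intro h
  have := congrArg Fin.val h
  rw [Fin.val_one, Fin.val_zero] at this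
  omega

theorem lamH_big (μ : Fˣ) (i : Fin (N + 1 + 1)) (hi : 2 ≤ i.val) : lamH N μ i = 1 := by
  unfold lamH lam0
  have h0 : i ≠ 0 := by
    intro h
    rw [h, Fin.val_zero] at hi
    omega
  have h1 : i ≠ 1 := by
    intro h
    rw [h, Fin.val_one] at hi
    omega
  rw [Equiv.symm_swap, Equiv.swap_apply_of_ne_of_ne h0 h1, if_neg h0, mul_one]

theorem cSeq_zero' : cSeq N 0 = Sum.inl 0 := rfl

theorem cSeq_one' (hN : 1 ≤ N) : cSeq N 1 = Sum.inl 1 := by
  rw [cSeq_low 1 hN]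
  congr 1

theorem cSeq_two' (hN : 2 ≤ N) : cSeq N 2 = Sum.inl ⟨2, by omega⟩ := cSeq_low 2 hN

theorem dSeq_zero' : dSeq N 0 = Sum.inl (Fin.last (N + 1)) := rfl

theorem dSeq_one' : dSeq N 1 = Sum.inr (Fin.last (N + 1)) := by
  rw [← swap_dSeq]
  rfl

theorem diagH_c0 (hN : 1 ≤ N) (μ : Fˣ) :
    gact (QD N F) (diagIso F (N + 1 + 1) (lamH N μ)) ((plusFrame F (N + 1 + 1)).b (cSeq N 0)) =
      (μ : F) • (plusFrame F (N + 1 + 1)).b (cSeq N 0) := by
  rw [plusFrame_b, gact_diagIso_single, cSeq_zero']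
  unfold diagFun
  rw [Sum.elim_inl, lamH_zero hN]

theorem diagH_c1 (hN : 1 ≤ N) (μ : Fˣ) :
    gact (QD N F) (diagIso F (N + 1 + 1) (lamH N μ)) ((plusFrame F (N + 1 + 1)).b (cSeq N 1)) =
      (μ : F) • (plusFrame F (N + 1 + 1)).b (cSeq N 1) := by
  rw [plusFrame_b, gact_diagIso_single, cSeq_one' hN]
  unfold diagFun
  rw [Sum.elim_inl, lamH_one hN]

theorem diagH_c2 (hN : 2 ≤ N) (μ : Fˣ) :
    gact (QD N F) (diagIso F (N + 1 + 1) (lamH N μ)) ((plusFrame F (N + 1 + 1)).b (cSeq N 2)) =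
      (1 : F) • (plusFrame F (N + 1 + 1)).b (cSeq N 2) := by
  rw [plusFrame_b, gact_diagIso_single, cSeq_two' hN]
  unfold diagFun
  rw [Sum.elim_inl, lamH_big μ _ (le_refl 2), Units.val_one]

theorem diagH_d0 (hN : 1 ≤ N) (μ : Fˣ) :
    gact (QD N F) (diagIso F (N + 1 + 1) (lamH N μ)) ((plusFrame F (N + 1 + 1)).b (dSeq N 0)) =
      (1 : F) • (plusFrame F (N + 1 + 1)).b (dSeq N 0) := by
  rw [plusFrame_b, gact_diagIso_single, dSeq_zero']
  unfold diagFun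
  rw [Sum.elim_inl, lamH_big μ _ (by rw [Fin.val_last]; omega), Units.val_one]

theorem diagH_d1 (hN : 1 ≤ N) (μ : Fˣ) :
    gact (QD N F) (diagIso F (N + 1 + 1) (lamH N μ)) ((plusFrame F (N + 1 + 1)).b (dSeq N 1)) =
      (1 : F) • (plusFrame F (N + 1 + 1)).b (dSeq N 1) := by
  rw [plusFrame_b, gact_diagIso_single, dSeq_one']
  unfold diagFun
  rw [Sum.elim_inr, lamH_big μ _ (by rw [Fin.val_last]; omega), inv_one, Units.val_one]

theorem diagH_mem_Omega [Fintype F] (hN : 1 ≤ N) (μ : Fˣ) :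
    diagIso F (N + 1 + 1) (lamH N μ) ∈ Cfsg.Omega F ⇑(QD N F) :=
  diagIso_mem_Omega (show 3 ≤ N + 1 + 1 by omega) (Equiv.swap (0 : Fin (N + 1 + 1)) 1) (lam0 N μ)

/-- the two generators generate `Ω` -/
theorem closure_big [Fintype F] (hN : 2 ≤ N) (μ : Fˣ) (hμ : μ ≠ 1)
    (hgen : ∀ t : F, t ≠ 0 → ∃ j : ℕ, t = (μ : F) ^ j)
    {n : DG N F} (hnΩ : n ∈ Cfsg.Omega F ⇑(QD N F)) {ε : DIdx N → F}
    (hmono : ∀ x, gact (QD N F) n (Pi.single x 1) = ε x • Pi.single (piCox N x) 1) :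
    Subgroup.closure ({diagIso F (N + 1 + 1) (lamH N μ) *
        rootEl (plusFrame F (N + 1 + 1)) (cSeq N 2) (dSeq N 1) (dSeq_ne_st_cSeq 2 1) 1,
      n * rootEl (plusFrame F (N + 1 + 1)) (cSeq N 0) (dSeq N 0) (dSeq_ne_st_cSeq 0 0) 1} :
        Set (DG N F)) = Cfsg.Omega F ⇑(QD N F) := by
  have hN1 : 1 ≤ N := by omega
  set fr := plusFrame F (N + 1 + 1) with hfr
  set h := diagIso F (N + 1 + 1) (lamH N μ) with hh
  set u := rootEl fr (cSeq N 2) (dSeq N 1) (dSeq_ne_st_cSeq 2 1) 1 with hu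
  set x1 := rootEl fr (cSeq N 0) (dSeq N 0) (dSeq_ne_st_cSeq 0 0) 1 with hx1
  set L := Subgroup.closure ({h * u, n * x1} : Set (DG N F)) with hL
  have haL : h * u ∈ L := Subgroup.subset_closure (by simp)
  have hbL : n * x1 ∈ L := Subgroup.subset_closure (by simp)
  have h5 : 5 ≤ Fintype.card (DIdx N) := by
    simp only [Fintype.card_sum, Fintype.card_fin]
    omega
  -- `h` and `u` commute
  have hconj : h * u * h⁻¹ = u := by
    have := conj_rootEl fr h (diagH_c2 hN μ) (diagH_d1 hN1 μ) (dSeq_ne_st_cSeq 2 1)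
      (dSeq_ne_st_cSeq 2 1) 1
    rw [mul_one, mul_one] at this
    exact this
  have hcomm : Commute h u := by
    show h * u = u * h
    calc h * u = (h * u * h⁻¹) * h := by group
      _ = u * h := by rw [hconj]
  have hq : Fintype.card F - 1 + 1 = Fintype.card F := by
    have := Fintype.card_pos (α := F)
    omega
  have huL : u ∈ L := by
    have h1 : (h * u) ^ (Fintype.card F - 1) = u ^ (Fintype.card F - 1) := by
      rw [hcomm.mul_pow, diagIso_pow_card, one_mul]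
    have h2 : u ^ (Fintype.card F - 1) * u = 1 := by
      rw [← pow_succ, hq]
      exact rootEl_pow_card fr _ _ _ _
    have h3 : u = ((h * u) ^ (Fintype.card F - 1))⁻¹ := by
      rw [h1]
      exact (inv_eq_of_mul_eq_one_right h2).symm
    rw [h3]
    exact inv_mem (pow_mem haL _)
  have hhL : h ∈ L := by
    have : h = h * u * u⁻¹ := by group
    rw [this]
    exact mul_mem haL (inv_mem huL)
  have hdiag : ∀ i : DIdx N, ∃ d : F, gact (QD N F) h (Pi.single i 1) = d • Pi.single i 1 :=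
    fun i => ⟨_, gact_diagIso_single _ i⟩
  have hc : h * (n * h * n⁻¹) = (n * h * n⁻¹) * h :=
    diag_commute hdiag (conj_diag piCox_surj hmono hdiag)
  have hμ' : (μ : F) ≠ 1 := fun h => hμ (Units.ext h)
  obtain ⟨hnL, hxL⟩ := trick_frame fr (x0 := cSeq N 0) (y0 := dSeq N 0) (x1 := cSeq N 1)
    (y1 := dSeq N 1) (dSeq_ne_st_cSeq 0 0) (dSeq_ne_st_cSeq 1 1)
    (hmono (cSeq N 0)) (hmono (dSeq N 0)) (diagH_c0 hN1 μ) (diagH_d0 hN1 μ) (diagH_c1 hN1 μ)
    (diagH_d1 hN1 μ) hc hμ' hgen L hhL hbL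
  have h0 : Full fr L (cSeq N 0) (dSeq N 0) := fun t => (rootEl_mem_iff fr _ _ _ t).mp (hxL t)
  have h1 : Single fr L (cSeq N 2) (dSeq N 1) :=
    ⟨1, one_ne_zero, (rootEl_mem_iff fr _ _ _ 1).mp huL⟩
  apply le_antisymm
  · rw [hL, Subgroup.closure_le]
    intro g hg
    rcases hg with rfl | rfl
    · exact mul_mem (diagH_mem_Omega hN1 μ)
        (rootEl_mem_Omega fr (nondegenerate_QPlus F _) h5 _ _ _ _)
    · exact mul_mem hnΩ (rootEl_mem_Omega fr (nondegenerate_QPlus F _) h5 _ _ _ _)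
  · exact Omega_le_of_seeds hN1 L hnL hmono h0 h1

end Cfsg.Agent.Lib.Helper1.TG
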