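import Mathlib
import Cfsg.Agent.Lib.Helper1.TG9
import Cfsg.Agent.Lib.Helper1.TG10
import Cfsg.Agent.Lib.Helper1.TG11

/-!
# Two generators of `Ω⁺_{2N+4}(2)`
-/

set_option autoImplicit false
set_option linter.unusedSectionVars false
set_option linter.unusedVariables false
set_option linter.unusedSimpArgs false

namespace Cfsg.Agent.Lib.Helper1.TG

open Matrix Cfsg.Agent.Lib.Helper6 Cfsg.Agent.Lib.Helper1.DBN Cfsg.Agent.Lib.Helper15 QuadraticMap
  Cfsg.Agent.Lib.Helper14.SpBN Cfsg.Agent.Lib.Helper14.MatBN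

variable {N : ℕ} {F : Type*} [Field F]

/-- `shtD` fixes the basis vectors `e_j`, `j ∉ {a, b}` -/
theorem gact_shtD_e_of_ne (a b : Fin (N + 2)) (hab : a ≠ b) (M : GL (Fin 2) F) (j : Fin (N + 2))
    (hja : j ≠ a) (hjb : j ≠ b) :
    gact (QD N F) (shtD a b hab M) (Pi.single (Sum.inl j) 1) = Pi.single (Sum.inl j) 1 := by
  funext r
  rw [dact_apply, coe_shtD]
  rcases r with i | i
  · rw [shtMat_ll, blk_cab_apply hab, Pi.single_apply]
    by_cases hia : i = a
    · rw [if_pos hia, if_neg hja, if_neg hjb, if_neg]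
      rw [hia]
      exact fun h => hja (Sum.inl_injective h).symm
    · rw [if_neg hia]
      by_cases hib : i = b
      · rw [if_pos hib, if_neg hja, if_neg hjb, if_neg]
        rw [hib]
        exact fun h => hjb (Sum.inl_injective h).symm
      · rw [if_neg hib]
        by_cases hij : i = j
        · rw [if_pos hij, if_pos (by rw [hij])]
        · rw [if_neg hij, if_neg (fun h => hij (Sum.inl_injective h))]
  · rw [shtMat_rl, Pi.single_apply, if_neg (by simp)]

/-- `shtD` fixes the basis vectors `f_j`, `j ∉ {a, b}` -/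
theorem gact_shtD_f_of_ne (a b : Fin (N + 2)) (hab : a ≠ b) (M : GL (Fin 2) F) (j : Fin (N + 2))
    (hja : j ≠ a) (hjb : j ≠ b) :
    gact (QD N F) (shtD a b hab M) (Pi.single (Sum.inr j) 1) = Pi.single (Sum.inr j) 1 := by
  funext r
  rw [dact_apply, coe_shtD]
  rcases r with i | i
  · rw [shtMat_lr, Pi.single_apply, if_neg (by simp)]
  · rw [shtMat_rr, blk_cab_apply hab, Pi.single_apply, if_neg hja, if_neg hjb]
    by_cases hij : j = i
    · rw [if_pos hij, if_pos (by rw [hij])]
    · rw [if_neg hij, if_neg (fun h => hij (Sum.inr_injective h).symm)]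

/-- `shtD` maps `e_a` to `e_b` when the first column of the matrix is `(0, 1)` -/
theorem gact_shtD_e_left (a b : Fin (N + 2)) (hab : a ≠ b) (M : GL (Fin 2) F)
    (h00 : (M : Matrix (Fin 2) (Fin 2) F) 0 0 = 0) (h10 : (M : Matrix (Fin 2) (Fin 2) F) 1 0 = 1) :
    gact (QD N F) (shtD a b hab M) (Pi.single (Sum.inl a) 1) = Pi.single (Sum.inl b) 1 := by
  funext r
  rw [dact_apply, coe_shtD]
  rcases r with i | i
  · rw [shtMat_ll, blk_cab_apply hab, Pi.single_apply]
    by_cases hia : i = a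
    · rw [if_pos hia, if_pos rfl, h00, if_neg]
      rw [hia]
      exact fun h => hab (Sum.inl_injective h)
    · rw [if_neg hia]
      by_cases hib : i = b
      · rw [if_pos hib, if_pos rfl, h10, if_pos (by rw [hib])]
      · rw [if_neg hib, if_neg hia, if_neg (fun h => hib (Sum.inl_injective h))]
  · rw [shtMat_rl, Pi.single_apply, if_neg (by simp)]

/-- the matrix of order three -/
def mttMat (F : Type*) [Field F] : Matrix (Fin 2) (Fin 2) F := !![0, 1; 1, 1]

/-- the element of order three of `GL₂` (in characteristic two) -/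
def mtt (F : Type*) [Field F] : GL (Fin 2) F :=
  ⟨mttMat F, !![-1, 1; 1, 0],
    by
      unfold mttMat
      ext i j; fin_cases i <;> fin_cases j <;> simp [Matrix.mul_apply, Fin.sum_univ_two],
    by
      unfold mttMat
      ext i j; fin_cases i <;> fin_cases j <;> simp [Matrix.mul_apply, Fin.sum_univ_two]⟩

theorem mtt_pow (h2 : (2 : F) = 0) : (mtt F) ^ 3 = 1 := by
  apply Units.ext
  rw [Units.val_pow_eq_pow_val]
  show (mttMat F) ^ 3 = 1
  have h3 : (3 : F) = 1 := by
    have : (3 : F) = 2 + 1 := by norm_num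
    rw [this, h2, zero_add]
  unfold mttMat
  rw [pow_succ, pow_two]
  ext i j; fin_cases i <;> fin_cases j <;>
    simp [Matrix.mul_apply, Fin.sum_univ_two, h2, h3, one_add_one_eq_two]

theorem one_ne_two' (hN : 2 ≤ N) : (1 : Fin (N + 2)) ≠ ⟨2, by omega⟩ := by
  intro h
  have := congrArg Fin.val h
  rw [Fin.val_one] at this
  simp at this

/-- the element of order three -/
noncomputable def ttEl (hN : 2 ≤ N) : DG N F := shtD 1 ⟨2, by omega⟩ (one_ne_two' hN) (mtt F)

theorem ttEl_pow (hN : 2 ≤ N) (h2 : (2 : F) = 0) : (ttEl hN : DG N F) ^ 3 = 1 := by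
  unfold ttEl
  rw [← map_pow, mtt_pow h2, map_one]

theorem ttEl_c0 (hN : 2 ≤ N) :
    gact (QD N F) (ttEl hN) ((plusFrame F (N + 1 + 1)).b (cSeq N 0)) =
      (1 : F) • (plusFrame F (N + 1 + 1)).b (cSeq N 0) := by
  rw [plusFrame_b, cSeq_zero', one_smul]
  apply gact_shtD_e_of_ne
  · intro h
    have := congrArg Fin.val h
    rw [Fin.val_one, Fin.val_zero] at this
    omega
  · intro h
    have := congrArg Fin.val h
    rw [Fin.val_zero] at this
    simp at this

theorem ttEl_d0 (hN : 2 ≤ N) :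
    gact (QD N F) (ttEl hN) ((plusFrame F (N + 1 + 1)).b (dSeq N 0)) =
      (1 : F) • (plusFrame F (N + 1 + 1)).b (dSeq N 0) := by
  rw [plusFrame_b, dSeq_zero', one_smul]
  apply gact_shtD_e_of_ne
  · intro h
    have := congrArg Fin.val h
    rw [Fin.val_one, Fin.val_last] at this
    omega
  · intro h
    have := congrArg Fin.val h
    rw [Fin.val_last] at this
    simp at this
    omega

theorem ttEl_d1 (hN : 2 ≤ N) :
    gact (QD N F) (ttEl hN) ((plusFrame F (N + 1 + 1)).b (dSeq N 1)) =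
      (1 : F) • (plusFrame F (N + 1 + 1)).b (dSeq N 1) := by
  rw [plusFrame_b, dSeq_one', one_smul]
  apply gact_shtD_f_of_ne
  · intro h
    have := congrArg Fin.val h
    rw [Fin.val_one, Fin.val_last] at this
    omega
  · intro h
    have := congrArg Fin.val h
    rw [Fin.val_last] at this
    simp at this
    omega

theorem ttEl_c1 (hN : 2 ≤ N) :
    gact (QD N F) (ttEl hN) ((plusFrame F (N + 1 + 1)).b (cSeq N 1)) =
      (1 : F) • (plusFrame F (N + 1 + 1)).b (cSeq N 2) := by
  rw [plusFrame_b, plusFrame_b, cSeq_one' (by omega), cSeq_two' hN, one_smul]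
  apply gact_shtD_e_left
  · rfl
  · rfl

theorem ttEl_mem_Omega [Fintype F] (hN : 2 ≤ N) (h2 : (2 : F) = 0) :
    (ttEl hN : DG N F) ∈ Cfsg.Omega F ⇑(QD N F) := by
  apply mem_Omega_of_pow_odd' (QD N F) (nondegenerate_QPlus F _) _ _ _ 3 (by decide)
    (ttEl_pow hN h2)
  · simp only [Fintype.card_sum, Fintype.card_fin]; omega
  · right
    simp only [Fintype.card_sum, Fintype.card_fin]; omega

/-- the two generators generate `Ω` -/
theorem closure_two [Fintype F] (hF : Fintype.card F = 2) (hN : 2 ≤ N)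
    {n : DG N F} (hnΩ : n ∈ Cfsg.Omega F ⇑(QD N F)) {ε : DIdx N → F}
    (hmono : ∀ x, gact (QD N F) n (Pi.single x 1) = ε x • Pi.single (piCox N x) 1) :
    Subgroup.closure ({rootEl (plusFrame F (N + 1 + 1)) (cSeq N 0) (dSeq N 0)
        (dSeq_ne_st_cSeq 0 0) 1 * ttEl hN, n} : Set (DG N F)) = Cfsg.Omega F ⇑(QD N F) := by
  have hN1 : 1 ≤ N := by omega
  have h2 : (2 : F) = 0 := by
    have := FiniteField.cast_card_eq_zero F
    rw [hF] at this
    exact_mod_cast this
  have h01 : ∀ t : F, t = 0 ∨ t = 1 := by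
    intro t
    have := FiniteField.pow_card t
    rw [hF] at this
    have h : t * (t - 1) = 0 := by
      rw [mul_sub, mul_one, ← pow_two, this, sub_self]
    rcases mul_eq_zero.mp h with h | h
    · exact Or.inl h
    · exact Or.inr (sub_eq_zero.mp h)
  set fr := plusFrame F (N + 1 + 1) with hfr
  set ρ := rootEl fr (cSeq N 0) (dSeq N 0) (dSeq_ne_st_cSeq 0 0) 1 with hρ
  set tt : DG N F := ttEl hN with htt
  set L := Subgroup.closure ({ρ * tt, n} : Set (DG N F)) with hL
  have haL : ρ * tt ∈ L := Subgroup.subset_closure (by simp)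
  have hnL : n ∈ L := Subgroup.subset_closure (by simp)
  have h5 : 5 ≤ Fintype.card (DIdx N) := by
    simp only [Fintype.card_sum, Fintype.card_fin]
    omega
  have hconj : tt * ρ * tt⁻¹ = ρ := by
    have := conj_rootEl fr tt (ttEl_c0 hN) (ttEl_d0 hN) (dSeq_ne_st_cSeq 0 0)
      (dSeq_ne_st_cSeq 0 0) 1
    rw [mul_one, mul_one] at this
    exact this
  have hcomm : Commute ρ tt := by
    show ρ * tt = tt * ρ
    calc ρ * tt = (tt * ρ * tt⁻¹) * tt := by rw [hconj]
      _ = tt * ρ := by group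
  have hρ2 : ρ ^ 2 = 1 := by
    have := rootEl_pow_card fr (cSeq N 0) (dSeq N 0) (dSeq_ne_st_cSeq 0 0) (1 : F)
    rw [hF] at this
    exact this
  have htt3 : tt ^ 3 = 1 := ttEl_pow hN h2
  have hρL : ρ ∈ L := by
    have : (ρ * tt) ^ 3 = ρ := by
      rw [hcomm.mul_pow, htt3, mul_one, pow_succ, hρ2, one_mul]
    rw [← this]
    exact pow_mem haL _
  have httL : tt ∈ L := by
    have : tt = ρ⁻¹ * (ρ * tt) := by group
    rw [this]
    exact mul_mem (inv_mem hρL) haL
  have h0 : Full fr L (cSeq N 0) (dSeq N 0) := by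
    intro t
    rcases h01 t with rfl | rfl
    · rw [zero_smul]
      exact (S fr L _).zero_mem
    · exact (rootEl_mem_iff fr _ _ _ 1).mp hρL
  have h0' : Full fr L (cSeq N 1) (dSeq N 1) := Full.map hnL hmono h0
  have h1 : Single fr L (cSeq N 2) (dSeq N 1) := by
    have := conj_mem_S httL (ttEl_c1 hN) (h0' 1)
    rw [gact_smul, ttEl_d1 hN, one_smul, one_smul] at this
    exact ⟨1, one_ne_zero, this⟩
  apply le_antisymm
  · rw [hL, Subgroup.closure_le]
    intro g hg
    rcases hg with rfl | rfl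
    · exact mul_mem (rootEl_mem_Omega fr (nondegenerate_QPlus F _) h5 _ _ _ _)
        (ttEl_mem_Omega hN h2)
    · exact hnΩ
  · exact Omega_le_of_seeds hN1 L hnL hmono h0 h1

end Cfsg.Agent.Lib.Helper1.TG
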