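import Mathlib
import Cfsg.Agent.Lib.Helper1.TG11
import Cfsg.Agent.Lib.Helper1.TG12
import Cfsg.Agent.Lib.Helper1.DBN4

/-!
# `PΩ⁺_{2m}(q)`, `m ≥ 4`, is generated by two elements
-/

set_option autoImplicit false
set_option linter.unusedSectionVars false
set_option linter.unusedVariables false

namespace Cfsg.Agent.Lib.Helper1.TG

open Matrix Cfsg.Agent.Lib.Helper6 Cfsg.Agent.Lib.Helper1.DBN Cfsg.Agent.Lib.Helper15 QuadraticMap

/-- two generators of a subgroup give two generators of its central quotient -/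
theorem two_gen_quot {G : Type*} [Group G] (H : Subgroup G) (a₀ b₀ : G)
    (h : Subgroup.closure ({a₀, b₀} : Set G) = H) :
    ∃ a b : H ⧸ Subgroup.center H, Subgroup.closure ({a, b} : Set (H ⧸ Subgroup.center H)) = ⊤ := by
  have ha : a₀ ∈ H := by
    rw [← h]
    exact Subgroup.subset_closure (by simp)
  have hb : b₀ ∈ H := by
    rw [← h]
    exact Subgroup.subset_closure (by simp)
  have h1 : Subgroup.closure ({⟨a₀, ha⟩, ⟨b₀, hb⟩} : Set H) = ⊤ := by
    apply Subgroup.map_injective H.subtype_injective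
    rw [MonoidHom.map_closure, Set.image_pair]
    simp only [Subgroup.coe_subtype]
    rw [h, ← MonoidHom.range_eq_map, Subgroup.range_subtype]
  refine ⟨QuotientGroup.mk ⟨a₀, ha⟩, QuotientGroup.mk ⟨b₀, hb⟩, ?_⟩
  have h2 := Subgroup.map_top_of_surjective (QuotientGroup.mk' (Subgroup.center H))
    (QuotientGroup.mk'_surjective _)
  rw [← h1, MonoidHom.map_closure, Set.image_pair] at h2
  exact h2

variable {N : ℕ} {F : Type*} [Field F] [Fintype F]

theorem two_gen_QD (hN : 2 ≤ N) :
    ∃ a b : Cfsg.POmega F ⇑(QD N F),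
      Subgroup.closure ({a, b} : Set (Cfsg.POmega F ⇑(QD N F))) = ⊤ := by
  classical
  obtain ⟨p, hp⟩ := CharP.exists F
  have := hp
  have : Fact p.Prime := ⟨CharP.char_is_prime F p⟩
  obtain ⟨n, hnΩ, ε, hmono⟩ := exists_cox (N := N) (F := F) p (by omega)
  by_cases hF : Fintype.card F = 2
  · exact two_gen_quot _ _ _ (closure_two hF hN hnΩ hmono)
  · obtain ⟨μ, hμ⟩ := IsCyclic.exists_generator (α := Fˣ)
    have hgen : ∀ t : F, t ≠ 0 → ∃ j : ℕ, t = (μ : F) ^ j := by
      intro t ht
      have h1 : Units.mk0 t ht ∈ Subgroup.zpowers μ := hμ _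
      rw [← mem_powers_iff_mem_zpowers] at h1
      obtain ⟨j, hj⟩ := h1
      refine ⟨j, ?_⟩
      have := congrArg Units.val hj
      rw [Units.val_pow_eq_pow_val, Units.val_mk0] at this
      exact this.symm
    have hμ1 : μ ≠ 1 := by
      intro h1
      have hcard : Fintype.card Fˣ = Fintype.card F - 1 := Fintype.card_units F
      have hsub : ∀ x : Fˣ, x = 1 := by
        intro x
        obtain ⟨j, hj⟩ := Subgroup.mem_zpowers_iff.1 (hμ x)
        rw [← hj, h1, _root_.one_zpow]
      have h3 : Fintype.card Fˣ ≤ 1 := by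
        rw [Fintype.card_le_one_iff]
        intro x y
        rw [hsub x, hsub y]
      have h4 := Fintype.one_lt_card (α := F)
      omega
    exact two_gen_quot _ _ _ (closure_big hN μ hμ1 hgen hnΩ hmono)

/-- the statement for the plus type form -/
theorem two_gen_quadFormPlus (hN : 2 ≤ N) :
    ∃ a b : Cfsg.POmega F (Cfsg.quadFormPlus (N + 1 + 1) F),
      Subgroup.closure ({a, b} : Set (Cfsg.POmega F (Cfsg.quadFormPlus (N + 1 + 1) F))) = ⊤ := by
  have h := two_gen_QD (N := N) (F := F) hN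
  rw [hcoeD] at h
  exact h

end Cfsg.Agent.Lib.Helper1.TG
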