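import Mathlib
import Cfsg.Agent.Lib.Helper1.TG2
import Cfsg.Agent.Lib.Helper1.TG10

/-!
# Root elements with a general Siegel parameter, the trick and the closure theorem for type `B`
-/

set_option autoImplicit false
set_option linter.unusedSectionVars false
set_option linter.unusedVariables false
set_option linter.unusedSimpArgs false

namespace Cfsg.Agent.Lib.Helper1.TG

open Cfsg.Agent.Lib.Helper6 QuadraticMap Matrix

section general
variable {F : Type*} [Field F] {ι : Type} [Fintype ι] [DecidableEq ι]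
  {Q : QuadraticForm F (ι → F)} {X : Type} [DecidableEq X] (fr : HFrame Q X)

theorem HFrame.pol_smul_vec {x : X} {w : ι → F} (hw : polar (⇑Q) (fr.b x) w = 0) (t : F) :
    polar (⇑Q) (fr.b x) (t • w) = 0 := by
  rw [polar_smul_right, hw, smul_zero]

/-- the element `ρ_{b x, t w}` -/
noncomputable def rootV (x : X) (w : ι → F) (hw : polar (⇑Q) (fr.b x) w = 0) (t : F) :
    ↥(Cfsg.isometryGroup F ⇑Q) :=
  siegIso Q (fr.b x) (t • w) (fr.sing x) (fr.pol_smul_vec hw t)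

theorem rootV_mul (x : X) (w : ι → F) (hw : polar (⇑Q) (fr.b x) w = 0) (t s : F) :
    rootV fr x w hw t * rootV fr x w hw s = rootV fr x w hw (t + s) := by
  unfold rootV
  rw [siegIso_mul]
  exact siegIso_congr Q _ _ _ _ _ (add_smul t s _).symm

theorem rootV_mem_iff {L : Subgroup ↥(Cfsg.isometryGroup F ⇑Q)} (x : X) (w : ι → F)
    (hw : polar (⇑Q) (fr.b x) w = 0) (t : F) : rootV fr x w hw t ∈ L ↔ t • w ∈ S fr L x := by
  rw [mem_S_iff]
  constructor
  · intro h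
    exact ⟨fr.pol_smul_vec hw t, h⟩
  · rintro ⟨_, h⟩
    exact h

theorem rootV_mem_Omega [Fintype F] (hQ : (polarBilin Q).Nondegenerate)
    (h5 : 5 ≤ Fintype.card ι) (x : X) (w : ι → F) (hw : polar (⇑Q) (fr.b x) w = 0) (t : F) :
    rootV fr x w hw t ∈ Cfsg.Omega F ⇑Q :=
  siegIso_mem_Omega Q hQ h5 _ _ _ _

/-- conjugation of the elements `ρ_{b x, t w}` -/
theorem conj_rootV (g : ↥(Cfsg.isometryGroup F ⇑Q)) {x x' : X} {w w' : ι → F} {α β : F}
    (hgx : gact Q g (fr.b x) = α • fr.b x') (hgw : gact Q g w = β • w')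
    (hw : polar (⇑Q) (fr.b x) w = 0) (hw' : polar (⇑Q) (fr.b x') w' = 0) (t : F) :
    g * rootV fr x w hw t * g⁻¹ = rootV fr x' w' hw' (α * β * t) := by
  unfold rootV
  rw [conj_siegIso]
  apply iso_ext_gact
  intro z
  rw [gact_siegIso, gact_siegIso, hgx, gact_smul, hgw, Q_smul, Q_smul, Q_smul]
  ext i
  simp only [polar_smul_left, smul_eq_mul, Pi.add_apply, Pi.smul_apply, neg_mul]
  ring

/-- the two-generation trick, general Siegel parameter -/
theorem trick_gen {h n : ↥(Cfsg.isometryGroup F ⇑Q)} {x0 x1 : X} {w w' : ι → F}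
    (hw : polar (⇑Q) (fr.b x0) w = 0) (hw' : polar (⇑Q) (fr.b x1) w' = 0) {ε ε' μ : F}
    (hnx : gact Q n (fr.b x0) = ε • fr.b x1) (hnw : gact Q n w = ε' • w')
    (hhx0 : gact Q h (fr.b x0) = μ • fr.b x0) (hhw : gact Q h w = (1 : F) • w)
    (hhx1 : gact Q h (fr.b x1) = μ • fr.b x1) (hhw' : gact Q h w' = (1 : F) • w')
    (hcomm : h * (n * h * n⁻¹) = (n * h * n⁻¹) * h)
    (hμ : μ ≠ 1) (hgen : ∀ t : F, t ≠ 0 → ∃ j : ℕ, t = μ ^ j)
    (L : Subgroup ↥(Cfsg.isometryGroup F ⇑Q)) (hh : h ∈ L)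
    (hy : n * rootV fr x0 w hw 1 ∈ L) :
    n ∈ L ∧ ∀ t, rootV fr x0 w hw t ∈ L := by
  have key := Cfsg.Agent.Lib.Helper8.Chev.two_gen_trick (K := F)
    (x := fun t => rootV fr x0 w hw t)
    (x' := fun t => n * rootV fr x0 w hw t * n⁻¹) (h := h) (c := n) (α := μ) (μ := μ)
    (fun t s => rootV_mul fr x0 w hw t s)
    (fun t s => by
      show n * rootV fr x0 w hw t * n⁻¹ * (n * rootV fr x0 w hw s * n⁻¹) =
        n * rootV fr x0 w hw (t + s) * n⁻¹
      rw [← rootV_mul]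
      group)
    (fun t => rfl)
    (fun t => by
      show h * rootV fr x0 w hw t * h⁻¹ = rootV fr x0 w hw (μ * t)
      rw [conj_rootV fr h hhx0 hhw hw hw, mul_one])
    (fun t => by
      show h * (n * rootV fr x0 w hw t * n⁻¹) * h⁻¹ = n * rootV fr x0 w hw (μ * t) * n⁻¹
      rw [conj_rootV fr n hnx hnw hw hw', conj_rootV fr n hnx hnw hw hw',
        conj_rootV fr h hhx1 hhw' hw' hw']
      congr 1
      ring)
    hcomm hμ hμ hgen L hh hy
  exact ⟨key.1, key.2.1⟩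

/-- the closure theorem for a transitive monomial element and a full "short" root subgroup -/
theorem Omega_le_of_cox [Fintype F] [Fintype X] (hQ : (polarBilin Q).Nondegenerate)
    (h5 : 5 ≤ Fintype.card ι) {L : Subgroup ↥(Cfsg.isometryGroup F ⇑Q)}
    {n : ↥(Cfsg.isometryGroup F ⇑Q)} (hn : n ∈ L)
    {π : Equiv.Perm X} {ε : X → F}
    (hmono : ∀ x, gact Q n (fr.b x) = ε x • fr.b (π x))
    (x0 : X) (hind : ∀ P : X → Prop, P x0 → (∀ x, P x → P (π x)) → ∀ x, P x)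
    (hW0 : ∀ w, w ∈ Wperp fr → w ∈ S fr L x0)
    (w1 w2 : ι → F) (hw1 : w1 ∈ Wperp fr) (hw2 : w2 ∈ Wperp fr)
    (hw12 : polar (⇑Q) w1 w2 = 1)
    (hX : ∀ x : X, ∃ z, z ≠ x ∧ z ≠ fr.st x)
    (hcomp : ∀ u : ι → F, Q u = 0 → u ≠ 0 → ∃ x, polar (⇑Q) (fr.b x) u ≠ 0) :
    Cfsg.Omega F ⇑Q ≤ L :=
  Omega_le_of_full hQ h5 (full_of_cox hn hmono x0 hind hW0 w1 w2 hw1 hw2 hw12) hX hcomp x0

end general

end Cfsg.Agent.Lib.Helper1.TG
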