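import Mathlib
import Cfsg.Agent.Lib.Helper1.TG8
import Cfsg.Agent.Lib.Helper1.TGB1
import Cfsg.Agent.Lib.Helper1.OBN6

/-!
# The standard frame of the odd dimensional form, the embedding of the isometries of the
hyperbolic part
-/

set_option autoImplicit false
set_option linter.unusedSectionVars false
set_option linter.unusedVariables false
set_option linter.unusedSimpArgs false

namespace Cfsg.Agent.Lib.Helper1.TG

open Matrix Cfsg.Agent.Lib.Helper6 Cfsg.Agent.Lib.Helper15 QuadraticMap
  Cfsg.Agent.Lib.Helper14.SpBN Cfsg.Agent.Lib.Helper1.OBN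

variable {n : ℕ} {F : Type*} [Field F]

/-- the standard frame of the odd dimensional form -/
noncomputable def oddFrame (F : Type*) [Field F] (n : ℕ) : HFrame (QO n F) (Idx n) where
  b x := Pi.single (Sum.inr x) 1
  st := Sum.swap
  st_st := Sum.swap_swap
  sing x := by
    rcases x with i | i
    · exact QO_single_e i
    · exact QO_single_f i
  pol x y := by
    rcases y with j | j
    · rw [polar_single_e, Pi.single_apply]
      by_cases h : Sum.inl j = x.swap
      · rw [if_pos h, if_pos]
        rw [← Sum.swap_swap x, ← h]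
        rfl
      · rw [if_neg h, if_neg]
        intro h'
        apply h
        have := Sum.inr_injective h'
        rw [← this]
        rfl
    · rw [polar_single_f, Pi.single_apply]
      by_cases h : Sum.inr j = x.swap
      · rw [if_pos h, if_pos]
        rw [← Sum.swap_swap x, ← h]
        rfl
      · rw [if_neg h, if_neg]
        intro h'
        apply h
        have := Sum.inr_injective h'
        rw [← this]
        rfl

@[simp] theorem oddFrame_b (x : Idx n) : (oddFrame F n).b x = Pi.single (Sum.inr x) 1 := rfl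

@[simp] theorem oddFrame_st (x : Idx n) : (oddFrame F n).st x = x.swap := rfl

/-- the anisotropic vector -/
abbrev w0 (F : Type*) [Field F] (n : ℕ) : OIdx n → F := Pi.single (Sum.inl ()) 1

theorem w0_inl (u : Unit) : w0 F n (Sum.inl u) = 1 := by
  show (Pi.single (Sum.inl ()) 1 : OIdx n → F) (Sum.inl u) = 1
  rw [Subsingleton.elim u (), Pi.single_eq_same]

theorem w0_inr (y : Idx n) : w0 F n (Sum.inr y) = 0 :=
  Pi.single_eq_of_ne (by simp) _

theorem polar_frame_left (x : Idx n) (v : OIdx n → F) :
    polar (⇑(QO n F)) ((oddFrame F n).b x) v = v (Sum.inr x.swap) := by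
  rw [polar_comm, oddFrame_b]
  rcases x with i | i
  · exact polar_single_e v i
  · exact polar_single_f v i

theorem w0_mem_Wperp (c : F) : c • w0 F n ∈ Wperp (oddFrame F n) := by
  intro z
  rw [polar_frame_left, Pi.smul_apply, w0_inr, smul_zero]

theorem polar_w0_w0 : polar (⇑(QO n F)) (w0 F n) (w0 F n) = 2 := by
  rw [polar_single_x0, w0_inl, mul_one]

theorem oddFrame_Wperp (w : OIdx n → F) (hw : w ∈ Wperp (oddFrame F n)) :
    w = w (Sum.inl ()) • w0 F n := by
  funext y
  rcases y with u | y
  · rw [Pi.smul_apply, w0_inl, smul_eq_mul, mul_one]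
  · have := hw y.swap
    rw [polar_frame_left, Sum.swap_swap] at this
    rw [this, Pi.smul_apply, w0_inr, smul_zero]

theorem oddFrame_complete (u : OIdx n → F) (hQ : QO n F u = 0) (hu : u ≠ 0) :
    ∃ x, polar (⇑(QO n F)) ((oddFrame F n).b x) u ≠ 0 := by
  by_contra hcon
  have hW : u ∈ Wperp (oddFrame F n) := by
    intro z
    by_contra hz
    exact hcon ⟨z, hz⟩
  have h1 := oddFrame_Wperp u hW
  rw [h1, QuadraticMap.map_smul, QO_single_x0, smul_eq_mul, mul_one] at hQ
  have h2 : u (Sum.inl ()) = 0 := by
    rcases mul_eq_zero.mp hQ with h | h <;> exact h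
  apply hu
  rw [h1, h2, zero_smul]

/-- the embedding of the isometries of the hyperbolic part -/
noncomputable def embIso (F : Type*) [Field F] (n : ℕ) :
    ↥(Cfsg.isometryGroup F ⇑(QPlus F (n + 1))) →* OG n F where
  toFun g := mkIso (QO n F) (emb ((g.1 : GL (Idx n) F) : Matrix (Idx n) (Idx n) F))
    (emb ((g⁻¹.1 : GL (Idx n) F) : Matrix (Idx n) (Idx n) F))
    (by
      rw [← emb_mul, ← Units.val_mul, ← Subgroup.coe_mul, mul_inv_cancel]
      exact emb_one)
    (by
      rw [← emb_mul, ← Units.val_mul, ← Subgroup.coe_mul, inv_mul_cancel]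
      exact emb_one)
    (QO_emb _ (fun w => by
      have := Q_gact (QPlus F (n + 1)) g w
      rw [QPlus_apply, QPlus_apply] at this
      exact this))
  map_one' := by
    apply Subtype.ext
    apply Units.ext
    exact emb_one
  map_mul' g g' := by
    apply Subtype.ext
    apply Units.ext
    show emb ((((g * g').1 : GL (Idx n) F)) : Matrix (Idx n) (Idx n) F) = emb _ * emb _
    rw [← emb_mul]
    rfl

/-- extension of a vector by zero -/
def liftV (v : Idx n → F) : OIdx n → F := Sum.elim (fun _ => 0) v

theorem single_inr_eq (x : Idx n) : (Pi.single (Sum.inr x) 1 : OIdx n → F) = liftV (Pi.single x 1) := by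
  funext y
  rcases y with u | y
  · simp [liftV]
  · simp only [liftV, Sum.elim_inr, Pi.single_apply, Sum.inr.injEq]

theorem liftV_smul (c : F) (v : Idx n → F) : liftV (c • v) = c • liftV v := by
  funext y
  rcases y with u | y
  · simp [liftV]
  · simp [liftV]

theorem gact_embIso_liftV (g : ↥(Cfsg.isometryGroup F ⇑(QPlus F (n + 1)))) (v : Idx n → F) :
    gact (QO n F) (embIso F n g) (liftV v) = liftV (gact (QPlus F (n + 1)) g v) := by
  funext y
  rcases y with u | y
  · show (emb _ *ᵥ liftV v) (Sum.inl u) = _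
    rw [emb_mulVec_x0]
    rfl
  · show (emb _ *ᵥ liftV v) (Sum.inr y) = _
    rw [emb_mulVec_inr]
    rfl

theorem gact_embIso_single {g : ↥(Cfsg.isometryGroup F ⇑(QPlus F (n + 1)))} {x y : Idx n} {c : F}
    (hg : gact (QPlus F (n + 1)) g (Pi.single x 1) = c • Pi.single y 1) :
    gact (QO n F) (embIso F n g) (Pi.single (Sum.inr x) 1) = c • Pi.single (Sum.inr y) 1 := by
  rw [single_inr_eq, gact_embIso_liftV, hg, liftV_smul, ← single_inr_eq]

theorem gact_embIso_w0 (g : ↥(Cfsg.isometryGroup F ⇑(QPlus F (n + 1)))) :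
    gact (QO n F) (embIso F n g) (w0 F n) = w0 F n := by
  funext y
  rcases y with u | y
  · show (emb _ *ᵥ w0 F n) (Sum.inl u) = _
    rw [emb_mulVec_x0]
  · show (emb _ *ᵥ w0 F n) (Sum.inr y) = _
    rw [emb_mulVec_inr]
    have : (fun y : Idx n => w0 F n (Sum.inr y)) = 0 := by
      funext z
      simp
    rw [this, Matrix.mulVec_zero]
    simp

end Cfsg.Agent.Lib.Helper1.TG
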