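import Mathlib
import Cfsg.Agent.Lib.Helper1.TG7
import Cfsg.Agent.Lib.Helper1.TGB2
import Cfsg.Agent.Lib.Helper1.OBN11

/-!
# A Coxeter element of `Ω_{2N+5}(q)`
-/

set_option autoImplicit false
set_option linter.unusedSectionVars false
set_option linter.unusedVariables false
set_option linter.unusedSimpArgs false

namespace Cfsg.Agent.Lib.Helper1.TG

open Matrix Cfsg.Agent.Lib.Helper14.MatBN Cfsg.Agent.Lib.Helper14.SpBN Cfsg.Agent.Lib.Helper6
  Cfsg.Agent.Lib.Helper14.TriMono Cfsg.Agent.Lib.Helper1.OBN Cfsg.Agent.Lib.Helper1.DBN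
  Cfsg.Agent.Lib.Helper15

variable {N : ℕ} {F : Type*} [Field F]

/-- the label permutation of the Coxeter element of type `B_{N+2}`:
`e_0 → e_1 → ⋯ → e_{N+1} → f_0 → f_1 → ⋯ → f_{N+1} → e_0` -/
def piCoxB (N : ℕ) : PIdx N → PIdx N
  | Sum.inl i => if h : i.val < N + 1 then Sum.inl ⟨i.val + 1, by omega⟩ else Sum.inr 0
  | Sum.inr i => if h : i.val < N + 1 then Sum.inr ⟨i.val + 1, by omega⟩ else Sum.inl 0

theorem piCoxB_inl (i : Fin (N + 1 + 1)) : piCoxB N (Sum.inl i) =
    if h : i.val < N + 1 then Sum.inl ⟨i.val + 1, by omega⟩ else Sum.inr 0 := rfl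

theorem piCoxB_inr (i : Fin (N + 1 + 1)) : piCoxB N (Sum.inr i) =
    if h : i.val < N + 1 then Sum.inr ⟨i.val + 1, by omega⟩ else Sum.inl 0 := rfl

/-- the cycle -/
def bSeq (N : ℕ) : ℕ → PIdx N
  | 0 => Sum.inl 0
  | k + 1 => piCoxB N (bSeq N k)

theorem bSeq_succ (k : ℕ) : bSeq N (k + 1) = piCoxB N (bSeq N k) := rfl

theorem bSeq_low (i : ℕ) (hi : i ≤ N + 1) : bSeq N i = Sum.inl ⟨i, by omega⟩ := by
  induction i with
  | zero => rfl
  | succ i ih =>
    rw [bSeq_succ, ih (by omega), piCoxB_inl]
    rw [dif_pos (by simp only; omega)]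

theorem bSeq_high (i : ℕ) (hi : i ≤ N + 1) : bSeq N (N + 2 + i) = Sum.inr ⟨i, by omega⟩ := by
  induction i with
  | zero =>
    show piCoxB N (bSeq N (N + 1)) = _
    rw [bSeq_low (N + 1) le_rfl, piCoxB_inl]
    rw [dif_neg (by simp)]
    rfl
  | succ i ih =>
    show piCoxB N (bSeq N (N + 2 + i)) = _
    rw [ih (by omega), piCoxB_inr]
    rw [dif_pos (by simp only; omega)]

theorem bSeq_surj (x : PIdx N) : ∃ k, x = bSeq N k := by
  rcases x with i | i
  · exact ⟨i.val, (bSeq_low i.val (by have := i.2; omega)).symm⟩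
  · exact ⟨N + 2 + i.val, (bSeq_high i.val (by have := i.2; omega)).symm⟩

theorem bSeq_period : bSeq N (N + 2 + (N + 1) + 1) = bSeq N 0 := by
  rw [bSeq_succ, bSeq_high (N + 1) le_rfl, piCoxB_inr]
  rw [dif_neg (by simp)]
  rfl

theorem piCoxB_surj : Function.Surjective (piCoxB N) := by
  intro x
  obtain ⟨k, rfl⟩ := bSeq_surj x
  rcases k with _ | k
  · exact ⟨_, bSeq_period⟩
  · exact ⟨bSeq N k, rfl⟩

/-- the label permutation as a permutation -/
noncomputable def piCoxBE (N : ℕ) : Equiv.Perm (PIdx N) :=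
  Equiv.ofBijective (piCoxB N) ⟨Finite.injective_iff_surjective.mpr piCoxB_surj, piCoxB_surj⟩

theorem piCoxBE_apply (x : PIdx N) : piCoxBE N x = piCoxB N x := rfl

theorem piCoxB_ind (P : PIdx N → Prop) (h0 : P (Sum.inl 0))
    (hs : ∀ x, P x → P (piCoxBE N x)) : ∀ x, P x := by
  intro x
  obtain ⟨k, rfl⟩ := bSeq_surj x
  induction k with
  | zero => exact h0
  | succ k ih => exact hs _ ih

/-- the label map on all indices -/
def sigB (N : ℕ) : OIdx (N + 1) → OIdx (N + 1) := Sum.map id (piCoxB N)

theorem sigB_surj : Function.Surjective (sigB N) := by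
  intro y
  rcases y with u | x
  · exact ⟨Sum.inl u, rfl⟩
  · obtain ⟨z, rfl⟩ := piCoxB_surj x
    exact ⟨Sum.inr z, rfl⟩

/-- the label map of a permutation isometry -/
def sigO (τ : Equiv.Perm (Fin (N + 1 + 1))) : OIdx (N + 1) → OIdx (N + 1) :=
  Sum.map id (Sum.map τ τ)

theorem gact_embPerm_single (τ : Equiv.Perm (Fin (N + 1 + 1))) (y : OIdx (N + 1)) :
    gact (QO (N + 1) F) (embIso F (N + 1) (permIso F (N + 1 + 1) τ)) (Pi.single y 1) =
      Pi.single (sigO τ y) 1 := by
  rcases y with u | x
  · have : (Pi.single (Sum.inl u) 1 : OIdx (N + 1) → F) = w0 F (N + 1) := by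
      rw [Subsingleton.elim u ()]
    rw [this, gact_embIso_w0]
    rfl
  · have h := gact_embIso_single (n := N + 1) (g := permIso F (N + 1 + 1) τ) (x := x)
      (y := Sum.map τ τ x) (c := 1) (by rw [gact_permIso_single, one_smul])
    rw [h, one_smul]
    rfl

/-- the label permutation in the case of a cycle of length `N + 1` -/
theorem coxA_B (x : PIdx N) :
    Sum.map (Fin.cycleRange (pre N)) (Fin.cycleRange (pre N))
      ((piS (Fin.last N) * piL (N + 1)) x) = piCoxB N x := by
  have hpl : pre N ≠ lst N := pre_ne_lst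
  rcases x with i | i
  · show Sum.map _ _ ((piS (Fin.last N) * piL (N + 1)) (Sum.inl i)) = piCoxB N (Sum.inl i)
    rw [Equiv.Perm.mul_apply, piL_inl, piCoxB_inl]
    by_cases h2 : i = lst N
    · rw [if_pos h2, piS_last_f, if_neg hpl.symm, if_pos rfl, Sum.map_inr, Fin.cycleRange_self,
        dif_neg (by rw [h2]; simp)]
    · rw [if_neg h2, piS_last_e]
      by_cases h1 : i = pre N
      · rw [if_pos h1, Sum.map_inl, Fin.cycleRange_of_gt (by rw [Fin.lt_def]; simp),
          dif_pos (by rw [h1]; simp)]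
        congr 1
        apply Fin.ext
        show (lst N).val = i.val + 1
        rw [h1]
        rfl
      · rw [if_neg h1, if_neg h2, Sum.map_inl]
        have hi : i.val < N := by
          have := i.2
          have := val_ne_of_ne h1
          have := val_ne_of_ne h2
          simp only [pre_val, lst_val] at *
          omega
        rw [dif_pos (by omega)]
        congr 1
        apply Fin.ext
        rw [cycleRange_val, if_pos (by simpa using hi)]
  · show Sum.map _ _ ((piS (Fin.last N) * piL (N + 1)) (Sum.inr i)) = piCoxB N (Sum.inr i)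
    rw [Equiv.Perm.mul_apply, piL_inr, piCoxB_inr]
    by_cases h2 : i = lst N
    · rw [if_pos h2, piS_last_e, if_neg hpl.symm, if_pos rfl, Sum.map_inl, Fin.cycleRange_self,
        dif_neg (by rw [h2]; simp)]
    · rw [if_neg h2, piS_last_f]
      by_cases h1 : i = pre N
      · rw [if_pos h1, Sum.map_inr, Fin.cycleRange_of_gt (by rw [Fin.lt_def]; simp),
          dif_pos (by rw [h1]; simp)]
        congr 1
        apply Fin.ext
        show (lst N).val = i.val + 1
        rw [h1]
        rfl
      · rw [if_neg h1, if_neg h2, Sum.map_inr]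
        have hi : i.val < N := by
          have := i.2
          have := val_ne_of_ne h1
          have := val_ne_of_ne h2
          simp only [pre_val, lst_val] at *
          omega
        rw [dif_pos (by omega)]
        congr 1
        apply Fin.ext
        rw [cycleRange_val, if_pos (by simpa using hi)]

/-- the label permutation in the case of a cycle of length `N + 2` -/
theorem coxB_B (x : PIdx N) :
    Sum.map (Fin.cycleRange (lst N)) (Fin.cycleRange (lst N)) (piL (N + 1) x) = piCoxB N x := by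
  rcases x with i | i
  · rw [piL_inl, piCoxB_inl]
    by_cases h2 : i = lst N
    · rw [if_pos h2, Sum.map_inr, Fin.cycleRange_self, dif_neg (by rw [h2]; simp)]
    · rw [if_neg h2, Sum.map_inl]
      have hi : i.val < N + 1 := by
        have := i.2
        have := val_ne_of_ne h2
        simp only [lst_val] at *
        omega
      rw [dif_pos hi]
      congr 1
      apply Fin.ext
      rw [cycleRange_val, if_pos (by simpa using hi)]
  · rw [piL_inr, piCoxB_inr]
    by_cases h2 : i = lst N
    · rw [if_pos h2, Sum.map_inl, Fin.cycleRange_self, dif_neg (by rw [h2]; simp)]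
    · rw [if_neg h2, Sum.map_inr]
      have hi : i.val < N + 1 := by
        have := i.2
        have := val_ne_of_ne h2
        simp only [lst_val] at *
        omega
      rw [dif_pos hi]
      congr 1
      apply Fin.ext
      rw [cycleRange_val, if_pos (by simpa using hi)]

theorem piKO_inr' (k : Fin (N + 1) ⊕ Unit) (x : PIdx N) :
    piKO k (Sum.inr x : OIdx (N + 1)) = Sum.inr (piK k x) := by
  unfold piKO
  rw [embP_inr]

section cox
variable [Fintype F] (h2 : (2 : F) ≠ 0) (p : ℕ) [Fact p.Prime] [CharP F p]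

include h2 in
theorem embPerm_mem_Omega (τ : Equiv.Perm (Fin (N + 1 + 1))) (k : ℕ) (hk : Odd k)
    (hτ : τ ^ k = 1) :
    embIso F (N + 1) (permIso F (N + 1 + 1) τ) ∈ Cfsg.Omega F ⇑(QO (N + 1) F) := by
  apply mem_Omega_of_pow_odd' (QO (N + 1) F) (nondegenerate_QOdd F h2 _) _ _ _ k hk
  · rw [← map_pow, ← map_pow, hτ, map_one, map_one]
  · simp only [Fintype.card_sum, Fintype.card_fin, Fintype.card_unit]; omega
  · right
    simp only [Fintype.card_sum, Fintype.card_fin, Fintype.card_unit]; omega

/-- the action of a monomial element of `Ω` followed by a permutation isometry -/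
theorem gact_embPerm_mul (τ : Equiv.Perm (Fin (N + 1 + 1))) (w : OmG (N + 1) F)
    {πw : Equiv.Perm (OIdx (N + 1))} (h : IsMono (matO (N + 1) F w) πw) (y : OIdx (N + 1)) :
    gact (QO (N + 1) F) (embIso F (N + 1) (permIso F (N + 1 + 1) τ) * w.1) (Pi.single y 1) =
      (matO (N + 1) F w (πw y) y) • Pi.single (sigO τ (πw y)) 1 := by
  rw [gact_mul]
  have : gact (QO (N + 1) F) w.1 (Pi.single y 1) =
      (matO (N + 1) F w (πw y) y) • Pi.single (πw y) 1 := oMono_mulVec_single h y
  rw [this, gact_smul, gact_embPerm_single]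

include h2 p in
/-- existence of a Coxeter element in `Ω` -/
theorem exists_coxB :
    ∃ n : OG (N + 1) F, n ∈ Cfsg.Omega F ⇑(QO (N + 1) F) ∧ ∃ ε : OIdx (N + 1) → F,
      ∀ y, gact (QO (N + 1) F) n (Pi.single y 1) = ε y • Pi.single (sigB N y) 1 := by
  rcases Nat.even_or_odd N with hev | hodd
  · -- cycle of odd length `N + 1`
    have hτ : (Fin.cycleRange (pre N)) ^ (N + 1) = 1 := by
      by_cases h0 : pre N = 0
      · rw [h0, Fin.cycleRange_zero, one_pow]
      · exact cycleRange_pow (pre N) h0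
    have hmem := embPerm_mem_Omega (N := N) (F := F) h2 _ (N + 1) (Even.add_one hev) hτ
    have hmono : IsMono (matO (N + 1) F (sKO h2 p (Sum.inl (Fin.last N)) * sKO h2 p (Sum.inr ())))
        (piKO (Sum.inl (Fin.last N)) * piKO (Sum.inr ())) := by
      rw [map_mul]
      exact (o_s_mono h2 p (Sum.inl (Fin.last N))).mul (o_s_mono h2 p (Sum.inr ()))
    refine ⟨embIso F (N + 1) (permIso F (N + 1 + 1) (Fin.cycleRange (pre N))) *
      (sKO h2 p (Sum.inl (Fin.last N)) * sKO h2 p (Sum.inr ())).1,
      mul_mem hmem (Subtype.property _),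
      fun y => matO (N + 1) F (sKO h2 p (Sum.inl (Fin.last N)) * sKO h2 p (Sum.inr ()))
        ((piKO (Sum.inl (Fin.last N)) * piKO (Sum.inr ()) : Equiv.Perm (OIdx (N + 1))) y) y, ?_⟩
    intro y
    rw [gact_embPerm_mul _ _ hmono]
    have e : sigO (Fin.cycleRange (pre N))
        ((piKO (Sum.inl (Fin.last N)) * piKO (Sum.inr ()) : Equiv.Perm (OIdx (N + 1))) y) =
        sigB N y := by
      rcases y with u | x
      · rw [Equiv.Perm.mul_apply, piKO_x0, piKO_x0]
        rfl
      · rw [Equiv.Perm.mul_apply, piKO_inr', piKO_inr']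
        show Sum.inr (Sum.map _ _ ((piS (Fin.last N) * piL (N + 1)) x)) = Sum.inr (piCoxB N x)
        rw [coxA_B]
    rw [e]
  · -- cycle of odd length `N + 2`
    have hτ : (Fin.cycleRange (lst N)) ^ (N + 1 + 1) = 1 := by
      have h0 : lst N ≠ 0 := by
        intro h
        have := congrArg Fin.val h
        simp only [lst_val, Fin.val_zero] at this
        omega
      exact cycleRange_pow (lst N) h0
    have hmem := embPerm_mem_Omega (N := N) (F := F) h2 _ (N + 1 + 1)
      (by
        obtain ⟨k, hk⟩ := hodd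
        exact ⟨k + 1, by omega⟩) hτ
    have hmono : IsMono (matO (N + 1) F (sKO h2 p (Sum.inr ()))) (piKO (Sum.inr ())) :=
      o_s_mono h2 p (Sum.inr ())
    refine ⟨embIso F (N + 1) (permIso F (N + 1 + 1) (Fin.cycleRange (lst N))) *
      (sKO h2 p (Sum.inr ())).1, mul_mem hmem (Subtype.property _),
      fun y => matO (N + 1) F (sKO h2 p (Sum.inr ())) (piKO (Sum.inr ()) y) y, ?_⟩
    intro y
    rw [gact_embPerm_mul _ _ hmono]
    have e : sigO (Fin.cycleRange (lst N)) (piKO (Sum.inr ()) y) = sigB N y := by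
      rcases y with u | x
      · rw [piKO_x0]
        rfl
      · rw [piKO_inr']
        show Sum.inr (Sum.map _ _ (piL (N + 1) x)) = Sum.inr (piCoxB N x)
        rw [coxB_B]
    rw [e]

end cox

end Cfsg.Agent.Lib.Helper1.TG
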