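import Mathlib
import Cfsg.Agent.Lib.Helper1.TG11
import Cfsg.Agent.Lib.Helper1.TG13
import Cfsg.Agent.Lib.Helper1.TGB3

/-!
# `PΩ_{2m+1}(q)`, `q` odd, `m ≥ 2`, is generated by two elements
-/

set_option autoImplicit false
set_option linter.unusedSectionVars false
set_option linter.unusedVariables false
set_option linter.unusedSimpArgs false

namespace Cfsg.Agent.Lib.Helper1.TG

open Matrix Cfsg.Agent.Lib.Helper14.SpBN Cfsg.Agent.Lib.Helper6
  Cfsg.Agent.Lib.Helper1.OBN Cfsg.Agent.Lib.Helper1.DBN Cfsg.Agent.Lib.Helper15 QuadraticMap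

variable {N : ℕ} {F : Type*} [Field F]

theorem fin_one_ne_zero : (1 : Fin (N + 1 + 1)) ≠ 0 := by
  intro h
  have := congrArg Fin.val h
  rw [Fin.val_one, Fin.val_zero] at this
  omega

theorem lamH_zero' (μ : Fˣ) : lamH N μ 0 = μ := by
  unfold lamH lam0
  rw [Equiv.symm_swap, Equiv.swap_apply_left, if_pos rfl, if_neg fin_one_ne_zero, mul_one]

theorem lamH_one' (μ : Fˣ) : lamH N μ 1 = μ := by
  unfold lamH lam0
  rw [Equiv.symm_swap, Equiv.swap_apply_right, if_pos rfl, if_neg fin_one_ne_zero, one_mul]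

/-- a diagonal isometry with balanced entries as a commutator times a square -/
theorem diagIso_comm_sq {m : ℕ} (τ : Equiv.Perm (Fin m)) (lam : Fin m → Fˣ) :
    diagIso F m (fun i => lam i * lam (τ.symm i)) =
      (diagIso F m lam * permIso F m τ * (diagIso F m lam)⁻¹ * (permIso F m τ)⁻¹) *
        ((permIso F m τ * diagIso F m lam * (permIso F m τ)⁻¹) *
          (permIso F m τ * diagIso F m lam * (permIso F m τ)⁻¹)) := by
  have h1 : (fun i => lam i * lam (τ.symm i)) = lam * (fun i => lam (τ.symm i)) := rfl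
  rw [h1, map_mul, ← permIso_conj_diagIso]
  group

/-- the torus element -/
noncomputable def hB (N : ℕ) (μ : Fˣ) : OG (N + 1) F :=
  embIso F (N + 1) (diagIso F (N + 1 + 1) (lamH N μ))

theorem hB_mem_Omega [Fintype F] (h2 : (2 : F) ≠ 0) (μ : Fˣ) :
    hB N μ ∈ Cfsg.Omega F ⇑(QO (N + 1) F) := by
  unfold hB
  have : lamH N μ = fun i => lam0 N μ i * lam0 N μ ((Equiv.swap (0 : Fin (N + 1 + 1)) 1).symm i) :=
    rfl
  rw [this, diagIso_comm_sq]
  simp only [map_mul, map_inv]
  apply mul_mem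
  · rw [← commutatorElement_def]
    exact Subgroup.commutator_mem_commutator (Subgroup.mem_top _) (Subgroup.mem_top _)
  · apply sq_mem_Omega' (QO (N + 1) F) (nondegenerate_QOdd F h2 _)
    · simp only [Fintype.card_sum, Fintype.card_fin, Fintype.card_unit]; omega
    · right
      simp only [Fintype.card_sum, Fintype.card_fin, Fintype.card_unit]; omega

theorem gact_hB_single (μ : Fˣ) (x : PIdx N) :
    gact (QO (N + 1) F) (hB N μ) (Pi.single (Sum.inr x) 1) =
      diagFun (lamH N μ) x • Pi.single (Sum.inr x) 1 :=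
  gact_embIso_single (gact_diagIso_single _ x)

theorem gact_hB_w0 (μ : Fˣ) : gact (QO (N + 1) F) (hB N μ) (w0 F (N + 1)) = w0 F (N + 1) :=
  gact_embIso_w0 _

theorem hB_diag (μ : Fˣ) (i : OIdx (N + 1)) :
    ∃ d : F, gact (QO (N + 1) F) (hB N μ) (Pi.single i 1) = d • Pi.single i 1 := by
  rcases i with u | x
  · refine ⟨1, ?_⟩
    have : (Pi.single (Sum.inl u) 1 : OIdx (N + 1) → F) = w0 F (N + 1) := by
      rw [Subsingleton.elim u ()]
    rw [this, gact_hB_w0, one_smul]
  · exact ⟨_, gact_hB_single μ x⟩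

theorem polar_frame_w0 (x : PIdx N) :
    polar (⇑(QO (N + 1) F)) ((oddFrame F (N + 1)).b x) (w0 F (N + 1)) = 0 := by
  rw [polar_frame_left, w0_inr]

theorem bSeq_one : bSeq N 1 = Sum.inl 1 := by
  rw [bSeq_low 1 (by omega)]
  congr 1

/-- the two generators generate `Ω` -/
theorem closure_B [Fintype F] (h2 : (2 : F) ≠ 0) (μ : Fˣ) (hμ : μ ≠ 1)
    (hgen : ∀ t : F, t ≠ 0 → ∃ j : ℕ, t = (μ : F) ^ j)
    {n : OG (N + 1) F} (hnΩ : n ∈ Cfsg.Omega F ⇑(QO (N + 1) F)) {ε : OIdx (N + 1) → F}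
    (hmono : ∀ y, gact (QO (N + 1) F) n (Pi.single y 1) = ε y • Pi.single (sigB N y) 1) :
    Subgroup.closure ({hB N μ,
      n * rootV (oddFrame F (N + 1)) (Sum.inl 0) (w0 F (N + 1)) (polar_frame_w0 _) 1} :
        Set (OG (N + 1) F)) = Cfsg.Omega F ⇑(QO (N + 1) F) := by
  set fr := oddFrame F (N + 1) with hfr
  set h := hB (F := F) N μ with hh
  set x1 := rootV fr (Sum.inl 0) (w0 F (N + 1)) (polar_frame_w0 _) 1 with hx1
  set L := Subgroup.closure ({h, n * x1} : Set (OG (N + 1) F)) with hL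
  have hhL : h ∈ L := Subgroup.subset_closure (by simp)
  have hbL : n * x1 ∈ L := Subgroup.subset_closure (by simp)
  have h5 : 5 ≤ Fintype.card (OIdx (N + 1)) := by
    simp only [Fintype.card_sum, Fintype.card_fin, Fintype.card_unit]
    omega
  have hQ := nondegenerate_QOdd F h2 (N + 1 + 1)
  have hc : h * (n * h * n⁻¹) = (n * h * n⁻¹) * h :=
    diag_commute (hB_diag μ) (conj_diag sigB_surj hmono (hB_diag μ))
  have hμ' : (μ : F) ≠ 1 := fun h => hμ (Units.ext h)
  have hmonoX : ∀ x : PIdx N, gact (QO (N + 1) F) n (fr.b x) =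
      ε (Sum.inr x) • fr.b (piCoxBE N x) := fun x => hmono (Sum.inr x)
  have hhx0 : gact (QO (N + 1) F) h (fr.b (Sum.inl 0)) = (μ : F) • fr.b (Sum.inl 0) := by
    rw [oddFrame_b, gact_hB_single]
    unfold diagFun
    rw [Sum.elim_inl, lamH_zero']
  have hhx1 : gact (QO (N + 1) F) h (fr.b (Sum.inl 1)) = (μ : F) • fr.b (Sum.inl 1) := by
    rw [oddFrame_b, gact_hB_single]
    unfold diagFun
    rw [Sum.elim_inl, lamH_one']
  have hhw : gact (QO (N + 1) F) h (w0 F (N + 1)) = (1 : F) • w0 F (N + 1) := by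
    rw [gact_hB_w0, one_smul]
  have hnx : gact (QO (N + 1) F) n (fr.b (Sum.inl 0)) = ε (Sum.inr (Sum.inl 0)) • fr.b (Sum.inl 1) := by
    have := hmonoX (Sum.inl 0)
    have e : piCoxBE N (Sum.inl 0) = Sum.inl 1 := bSeq_one
    rw [this, e]
  have hnw : gact (QO (N + 1) F) n (w0 F (N + 1)) = ε (Sum.inl ()) • w0 F (N + 1) :=
    hmono (Sum.inl ())
  obtain ⟨hnL, hxL⟩ := trick_gen fr (x0 := Sum.inl 0) (x1 := Sum.inl 1) (w := w0 F (N + 1))
    (w' := w0 F (N + 1)) (polar_frame_w0 _) (polar_frame_w0 _) hnx hnw hhx0 hhw hhx1 hhw hc hμ'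
    hgen L hhL hbL
  apply le_antisymm
  · rw [hL, Subgroup.closure_le]
    intro g hg
    rcases hg with rfl | rfl
    · exact hB_mem_Omega h2 μ
    · exact mul_mem hnΩ (rootV_mem_Omega fr hQ h5 _ _ _ _)
  · refine Omega_le_of_cox fr hQ h5 hnL hmonoX (Sum.inl 0) (piCoxB_ind) ?_
      ((1 : F) • w0 F (N + 1)) ((2 : F)⁻¹ • w0 F (N + 1)) (w0_mem_Wperp 1) (w0_mem_Wperp _) ?_ ?_
      (fun u hu hu0 => oddFrame_complete u hu hu0)
    · intro w hw
      rw [oddFrame_Wperp w hw]
      exact (rootV_mem_iff fr _ _ _ _).mp (hxL _)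
    · rw [polar_smul_left, polar_smul_right, polar_w0_w0, smul_eq_mul, smul_eq_mul, one_mul,
        inv_mul_cancel₀ h2]
    · intro x
      obtain ⟨j, hj⟩ := exists_ne (idx x)
      refine ⟨Sum.inl j, ?_, ?_⟩
      · rcases x with i | i
        · intro h
          apply hj
          exact Sum.inl_injective h
        · simp
      · rcases x with i | i
        · show Sum.inl j ≠ Sum.inr i
          simp
        · show Sum.inl j ≠ Sum.inl i
          intro h
          apply hj
          exact Sum.inl_injective h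

end Cfsg.Agent.Lib.Helper1.TG
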