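import Mathlib
import Cfsg.Agent.Lib.Helper1.TGB4

/-!
# `PΩ_{2m+1}(q)`, `q` odd, `m ≥ 2`, is generated by two elements: the statement
-/

set_option autoImplicit false
set_option linter.unusedSectionVars false
set_option linter.unusedVariables false

namespace Cfsg.Agent.Lib.Helper1.TG

open Matrix Cfsg.Agent.Lib.Helper6 Cfsg.Agent.Lib.Helper1.OBN QuadraticMap

variable {N : ℕ} {F : Type*} [Field F] [Fintype F]

theorem two_ne_zero_of_odd_card' (hF : Odd (Fintype.card F)) : (2 : F) ≠ 0 := by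
  intro h
  have hc : ringChar F = 2 := by
    have h1 : ringChar F ∣ 2 := ringChar.dvd (R := F) (by exact_mod_cast h)
    have : Fact (ringChar F).Prime := ⟨CharP.char_is_prime F (ringChar F)⟩
    exact (Nat.prime_dvd_prime_iff_eq (Fact.out) Nat.prime_two).mp h1
  have h3 := FiniteField.even_card_of_char_two hc
  rw [Nat.odd_iff] at hF
  omega

theorem two_gen_QO (hodd : Odd (Fintype.card F)) :
    ∃ a b : Cfsg.POmega F ⇑(QO (N + 1) F),
      Subgroup.closure ({a, b} : Set (Cfsg.POmega F ⇑(QO (N + 1) F))) = ⊤ := by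
  classical
  have h2 := two_ne_zero_of_odd_card' hodd
  obtain ⟨p, hp⟩ := CharP.exists F
  have := hp
  have : Fact p.Prime := ⟨CharP.char_is_prime F p⟩
  obtain ⟨n, hnΩ, ε, hmono⟩ := exists_coxB (N := N) (F := F) h2 p
  obtain ⟨μ, hμ⟩ := IsCyclic.exists_generator (α := Fˣ)
  have hgen : ∀ t : F, t ≠ 0 → ∃ j : ℕ, t = (μ : F) ^ j := by
    intro t ht
    have h1 : Units.mk0 t ht ∈ Subgroup.zpowers μ := hμ _
    rw [← mem_powers_iff_mem_zpowers] at h1
    obtain ⟨j, hj⟩ := h1
    refine ⟨j, ?_⟩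
    have := congrArg Units.val hj
    rw [Units.val_pow_eq_pow_val, Units.val_mk0] at this
    exact this.symm
  have hμ1 : μ ≠ 1 := by
    intro h1
    have hcard : Fintype.card Fˣ = Fintype.card F - 1 := Fintype.card_units F
    have hsub : ∀ x : Fˣ, x = 1 := by
      intro x
      obtain ⟨j, hj⟩ := Subgroup.mem_zpowers_iff.1 (hμ x)
      rw [← hj, h1, _root_.one_zpow]
    have h3 : Fintype.card Fˣ ≤ 1 := by
      rw [Fintype.card_le_one_iff]
      intro x y
      rw [hsub x, hsub y]
    have h4 := Fintype.one_lt_card (α := F)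
    have h5 : Fintype.card F ≠ 2 := by
      intro h
      rw [h] at hodd
      exact absurd hodd (by decide)
    omega
  exact two_gen_quot _ _ _ (closure_B h2 μ hμ1 hgen hnΩ hmono)

/-- the statement for the odd dimensional form -/
theorem two_gen_quadFormOdd (hodd : Odd (Fintype.card F)) :
    ∃ a b : Cfsg.POmega F (Cfsg.quadFormOdd (N + 1 + 1) F),
      Subgroup.closure ({a, b} : Set (Cfsg.POmega F (Cfsg.quadFormOdd (N + 1 + 1) F))) = ⊤ := by
  have h := two_gen_QO (N := N) (F := F) hodd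
  have hcoe : ⇑(QO (N + 1) F) = Cfsg.quadFormOdd (N + 1 + 1) F := funext (QOdd_apply F (N + 1 + 1))
  rw [hcoe] at h
  exact h

end Cfsg.Agent.Lib.Helper1.TG
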