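import Mathlib
import Cfsg.Agent.Lib.Helper1.TGB1

/-!
# The Weyl element `ρ_{e,w} ρ_{f,w/Q(w)} ρ_{e,w}` attached to a frame vector and an anisotropic vector
orthogonal to the frame
-/

set_option autoImplicit false
set_option linter.unusedSectionVars false
set_option linter.unusedVariables false
set_option linter.unusedSimpArgs false

namespace Cfsg.Agent.Lib.Helper1.TG

open Cfsg.Agent.Lib.Helper6 QuadraticMap Matrix

section general
variable {F : Type*} [Field F] {ι : Type} [Fintype ι] [DecidableEq ι]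
  {Q : QuadraticForm F (ι → F)} {X : Type} [DecidableEq X] (fr : HFrame Q X)

theorem HFrame.pol_self (x : X) : polar (⇑Q) (fr.b x) (fr.b x) = 0 := by
  rw [fr.pol, if_neg (fun h => fr.st_ne x h.symm)]

theorem polar_W_left {w : ι → F} (hw : w ∈ Wperp fr) (x : X) : polar (⇑Q) w (fr.b x) = 0 := by
  rw [polar_comm]
  exact hw x

theorem gact_rootV_self (x : X) (w : ι → F) (hw : w ∈ Wperp fr) (t : F) :
    gact Q (rootV fr x w (hw x) t) (fr.b x) = fr.b x := by
  unfold rootV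
  rw [gact_siegIso, polar_smul_left, polar_W_left fr hw, fr.pol_self]
  simp

theorem gact_rootV_st (x : X) (w : ι → F) (hw : w ∈ Wperp fr) (t : F) :
    gact Q (rootV fr x w (hw x) t) (fr.b (fr.st x)) =
      fr.b (fr.st x) + (-(t * t * Q w)) • fr.b x + (-t) • w := by
  unfold rootV
  rw [gact_siegIso, polar_smul_left, polar_W_left fr hw, fr.pol_st, Q_smul, smul_smul]
  simp

theorem gact_rootV_other (x y : X) (hyx : y ≠ x) (hyx' : y ≠ fr.st x) (w : ι → F)
    (hw : w ∈ Wperp fr) (t : F) :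
    gact Q (rootV fr x w (hw x) t) (fr.b y) = fr.b y := by
  unfold rootV
  rw [gact_siegIso, polar_smul_left, polar_W_left fr hw, fr.pol_ne hyx']
  simp

theorem gact_rootV_W (x : X) (w : ι → F) (hw : w ∈ Wperp fr) (t : F) (v : ι → F)
    (hv : v ∈ Wperp fr) :
    gact Q (rootV fr x w (hw x) t) v = v + (t * polar (⇑Q) w v) • fr.b x := by
  unfold rootV
  rw [gact_siegIso, polar_smul_left, hv x]
  simp

/-- the Weyl element -/
noncomputable def weylEl (x : X) (w : ι → F) (hw : w ∈ Wperp fr) : ↥(Cfsg.isometryGroup F ⇑Q) :=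
  rootV fr x w (hw x) 1 * rootV fr (fr.st x) w (hw (fr.st x)) (Q w)⁻¹ * rootV fr x w (hw x) 1

theorem weylEl_mem_Omega [Fintype F] (hQ : (polarBilin Q).Nondegenerate)
    (h5 : 5 ≤ Fintype.card ι) (x : X) (w : ι → F) (hw : w ∈ Wperp fr) :
    weylEl fr x w hw ∈ Cfsg.Omega F ⇑Q :=
  mul_mem (mul_mem (rootV_mem_Omega fr hQ h5 _ _ _ _) (rootV_mem_Omega fr hQ h5 _ _ _ _))
    (rootV_mem_Omega fr hQ h5 _ _ _ _)

theorem polar_W_self (w : ι → F) : polar (⇑Q) w w = 2 * Q w := by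
  rw [polar_self]
  simp

theorem gact_weylEl_x (x : X) (w : ι → F) (hw : w ∈ Wperp fr) (h0 : Q w ≠ 0) :
    gact Q (weylEl fr x w hw) (fr.b x) = (-(Q w)⁻¹) • fr.b (fr.st x) := by
  have hA_self := gact_rootV_self fr x w hw 1
  have hA_st := gact_rootV_st fr x w hw 1
  have hA_w := gact_rootV_W fr x w hw 1 w hw
  have hB_self := gact_rootV_self fr (fr.st x) w hw (Q w)⁻¹
  have hB_st := gact_rootV_st fr (fr.st x) w hw (Q w)⁻¹
  rw [fr.st_st] at hB_st
  have hB_w := gact_rootV_W fr (fr.st x) w hw (Q w)⁻¹ w hw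
  unfold weylEl
  simp only [gact_mul, gact_add, gact_smul, hA_self, hA_st, hA_w, hB_self, hB_st, hB_w,
    polar_W_self]
  ext i
  simp only [Pi.add_apply, Pi.smul_apply, smul_eq_mul, Pi.neg_apply]
  field_simp
  ring

theorem gact_weylEl_st (x : X) (w : ι → F) (hw : w ∈ Wperp fr) (h0 : Q w ≠ 0) :
    gact Q (weylEl fr x w hw) (fr.b (fr.st x)) = (-(Q w)) • fr.b x := by
  have hA_self := gact_rootV_self fr x w hw 1
  have hA_st := gact_rootV_st fr x w hw 1
  have hA_w := gact_rootV_W fr x w hw 1 w hw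
  have hB_self := gact_rootV_self fr (fr.st x) w hw (Q w)⁻¹
  have hB_st := gact_rootV_st fr (fr.st x) w hw (Q w)⁻¹
  rw [fr.st_st] at hB_st
  have hB_w := gact_rootV_W fr (fr.st x) w hw (Q w)⁻¹ w hw
  unfold weylEl
  simp only [gact_mul, gact_add, gact_smul, hA_self, hA_st, hA_w, hB_self, hB_st, hB_w,
    polar_W_self]
  ext i
  simp only [Pi.add_apply, Pi.smul_apply, smul_eq_mul, Pi.neg_apply]
  field_simp
  ring

theorem gact_weylEl_other (x y : X) (hyx : y ≠ x) (hyx' : y ≠ fr.st x) (w : ι → F)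
    (hw : w ∈ Wperp fr) :
    gact Q (weylEl fr x w hw) (fr.b y) = fr.b y := by
  have h1 : y ≠ fr.st (fr.st x) := by rw [fr.st_st]; exact hyx
  have hA := gact_rootV_other fr x y hyx hyx' w hw 1
  have hB := gact_rootV_other fr (fr.st x) y hyx' h1 w hw (Q w)⁻¹
  unfold weylEl
  simp only [gact_mul, hA, hB]

theorem gact_weylEl_W (x : X) (w : ι → F) (hw : w ∈ Wperp fr) (h0 : Q w ≠ 0) (v : ι → F)
    (hv : v ∈ Wperp fr) :
    gact Q (weylEl fr x w hw) v = v + (-(polar (⇑Q) w v / Q w)) • w := by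
  have hA_self := gact_rootV_self fr x w hw 1
  have hA_st := gact_rootV_st fr x w hw 1
  have hA_w := gact_rootV_W fr x w hw 1 w hw
  have hA_v := gact_rootV_W fr x w hw 1 v hv
  have hB_self := gact_rootV_self fr (fr.st x) w hw (Q w)⁻¹
  have hB_st := gact_rootV_st fr (fr.st x) w hw (Q w)⁻¹
  rw [fr.st_st] at hB_st
  have hB_w := gact_rootV_W fr (fr.st x) w hw (Q w)⁻¹ w hw
  have hB_v := gact_rootV_W fr (fr.st x) w hw (Q w)⁻¹ v hv
  unfold weylEl
  simp only [gact_mul, gact_add, gact_smul, hA_self, hA_st, hA_w, hA_v, hB_self, hB_st, hB_w,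
    hB_v, polar_W_self]
  ext i
  simp only [Pi.add_apply, Pi.smul_apply, smul_eq_mul, Pi.neg_apply]
  field_simp
  ring

theorem gact_weylEl_w (x : X) (w : ι → F) (hw : w ∈ Wperp fr) (h0 : Q w ≠ 0) :
    gact Q (weylEl fr x w hw) w = (-1 : F) • w := by
  rw [gact_weylEl_W fr x w hw h0 w hw, polar_W_self]
  ext i
  simp only [Pi.add_apply, Pi.smul_apply, smul_eq_mul, Pi.neg_apply]
  field_simp
  ring

end general

end Cfsg.Agent.Lib.Helper1.TG
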