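import Mathlib
import Cfsg.Agent.Lib.Helper1.TG8
import Cfsg.Agent.Lib.Helper1.TGM1
import Cfsg.Agent.Lib.Helper21.OrtM1

/-!
# The standard frame of the minus type form, the embedding of the isometries of the
hyperbolic part
-/

set_option autoImplicit false
set_option linter.unusedSectionVars false
set_option linter.unusedVariables false
set_option linter.unusedSimpArgs false

namespace Cfsg.Agent.Lib.Helper1.TG

open Matrix Cfsg.Agent.Lib.Helper6 Cfsg.Agent.Lib.Helper15 QuadraticMap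

variable {k : ℕ} {F : Type*} [Field F] {a b : F}

/-- indices of the minus type form -/
abbrev MI (k : ℕ) := (Fin k ⊕ Fin k) ⊕ Fin 2

theorem polarM_single (x : Fin k ⊕ Fin k) (v : MI k → F) :
    polar (⇑(QMinus F k a b)) (Pi.single (Sum.inl x) 1) v = v (Sum.inl x.swap) := by
  rw [polar_QMinus]
  rcases x with j | j
  · simp [Pi.single_apply, Finset.sum_ite_eq']
  · simp [Pi.single_apply, Finset.sum_ite_eq']

theorem QMinus_single (x : Fin k ⊕ Fin k) : QMinus F k a b (Pi.single (Sum.inl x) 1) = 0 := by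
  rw [QMinus_apply]
  unfold Cfsg.quadFormMinus
  rcases x with j | j
  · simp [Pi.single_apply]
  · simp [Pi.single_apply]

/-- the standard frame of the minus type form -/
noncomputable def minusFrame (F : Type*) [Field F] (k : ℕ) (a b : F) :
    HFrame (QMinus F k a b) (Fin k ⊕ Fin k) where
  b x := Pi.single (Sum.inl x) 1
  st := Sum.swap
  st_st := Sum.swap_swap
  sing := QMinus_single
  pol x y := by
    rw [polarM_single, Pi.single_apply]
    by_cases h : y = x.swap
    · rw [if_pos h, if_pos (by rw [h])]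
    · rw [if_neg h, if_neg (fun h' => h (Sum.inl_injective h').symm)]

@[simp] theorem minusFrame_b (x : Fin k ⊕ Fin k) :
    (minusFrame F k a b).b x = Pi.single (Sum.inl x) 1 := rfl

@[simp] theorem minusFrame_st (x : Fin k ⊕ Fin k) : (minusFrame F k a b).st x = x.swap := rfl

theorem polar_mframe_left (x : Fin k ⊕ Fin k) (v : MI k → F) :
    polar (⇑(QMinus F k a b)) ((minusFrame F k a b).b x) v = v (Sum.inl x.swap) :=
  polarM_single x v

/-- the basis of the anisotropic plane -/
abbrev zv (F : Type*) [Field F] (k : ℕ) (j : Fin 2) : MI k → F := Pi.single (Sum.inr j) 1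

theorem zv_inl (j : Fin 2) (x : Fin k ⊕ Fin k) : zv F k j (Sum.inl x) = 0 :=
  Pi.single_eq_of_ne (by simp) _

theorem zv_inr (j j' : Fin 2) : zv F k j (Sum.inr j') = if j' = j then 1 else 0 := by
  show (Pi.single (Sum.inr j) 1 : MI k → F) (Sum.inr j') = _
  rw [Pi.single_apply]
  simp only [Sum.inr.injEq]

theorem mem_Wperp_minus (w : MI k → F) :
    w ∈ Wperp (minusFrame F k a b) ↔ ∀ x, w (Sum.inl x) = 0 := by
  constructor
  · intro hw x
    have := hw x.swap
    rwa [polar_mframe_left, Sum.swap_swap] at this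
  · intro hw z
    rw [polar_mframe_left]
    exact hw _

theorem zcomb_mem_Wperp (α β : F) : α • zv F k 0 + β • zv F k 1 ∈ Wperp (minusFrame F k a b) := by
  rw [mem_Wperp_minus]
  intro x
  rw [Pi.add_apply, Pi.smul_apply, Pi.smul_apply, zv_inl, zv_inl]
  simp

theorem Wperp_minus_eq (w : MI k → F) (hw : w ∈ Wperp (minusFrame F k a b)) :
    w = w (Sum.inr 0) • zv F k 0 + w (Sum.inr 1) • zv F k 1 := by
  rw [mem_Wperp_minus] at hw
  funext y
  rcases y with x | j
  · rw [hw x, Pi.add_apply, Pi.smul_apply, Pi.smul_apply, zv_inl, zv_inl]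
    simp
  · rw [Pi.add_apply, Pi.smul_apply, Pi.smul_apply, zv_inr, zv_inr]
    fin_cases j <;> simp

theorem QMinus_zcomb (α β : F) :
    QMinus F k a b (α • zv F k 0 + β • zv F k 1) = α ^ 2 + a * α * β + b * β ^ 2 := by
  rw [QMinus_apply]
  unfold Cfsg.quadFormMinus
  simp [Pi.single_apply]

theorem polar_zcomb (α β γ δ : F) :
    polar (⇑(QMinus F k a b)) (α • zv F k 0 + β • zv F k 1) (γ • zv F k 0 + δ • zv F k 1) =
      2 * α * γ + a * (α * δ + β * γ) + 2 * b * β * δ := by
  rw [polar_QMinus]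
  simp [Pi.single_apply]

theorem minusFrame_complete
    (hab : ∀ z₁ z₂ : F, z₁ ^ 2 + a * z₁ * z₂ + b * z₂ ^ 2 = 0 → z₁ = 0 ∧ z₂ = 0)
    (u : MI k → F) (hQ : QMinus F k a b u = 0) (hu : u ≠ 0) :
    ∃ x, polar (⇑(QMinus F k a b)) ((minusFrame F k a b).b x) u ≠ 0 := by
  by_contra hcon
  have hW : u ∈ Wperp (minusFrame F k a b) := by
    intro z
    by_contra hz
    exact hcon ⟨z, hz⟩
  have h1 := Wperp_minus_eq u hW
  rw [h1, QMinus_zcomb] at hQ
  obtain ⟨h2, h3⟩ := hab _ _ hQ
  apply hu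
  rw [h1, h2, h3, zero_smul, zero_smul, add_zero]

/-- the embedding of the matrices of the hyperbolic part -/
def embM (M : Matrix (Fin k ⊕ Fin k) (Fin k ⊕ Fin k) F) : Matrix (MI k) (MI k) F :=
  fromBlocks M 0 0 (1 : Matrix (Fin 2) (Fin 2) F)

theorem embM_mul (M M' : Matrix (Fin k ⊕ Fin k) (Fin k ⊕ Fin k) F) :
    embM (M * M') = embM M * embM M' := by
  unfold embM
  rw [fromBlocks_multiply]
  simp

theorem embM_one : embM (1 : Matrix (Fin k ⊕ Fin k) (Fin k ⊕ Fin k) F) = 1 := fromBlocks_one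

theorem embM_mulVec_inl (M : Matrix (Fin k ⊕ Fin k) (Fin k ⊕ Fin k) F) (v : MI k → F)
    (x : Fin k ⊕ Fin k) : (embM M *ᵥ v) (Sum.inl x) = (M *ᵥ fun y => v (Sum.inl y)) x := by
  unfold embM
  rw [fromBlocks_mulVec]
  simp only [Sum.elim_inl, zero_mulVec, add_zero]
  rfl

theorem embM_mulVec_inr (M : Matrix (Fin k ⊕ Fin k) (Fin k ⊕ Fin k) F) (v : MI k → F)
    (j : Fin 2) : (embM M *ᵥ v) (Sum.inr j) = v (Sum.inr j) := by
  unfold embM
  rw [fromBlocks_mulVec]
  simp only [Sum.elim_inr, zero_mulVec, zero_add, one_mulVec, Function.comp]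

theorem quadFormMinus_split (v : MI k → F) :
    Cfsg.quadFormMinus k F a b v = Cfsg.quadFormPlus k F (fun y => v (Sum.inl y)) +
      (v (Sum.inr 0) ^ 2 + a * v (Sum.inr 0) * v (Sum.inr 1) + b * v (Sum.inr 1) ^ 2) := rfl

theorem QMinus_embM (M : Matrix (Fin k ⊕ Fin k) (Fin k ⊕ Fin k) F)
    (hM : ∀ w : Fin k ⊕ Fin k → F, Cfsg.quadFormPlus k F (M *ᵥ w) = Cfsg.quadFormPlus k F w)
    (v : MI k → F) : QMinus F k a b (embM M *ᵥ v) = QMinus F k a b v := by
  rw [QMinus_apply, QMinus_apply, quadFormMinus_split, quadFormMinus_split, embM_mulVec_inr,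
    embM_mulVec_inr]
  congr 1
  have : (fun y => (embM M *ᵥ v) (Sum.inl y)) = M *ᵥ fun y => v (Sum.inl y) := by
    funext x
    exact embM_mulVec_inl M v x
  rw [this, hM]

/-- the embedding of the isometries of the hyperbolic part -/
noncomputable def embIsoM (F : Type*) [Field F] (k : ℕ) (a b : F) :
    ↥(Cfsg.isometryGroup F ⇑(QPlus F k)) →* ↥(Cfsg.isometryGroup F ⇑(QMinus F k a b)) where
  toFun g := mkIso (QMinus F k a b)
    (embM ((g.1 : GL (Fin k ⊕ Fin k) F) : Matrix (Fin k ⊕ Fin k) (Fin k ⊕ Fin k) F))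
    (embM ((g⁻¹.1 : GL (Fin k ⊕ Fin k) F) : Matrix (Fin k ⊕ Fin k) (Fin k ⊕ Fin k) F))
    (by
      rw [← embM_mul, ← Units.val_mul, ← Subgroup.coe_mul, mul_inv_cancel]
      exact embM_one)
    (by
      rw [← embM_mul, ← Units.val_mul, ← Subgroup.coe_mul, inv_mul_cancel]
      exact embM_one)
    (QMinus_embM _ (fun w => by
      have := Q_gact (QPlus F k) g w
      rw [QPlus_apply, QPlus_apply] at this
      exact this))
  map_one' := by
    apply Subtype.ext
    apply Units.ext
    exact embM_one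
  map_mul' g g' := by
    apply Subtype.ext
    apply Units.ext
    show embM ((((g * g').1 : GL (Fin k ⊕ Fin k) F)) :
      Matrix (Fin k ⊕ Fin k) (Fin k ⊕ Fin k) F) = embM _ * embM _
    rw [← embM_mul]
    rfl

/-- extension of a vector by zero -/
def liftM (v : Fin k ⊕ Fin k → F) : MI k → F := Sum.elim v (fun _ => 0)

theorem single_inl_eq (x : Fin k ⊕ Fin k) :
    (Pi.single (Sum.inl x) 1 : MI k → F) = liftM (Pi.single x 1) := by
  funext y
  rcases y with y | j
  · simp only [liftM, Sum.elim_inl, Pi.single_apply, Sum.inl.injEq]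
  · simp [liftM]

theorem liftM_smul (c : F) (v : Fin k ⊕ Fin k → F) : liftM (c • v) = c • liftM v := by
  funext y
  rcases y with y | j
  · simp [liftM]
  · simp [liftM]

theorem gact_embIsoM_liftM (g : ↥(Cfsg.isometryGroup F ⇑(QPlus F k))) (v : Fin k ⊕ Fin k → F) :
    gact (QMinus F k a b) (embIsoM F k a b g) (liftM v) = liftM (gact (QPlus F k) g v) := by
  funext y
  rcases y with y | j
  · show (embM _ *ᵥ liftM v) (Sum.inl y) = _
    rw [embM_mulVec_inl]
    rfl
  · show (embM _ *ᵥ liftM v) (Sum.inr j) = _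
    rw [embM_mulVec_inr]
    rfl

theorem gact_embIsoM_single {g : ↥(Cfsg.isometryGroup F ⇑(QPlus F k))} {x y : Fin k ⊕ Fin k}
    {c : F} (hg : gact (QPlus F k) g (Pi.single x 1) = c • Pi.single y 1) :
    gact (QMinus F k a b) (embIsoM F k a b g) (Pi.single (Sum.inl x) 1) =
      c • Pi.single (Sum.inl y) 1 := by
  rw [single_inl_eq, gact_embIsoM_liftM, hg, liftM_smul, ← single_inl_eq]

/-- the embedded isometries fix the anisotropic plane pointwise -/
theorem gact_embIsoM_W (g : ↥(Cfsg.isometryGroup F ⇑(QPlus F k))) (w : MI k → F)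
    (hw : w ∈ Wperp (minusFrame F k a b)) :
    gact (QMinus F k a b) (embIsoM F k a b g) w = w := by
  rw [mem_Wperp_minus] at hw
  funext y
  rcases y with y | j
  · show (embM _ *ᵥ w) (Sum.inl y) = _
    rw [embM_mulVec_inl]
    have : (fun y : Fin k ⊕ Fin k => w (Sum.inl y)) = 0 := by
      funext z
      exact hw z
    rw [this, Matrix.mulVec_zero, hw y]
    rfl
  · show (embM _ *ᵥ w) (Sum.inr j) = _
    rw [embM_mulVec_inr]

end Cfsg.Agent.Lib.Helper1.TG
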