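import Mathlib
import Cfsg.Agent.Lib.Helper1.TG7
import Cfsg.Agent.Lib.Helper1.TGB3
import Cfsg.Agent.Lib.Helper1.TGM2

/-!
# A Coxeter element of `Ω⁻_{2N+6}(q)`
-/

set_option autoImplicit false
set_option linter.unusedSectionVars false
set_option linter.unusedVariables false
set_option linter.unusedSimpArgs false

namespace Cfsg.Agent.Lib.Helper1.TG

open Matrix Cfsg.Agent.Lib.Helper14.MatBN Cfsg.Agent.Lib.Helper14.SpBN Cfsg.Agent.Lib.Helper6
  Cfsg.Agent.Lib.Helper14.TriMono Cfsg.Agent.Lib.Helper1.DBN Cfsg.Agent.Lib.Helper15 QuadraticMap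

section general
variable {F : Type*} [Field F] {ι : Type} [Fintype ι] [DecidableEq ι]
  {Q : QuadraticForm F (ι → F)} {X : Type} [DecidableEq X] (fr : HFrame Q X)

theorem rootV_zero (x : X) (w : ι → F) (hw : polar (⇑Q) (fr.b x) w = 0) :
    rootV fr x w hw 0 = 1 := by
  have := rootV_mul fr x w hw 0 0
  rw [add_zero] at this
  exact mul_eq_left.mp this

theorem rootV_pow (x : X) (w : ι → F) (hw : polar (⇑Q) (fr.b x) w = 0) (t : F) (j : ℕ) :
    (rootV fr x w hw t) ^ j = rootV fr x w hw (j * t) := by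
  induction j with
  | zero => rw [pow_zero, Nat.cast_zero, zero_mul, rootV_zero]
  | succ j ih =>
    rw [pow_succ, ih, rootV_mul]
    congr 1
    push_cast
    ring

theorem rootV_pow_card [Fintype F] (x : X) (w : ι → F) (hw : polar (⇑Q) (fr.b x) w = 0) (t : F) :
    (rootV fr x w hw t) ^ (Fintype.card F) = 1 := by
  rw [rootV_pow, FiniteField.cast_card_eq_zero, zero_mul, rootV_zero]

/-- the Weyl element acts monomially on the frame -/
theorem gact_weylEl_frame (x0 : X) (w : ι → F) (hw : w ∈ Wperp fr) (h0 : Q w ≠ 0) (x : X) :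
    ∃ c : F, gact Q (weylEl fr x0 w hw) (fr.b x) = c • fr.b (Equiv.swap x0 (fr.st x0) x) := by
  by_cases h1 : x = x0
  · subst h1
    rw [Equiv.swap_apply_left]
    exact ⟨_, gact_weylEl_x fr x w hw h0⟩
  by_cases h2 : x = fr.st x0
  · subst h2
    rw [Equiv.swap_apply_right]
    exact ⟨_, gact_weylEl_st fr x0 w hw h0⟩
  · rw [Equiv.swap_apply_of_ne_of_ne h1 h2]
    exact ⟨1, by rw [gact_weylEl_other fr x0 x h1 h2 w hw, one_smul]⟩

end general

variable {N : ℕ} {F : Type*} [Field F] {a b : F}

/-- homomorphisms map the commutator subgroup into the commutator subgroup -/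
theorem map_mem_commutator {G H : Type*} [Group G] [Group H] (φ : G →* H) {g : G}
    (hg : g ∈ commutator G) : φ g ∈ commutator H := by
  have h1 : φ g ∈ (commutator G).map φ := Subgroup.mem_map_of_mem φ hg
  rw [commutator_def, Subgroup.map_commutator] at h1
  exact Subgroup.commutator_mono le_top le_top h1

section cox
variable [Fintype F] (p : ℕ) [Fact p.Prime] [CharP F p]

theorem embPermM_mem_Omega
    (hab : ∀ z₁ z₂ : F, z₁ ^ 2 + a * z₁ * z₂ + b * z₂ ^ 2 = 0 → z₁ = 0 ∧ z₂ = 0)
    (τ : Equiv.Perm (Fin (N + 1 + 1))) (j : ℕ) (hj : Odd j) (hτ : τ ^ j = 1) :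
    embIsoM F (N + 1 + 1) a b (permIso F (N + 1 + 1) τ) ∈
      Cfsg.Omega F ⇑(QMinus F (N + 1 + 1) a b) := by
  apply mem_Omega_of_pow_odd' (QMinus F (N + 1 + 1) a b)
    (Cfsg.Agent.Lib.Helper21.OrtM.nondegenerate_QMinus _ a b hab) _ _ _ j hj
  · rw [← map_pow, ← map_pow, hτ, map_one, map_one]
  · simp only [Fintype.card_sum, Fintype.card_fin]; omega
  · right
    simp only [Fintype.card_sum, Fintype.card_fin]; omega

include p in
/-- existence of the hyperbolic part of a Coxeter element -/
theorem exists_coxM (hN : 1 ≤ N)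
    (hab : ∀ z₁ z₂ : F, z₁ ^ 2 + a * z₁ * z₂ + b * z₂ ^ 2 = 0 → z₁ = 0 ∧ z₂ = 0) :
    ∃ P : DG N F, embIsoM F (N + 1 + 1) a b P ∈ Cfsg.Omega F ⇑(QMinus F (N + 1 + 1) a b) ∧
      ∃ (εP : PIdx N → F) (σP : PIdx N → PIdx N), Function.Surjective σP ∧
        (∀ x, gact (QD N F) P (Pi.single x 1) = εP x • Pi.single (σP x) 1) ∧
        ∀ x, σP (piL (N + 1) x) = piCoxB N x := by
  have hqm : Fintype.card F ≠ 2 ∨ N ≠ 0 := Or.inr (by omega)
  rcases Nat.even_or_odd N with hev | hodd
  · -- cycle of odd length `N + 1`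
    have hτ : (Fin.cycleRange (pre N)) ^ (N + 1) = 1 := by
      have h0 : pre N ≠ 0 := by
        intro h
        have := congrArg Fin.val h
        simp only [pre_val, Fin.val_zero] at this
        omega
      exact cycleRange_pow (pre N) h0
    have hmem := embPermM_mem_Omega (N := N) (F := F) (a := a) (b := b) hab _ (N + 1)
      (Even.add_one hev) hτ
    have hmono : IsMono (matD N F (dsS p hqm (Fin.last N))) (piS (Fin.last N)) :=
      d_s_mono p hqm (Sum.inl (Fin.last N))
    refine ⟨permIso F (N + 1 + 1) (Fin.cycleRange (pre N)) * (dsS p hqm (Fin.last N)).1, ?_,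
      fun x => matD N F (dsS p hqm (Fin.last N)) (piS (Fin.last N) x) x,
      fun x => Sum.map (Fin.cycleRange (pre N)) (Fin.cycleRange (pre N)) (piS (Fin.last N) x),
      ?_, ?_, ?_⟩
    · rw [map_mul]
      exact mul_mem hmem (map_mem_commutator _ (Subtype.property _))
    · intro y
      obtain ⟨z, hz⟩ : ∃ z, Sum.map (Fin.cycleRange (pre N)) (Fin.cycleRange (pre N)) z = y := by
        refine ⟨Sum.map (Fin.cycleRange (pre N)).symm (Fin.cycleRange (pre N)).symm y, ?_⟩
        rcases y with i | i <;> simp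
      exact ⟨(piS (Fin.last N)).symm z, by simp [hz]⟩
    · intro x
      exact gact_perm_mul _ _ hmono x
    · intro x
      have := coxA_B (N := N) x
      rw [Equiv.Perm.mul_apply] at this
      exact this
  · -- cycle of odd length `N + 2`
    have hτ : (Fin.cycleRange (lst N)) ^ (N + 1 + 1) = 1 := by
      have h0 : lst N ≠ 0 := by
        intro h
        have := congrArg Fin.val h
        simp only [lst_val, Fin.val_zero] at this
        omega
      exact cycleRange_pow (lst N) h0
    have hmem := embPermM_mem_Omega (N := N) (F := F) (a := a) (b := b) hab _ (N + 1 + 1)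
      (by
        obtain ⟨j, hj⟩ := hodd
        exact ⟨j + 1, by omega⟩) hτ
    refine ⟨permIso F (N + 1 + 1) (Fin.cycleRange (lst N)), hmem, fun _ => 1,
      fun x => Sum.map (Fin.cycleRange (lst N)) (Fin.cycleRange (lst N)) x, ?_, ?_, ?_⟩
    · intro y
      refine ⟨Sum.map (Fin.cycleRange (lst N)).symm (Fin.cycleRange (lst N)).symm y, ?_⟩
      rcases y with i | i <;> simp
    · intro x
      rw [gact_permIso_single, one_smul]
    · intro x
      exact coxB_B x

end cox

end Cfsg.Agent.Lib.Helper1.TG
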