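import Mathlib
import Cfsg.Agent.Lib.Helper1.TGB4
import Cfsg.Agent.Lib.Helper1.TGM3

/-!
# Two generators of `Ω⁻_{2N+6}(q)`
-/

set_option autoImplicit false
set_option linter.unusedSectionVars false
set_option linter.unusedVariables false
set_option linter.unusedSimpArgs false
set_option maxHeartbeats 1000000

namespace Cfsg.Agent.Lib.Helper1.TG

open Matrix Cfsg.Agent.Lib.Helper14.SpBN Cfsg.Agent.Lib.Helper6
  Cfsg.Agent.Lib.Helper1.DBN Cfsg.Agent.Lib.Helper15 QuadraticMap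

section general
variable {F : Type*} [Field F] {ι : Type} [Fintype ι] [DecidableEq ι]
  {Q : QuadraticForm F (ι → F)} {X : Type} [DecidableEq X] (fr : HFrame Q X)

/-- an isometry fixing `b x`, `b (st x)` and `w` commutes with the Weyl element -/
theorem conj_weylEl_fix (h : ↥(Cfsg.isometryGroup F ⇑Q)) (x : X) (w : ι → F)
    (hw : w ∈ Wperp fr) (h1 : gact Q h (fr.b x) = (1 : F) • fr.b x)
    (h2 : gact Q h (fr.b (fr.st x)) = (1 : F) • fr.b (fr.st x))
    (h3 : gact Q h w = (1 : F) • w) :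
    h * weylEl fr x w hw * h⁻¹ = weylEl fr x w hw := by
  have eA := conj_rootV fr h h1 h3 (hw x) (hw x) 1
  have eB := conj_rootV fr h h2 h3 (hw (fr.st x)) (hw (fr.st x)) (Q w)⁻¹
  rw [one_mul, one_mul] at eA eB
  unfold weylEl
  calc h * (rootV fr x w (hw x) 1 * rootV fr (fr.st x) w (hw (fr.st x)) (Q w)⁻¹ *
        rootV fr x w (hw x) 1) * h⁻¹
      = (h * rootV fr x w (hw x) 1 * h⁻¹) *
        (h * rootV fr (fr.st x) w (hw (fr.st x)) (Q w)⁻¹ * h⁻¹) *
        (h * rootV fr x w (hw x) 1 * h⁻¹) := by group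
    _ = _ := by rw [eA, eB]

theorem eps_ne_zero {n : ↥(Cfsg.isometryGroup F ⇑Q)} {π : X → X} {ε : X → F}
    (hmono : ∀ x, gact Q n (fr.b x) = ε x • fr.b (π x)) (x : X) : ε x ≠ 0 := by
  intro hx
  have := hmono x
  rw [hx, zero_smul] at this
  exact fr.b_ne_zero x ((gact_eq_zero_iff Q n _).mp this)

end general

variable {N : ℕ} {F : Type*} [Field F] {a b : F}

theorem zv_mem_Wperp (j : Fin 2) :
    zv F (N + 1 + 1) j ∈ Wperp (minusFrame F (N + 1 + 1) a b) := by
  rw [mem_Wperp_minus]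
  intro x
  exact zv_inl j x

theorem polar_frame_zv (x : PIdx N) (j : Fin 2) :
    polar (⇑(QMinus F (N + 1 + 1) a b)) ((minusFrame F (N + 1 + 1) a b).b x)
      (zv F (N + 1 + 1) j) = 0 := zv_mem_Wperp j x

theorem QMinus_zv0 : QMinus F (N + 1 + 1) a b (zv F (N + 1 + 1) 0) = 1 := by
  rw [QMinus_apply]
  unfold Cfsg.quadFormMinus
  simp [Pi.single_apply]

theorem polar_zv0_zv1 :
    polar (⇑(QMinus F (N + 1 + 1) a b)) (zv F (N + 1 + 1) 0) (zv F (N + 1 + 1) 1) = a := by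
  rw [polar_QMinus]
  simp [Pi.single_apply]

theorem polar_zv0_zv0 :
    polar (⇑(QMinus F (N + 1 + 1) a b)) (zv F (N + 1 + 1) 0) (zv F (N + 1 + 1) 0) = 2 := by
  rw [polar_QMinus]
  simp [Pi.single_apply]

theorem piCoxB_last : piCoxBE N (Sum.inr (lst N)) = Sum.inl 0 := by
  rw [piCoxBE_apply, piCoxB_inr, dif_neg (by simp)]

/-- the torus element -/
noncomputable def hM (N : ℕ) (a b : F) (μ : Fˣ) :
    ↥(Cfsg.isometryGroup F ⇑(QMinus F (N + 1 + 1) a b)) :=
  embIsoM F (N + 1 + 1) a b (diagIso F (N + 1 + 1) (lamH N μ))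

theorem hM_mem_Omega [Fintype F]
    (hab : ∀ z₁ z₂ : F, z₁ ^ 2 + a * z₁ * z₂ + b * z₂ ^ 2 = 0 → z₁ = 0 ∧ z₂ = 0) (μ : Fˣ) :
    hM N a b μ ∈ Cfsg.Omega F ⇑(QMinus F (N + 1 + 1) a b) := by
  unfold hM
  have : lamH N μ = fun i => lam0 N μ i * lam0 N μ ((Equiv.swap (0 : Fin (N + 1 + 1)) 1).symm i) :=
    rfl
  rw [this, diagIso_comm_sq]
  simp only [map_mul, map_inv]
  apply mul_mem
  · rw [← commutatorElement_def]
    exact Subgroup.commutator_mem_commutator (Subgroup.mem_top _) (Subgroup.mem_top _)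
  · apply sq_mem_Omega' (QMinus F (N + 1 + 1) a b)
      (Cfsg.Agent.Lib.Helper21.OrtM.nondegenerate_QMinus _ a b hab)
    · simp only [Fintype.card_sum, Fintype.card_fin]; omega
    · right
      simp only [Fintype.card_sum, Fintype.card_fin]; omega

theorem gact_hM_frame (μ : Fˣ) (x : PIdx N) :
    gact (QMinus F (N + 1 + 1) a b) (hM N a b μ) ((minusFrame F (N + 1 + 1) a b).b x) =
      diagFun (lamH N μ) x • (minusFrame F (N + 1 + 1) a b).b x :=
  gact_embIsoM_single (gact_diagIso_single _ x)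

theorem gact_hM_W (μ : Fˣ) (w : MI (N + 1 + 1) → F)
    (hw : w ∈ Wperp (minusFrame F (N + 1 + 1) a b)) :
    gact (QMinus F (N + 1 + 1) a b) (hM N a b μ) w = w :=
  gact_embIsoM_W _ w hw

theorem hM_pow_card [Fintype F] (μ : Fˣ) : (hM N a b μ) ^ (Fintype.card F - 1) = 1 := by
  unfold hM
  rw [← map_pow, diagIso_pow_card, map_one]

theorem two_ne_zero_of_aniso [Fintype F]
    (hab : ∀ z₁ z₂ : F, z₁ ^ 2 + a * z₁ * z₂ + b * z₂ ^ 2 = 0 → z₁ = 0 ∧ z₂ = 0) (ha : a = 0) :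
    (2 : F) ≠ 0 := by
  intro h2
  have hc : ringChar F = 2 := by
    have h1 : ringChar F ∣ 2 := ringChar.dvd (R := F) (by exact_mod_cast h2)
    have : Fact (ringChar F).Prime := ⟨CharP.char_is_prime F (ringChar F)⟩
    exact (Nat.prime_dvd_prime_iff_eq (Fact.out) Nat.prime_two).mp h1
  obtain ⟨c, hc'⟩ := FiniteField.isSquare_of_char_two hc b
  have := (hab c 1 (by
    rw [ha, hc']
    have : c ^ 2 + 0 * c * 1 + c * c * 1 ^ 2 = 2 * (c * c) := by ring
    rw [this, h2, zero_mul])).2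
  exact one_ne_zero this

/-- the two generators generate `Ω` -/
theorem closure_M [Fintype F] (hN : 1 ≤ N)
    (hab : ∀ z₁ z₂ : F, z₁ ^ 2 + a * z₁ * z₂ + b * z₂ ^ 2 = 0 → z₁ = 0 ∧ z₂ = 0)
    (μ : Fˣ) (hμ : μ ≠ 1) (hgen : ∀ t : F, t ≠ 0 → ∃ j : ℕ, t = (μ : F) ^ j)
    {P : DG N F}
    (hPΩ : embIsoM F (N + 1 + 1) a b P ∈ Cfsg.Omega F ⇑(QMinus F (N + 1 + 1) a b))
    {εP : PIdx N → F} {σP : PIdx N → PIdx N} (hσ : Function.Surjective σP)
    (hP : ∀ x, gact (QD N F) P (Pi.single x 1) = εP x • Pi.single (σP x) 1)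
    (hPL : ∀ x, σP (piL (N + 1) x) = piCoxB N x) :
    Subgroup.closure ({hM N a b μ *
        rootV (minusFrame F (N + 1 + 1) a b) (Sum.inr (lst N)) (zv F (N + 1 + 1) 1)
          (polar_frame_zv _ 1) 1,
      (embIsoM F (N + 1 + 1) a b P *
        weylEl (minusFrame F (N + 1 + 1) a b) (Sum.inl (lst N)) (zv F (N + 1 + 1) 0)
          (zv_mem_Wperp 0)) *
        rootV (minusFrame F (N + 1 + 1) a b) (Sum.inl 0) (zv F (N + 1 + 1) 0)
          (polar_frame_zv _ 0) 1} :
        Set ↥(Cfsg.isometryGroup F ⇑(QMinus F (N + 1 + 1) a b))) =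
      Cfsg.Omega F ⇑(QMinus F (N + 1 + 1) a b) := by
  set fr := minusFrame F (N + 1 + 1) a b with hfr
  have hz0 : zv F (N + 1 + 1) 0 ∈ Wperp fr := zv_mem_Wperp 0
  have hz1 : zv F (N + 1 + 1) 1 ∈ Wperp fr := zv_mem_Wperp 1
  have hQ0 : QMinus F (N + 1 + 1) a b (zv F (N + 1 + 1) 0) = 1 := QMinus_zv0
  have hQ0' : QMinus F (N + 1 + 1) a b (zv F (N + 1 + 1) 0) ≠ 0 := by
    rw [hQ0]; exact one_ne_zero
  set h := hM (F := F) N a b μ with hh
  set nw := weylEl fr (Sum.inl (lst N)) (zv F (N + 1 + 1) 0) (zv_mem_Wperp 0) with hnw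
  set EP := embIsoM F (N + 1 + 1) a b P with hEP
  set u := rootV fr (Sum.inr (lst N)) (zv F (N + 1 + 1) 1) (polar_frame_zv _ 1) 1 with hu
  set x1 := rootV fr (Sum.inl 0) (zv F (N + 1 + 1) 0) (polar_frame_zv _ 0) 1 with hx1
  set L := Subgroup.closure ({h * u, EP * nw * x1} :
    Set ↥(Cfsg.isometryGroup F ⇑(QMinus F (N + 1 + 1) a b))) with hL
  have haL : h * u ∈ L := Subgroup.subset_closure (by simp)
  have hbL : EP * nw * x1 ∈ L := Subgroup.subset_closure (by simp)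
  have h5 : 5 ≤ Fintype.card (MI (N + 1 + 1)) := by
    simp only [Fintype.card_sum, Fintype.card_fin]
    omega
  have hQ := Cfsg.Agent.Lib.Helper21.OrtM.nondegenerate_QMinus (N + 1 + 1) a b hab
  have hμ' : (μ : F) ≠ 1 := fun h => hμ (Units.ext h)
  -- the action of the torus
  have hhx0 : gact (QMinus F (N + 1 + 1) a b) h (fr.b (Sum.inl 0)) = (μ : F) • fr.b (Sum.inl 0) := by
    rw [gact_hM_frame]
    unfold diagFun
    rw [Sum.elim_inl, lamH_zero']
  have hhx1 : gact (QMinus F (N + 1 + 1) a b) h (fr.b (Sum.inl 1)) = (μ : F) • fr.b (Sum.inl 1) := by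
    rw [gact_hM_frame]
    unfold diagFun
    rw [Sum.elim_inl, lamH_one']
  have hhl : gact (QMinus F (N + 1 + 1) a b) h (fr.b (Sum.inl (lst N))) =
      (1 : F) • fr.b (Sum.inl (lst N)) := by
    rw [gact_hM_frame]
    unfold diagFun
    rw [Sum.elim_inl, lamH_big μ _ (by rw [Fin.val_last]; omega), Units.val_one]
  have hhl' : gact (QMinus F (N + 1 + 1) a b) h (fr.b (Sum.inr (lst N))) =
      (1 : F) • fr.b (Sum.inr (lst N)) := by
    rw [gact_hM_frame]
    unfold diagFun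
    rw [Sum.elim_inr, lamH_big μ _ (by rw [Fin.val_last]; omega), inv_one, Units.val_one]
  have hhW : ∀ w, w ∈ Wperp fr → gact (QMinus F (N + 1 + 1) a b) h w = (1 : F) • w := by
    intro w hw
    rw [gact_hM_W μ w hw, one_smul]
  -- `h` and `u` commute
  have hconj : h * u * h⁻¹ = u := by
    have := conj_rootV fr h hhl' (hhW _ hz1) (polar_frame_zv _ 1) (polar_frame_zv _ 1) 1
    rw [mul_one, mul_one] at this
    exact this
  have hcommu : Commute h u := by
    show h * u = u * h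
    calc h * u = (h * u * h⁻¹) * h := by group
      _ = u * h := by rw [hconj]
  have hq : Fintype.card F - 1 + 1 = Fintype.card F := by
    have := Fintype.card_pos (α := F)
    omega
  have huL : u ∈ L := by
    have h1 : (h * u) ^ (Fintype.card F - 1) = u ^ (Fintype.card F - 1) := by
      rw [hcommu.mul_pow, hM_pow_card, one_mul]
    have h2 : u ^ (Fintype.card F - 1) * u = 1 := by
      rw [← pow_succ, hq]
      exact rootV_pow_card fr _ _ _ _
    have h3 : u = ((h * u) ^ (Fintype.card F - 1))⁻¹ := by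
      rw [h1]
      exact (inv_eq_of_mul_eq_one_right h2).symm
    rw [h3]
    exact inv_mem (pow_mem haL _)
  have hhL : h ∈ L := by
    have : h = h * u * u⁻¹ := by group
    rw [this]
    exact mul_mem haL (inv_mem huL)
  -- the monomial action of `n = EP * nw`
  have hmonoX : ∀ x : PIdx N, ∃ c : F,
      gact (QMinus F (N + 1 + 1) a b) (EP * nw) (fr.b x) = c • fr.b (piCoxBE N x) := by
    intro x
    obtain ⟨c, hc⟩ := gact_weylEl_frame fr (Sum.inl (lst N)) (zv F (N + 1 + 1) 0)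
      (zv_mem_Wperp 0) hQ0' x
    have e : Equiv.swap (Sum.inl (lst N)) (fr.st (Sum.inl (lst N))) x = piL (N + 1) x := rfl
    rw [e] at hc
    refine ⟨c * εP (piL (N + 1) x), ?_⟩
    rw [gact_mul, hc, gact_smul]
    have := gact_embIsoM_single (a := a) (b := b) (hP (piL (N + 1) x))
    rw [hPL] at this
    show c • gact (QMinus F (N + 1 + 1) a b) EP (Pi.single (Sum.inl (piL (N + 1) x)) 1) = _
    rw [this, smul_smul]
    rfl
  choose ε hε using hmonoX
  have hnw0 : gact (QMinus F (N + 1 + 1) a b) (EP * nw) (zv F (N + 1 + 1) 0) =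
      (-1 : F) • zv F (N + 1 + 1) 0 := by
    rw [gact_mul, gact_weylEl_w fr _ _ _ hQ0', gact_smul, gact_embIsoM_W _ _ hz0]
  -- `h` commutes with its conjugate
  have hnwh : nw * h * nw⁻¹ = h := by
    have this : h * nw * h⁻¹ = nw :=
      conj_weylEl_fix fr h (Sum.inl (lst N)) (zv F (N + 1 + 1) 0) (zv_mem_Wperp 0) hhl hhl'
        (hhW _ hz0)
    calc nw * h * nw⁻¹ = (h * nw * h⁻¹) * h * nw⁻¹ := by rw [this]
      _ = h := by group
  have hdiag0 : ∀ i : DIdx N, ∃ d : F, gact (QD N F) (diagIso F (N + 1 + 1) (lamH N μ))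
      (Pi.single i 1) = d • Pi.single i 1 := fun i => ⟨_, gact_diagIso_single _ i⟩
  have hc0 := diag_commute hdiag0 (conj_diag hσ hP hdiag0)
  have hc : h * ((EP * nw) * h * (EP * nw)⁻¹) = ((EP * nw) * h * (EP * nw)⁻¹) * h := by
    have e1 : (EP * nw) * h * (EP * nw)⁻¹ = EP * (nw * h * nw⁻¹) * EP⁻¹ := by group
    have e2 : EP * h * EP⁻¹ = embIsoM F (N + 1 + 1) a b
        (P * diagIso F (N + 1 + 1) (lamH N μ) * P⁻¹) := by
      rw [map_mul, map_mul, map_inv]
      rfl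
    rw [e1, hnwh, e2]
    show embIsoM F (N + 1 + 1) a b (diagIso F (N + 1 + 1) (lamH N μ)) * _ =
      _ * embIsoM F (N + 1 + 1) a b (diagIso F (N + 1 + 1) (lamH N μ))
    rw [← map_mul, ← map_mul, hc0]
  -- the trick
  have hnx : gact (QMinus F (N + 1 + 1) a b) (EP * nw) (fr.b (Sum.inl 0)) =
      ε (Sum.inl 0) • fr.b (Sum.inl 1) := by
    have e : piCoxBE N (Sum.inl 0) = Sum.inl 1 := bSeq_one
    rw [hε, e]
  obtain ⟨hnL, hxL⟩ := trick_gen fr (x0 := Sum.inl 0) (x1 := Sum.inl 1)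
    (w := zv F (N + 1 + 1) 0) (w' := zv F (N + 1 + 1) 0) (polar_frame_zv _ 0) (polar_frame_zv _ 0)
    hnx hnw0 hhx0 (hhW _ hz0) hhx1 (hhW _ hz0) hc hμ' hgen L hhL hbL
  -- the Siegel parameters at `e_0`
  have hS0 : ∀ t : F, t • zv F (N + 1 + 1) 0 ∈ S fr L (Sum.inl 0) :=
    fun t => (rootV_mem_iff fr _ _ _ t).mp (hxL t)
  have hscale : ∀ v, v ∈ Wperp fr → v ∈ S fr L (Sum.inl 0) → ∀ t : F, t • v ∈ S fr L (Sum.inl 0) := by
    intro v hvW hv t
    by_cases ht : t = 0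
    · rw [ht, zero_smul]
      exact (S fr L _).zero_mem
    · obtain ⟨j, rfl⟩ := hgen t ht
      clear ht
      induction j with
      | zero => rw [pow_zero, one_smul]; exact hv
      | succ j ih =>
        have := conj_mem_S hhL hhx0 ih
        rw [gact_smul, hhW v hvW, one_smul, smul_smul, ← pow_succ'] at this
        exact this
  have hε0 := eps_ne_zero fr hε (Sum.inr (lst N))
  have hS1 : ∀ β : F, β • zv F (N + 1 + 1) 1 ∈ S fr L (Sum.inl 0) := by
    have hu1 : (1 : F) • zv F (N + 1 + 1) 1 ∈ S fr L (Sum.inr (lst N)) :=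
      (rootV_mem_iff fr _ _ _ 1).mp huL
    have h2 := conj_mem_S hnL (hε (Sum.inr (lst N))) hu1
    rw [piCoxB_last, one_smul, gact_mul, gact_weylEl_W fr _ _ _ hQ0' _ hz1, hQ0, polar_zv0_zv1,
      div_one] at h2
    have e1 : zv F (N + 1 + 1) 1 + (-a) • zv F (N + 1 + 1) 0 =
        (-a) • zv F (N + 1 + 1) 0 + (1 : F) • zv F (N + 1 + 1) 1 := by
      rw [one_smul]
      exact add_comm _ _
    rw [e1, gact_embIsoM_W _ _ (zcomb_mem_Wperp _ _), smul_add, smul_smul, one_smul] at h2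
    have h3 := (S fr L (Sum.inl 0)).sub_mem h2 (hS0 (ε (Sum.inr (lst N)) * -a))
    rw [add_sub_cancel_left] at h3
    intro β
    have h4 := hscale _ (by
      have := zcomb_mem_Wperp (k := N + 1 + 1) (F := F) (a := a) (b := b) 0 (ε (Sum.inr (lst N)))
      rwa [zero_smul, zero_add] at this) h3 (β / ε (Sum.inr (lst N)))
    rwa [smul_smul, div_mul_cancel₀ _ hε0] at h4
  have hW0 : ∀ w, w ∈ Wperp fr → w ∈ S fr L (Sum.inl 0) := by
    intro w hw
    rw [Wperp_minus_eq w hw]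
    exact (S fr L _).add_mem (hS0 _) (hS1 _)
  apply le_antisymm
  · rw [hL, Subgroup.closure_le]
    intro g hg
    rcases hg with rfl | rfl
    · exact mul_mem (hM_mem_Omega hab μ) (rootV_mem_Omega fr hQ h5 _ _ _ _)
    · exact mul_mem (mul_mem hPΩ (weylEl_mem_Omega fr hQ h5 _ _ _))
        (rootV_mem_Omega fr hQ h5 _ _ _ _)
  · have hX : ∀ x : PIdx N, ∃ z, z ≠ x ∧ z ≠ fr.st x := by
      intro x
      obtain ⟨j, hj⟩ := exists_ne (idx x)
      refine ⟨Sum.inl j, ?_, ?_⟩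
      · rcases x with i | i
        · intro h
          apply hj
          exact Sum.inl_injective h
        · simp
      · rcases x with i | i
        · show Sum.inl j ≠ Sum.inr i
          simp
        · show Sum.inl j ≠ Sum.inl i
          intro h
          apply hj
          exact Sum.inl_injective h
    by_cases ha : a = 0
    · have h2 := two_ne_zero_of_aniso hab ha
      refine Omega_le_of_cox fr hQ h5 hnL hε (Sum.inl 0) (piCoxB_ind) hW0
        (zv F (N + 1 + 1) 0) ((2 : F)⁻¹ • zv F (N + 1 + 1) 0) hz0 ?_ ?_ hX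
        (fun u hu hu0 => minusFrame_complete hab u hu hu0)
      · have := zcomb_mem_Wperp (k := N + 1 + 1) (F := F) (a := a) (b := b) (2 : F)⁻¹ 0
        rwa [zero_smul, add_zero] at this
      · rw [polar_smul_right, polar_zv0_zv0, smul_eq_mul, inv_mul_cancel₀ h2]
    · refine Omega_le_of_cox fr hQ h5 hnL hε (Sum.inl 0) (piCoxB_ind) hW0
        (zv F (N + 1 + 1) 0) (a⁻¹ • zv F (N + 1 + 1) 1) hz0 ?_ ?_ hX
        (fun u hu hu0 => minusFrame_complete hab u hu hu0)
      · have := zcomb_mem_Wperp (k := N + 1 + 1) (F := F) (a := a) (b := b) 0 a⁻¹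
        rwa [zero_smul, zero_add] at this
      · rw [polar_smul_right, polar_zv0_zv1, smul_eq_mul, inv_mul_cancel₀ ha]

end Cfsg.Agent.Lib.Helper1.TG
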