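import Mathlib
import Cfsg.Agent.Lib.Helper1.TG12
import Cfsg.Agent.Lib.Helper1.TGM4

/-!
# Two generators of `Ω⁻_{2N+6}(2)`
-/

set_option autoImplicit false
set_option linter.unusedSectionVars false
set_option linter.unusedVariables false
set_option linter.unusedSimpArgs false
set_option maxHeartbeats 1000000

namespace Cfsg.Agent.Lib.Helper1.TG

open Matrix Cfsg.Agent.Lib.Helper14.SpBN Cfsg.Agent.Lib.Helper6
  Cfsg.Agent.Lib.Helper1.DBN Cfsg.Agent.Lib.Helper15 QuadraticMap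

variable {N : ℕ} {F : Type*} [Field F] {a b : F}

theorem bSeq_add_period (j : ℕ) : bSeq N (j + (N + 2 + (N + 1) + 1)) = bSeq N j := by
  induction j with
  | zero =>
    rw [zero_add]
    exact bSeq_period
  | succ j ih =>
    have : j + 1 + (N + 2 + (N + 1) + 1) = (j + (N + 2 + (N + 1) + 1)) + 1 := by ring
    rw [this, bSeq_succ, ih, bSeq_succ]

/-- the induction principle starting at an arbitrary point of the cycle -/
theorem piCoxB_ind_from (k : ℕ) (P : PIdx N → Prop) (h0 : P (bSeq N k))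
    (hs : ∀ x, P x → P (piCoxBE N x)) : ∀ x, P x := by
  have h1 : ∀ j, P (bSeq N (k + j)) := by
    intro j
    induction j with
    | zero => exact h0
    | succ j ih => exact hs _ ih
  have h2 : ∀ i j, bSeq N (j + i * (N + 2 + (N + 1) + 1)) = bSeq N j := by
    intro i
    induction i with
    | zero => intro j; rw [zero_mul, add_zero]
    | succ i ih =>
      intro j
      have : j + (i + 1) * (N + 2 + (N + 1) + 1) =
          (j + i * (N + 2 + (N + 1) + 1)) + (N + 2 + (N + 1) + 1) := by ring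
      rw [this, bSeq_add_period, ih]
  intro x
  obtain ⟨j, rfl⟩ := bSeq_surj x
  rw [← h2 k j]
  have : j + k * (N + 2 + (N + 1) + 1) = k + (j + k * (N + 2 + (N + 1))) := by ring
  rw [this]
  exact h1 _

theorem bSeq_two (hN : 1 ≤ N) : bSeq N 2 = Sum.inl ⟨2, by omega⟩ := bSeq_low 2 (by omega)

theorem one_ne_two'' (hN : 1 ≤ N) : (1 : Fin (N + 2)) ≠ ⟨2, by omega⟩ := by
  intro h
  have := congrArg Fin.val h
  rw [Fin.val_one] at this
  simp at this

/-- the element of order three -/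
noncomputable def ttEl' (hN : 1 ≤ N) : DG N F := shtD 1 ⟨2, by omega⟩ (one_ne_two'' hN) (mtt F)

theorem ttEl'_pow (hN : 1 ≤ N) (h2 : (2 : F) = 0) : (ttEl' hN : DG N F) ^ 3 = 1 := by
  unfold ttEl'
  rw [← map_pow, mtt_pow h2, map_one]

theorem ttEl'_e0 (hN : 1 ≤ N) :
    gact (QD N F) (ttEl' hN) (Pi.single (Sum.inl 0) 1) = (1 : F) • Pi.single (Sum.inl 0) 1 := by
  rw [one_smul]
  apply gact_shtD_e_of_ne
  · intro h
    have := congrArg Fin.val h
    rw [Fin.val_one, Fin.val_zero] at this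
    omega
  · intro h
    have := congrArg Fin.val h
    rw [Fin.val_zero] at this
    simp at this

theorem ttEl'_e1 (hN : 1 ≤ N) :
    gact (QD N F) (ttEl' hN) (Pi.single (Sum.inl 1) 1) =
      (1 : F) • Pi.single (Sum.inl ⟨2, by omega⟩) 1 := by
  rw [one_smul]
  apply gact_shtD_e_left
  · rfl
  · rfl

/-- the common final step -/
theorem Omega_le_M [Fintype F]
    (hab : ∀ z₁ z₂ : F, z₁ ^ 2 + a * z₁ * z₂ + b * z₂ ^ 2 = 0 → z₁ = 0 ∧ z₂ = 0)
    {L : Subgroup ↥(Cfsg.isometryGroup F ⇑(QMinus F (N + 1 + 1) a b))}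
    {n : ↥(Cfsg.isometryGroup F ⇑(QMinus F (N + 1 + 1) a b))} (hnL : n ∈ L) {ε : PIdx N → F}
    (hε : ∀ x, gact (QMinus F (N + 1 + 1) a b) n ((minusFrame F (N + 1 + 1) a b).b x) =
      ε x • (minusFrame F (N + 1 + 1) a b).b (piCoxBE N x))
    (k : ℕ)
    (hW0 : ∀ w, w ∈ Wperp (minusFrame F (N + 1 + 1) a b) →
      w ∈ S (minusFrame F (N + 1 + 1) a b) L (bSeq N k)) :
    Cfsg.Omega F ⇑(QMinus F (N + 1 + 1) a b) ≤ L := by
  set fr := minusFrame F (N + 1 + 1) a b with hfr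
  have hz0 : zv F (N + 1 + 1) 0 ∈ Wperp fr := zv_mem_Wperp 0
  have h5 : 5 ≤ Fintype.card (MI (N + 1 + 1)) := by
    simp only [Fintype.card_sum, Fintype.card_fin]
    omega
  have hQ := Cfsg.Agent.Lib.Helper21.OrtM.nondegenerate_QMinus (N + 1 + 1) a b hab
  have hX : ∀ x : PIdx N, ∃ z, z ≠ x ∧ z ≠ fr.st x := by
    intro x
    obtain ⟨j, hj⟩ := exists_ne (idx x)
    refine ⟨Sum.inl j, ?_, ?_⟩
    · rcases x with i | i
      · intro h
        apply hj
        exact Sum.inl_injective h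
      · simp
    · rcases x with i | i
      · show Sum.inl j ≠ Sum.inr i
        simp
      · show Sum.inl j ≠ Sum.inl i
        intro h
        apply hj
        exact Sum.inl_injective h
  by_cases ha : a = 0
  · have h2 := two_ne_zero_of_aniso hab ha
    refine Omega_le_of_cox fr hQ h5 hnL hε (bSeq N k) (piCoxB_ind_from k) hW0
      (zv F (N + 1 + 1) 0) ((2 : F)⁻¹ • zv F (N + 1 + 1) 0) hz0 ?_ ?_ hX
      (fun u hu hu0 => minusFrame_complete hab u hu hu0)
    · have := zcomb_mem_Wperp (k := N + 1 + 1) (F := F) (a := a) (b := b) (2 : F)⁻¹ 0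
      rwa [zero_smul, add_zero] at this
    · rw [polar_smul_right, polar_zv0_zv0, smul_eq_mul, inv_mul_cancel₀ h2]
  · refine Omega_le_of_cox fr hQ h5 hnL hε (bSeq N k) (piCoxB_ind_from k) hW0
      (zv F (N + 1 + 1) 0) (a⁻¹ • zv F (N + 1 + 1) 1) hz0 ?_ ?_ hX
      (fun u hu hu0 => minusFrame_complete hab u hu hu0)
    · have := zcomb_mem_Wperp (k := N + 1 + 1) (F := F) (a := a) (b := b) 0 a⁻¹
      rwa [zero_smul, zero_add] at this
    · rw [polar_smul_right, polar_zv0_zv1, smul_eq_mul, inv_mul_cancel₀ ha]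

theorem QMinus_zv1 : QMinus F (N + 1 + 1) a b (zv F (N + 1 + 1) 1) = b := by
  rw [QMinus_apply]
  unfold Cfsg.quadFormMinus
  simp [Pi.single_apply]

theorem polar_zv1_zv1 :
    polar (⇑(QMinus F (N + 1 + 1) a b)) (zv F (N + 1 + 1) 1) (zv F (N + 1 + 1) 1) = 2 * b := by
  rw [polar_QMinus]
  simp [Pi.single_apply]

/-- the two generators generate `Ω`, field with two elements -/
theorem closure_M2 [Fintype F] (hF : Fintype.card F = 2) (hN : 1 ≤ N)
    (hab : ∀ z₁ z₂ : F, z₁ ^ 2 + a * z₁ * z₂ + b * z₂ ^ 2 = 0 → z₁ = 0 ∧ z₂ = 0)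
    {P : DG N F}
    (hPΩ : embIsoM F (N + 1 + 1) a b P ∈ Cfsg.Omega F ⇑(QMinus F (N + 1 + 1) a b))
    {εP : PIdx N → F} {σP : PIdx N → PIdx N} (hσ : Function.Surjective σP)
    (hP : ∀ x, gact (QD N F) P (Pi.single x 1) = εP x • Pi.single (σP x) 1)
    (hPL : ∀ x, σP (piL (N + 1) x) = piCoxB N x) :
    Subgroup.closure ({
      rootV (minusFrame F (N + 1 + 1) a b) (Sum.inl 0) (zv F (N + 1 + 1) 0)
          (polar_frame_zv _ 0) 1 * embIsoM F (N + 1 + 1) a b (ttEl' hN),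
      embIsoM F (N + 1 + 1) a b P *
        weylEl (minusFrame F (N + 1 + 1) a b) (Sum.inl (lst N)) (zv F (N + 1 + 1) 1)
          (zv_mem_Wperp 1)} :
        Set ↥(Cfsg.isometryGroup F ⇑(QMinus F (N + 1 + 1) a b))) =
      Cfsg.Omega F ⇑(QMinus F (N + 1 + 1) a b) := by
  have h2 : (2 : F) = 0 := by
    have := FiniteField.cast_card_eq_zero F
    rw [hF] at this
    exact_mod_cast this
  have h01 : ∀ t : F, t = 0 ∨ t = 1 := by
    intro t
    have := FiniteField.pow_card t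
    rw [hF] at this
    have h : t * (t - 1) = 0 := by
      rw [mul_sub, mul_one, ← pow_two, this, sub_self]
    rcases mul_eq_zero.mp h with h | h
    · exact Or.inl h
    · exact Or.inr (sub_eq_zero.mp h)
  have hone : ∀ t : F, t ≠ 0 → t = 1 := fun t ht => (h01 t).resolve_left ht
  have hneg : (-1 : F) = 1 := by
    have : (1 : F) + 1 = 0 := by rw [one_add_one_eq_two, h2]
    exact neg_eq_of_add_eq_zero_left this
  have ha : a = 1 := by
    apply hone
    intro ha
    exact two_ne_zero_of_aniso hab ha h2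
  have hb : b = 1 := by
    apply hone
    intro hb
    have := (hab 0 1 (by rw [hb]; ring)).2
    exact one_ne_zero this
  set fr := minusFrame F (N + 1 + 1) a b with hfr
  have hz0 : zv F (N + 1 + 1) 0 ∈ Wperp fr := zv_mem_Wperp 0
  have hz1 : zv F (N + 1 + 1) 1 ∈ Wperp fr := zv_mem_Wperp 1
  have hQ1 : QMinus F (N + 1 + 1) a b (zv F (N + 1 + 1) 1) = 1 := by rw [QMinus_zv1, hb]
  have hQ1' : QMinus F (N + 1 + 1) a b (zv F (N + 1 + 1) 1) ≠ 0 := by
    rw [hQ1]; exact one_ne_zero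
  set ρ := rootV fr (Sum.inl 0) (zv F (N + 1 + 1) 0) (polar_frame_zv _ 0) 1 with hρ
  set tt := embIsoM F (N + 1 + 1) a b (ttEl' hN) with htt
  set nw := weylEl fr (Sum.inl (lst N)) (zv F (N + 1 + 1) 1) (zv_mem_Wperp 1) with hnw
  set EP := embIsoM F (N + 1 + 1) a b P with hEP
  set L := Subgroup.closure ({ρ * tt, EP * nw} :
    Set ↥(Cfsg.isometryGroup F ⇑(QMinus F (N + 1 + 1) a b))) with hL
  have haL : ρ * tt ∈ L := Subgroup.subset_closure (by simp)
  have hnL : EP * nw ∈ L := Subgroup.subset_closure (by simp)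
  have h5 : 5 ≤ Fintype.card (MI (N + 1 + 1)) := by
    simp only [Fintype.card_sum, Fintype.card_fin]
    omega
  have hQ := Cfsg.Agent.Lib.Helper21.OrtM.nondegenerate_QMinus (N + 1 + 1) a b hab
  -- the action of `tt`
  have htt0 : gact (QMinus F (N + 1 + 1) a b) tt (fr.b (Sum.inl 0)) = (1 : F) • fr.b (Sum.inl 0) :=
    gact_embIsoM_single (ttEl'_e0 hN)
  have htt1 : gact (QMinus F (N + 1 + 1) a b) tt (fr.b (Sum.inl 1)) =
      (1 : F) • fr.b (Sum.inl ⟨2, by omega⟩) :=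
    gact_embIsoM_single (ttEl'_e1 hN)
  have httW : ∀ w, w ∈ Wperp fr → gact (QMinus F (N + 1 + 1) a b) tt w = (1 : F) • w := by
    intro w hw
    rw [gact_embIsoM_W _ w hw, one_smul]
  have hconj : tt * ρ * tt⁻¹ = ρ := by
    have := conj_rootV fr tt htt0 (httW _ hz0) (polar_frame_zv _ 0) (polar_frame_zv _ 0) 1
    rw [mul_one, mul_one] at this
    exact this
  have hcomm : Commute ρ tt := by
    show ρ * tt = tt * ρ
    calc ρ * tt = (tt * ρ * tt⁻¹) * tt := by rw [hconj]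
      _ = tt * ρ := by group
  have hρ2 : ρ ^ 2 = 1 := by
    have := rootV_pow_card fr (Sum.inl 0) (zv F (N + 1 + 1) 0) (polar_frame_zv _ 0) (1 : F)
    rw [hF] at this
    exact this
  have htt3 : tt ^ 3 = 1 := by
    rw [htt, ← map_pow, ttEl'_pow hN h2, map_one]
  have hρL : ρ ∈ L := by
    have : (ρ * tt) ^ 3 = ρ := by
      rw [hcomm.mul_pow, htt3, mul_one, pow_succ, hρ2, one_mul]
    rw [← this]
    exact pow_mem haL _
  have httL : tt ∈ L := by
    have : tt = ρ⁻¹ * (ρ * tt) := by group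
    rw [this]
    exact mul_mem (inv_mem hρL) haL
  -- the monomial action of `n = EP * nw`
  have hmonoX : ∀ x : PIdx N, ∃ c : F,
      gact (QMinus F (N + 1 + 1) a b) (EP * nw) (fr.b x) = c • fr.b (piCoxBE N x) := by
    intro x
    obtain ⟨c, hc⟩ := gact_weylEl_frame fr (Sum.inl (lst N)) (zv F (N + 1 + 1) 1)
      (zv_mem_Wperp 1) hQ1' x
    have e : Equiv.swap (Sum.inl (lst N)) (fr.st (Sum.inl (lst N))) x = piL (N + 1) x := rfl
    rw [e] at hc
    refine ⟨c * εP (piL (N + 1) x), ?_⟩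
    rw [gact_mul, hc, gact_smul]
    have := gact_embIsoM_single (a := a) (b := b) (hP (piL (N + 1) x))
    rw [hPL] at this
    show c • gact (QMinus F (N + 1 + 1) a b) EP (Pi.single (Sum.inl (piL (N + 1) x)) 1) = _
    rw [this, smul_smul]
    rfl
  choose ε hε using hmonoX
  have hε1 : ∀ x, ε x = 1 := fun x => hone _ (eps_ne_zero fr hε x)
  -- the action of `n` on the anisotropic plane
  have hn0 : gact (QMinus F (N + 1 + 1) a b) (EP * nw) (zv F (N + 1 + 1) 0) =
      (1 : F) • zv F (N + 1 + 1) 0 + (1 : F) • zv F (N + 1 + 1) 1 := by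
    have hcoef : -a = 1 := by rw [ha, hneg]
    rw [gact_mul, gact_weylEl_W fr _ _ _ hQ1' _ hz0, hQ1, polar_comm, polar_zv0_zv1, div_one,
      hcoef]
    have e1 : zv F (N + 1 + 1) 0 + (1 : F) • zv F (N + 1 + 1) 1 =
        (1 : F) • zv F (N + 1 + 1) 0 + (1 : F) • zv F (N + 1 + 1) 1 := by
      simp only [one_smul]
    rw [e1, gact_embIsoM_W _ _ (zcomb_mem_Wperp _ _)]
  have hn1 : gact (QMinus F (N + 1 + 1) a b) (EP * nw) (zv F (N + 1 + 1) 1) =
      zv F (N + 1 + 1) 1 := by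
    rw [gact_mul, gact_weylEl_w fr _ _ _ hQ1', hneg, one_smul, gact_embIsoM_W _ _ hz1]
  -- the Siegel parameters
  have e1 : piCoxBE N (Sum.inl 0) = Sum.inl 1 := bSeq_one
  have e2 : piCoxBE N (Sum.inl 1) = Sum.inl ⟨2, by omega⟩ := by
    have := bSeq_two hN
    rw [bSeq_succ, bSeq_one] at this
    exact this
  have hA : (1 : F) • zv F (N + 1 + 1) 0 ∈ S fr L (Sum.inl 0) :=
    (rootV_mem_iff fr _ _ _ 1).mp hρL
  have hB := conj_mem_S hnL (hε (Sum.inl 0)) hA
  rw [e1, hε1, one_smul, one_smul, hn0] at hB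
  have hC := conj_mem_S httL htt1 hB
  rw [one_smul, httW _ (zcomb_mem_Wperp _ _), one_smul] at hC
  have hD := conj_mem_S hnL (hε (Sum.inl 1)) hB
  rw [e2, hε1, one_smul, gact_add, gact_smul, gact_smul, hn0, hn1] at hD
  have hE := (S fr L (Sum.inl ⟨2, by omega⟩)).sub_mem hD hC
  have e3 : (1 : F) • ((1 : F) • zv F (N + 1 + 1) 0 + (1 : F) • zv F (N + 1 + 1) 1) +
      (1 : F) • zv F (N + 1 + 1) 1 -
      ((1 : F) • zv F (N + 1 + 1) 0 + (1 : F) • zv F (N + 1 + 1) 1) = zv F (N + 1 + 1) 1 := by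
    rw [one_smul, one_smul, one_smul]
    abel
  rw [e3] at hE
  have hG : zv F (N + 1 + 1) 0 ∈ S fr L (Sum.inl ⟨2, by omega⟩) := by
    have := (S fr L (Sum.inl ⟨2, by omega⟩)).sub_mem hC hE
    rw [one_smul, one_smul, add_sub_cancel_right] at this
    exact this
  have hsc : ∀ (t : F) (v : MI (N + 1 + 1) → F), v ∈ S fr L (Sum.inl ⟨2, by omega⟩) →
      t • v ∈ S fr L (Sum.inl ⟨2, by omega⟩) := by
    intro t v hv
    rcases h01 t with rfl | rfl
    · rw [zero_smul]
      exact (S fr L _).zero_mem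
    · rw [one_smul]
      exact hv
  have hW0 : ∀ w, w ∈ Wperp fr → w ∈ S fr L (bSeq N 2) := by
    intro w hw
    rw [bSeq_two hN, Wperp_minus_eq w hw]
    exact (S fr L _).add_mem (hsc _ _ hG) (hsc _ _ hE)
  apply le_antisymm
  · rw [hL, Subgroup.closure_le]
    intro g hg
    rcases hg with rfl | rfl
    · refine mul_mem (rootV_mem_Omega fr hQ h5 _ _ _ _) ?_
      apply mem_Omega_of_pow_odd' (QMinus F (N + 1 + 1) a b) hQ _ _ _ 3 (by decide) htt3
      · simp only [Fintype.card_sum, Fintype.card_fin]; omega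
      · right
        simp only [Fintype.card_sum, Fintype.card_fin]; omega
    · exact mul_mem hPΩ (weylEl_mem_Omega fr hQ h5 _ _ _)
  · exact Omega_le_M hab hnL hε 2 hW0

end Cfsg.Agent.Lib.Helper1.TG
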