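import Mathlib
import Cfsg.Agent.Lib.Helper1.TGM4
import Cfsg.Agent.Lib.Helper1.TGM6

/-!
# `PΩ⁻_{2m}(q)`, `m ≥ 4`, is generated by two elements: the statement
-/

set_option autoImplicit false
set_option linter.unusedSectionVars false
set_option linter.unusedVariables false

namespace Cfsg.Agent.Lib.Helper1.TG

open Matrix Cfsg.Agent.Lib.Helper6 Cfsg.Agent.Lib.Helper15 QuadraticMap

variable {N : ℕ} {F : Type*} [Field F] [Fintype F] {a b : F}

theorem two_gen_QMinus (hN : 1 ≤ N)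
    (hab : ∀ z₁ z₂ : F, z₁ ^ 2 + a * z₁ * z₂ + b * z₂ ^ 2 = 0 → z₁ = 0 ∧ z₂ = 0) :
    ∃ g h : Cfsg.POmega F ⇑(QMinus F (N + 1 + 1) a b),
      Subgroup.closure ({g, h} : Set (Cfsg.POmega F ⇑(QMinus F (N + 1 + 1) a b))) = ⊤ := by
  classical
  obtain ⟨p, hp⟩ := CharP.exists F
  have := hp
  have : Fact p.Prime := ⟨CharP.char_is_prime F p⟩
  obtain ⟨P, hPΩ, εP, σP, hσ, hP, hPL⟩ := exists_coxM (N := N) (F := F) (a := a) (b := b) p hN hab
  by_cases hF : Fintype.card F = 2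
  · exact two_gen_quot _ _ _ (closure_M2 hF hN hab hPΩ hσ hP hPL)
  · obtain ⟨μ, hμ⟩ := IsCyclic.exists_generator (α := Fˣ)
    have hgen : ∀ t : F, t ≠ 0 → ∃ j : ℕ, t = (μ : F) ^ j := by
      intro t ht
      have h1 : Units.mk0 t ht ∈ Subgroup.zpowers μ := hμ _
      rw [← mem_powers_iff_mem_zpowers] at h1
      obtain ⟨j, hj⟩ := h1
      refine ⟨j, ?_⟩
      have := congrArg Units.val hj
      rw [Units.val_pow_eq_pow_val, Units.val_mk0] at this
      exact this.symm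
    have hμ1 : μ ≠ 1 := by
      intro h1
      have hcard : Fintype.card Fˣ = Fintype.card F - 1 := Fintype.card_units F
      have hsub : ∀ x : Fˣ, x = 1 := by
        intro x
        obtain ⟨j, hj⟩ := Subgroup.mem_zpowers_iff.1 (hμ x)
        rw [← hj, h1, _root_.one_zpow]
      have h3 : Fintype.card Fˣ ≤ 1 := by
        rw [Fintype.card_le_one_iff]
        intro x y
        rw [hsub x, hsub y]
      have h4 := Fintype.one_lt_card (α := F)
      omega
    exact two_gen_quot _ _ _ (closure_M hN hab μ hμ1 hgen hPΩ hσ hP hPL)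

/-- the statement for the minus type form -/
theorem two_gen_quadFormMinus (hN : 1 ≤ N)
    (hab : ∀ z₁ z₂ : F, z₁ ^ 2 + a * z₁ * z₂ + b * z₂ ^ 2 = 0 → z₁ = 0 ∧ z₂ = 0) :
    ∃ g h : Cfsg.POmega F (Cfsg.quadFormMinus (N + 1 + 1) F a b),
      Subgroup.closure ({g, h} :
        Set (Cfsg.POmega F (Cfsg.quadFormMinus (N + 1 + 1) F a b))) = ⊤ := by
  have h := two_gen_QMinus (N := N) (F := F) hN hab
  have hcoe : ⇑(QMinus F (N + 1 + 1) a b) = Cfsg.quadFormMinus (N + 1 + 1) F a b :=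
    funext (QMinus_apply F (N + 1 + 1) a b)
  rw [hcoe] at h
  exact h

end Cfsg.Agent.Lib.Helper1.TG
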