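import Mathlib
import Cfsg.Prelude.Def_GeometricClasses
import Cfsg.Agent.Lib.Helper13.TensorNM

/-!
# S5637 (tensor product stabiliser is maximal in `SL`): basic definitions

Instance-free vocabulary.  `V = (Fin m × Fin k → F)` (think `m × k` matrices `X`), `GL (Fin m × Fin k) F`
acts by `act g v = g *ᵥ v`.  `ten u w` is the pure tensor `u ⊗ w` (the rank one matrix `u wᵀ`),
`ptA w` the "A-point" `U ⊗ w`, `pr ψ` the contraction `X ↦ X ψ : V → U`.
-/

set_option autoImplicit false

namespace Cfsg.Agent.Lib.Helper1.TenMax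

open Matrix
open scoped Kronecker

section generic

variable {F : Type*} [Field F] {ι : Type} [Fintype ι] [DecidableEq ι]

/-- action of `GL` on column vectors -/
def act (g : GL ι F) (v : ι → F) : ι → F :=
  (g : Matrix ι ι F) *ᵥ v

@[simp] lemma act_one (v : ι → F) : act (1 : GL ι F) v = v := by
  simp [act]

@[simp] lemma act_mul (g h : GL ι F) (v : ι → F) : act (g * h) v = act g (act h v) := by
  simp [act, Matrix.mulVec_mulVec]

@[simp] lemma act_inv_act (g : GL ι F) (v : ι → F) : act g⁻¹ (act g v) = v := by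
  rw [← act_mul, inv_mul_cancel, act_one]

@[simp] lemma act_act_inv (g : GL ι F) (v : ι → F) : act g (act g⁻¹ v) = v := by
  rw [← act_mul, mul_inv_cancel, act_one]

lemma act_add (g : GL ι F) (v w : ι → F) : act g (v + w) = act g v + act g w := by
  simp [act, Matrix.mulVec_add]

lemma act_sub (g : GL ι F) (v w : ι → F) : act g (v - w) = act g v - act g w := by
  simp [act, Matrix.mulVec_sub]

lemma act_neg (g : GL ι F) (v : ι → F) : act g (-v) = -act g v := by
  simp [act, Matrix.mulVec_neg]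

@[simp] lemma act_zero (g : GL ι F) : act g (0 : ι → F) = 0 := by
  simp [act]

lemma act_smul (g : GL ι F) (c : F) (v : ι → F) : act g (c • v) = c • act g v := by
  simp [act, Matrix.mulVec_smul]

lemma act_injective (g : GL ι F) : Function.Injective (act g) := by
  intro v w h
  have := congrArg (act g⁻¹) h
  simpa using this

lemma act_eq_zero_iff (g : GL ι F) (v : ι → F) : act g v = 0 ↔ v = 0 := by
  constructor
  · intro h
    exact act_injective g (by rw [h, act_zero])
  · rintro rfl; exact act_zero g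

/-- a `GL` element is determined by its action -/
lemma gl_ext {g h : GL ι F} (H : ∀ v, act g v = act h v) : g = h := by
  apply Units.ext
  apply Matrix.toLin'.injective
  apply LinearMap.ext
  intro v
  simpa [act, Matrix.toLin'_apply] using H v

/-- the `F`-linear map underlying `g` -/
def actL (g : GL ι F) : (ι → F) →ₗ[F] (ι → F) :=
  Matrix.mulVecLin (g : Matrix ι ι F)

@[simp] lemma actL_apply (g : GL ι F) (v : ι → F) : actL g v = act g v := rfl

/-- a pair of mutually inverse linear maps gives a `GL` element -/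
lemma exists_gl (f f' : (ι → F) →ₗ[F] (ι → F)) (h₁ : ∀ v, f (f' v) = v)
    (h₂ : ∀ v, f' (f v) = v) :
    ∃ g : GL ι F, (∀ v, act g v = f v) ∧ (∀ v, act g⁻¹ v = f' v) := by
  have e1 : LinearMap.toMatrix' f * LinearMap.toMatrix' f' = 1 := by
    rw [← LinearMap.toMatrix'_comp, ← LinearMap.toMatrix'_id]
    congr 1
    exact LinearMap.ext fun v => by simp [h₁]
  have e2 : LinearMap.toMatrix' f' * LinearMap.toMatrix' f = 1 := by
    rw [← LinearMap.toMatrix'_comp, ← LinearMap.toMatrix'_id]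
    congr 1
    exact LinearMap.ext fun v => by simp [h₂]
  refine ⟨⟨LinearMap.toMatrix' f, LinearMap.toMatrix' f', e1, e2⟩, ?_, ?_⟩
  · intro v
    change LinearMap.toMatrix' f *ᵥ v = f v
    rw [← Matrix.toLin'_apply, Matrix.toLin'_toMatrix']
  · intro v
    change LinearMap.toMatrix' f' *ᵥ v = f' v
    rw [← Matrix.toLin'_apply, Matrix.toLin'_toMatrix']

/-- `H` contains the `F`-transvection `v ↦ v + (φ ⬝ᵥ v) • a` -/
def TV (H : Subgroup (GL ι F)) (φ a : ι → F) : Prop :=
  ∀ g : GL ι F, (∀ v, act g v = v + (φ ⬝ᵥ v) • a) → g ∈ H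

end generic

section tensor

variable {F : Type*} [Field F] {m k : ℕ}

/-- the pure tensor `u ⊗ w` (rank one matrix `u wᵀ`) -/
def ten (u : Fin m → F) (w : Fin k → F) : Fin m × Fin k → F := fun p => u p.1 * w p.2

@[simp] lemma ten_apply (u : Fin m → F) (w : Fin k → F) (p : Fin m × Fin k) :
    ten u w p = u p.1 * w p.2 := rfl

lemma ten_add_left (u u' : Fin m → F) (w : Fin k → F) : ten (u + u') w = ten u w + ten u' w := by
  ext p; simp [add_mul]

lemma ten_add_right (u : Fin m → F) (w w' : Fin k → F) : ten u (w + w') = ten u w + ten u w' := by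
  ext p; simp [mul_add]

lemma ten_sub_left (u u' : Fin m → F) (w : Fin k → F) : ten (u - u') w = ten u w - ten u' w := by
  ext p; simp [sub_mul]

lemma ten_sub_right (u : Fin m → F) (w w' : Fin k → F) : ten u (w - w') = ten u w - ten u w' := by
  ext p; simp [mul_sub]

lemma ten_smul_left (c : F) (u : Fin m → F) (w : Fin k → F) : ten (c • u) w = c • ten u w := by
  ext p; simp [mul_assoc]

lemma ten_smul_right (c : F) (u : Fin m → F) (w : Fin k → F) : ten u (c • w) = c • ten u w := by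
  ext p; simp; ring

@[simp] lemma ten_zero_left (w : Fin k → F) : ten (0 : Fin m → F) w = 0 := by
  ext p; simp

@[simp] lemma ten_zero_right (u : Fin m → F) : ten u (0 : Fin k → F) = 0 := by
  ext p; simp

lemma ten_neg_left (u : Fin m → F) (w : Fin k → F) : ten (-u) w = -ten u w := by
  ext p; simp

lemma ten_neg_right (u : Fin m → F) (w : Fin k → F) : ten u (-w) = -ten u w := by
  ext p; simp

lemma ten_eq_zero_iff (u : Fin m → F) (w : Fin k → F) : ten u w = 0 ↔ u = 0 ∨ w = 0 := by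
  constructor
  · intro h
    by_contra hc
    push Not at hc
    obtain ⟨i, hi⟩ := Function.ne_iff.mp hc.1
    obtain ⟨j, hj⟩ := Function.ne_iff.mp hc.2
    have := congrFun h (i, j)
    simp only [ten_apply, Pi.zero_apply, mul_eq_zero] at this
    rcases this with h1 | h1
    · exact hi h1
    · exact hj h1
  · rintro (rfl | rfl) <;> simp

/-- `u ↦ u ⊗ w` -/
def tenL (w : Fin k → F) : (Fin m → F) →ₗ[F] (Fin m × Fin k → F) where
  toFun u := ten u w
  map_add' u u' := ten_add_left u u' w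
  map_smul' c u := by rw [ten_smul_left, RingHom.id_apply]

@[simp] lemma tenL_apply (w : Fin k → F) (u : Fin m → F) : tenL w u = ten u w := rfl

/-- `w ↦ u ⊗ w` -/
def tenR (u : Fin m → F) : (Fin k → F) →ₗ[F] (Fin m × Fin k → F) where
  toFun w := ten u w
  map_add' w w' := ten_add_right u w w'
  map_smul' c w := by rw [ten_smul_right, RingHom.id_apply]

@[simp] lemma tenR_apply (u : Fin m → F) (w : Fin k → F) : tenR u w = ten u w := rfl

/-- the A-point `U ⊗ w` -/
def ptA (m : ℕ) (w : Fin k → F) : Submodule F (Fin m × Fin k → F) := LinearMap.range (tenL (m := m) w)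

lemma mem_ptA {w : Fin k → F} {x : Fin m × Fin k → F} : x ∈ ptA m w ↔ ∃ u : Fin m → F, ten u w = x :=
  Iff.rfl

lemma ten_mem_ptA (u : Fin m → F) (w : Fin k → F) : ten u w ∈ ptA m w := ⟨u, rfl⟩

/-- the contraction `X ↦ X ψ` -/
def pr (ψ : Fin k → F) : (Fin m × Fin k → F) →ₗ[F] (Fin m → F) where
  toFun v := fun i => ∑ j, v (i, j) * ψ j
  map_add' v v' := by
    ext i; simp [add_mul, Finset.sum_add_distrib]
  map_smul' c v := by
    ext i; simp [Finset.mul_sum, mul_assoc]

lemma pr_apply (ψ : Fin k → F) (v : Fin m × Fin k → F) (i : Fin m) :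
    pr ψ v i = ∑ j, v (i, j) * ψ j := rfl

lemma pr_ten (ψ w : Fin k → F) (u : Fin m → F) : pr ψ (ten u w) = (ψ ⬝ᵥ w) • u := by
  ext i
  simp only [pr_apply, ten_apply, Pi.smul_apply, smul_eq_mul, dotProduct, Finset.sum_mul]
  exact Finset.sum_congr rfl fun j _ => by ring

lemma pr_add (ψ ψ' : Fin k → F) (v : Fin m × Fin k → F) : pr (ψ + ψ') v = pr ψ v + pr ψ' v := by
  ext i; simp [pr_apply, mul_add, Finset.sum_add_distrib]

lemma pr_smul (c : F) (ψ : Fin k → F) (v : Fin m × Fin k → F) : pr (c • ψ) v = c • pr ψ v := by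
  ext i
  simp only [pr_apply, Pi.smul_apply, smul_eq_mul, Finset.mul_sum]
  exact Finset.sum_congr rfl fun j _ => by ring

@[simp] lemma pr_zero (v : Fin m × Fin k → F) : pr (0 : Fin k → F) v = 0 := by
  ext i; simp [pr_apply]

/-- the `j`-th column of `v` -/
def col (v : Fin m × Fin k → F) (j : Fin k) : Fin m → F := fun i => v (i, j)

lemma pr_single (v : Fin m × Fin k → F) (j : Fin k) : pr (Pi.single j 1) v = col v j := by
  ext i
  simp [pr_apply, col, Pi.single_apply]

/-- every vector is the sum of its columns -/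
lemma eq_sum_ten (v : Fin m × Fin k → F) : v = ∑ j, ten (col v j) (Pi.single j 1) := by
  ext p
  rcases p with ⟨i, j⟩
  simp [Finset.sum_apply, col, Pi.single_apply]

/-- functional form of the tensor `α ⊗ ψ` -/
lemma ten_dotProduct (α : Fin m → F) (ψ : Fin k → F) (v : Fin m × Fin k → F) :
    ten α ψ ⬝ᵥ v = α ⬝ᵥ pr ψ v := by
  simp only [dotProduct, pr_apply, ten_apply, Fintype.sum_prod_type, Finset.mul_sum]
  exact Finset.sum_congr rfl fun i _ => Finset.sum_congr rfl fun j _ => by ring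

lemma ten_dotProduct_ten (α u : Fin m → F) (ψ w : Fin k → F) :
    ten α ψ ⬝ᵥ ten u w = (α ⬝ᵥ u) * (ψ ⬝ᵥ w) := by
  rw [ten_dotProduct, pr_ten, dotProduct_smul, smul_eq_mul, mul_comm]

/-- action of a Kronecker product on a pure tensor -/
lemma kron_mulVec_ten (A : Matrix (Fin m) (Fin m) F) (B : Matrix (Fin k) (Fin k) F)
    (u : Fin m → F) (w : Fin k → F) : (A ⊗ₖ B) *ᵥ ten u w = ten (A *ᵥ u) (B *ᵥ w) := by
  ext p
  rcases p with ⟨i, j⟩
  simp only [Matrix.mulVec, dotProduct, Matrix.kroneckerMap_apply, ten_apply,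
    Fintype.sum_prod_type, Finset.sum_mul, Finset.mul_sum]
  rw [Finset.sum_comm]
  refine Finset.sum_congr rfl fun j' _ => ?_
  exact Finset.sum_congr rfl fun i' _ => by ring

lemma act_kronGL_ten (a : GL (Fin m) F) (b : GL (Fin k) F) (u : Fin m → F) (w : Fin k → F) :
    act (Cfsg.Agent.Lib.Helper13.TNM.kronGL a b) (ten u w)
      = ten ((a : Matrix (Fin m) (Fin m) F) *ᵥ u) ((b : Matrix (Fin k) (Fin k) F) *ᵥ w) := by
  unfold act
  rw [Cfsg.Agent.Lib.Helper13.TNM.kronGL_val, kron_mulVec_ten]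

/-- contraction after a Kronecker product -/
lemma pr_kron_mulVec (A : Matrix (Fin m) (Fin m) F) (B : Matrix (Fin k) (Fin k) F)
    (ψ : Fin k → F) (v : Fin m × Fin k → F) :
    pr ψ ((A ⊗ₖ B) *ᵥ v) = A *ᵥ pr (ψ ᵥ* B) v := by
  ext i
  simp only [pr_apply, Matrix.mulVec, Matrix.vecMul, dotProduct, Matrix.kroneckerMap_apply,
    Fintype.sum_prod_type, Finset.sum_mul, Finset.mul_sum]
  rw [Finset.sum_comm]
  refine Finset.sum_congr rfl fun i' _ => ?_
  rw [Finset.sum_comm]
  exact Finset.sum_congr rfl fun j' _ => Finset.sum_congr rfl fun j _ => by ring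

/-- `g` is the root element `v ↦ v + θ(v ψ) ⊗ w`, i.e. `1 + θ ⊗ (w ψᵀ)` -/
def IsRoot (θ : (Fin m → F) →ₗ[F] (Fin m → F)) (ψ w : Fin k → F) (g : GL (Fin m × Fin k) F) : Prop :=
  ∀ v, act g v = v + ten (θ (pr ψ v)) w

/-- `θ` is a scalar endomorphism -/
def IsScalar (θ : (Fin m → F) →ₗ[F] (Fin m → F)) : Prop := ∃ c : F, θ = c • LinearMap.id

/-- `H` contains a root element `1 + θ ⊗ (w ψᵀ)` (`ψ, w ≠ 0`, `ψ w = 0`) with `θ` not a scalar -/
def HasNonScalarRoot (H : Subgroup (GL (Fin m × Fin k) F)) : Prop :=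
  ∃ (θ : (Fin m → F) →ₗ[F] (Fin m → F)) (ψ w : Fin k → F) (g : GL (Fin m × Fin k) F),
    ψ ≠ 0 ∧ w ≠ 0 ∧ ψ ⬝ᵥ w = 0 ∧ ¬ IsScalar θ ∧ IsRoot θ ψ w g ∧ g ∈ H

/-- `H` contains all the scalar root elements `1 ⊗ (1 + w ψᵀ)`, `ψ w = 0` -/
def HasScalarRoots (H : Subgroup (GL (Fin m × Fin k) F)) : Prop :=
  ∀ (ψ w : Fin k → F), ψ ⬝ᵥ w = 0 → ∀ g : GL (Fin m × Fin k) F,
    IsRoot (LinearMap.id : (Fin m → F) →ₗ[F] (Fin m → F)) ψ w g → g ∈ H

/-- the rank one endomorphism `v ↦ (α ⬝ᵥ v) • u` of `U` -/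
def rk1 (α u : Fin m → F) : (Fin m → F) →ₗ[F] (Fin m → F) where
  toFun v := (α ⬝ᵥ v) • u
  map_add' v v' := by rw [dotProduct_add, add_smul]
  map_smul' c v := by rw [dotProduct_smul, smul_eq_mul, mul_smul, RingHom.id_apply]

@[simp] lemma rk1_apply (α u v : Fin m → F) : rk1 α u v = (α ⬝ᵥ v) • u := rfl

end tensor

end Cfsg.Agent.Lib.Helper1.TenMax
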