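import Mathlib
import Cfsg.Prelude.Def_Transfer
import Cfsg.Agent.Lib.Helper1.CoprimeSylow
import Cfsg.Agent.Lib.Helper1.CoprimeAbelian
import Cfsg.Agent.Lib.Helper13.HallHigmanLite
import Cfsg.Agent.Lib.Helper13.PNilpotent
import Cfsg.Agent.Lib.Helper27.Thompson
import Cfsg.Agent.S0607

set_option autoImplicit false
set_option linter.unusedSectionVars false
open scoped commutatorElement

namespace Cfsg.Agent.Lib.Helper1

namespace ThompsonNPC

open Subgroup

universe u

section Gamma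

variable {Γ : Type u} [Group Γ] [Finite Γ] {p : ℕ} [Fact p.Prime]

/-- In a group with a normal `p`-complement whose Sylow `p`-subgroup is a maximal subgroup, there is
an abelian `p'`-subgroup `Z`, normalized by the Sylow subgroup `T`, with `T ⊔ Z = ⊤`. -/
theorem exists_abelian_of_coatom (T : Sylow p Γ) (hT : IsCoatom (T : Subgroup Γ)) (L : Subgroup Γ)
    [L.Normal] (hL : (Nat.card L).Coprime p) (hidx : ∃ k : ℕ, L.index = p ^ k) :
    ∃ Z : Subgroup Γ, (∀ x ∈ Z, ∀ y ∈ Z, x * y = y * x) ∧ (Nat.card Z).Coprime p ∧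
      (T : Subgroup Γ) ≤ normalizer (Z : Set Γ) ∧ (T : Subgroup Γ) ⊔ Z = ⊤ := by
  have hp : p.Prime := Fact.out
  obtain ⟨k, hk⟩ := hidx
  -- `L` is nontrivial
  have hLne : L ≠ ⊥ := by
    intro h
    have h1 : Nat.card Γ = p ^ k := by
      rw [← hk, h, Subgroup.index_bot]
    have h2 : IsPGroup p Γ := IsPGroup.of_card h1
    have h3 : (T : Subgroup Γ) = ⊤ := by
      have := T.is_maximal' (Q := ⊤) (h2.to_subgroup ⊤) le_top
      exact this.symm
    exact hT.1 h3
  have hcard : Nat.card L ≠ 1 := by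
    rwa [Ne, Subgroup.card_eq_one]
  set q := (Nat.card L).minFac with hq
  have hqp : q.Prime := Nat.minFac_prime hcard
  have : Fact q.Prime := ⟨hqp⟩
  have hqL : q ∣ Nat.card L := Nat.minFac_dvd _
  have hqne : q ≠ p := by
    intro h
    rw [h] at hqL
    exact hp.one_lt.ne' (Nat.eq_one_of_dvd_coprimes hL hqL (dvd_refl p))
  have hTL : (T : Subgroup Γ) ⊓ L = ⊥ := by
    apply disjoint_iff.mp
    apply Subgroup.disjoint_of_coprime_natCard
    obtain ⟨j, hj⟩ := T.isPGroup'.exists_card_eq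
    rw [hj]
    exact (Nat.Coprime.pow_right j hL).symm
  have hact : CoprimeAct (T : Subgroup Γ) L := by
    refine ⟨?_, ?_, Or.inl ?_⟩
    · rw [Subgroup.normalizer_eq_top_iff.mpr inferInstance]; exact le_top
    · obtain ⟨j, hj⟩ := T.isPGroup'.exists_card_eq
      rw [hj]
      exact (Nat.Coprime.pow_right j hL).symm
    · have := T.isPGroup'.isNilpotent
      infer_instance
  obtain ⟨Q, hQ⟩ := hact.exists_invariant_sylow q
  set Q' : Subgroup Γ := (Q : Subgroup L).map L.subtype with hQ'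
  have hQ'L : Q' ≤ L := Subgroup.map_subtype_le _
  have hQ'q : IsPGroup q Q' := Q.isPGroup'.map _
  have hQ'ne : Nontrivial Q' := by
    have h1 : Nat.card Q' = Nat.card (Q : Subgroup L) :=
      Subgroup.card_map_of_injective L.subtype_injective
    have h2 : q ∣ Nat.card (Q : Subgroup L) := by
      rw [Q.card_eq_multiplicity]
      have : (Nat.card L).factorization q ≠ 0 := by
        intro h0
        rcases (Nat.factorization_eq_zero_iff _ _).mp h0 with h | h | h
        · exact h hqp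
        · exact h hqL
        · exact Nat.card_pos.ne' h
      exact dvd_pow_self q this
    rw [← Finite.one_lt_card_iff_nontrivial, h1]
    exact lt_of_lt_of_le hqp.one_lt (Nat.le_of_dvd Nat.card_pos h2)
  set Z : Subgroup Γ := Q' ⊓ centralizer (Q' : Set Γ) with hZ
  have hZne : Z ≠ ⊥ := by
    have := hQ'q.center_nontrivial
    obtain ⟨z, hz⟩ := exists_ne (1 : Subgroup.center Q')
    intro hbot
    apply hz
    have h1 : ((z : Q') : Γ) ∈ Z := by
      rw [hZ]
      refine Subgroup.mem_inf.mpr ⟨(z : Q').2, ?_⟩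
      rw [Subgroup.mem_centralizer_iff]
      intro x hx
      have := Subgroup.mem_center_iff.mp z.2 ⟨x, hx⟩
      exact congrArg Subtype.val this
    rw [hbot, Subgroup.mem_bot] at h1
    exact Subtype.ext (Subtype.ext h1)
  have hZab : ∀ x ∈ Z, ∀ y ∈ Z, x * y = y * x := by
    intro x hx y hy
    exact ((Subgroup.mem_centralizer_iff.mp hx.2) y hy.1).symm
  have hZL : Z ≤ L := inf_le_left.trans hQ'L
  have hZcop : (Nat.card Z).Coprime p :=
    Nat.Coprime.coprime_dvd_left (Subgroup.card_dvd_of_le hZL) hL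
  have hTZ : (T : Subgroup Γ) ≤ normalizer (Z : Set Γ) := by
    intro g hg
    have hgQ := hQ hg
    rw [Subgroup.mem_normalizer_iff] at hgQ ⊢
    have key : ∀ g : Γ, (∀ h, h ∈ Q' ↔ g * h * g⁻¹ ∈ Q') → ∀ z ∈ Z, g * z * g⁻¹ ∈ Z := by
      intro g hgQ z hz
      refine Subgroup.mem_inf.mpr ⟨(hgQ z).mp hz.1, ?_⟩
      rw [Subgroup.mem_centralizer_iff]
      intro x hx
      have hx' : g⁻¹ * x * g ∈ Q' := by
        rw [hgQ]
        simpa [mul_assoc] using hx
      have := (Subgroup.mem_centralizer_iff.mp hz.2) _ hx'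
      calc x * (g * z * g⁻¹) = g * ((g⁻¹ * x * g) * z) * g⁻¹ := by group
        _ = g * (z * (g⁻¹ * x * g)) * g⁻¹ := by rw [this]
        _ = g * z * g⁻¹ * x := by group
    intro z
    constructor
    · exact key g hgQ z
    · intro hz
      have hginv : ∀ h, h ∈ Q' ↔ g⁻¹ * h * g⁻¹⁻¹ ∈ Q' := by
        intro h
        rw [hgQ (g⁻¹ * h * g⁻¹⁻¹)]
        simp [mul_assoc]
      have := key g⁻¹ hginv _ hz
      simpa [mul_assoc] using this
  refine ⟨Z, hZab, hZcop, hTZ, ?_⟩
  by_contra hne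
  have hlt : ¬ ((T : Subgroup Γ) < (T : Subgroup Γ) ⊔ Z) := fun hlt => hne (hT.2 _ hlt)
  have heq : (T : Subgroup Γ) ⊔ Z = T := by
    rcases eq_or_lt_of_le (le_sup_left : (T : Subgroup Γ) ≤ (T : Subgroup Γ) ⊔ Z) with h | h
    · exact h.symm
    · exact absurd h hlt
  have hZT : Z ≤ T := by
    rw [← heq]; exact le_sup_right
  apply hZne
  rw [eq_bot_iff, ← hTL]
  exact le_inf hZT hZL

/-- An element of the Sylow subgroup centralizing `Z` is trivial when `O_p = 1`. -/
theorem eq_one_of_centralizes (T : Sylow p Γ) (Z : Subgroup Γ)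
    (hTZ : (T : Subgroup Γ) ≤ normalizer (Z : Set Γ)) (htop : (T : Subgroup Γ) ⊔ Z = ⊤)
    (hO : Cfsg.pCore p Γ = ⊥) (t : Γ) (ht : t ∈ (T : Subgroup Γ))
    (hc : ∀ z ∈ Z, t * z = z * t) : t = 1 := by
  set E : Subgroup Γ := (T : Subgroup Γ) ⊓ centralizer (Z : Set Γ) with hE
  have htE : t ∈ E := by
    refine Subgroup.mem_inf.mpr ⟨ht, ?_⟩
    rw [Subgroup.mem_centralizer_iff]
    intro z hz
    exact (hc z hz).symm
  have hEp : IsPGroup p E := T.isPGroup'.to_le inf_le_left
  have hEn : E.Normal := by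
    rw [← Subgroup.normalizer_eq_top_iff, eq_top_iff, ← htop]
    apply sup_le
    · -- `T` normalizes `E`
      intro g hg
      have hgZ := hTZ hg
      rw [Subgroup.mem_normalizer_iff] at hgZ ⊢
      have key : ∀ g : Γ, g ∈ (T : Subgroup Γ) → (∀ h, h ∈ Z ↔ g * h * g⁻¹ ∈ Z) →
          ∀ e ∈ E, g * e * g⁻¹ ∈ E := by
        intro g hg hgZ e he
        refine Subgroup.mem_inf.mpr ⟨(T : Subgroup Γ).mul_mem ((T : Subgroup Γ).mul_mem hg he.1) ((T : Subgroup Γ).inv_mem hg), ?_⟩
        rw [Subgroup.mem_centralizer_iff]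
        intro x hx
        have hx' : g⁻¹ * x * g ∈ Z := by
          rw [hgZ]
          simpa [mul_assoc] using hx
        have := (Subgroup.mem_centralizer_iff.mp he.2) _ hx'
        calc x * (g * e * g⁻¹) = g * ((g⁻¹ * x * g) * e) * g⁻¹ := by group
          _ = g * (e * (g⁻¹ * x * g)) * g⁻¹ := by rw [this]
          _ = g * e * g⁻¹ * x := by group
      intro e
      constructor
      · exact key g hg hgZ e
      · intro he
        have hginv : ∀ h, h ∈ Z ↔ g⁻¹ * h * g⁻¹⁻¹ ∈ Z := by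
          intro h
          rw [hgZ (g⁻¹ * h * g⁻¹⁻¹)]
          simp [mul_assoc]
        have := key g⁻¹ ((T : Subgroup Γ).inv_mem hg) hginv _ he
        simpa [mul_assoc] using this
    · -- `Z` centralizes `E`
      intro z hz
      rw [Subgroup.mem_normalizer_iff]
      intro e
      have hcomm : ∀ e ∈ E, z * e * z⁻¹ = e := by
        intro e he
        have := (Subgroup.mem_centralizer_iff.mp he.2) z hz
        rw [this]; group
      constructor
      · intro he
        rw [hcomm e he]; exact he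
      · intro he
        have h1 := hcomm _ he
        have h2 : z⁻¹ * (z * (z * e * z⁻¹) * z⁻¹) * z = z⁻¹ * (z * e * z⁻¹) * z := by rw [h1]
        have h3 : z * e * z⁻¹ = e := by
          have : z⁻¹ * (z * (z * e * z⁻¹) * z⁻¹) * z = z * e * z⁻¹ := by group
          rw [this] at h2
          rw [h2]; group
        rw [← h3]; exact he
  have hle : E ≤ Cfsg.pCore p Γ := le_pCore hEn hEp
  rw [hO] at hle
  exact Subgroup.mem_bot.mp (hle htE)

end Gamma

section Final

variable {G : Type u} [Group G] [Finite G] {p : ℕ} [Fact p.Prime]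

/-- `Ω₁(Z(P))` as a subgroup of the ambient group. -/
def omegaCenter (p : ℕ) (P : Subgroup G) : Subgroup G where
  carrier := {x | x ∈ P ∧ x ∈ centralizer (P : Set G) ∧ x ^ p = 1}
  one_mem' := ⟨P.one_mem, Subgroup.one_mem _, one_pow p⟩
  mul_mem' := by
    rintro a b ⟨ha, hac, hap⟩ ⟨hb, hbc, hbp⟩
    refine ⟨P.mul_mem ha hb, Subgroup.mul_mem _ hac hbc, ?_⟩
    have hcomm : Commute a b := (Subgroup.mem_centralizer_iff.mp hbc a ha)
    rw [hcomm.mul_pow, hap, hbp, one_mul]
  inv_mem' := by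
    rintro a ⟨ha, hac, hap⟩
    exact ⟨P.inv_mem ha, Subgroup.inv_mem _ hac, by rw [inv_pow, hap, inv_one]⟩

theorem mem_omegaCenter {P : Subgroup G} {x : G} :
    x ∈ omegaCenter p P ↔ x ∈ P ∧ x ∈ centralizer (P : Set G) ∧ x ^ p = 1 := Iff.rfl

theorem omegaCenter_normal (P : Subgroup G) [hP : P.Normal] : (omegaCenter p P).Normal := by
  constructor
  intro n hn g
  obtain ⟨h1, h2, h3⟩ := hn
  refine ⟨hP.conj_mem n h1 g, (Subgroup.normal_centralizer (H := P)).conj_mem n h2 g, ?_⟩
  rw [conj_pow, h3]; simp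

theorem pCore_quotient_pCore_eq_bot : Cfsg.pCore p (G ⧸ Cfsg.pCore p G) = ⊥ := by
  have hPn : (Cfsg.pCore p G).Normal := pCore_normal p
  set π := QuotientGroup.mk' (Cfsg.pCore p G) with hπ
  have hπs : Function.Surjective π := QuotientGroup.mk'_surjective _
  have hn : (Cfsg.pCore p (G ⧸ Cfsg.pCore p G)).Normal := pCore_normal p
  have h1 : IsPGroup p ((Cfsg.pCore p (G ⧸ Cfsg.pCore p G)).comap π) := by
    apply (pCore_isPGroup p).comap_of_ker_isPGroup
    rw [hπ, QuotientGroup.ker_mk']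
    exact pCore_isPGroup p
  have h2 : (Cfsg.pCore p (G ⧸ Cfsg.pCore p G)).comap π ≤ Cfsg.pCore p G :=
    le_pCore (hn.comap _) h1
  rw [eq_bot_iff, ← Subgroup.map_comap_eq_self_of_surjective hπs (Cfsg.pCore p (G ⧸ Cfsg.pCore p G))]
  refine (Subgroup.map_mono h2).trans ?_
  rw [Subgroup.map_le_iff_le_comap]
  intro x hx
  rw [Subgroup.mem_comap, Subgroup.mem_bot]
  exact (QuotientGroup.eq_one_iff x).mpr hx

end Final

end ThompsonNPC

end Cfsg.Agent.Lib.Helper1
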