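import Cfsg.Agent.Lib.Helper1.ThompsonNPC

set_option autoImplicit false
set_option linter.unusedSectionVars false
open scoped commutatorElement

namespace Cfsg.Agent.Lib.Helper1

namespace ThompsonNPC

open Subgroup

universe u

section Final2

variable {G : Type u} [Group G] [Finite G] {p : ℕ} [Fact p.Prime]

/-- `C_G(Ω₁(Z(O_p(G)))) = O_p(G)` in the final configuration. -/
theorem centralizer_omegaCenter_eq (S : Sylow p G)
    (hC : centralizer ((Cfsg.pCore p G : Subgroup G) : Set G) ≤ Cfsg.pCore p G)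
    (hCZ : centralizer (((S : Subgroup G) ⊓ centralizer (S : Set G) : Subgroup G) : Set G) = S) :
    centralizer ((omegaCenter p (Cfsg.pCore p G) : Subgroup G) : Set G) = Cfsg.pCore p G := by
  have hp : p.Prime := Fact.out
  set P := Cfsg.pCore p G with hP
  have hPn : P.Normal := pCore_normal p
  have hPp : IsPGroup p P := pCore_isPGroup p
  have hPS : P ≤ S := pCore_le_sylow S
  set V := omegaCenter p P with hV
  have hVn : V.Normal := omegaCenter_normal P
  apply le_antisymm
  · -- the centralizer is a normal `p`-subgroup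
    have hCn : (centralizer (V : Set G)).Normal := Subgroup.normal_centralizer
    apply le_pCore hCn
    -- the centre of `P`
    set Zp : Subgroup G := P ⊓ centralizer (P : Set G) with hZp
    have hZpn : Zp.Normal := by
      constructor
      intro n hn g
      exact Subgroup.mem_inf.mpr ⟨hPn.conj_mem n hn.1 g,
        (Subgroup.normal_centralizer (H := P)).conj_mem n hn.2 g⟩
    have hZpc : IsMulCommutative Zp := by
      constructor
      constructor
      intro a b
      apply Subtype.ext
      have := Subgroup.mem_centralizer_iff.mp b.2.2 a a.2.1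
      exact this
    have hZpp : IsPGroup p Zp := hPp.to_le inf_le_left
    have hZS : (S : Subgroup G) ⊓ centralizer (S : Set G) ≤ Zp := by
      intro z hz
      have h1 : z ∈ centralizer (P : Set G) := Subgroup.centralizer_le hPS hz.2
      exact Subgroup.mem_inf.mpr ⟨hC h1, h1⟩
    rintro ⟨g, hg⟩
    obtain ⟨k, m, hm, hkm⟩ := Nat.exists_eq_pow_mul_and_not_dvd (orderOf_pos g).ne' p hp.ne_one
    refine ⟨k, Subtype.ext ?_⟩
    show g ^ (p ^ k) = 1
    set r := g ^ (p ^ k) with hr
    have hor : orderOf r = m := by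
      rw [hr, orderOf_pow_of_dvd (pow_pos hp.pos k).ne' (hkm ▸ dvd_mul_right _ _), hkm,
        Nat.mul_div_cancel_left _ (pow_pos hp.pos k)]
    have hrC : r ∈ centralizer (V : Set G) := Subgroup.pow_mem _ hg _
    set R := Subgroup.zpowers r with hR
    have hRcard : Nat.card R = m := by rw [Nat.card_zpowers, hor]
    have hmcop : m.Coprime p := (Nat.Prime.coprime_iff_not_dvd hp).mpr hm |>.symm
    have hRC : R ≤ centralizer (V : Set G) := by
      rw [hR, Subgroup.zpowers_le]; exact hrC
    have hRZ : R ≤ centralizer (Zp : Set G) := by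
      apply le_centralizer_of_centralizes_prime_order R Zp
      · rw [Subgroup.normalizer_eq_top_iff.mpr hZpn]; exact le_top
      · obtain ⟨j, hj⟩ := hZpp.exists_card_eq
        rw [hRcard, hj]
        exact Nat.Coprime.pow_right j hmcop
      · intro v hv hvo a ha
        have hvV : v ∈ V := by
          refine ⟨hv.1, hv.2, ?_⟩
          obtain ⟨j, hj⟩ := (IsPGroup.iff_orderOf.mp hZpp) ⟨v, hv⟩
          rw [Subgroup.orderOf_mk] at hj
          have h1 : orderOf v = p :=
            (Nat.prime_dvd_prime_iff_eq hvo hp).mp (hvo.dvd_of_dvd_pow (hj.symm ▸ dvd_refl (orderOf v) : orderOf v ∣ p ^ j))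
          rw [← h1]; exact pow_orderOf_eq_one v
        exact (Subgroup.mem_centralizer_iff.mp (hRC ha) v hvV).symm
    have hrS : r ∈ (S : Subgroup G) := by
      rw [← hCZ]
      exact Subgroup.centralizer_le hZS (hRZ (Subgroup.mem_zpowers r))
    obtain ⟨j, hj⟩ := (IsPGroup.iff_orderOf.mp S.isPGroup') ⟨r, hrS⟩
    rw [Subgroup.orderOf_mk, hor] at hj
    have hm1 : m = 1 := by
      have h1 : m ∣ p ^ j := hj ▸ dvd_rfl
      have h2 : m.Coprime (p ^ j) := Nat.Coprime.pow_right j hmcop
      exact Nat.Coprime.eq_one_of_dvd h2 h1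
    rw [← orderOf_eq_one_iff, hor, hm1]
  · intro x hx
    rw [Subgroup.mem_centralizer_iff]
    intro v hv
    exact (Subgroup.mem_centralizer_iff.mp hv.2.1 x hx).symm

/-- In the final configuration, an element of the Sylow subgroup acting quadratically on
`V = Ω₁(Z(O_p(G)))` lies in `O_p(G)`. -/
theorem quadratic_mem_pCore (hp2 : p ≠ 2) (S : Sylow p G) (hSco : IsCoatom (S : Subgroup G))
    (hQ : Cfsg.HasNormalPComplement p (G ⧸ Cfsg.pCore p G))
    (hCV : centralizer ((omegaCenter p (Cfsg.pCore p G) : Subgroup G) : Set G) = Cfsg.pCore p G)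
    (a : G) (ha : a ∈ (S : Subgroup G))
    (hq : ∀ v ∈ omegaCenter p (Cfsg.pCore p G), ⁅⁅v, a⁆, a⁆ = 1) : a ∈ Cfsg.pCore p G := by
  have hp : p.Prime := Fact.out
  set P := Cfsg.pCore p G with hP
  have hPn : P.Normal := pCore_normal p
  have hPS : P ≤ S := pCore_le_sylow S
  set V := omegaCenter p P with hV
  have hVn : V.Normal := omegaCenter_normal P
  set π := QuotientGroup.mk' P with hπ
  have hπs : Function.Surjective π := QuotientGroup.mk'_surjective _
  obtain ⟨L, hLn, hLcop, hLidx⟩ := Cfsg.Agent.Lib.Helper13.hasNormalPComplement_iff_exists.mp hQ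
  set T : Sylow p (G ⧸ P) := S.mapSurjective hπs with hT
  have hTcoe : (T : Subgroup (G ⧸ P)) = (S : Subgroup G).map π := Sylow.coe_mapSurjective _ S
  have hcomap : (T : Subgroup (G ⧸ P)).comap π = S := by
    rw [hTcoe, Subgroup.comap_map_eq, hπ, QuotientGroup.ker_mk', sup_of_le_left hPS]
  have hTco : IsCoatom (T : Subgroup (G ⧸ P)) := by
    constructor
    · intro h
      apply hSco.1
      rw [← hcomap, h, Subgroup.comap_top]
    · intro M hM
      have h1 : (S : Subgroup G) < M.comap π := by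
        rw [← hcomap]
        exact (Subgroup.comap_lt_comap_of_surjective hπs).mpr hM
      have h2 := hSco.2 _ h1
      rw [← Subgroup.map_comap_eq_self_of_surjective hπs M, h2, Subgroup.map_top_of_surjective _ hπs]
  have hO : Cfsg.pCore p (G ⧸ P) = ⊥ := pCore_quotient_pCore_eq_bot
  obtain ⟨Z, hZab, hZcop, hTZ, htop⟩ := exists_abelian_of_coatom T hTco L hLcop hLidx
  -- the action on `V`
  let _ : CommGroup V :=
    { (inferInstance : Group V) with
      mul_comm := fun x y => Subtype.ext (Subgroup.mem_centralizer_iff.mp y.2.2.1 x x.2.1) }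
  let φ₀ : G →* MulAut V := MulAut.conjNormal
  have hker : ∀ g : G, φ₀ g = 1 ↔ g ∈ P := by
    intro g
    rw [← hCV, Subgroup.mem_centralizer_iff]
    constructor
    · intro h v hv
      have h1 : φ₀ g ⟨v, hv⟩ = ⟨v, hv⟩ := by rw [h]; rfl
      have h2 : g * v * g⁻¹ = v := by
        have := congrArg Subtype.val h1
        rwa [MulAut.conjNormal_apply] at this
      calc v * g = (g * v * g⁻¹) * g := by rw [h2]
        _ = g * v := by group
    · intro h
      apply MulEquiv.ext
      intro v
      apply Subtype.ext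
      rw [MulAut.conjNormal_apply]
      have := h v v.2
      rw [← this]
      simp
  let φ : (G ⧸ P) →* MulAut V := QuotientGroup.lift P φ₀ (fun g hg => (hker g).mpr hg)
  have hφ : ∀ g : G, φ (π g) = φ₀ g := fun g => rfl
  have hφinj : ∀ x : G ⧸ P, φ x = 1 → x = 1 := by
    intro x hx
    obtain ⟨g, rfl⟩ := hπs x
    rw [hφ] at hx
    exact (QuotientGroup.eq_one_iff g).mpr ((hker g).mp hx)
  have hVexp : ∀ m : V, m ^ p = 1 := by
    intro m
    apply Subtype.ext
    rw [Subgroup.coe_pow]
    exact m.2.2.2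
  have hπaT : π a ∈ (T : Subgroup (G ⧸ P)) := by
    rw [hTcoe]; exact Subgroup.mem_map_of_mem _ ha
  have hnorm : ∀ z ∈ Z, π a * z * (π a)⁻¹ ∈ Z := by
    intro z hz
    exact (Subgroup.mem_normalizer_iff.mp (hTZ hπaT) z).mp hz
  have hD1 : ∀ m : V, (fun m : V => φ (π a) m / m) ((fun m : V => φ (π a) m / m) m) = 1 := by
    intro m
    have h0 := hq m m.2
    apply Subtype.ext
    show ((φ₀ a (φ₀ a m / m) / (φ₀ a m / m) : V) : G) = 1
    rw [Subgroup.coe_div, MulAut.conjNormal_apply, Subgroup.coe_div, MulAut.conjNormal_apply]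
    have hc : Commute ⁅(m : G), a⁆ a := commutatorElement_eq_one_iff_commute.mp h0
    have h3 : a * (m : G) * a⁻¹ / (m : G) = ⁅(m : G), a⁆⁻¹ := by
      rw [commutatorElement_inv, commutatorElement_def, div_eq_mul_inv]
    rw [h3]
    have hc' : Commute a ⁅(m : G), a⁆⁻¹ := hc.symm.inv_right
    rw [hc'.eq, mul_inv_cancel_right, div_self']
  have hD : ∀ m : V, (fun m : V => φ (π a) m / m)^[p - 1] m = 1 := by
    intro m
    have h3 : 3 ≤ p := by
      have := hp.two_le
      omega
    have : p - 1 = (p - 3) + 2 := by omega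
    rw [this, Function.iterate_add_apply]
    have h2 : (fun m : V => φ (π a) m / m)^[2] m = 1 := hD1 m
    rw [h2]
    apply Function.iterate_fixed
    rw [map_one, div_one]
  have h1 := Cfsg.Agent.Lib.Helper13.mulAut_commutator_eq_one hp hVexp φ Z hZab hZcop (π a) hnorm hD
  have h2 : ∀ z ∈ Z, π a * z = z * π a := by
    intro z hz
    have := hφinj _ (h1 z hz)
    have h3 : π a * z * (π a)⁻¹ = z := by
      have h4 := mul_inv_eq_one.mp this
      exact h4
    calc π a * z = (π a * z * (π a)⁻¹) * π a := by group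
      _ = z * π a := by rw [h3]
  have h3 := eq_one_of_centralizes T Z hTZ htop hO (π a) hπaT h2
  exact (QuotientGroup.eq_one_iff a).mp h3

open Cfsg.Agent.Lib.Helper27 in
/-- If all elementary abelian subgroups of largest order of `S` lie in a normal subgroup `P ≤ S`
of `G`, then `J(S)` is normal in `G`. -/
theorem thompsonSubgroupOf_normal_of_le (S P : Subgroup G) [hPn : P.Normal] (hPS : P ≤ S)
    (h : ∀ B, IsMaxEAIn p S B → B ≤ P) : (Cfsg.thompsonSubgroupOf p S).Normal := by
  have key : ∀ g : G, (Cfsg.thompsonSubgroupOf p S).map (MulAut.conj g).toMonoidHom ≤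
      Cfsg.thompsonSubgroupOf p S := by
    intro g
    rw [thompsonSubgroupOf_eq, map_sSup']
    apply iSup₂_le
    intro B hB
    apply le_sSup
    refine ⟨?_, (ea_map_equiv_iff p _ B).mpr hB.2.1, ?_⟩
    · refine le_trans ?_ hPS
      rintro _ ⟨b, hb, rfl⟩
      exact hPn.conj_mem b (h B hB hb) g
    · intro C hC hCea
      rw [card_map_equiv]
      exact hB.2.2 C hC hCea
  constructor
  intro n hn g
  exact key g ⟨n, hn, rfl⟩

open Cfsg.Agent.Lib.Helper27 in
/-- Thompson replacement: an elementary abelian subgroup of largest order of `S` not centralizing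
the normal elementary abelian subgroup `V` yields an element of `S` acting quadratically and
nontrivially on `V`. -/
theorem exists_quadratic (S V : Subgroup G) [hVn : V.Normal] (hVS : V ≤ S)
    (hV : Cfsg.IsElementaryAbelian p V) (B : Subgroup G) (hB : IsMaxEAIn p S B)
    (hBV : ¬ B ≤ centralizer (V : Set G)) :
    ∃ a ∈ S, a ∉ centralizer (V : Set G) ∧ ∀ v ∈ V, ⁅⁅v, a⁆, a⁆ = 1 := by
  set V' : Subgroup S := V.subgroupOf S with hV'
  set A : Subgroup S := B.subgroupOf S with hA
  have hV'n : V'.Normal := Subgroup.Normal.subgroupOf hVn S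
  have hV'map : V'.map S.subtype = V := Subgroup.map_subgroupOf_eq_of_le hVS
  have hAmap : A.map S.subtype = B := Subgroup.map_subgroupOf_eq_of_le hB.1
  have hV'ea : Cfsg.IsElementaryAbelian p V' := by
    rw [← ea_map_subtype_iff, hV'map]; exact hV
  have hAmax : A ∈ Cfsg.maxElementaryAbelianSubgroups p S := by
    refine ⟨?_, ?_⟩
    · rw [← ea_map_subtype_iff, hAmap]; exact hB.2.1
    · intro C hC
      have := hB.2.2 (C.map S.subtype) (Subgroup.map_subtype_le C) ((ea_map_subtype_iff p S C).mpr hC)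
      rw [card_map_subtype'] at this
      rw [← card_map_subtype' S A, hAmap]
      exact this
  obtain ⟨_, hquad, hnt⟩ := Cfsg.Agent.S0607.result V' hV'ea A hAmax
  set A₀ : Subgroup S := ⁅V', A⁆ ⊔ (A ⊓ centralizer ((⁅V', A⁆ : Subgroup S) : Set S)) with hA₀
  have hne : ⁅V', A⁆ ≠ ⊥ := by
    rw [Ne, Subgroup.commutator_eq_bot_iff_le_centralizer]
    intro hle
    apply hBV
    intro b hb
    rw [Subgroup.mem_centralizer_iff]
    intro v hv
    have hbS : b ∈ S := hB.1 hb
    have hvS : v ∈ S := hVS hv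
    have h1 : (⟨v, hvS⟩ : S) ∈ V' := Subgroup.mem_subgroupOf.mpr hv
    have h2 : (⟨b, hbS⟩ : S) ∈ A := Subgroup.mem_subgroupOf.mpr hb
    have h3 := Subgroup.mem_centralizer_iff.mp (hle h1) ⟨b, hbS⟩ h2
    have := congrArg Subtype.val h3
    exact this.symm
  have hne₀ := hnt hne
  rw [Ne, Subgroup.commutator_eq_bot_iff_le_centralizer] at hne₀
  obtain ⟨v', hv', hv'c⟩ := SetLike.not_le_iff_exists.mp hne₀
  rw [Subgroup.mem_centralizer_iff] at hv'c
  push Not at hv'c
  obtain ⟨a', ha', hav⟩ := hv'c
  refine ⟨(a' : G), a'.2, ?_, ?_⟩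
  · intro hc
    apply hav
    have := Subgroup.mem_centralizer_iff.mp hc (v' : G) (Subgroup.mem_subgroupOf.mp hv')
    apply Subtype.ext
    exact this.symm
  · intro v hv
    have hvS : v ∈ S := hVS hv
    have h1 : (⟨v, hvS⟩ : S) ∈ V' := Subgroup.mem_subgroupOf.mpr hv
    have h2 : ⁅⁅(⟨v, hvS⟩ : S), a'⁆, a'⁆ ∈ ⁅⁅V', A₀⁆, A₀⁆ :=
      Subgroup.commutator_mem_commutator (Subgroup.commutator_mem_commutator h1 ha') ha'
    rw [hquad, Subgroup.mem_bot] at h2
    have := congrArg Subtype.val h2
    exact this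

/-- **The final configuration** of Thompson's normal `p`-complement theorem is contradictory. -/
theorem final_config (hp2 : p ≠ 2) (S : Sylow p G) (hSco : IsCoatom (S : Subgroup G))
    (hC : centralizer ((Cfsg.pCore p G : Subgroup G) : Set G) ≤ Cfsg.pCore p G)
    (hQ : Cfsg.HasNormalPComplement p (G ⧸ Cfsg.pCore p G))
    (hNJ : normalizer (Cfsg.thompsonSubgroupOf p (S : Subgroup G) : Set G) = S)
    (hCZ : centralizer (((S : Subgroup G) ⊓ centralizer (S : Set G) : Subgroup G) : Set G) = S) :
    False := by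
  have hPn : (Cfsg.pCore p G).Normal := pCore_normal p
  have hPS : Cfsg.pCore p G ≤ S := pCore_le_sylow S
  have hCV := centralizer_omegaCenter_eq S hC hCZ
  have hVn : (omegaCenter p (Cfsg.pCore p G)).Normal := omegaCenter_normal _
  have hVP : omegaCenter p (Cfsg.pCore p G) ≤ Cfsg.pCore p G := fun x hx => hx.1
  have hVea : Cfsg.IsElementaryAbelian p (omegaCenter p (Cfsg.pCore p G)) := by
    rw [Cfsg.Agent.Lib.Helper27.isElementaryAbelian_iff]
    refine ⟨?_, fun a ha => ha.2.2⟩
    intro a ha b hb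
    exact Subgroup.mem_centralizer_iff.mp hb.2.1 a ha.1
  by_cases hJ : ∀ B, Cfsg.Agent.Lib.Helper27.IsMaxEAIn p (S : Subgroup G) B → B ≤ Cfsg.pCore p G
  · have hn := thompsonSubgroupOf_normal_of_le (S : Subgroup G) (Cfsg.pCore p G) hPS hJ
    rw [Subgroup.normalizer_eq_top_iff.mpr hn] at hNJ
    exact hSco.1 hNJ.symm
  · push Not at hJ
    obtain ⟨B, hB, hBP⟩ := hJ
    rw [← hCV] at hBP
    obtain ⟨a, haS, haV, hq⟩ := exists_quadratic (S : Subgroup G) _ (hVP.trans hPS) hVea B hB hBP
    apply haV
    rw [hCV]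
    exact quadratic_mem_pCore hp2 S hSco hQ hCV a haS hq

end Final2

end ThompsonNPC

end Cfsg.Agent.Lib.Helper1
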