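import Mathlib
import Cfsg.Prelude
import Cfsg.Agent.Lib.Helper9.Layer3
import Cfsg.Agent.Lib.Helper17.GfsAction

set_option autoImplicit false


namespace Cfsg.Agent.Lib.Helper1.TCG

open Equiv Equiv.Perm Subgroup MulAction
open scoped commutatorElement

/-- The Klein four-group in `S₄`. -/
def kleinFour : Subgroup (Equiv.Perm (Fin 4)) where
  carrier := {σ | σ = 1 ∨ σ = Equiv.swap 0 1 * Equiv.swap 2 3 ∨
    σ = Equiv.swap 0 2 * Equiv.swap 1 3 ∨ σ = Equiv.swap 0 3 * Equiv.swap 1 2}
  one_mem' := Or.inl rfl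
  mul_mem' := by
    rintro _ _ (rfl | rfl | rfl | rfl) (rfl | rfl | rfl | rfl) <;> decide
  inv_mem' := by
    rintro _ (rfl | rfl | rfl | rfl) <;> decide

instance kleinFour_decidable : DecidablePred (· ∈ kleinFour) := fun σ =>
  inferInstanceAs (Decidable (σ = 1 ∨ σ = Equiv.swap 0 1 * Equiv.swap 2 3 ∨
    σ = Equiv.swap 0 2 * Equiv.swap 1 3 ∨ σ = Equiv.swap 0 3 * Equiv.swap 1 2))

set_option maxRecDepth 100000 in
theorem comm_alt_mem_kleinFour : ∀ g h : Equiv.Perm (Fin 4), Equiv.Perm.sign g = 1 →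
    Equiv.Perm.sign h = 1 → g * h * g⁻¹ * h⁻¹ ∈ kleinFour := by decide

set_option maxRecDepth 100000 in
theorem comm_kleinFour : ∀ g h : Equiv.Perm (Fin 4), g ∈ kleinFour → h ∈ kleinFour →
    g * h * g⁻¹ * h⁻¹ = 1 := by decide

theorem perm_fin4_solvable : Group.IsSolvable (Equiv.Perm (Fin 4)) := by
  refine ⟨⟨3, ?_⟩⟩
  have h1 : derivedSeries (Equiv.Perm (Fin 4)) 1 ≤ alternatingGroup (Fin 4) := by
    rw [derivedSeries_succ, derivedSeries_zero, Subgroup.commutator_le]
    intro g _ h _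
    rw [Equiv.Perm.mem_alternatingGroup, commutatorElement_def]
    simp only [map_mul, map_inv]
    rw [mul_comm (sign g) (sign h), mul_assoc (sign h), mul_inv_cancel, mul_one, mul_inv_cancel]
  have h2 : derivedSeries (Equiv.Perm (Fin 4)) 2 ≤ kleinFour := by
    rw [derivedSeries_succ, Subgroup.commutator_le]
    intro g hg h hh
    exact comm_alt_mem_kleinFour g h (Equiv.Perm.mem_alternatingGroup.mp (h1 hg))
      (Equiv.Perm.mem_alternatingGroup.mp (h1 hh))
  rw [eq_bot_iff, derivedSeries_succ, Subgroup.commutator_le]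
  intro g hg h hh
  rw [Subgroup.mem_bot]
  exact comm_kleinFour g h (h2 hg) (h2 hh)

theorem perm_solvable_of_card_le (X : Type*) [Finite X] (h : Nat.card X ≤ 4) :
    Group.IsSolvable (Equiv.Perm X) := by
  classical
  haveI := Fintype.ofFinite X
  have hc : Fintype.card X ≤ Fintype.card (Fin 4) := by
    rw [Fintype.card_fin, ← Nat.card_eq_fintype_card]; exact h
  obtain ⟨ι⟩ := Function.Embedding.nonempty_of_card_le hc
  haveI := perm_fin4_solvable
  exact Group.isSolvable_of_isSolvable_injective (Equiv.Perm.viaEmbeddingHom_injective ι)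

/-- A homomorphism from a perfect group to a solvable group is trivial. -/
theorem hom_trivial_of_perfect_of_solvable {G G' : Type*} [Group G] [Group G']
    (hG : commutator G = ⊤) [Group.IsSolvable G'] (f : G →* G') (g : G) : f g = 1 := by
  have hk : ∀ n : ℕ, (⊤ : Subgroup G) ≤ (derivedSeries G' n).comap f := by
    intro n
    induction n with
    | zero => rw [derivedSeries_zero, Subgroup.comap_top]
    | succ n ih =>
      rw [← hG, commutator_def, Subgroup.commutator_le]
      intro a _ b _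
      rw [Subgroup.mem_comap, map_commutatorElement, derivedSeries_succ]
      exact Subgroup.commutator_mem_commutator (ih (Subgroup.mem_top a)) (ih (Subgroup.mem_top b))
  obtain ⟨n, hn⟩ := (Group.IsSolvable.solvable : ∃ n, derivedSeries G' n = ⊥)
  have := hk n (Subgroup.mem_top g)
  rw [hn, Subgroup.mem_comap, Subgroup.mem_bot] at this
  exact this

open Equiv Equiv.Perm Subgroup MulAction
open scoped commutatorElement Pointwise

variable {α : Type*} [Fintype α] [DecidableEq α]

section PartI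

variable {S : Set (Perm α)} {p : α → Prop} [DecidablePred p] {x : α}

/-- the orbit is invariant -/
theorem orb_inv (hp : ∀ y, p y ↔ y ∈ MulAction.orbit (closure S) x) {τ : Perm α}
    (hτ : τ ∈ closure S) (y : α) : p (τ y) ↔ p y := by
  have key : ∀ σ : Perm α, σ ∈ closure S → ∀ y, p y → p (σ y) := by
    intro σ hσ y hy
    rw [hp] at hy ⊢
    obtain ⟨g, rfl⟩ := hy
    refine ⟨⟨σ, hσ⟩ * g, ?_⟩
    show (⟨σ, hσ⟩ * g) • x = σ (g • x)
    rw [mul_smul]; rfl
  refine ⟨fun h => ?_, key τ hτ y⟩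
  have := key τ⁻¹ (inv_mem hτ) _ h
  simpa using this

theorem supp_sub (hS : ∀ u ∈ S, u.IsThreeCycle)
    (hp : ∀ y, p y ↔ y ∈ MulAction.orbit (closure S) x) {u : Perm α} (hu : u ∈ S)
    {y : α} (hy : p y) (huy : u y ≠ y) : ∀ z, u z ≠ z → p z := by
  intro z hz
  obtain ⟨i, rfl⟩ := (hS u hu).isCycle.exists_pow_eq huy hz
  exact (orb_inv hp (pow_mem (subset_closure hu) i) y).mpr hy

theorem supp_dichotomy (hS : ∀ u ∈ S, u.IsThreeCycle)
    (hp : ∀ y, p y ↔ y ∈ MulAction.orbit (closure S) x) {u : Perm α} (hu : u ∈ S) :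
    (∀ z, u z ≠ z → p z) ∨ (∀ z, p z → u z = z) := by
  by_cases h : ∃ y, p y ∧ u y ≠ y
  · obtain ⟨y, hy, huy⟩ := h
    exact Or.inl (supp_sub hS hp hu hy huy)
  · push Not at h
    exact Or.inr h

/-- the local group on the orbit -/
def locGroup (S : Set (Perm α)) (p : α → Prop) [DecidablePred p] : Subgroup (Perm (Subtype p)) :=
  closure {σ' : Perm (Subtype p) | ofSubtype σ' ∈ S}

theorem map_locGroup_le : (locGroup S p).map ofSubtype ≤ closure S := by
  rw [Subgroup.map_le_iff_le_comap, locGroup, closure_le]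
  intro σ' hσ'
  exact subset_closure hσ'

theorem exists_loc (hS : ∀ u ∈ S, u.IsThreeCycle)
    (hp : ∀ y, p y ↔ y ∈ MulAction.orbit (closure S) x) {τ : Perm α} (hτ : τ ∈ closure S) :
    ∀ z (hz : p z), ∃ g' ∈ locGroup S p, ((g' ⟨z, hz⟩ : Subtype p) : α) = τ z := by
  induction hτ using Subgroup.closure_induction with
  | mem u hu =>
    intro z hz
    rcases supp_dichotomy hS hp hu with h | h
    · refine ⟨u.subtypePerm (orb_inv hp (subset_closure hu)), subset_closure ?_, rfl⟩
      show ofSubtype _ ∈ S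
      rw [ofSubtype_subtypePerm _ h]; exact hu
    · exact ⟨1, one_mem _, (h z hz).symm⟩
  | one => intro z hz; exact ⟨1, one_mem _, rfl⟩
  | mul a b ha hb iha ihb =>
    intro z hz
    obtain ⟨g₂, hg₂, e₂⟩ := ihb z hz
    have hz' : p (b z) := (orb_inv hp hb z).mpr hz
    obtain ⟨g₁, hg₁, e₁⟩ := iha (b z) hz'
    refine ⟨g₁ * g₂, mul_mem hg₁ hg₂, ?_⟩
    have : g₂ ⟨z, hz⟩ = ⟨b z, hz'⟩ := Subtype.ext e₂
    rw [Perm.mul_apply, this, e₁, Perm.mul_apply]
  | inv a ha iha =>
    intro z hz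
    have hz' : p (a⁻¹ z) := (orb_inv hp (inv_mem ha) z).mpr hz
    obtain ⟨g, hg, e⟩ := iha (a⁻¹ z) hz'
    refine ⟨g⁻¹, inv_mem hg, ?_⟩
    have : g ⟨a⁻¹ z, hz'⟩ = ⟨z, hz⟩ := Subtype.ext (by rw [e]; simp)
    rw [← this]; simp

theorem locGroup_pretransitive (hS : ∀ u ∈ S, u.IsThreeCycle)
    (hp : ∀ y, p y ↔ y ∈ MulAction.orbit (closure S) x) :
    IsPretransitive (locGroup S p) (Subtype p) := by
  have hx : p x := (hp x).mpr (MulAction.mem_orbit_self x)
  have key : ∀ y : Subtype p, ∃ g : locGroup S p, g • (⟨x, hx⟩ : Subtype p) = y := by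
    rintro ⟨y, hy⟩
    obtain ⟨τ, hτ⟩ := (hp y).mp hy
    obtain ⟨g', hg', e⟩ := exists_loc hS hp τ.2 x hx
    exact ⟨⟨g', hg'⟩, Subtype.ext (e.trans hτ)⟩
  refine ⟨fun a b => ?_⟩
  obtain ⟨g, hg⟩ := key a
  obtain ⟨h, hh⟩ := key b
  exact ⟨h * g⁻¹, by rw [← hg, ← hh, mul_smul, inv_smul_smul]⟩

theorem gen_isThreeCycle (hS : ∀ u ∈ S, u.IsThreeCycle) {σ' : Perm (Subtype p)}
    (h : ofSubtype σ' ∈ S) : σ'.IsThreeCycle := by
  have := hS _ h
  rwa [IsThreeCycle, cycleType_ofSubtype] at this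

theorem locGroup_preprimitive (hS : ∀ u ∈ S, u.IsThreeCycle)
    (hp : ∀ y, p y ↔ y ∈ MulAction.orbit (closure S) x) :
    IsPreprimitive (locGroup S p) (Subtype p) := by
  haveI := locGroup_pretransitive hS hp
  have hx : p x := (hp x).mpr (MulAction.mem_orbit_self x)
  refine IsPreprimitive.of_isTrivialBlock_base (a := (⟨x, hx⟩ : Subtype p)) ?_
  intro B haB hB
  by_cases hsub : B.Subsingleton
  · exact Or.inl hsub
  right
  rw [Set.not_subsingleton_iff] at hsub
  obtain ⟨b₁, hb₁, b₂, hb₂, hne⟩ := hsub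
  -- every generator fixes B
  have hgen : ∀ g : Perm (Subtype p), ∀ hg : g ∈ locGroup S p,
      (⟨g, hg⟩ : locGroup S p) • B = B := by
    intro g hg
    induction hg using Subgroup.closure_induction with
    | mem u hu =>
      rcases hB.smul_eq_or_disjoint ⟨u, subset_closure hu⟩ with h | h
      · exact h
      exfalso
      have h3 : u.IsThreeCycle := gen_isThreeCycle hS hu
      have hd : ∀ b ∈ B, u b ∉ B := by
        intro b hb hub
        exact Set.disjoint_left.mp h (Set.smul_mem_smul_set (a := (⟨u, subset_closure hu⟩ : locGroup S p)) hb) hub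
      have h1 : u b₁ ≠ b₁ := fun e => hd b₁ hb₁ (by rw [e]; exact hb₁)
      have h2 : u b₂ ≠ b₂ := fun e => hd b₂ hb₂ (by rw [e]; exact hb₂)
      obtain ⟨i, hi⟩ := h3.isCycle.exists_pow_eq h1 h2
      have ho : orderOf u = 3 := h3.orderOf
      rw [← pow_mod_orderOf, ho] at hi
      have hu3 : u ^ 3 = 1 := by rw [← ho]; exact pow_orderOf_eq_one u
      have hi3 : i % 3 = 0 ∨ i % 3 = 1 ∨ i % 3 = 2 := by omega
      rcases hi3 with h0 | h0 | h0 <;> rw [h0] at hi
      · exact hne (by simpa using hi)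
      · exact hd b₁ hb₁ (by rw [pow_one] at hi; rw [hi]; exact hb₂)
      · apply hd b₂ hb₂
        have : u b₂ = b₁ := by
          rw [← hi, ← Perm.mul_apply, ← pow_succ', hu3, Perm.one_apply]
        rw [this]; exact hb₁
    | one => exact one_smul _ B
    | mul a b ha hb iha ihb =>
      have : (⟨a * b, mul_mem ha hb⟩ : locGroup S p) = ⟨a, ha⟩ * ⟨b, hb⟩ := rfl
      rw [this, mul_smul, ihb, iha]
    | inv a ha iha =>
      have : (⟨a⁻¹, inv_mem ha⟩ : locGroup S p) = (⟨a, ha⟩ : locGroup S p)⁻¹ := rfl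
      rw [this, inv_smul_eq_iff, iha]
  rw [Set.eq_univ_iff_forall]
  intro y
  obtain ⟨g, hg⟩ := MulAction.exists_smul_eq (locGroup S p) (⟨x, hx⟩ : Subtype p) y
  rw [← hg, ← hgen g.1 g.2]
  exact Set.smul_mem_smul_set haB

/-- **Generation by 3-cycles**: a group generated by 3-cycles contains the alternating group
on each of its nontrivial orbits. -/
theorem alt_le_closure (hS : ∀ u ∈ S, u.IsThreeCycle)
    (hp : ∀ y, p y ↔ y ∈ MulAction.orbit (closure S) x) (hx : ∃ u ∈ S, u x ≠ x) :
    (alternatingGroup (Subtype p)).map ofSubtype ≤ closure S := by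
  refine le_trans (Subgroup.map_mono ?_) (map_locGroup_le (S := S) (p := p))
  obtain ⟨u, hu, hux⟩ := hx
  have hpx : p x := (hp x).mpr (MulAction.mem_orbit_self x)
  have hsup := supp_sub hS hp hu hpx hux
  have hmem : u.subtypePerm (orb_inv hp (subset_closure hu)) ∈ locGroup S p := by
    apply Subgroup.subset_closure
    show ofSubtype _ ∈ S
    rw [ofSubtype_subtypePerm _ hsup]; exact hu
  have h3 : (u.subtypePerm (orb_inv hp (subset_closure hu))).IsThreeCycle := by
    apply gen_isThreeCycle hS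
    rw [ofSubtype_subtypePerm _ hsup]; exact hu
  exact Equiv.Perm.alternatingGroup_le_of_isPreprimitive_of_isThreeCycle_mem
    (locGroup_preprimitive hS hp) h3 hmem

end PartI

open Equiv Equiv.Perm Subgroup MulAction
open scoped commutatorElement Pointwise

theorem alt_quasisimple (β : Type*) [Fintype β] [DecidableEq β] (h : 5 ≤ Nat.card β) :
    Cfsg.IsQuasisimple ↥(alternatingGroup β) := by
  haveI := alternatingGroup.isSimpleGroup h
  haveI hnt : Nontrivial ↥(alternatingGroup β) := inferInstance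
  have hcb : Subgroup.center (alternatingGroup β) = ⊥ :=
    alternatingGroup.center_eq_bot (le_trans (by norm_num) h)
  apply Cfsg.Agent.Lib.Helper9.qs_of_perfect_of_normal
  · have hn : (commutator ↥(alternatingGroup β)).Normal := inferInstance
    rcases hn.eq_bot_or_eq_top with h0 | h0
    · exfalso
      have hc : Subgroup.center ↥(alternatingGroup β) = ⊤ := by
        rw [eq_top_iff]
        intro g _
        rw [Subgroup.mem_center_iff]
        intro k
        have : ⁅k, g⁆ ∈ commutator ↥(alternatingGroup β) :=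
          Subgroup.commutator_mem_commutator (Subgroup.mem_top k) (Subgroup.mem_top g)
        rw [h0, Subgroup.mem_bot, commutatorElement_eq_one_iff_mul_comm] at this
        exact this
      rw [hcb] at hc
      exact bot_ne_top hc
    · exact h0
  · exact hnt
  · intro N hN
    rcases hN.eq_bot_or_eq_top with h0 | h0
    · right; rw [h0]; exact bot_le
    · left; exact h0

variable {α : Type*} [Fintype α] [DecidableEq α]

theorem moved_of_commute {t g : Perm α} (hg : g * t = t * g) {b : α} (hb : t b ≠ b) :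
    t (g b) ≠ g b := by
  intro h
  apply hb
  apply g.injective
  rw [← h, ← Perm.mul_apply, hg, Perm.mul_apply, h]

theorem comm_apply_of_commute {t g h : Perm α} (ht : t.IsThreeCycle) (hg : g * t = t * g)
    (hh : h * t = t * h) {b : α} (hb : t b ≠ b) : g (h b) = h (g b) := by
  obtain ⟨i, hi⟩ := ht.isCycle.exists_pow_eq hb (moved_of_commute hg hb)
  obtain ⟨j, hj⟩ := ht.isCycle.exists_pow_eq hb (moved_of_commute hh hb)
  have hgj : g * t ^ j = t ^ j * g := (Commute.pow_right hg j)
  have hhi : h * t ^ i = t ^ i * h := (Commute.pow_right hh i)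
  rw [← hi, ← hj, ← Perm.mul_apply, ← Perm.mul_apply, hgj, hhi, Perm.mul_apply, Perm.mul_apply,
    ← hi, ← hj, ← Perm.mul_apply, ← Perm.mul_apply, ← pow_add, ← pow_add, add_comm]

/-- A perfect group containing a 3-cycle cannot centralize it. -/
theorem not_centralizes {K' : Subgroup (Perm α)} (hperf : ⁅K', K'⁆ = K') {t : Perm α}
    (ht : t.IsThreeCycle) (htK : t ∈ K') (hc : ∀ k ∈ K', k * t = t * k) : False := by
  obtain ⟨a, ha⟩ : ∃ a, t a ≠ a := by
    by_contra hcon
    push Not at hcon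
    exact ht.ne_one (Perm.ext hcon)
  have hle : K' ≤ MulAction.stabilizer (Perm α) a := by
    rw [← hperf, Subgroup.commutator_le]
    intro g hg h hh
    rw [MulAction.mem_stabilizer_iff, Perm.smul_def, commutatorElement_def]
    have hg' : g⁻¹ * t = t * g⁻¹ := by
      have := hc g hg
      rw [inv_mul_eq_iff_eq_mul, ← mul_assoc, this, mul_assoc, mul_inv_cancel, mul_one]
    have hh' : h⁻¹ * t = t * h⁻¹ := by
      have := hc h hh
      rw [inv_mul_eq_iff_eq_mul, ← mul_assoc, this, mul_assoc, mul_inv_cancel, mul_one]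
    have hb : t (g⁻¹ (h⁻¹ a)) ≠ g⁻¹ (h⁻¹ a) := moved_of_commute hg' (moved_of_commute hh' ha)
    have := comm_apply_of_commute ht (hc g hg) (hc h hh) hb
    simp only [Perm.mul_apply]
    rw [this]
    simp
  have := hle htK
  rw [MulAction.mem_stabilizer_iff, Perm.smul_def] at this
  exact ha this

/-- In a group whose generalized Fitting subgroup is quasisimple, it equals every component. -/
theorem gfs_eq_of_component {G : Type*} [Group G] [Finite G]
    (hF : Cfsg.IsQuasisimple ↥(Cfsg.generalizedFittingSubgroup G)) (L : Subgroup G)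
    (hL : Cfsg.IsComponent L) : Cfsg.generalizedFittingSubgroup G = L := by
  have hle : L ≤ Cfsg.generalizedFittingSubgroup G :=
    (Cfsg.Agent.Lib.Helper9.comp_le_layer hL).trans Cfsg.Agent.Lib.Helper9.layer_le_gfs
  have hc := Cfsg.Agent.Lib.Helper9.isComponent_subgroupOf hL hle
  rcases Cfsg.Agent.Lib.Helper9.qs_subnormal_eq_top_or_le_center hF _ hc.1 with h | h
  · rw [Subgroup.subgroupOf_eq_top] at h
    exact le_antisymm h hle
  · exfalso
    apply Cfsg.Agent.Lib.Helper9.qs_not_isSolvable hc.2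
    apply Group.isSolvable_of_comm
    intro a b
    have := Subgroup.mem_center_iff.mp (h a.2) b.1
    exact Subtype.ext this.symm

open Equiv Equiv.Perm Subgroup MulAction
open scoped commutatorElement Pointwise

variable {α : Type*} [Fintype α] [DecidableEq α]

/-- the 3-cycles of `H` -/
def tcs (H : Subgroup (Perm α)) : Set (Perm α) := {u | u ∈ H ∧ u.IsThreeCycle}

theorem tcs_three (H : Subgroup (Perm α)) : ∀ u ∈ tcs H, u.IsThreeCycle := fun _ hu => hu.2

theorem closure_tcs_le (H : Subgroup (Perm α)) : closure (tcs H) ≤ H :=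
  (closure_le _).mpr fun _ hu => hu.1

theorem isThreeCycle_conj {u : Perm α} (hu : u.IsThreeCycle) (h : Perm α) :
    (h * u * h⁻¹).IsThreeCycle := by
  rw [IsThreeCycle, cycleType_conj]; exact hu

theorem closure_tcs_conj {H : Subgroup (Perm α)} {h τ : Perm α} (hh : h ∈ H)
    (hτ : τ ∈ closure (tcs H)) : h * τ * h⁻¹ ∈ closure (tcs H) := by
  induction hτ using Subgroup.closure_induction with
  | mem u hu => exact subset_closure ⟨H.mul_mem (H.mul_mem hh hu.1) (H.inv_mem hh), isThreeCycle_conj hu.2 h⟩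
  | one => simp
  | mul a b _ _ iha ihb =>
    have : h * (a * b) * h⁻¹ = (h * a * h⁻¹) * (h * b * h⁻¹) := by group
    rw [this]; exact mul_mem iha ihb
  | inv a _ iha =>
    have : h * a⁻¹ * h⁻¹ = (h * a * h⁻¹)⁻¹ := by group
    rw [this]; exact inv_mem iha

theorem le_normalizer_of_conj {H K' : Subgroup (Perm α)}
    (hKn : ∀ h ∈ H, ∀ k ∈ K', h * k * h⁻¹ ∈ K') : H ≤ normalizer (K' : Set (Perm α)) := by
  intro h hh
  rw [Subgroup.mem_normalizer_iff]
  intro k
  refine ⟨hKn h hh k, fun hk => ?_⟩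
  have := hKn h⁻¹ (inv_mem hh) _ hk
  simpa [mul_assoc] using this

theorem K_le_T {H K' : Subgroup (Perm α)}
    (hKn : ∀ h ∈ H, ∀ k ∈ K', h * k * h⁻¹ ∈ K') (hKH : K' ≤ H)
    (hKq : Cfsg.IsQuasisimple ↥K') (hKc : ∀ c ∈ H, (∀ k ∈ K', k * c = c * k) → c ∈ K')
    {t₀ : Perm α} (ht₀ : t₀ ∈ tcs H) : K' ≤ closure (tcs H) := by
  have hY : zpowers t₀ ≤ normalizer (K' : Set (Perm α)) := by
    rw [zpowers_le]; exact le_normalizer_of_conj hKn ht₀.1
  have hperf := Cfsg.Agent.Lib.Helper17.commutator_self_of_isQuasisimple hKq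
  rcases Cfsg.Agent.Lib.Helper17.commutator_eq_self_or_bot_of_isQuasisimple hKq hY with h | h
  · rw [← h, Subgroup.commutator_le]
    intro k hk y hy
    have hyT : y ∈ closure (tcs H) := by
      have : zpowers t₀ ≤ closure (tcs H) := by rw [zpowers_le]; exact subset_closure ht₀
      exact this hy
    rw [commutatorElement_def]
    exact mul_mem (closure_tcs_conj (hKH hk) hyT) (inv_mem hyT)
  · exfalso
    rw [Subgroup.commutator_eq_bot_iff_le_centralizer] at h
    have hc : ∀ k ∈ K', k * t₀ = t₀ * k := by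
      intro k hk
      have := Subgroup.mem_centralizer_iff.mp (h hk) t₀ (mem_zpowers t₀)
      exact this.symm
    exact not_centralizes hperf ht₀.2 (hKc t₀ ht₀.1 hc) hc

theorem exists_gen_moved {S : Set (Perm α)} {k : Perm α} (hk : k ∈ closure S) {x : α}
    (hx : k x ≠ x) : ∃ u ∈ S, u x ≠ x := by
  by_contra hcon
  push Not at hcon
  have : closure S ≤ MulAction.stabilizer (Perm α) x := by
    rw [closure_le]
    intro u hu
    exact hcon u hu
  exact hx (this hk)

theorem five_le_orbit {T K' : Subgroup (Perm α)} (hKT : K' ≤ T) (hperf : ⁅K', K'⁆ = K')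
    {k : Perm α} (hk : k ∈ K') {x : α} (hx : k x ≠ x) :
    5 ≤ Nat.card (MulAction.orbit T x) := by
  by_contra h
  push Not at h
  haveI := perm_solvable_of_card_le (MulAction.orbit T x) (by omega)
  have hc : commutator ↥K' = ⊤ := by
    apply Subgroup.map_injective K'.subtype_injective
    rw [Subgroup.map_subtype_commutator, hperf, ← MonoidHom.range_eq_map, Subgroup.range_subtype]
  have := hom_trivial_of_perfect_of_solvable hc
    ((MulAction.toPermHom T (MulAction.orbit T x)).comp (Subgroup.inclusion hKT)) ⟨k, hk⟩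
  have h2 := congrArg (fun σ : Perm (MulAction.orbit T x) =>
    ((σ ⟨x, MulAction.mem_orbit_self x⟩ : MulAction.orbit T x) : α)) this
  exact hx h2

section withp

variable {S : Set (Perm α)} {p : α → Prop} [DecidablePred p] {x : α}

theorem closure_le_normalizer_alt (hS : ∀ u ∈ S, u.IsThreeCycle)
    (hp : ∀ y, p y ↔ y ∈ MulAction.orbit (closure S) x) :
    closure S ≤ normalizer (((alternatingGroup (Subtype p)).map ofSubtype : Subgroup (Perm α)) :
      Set (Perm α)) := by
  rw [closure_le]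
  intro u hu
  rcases supp_dichotomy hS hp hu with h | h
  · apply Subgroup.le_normalizer
    refine ⟨u.subtypePerm (orb_inv hp (subset_closure hu)), ?_, ofSubtype_subtypePerm _ h⟩
    apply IsThreeCycle.mem_alternatingGroup
    apply gen_isThreeCycle hS
    rw [ofSubtype_subtypePerm _ h]; exact hu
  · apply Subgroup.centralizer_le_normalizer
    rw [Subgroup.mem_centralizer_iff]
    rintro _ ⟨σ', _, rfl⟩
    have hd : Perm.Disjoint (ofSubtype σ') u := by
      intro y
      by_cases hy : p y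
      · exact Or.inr (h y hy)
      · exact Or.inl (ofSubtype_apply_of_not_mem σ' hy)
    exact hd.commute.eq

end withp

theorem alt_isComponent {H : Subgroup (Perm α)} {p : α → Prop} [DecidablePred p] {x : α}
    (hp : ∀ y, p y ↔ y ∈ MulAction.orbit (closure (tcs H)) x) (hx : ∃ u ∈ tcs H, u x ≠ x)
    (h5 : 5 ≤ Nat.card (Subtype p)) :
    Cfsg.IsComponent (((alternatingGroup (Subtype p)).map ofSubtype).subgroupOf H) := by
  have hAT : (alternatingGroup (Subtype p)).map ofSubtype ≤ closure (tcs H) :=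
    alt_le_closure (tcs_three H) hp hx
  have hTH := closure_tcs_le H
  have hAH := hAT.trans hTH
  have hTn : ((closure (tcs H)).subgroupOf H).Normal := by
    refine ⟨fun n hn g => ?_⟩
    rw [Subgroup.mem_subgroupOf] at hn ⊢
    exact closure_tcs_conj g.2 hn
  have hle : ((alternatingGroup (Subtype p)).map ofSubtype).subgroupOf H ≤
      (closure (tcs H)).subgroupOf H := fun l hl => hAT hl
  have hN : ((((alternatingGroup (Subtype p)).map ofSubtype).subgroupOf H).subgroupOf
      ((closure (tcs H)).subgroupOf H)).Normal := by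
    rw [Subgroup.normal_subgroupOf_iff_le_normalizer hle]
    intro τ hτ
    rw [Subgroup.mem_normalizer_iff]
    intro l
    have := closure_le_normalizer_alt (tcs_three H) hp hτ
    rw [Subgroup.mem_normalizer_iff] at this
    exact this l.1
  refine ⟨Subgroup.IsSubnormal.step _ _ hle hTn.isSubnormal hN, ?_⟩
  have e : ↥(((alternatingGroup (Subtype p)).map ofSubtype).subgroupOf H) ≃*
      ↥(alternatingGroup (Subtype p)) :=
    (Subgroup.subgroupOfEquivOfLe hAH).trans
      (Subgroup.equivMapOfInjective _ _ ofSubtype_injective).symm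
  exact Cfsg.Agent.Lib.Helper9.qs_of_mulEquiv e.symm (alt_quasisimple _ h5)

open Equiv Equiv.Perm Subgroup MulAction
open scoped commutatorElement Pointwise

theorem exists_conj_mem_sylow {G : Type*} [Group G] [Finite G] (q : ℕ) [Fact q.Prime]
    (P : Sylow q G) (s : G) (hs : orderOf s = q) : ∃ g : G, g * s * g⁻¹ ∈ P := by
  have h : IsPGroup q (zpowers s) := by
    apply IsPGroup.of_card (n := 1)
    rw [Nat.card_zpowers, hs, pow_one]
  obtain ⟨Q, hQ⟩ := h.exists_le_sylow
  obtain ⟨g, rfl⟩ := MulAction.exists_smul_eq G Q P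
  refine ⟨g, ?_⟩
  have hsQ : s ∈ (Q : Subgroup G) := hQ (mem_zpowers s)
  have := Subgroup.smul_mem_pointwise_smul s (MulAut.conj g) (Q : Subgroup G) hsQ
  rw [MulAut.smul_def, MulAut.conj_apply] at this
  exact this

variable {α : Type*} [Fintype α] [DecidableEq α]

theorem perm_apply_inv (σ : Perm α) (y : α) : σ (σ⁻¹ y) = y := by simp

theorem perm_inv_apply (σ : Perm α) (y : α) : σ⁻¹ (σ y) = y := by simp

theorem exists_alt_moving {β : Type*} [Fintype β] [DecidableEq β] (h3 : 3 ≤ Fintype.card β)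
    (y : β) : ∃ σ ∈ alternatingGroup β, σ y ≠ y := by
  have hc : 1 < (Finset.univ.erase y).card := by
    rw [Finset.card_erase_of_mem (Finset.mem_univ y), Finset.card_univ]; omega
  obtain ⟨y₁, hy₁, y₂, hy₂, hne⟩ := Finset.one_lt_card.mp hc
  rw [Finset.mem_erase] at hy₁ hy₂
  refine ⟨swap y y₁ * swap y y₂, ?_, ?_⟩
  · exact (isThreeCycle_swap_mul_swap_same hy₁.1.symm hy₂.1.symm hne).mem_alternatingGroup
  · rw [Perm.mul_apply, swap_apply_left, swap_apply_of_ne_of_ne hy₂.1 hne.symm]
    exact hy₂.1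

/-- the stabilizer of the set defined by `p` -/
def setStab (p : α → Prop) : Subgroup (Perm α) where
  carrier := {σ | ∀ y, p (σ y) ↔ p y}
  one_mem' := fun _ => Iff.rfl
  mul_mem' := fun {a b} ha hb y => by rw [Perm.mul_apply, ha, hb]
  inv_mem' := fun {a} ha y => by
    have := ha (a⁻¹ y)
    rw [perm_apply_inv] at this
    exact this.symm

theorem mem_setStab {p : α → Prop} {σ : Perm α} : σ ∈ setStab p ↔ ∀ y, p (σ y) ↔ p y := Iff.rfl

theorem mem_setStab_of_fix {p : α → Prop} {σ : Perm α} (h : ∀ y, p y → σ y = y) :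
    σ ∈ setStab p := by
  intro y
  refine ⟨fun hy => ?_, fun hy => by rw [h y hy]; exact hy⟩
  have := h _ hy
  rw [σ.injective this] at hy
  exact hy

theorem card_le_add_two {H : Subgroup (Perm α)} {p : α → Prop} [DecidablePred p]
    (h3 : 3 ≤ Fintype.card (Subtype p))
    (hAn : ∀ h ∈ H, ∀ a ∈ (alternatingGroup (Subtype p)).map ofSubtype,
      h * a * h⁻¹ ∈ (alternatingGroup (Subtype p)).map ofSubtype)
    (hAc : ∀ c ∈ H, (∀ a ∈ (alternatingGroup (Subtype p)).map ofSubtype, a * c = c * a) →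
      c ∈ (alternatingGroup (Subtype p)).map ofSubtype)
    (P : Sylow 3 (Perm α)) (hP : (P : Subgroup (Perm α)) ≤ H) :
    Fintype.card α ≤ Fintype.card (Subtype p) + 2 := by
  by_contra hcon
  push Not at hcon
  haveI : Fact (Nat.Prime 3) := ⟨by norm_num⟩
  -- three points outside
  have hc3 : 2 < Fintype.card {y // ¬ p y} := by
    have e : Fintype.card {y // ¬ p y} = Fintype.card α - Fintype.card (Subtype p) :=
      Fintype.card_subtype_compl p
    rw [e]; omega
  obtain ⟨⟨a, ha⟩, ⟨b, hb⟩, ⟨c, hc⟩, hab, hac, hbc⟩ := Fintype.two_lt_card_iff.mp hc3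
  have hab' : a ≠ b := fun e => hab (Subtype.ext e)
  have hac' : a ≠ c := fun e => hac (Subtype.ext e)
  have hbc' : b ≠ c := fun e => hbc (Subtype.ext e)
  -- H stabilizes the set
  have hHY : H ≤ setStab p := by
    have key : ∀ h ∈ H, ∀ y, p y → p (h y) := by
      intro h hh y hy
      by_contra hn
      obtain ⟨σ, hσ, hσy⟩ := exists_alt_moving h3 ⟨y, hy⟩
      obtain ⟨σ'', _, e⟩ := hAn h hh (ofSubtype σ) ⟨σ, hσ, rfl⟩
      have h1 : (h * ofSubtype σ * h⁻¹) (h y) = h y := by
        rw [← e]; exact ofSubtype_apply_of_not_mem σ'' hn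
      rw [Perm.mul_apply, Perm.mul_apply, perm_inv_apply] at h1
      have h2 := h.injective h1
      rw [ofSubtype_apply_of_mem σ hy] at h2
      exact hσy (Subtype.ext h2)
    intro h hh y
    refine ⟨fun hy => ?_, key h hh y⟩
    have := key h⁻¹ (inv_mem hh) _ hy
    rwa [perm_inv_apply] at this
  -- the 3-cycle outside
  have hs3 : (swap a b * swap a c).IsThreeCycle := isThreeCycle_swap_mul_swap_same hab' hac' hbc'
  have hsfix : ∀ y, p y → (swap a b * swap a c) y = y := by
    intro y hy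
    have hya : y ≠ a := fun e => ha (e ▸ hy)
    have hyb : y ≠ b := fun e => hb (e ▸ hy)
    have hyc : y ≠ c := fun e => hc (e ▸ hy)
    rw [Perm.mul_apply, swap_apply_of_ne_of_ne hya hyc, swap_apply_of_ne_of_ne hya hyb]
  have hsY : swap a b * swap a c ∈ setStab p := mem_setStab_of_fix hsfix
  have hPY : (P : Subgroup (Perm α)) ≤ setStab p := hP.trans hHY
  have hord : orderOf (⟨swap a b * swap a c, hsY⟩ : setStab p) = 3 := by
    rw [← Subgroup.orderOf_coe]; exact hs3.orderOf
  obtain ⟨g, hg0⟩ := exists_conj_mem_sylow 3 (P.subtype hPY) _ hord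
  have hg : g * ⟨swap a b * swap a c, hsY⟩ * g⁻¹ ∈
      ((P.subtype hPY : Sylow 3 ↥(setStab p)) : Subgroup ↥(setStab p)) := hg0
  rw [Sylow.coe_subtype, Subgroup.mem_subgroupOf] at hg
  simp only [Subgroup.coe_mul, Subgroup.coe_inv] at hg
  -- s' fixes the points of p
  have hs'fix : ∀ y, p y → ((g : Perm α) * (swap a b * swap a c) * (g : Perm α)⁻¹) y = y := by
    intro y hy
    have hgy : p ((g : Perm α)⁻¹ y) := ((inv_mem g.2 : (g : Perm α)⁻¹ ∈ setStab p) y).mpr hy
    rw [Perm.mul_apply, Perm.mul_apply, hsfix _ hgy, perm_apply_inv]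
  have hs'3 : ((g : Perm α) * (swap a b * swap a c) * (g : Perm α)⁻¹).IsThreeCycle :=
    isThreeCycle_conj hs3 _
  have hs'A := hAc _ (hP hg) (by
    rintro _ ⟨σ', _, rfl⟩
    have hd : Perm.Disjoint (ofSubtype σ') ((g : Perm α) * (swap a b * swap a c) * (g : Perm α)⁻¹) := by
      intro y
      by_cases hy : p y
      · exact Or.inr (hs'fix y hy)
      · exact Or.inl (ofSubtype_apply_of_not_mem σ' hy)
    exact hd.commute.eq)
  obtain ⟨σ', _, e⟩ := hs'A
  apply hs'3.ne_one
  ext y
  by_cases hy : p y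
  · rw [hs'fix y hy, Perm.one_apply]
  · rw [← e, ofSubtype_apply_of_not_mem σ' hy, Perm.one_apply]

open Equiv Equiv.Perm Subgroup MulAction
open scoped commutatorElement Pointwise

theorem main {α : Type*} [Fintype α] [DecidableEq α] (h5 : 5 ≤ Fintype.card α)
    (H : Subgroup (Perm α))
    (hF : Cfsg.IsQuasisimple ↥(Cfsg.generalizedFittingSubgroup ↥H))
    (P : Sylow 3 (Perm α)) (hP : (P : Subgroup (Perm α)) ≤ H) :
    ∃ m : ℕ, m ≤ Fintype.card α ∧ Fintype.card α ≤ m + 2 ∧
      Nonempty (↥(Cfsg.generalizedFittingSubgroup ↥H) ≃* ↥(alternatingGroup (Fin m))) := by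
  classical
  haveI : Fact (Nat.Prime 3) := ⟨by norm_num⟩
  -- a 3-cycle in H
  obtain ⟨a, b, c, hab, hac, hbc⟩ := Fintype.two_lt_card_iff.mp (by omega : 2 < Fintype.card α)
  have hs3 : (swap a b * swap a c).IsThreeCycle := isThreeCycle_swap_mul_swap_same hab hac hbc
  obtain ⟨g, hg⟩ := exists_conj_mem_sylow 3 P _ hs3.orderOf
  have ht₀ : g * (swap a b * swap a c) * g⁻¹ ∈ tcs H := ⟨hP hg, isThreeCycle_conj hs3 g⟩
  -- K'
  obtain ⟨F, hFdef⟩ : ∃ F : Subgroup ↥H, F = Cfsg.generalizedFittingSubgroup ↥H := ⟨_, rfl⟩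
  rw [← hFdef] at hF ⊢
  obtain ⟨K', hK'⟩ : ∃ K' : Subgroup (Perm α), K' = F.map H.subtype := ⟨_, rfl⟩
  have hKH : K' ≤ H := by rw [hK']; exact Subgroup.map_subtype_le _
  haveI hFn : F.Normal := by
    rw [hFdef]
    haveI := Cfsg.Agent.Lib.Helper9.gfs_characteristic (G := ↥H)
    infer_instance
  have hKn : ∀ h ∈ H, ∀ k ∈ K', h * k * h⁻¹ ∈ K' := by
    intro h hh k hk
    rw [hK'] at hk ⊢
    obtain ⟨k, hk, rfl⟩ := hk
    exact ⟨⟨h, hh⟩ * k * ⟨h, hh⟩⁻¹, hFn.conj_mem k hk _, rfl⟩
  have eK : ↥F ≃* ↥K' :=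
    (Subgroup.equivMapOfInjective F H.subtype H.subtype_injective).trans
      (MulEquiv.subgroupCongr hK'.symm)
  have hKq : Cfsg.IsQuasisimple ↥K' := Cfsg.Agent.Lib.Helper9.qs_of_mulEquiv eK hF
  have hKc : ∀ c ∈ H, (∀ k ∈ K', k * c = c * k) → c ∈ K' := by
    intro c hc hcomm
    have : (⟨c, hc⟩ : ↥H) ∈ centralizer (F : Set ↥H) := by
      rw [Subgroup.mem_centralizer_iff]
      intro k hk
      apply Subtype.ext
      exact hcomm k.1 (by rw [hK']; exact ⟨k, hk, rfl⟩)
    rw [hK']
    refine ⟨⟨c, hc⟩, ?_, rfl⟩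
    rw [hFdef] at this ⊢
    exact Cfsg.Agent.Lib.Helper9.centralizer_gfs_le this
  have hKT := K_le_T hKn hKH hKq hKc ht₀
  -- moved point
  haveI := Cfsg.Agent.Lib.Helper9.qs_nontrivial hKq
  obtain ⟨⟨k, hk⟩, hk1⟩ := exists_ne (1 : ↥K')
  have hk1' : k ≠ 1 := fun e => hk1 (Subtype.ext e)
  obtain ⟨x, hx⟩ : ∃ x, k x ≠ x := by
    by_contra hcon
    push Not at hcon
    exact hk1' (Perm.ext hcon)
  have hux := exists_gen_moved (hKT hk) hx
  -- the orbit
  have hperf := Cfsg.Agent.Lib.Helper17.commutator_self_of_isQuasisimple hKq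
  have h5o := five_le_orbit hKT hperf hk hx
  obtain ⟨p, hpdef⟩ : ∃ p : α → Prop, p = fun y => y ∈ MulAction.orbit (closure (tcs H)) x :=
    ⟨_, rfl⟩
  have hp : ∀ y, p y ↔ y ∈ MulAction.orbit (closure (tcs H)) x := by
    intro y; rw [hpdef]
  have h5' : 5 ≤ Nat.card (Subtype p) := by rw [hpdef]; exact h5o
  have hcomp := alt_isComponent hp hux h5'
  have hFL := gfs_eq_of_component (by rw [← hFdef]; exact hF) _ hcomp
  rw [← hFdef] at hFL
  have hAT : (alternatingGroup (Subtype p)).map ofSubtype ≤ closure (tcs H) :=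
    alt_le_closure (tcs_three H) hp hux
  have hAH := hAT.trans (closure_tcs_le H)
  have hKA : K' = (alternatingGroup (Subtype p)).map ofSubtype := by
    rw [hK', hFL, Subgroup.map_subgroupOf_eq_of_le hAH]
  have h5'' : 5 ≤ Fintype.card (Subtype p) := by
    rw [← Nat.card_eq_fintype_card]; exact h5'
  refine ⟨Fintype.card (Subtype p), Fintype.card_subtype_le p, ?_, ?_⟩
  · apply card_le_add_two (H := H) (p := p) (by omega) ?_ ?_ P hP
    · rw [← hKA]; exact hKn
    · rw [← hKA]; exact hKc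
  · exact ⟨((MulEquiv.subgroupCongr hFL).trans ((Subgroup.subgroupOfEquivOfLe hAH).trans
      (Subgroup.equivMapOfInjective _ _ ofSubtype_injective).symm)).trans
      (Equiv.altCongrHom (Fintype.equivFin (Subtype p)))⟩

end Cfsg.Agent.Lib.Helper1.TCG
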