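import Mathlib
import Cfsg.Prelude
import Cfsg.Agent.S2119
import Cfsg.Agent.Lib.Helper9.Layer3
import Cfsg.Agent.Lib.Helper1.SylowMaximal
import Cfsg.Agent.Lib.Helper1.ThreeCycleGen

set_option autoImplicit false


namespace Cfsg.Agent.Lib.Helper1.TM3

open Equiv Equiv.Perm Subgroup MulAction
open scoped Pointwise

theorem choose_three_pow_modEq (i : ℕ) : ∀ n : ℕ, n.choose (3 ^ i) ≡ n / 3 ^ i [MOD 3] := by
  haveI : Fact (Nat.Prime 3) := ⟨by norm_num⟩
  induction i with
  | zero => intro n; simp [Nat.ModEq.refl]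
  | succ i ih =>
    intro n
    have h := Choose.choose_modEq_choose_mod_mul_choose_div_nat (n := n) (k := 3 ^ (i + 1)) (p := 3)
    have e1 : 3 ^ (i + 1) % 3 = 0 := by rw [pow_succ]; exact Nat.mul_mod_left _ _
    have e2 : 3 ^ (i + 1) / 3 = 3 ^ i := by rw [pow_succ]; exact Nat.mul_div_cancel _ (by norm_num)
    rw [e1, e2, Nat.choose_zero_right, one_mul] at h
    have e3 : n / 3 ^ (i + 1) = n / 3 / 3 ^ i := by
      rw [Nat.div_div_eq_div_mul, pow_succ, mul_comm]
    rw [e3]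
    exact h.trans (ih (n / 3))

theorem not_dvd_choose_of_not_dvd_div (i n : ℕ) (h : ¬ 3 ∣ n / 3 ^ i) :
    ¬ 3 ∣ n.choose (3 ^ i) := by
  intro hd
  apply h
  have := choose_three_pow_modEq i n
  rw [Nat.ModEq] at this
  rw [Nat.dvd_iff_mod_eq_zero] at hd ⊢
  omega

/-- The arithmetic case distinction. -/
theorem degree_cases3 (n : ℕ) (hn : 5 ≤ n)
    (h : ¬ (n = 6 ∨ n = 9 ∨ ∃ a : ℕ, 2 ≤ a ∧ n = 3 ^ a + 1)) :
    (∃ i j : ℕ, i < j ∧ ¬ 3 ∣ n.choose (3 ^ i) ∧ ¬ 3 ∣ n.choose (3 ^ j) ∧ 3 ^ j < n ∧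
      3 ^ i + 3 ^ j ≠ n ∧ 2 * 3 ^ i ≠ n ∧ 2 * 3 ^ j ≠ n) ∨
    (∃ a : ℕ, 3 ≤ a ∧ n = 3 ^ a) ∨
    (∃ i j : ℕ, 1 ≤ i ∧ i < j ∧ n = 3 ^ i + 3 ^ j) ∨
    (∃ j : ℕ, 2 ≤ j ∧ n = 2 * 3 ^ j) := by
  have hn0 : n ≠ 0 := by omega
  obtain ⟨i, m, hm, hnm⟩ := Nat.exists_eq_pow_mul_and_not_dvd hn0 3 (by norm_num)
  obtain ⟨j, hj⟩ : ∃ j, j = Nat.log 3 n := ⟨_, rfl⟩
  have hj1 : 3 ^ j ≤ n := by rw [hj]; exact Nat.pow_log_le_self 3 hn0
  have hj2 : n < 3 ^ (j + 1) := by rw [hj]; exact Nat.lt_pow_succ_log_self (by norm_num) n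
  have hm0 : 0 < m := by
    rcases Nat.eq_zero_or_pos m with h0 | h0
    · rw [h0] at hm; exact absurd (dvd_zero 3) hm
    · exact h0
  have hij : i ≤ j := by
    by_contra hlt
    push Not at hlt
    have : 3 ^ (j + 1) ≤ 3 ^ i := Nat.pow_le_pow_right (by norm_num) hlt
    have : 3 ^ i ≤ n := by rw [hnm]; exact Nat.le_mul_of_pos_right _ hm0
    omega
  have hdiv_i : n / 3 ^ i = m := by rw [hnm]; exact Nat.mul_div_cancel_left _ (by positivity)
  have hci : ¬ 3 ∣ n.choose (3 ^ i) := not_dvd_choose_of_not_dvd_div i n (by rw [hdiv_i]; exact hm)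
  have hq : n / 3 ^ j = 1 ∨ n / 3 ^ j = 2 := by
    have h1 : 1 ≤ n / 3 ^ j := (Nat.one_le_div_iff (by positivity)).mpr hj1
    have h2 : n / 3 ^ j < 3 := by
      rw [Nat.div_lt_iff_lt_mul (by positivity), mul_comm, ← pow_succ]; exact hj2
    omega
  have hcj : ¬ 3 ∣ n.choose (3 ^ j) := by
    apply not_dvd_choose_of_not_dvd_div
    rcases hq with h | h <;> rw [h] <;> norm_num
  rcases Nat.lt_or_ge i j with hlt | hge
  · -- i < j
    by_cases hsum : 3 ^ i + 3 ^ j = n
    · rcases Nat.eq_zero_or_pos i with hi0 | hi0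
      · exfalso
        apply h
        right; right
        refine ⟨j, ?_, ?_⟩
        · by_contra hj2'
          push Not at hj2'
          have : j = 1 := by omega
          rw [hi0, this] at hsum
          omega
        · rw [hi0] at hsum; omega
      · right; right; left
        exact ⟨i, j, hi0, hlt, hsum.symm⟩
    · left
      refine ⟨i, j, hlt, hci, hcj, ?_, hsum, ?_, ?_⟩
      · rcases Nat.lt_or_ge (3 ^ j) n with h1 | h1
        · exact h1
        · exfalso
          have hnj : n = 3 ^ j := le_antisymm h1 hj1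
          -- then 3^i * m = 3^j with 3 ∤ m gives m = 1, i = j
          have : 3 ^ (i + 1) ∣ n := by
            rw [hnj]; exact pow_dvd_pow 3 hlt
          rw [hnm, pow_succ] at this
          exact hm ((Nat.mul_dvd_mul_iff_left (by positivity)).mp this)
      · intro h2
        have h3 : 3 ^ (i + 1) ≤ 3 ^ j := Nat.pow_le_pow_right (by norm_num) hlt
        rw [pow_succ] at h3
        omega
      · intro h2
        have : 3 ^ (i + 1) ∣ n := by
          rw [← h2]; exact Dvd.dvd.mul_left (pow_dvd_pow 3 hlt) 2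
        rw [hnm, pow_succ] at this
        exact hm ((Nat.mul_dvd_mul_iff_left (by positivity)).mp this)
  · -- i = j
    have hij' : i = j := le_antisymm hij hge
    rw [hij'] at hnm hdiv_i
    rcases hq with h1 | h1
    · rw [hdiv_i] at h1
      rw [h1, mul_one] at hnm
      right; left
      refine ⟨j, ?_, hnm⟩
      by_contra hj3
      push Not at hj3
      have : j = 0 ∨ j = 1 ∨ j = 2 := by omega
      rcases this with h0 | h0 | h0 <;> rw [h0] at hnm
      · omega
      · omega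
      · exact h (Or.inr (Or.inl (by rw [hnm]; norm_num)))
    · rw [hdiv_i] at h1
      rw [h1] at hnm
      right; right; right
      refine ⟨j, ?_, by rw [hnm]; ring⟩
      by_contra hj3
      push Not at hj3
      have : j = 0 ∨ j = 1 := by omega
      rcases this with h0 | h0 <;> rw [h0] at hnm
      · omega
      · exact h (Or.inl (by rw [hnm]; norm_num))

open Equiv Equiv.Perm Subgroup MulAction
open scoped Pointwise

section generic

variable {G : Type*} [Group G] {Ω : Type*} [Finite Ω] [DecidableEq Ω] [MulAction G Ω]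

/-- A `3`-subgroup fixes an `m`-subset whenever `3 ∤ choose (card Ω) m`. -/
theorem exists_fixed_set3 (R : Subgroup G) (hR : IsPGroup 3 R) (m : ℕ)
    (hnd : ¬ 3 ∣ (Nat.card Ω).choose m) :
    ∃ s : Set Ω, s.ncard = m ∧ R ≤ stabilizer G s := by
  haveI : Fact (Nat.Prime 3) := ⟨by norm_num⟩
  have hcard : ¬ 3 ∣ Nat.card (Set.powersetCard Ω m) := by
    rw [Set.powersetCard.card]; exact hnd
  obtain ⟨s, hs⟩ := hR.nonempty_fixed_point_of_prime_not_dvd_card (Set.powersetCard Ω m) hcard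
  refine ⟨(s : Set Ω), Set.powersetCard.ncard_eq s, ?_⟩
  intro r hr
  rw [← Set.powersetCard.stabilizer_coe, mem_stabilizer_iff]
  exact hs ⟨r, hr⟩

/-- two invariant sets of suitable sizes give two maximal subgroups -/
theorem not_unique_two_sets (R : Subgroup G) (s₁ s₂ : Set Ω)
    (h1 : R ≤ stabilizer G s₁) (h2 : R ≤ stabilizer G s₂)
    (hpos1 : 0 < s₁.ncard) (hlt : s₁.ncard < s₂.ncard) (hlt2 : s₂.ncard < Nat.card Ω)
    (hsum : s₁.ncard + s₂.ncard ≠ Nat.card Ω)
    (hc1 : Nat.card Ω ≠ 2 * s₁.ncard) (hc2 : Nat.card Ω ≠ 2 * s₂.ncard)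
    (moves : ∀ (t : Set Ω), ∀ a ∈ t, ∀ b ∈ t, ∃ g ∈ stabilizer G t, g • a = b)
    (coatom : ∀ s : Set Ω, s.Nonempty → sᶜ.Nonempty → Nat.card Ω ≠ 2 * s.ncard →
      IsCoatom (stabilizer G s)) :
    ¬ ∃! M : Subgroup G, IsCoatom M ∧ R ≤ M := by
  have hco1 : IsCoatom (stabilizer G s₁) := by
    apply coatom
    · rw [← Set.ncard_pos]; exact hpos1
    · rw [← Set.ncard_pos, Set.ncard_compl]; omega
    · exact hc1
  have hco2 : IsCoatom (stabilizer G s₂) := by
    apply coatom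
    · rw [← Set.ncard_pos]; omega
    · rw [← Set.ncard_pos, Set.ncard_compl]; omega
    · exact hc2
  apply Cfsg.Agent.Lib.Helper1.SylMax.not_existsUnique_of_two R _ _ hco1 hco2 h1 h2
  intro heq
  -- s₂ is invariant under the stabilizer of s₁
  have key : ∀ t : Set Ω, (t = s₁ ∨ t = s₁ᶜ) → (∃ a ∈ t, a ∈ s₂) → t ⊆ s₂ := by
    intro t ht ⟨a, hat, has⟩ b hbt
    obtain ⟨g, hg, hgab⟩ := moves t a hat b hbt
    have hg1 : g ∈ stabilizer G s₁ := by
      rcases ht with rfl | rfl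
      · exact hg
      · rwa [stabilizer_compl] at hg
    rw [heq, mem_stabilizer_iff] at hg1
    rw [← hg1, ← hgab]
    exact Set.smul_mem_smul_set has
  have hs1c : s₁ᶜ.ncard = Nat.card Ω - s₁.ncard := Set.ncard_compl s₁
  by_cases hA : ∃ a ∈ s₁, a ∈ s₂
  · have h1' := key s₁ (Or.inl rfl) hA
    by_cases hB : ∃ a ∈ s₁ᶜ, a ∈ s₂
    · have h2' := key s₁ᶜ (Or.inr rfl) hB
      have : s₂ = Set.univ := by
        rw [Set.eq_univ_iff_forall]
        intro x
        by_cases hx : x ∈ s₁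
        · exact h1' hx
        · exact h2' hx
      rw [this, Set.ncard_univ] at hlt2
      exact lt_irrefl _ hlt2
    · push Not at hB
      have : s₂ ⊆ s₁ := by
        intro x hx
        by_contra hx1
        exact hB x hx1 hx
      have := Set.ncard_le_ncard this (Set.toFinite _)
      omega
  · push Not at hA
    by_cases hB : ∃ a ∈ s₁ᶜ, a ∈ s₂
    · have h2' := key s₁ᶜ (Or.inr rfl) hB
      have h3 : s₂ ⊆ s₁ᶜ := fun x hx hx1 => hA x hx1 hx
      have h4 : s₂ = s₁ᶜ := Set.Subset.antisymm h3 h2'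
      rw [h4, hs1c] at hsum
      omega
    · push Not at hB
      have : s₂ = ∅ := by
        rw [Set.eq_empty_iff_forall_notMem]
        intro x hx
        by_cases hx1 : x ∈ s₁
        · exact hA x hx1 hx
        · exact hB x hx1 hx
      rw [this, Set.ncard_empty] at hlt
      omega

end generic

open Equiv Equiv.Perm Subgroup MulAction
open scoped Pointwise

theorem not_dvd_quot_factorial (h x : ℕ) (hx : x * (3 ^ h * h.factorial) = (3 * h).factorial) :
    ¬ 3 ∣ x := by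
  haveI : Fact (Nat.Prime 3) := ⟨by norm_num⟩
  have hx0 : x ≠ 0 := by
    rintro rfl
    rw [zero_mul] at hx
    exact (Nat.factorial_ne_zero _) hx.symm
  have h1 := congrArg (padicValNat 3) hx
  rw [padicValNat.mul hx0 (by positivity), padicValNat.mul (by positivity) (Nat.factorial_ne_zero _),
    padicValNat.prime_pow, padicValNat_factorial_mul] at h1
  rw [dvd_iff_padicValNat_ne_zero hx0]
  omega

section fpf

variable {Ω : Type*} [DecidableEq Ω] [Fintype Ω]

theorem not_dvd_card_fpf3 (h : ℕ) (hh : 1 ≤ h) (hn : Fintype.card Ω = 3 * h) :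
    ¬ 3 ∣ (Finset.univ.filter (fun g : Perm Ω => g.cycleType = Multiset.replicate h 3)).card := by
  have := Perm.card_of_cycleType_mul_eq (α := Ω) (Multiset.replicate h 3)
  rw [if_pos] at this
  · apply not_dvd_quot_factorial h
    rw [← hn, ← this]
    congr 1
    have h1 : (Multiset.replicate h 3).sum = 3 * h := by simp [mul_comm]
    have h2 : (Multiset.replicate h 3).prod = 3 ^ h := by simp
    have h3 : (Multiset.replicate h 3).toFinset = {3} := by
      ext a
      simp only [Multiset.mem_toFinset, Multiset.mem_replicate, Finset.mem_singleton]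
      constructor
      · rintro ⟨-, rfl⟩; rfl
      · rintro rfl; exact ⟨by omega, rfl⟩
    rw [h1, h2, h3, hn, Nat.sub_self, Nat.factorial_zero, one_mul, Finset.prod_singleton,
      Multiset.count_replicate_self]
  · refine ⟨by simp [hn, mul_comm], ?_⟩
    intro a ha
    rw [Multiset.mem_replicate] at ha
    omega

theorem exists_fpf_three (K : Subgroup (Perm Ω)) (hK : IsPGroup 3 K) (h : ℕ) (hh : 1 ≤ h)
    (hn : Fintype.card Ω = 3 * h) :
    ∃ ζ : Perm Ω, ζ.cycleType = Multiset.replicate h 3 ∧ ∀ k ∈ K, k * ζ = ζ * k := by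
  haveI : Fact (Nat.Prime 3) := ⟨by norm_num⟩
  let X := {g : Perm Ω // g.cycleType = Multiset.replicate h 3}
  letI : MulAction K X :=
    { smul := fun k σ => ⟨(k : Perm Ω) * σ.1 * (k : Perm Ω)⁻¹, by
        rw [Perm.cycleType_conj]; exact σ.2⟩
      one_smul := fun σ => by
        apply Subtype.ext
        change ((1 : K) : Perm Ω) * σ.1 * ((1 : K) : Perm Ω)⁻¹ = σ.1
        simp
      mul_smul := fun k₁ k₂ σ => by
        apply Subtype.ext
        change ((k₁ * k₂ : K) : Perm Ω) * σ.1 * ((k₁ * k₂ : K) : Perm Ω)⁻¹ =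
          (k₁ : Perm Ω) * ((k₂ : Perm Ω) * σ.1 * (k₂ : Perm Ω)⁻¹) * (k₁ : Perm Ω)⁻¹
        push_cast
        group }
  have hcard : ¬ 3 ∣ Nat.card X := by
    have := not_dvd_card_fpf3 (Ω := Ω) h hh hn
    rw [Nat.card_eq_fintype_card, Fintype.card_subtype]
    exact this
  obtain ⟨σ, hσ⟩ := hK.nonempty_fixed_point_of_prime_not_dvd_card X hcard
  refine ⟨σ.1, σ.2, ?_⟩
  intro k hk
  have := hσ ⟨k, hk⟩
  have h2 : k * σ.1 * k⁻¹ = σ.1 := congrArg Subtype.val this
  calc k * σ.1 = k * σ.1 * k⁻¹ * k := by group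
    _ = σ.1 * k := by rw [h2]

theorem fpf3_props {ζ : Perm Ω} {h : ℕ} (hh : 1 ≤ h) (hn : Fintype.card Ω = 3 * h)
    (hζ : ζ.cycleType = Multiset.replicate h 3) :
    (∀ x, ζ (ζ (ζ x)) = x) ∧ (∀ x, ζ x ≠ x) ∧ Equiv.Perm.sign ζ = 1 := by
  have h1 : orderOf ζ = 3 := by
    rw [← Perm.lcm_cycleType, hζ]
    obtain ⟨j, rfl⟩ := Nat.exists_eq_add_of_le hh
    rw [add_comm, Multiset.replicate_succ]
    clear hn hζ hh
    induction j with
    | zero => simp
    | succ j ih =>
      rw [Multiset.replicate_succ, Multiset.lcm_cons, ih]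
      rfl
  have h2 : ζ ^ 3 = 1 := by rw [← h1]; exact pow_orderOf_eq_one ζ
  refine ⟨?_, ?_, ?_⟩
  · intro x
    have := congrArg (fun f : Perm Ω => f x) h2
    simpa [pow_succ] using this
  · have h1 : ζ.support.card = Fintype.card Ω := by
      rw [← Perm.sum_cycleType, hζ, hn]
      simp [mul_comm]
    have h2 : ζ.support = Finset.univ := Finset.eq_univ_of_card _ h1
    intro x
    rw [← Perm.mem_support, h2]
    exact Finset.mem_univ x
  · have h3 : (Equiv.Perm.sign ζ) ^ 3 = 1 := by rw [← map_pow, h2, map_one]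
    rcases Int.units_eq_one_or (Equiv.Perm.sign ζ) with h | h
    · exact h
    · rw [h] at h3; exact absurd h3 (by decide)

end fpf

open Equiv Equiv.Perm Subgroup MulAction
open scoped Pointwise

section cent3

variable {Ω : Type*} [DecidableEq Ω] [Fintype Ω]

/-- the 3-cycle `a → b → c → a` -/
def cycle3 (a b c : Ω) : Perm Ω := swap a b * swap b c

theorem cycle3_isThreeCycle {a b c : Ω} (hab : a ≠ b) (hac : a ≠ c) (hbc : b ≠ c) :
    (cycle3 a b c).IsThreeCycle := by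
  rw [cycle3, swap_comm a b]
  exact isThreeCycle_swap_mul_swap_same hab.symm hbc hac

theorem cycle3_apply_1 {a b c : Ω} (hab : a ≠ b) (hac : a ≠ c) : cycle3 a b c a = b := by
  rw [cycle3, Perm.mul_apply, swap_apply_of_ne_of_ne hab hac, swap_apply_left]

theorem cycle3_apply_2 {a b c : Ω} (hac : a ≠ c) (hbc : b ≠ c) : cycle3 a b c b = c := by
  rw [cycle3, Perm.mul_apply, swap_apply_left, swap_apply_of_ne_of_ne hac.symm hbc.symm]

theorem cycle3_apply_3 {a b c : Ω} : cycle3 a b c c = a := by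
  rw [cycle3, Perm.mul_apply, swap_apply_right, swap_apply_right]

theorem cycle3_apply_of_ne {a b c z : Ω} (ha : z ≠ a) (hb : z ≠ b) (hc : z ≠ c) :
    cycle3 a b c z = z := by
  rw [cycle3, Perm.mul_apply, swap_apply_of_ne_of_ne hb hc, swap_apply_of_ne_of_ne ha hb]

/-- the product of the three `ζ`-conjugates of `c` -/
def tripleConj (ζ c : Perm Ω) : Perm Ω := c * (ζ * c * ζ⁻¹) * (ζ * ζ * c * (ζ * ζ)⁻¹)

variable {ζ : Perm Ω}

theorem zeta_inv (h3 : ∀ x, ζ (ζ (ζ x)) = x) : ζ⁻¹ = ζ * ζ := by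
  rw [inv_eq_iff_mul_eq_one]
  ext x
  simp only [Perm.mul_apply, Perm.one_apply]
  exact h3 x

theorem zeta_cube (h3 : ∀ x, ζ (ζ (ζ x)) = x) : ζ * ζ * ζ = 1 := by
  ext x
  simp only [Perm.mul_apply, Perm.one_apply]
  exact h3 x

theorem zeta_sq_inv (h3 : ∀ x, ζ (ζ (ζ x)) = x) : (ζ * ζ)⁻¹ = ζ := by
  rw [inv_eq_iff_mul_eq_one]
  exact zeta_cube h3

theorem conj1_apply (h3 : ∀ x, ζ (ζ (ζ x)) = x) (c : Perm Ω) (z : Ω) :
    (ζ * c * ζ⁻¹) z = ζ (c (ζ (ζ z))) := by
  rw [zeta_inv h3]; rfl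

theorem conj2_apply (h3 : ∀ x, ζ (ζ (ζ x)) = x) (c : Perm Ω) (z : Ω) :
    (ζ * ζ * c * (ζ * ζ)⁻¹) z = ζ (ζ (c (ζ z))) := by
  rw [zeta_sq_inv h3]; rfl

theorem tripleConj_props (h3 : ∀ x, ζ (ζ (ζ x)) = x) {c : Perm Ω}
    (hc : ∀ z, c z ≠ z → c (ζ z) = ζ z ∧ c (ζ (ζ z)) = ζ (ζ z)) :
    tripleConj ζ c * ζ = ζ * tripleConj ζ c ∧
    (∀ z, c z ≠ z → tripleConj ζ c z = c z) ∧
    (∀ z, c z = z → c (ζ z) = ζ z → c (ζ (ζ z)) = ζ (ζ z) → tripleConj ζ c z = z) ∧
    Equiv.Perm.sign (tripleConj ζ c) = Equiv.Perm.sign c * Equiv.Perm.sign c * Equiv.Perm.sign c := by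
  have hd1 : Perm.Disjoint c (ζ * c * ζ⁻¹) := by
    intro z
    by_cases hz : c z = z
    · exact Or.inl hz
    · right
      rw [conj1_apply h3, (hc z hz).2, h3]
  have hd2 : Perm.Disjoint c (ζ * ζ * c * (ζ * ζ)⁻¹) := by
    intro z
    by_cases hz : c z = z
    · exact Or.inl hz
    · right
      rw [conj2_apply h3, (hc z hz).1, h3]
  have hd3 : Perm.Disjoint (ζ * c * ζ⁻¹) (ζ * ζ * c * (ζ * ζ)⁻¹) := by
    have := hd1.conj ζ
    have e : ζ * (ζ * c * ζ⁻¹) * ζ⁻¹ = ζ * ζ * c * (ζ * ζ)⁻¹ := by group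
    rwa [e] at this
  refine ⟨?_, ?_, ?_, ?_⟩
  · have e1 : ζ * tripleConj ζ c * ζ⁻¹ =
        (ζ * c * ζ⁻¹) * (ζ * ζ * c * (ζ * ζ)⁻¹) * (ζ * ζ * ζ * c * (ζ * ζ * ζ)⁻¹) := by
      rw [tripleConj]; group
    rw [zeta_cube h3, one_mul, inv_one, mul_one] at e1
    have e2 : (ζ * c * ζ⁻¹) * (ζ * ζ * c * (ζ * ζ)⁻¹) * c = tripleConj ζ c := by
      rw [tripleConj, (hd1.symm.commute.mul_left hd2.symm.commute).eq, ← mul_assoc]
    rw [e2] at e1
    calc tripleConj ζ c * ζ = (ζ * tripleConj ζ c * ζ⁻¹) * ζ := by rw [e1]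
      _ = ζ * tripleConj ζ c := by group
  · intro z hz
    rw [tripleConj, Perm.mul_apply, Perm.mul_apply]
    have e2 : (ζ * ζ * c * (ζ * ζ)⁻¹) z = z := (hd2 z).resolve_left hz
    have e1 : (ζ * c * ζ⁻¹) z = z := (hd1 z).resolve_left hz
    rw [e2, e1]
  · intro z h0 h1 h2
    rw [tripleConj, Perm.mul_apply, Perm.mul_apply, conj2_apply h3, h1, h3, conj1_apply h3, h2, h3, h0]
  · have hcj : ∀ a b : ℤˣ, a * b * a⁻¹ = b := fun a b => by
      rw [mul_comm a b, mul_inv_cancel_right]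
    rw [tripleConj, map_mul, map_mul, map_mul (Equiv.Perm.sign) (ζ * c), map_mul (Equiv.Perm.sign) ζ c,
      map_inv, hcj, map_mul (Equiv.Perm.sign) (ζ * ζ * c), map_mul (Equiv.Perm.sign) (ζ * ζ) c,
      map_inv, hcj]

end cent3

open Equiv Equiv.Perm Subgroup MulAction
open scoped Pointwise

section gen

variable {Ω : Type*} [DecidableEq Ω] [Fintype Ω] {ζ : Perm Ω}

theorem alt_le_map_of_forall {p : Ω → Prop} [DecidablePred p] (hp : ∀ y, p y) :
    alternatingGroup Ω ≤ (alternatingGroup (Subtype p)).map ofSubtype := by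
  intro σ hσ
  have h1 : ∀ x, p (σ x) ↔ p x := fun x => iff_of_true (hp _) (hp _)
  refine ⟨σ.subtypePerm h1, ?_, ofSubtype_subtypePerm h1 (fun x _ => hp x)⟩
  rw [SetLike.mem_coe, Perm.mem_alternatingGroup, Perm.sign_subtypePerm _ _ (fun x _ => hp x)]
  exact Perm.mem_alternatingGroup.mp hσ

theorem gen_lemma (h3 : ∀ x, ζ (ζ (ζ x)) = x) (hfpf : ∀ x, ζ x ≠ x) (B : Set Ω)
    (hBζ : ∀ x ∈ B, ζ x ∈ B) (hB9 : 9 ≤ B.ncard) (Y : Subgroup (Perm Ω))
    (hY1 : ∀ t : Perm Ω, t.IsThreeCycle → (∀ x, t x ≠ x → x ∈ B) → t ∈ Y)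
    (hY2 : ∀ g : Perm Ω, Equiv.Perm.sign g = 1 → g * ζ = ζ * g → g ∈ Y) :
    alternatingGroup Ω ≤ Y := by
  classical
  have hBζ' : ∀ x, ζ x ∈ B → x ∈ B := by
    intro x hx
    have := hBζ _ (hBζ _ hx)
    rwa [h3] at this
  have hζ2 : ∀ x, ζ (ζ x) ≠ x := by
    intro x hx
    apply hfpf x
    have := congrArg ζ hx
    rw [h3] at this
    exact this.symm
  obtain ⟨a, haB⟩ : B.Nonempty := by rw [← Set.ncard_pos]; omega
  -- three-cycles on B are in the generating set
  have hcyc : ∀ u v w : Ω, u ∈ B → v ∈ B → w ∈ B → u ≠ v → u ≠ w → v ≠ w →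
      cycle3 u v w ∈ TCG.tcs Y := by
    intro u v w hu hv hw huv huw hvw
    have h3c := cycle3_isThreeCycle huv huw hvw
    refine ⟨hY1 _ h3c ?_, h3c⟩
    intro x hx
    by_contra hxB
    apply hx
    apply cycle3_apply_of_ne <;> rintro rfl <;> exact hxB ‹_›
  have hTY : closure (TCG.tcs Y) ≤ Y := TCG.closure_tcs_le Y
  -- points of B are in the orbit
  have claim1 : ∀ y ∈ B, y ∈ MulAction.orbit (closure (TCG.tcs Y)) a := by
    intro y hy
    by_cases hya : y = a
    · rw [hya]; exact MulAction.mem_orbit_self a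
    · obtain ⟨w, hwB, hw⟩ := Cfsg.Agent.Lib.Helper1.SylMax.exists_mem_notMem B {a, y}
        (by have := Finset.card_le_two (a := a) (b := y); omega)
      simp only [Finset.mem_insert, Finset.mem_singleton, not_or] at hw
      have ht := hcyc a y w haB hy hwB (Ne.symm hya) (Ne.symm hw.1) (Ne.symm hw.2)
      refine ⟨⟨cycle3 a y w, subset_closure ht⟩, ?_⟩
      exact cycle3_apply_1 (Ne.symm hya) (Ne.symm hw.1)
  have claim2 : ∀ b, b ∉ B → b ∈ MulAction.orbit (closure (TCG.tcs Y)) a := by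
    intro b hb
    have hζb : ζ b ∉ B := fun h => hb (hBζ' b h)
    have hζζb : ζ (ζ b) ∉ B := fun h => hζb (hBζ' _ h)
    obtain ⟨d, hdB, hd⟩ := Cfsg.Agent.Lib.Helper1.SylMax.exists_mem_notMem B {a, ζ a, ζ (ζ a)}
      (by have := Finset.card_le_three (a := a) (b := ζ a) (c := ζ (ζ a)); omega)
    simp only [Finset.mem_insert, Finset.mem_singleton, not_or] at hd
    obtain ⟨hda, hdζa, hdζζa⟩ := hd
    obtain ⟨x, hxB, hx⟩ := Cfsg.Agent.Lib.Helper1.SylMax.exists_mem_notMem B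
      {a, ζ a, ζ (ζ a), d, ζ d, ζ (ζ d)}
      (by have := Finset.card_le_six (a := a) (b := ζ a) (c := ζ (ζ a)) (d := d) (e := ζ d)
            (f := ζ (ζ d)); omega)
    obtain ⟨y, hyB, hy⟩ := Cfsg.Agent.Lib.Helper1.SylMax.exists_mem_notMem B
      (insert x {a, ζ a, ζ (ζ a), d, ζ d, ζ (ζ d)})
      (by
        have := Finset.card_le_six (a := a) (b := ζ a) (c := ζ (ζ a)) (d := d) (e := ζ d)
            (f := ζ (ζ d))
        have := Finset.card_insert_le x {a, ζ a, ζ (ζ a), d, ζ d, ζ (ζ d)}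
        omega)
    simp only [Finset.mem_insert, Finset.mem_singleton, not_or] at hx hy
    obtain ⟨hxa, hxζa, hxζζa, hxd, hxζd, hxζζd⟩ := hx
    obtain ⟨hyx, hya, hyζa, hyζζa, hyd, hyζd, hyζζd⟩ := hy
    have hab : a ≠ b := fun e => hb (e ▸ haB)
    have hdb : d ≠ b := fun e => hb (e ▸ hdB)
    -- the 3-cycle `c = (a b d)`
    have hfix : ∀ z, z ≠ a → z ≠ b → z ≠ d → cycle3 a b d z = z :=
      fun z h1 h2 h3 => cycle3_apply_of_ne h1 h2 h3
    -- general: if `z` is none of the nine points then...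
    have hsupp : ∀ z, cycle3 a b d z ≠ z → z = a ∨ z = b ∨ z = d := by
      intro z hz
      by_contra hcon
      push Not at hcon
      exact hz (hfix z hcon.1 hcon.2.1 hcon.2.2)
    have hc : ∀ z, cycle3 a b d z ≠ z →
        cycle3 a b d (ζ z) = ζ z ∧ cycle3 a b d (ζ (ζ z)) = ζ (ζ z) := by
      intro z hz
      rcases hsupp z hz with rfl | rfl | rfl
      · refine ⟨hfix _ (hfpf _) ?_ ?_, hfix _ (hζ2 _) ?_ ?_⟩
        · rintro e; exact hb (e ▸ hBζ _ haB)
        · exact fun e => hdζa e.symm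
        · rintro e; exact hb (e ▸ hBζ _ (hBζ _ haB))
        · exact fun e => hdζζa e.symm
      · refine ⟨hfix _ ?_ (hfpf _) ?_, hfix _ ?_ (hζ2 _) ?_⟩
        · rintro e; exact hζb (e ▸ haB)
        · rintro e; exact hζb (e ▸ hdB)
        · rintro e; exact hζζb (e ▸ haB)
        · rintro e; exact hζζb (e ▸ hdB)
      · refine ⟨hfix _ ?_ ?_ (hfpf _), hfix _ ?_ ?_ (hζ2 _)⟩
        · intro e
          apply hdζζa
          rw [← e, h3]
        · rintro e; exact hb (e ▸ hBζ _ hdB)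
        · intro e
          apply hdζa
          rw [← e, h3]
        · rintro e; exact hb (e ▸ hBζ _ (hBζ _ hdB))
    obtain ⟨hcomm, hval, hfixg, hsign⟩ := tripleConj_props h3 hc
    have h3c : (cycle3 a b d).IsThreeCycle := cycle3_isThreeCycle hab (Ne.symm hda) (Ne.symm hdb)
    have hgY : tripleConj ζ (cycle3 a b d) ∈ Y := by
      apply hY2 _ _ hcomm
      rw [hsign, h3c.sign, one_mul, one_mul]
    have hga : tripleConj ζ (cycle3 a b d) a = b := by
      have e : cycle3 a b d a = b := cycle3_apply_1 hab (Ne.symm hda)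
      rw [hval a (by rw [e]; exact Ne.symm hab), e]
    -- `g` fixes a point `z ∈ B` outside the two cycles
    have hgfix : ∀ z, z ∈ B → z ≠ a → z ≠ ζ a → z ≠ ζ (ζ a) → z ≠ d → z ≠ ζ d → z ≠ ζ (ζ d) →
        tripleConj ζ (cycle3 a b d) z = z := by
      intro z hzB h1 h2 h3' h4 h5 h6
      apply hfixg
      · exact hfix z h1 (fun e => hb (e ▸ hzB)) h4
      · apply hfix
        · intro e; apply h3'; rw [← e, h3]
        · intro e; exact hb (e ▸ hBζ _ hzB)
        · intro e; apply h6; rw [← e, h3]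
      · apply hfix
        · intro e; apply h2; rw [← e, h3]
        · intro e; exact hb (e ▸ hBζ _ (hBζ _ hzB))
        · intro e; apply h5; rw [← e, h3]
    have hgx := hgfix x hxB hxa hxζa hxζζa hxd hxζd hxζζd
    have hgy := hgfix y hyB hya hyζa hyζζa hyd hyζd hyζζd
    -- the 3-cycle (a x y) and its conjugate
    have ht := hcyc a x y haB hxB hyB (Ne.symm hxa) (Ne.symm hya) (Ne.symm hyx)
    have ht' : tripleConj ζ (cycle3 a b d) * cycle3 a x y * (tripleConj ζ (cycle3 a b d))⁻¹ ∈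
        TCG.tcs Y :=
      ⟨Y.mul_mem (Y.mul_mem hgY ht.1) (Y.inv_mem hgY), TCG.isThreeCycle_conj ht.2 _⟩
    have hval' : (tripleConj ζ (cycle3 a b d) * cycle3 a x y *
        (tripleConj ζ (cycle3 a b d))⁻¹) y = b := by
      rw [Perm.mul_apply, Perm.mul_apply]
      have e1 : (tripleConj ζ (cycle3 a b d))⁻¹ y = y := by
        rw [Perm.inv_eq_iff_eq, hgy]
      rw [e1, cycle3_apply_3, hga]
    obtain ⟨τ, hτ⟩ := claim1 y hyB
    refine ⟨⟨_, subset_closure ht'⟩ * τ, ?_⟩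
    show (_ * τ) • a = b
    rw [mul_smul]
    show (tripleConj ζ (cycle3 a b d) * cycle3 a x y * (tripleConj ζ (cycle3 a b d))⁻¹) (τ • a) = b
    have hτ' : τ • a = y := hτ
    rw [hτ', hval']
  -- apply the generation theorem
  have hp : ∀ y, (fun y => y ∈ MulAction.orbit (closure (TCG.tcs Y)) a) y ↔
      y ∈ MulAction.orbit (closure (TCG.tcs Y)) a := fun y => Iff.rfl
  have hall : ∀ y, y ∈ MulAction.orbit (closure (TCG.tcs Y)) a := by
    intro y
    by_cases hy : y ∈ B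
    · exact claim1 y hy
    · exact claim2 y hy
  obtain ⟨y, hyB, hy⟩ := Cfsg.Agent.Lib.Helper1.SylMax.exists_mem_notMem B {a}
    (by rw [Finset.card_singleton]; omega)
  rw [Finset.mem_singleton] at hy
  obtain ⟨w, hwB, hw⟩ := Cfsg.Agent.Lib.Helper1.SylMax.exists_mem_notMem B {a, y}
    (by have := Finset.card_le_two (a := a) (b := y); omega)
  simp only [Finset.mem_insert, Finset.mem_singleton, not_or] at hw
  have ht := hcyc a y w haB hyB hwB (Ne.symm hy) (Ne.symm hw.1) (Ne.symm hw.2)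
  have hmoved : ∃ u ∈ TCG.tcs Y, u a ≠ a :=
    ⟨_, ht, by rw [cycle3_apply_1 (Ne.symm hy) (Ne.symm hw.1)]; exact hy⟩
  have hle := TCG.alt_le_closure (TCG.tcs_three Y) hp hmoved
  exact (alt_le_map_of_forall hall).trans (hle.trans hTY)

end gen

open Equiv Equiv.Perm Subgroup MulAction
open scoped Pointwise

section setcent

variable {Ω : Type*} [DecidableEq Ω] [Fintype Ω]

/-- a fixed-point-free central element of order 3 lies in the Sylow subgroup -/
theorem exists_zeta (R : Sylow 3 (alternatingGroup Ω)) (h : ℕ) (hh : 1 ≤ h)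
    (hn : Fintype.card Ω = 3 * h) :
    ∃ ζ : alternatingGroup Ω, ζ ∈ R ∧ (∀ x, (ζ : Perm Ω) ((ζ : Perm Ω) ((ζ : Perm Ω) x)) = x) ∧
      (∀ x, (ζ : Perm Ω) x ≠ x) ∧ ∀ r ∈ R, r * ζ = ζ * r := by
  haveI : Fact (Nat.Prime 3) := ⟨by norm_num⟩
  have hK : IsPGroup 3 ((R : Subgroup (alternatingGroup Ω)).map (alternatingGroup Ω).subtype) :=
    R.isPGroup'.map _
  obtain ⟨ζ, hζ, hζR⟩ := exists_fpf_three _ hK h hh hn
  obtain ⟨h3, hfpf, hsign⟩ := fpf3_props hh hn hζ
  have hcomm : ∀ r ∈ R, r * (⟨ζ, Perm.mem_alternatingGroup.mpr hsign⟩ : alternatingGroup Ω) =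
      ⟨ζ, Perm.mem_alternatingGroup.mpr hsign⟩ * r := by
    intro r hr
    apply Subtype.ext
    exact hζR r ⟨r, hr, rfl⟩
  refine ⟨⟨ζ, Perm.mem_alternatingGroup.mpr hsign⟩, ?_, h3, hfpf, hcomm⟩
  -- membership in R by maximality
  have hz3 : IsPGroup 3 (zpowers (⟨ζ, Perm.mem_alternatingGroup.mpr hsign⟩ : alternatingGroup Ω)) := by
    apply IsPGroup.of_card (n := 1)
    rw [Nat.card_zpowers, pow_one, ← Subgroup.orderOf_coe]
    have h1 : ζ ^ 3 = 1 := by
      ext x
      simp only [pow_succ, pow_zero, one_mul, Perm.mul_apply, Perm.one_apply]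
      exact h3 x
    have h2 : ζ ≠ 1 := by
      intro e
      obtain ⟨x⟩ : Nonempty Ω := by
        rw [← Fintype.card_pos_iff, hn]; omega
      exact hfpf x (by rw [e, Perm.one_apply])
    exact orderOf_eq_prime h1 h2
  have hnorm : (R : Subgroup (alternatingGroup Ω)) ≤
      normalizer ((zpowers (⟨ζ, Perm.mem_alternatingGroup.mpr hsign⟩ : alternatingGroup Ω) :
        Subgroup (alternatingGroup Ω)) : Set (alternatingGroup Ω)) := by
    intro r hr
    apply Subgroup.centralizer_le_normalizer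
    rw [Subgroup.mem_centralizer_iff]
    intro y hy
    rw [SetLike.mem_coe, Subgroup.mem_zpowers_iff] at hy
    obtain ⟨k, rfl⟩ := hy
    exact ((Commute.zpow_left (hcomm r hr).symm k).eq)
  have hsup := R.isPGroup'.to_sup_of_normal_right' hz3 hnorm
  have := R.is_maximal' hsup le_sup_left
  rw [← SetLike.mem_coe, ← Sylow.coe_coe]
  have h2 : (⟨ζ, Perm.mem_alternatingGroup.mpr hsign⟩ : alternatingGroup Ω) ∈
      ((R : Subgroup (alternatingGroup Ω)) ⊔ zpowers ⟨ζ, Perm.mem_alternatingGroup.mpr hsign⟩) :=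
    (le_sup_right : zpowers _ ≤ _) (mem_zpowers _)
  rw [this] at h2
  exact h2

theorem alt_transitive (h4 : 4 ≤ Nat.card Ω) (a b : Ω) :
    ∃ g : alternatingGroup Ω, g • a = b := by
  obtain ⟨g, _, hg⟩ := alternatingGroup.exists_mem_stabilizer_smul_eq h4 (t := Set.univ)
    a (Set.mem_univ a) b (Set.mem_univ b)
  exact ⟨g, hg⟩

/-- Set stabilizer versus centralizer of a fixed-point-free element of order 3. -/
theorem alt_not_unique_set_cent (j h : ℕ) (hj : 2 ≤ j) (hh : 1 ≤ h)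
    (hn : Fintype.card Ω = 3 * h) (hlt : 3 ^ j < Fintype.card Ω)
    (hch : ¬ 3 ∣ (Nat.card Ω).choose (3 ^ j)) (R : Sylow 3 (alternatingGroup Ω)) :
    ¬ ∃! M : Subgroup (alternatingGroup Ω), IsCoatom M ∧
      (R : Subgroup (alternatingGroup Ω)) ≤ M := by
  have h9 : 9 ≤ 3 ^ j := by
    calc 9 = 3 ^ 2 := by norm_num
      _ ≤ 3 ^ j := Nat.pow_le_pow_right (by norm_num) hj
  have h4 : 4 ≤ Nat.card Ω := by rw [Nat.card_eq_fintype_card]; omega
  obtain ⟨ζ, hζR, h3, hfpf, hcomm⟩ := exists_zeta R h hh hn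
  obtain ⟨B, hBcard, hRB⟩ := exists_fixed_set3 (Ω := Ω) (R : Subgroup (alternatingGroup Ω))
    R.isPGroup' (3 ^ j) hch
  have hBζ : ∀ x ∈ B, (ζ : Perm Ω) x ∈ B := by
    intro x hx
    have := hRB hζR
    rw [mem_stabilizer_set' B.toFinite] at this
    exact this hx
  have hW2R : (R : Subgroup (alternatingGroup Ω)) ≤
      (Subgroup.centralizer {(ζ : Perm Ω)}).subgroupOf (alternatingGroup Ω) := by
    intro r hr
    rw [Subgroup.mem_subgroupOf, Subgroup.mem_centralizer_iff]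
    rintro _ rfl
    exact (congrArg Subtype.val (hcomm r hr)).symm
  have hW1 : stabilizer (alternatingGroup Ω) B ≠ ⊤ := by
    intro htop
    obtain ⟨x, hx⟩ : B.Nonempty := by rw [← Set.ncard_pos]; omega
    obtain ⟨y, hy⟩ : Bᶜ.Nonempty := by
      rw [← Set.ncard_pos, Set.ncard_compl, Nat.card_eq_fintype_card]; omega
    obtain ⟨g, hg⟩ := alt_transitive h4 x y
    have : g ∈ stabilizer (alternatingGroup Ω) B := by rw [htop]; trivial
    rw [mem_stabilizer_set' B.toFinite] at this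
    exact hy (hg ▸ this hx)
  have hW2 : (Subgroup.centralizer {(ζ : Perm Ω)}).subgroupOf (alternatingGroup Ω) ≠ ⊤ := by
    intro htop
    have hc : ζ ∈ Subgroup.center (alternatingGroup Ω) := by
      rw [Subgroup.mem_center_iff]
      intro g
      have : g ∈ (Subgroup.centralizer {(ζ : Perm Ω)}).subgroupOf (alternatingGroup Ω) := by
        rw [htop]; trivial
      rw [Subgroup.mem_subgroupOf, Subgroup.mem_centralizer_iff] at this
      exact Subtype.ext (this _ rfl).symm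
    rw [alternatingGroup.center_eq_bot h4, Subgroup.mem_bot] at hc
    obtain ⟨x⟩ : Nonempty Ω := by
      rw [← Fintype.card_pos_iff, hn]; omega
    exact hfpf x (by rw [hc]; rfl)
  apply Cfsg.Agent.Lib.Helper1.SylMax.not_existsUnique_of_sup _ _ _ hW1 hW2 hRB hW2R
  -- the join is everything
  rw [eq_top_iff]
  have hgen := gen_lemma h3 hfpf B hBζ (by omega)
    ((stabilizer (alternatingGroup Ω) B ⊔
      (Subgroup.centralizer {(ζ : Perm Ω)}).subgroupOf (alternatingGroup Ω)).map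
      (alternatingGroup Ω).subtype) ?_ ?_
  · intro g _
    obtain ⟨g', hg', e⟩ := hgen g.2
    have : g' = g := Subtype.ext e
    rw [← this]; exact hg'
  · intro t ht hsupp
    refine ⟨⟨t, ht.mem_alternatingGroup⟩, ?_, rfl⟩
    apply (le_sup_left : stabilizer (alternatingGroup Ω) B ≤ _)
    rw [mem_stabilizer_set' B.toFinite]
    intro b hb
    show t b ∈ B
    by_cases hb' : t b = b
    · rw [hb']; exact hb
    · apply hsupp
      intro e
      exact hb' (t.injective e)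
  · intro g hg hgc
    refine ⟨⟨g, Perm.mem_alternatingGroup.mpr hg⟩, ?_, rfl⟩
    apply (le_sup_right : (Subgroup.centralizer {(ζ : Perm Ω)}).subgroupOf (alternatingGroup Ω) ≤ _)
    rw [Subgroup.mem_subgroupOf, Subgroup.mem_centralizer_iff]
    rintro _ rfl
    exact hgc.symm

end setcent

open Equiv Equiv.Perm Subgroup MulAction
open scoped Pointwise

section trisect

variable {G : Type*} [Group G] [Finite G] {Ω : Type*} [Finite Ω] [DecidableEq Ω] [MulAction G Ω]

theorem not_dvd_choose_of_le_stabilizer (R : Sylow 3 G) (s : Set Ω)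
    [IsPretransitive G (Set.powersetCard Ω s.ncard)]
    (h : (R : Subgroup G) ≤ stabilizer G s) : ¬ 3 ∣ (Nat.card Ω).choose s.ncard := by
  haveI : Fact (Nat.Prime 3) := ⟨by norm_num⟩
  have h1 : ¬ 3 ∣ (stabilizer G s).index := by
    intro h2
    exact R.not_dvd_index (h2.trans (Subgroup.index_dvd_of_le h))
  let t : Set.powersetCard Ω s.ncard := ⟨s.toFinite.toFinset, by
    rw [Set.powersetCard.mem_iff, Set.ncard_eq_toFinset_card s s.toFinite]⟩
  have h2 : stabilizer G t = stabilizer G s := by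
    rw [Set.powersetCard.stabilizer_coe]
    congr 1
    exact Set.Finite.coe_toFinset s.toFinite
  rw [← h2, index_stabilizer_of_transitive, Set.powersetCard.card] at h1
  exact h1

theorem sylow_transitive3 (R : Sylow 3 G) (a : ℕ) (hn : Nat.card Ω = 3 ^ a)
    (htr : ∀ m, IsPretransitive G (Set.powersetCard Ω m)) :
    IsPretransitive (R : Subgroup G) Ω := by
  have hne : Nonempty Ω := by
    rw [← Finite.card_pos_iff, hn]; positivity
  obtain ⟨x⟩ := hne
  have hO : (R : Subgroup G) ≤ stabilizer G (orbit (R : Subgroup G) x) := by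
    intro r hr
    rw [mem_stabilizer_iff]
    exact smul_orbit (⟨r, hr⟩ : (R : Subgroup G)) x
  haveI := htr (orbit (R : Subgroup G) x).ncard
  have h1 := not_dvd_choose_of_le_stabilizer R _ hO
  rw [hn] at h1
  have h2 : (orbit (R : Subgroup G) x).ncard ≠ 0 := by
    rw [← Nat.pos_iff_ne_zero, Set.ncard_pos]
    exact nonempty_orbit x
  have h3 : orbit (R : Subgroup G) x = Set.univ := by
    rw [Set.eq_univ_iff_ncard, hn]
    by_contra hne
    exact h1 (Nat.Prime.dvd_choose_pow (by norm_num) h2 hne)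
  rw [isPretransitive_iff_base x]
  intro y
  have : y ∈ orbit (R : Subgroup G) x := by rw [h3]; trivial
  exact this

/-- A transitive Sylow 3-subgroup on `3 ^ a` points with a central fixed-point-free element `ζ`
has a normal subgroup `K` containing `ζ` with an orbit of size `3 ^ (a - 1)`. -/
theorem exists_trisection (R : Sylow 3 G) (a : ℕ) (ha : 2 ≤ a) (hn : Nat.card Ω = 3 ^ a)
    [IsPretransitive (R : Subgroup G) Ω] (ζ : G) (hζR : ζ ∈ R)
    (hcomm : ∀ r ∈ R, r * ζ = ζ * r) (hζ3 : ζ ^ 3 = 1) :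
    ∃ K : Subgroup G, K ≤ R ∧ (∀ r ∈ R, ∀ k ∈ K, r * k * r⁻¹ ∈ K) ∧ ζ ∈ K ∧
      ∃ x₀ : Ω, (orbit K x₀).ncard = 3 ^ (a - 1) := by
  haveI : Fact (Nat.Prime 3) := ⟨by norm_num⟩
  have hne : Nonempty Ω := by
    rw [← Finite.card_pos_iff, hn]; positivity
  obtain ⟨x⟩ := hne
  obtain ⟨e, he⟩ := (IsPGroup.iff_card.mp R.isPGroup')
  have hidx : (stabilizer (R : Subgroup G) x).index = 3 ^ a := by
    rw [index_stabilizer_of_transitive, hn]
  have hcardSt := Subgroup.card_mul_index (stabilizer (R : Subgroup G) x)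
  rw [hidx, he] at hcardSt
  have hae : a ≤ e := by
    have : 3 ^ a ∣ 3 ^ e := Dvd.intro_left _ hcardSt
    exact (Nat.pow_dvd_pow_iff_le_right (by norm_num)).mp this
  have he1 : 1 ≤ e := by omega
  -- the central subgroup Z
  let ζ' : (R : Subgroup G) := ⟨ζ, hζR⟩
  have hζ'c : ∀ r : (R : Subgroup G), r * ζ' = ζ' * r := fun r => Subtype.ext (hcomm r.1 r.2)
  haveI hZn : (zpowers ζ').Normal := by
    refine ⟨fun n hn g => ?_⟩
    rw [Subgroup.mem_zpowers_iff] at hn
    obtain ⟨k, rfl⟩ := hn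
    have : g * ζ' ^ k * g⁻¹ = ζ' ^ k := by
      rw [mul_inv_eq_iff_eq_mul]
      exact (Commute.zpow_right (hζ'c g) k).eq
    rw [this]
    exact zpow_mem (mem_zpowers ζ') k
  -- L = stabilizer ⊔ Z is proper
  have hLorb : ∀ l ∈ stabilizer (R : Subgroup G) x ⊔ zpowers ζ', ∃ z ∈ zpowers ζ', l • x = z • x := by
    intro l hl
    obtain ⟨s, hs, z, hz, rfl⟩ := Subgroup.mem_sup_of_normal_right.mp hl
    refine ⟨z, hz, ?_⟩
    rw [Subgroup.mem_zpowers_iff] at hz
    obtain ⟨k, rfl⟩ := hz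
    have hc : s * ζ' ^ k = ζ' ^ k * s := (Commute.zpow_right (hζ'c s) k).eq
    rw [hc, mul_smul, mem_stabilizer_iff.mp hs]
  have hZcard : Nat.card (zpowers ζ') ≤ 3 := by
    rw [Nat.card_zpowers]
    apply orderOf_le_of_pow_eq_one (by norm_num)
    exact Subtype.ext hζ3
  have hLne : stabilizer (R : Subgroup G) x ⊔ zpowers ζ' ≠ ⊤ := by
    intro htop
    have hsub : (Set.univ : Set Ω) ⊆ Set.range (fun z : zpowers ζ' => (z : (R : Subgroup G)) • x) := by
      intro y _
      obtain ⟨r, hr⟩ := MulAction.exists_smul_eq (R : Subgroup G) x y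
      obtain ⟨z, hz, hzx⟩ := hLorb r (by rw [htop]; trivial)
      exact ⟨⟨z, hz⟩, by rw [← hr, hzx]⟩
    have h1 := Set.ncard_le_ncard hsub (Set.finite_range _)
    rw [Set.ncard_univ, hn] at h1
    have h2 : (Set.range (fun z : zpowers ζ' => (z : (R : Subgroup G)) • x)).ncard ≤
        Nat.card (zpowers ζ') := by
      rw [← Set.image_univ, ← Set.ncard_univ]
      exact Set.ncard_image_le Set.finite_univ
    have h9 : 9 ≤ 3 ^ a := by
      calc 9 = 3 ^ 2 := by norm_num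
        _ ≤ 3 ^ a := Nat.pow_le_pow_right (by norm_num) ha
    omega
  obtain ⟨k, hk⟩ := IsPGroup.iff_card.mp
    (R.isPGroup'.to_subgroup (stabilizer (R : Subgroup G) x ⊔ zpowers ζ'))
  have hke : k ≤ e - 1 := by
    have hlt : Nat.card ↥(stabilizer (R : Subgroup G) x ⊔ zpowers ζ') < Nat.card (R : Subgroup G) := by
      apply lt_of_le_of_ne (Subgroup.card_le_card_group _)
      intro heq
      exact hLne (Subgroup.card_eq_iff_eq_top _ |>.mp heq)
    rw [hk, he] at hlt
    have := (Nat.pow_lt_pow_iff_right (by norm_num : 1 < 3)).mp hlt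
    omega
  obtain ⟨K, hKcard, hLK⟩ := Sylow.exists_subgroup_card_pow_prime_le 3
    (show 3 ^ (e - 1) ∣ Nat.card (R : Subgroup G) by
      rw [he]; exact pow_dvd_pow 3 (by omega))
    (stabilizer (R : Subgroup G) x ⊔ zpowers ζ') hk hke
  have hStK : stabilizer (R : Subgroup G) x ≤ K := le_sup_left.trans hLK
  have hζK : ζ' ∈ K := hLK ((le_sup_right : zpowers ζ' ≤ _) (mem_zpowers ζ'))
  have hKidx : K.index = 3 := by
    have := Subgroup.card_mul_index K
    rw [hKcard, he] at this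
    have h2 : (3 : ℕ) ^ e = 3 ^ (e - 1) * 3 := by
      rw [← pow_succ]; congr 1; omega
    rw [h2] at this
    exact Nat.eq_of_mul_eq_mul_left (by positivity) this
  haveI hKn : K.Normal := by
    apply Subgroup.normal_of_index_eq_minFac_card
    rw [hKidx, he]
    exact ((Nat.Prime.pow_minFac (by norm_num) (by omega)).symm)
  have hrel : (stabilizer (R : Subgroup G) x).relIndex K = 3 ^ (a - 1) := by
    have := Subgroup.relIndex_mul_index hStK
    rw [hKidx, hidx] at this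
    have h2 : (3 : ℕ) ^ a = 3 ^ (a - 1) * 3 := by
      rw [← pow_succ]; congr 1; omega
    rw [h2] at this
    exact Nat.eq_of_mul_eq_mul_right (by norm_num) this
  have hBcard : (orbit K x).ncard = 3 ^ (a - 1) := by
    rw [← index_stabilizer, ← hrel]
    rfl
  refine ⟨K.map (R : Subgroup G).subtype, Subgroup.map_subtype_le K, ?_, ⟨ζ', hζK, rfl⟩, x, ?_⟩
  · rintro r hr _ ⟨k, hk, rfl⟩
    exact ⟨⟨r, hr⟩ * k * ⟨r, hr⟩⁻¹, hKn.conj_mem k hk _, rfl⟩
  · rw [← hBcard]
    congr 1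
    ext y
    constructor
    · rintro ⟨⟨_, ⟨k, hk, rfl⟩⟩, rfl⟩
      exact ⟨⟨k, hk⟩, rfl⟩
    · rintro ⟨⟨k, hk⟩, rfl⟩
      exact ⟨⟨_, ⟨k, hk, rfl⟩⟩, rfl⟩

end trisect

open Equiv Equiv.Perm Subgroup MulAction
open scoped Pointwise

section orbstab

variable {G : Type*} [Group G] {Ω : Type*} [MulAction G Ω]

/-- the subgroup of elements preserving the orbit partition of `K` -/
def orbStab (G : Type*) [Group G] {Ω : Type*} [MulAction G Ω] (K : Subgroup G) : Subgroup G where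
  carrier := {g | ∀ x y : Ω, y ∈ orbit K x ↔ g • y ∈ orbit K (g • x)}
  one_mem' := fun x y => by rw [one_smul, one_smul]
  mul_mem' := by
    intro g g' hg hg' x y
    rw [mul_smul, mul_smul, ← hg, ← hg']
  inv_mem' := by
    intro g hg x y
    have := hg (g⁻¹ • x) (g⁻¹ • y)
    rw [smul_inv_smul, smul_inv_smul] at this
    exact this.symm

theorem mem_orbStab {K : Subgroup G} {g : G} :
    g ∈ orbStab G (Ω := Ω) K ↔ ∀ x y : Ω, y ∈ orbit K x ↔ g • y ∈ orbit K (g • x) := Iff.rfl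

theorem le_orbStab_of_normalizes {K R : Subgroup G} (h : ∀ r ∈ R, ∀ k ∈ K, r * k * r⁻¹ ∈ K) :
    R ≤ orbStab G (Ω := Ω) K := by
  have key : ∀ r ∈ R, ∀ x y : Ω, y ∈ orbit K x → r • y ∈ orbit K (r • x) := by
    rintro r hr x _ ⟨k, rfl⟩
    refine ⟨⟨r * k * r⁻¹, h r hr k k.2⟩, ?_⟩
    show (r * (k : G) * r⁻¹) • r • x = r • (k : G) • x
    rw [smul_smul, inv_mul_cancel_right, mul_smul]
  intro r hr x y
  refine ⟨key r hr x y, fun h' => ?_⟩
  have := key r⁻¹ (inv_mem hr) _ _ h'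
  rwa [inv_smul_smul, inv_smul_smul] at this

theorem mem_orbStab_of_preserves {K : Subgroup G} {g : G} (h : ∀ x : Ω, g • x ∈ orbit K x) :
    g ∈ orbStab G (Ω := Ω) K := by
  intro x y
  have h1 : orbit K (g • x) = orbit K x := MulAction.orbit_eq_iff.mpr (h x)
  have h2 : orbit K (g • y) = orbit K y := MulAction.orbit_eq_iff.mpr (h y)
  rw [h1, ← MulAction.orbit_eq_iff, ← MulAction.orbit_eq_iff (a := g • y), h2]

end orbstab

section threepow

variable {Ω : Type*} [DecidableEq Ω] [Fintype Ω]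

theorem alt_not_unique_three_pow (a : ℕ) (ha : 3 ≤ a) (hn : Fintype.card Ω = 3 ^ a)
    (R : Sylow 3 (alternatingGroup Ω)) :
    ¬ ∃! M : Subgroup (alternatingGroup Ω), IsCoatom M ∧
      (R : Subgroup (alternatingGroup Ω)) ≤ M := by
  have h9 : 9 ≤ 3 ^ (a - 1) := by
    calc 9 = 3 ^ 2 := by norm_num
      _ ≤ 3 ^ (a - 1) := Nat.pow_le_pow_right (by norm_num) (by omega)
  have hsplit : (3 : ℕ) ^ a = 3 * 3 ^ (a - 1) := by
    rw [← pow_succ']; congr 1; omega
  have hnc : Nat.card Ω = 3 ^ a := by rw [Nat.card_eq_fintype_card, hn]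
  have h4 : 4 ≤ Nat.card Ω := by rw [hnc]; omega
  have htr : ∀ m, IsPretransitive (alternatingGroup Ω) (Set.powersetCard Ω m) := fun m =>
    Set.powersetCard.isPretransitive_alternatingGroup (by omega)
  haveI := sylow_transitive3 R a hnc htr
  obtain ⟨ζ, hζR, h3, hfpf, hcomm⟩ := exists_zeta R (3 ^ (a - 1)) (by omega) (by rw [hn, hsplit])
  have hζ3 : ζ ^ 3 = 1 := by
    have h3' : (ζ : Perm Ω) ^ 3 = 1 := by
      ext x
      simp only [pow_succ, pow_zero, one_mul, Perm.mul_apply, Perm.one_apply]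
      exact h3 x
    apply Subtype.ext
    rw [Subgroup.coe_pow, h3']; rfl
  obtain ⟨K, hKR, hKn, hζK, x₀, hBcard⟩ := exists_trisection R a (by omega) hnc ζ hζR hcomm hζ3
  -- the block
  have hBζ : ∀ x ∈ orbit K x₀, (ζ : Perm Ω) x ∈ orbit K x₀ := by
    rintro _ ⟨k, rfl⟩
    refine ⟨⟨ζ, hζK⟩ * k, ?_⟩
    show ((⟨ζ, hζK⟩ : K) * k) • x₀ = (ζ : Perm Ω) (k • x₀)
    rw [mul_smul]; rfl
  have hRW1 : (R : Subgroup (alternatingGroup Ω)) ≤ orbStab (alternatingGroup Ω) (Ω := Ω) K :=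
    le_orbStab_of_normalizes hKn
  have hW2R : (R : Subgroup (alternatingGroup Ω)) ≤
      (Subgroup.centralizer {(ζ : Perm Ω)}).subgroupOf (alternatingGroup Ω) := by
    intro r hr
    rw [Subgroup.mem_subgroupOf, Subgroup.mem_centralizer_iff]
    rintro _ rfl
    exact (congrArg Subtype.val (hcomm r hr)).symm
  have hW2 : (Subgroup.centralizer {(ζ : Perm Ω)}).subgroupOf (alternatingGroup Ω) ≠ ⊤ := by
    intro htop
    have hc : ζ ∈ Subgroup.center (alternatingGroup Ω) := by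
      rw [Subgroup.mem_center_iff]
      intro g
      have : g ∈ (Subgroup.centralizer {(ζ : Perm Ω)}).subgroupOf (alternatingGroup Ω) := by
        rw [htop]; trivial
      rw [Subgroup.mem_subgroupOf, Subgroup.mem_centralizer_iff] at this
      exact Subtype.ext (this _ rfl).symm
    rw [alternatingGroup.center_eq_bot h4, Subgroup.mem_bot] at hc
    exact hfpf x₀ (by rw [hc]; rfl)
  -- a 3-cycle supported in the block preserves the orbit partition
  have h3cyc : ∀ t : Perm Ω, ∀ ht : t.IsThreeCycle, (∀ x, t x ≠ x → x ∈ orbit K x₀) →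
      (⟨t, ht.mem_alternatingGroup⟩ : alternatingGroup Ω) ∈
        orbStab (alternatingGroup Ω) (Ω := Ω) K := by
    intro t ht hsupp
    apply mem_orbStab_of_preserves
    intro x
    show t x ∈ orbit K x
    by_cases hx : t x = x
    · rw [hx]; exact MulAction.mem_orbit_self x
    · have h1 : x ∈ orbit K x₀ := hsupp x hx
      have h2 : t x ∈ orbit K x₀ := hsupp (t x) (fun e => hx (t.injective e))
      rw [← MulAction.orbit_eq_iff.mpr h1] at h2
      exact h2
  have hW1 : orbStab (alternatingGroup Ω) (Ω := Ω) K ≠ ⊤ := by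
    intro htop
    -- three points x y w in the block, z outside
    obtain ⟨x, hxB, -⟩ := Cfsg.Agent.Lib.Helper1.SylMax.exists_mem_notMem (orbit K x₀) ∅
      (by rw [Finset.card_empty]; omega)
    obtain ⟨y, hyB, hy⟩ := Cfsg.Agent.Lib.Helper1.SylMax.exists_mem_notMem (orbit K x₀) {x}
      (by rw [Finset.card_singleton]; omega)
    obtain ⟨w, hwB, hw⟩ := Cfsg.Agent.Lib.Helper1.SylMax.exists_mem_notMem (orbit K x₀) {x, y}
      (by have := Finset.card_le_two (a := x) (b := y); omega)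
    rw [Finset.mem_singleton] at hy
    simp only [Finset.mem_insert, Finset.mem_singleton, not_or] at hw
    obtain ⟨z, hz⟩ : (orbit K x₀)ᶜ.Nonempty := by
      rw [← Set.ncard_pos, Set.ncard_compl, hBcard, hnc, hsplit]
      have : 0 < 3 ^ (a - 1) := by positivity
      omega
    have hzx : z ≠ x := fun e => hz (e ▸ hxB)
    have hzy : z ≠ y := fun e => hz (e ▸ hyB)
    have hzw : z ≠ w := fun e => hz (e ▸ hwB)
    have ht : (cycle3 x y z).IsThreeCycle := cycle3_isThreeCycle (Ne.symm hy) (Ne.symm hzx) (Ne.symm hzy)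
    have hmem : (⟨cycle3 x y z, ht.mem_alternatingGroup⟩ : alternatingGroup Ω) ∈
        orbStab (alternatingGroup Ω) (Ω := Ω) K := by rw [htop]; trivial
    have h1 := (hmem w y).mp (by
      rw [MulAction.orbit_eq_iff.mpr hwB]; exact hyB)
    have e1 : (⟨cycle3 x y z, ht.mem_alternatingGroup⟩ : alternatingGroup Ω) • y = z :=
      cycle3_apply_2 (Ne.symm hzx) (Ne.symm hzy)
    have e2 : (⟨cycle3 x y z, ht.mem_alternatingGroup⟩ : alternatingGroup Ω) • w = w :=
      cycle3_apply_of_ne hw.1 hw.2 (Ne.symm hzw)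
    rw [e1, e2, MulAction.orbit_eq_iff.mpr hwB] at h1
    exact hz h1
  apply Cfsg.Agent.Lib.Helper1.SylMax.not_existsUnique_of_sup _ _ _ hW1 hW2 hRW1 hW2R
  rw [eq_top_iff]
  have hgen := gen_lemma h3 hfpf (orbit K x₀) hBζ (by omega)
    ((orbStab (alternatingGroup Ω) (Ω := Ω) K ⊔
      (Subgroup.centralizer {(ζ : Perm Ω)}).subgroupOf (alternatingGroup Ω)).map
      (alternatingGroup Ω).subtype) ?_ ?_
  · intro g _
    obtain ⟨g', hg', e⟩ := hgen g.2
    have : g' = g := Subtype.ext e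
    rw [← this]; exact hg'
  · intro t ht hsupp
    exact ⟨⟨t, ht.mem_alternatingGroup⟩, (le_sup_left : orbStab (alternatingGroup Ω) (Ω := Ω) K ≤ _)
      (h3cyc t ht hsupp), rfl⟩
  · intro g hg hgc
    refine ⟨⟨g, Perm.mem_alternatingGroup.mpr hg⟩, ?_, rfl⟩
    apply (le_sup_right : (Subgroup.centralizer {(ζ : Perm Ω)}).subgroupOf (alternatingGroup Ω) ≤ _)
    rw [Subgroup.mem_subgroupOf, Subgroup.mem_centralizer_iff]
    rintro _ rfl
    exact hgc.symm

end threepow

open Equiv Equiv.Perm Subgroup MulAction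
open scoped Pointwise

section mainalt

variable {Ω : Type*} [DecidableEq Ω] [Fintype Ω]

theorem main_alt3 (hn5 : 5 ≤ Nat.card Ω) (R : Sylow 3 (alternatingGroup Ω))
    (hu : ∃! M : Subgroup (alternatingGroup Ω), IsCoatom M ∧
      (R : Subgroup (alternatingGroup Ω)) ≤ M) :
    Nat.card Ω = 6 ∨ Nat.card Ω = 9 ∨ ∃ a : ℕ, 2 ≤ a ∧ Nat.card Ω = 3 ^ a + 1 := by
  by_contra h
  have hcf : Fintype.card Ω = Nat.card Ω := Nat.card_eq_fintype_card.symm
  rcases degree_cases3 (Nat.card Ω) hn5 h with ⟨i, j, hij, hci, hcj, hlt, hsum, h2i, h2j⟩ |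
    ⟨a, ha, hn⟩ | ⟨i, j, hi, hij, hn⟩ | ⟨j, hj, hn⟩
  · obtain ⟨s₁, hs₁, hR₁⟩ := exists_fixed_set3 (Ω := Ω) (R : Subgroup (alternatingGroup Ω))
      R.isPGroup' (3 ^ i) hci
    obtain ⟨s₂, hs₂, hR₂⟩ := exists_fixed_set3 (Ω := Ω) (R : Subgroup (alternatingGroup Ω))
      R.isPGroup' (3 ^ j) hcj
    have hpow : 3 ^ i < 3 ^ j := Nat.pow_lt_pow_right (by norm_num) hij
    refine not_unique_two_sets (R : Subgroup (alternatingGroup Ω)) s₁ s₂ hR₁ hR₂ ?_ ?_ ?_ ?_ ?_ ?_
      ?_ ?_ hu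
    · rw [hs₁]; positivity
    · rw [hs₁, hs₂]; exact hpow
    · rw [hs₂]; exact hlt
    · rw [hs₁, hs₂]; exact hsum
    · rw [hs₁]; exact fun e => h2i e.symm
    · rw [hs₂]; exact fun e => h2j e.symm
    · intro t
      exact alternatingGroup.exists_mem_stabilizer_smul_eq (by omega)
    · intro s h0 h1 hs
      exact alternatingGroup.isCoatom_stabilizer h0 h1 hs
  · exact alt_not_unique_three_pow a ha (by rw [hcf, hn]) R hu
  · have hj2 : 2 ≤ j := by omega
    have hpow : 3 ^ i < 3 ^ j := Nat.pow_lt_pow_right (by norm_num) hij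
    have e1 : (3 : ℕ) ^ i = 3 * 3 ^ (i - 1) := by
      rw [← pow_succ']; congr 1; omega
    have e2 : (3 : ℕ) ^ j = 3 * 3 ^ (j - 1) := by
      rw [← pow_succ']; congr 1; omega
    have hpos : 0 < 3 ^ i := by positivity
    refine alt_not_unique_set_cent j (3 ^ (i - 1) + 3 ^ (j - 1)) hj2 ?_ ?_ ?_ ?_ R hu
    · have : 0 < 3 ^ (i - 1) := by positivity
      omega
    · rw [hcf, hn]; omega
    · rw [hcf, hn]; omega
    · apply not_dvd_choose_of_not_dvd_div
      have : Nat.card Ω / 3 ^ j = 1 := by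
        apply Nat.div_eq_of_lt_le <;> omega
      rw [this]; norm_num
  · have e2 : (3 : ℕ) ^ j = 3 * 3 ^ (j - 1) := by
      rw [← pow_succ']; congr 1; omega
    have hpos : 0 < 3 ^ j := by positivity
    refine alt_not_unique_set_cent j (2 * 3 ^ (j - 1)) hj ?_ ?_ ?_ ?_ R hu
    · have : 0 < 3 ^ (j - 1) := by positivity
      omega
    · rw [hcf, hn]; omega
    · rw [hcf, hn]; omega
    · apply not_dvd_choose_of_not_dvd_div
      have : Nat.card Ω / 3 ^ j = 2 := by
        apply Nat.div_eq_of_lt_le <;> omega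
      rw [this]; norm_num

end mainalt

open Equiv Equiv.Perm Subgroup MulAction
open scoped Pointwise

section six

theorem card_type3 : (Finset.univ.filter fun g : Perm (Fin 6) => g.cycleType = {3}).card = 40 := by
  rw [Equiv.Perm.card_of_cycleType]
  decide

theorem card_type33 :
    (Finset.univ.filter fun g : Perm (Fin 6) => g.cycleType = {3, 3}).card = 40 := by
  rw [Equiv.Perm.card_of_cycleType]
  decide

theorem even_of_type (m : Multiset ℕ) (hm : m = {3} ∨ m = {3, 3}) (g : Perm (Fin 6))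
    (hg : g.cycleType = m) : g ∈ alternatingGroup (Fin 6) := by
  rw [Perm.mem_alternatingGroup, sign_of_cycleType, hg]
  rcases hm with rfl | rfl <;> decide

theorem card_alt_type (m : Multiset ℕ) (hm : m = {3} ∨ m = {3, 3}) :
    (Finset.univ.filter fun x : alternatingGroup (Fin 6) =>
      (x : Perm (Fin 6)).cycleType = m).card = 40 := by
  have h40 : (Finset.univ.filter fun g : Perm (Fin 6) => g.cycleType = m).card = 40 := by
    rcases hm with rfl | rfl
    · exact card_type3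
    · exact card_type33
  rw [← h40]
  apply Finset.card_bij (fun (x : alternatingGroup (Fin 6)) _ => (x : Perm (Fin 6)))
  · intro x hx
    simp only [Finset.mem_filter, Finset.mem_univ, true_and] at hx ⊢
    exact hx
  · intro x _ y _ hxy
    exact Subtype.ext hxy
  · intro g hg
    simp only [Finset.mem_filter, Finset.mem_univ, true_and] at hg
    exact ⟨⟨g, even_of_type m hm g hg⟩, by simpa using hg, rfl⟩

theorem type_of_order_three (g : Perm (Fin 6)) (hg : orderOf g = 3) :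
    g.cycleType = {3} ∨ g.cycleType = {3, 3} := by
  obtain ⟨k, hk⟩ := cycleType_prime_order (σ := g) (by rw [hg]; norm_num)
  rw [hg] at hk
  have hsum := sum_cycleType_le g
  rw [hk, Multiset.sum_replicate, Fintype.card_fin, smul_eq_mul] at hsum
  have : k = 0 ∨ k = 1 := by omega
  rcases this with rfl | rfl
  · left; rw [hk]; rfl
  · right; rw [hk]; rfl

theorem order_of_type (g : Perm (Fin 6)) (hg : g.cycleType = {3} ∨ g.cycleType = {3, 3}) :
    orderOf g = 3 := by
  rw [← lcm_cycleType]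
  rcases hg with h | h <;> rw [h] <;> rfl

/-- An automorphism of `A₆` of odd order maps 3-cycles to 3-cycles. -/
theorem three_cycle_of_aut_six (φ : MulAut (alternatingGroup (Fin 6))) (m : ℕ) (hm : Odd m)
    (hφ : φ ^ m = 1) (x : alternatingGroup (Fin 6)) (hx : IsThreeCycle (x : Perm (Fin 6))) :
    IsThreeCycle ((φ x : alternatingGroup (Fin 6)) : Perm (Fin 6)) := by
  by_contra hne
  have hord : ∀ y : alternatingGroup (Fin 6), orderOf (φ y) = orderOf y :=
    fun y => MulEquiv.orderOf_eq φ y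
  have htype : ∀ y : alternatingGroup (Fin 6),
      ((y : Perm (Fin 6)).cycleType = {3} ∨ (y : Perm (Fin 6)).cycleType = {3, 3}) →
      (((φ y : alternatingGroup (Fin 6)) : Perm (Fin 6)).cycleType = {3} ∨
        ((φ y : alternatingGroup (Fin 6)) : Perm (Fin 6)).cycleType = {3, 3}) := by
    intro y hy
    apply type_of_order_three
    rw [Subgroup.orderOf_coe, hord, ← Subgroup.orderOf_coe]
    exact order_of_type _ hy
  have hx1 : (x : Perm (Fin 6)).cycleType = {3} := hx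
  have hφx : ((φ x : alternatingGroup (Fin 6)) : Perm (Fin 6)).cycleType = {3, 3} :=
    (htype x (Or.inl hx1)).resolve_left hne
  -- all 3-cycles go to type (3,3)
  have step1 : ∀ t : alternatingGroup (Fin 6), (t : Perm (Fin 6)).cycleType = {3} →
      ((φ t : alternatingGroup (Fin 6)) : Perm (Fin 6)).cycleType = {3, 3} := by
    intro t ht
    have hconj := alternatingGroup.isThreeCycle_isConj (α := Fin 6) (by simp) hx
      (show IsThreeCycle (t : Perm (Fin 6)) from ht)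
    obtain ⟨c, hc⟩ := isConj_iff.mp hconj
    rw [← hc, map_mul, map_mul, map_inv, Subgroup.coe_mul, Subgroup.coe_mul, Subgroup.coe_inv,
      cycleType_conj]
    exact hφx
  set U₁ := Finset.univ.filter fun x : alternatingGroup (Fin 6) =>
      (x : Perm (Fin 6)).cycleType = {3} with hU₁
  set U₂ := Finset.univ.filter fun x : alternatingGroup (Fin 6) =>
      (x : Perm (Fin 6)).cycleType = {3, 3} with hU₂
  have hc1 : U₁.card = 40 := card_alt_type {3} (Or.inl rfl)
  have hc2 : U₂.card = 40 := card_alt_type {3, 3} (Or.inr rfl)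
  have himg : U₁.image φ = U₂ := by
    apply Finset.eq_of_subset_of_card_le
    · intro y hy
      obtain ⟨t, ht, rfl⟩ := Finset.mem_image.mp hy
      rw [hU₁, Finset.mem_filter] at ht
      rw [hU₂, Finset.mem_filter]
      exact ⟨Finset.mem_univ _, step1 t ht.2⟩
    · rw [Finset.card_image_of_injective _ φ.injective, hc1, hc2]
  have hdisj : ∀ y : alternatingGroup (Fin 6), (y : Perm (Fin 6)).cycleType = {3} →
      (y : Perm (Fin 6)).cycleType = {3, 3} → False := by
    intro y h1 h2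
    rw [h1] at h2
    exact absurd h2 (by decide)
  have step3 : ∀ u : alternatingGroup (Fin 6), (u : Perm (Fin 6)).cycleType = {3, 3} →
      ((φ u : alternatingGroup (Fin 6)) : Perm (Fin 6)).cycleType = {3} := by
    intro u hu
    rcases htype u (Or.inr hu) with h | h
    · exact h
    · exfalso
      have : φ u ∈ U₂ := by rw [hU₂, Finset.mem_filter]; exact ⟨Finset.mem_univ _, h⟩
      rw [← himg] at this
      obtain ⟨t, ht, e⟩ := Finset.mem_image.mp this
      rw [hU₁, Finset.mem_filter] at ht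
      have := φ.injective e
      rw [this] at ht
      exact hdisj u ht.2 hu
  have step4 : ∀ k : ℕ, (Even k → (((φ ^ k) x : alternatingGroup (Fin 6)) : Perm (Fin 6)).cycleType = {3}) ∧
      (Odd k → (((φ ^ k) x : alternatingGroup (Fin 6)) : Perm (Fin 6)).cycleType = {3, 3}) := by
    intro k
    induction k with
    | zero =>
      refine ⟨fun _ => ?_, fun h => absurd h (by decide)⟩
      rw [pow_zero]; exact hx1
    | succ k ih =>
      have e : (φ ^ (k + 1)) x = φ ((φ ^ k) x) := by rw [pow_succ']; rfl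
      rw [e]
      constructor
      · intro hk
        have : Odd k := by
          rcases Nat.even_or_odd k with h | h
          · exact absurd hk (Nat.not_even_iff_odd.mpr h.add_one)
          · exact h
        exact step3 _ (ih.2 this)
      · intro hk
        have : Even k := by
          rcases Nat.even_or_odd k with h | h
          · exact h
          · exact absurd hk (Nat.not_odd_iff_even.mpr h.add_one)
        exact step1 _ (ih.1 this)
  have := (step4 m).2 hm
  rw [hφ] at this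
  exact hdisj x hx1 this

end six

open Equiv Equiv.Perm Subgroup MulAction
open scoped Pointwise
open Cfsg.Agent.S2119

section aut

theorem surj_aux' {n : ℕ} (hn : 4 ≤ n)
    (φ : ↥(alternatingGroup (Fin n)) ≃* ↥(alternatingGroup (Fin n)))
    (h3c : ∀ x : ↥(alternatingGroup (Fin n)), IsThreeCycle (x : Perm (Fin n)) →
      IsThreeCycle ((φ x : ↥(alternatingGroup (Fin n))) : Perm (Fin n))) :
    ∃ σ : Perm (Fin n), ∀ x : ↥(alternatingGroup (Fin n)),
      ((φ x : ↥(alternatingGroup (Fin n))) : Perm (Fin n)) = σ * (x : Perm (Fin n)) * σ⁻¹ := by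
  obtain ⟨p0, p1, i0, i1, h01, h0i0, h1i0, h0i1, h1i1, hi0i1⟩ := exists_four n hn
  have h3 : ∀ i, i ≠ p0 → i ≠ p1 → IsThreeCycle (Hf φ p0 p1 i) :=
    fun i hi0 hi1 => by
      unfold Hf
      apply h3c
      rw [genA_val h01 hi0 hi1]
      exact gen_isThreeCycle h01 hi0 hi1
  have hrel : ∀ i j, i ≠ p0 → i ≠ p1 → j ≠ p0 → j ≠ p1 → i ≠ j →
      Hf φ p0 p1 i * Hf φ p0 p1 j * (Hf φ p0 p1 i * Hf φ p0 p1 j) = 1 :=
    fun i j hi0 hi1 hj0 hj1 hij => Hf_rel φ h01 hi0 hi1 hj0 hj1 hij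
  have hne : ∀ i j, i ≠ p0 → i ≠ p1 → j ≠ p0 → j ≠ p1 → i ≠ j →
      Hf φ p0 p1 j ≠ Hf φ p0 p1 i :=
    fun i j hi0 hi1 hj0 hj1 hij => Hf_ne φ h01 hi0 hi1 hj0 hj1 hij
  have hnei : ∀ i j, i ≠ p0 → i ≠ p1 → j ≠ p0 → j ≠ p1 → i ≠ j →
      Hf φ p0 p1 j ≠ (Hf φ p0 p1 i)⁻¹ :=
    fun i j hi0 hi1 hj0 hj1 hij => Hf_ne_inv φ h01 hi0 hi1 hj0 hj1 hij
  obtain ⟨a, ha1, ha2, ha3⟩ := common_edge (h3 i0 h0i0 h1i0) (h3 i1 h0i1 h1i1)
    (hrel i0 i1 h0i0 h1i0 h0i1 h1i1 hi0i1) (hne i0 i1 h0i0 h1i0 h0i1 h1i1 hi0i1)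
    (hnei i0 i1 h0i0 h1i0 h0i1 h1i1 hi0i1)
  have hga : Hf φ p0 p1 i0 a ≠ a := by rw [ha2]; exact ha1
  have hd : Hf φ p0 p1 i0 (Hf φ p0 p1 i1 (Hf φ p0 p1 i0 a)) =
      Hf φ p0 p1 i1 (Hf φ p0 p1 i0 a) := by rw [ha2]; exact ha3
  obtain ⟨b, hb⟩ : ∃ b, b = Hf φ p0 p1 i0 a := ⟨_, rfl⟩
  have hba : b ≠ a := by rw [hb]; exact hga
  have key : ∀ i, i ≠ p0 → i ≠ p1 → Hf φ p0 p1 i a = b := by
    intro i hi0 hi1
    rw [hb]
    by_cases e0 : i = i0
    · rw [e0]
    by_cases e1 : i = i1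
    · rw [e1, ha2]
    exact triple (h3 i0 h0i0 h1i0) (h3 i1 h0i1 h1i1) (h3 i hi0 hi1) hga ha2.symm hd
      (hrel i0 i h0i0 h1i0 hi0 hi1 (Ne.symm e0)) (hrel i1 i h0i1 h1i1 hi0 hi1 (Ne.symm e1))
      (hne i0 i h0i0 h1i0 hi0 hi1 (Ne.symm e0)) (hnei i0 i h0i0 h1i0 hi0 hi1 (Ne.symm e0))
      (hne i1 i h0i1 h1i1 hi0 hi1 (Ne.symm e1)) (hnei i1 i h0i1 h1i1 hi0 hi1 (Ne.symm e1))
  have hmoved : ∀ i, i ≠ p0 → i ≠ p1 → Hf φ p0 p1 i a ≠ a := by
    intro i hi0 hi1
    rw [key i hi0 hi1]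
    exact hba
  have hc1 : ∀ i, i ≠ p0 → i ≠ p1 → Hf φ p0 p1 i b ≠ b := by
    intro i hi0 hi1
    have h := tc_ne1 (hmoved i hi0 hi1)
    rwa [key i hi0 hi1] at h
  have hc2 : ∀ i, i ≠ p0 → i ≠ p1 → Hf φ p0 p1 i b ≠ a := by
    intro i hi0 hi1
    have h := tc_ne2 (h3 i hi0 hi1) (hmoved i hi0 hi1)
    rwa [key i hi0 hi1] at h
  have hc3 : ∀ i j, i ≠ p0 → i ≠ p1 → j ≠ p0 → j ≠ p1 → i ≠ j →
      Hf φ p0 p1 i b ≠ Hf φ p0 p1 j b := by
    intro i j hi0 hi1 hj0 hj1 hij heq
    apply hne i j hi0 hi1 hj0 hj1 hij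
    refine tc_ext (h3 i hi0 hi1) (h3 j hj0 hj1) (hmoved i hi0 hi1) ?_ ?_
    · rw [key j hj0 hj1, key i hi0 hi1]
    · rw [key i hi0 hi1]
      exact heq.symm
  have hσ0 : sigF φ p0 p1 a b p0 = a := by
    simp [sigF]
  have hσ1 : sigF φ p0 p1 a b p1 = b := by
    simp [sigF, h01.symm]
  have hσi : ∀ i, i ≠ p0 → i ≠ p1 → sigF φ p0 p1 a b i = Hf φ p0 p1 i b := by
    intro i hi0 hi1
    simp [sigF, hi0, hi1]
  have hinj : Function.Injective (sigF φ p0 p1 a b) := by
    intro x y hxy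
    by_cases hx0 : x = p0
    · by_cases hy0 : y = p0
      · rw [hx0, hy0]
      · by_cases hy1 : y = p1
        · exfalso
          rw [hx0, hy1, hσ0, hσ1] at hxy
          exact hba hxy.symm
        · exfalso
          rw [hx0, hσ0, hσi y hy0 hy1] at hxy
          exact hc2 y hy0 hy1 hxy.symm
    · by_cases hx1 : x = p1
      · by_cases hy0 : y = p0
        · exfalso
          rw [hx1, hy0, hσ0, hσ1] at hxy
          exact hba hxy
        · by_cases hy1 : y = p1
          · rw [hx1, hy1]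
          · exfalso
            rw [hx1, hσ1, hσi y hy0 hy1] at hxy
            exact hc1 y hy0 hy1 hxy.symm
      · by_cases hy0 : y = p0
        · exfalso
          rw [hy0, hσ0, hσi x hx0 hx1] at hxy
          exact hc2 x hx0 hx1 hxy
        · by_cases hy1 : y = p1
          · exfalso
            rw [hy1, hσ1, hσi x hx0 hx1] at hxy
            exact hc1 x hx0 hx1 hxy
          · by_contra hne'
            rw [hσi x hx0 hx1, hσi y hy0 hy1] at hxy
            exact hc3 x y hx0 hx1 hy0 hy1 hne' hxy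
  obtain ⟨σ, hσapp⟩ : ∃ σ : Perm (Fin n), ∀ x, σ x = sigF φ p0 p1 a b x :=
    ⟨Equiv.ofBijective _ ⟨hinj, Finite.surjective_of_injective hinj⟩, fun x => rfl⟩
  have hconj : ∀ i, i ≠ p0 → i ≠ p1 →
      σ * (swap p0 p1 * swap p1 i) * σ⁻¹ = Hf φ p0 p1 i := by
    intro i hi0 hi1
    have e : σ * (swap p0 p1 * swap p1 i) * σ⁻¹ =
        swap (σ p0) (σ p1) * swap (σ p1) (σ i) := by
      rw [swap_apply_apply, swap_apply_apply]
      group
    rw [e, hσapp, hσapp, hσapp, hσ0, hσ1, hσi i hi0 hi1]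
    have hc1' := hc1 i hi0 hi1
    have hc2' := hc2 i hi0 hi1
    have h3c : IsThreeCycle (swap a b * swap b (Hf φ p0 p1 i b)) := by
      rw [swap_comm a b]
      exact isThreeCycle_swap_mul_swap_same hba hc1'.symm hc2'.symm
    refine tc_ext (h3 i hi0 hi1) h3c (hmoved i hi0 hi1) ?_ ?_
    · rw [key i hi0 hi1, Perm.mul_apply, swap_apply_of_ne_of_ne hba.symm hc2'.symm,
        swap_apply_left]
    · rw [key i hi0 hi1, Perm.mul_apply, swap_apply_left, swap_apply_of_ne_of_ne hc2' hc1']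
  refine ⟨σ, ?_⟩
  have hcl := gen_closure p0 p1 h01
  have hP : ∀ y ∈ Subgroup.closure
      {g : Perm (Fin n) | ∃ i, i ≠ p0 ∧ i ≠ p1 ∧ g = swap p0 p1 * swap p1 i},
      ∃ hy : y ∈ alternatingGroup (Fin n),
        ((φ ⟨y, hy⟩ : ↥(alternatingGroup (Fin n))) : Perm (Fin n)) = σ * y * σ⁻¹ := by
    intro y hy
    induction hy using Subgroup.closure_induction with
    | mem y hy =>
      obtain ⟨i, hi0, hi1, rfl⟩ := hy
      refine ⟨(gen_isThreeCycle h01 hi0 hi1).mem_alternatingGroup, ?_⟩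
      rw [hconj i hi0 hi1]
      have e : ∀ hm, (⟨swap p0 p1 * swap p1 i, hm⟩ : ↥(alternatingGroup (Fin n))) =
          genA p0 p1 i := fun hm => Subtype.ext (genA_val h01 hi0 hi1).symm
      rw [e]
      rfl
    | one =>
      refine ⟨one_mem _, ?_⟩
      have e : (⟨1, one_mem _⟩ : ↥(alternatingGroup (Fin n))) = 1 := rfl
      rw [e, map_one]
      simp
    | mul y z _ _ hy hz =>
      obtain ⟨hy1, hy2⟩ := hy
      obtain ⟨hz1, hz2⟩ := hz
      refine ⟨mul_mem hy1 hz1, ?_⟩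
      have e : (⟨y * z, mul_mem hy1 hz1⟩ : ↥(alternatingGroup (Fin n))) =
          ⟨y, hy1⟩ * ⟨z, hz1⟩ := rfl
      rw [e, map_mul, Subgroup.coe_mul, hy2, hz2]
      group
    | inv y _ hy =>
      obtain ⟨hy1, hy2⟩ := hy
      refine ⟨inv_mem hy1, ?_⟩
      have e : (⟨y⁻¹, inv_mem hy1⟩ : ↥(alternatingGroup (Fin n))) = (⟨y, hy1⟩)⁻¹ := rfl
      rw [e, map_inv, Subgroup.coe_inv, hy2]
      group
  intro x
  obtain ⟨hx1, hx2⟩ := hP x.1 (hcl x.2)
  exact hx2

theorem aut_inner_of_three_pow {n : ℕ} (hn : 5 ≤ n)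
    (φ : MulAut ↥(alternatingGroup (Fin n))) (k : ℕ) (hφ : φ ^ (3 ^ k) = 1) :
    ∃ σ : ↥(alternatingGroup (Fin n)), ∀ x : ↥(alternatingGroup (Fin n)), φ x = σ * x * σ⁻¹ := by
  have hodd : Odd (3 ^ k) := Odd.pow (by decide)
  have h3c : ∀ x : ↥(alternatingGroup (Fin n)), IsThreeCycle (x : Perm (Fin n)) →
      IsThreeCycle ((φ x : ↥(alternatingGroup (Fin n))) : Perm (Fin n)) := by
    by_cases h6 : n = 6
    · subst h6
      exact three_cycle_of_aut_six φ _ hodd hφ
    · exact fun x hx => three_cycle_of_aut h6 φ x hx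
  obtain ⟨σ₀, hσ₀⟩ := surj_aux' (by omega) φ h3c
  have hpow : ∀ m : ℕ, ∀ x : ↥(alternatingGroup (Fin n)),
      (((φ ^ m) x : ↥(alternatingGroup (Fin n))) : Perm (Fin n)) =
        σ₀ ^ m * (x : Perm (Fin n)) * (σ₀ ^ m)⁻¹ := by
    intro m
    induction m with
    | zero => intro x; simp
    | succ m ih =>
      intro x
      have e : (φ ^ (m + 1)) x = φ ((φ ^ m) x) := by rw [pow_succ']; rfl
      rw [e, hσ₀, ih, pow_succ']
      group
  have h1 : σ₀ ^ (3 ^ k) = 1 := by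
    apply inj_aux (by omega : 4 ≤ n)
    rw [map_one]
    apply MulEquiv.ext
    intro x
    apply Subtype.ext
    rw [MulAut.conjNormal_apply, ← hpow, hφ]
  have hsign : Equiv.Perm.sign σ₀ = 1 := by
    have h2 : (Equiv.Perm.sign σ₀) ^ (3 ^ k) = 1 := by rw [← map_pow, h1, map_one]
    rcases Int.units_eq_one_or (Equiv.Perm.sign σ₀) with h | h
    · exact h
    · rw [h, hodd.neg_one_pow] at h2
      exact absurd h2 (by decide)
  refine ⟨⟨σ₀, Perm.mem_alternatingGroup.mpr hsign⟩, fun x => ?_⟩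
  apply Subtype.ext
  rw [hσ₀]
  rfl

end aut

open Equiv Equiv.Perm Subgroup MulAction
open scoped Pointwise

section first

variable {X : Type*} [Group X] [Finite X]

/-- every `3`-element of `X` lies in `F*(X) ≅ Aₙ` -/
theorem three_elt_mem_gfs (n : ℕ) (hn : 5 ≤ n)
    (e : ↥(Cfsg.generalizedFittingSubgroup X) ≃* ↥(alternatingGroup (Fin n)))
    (x : X) (k : ℕ) (hx : x ^ (3 ^ k) = 1) : x ∈ Cfsg.generalizedFittingSubgroup X := by
  haveI hchar := Cfsg.Agent.Lib.Helper9.gfs_characteristic (G := X)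
  haveI hKn : (Cfsg.generalizedFittingSubgroup X).Normal := inferInstance
  -- the homomorphism X → Aut(Aₙ)
  let Φ : X →* MulAut ↥(alternatingGroup (Fin n)) :=
    (MulAut.congr e).toMonoidHom.comp
      (MulAut.conjNormal (H := Cfsg.generalizedFittingSubgroup X))
  have hΦ : (Φ x) ^ (3 ^ k) = 1 := by rw [← map_pow, hx, map_one]
  obtain ⟨σ, hσ⟩ := aut_inner_of_three_pow hn (Φ x) k hΦ
  -- pull back σ
  have hkey : ∀ y : ↥(Cfsg.generalizedFittingSubgroup X),
      x * (y : X) * x⁻¹ = (e.symm σ : X) * (y : X) * (e.symm σ : X)⁻¹ := by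
    intro y
    have h1 := hσ (e y)
    have h2 : Φ x (e y) = e (MulAut.conjNormal x y) := by
      show e (MulAut.conjNormal x (e.symm (e y))) = _
      rw [MulEquiv.symm_apply_apply]
    rw [h2] at h1
    have h3 : MulAut.conjNormal x y = e.symm σ * y * (e.symm σ)⁻¹ := by
      apply e.injective
      rw [h1, map_mul, map_mul, map_inv, MulEquiv.apply_symm_apply]
    have h4 := congrArg Subtype.val h3
    rw [MulAut.conjNormal_apply] at h4
    simpa using h4
  have hcent : (e.symm σ : X)⁻¹ * x ∈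
      Subgroup.centralizer (Cfsg.generalizedFittingSubgroup X : Set X) := by
    rw [Subgroup.mem_centralizer_iff]
    intro y hy
    have := hkey ⟨y, hy⟩
    simp only at this
    calc y * ((e.symm σ : X)⁻¹ * x)
        = (e.symm σ : X)⁻¹ * ((e.symm σ : X) * y * (e.symm σ : X)⁻¹) * x := by group
      _ = (e.symm σ : X)⁻¹ * (x * y * x⁻¹) * x := by rw [this]
      _ = (e.symm σ : X)⁻¹ * x * y := by group
  have hmem := Cfsg.Agent.Lib.Helper9.centralizer_gfs_le hcent
  have := mul_mem (e.symm σ).2 hmem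
  simpa using this

theorem gfs_eq_top_of_three_minimal (hX : Cfsg.IsPMinimal 3 X) (n : ℕ) (hn : 5 ≤ n)
    (e : ↥(Cfsg.generalizedFittingSubgroup X) ≃* ↥(alternatingGroup (Fin n))) :
    Cfsg.generalizedFittingSubgroup X = ⊤ := by
  haveI : Fact (Nat.Prime 3) := ⟨by norm_num⟩
  haveI hchar := Cfsg.Agent.Lib.Helper9.gfs_characteristic (G := X)
  haveI hKn : (Cfsg.generalizedFittingSubgroup X).Normal := inferInstance
  by_contra hne
  obtain ⟨S⟩ : Nonempty (Sylow 3 X) := inferInstance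
  obtain ⟨hSn, M, ⟨hM, hSM⟩, huniq⟩ := hX S
  have hSK : (S : Subgroup X) ≤ Cfsg.generalizedFittingSubgroup X := by
    intro s hs
    obtain ⟨k, hk⟩ := S.isPGroup' ⟨s, hs⟩
    apply three_elt_mem_gfs n hn e s k
    have := congrArg Subtype.val hk
    simpa using this
  obtain ⟨M₀, hM₀, hKM₀⟩ := (eq_top_or_exists_le_coatom _).resolve_left hne
  have hNne : Subgroup.normalizer ((S : Subgroup X) : Set X) ≠ ⊤ := by
    intro h
    exact hSn (Subgroup.normalizer_eq_top_iff.mp h)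
  obtain ⟨M₁, hM₁, hNM₁⟩ := (eq_top_or_exists_le_coatom _).resolve_left hNne
  have e0 : M₀ = M := huniq M₀ ⟨hM₀, hSK.trans hKM₀⟩
  have e1 : M₁ = M := huniq M₁ ⟨hM₁, Subgroup.le_normalizer.trans hNM₁⟩
  have hfr := Sylow.normalizer_sup_eq_top (S.subtype hSK)
  have hmap : ((S.subtype hSK : Sylow 3 ↥(Cfsg.generalizedFittingSubgroup X)) :
      Subgroup ↥(Cfsg.generalizedFittingSubgroup X)).map
        (Cfsg.generalizedFittingSubgroup X).subtype = (S : Subgroup X) := by
    rw [Sylow.coe_subtype, Subgroup.map_subgroupOf_eq_of_le hSK]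
  rw [hmap] at hfr
  apply hM.1
  rw [eq_top_iff, ← hfr]
  exact sup_le (e1 ▸ hNM₁) (e0 ▸ hKM₀)

end first

section transfer

theorem existsUnique_coatom_of_equiv {G H : Type*} [Group G] [Group H] (f : G ≃* H)
    (S : Subgroup G) (h : ∃! M : Subgroup G, IsCoatom M ∧ S ≤ M) :
    ∃! M' : Subgroup H, IsCoatom M' ∧ S.map f.toMonoidHom ≤ M' := by
  obtain ⟨M, ⟨hM, hSM⟩, huniq⟩ := h
  have hco : ∀ N : Subgroup G, IsCoatom N → IsCoatom (N.map f.toMonoidHom) := by
    intro N hN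
    exact (OrderIso.isCoatom_iff f.mapSubgroup N).mpr hN
  have hco' : ∀ N' : Subgroup H, IsCoatom N' → IsCoatom (N'.comap f.toMonoidHom) := by
    intro N' hN'
    have := (OrderIso.isCoatom_iff f.symm.mapSubgroup N').mpr hN'
    have e : f.symm.mapSubgroup N' = N'.comap f.toMonoidHom := by
      show N'.map f.symm.toMonoidHom = _
      exact Subgroup.map_equiv_eq_comap_symm' f.symm N'
    rwa [e] at this
  refine ⟨M.map f.toMonoidHom, ⟨hco M hM, Subgroup.map_mono hSM⟩, ?_⟩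
  rintro M' ⟨hM', hSM'⟩
  have h1 := huniq (M'.comap f.toMonoidHom) ⟨hco' M' hM', Subgroup.map_le_iff_le_comap.mp hSM'⟩
  rw [← h1, Subgroup.map_comap_eq_self_of_surjective f.surjective]

end transfer

/-- **S2930**. -/
theorem main {X : Type*} [Group X] [Finite X] (hX : Cfsg.IsPMinimal 3 X) (n : ℕ) (hn : 5 ≤ n)
    (hF : Nonempty (↥(Cfsg.generalizedFittingSubgroup X) ≃* ↥(alternatingGroup (Fin n)))) :
    Cfsg.generalizedFittingSubgroup X = ⊤ ∧
      (n = 6 ∨ n = 9 ∨ ∃ a : ℕ, 2 ≤ a ∧ n = 3 ^ a + 1) := by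
  haveI : Fact (Nat.Prime 3) := ⟨by norm_num⟩
  obtain ⟨e⟩ := hF
  have hK := gfs_eq_top_of_three_minimal hX n hn e
  refine ⟨hK, ?_⟩
  obtain ⟨e', -⟩ : ∃ e' : X ≃* ↥(alternatingGroup (Fin n)), True :=
    ⟨(Subgroup.topEquiv.symm.trans (MulEquiv.subgroupCongr hK.symm)).trans e, trivial⟩
  obtain ⟨R⟩ : Nonempty (Sylow 3 ↥(alternatingGroup (Fin n))) := inferInstance
  have hrange : (R : Subgroup ↥(alternatingGroup (Fin n))) ≤ e'.toMonoidHom.range := by
    intro r _
    exact ⟨e'.symm r, e'.apply_symm_apply r⟩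
  have hu := existsUnique_coatom_of_equiv e'
    ((R.comapOfInjective e'.toMonoidHom e'.injective hrange : Sylow 3 X) : Subgroup X)
    (hX _).2
  change ∃! M' : Subgroup ↥(alternatingGroup (Fin n)), IsCoatom M' ∧
    ((R : Subgroup ↥(alternatingGroup (Fin n))).comap e'.toMonoidHom).map e'.toMonoidHom ≤ M' at hu
  rw [Subgroup.map_comap_eq_self_of_surjective e'.surjective] at hu
  have := main_alt3 (Ω := Fin n) (by rw [Nat.card_eq_fintype_card, Fintype.card_fin]; exact hn) R hu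
  rw [Nat.card_eq_fintype_card, Fintype.card_fin] at this
  exact this

end Cfsg.Agent.Lib.Helper1.TM3
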