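import Mathlib

/-!
# A transfer lemma on squares (helper1)

`H1Transfer.transfer_eq_pow_mul`: cycle formula for the transfer, packaged as
`V g = ϕ g ^ [G:H] * c` with `c` the image of an element of `H ∩ G'`.
`H1Transfer.sq_mem_commutator`: `N ⊴ G`, `P` a 2-subgroup of odd index, `P/(P∩N)P'` and
`(P∩N)P'/P'` of exponent 2, `N/N'` of odd order  ⟹  `P/P'` has exponent 2.
-/

open scoped commutatorElement
open MulAction Subgroup

namespace H1Transfer

/-- Cycle formula, packaged: the transfer of `g ∈ H` is `ϕ g ^ [G:H]` times the image of an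
element of `H ∩ G'`. -/
theorem transfer_eq_pow_mul {G : Type*} [Group G] {H : Subgroup G} [H.FiniteIndex]
    {A : Type*} [CommGroup A] (ϕ : H →* A) (g : H) :
    ∃ c ∈ ((_root_.commutator G).subgroupOf H).map ϕ,
      MonoidHom.transfer ϕ (g : G) = ϕ g ^ H.index * c := by
  classical
  let := H.fintypeQuotientOfFiniteIndex
  rw [MonoidHom.transfer_eq_prod_quotient_orbitRel_zpowers_quot]
  set n : Quotient (orbitRel (zpowers (g : G)) (G ⧸ H)) → ℕ :=
    fun q => Function.minimalPeriod ((g : G) • ·) q.out with hn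
  have hmem : ∀ q : Quotient (orbitRel (zpowers (g : G)) (G ⧸ H)),
      q.out.out⁻¹ * (g : G) ^ n q * q.out.out ∈ H :=
    fun q => QuotientGroup.out_conj_pow_minimalPeriod_mem H (g : G) q.out
  -- each factor
  have key : ∀ q : Quotient (orbitRel (zpowers (g : G)) (G ⧸ H)),
      ∃ c ∈ ((_root_.commutator G).subgroupOf H).map ϕ,
        ϕ ⟨q.out.out⁻¹ * (g : G) ^ n q * q.out.out, hmem q⟩ = ϕ g ^ n q * c := by
    intro q
    refine ⟨ϕ ((g ^ n q)⁻¹ * ⟨q.out.out⁻¹ * (g : G) ^ n q * q.out.out, hmem q⟩),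
      Subgroup.mem_map_of_mem _ ?_, ?_⟩
    · rw [Subgroup.mem_subgroupOf]
      have : (((g ^ n q)⁻¹ * ⟨q.out.out⁻¹ * (g : G) ^ n q * q.out.out, hmem q⟩ : H) : G)
          = ⁅((g : G) ^ n q)⁻¹, q.out.out⁻¹⁆ := by
        simp [commutatorElement_def, mul_assoc]
      rw [this]
      exact Subgroup.commutator_mem_commutator (Subgroup.mem_top _) (Subgroup.mem_top _)
    · rw [map_mul, map_inv, map_pow]; simp
  choose c hc hc' using key
  refine ⟨∏ q, c q, Subgroup.prod_mem _ (fun q _ => hc q), ?_⟩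
  have : ∀ q, ϕ ⟨q.out.out⁻¹ * (g : G) ^ Function.minimalPeriod ((g : G) • ·) q.out * q.out.out,
      QuotientGroup.out_conj_pow_minimalPeriod_mem H (g : G) q.out⟩ = ϕ g ^ n q * c q := hc'
  rw [Finset.prod_congr rfl (fun q _ => this q), Finset.prod_mul_distrib,
    Finset.prod_pow_eq_pow_sum, Subgroup.index_eq_sum_minimalPeriod H (g : G)]

/-- `ϕ h = 1` in the abelianization of `P` iff `h ∈ ⁅P, P⁆`. -/
theorem ab_of_eq_one_iff {G : Type*} [Group G] (P : Subgroup G) (h : P) :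
    (Abelianization.of h : Abelianization P) = 1 ↔ (h : G) ∈ ⁅P, P⁆ := by
  rw [← Subgroup.map_subtype_commutator]
  constructor
  · intro hh
    have : h ∈ _root_.commutator P := by
      have := (QuotientGroup.eq_one_iff (N := _root_.commutator P) h).mp hh
      exact this
    exact ⟨h, this, rfl⟩
  · rintro ⟨h', hh', he⟩
    have : h' = h := Subtype.ext he
    subst this
    exact (QuotientGroup.eq_one_iff (N := _root_.commutator P) h').mpr hh'

theorem sq_mem_commutator_of_top {G : Type*} [Group G] [Finite G] (N P : Subgroup G) [N.Normal]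
    (hP2 : IsPGroup 2 P) (hodd : Odd P.index) (hsup : N ⊔ P = ⊤)
    (hP : ∀ x ∈ P, x ^ 2 ∈ (P ⊓ N) ⊔ ⁅P, P⁆)
    (hQ : ∀ x ∈ P ⊓ N, x ^ 2 ∈ ⁅P, P⁆)
    (hN : Odd (Nat.card (Abelianization N))) :
    ∀ x ∈ P, x ^ 2 ∈ ⁅P, P⁆ := by
  classical
  set ϕ : P →* Abelianization P := Abelianization.of with hϕ
  set V : G →* Abelianization P := MonoidHom.transfer ϕ with hV
  -- A is a 2-group
  have hA2 : IsPGroup 2 (Abelianization P) := hP2.to_quotient _
  -- F2: V kills N
  have F2 : ∀ y ∈ N, V y = 1 := by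
    intro y hy
    set f : N →* Abelianization P := V.comp N.subtype with hf
    have h1 : (Abelianization.lift f) (Abelianization.of ⟨y, hy⟩) = V y := by
      simp [hf]
    have h2 : (V y) ^ Nat.card (Abelianization N) = 1 := by
      rw [← h1, ← map_pow, pow_card_eq_one', map_one]
    obtain ⟨k, hk⟩ := hA2 (V y)
    have h3 : orderOf (V y) ∣ Nat.gcd (Nat.card (Abelianization N)) (2 ^ k) :=
      Nat.dvd_gcd (orderOf_dvd_of_pow_eq_one h2) (orderOf_dvd_of_pow_eq_one hk)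
    have h4 : Nat.gcd (Nat.card (Abelianization N)) (2 ^ k) = 1 := by
      apply Nat.Coprime.pow_right
      exact (Nat.coprime_two_right).mpr hN
    rw [h4] at h3
    exact orderOf_eq_one_iff.mp (Nat.dvd_one.mp h3)
  -- F3
  have F3 : _root_.commutator G ≤ N ⊔ ⁅P, P⁆ := by
    have h0 : N.map (QuotientGroup.mk' N) = ⊥ := by
      rw [Subgroup.map_eq_bot_iff, QuotientGroup.ker_mk']
    have h1 : (_root_.commutator G).map (QuotientGroup.mk' N) = (⁅P, P⁆).map (QuotientGroup.mk' N) := by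
      rw [_root_.commutator_def, Subgroup.map_commutator, Subgroup.map_commutator, ← hsup,
        Subgroup.map_sup, h0, bot_sup_eq]
    have h2 : _root_.commutator G ≤ ((_root_.commutator G).map (QuotientGroup.mk' N)).comap (QuotientGroup.mk' N) :=
      Subgroup.le_comap_map _ _
    rw [h1, Subgroup.comap_map_eq, QuotientGroup.ker_mk', sup_comm] at h2
    exact h2
  -- decomposition
  have dec : ∀ u ∈ N ⊔ ⁅P, P⁆, ∃ y ∈ N, ∃ d ∈ ⁅P, P⁆, u = y * d := by
    intro u hu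
    have : u ∈ ((N ⊔ ⁅P, P⁆ : Subgroup G) : Set G) := hu
    rw [Subgroup.normal_mul] at this
    obtain ⟨y, hy, d, hd, rfl⟩ := this
    exact ⟨y, hy, d, hd, rfl⟩
  have hcomP : ⁅P, P⁆ ≤ P := commutator_le_self P
  have Vd : ∀ d ∈ ⁅P, P⁆, V d = 1 := by
    intro d hd
    have : d ∈ _root_.commutator G := by
      rw [_root_.commutator_def]
      exact Subgroup.commutator_mono le_top le_top hd
    exact MonoidHom.mem_ker.mp (Abelianization.commutator_subset_ker V this)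
  intro x hx
  obtain ⟨c, hc, hVx⟩ := transfer_eq_pow_mul ϕ ⟨x, hx⟩
  -- (i) c^2 = 1
  have hc2 : c ^ 2 = 1 := by
    obtain ⟨u, hu, rfl⟩ := hc
    have hu : (u : G) ∈ _root_.commutator G := Subgroup.mem_subgroupOf.mp hu
    obtain ⟨y, hy, d, hd, hud⟩ := dec _ (F3 hu)
    have hyP : y ∈ P := by
      have : y = (u : G) * d⁻¹ := by rw [hud]; group
      rw [this]
      exact P.mul_mem u.2 (P.inv_mem (hcomP hd))
    have hu' : u = ⟨y, hyP⟩ * ⟨d, hcomP hd⟩ := Subtype.ext hud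
    rw [hu', map_mul, (ab_of_eq_one_iff P ⟨d, hcomP hd⟩).mpr hd, mul_one, ← map_pow]
    rw [ab_of_eq_one_iff]
    exact hQ y ⟨hyP, hy⟩
  -- (ii) V(x)^2 = 1
  have hV2 : V x ^ 2 = 1 := by
    rw [← map_pow]
    have h1 : x ^ 2 ∈ N ⊔ ⁅P, P⁆ :=
      (sup_le_sup_right (inf_le_right : P ⊓ N ≤ N) ⁅P, P⁆) (hP x hx)
    obtain ⟨y, hy, d, hd, hxd⟩ := dec _ h1
    rw [hxd, map_mul, F2 y hy, Vd d hd, mul_one]
  -- (iii)
  have h3 : ϕ ⟨x, hx⟩ ^ (2 * P.index) = 1 := by
    have : V x = ϕ ⟨x, hx⟩ ^ P.index * c := hVx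
    rw [this, mul_pow, hc2, mul_one, ← pow_mul, mul_comm] at hV2
    exact hV2
  obtain ⟨k, hk⟩ := hA2 (ϕ ⟨x, hx⟩)
  have h4 : orderOf (ϕ ⟨x, hx⟩) ∣ Nat.gcd (2 * P.index) (2 ^ k) :=
    Nat.dvd_gcd (orderOf_dvd_of_pow_eq_one h3) (orderOf_dvd_of_pow_eq_one hk)
  have h5 : Nat.gcd (2 * P.index) (2 ^ k) ∣ 2 := by
    have hc : Nat.Coprime P.index (2 ^ k) := Nat.Coprime.pow_right _ ((Nat.coprime_two_right).mpr hodd)
    have : Nat.gcd (2 * P.index) (2 ^ k) = Nat.gcd 2 (2 ^ k) :=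
      Nat.gcd_mul_left_left_of_gcd_eq_one hc
    rw [this]; exact Nat.gcd_dvd_left _ _
  have h6 : ϕ ⟨x, hx⟩ ^ 2 = 1 := orderOf_dvd_iff_pow_eq_one.mp (h4.trans h5)
  rw [← map_pow, ab_of_eq_one_iff] at h6
  exact h6

theorem subgroupOf_commutator {G : Type*} [Group G] (P L : Subgroup G) (hPL : P ≤ L) :
    (⁅P, P⁆).subgroupOf L = ⁅P.subgroupOf L, P.subgroupOf L⁆ := by
  apply Subgroup.map_injective L.subtype_injective
  rw [Subgroup.map_commutator, Subgroup.map_subgroupOf_eq_of_le hPL,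
    Subgroup.map_subgroupOf_eq_of_le ((commutator_le_self P).trans hPL)]

theorem sq_mem_commutator {G : Type*} [Group G] [Finite G] (N P : Subgroup G) [N.Normal]
    (hP2 : IsPGroup 2 P) (hodd : Odd P.index)
    (hP : ∀ x ∈ P, x ^ 2 ∈ (P ⊓ N) ⊔ ⁅P, P⁆)
    (hQ : ∀ x ∈ P ⊓ N, x ^ 2 ∈ ⁅P, P⁆)
    (hN : Odd (Nat.card (Abelianization N))) :
    ∀ x ∈ P, x ^ 2 ∈ ⁅P, P⁆ := by
  set L : Subgroup G := N ⊔ P with hL
  have hNL : N ≤ L := le_sup_left
  have hPL : P ≤ L := le_sup_right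
  have hcL : ⁅P, P⁆ ≤ L := (commutator_le_self P).trans hPL
  have key := sq_mem_commutator_of_top (G := L) (N.subgroupOf L) (P.subgroupOf L)
    (hP2.comap_of_injective _ L.subtype_injective) ?_ ?_ ?_ ?_ ?_
  · intro x hx
    have := key ⟨x, hPL hx⟩ (Subgroup.mem_subgroupOf.mpr hx)
    rw [← subgroupOf_commutator P L hPL, Subgroup.mem_subgroupOf] at this
    exact this
  · -- index odd
    have h1 : P.relIndex L * L.index = P.index := Subgroup.relIndex_mul_index hPL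
    have : Odd (P.relIndex L) := by
      rw [← h1] at hodd
      exact (Nat.odd_mul.mp hodd).1
    exact this
  · rw [← Subgroup.subgroupOf_sup hNL hPL, Subgroup.subgroupOf_self]
  · intro x hx
    have hx' : (x : G) ∈ P := Subgroup.mem_subgroupOf.mp hx
    have h1 := hP x hx'
    have h2 : x ^ 2 ∈ ((P ⊓ N) ⊔ ⁅P, P⁆).subgroupOf L := by
      rw [Subgroup.mem_subgroupOf]; exact_mod_cast h1
    rw [Subgroup.subgroupOf_sup (inf_le_left.trans hPL) hcL, subgroupOf_commutator P L hPL] at h2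
    have h3 : (P ⊓ N).subgroupOf L = P.subgroupOf L ⊓ N.subgroupOf L := by
      ext z; simp [Subgroup.mem_subgroupOf]
    rw [h3] at h2
    exact h2
  · intro x hx
    rw [← subgroupOf_commutator P L hPL, Subgroup.mem_subgroupOf]
    have hx' : (x : G) ∈ P ⊓ N := by
      rcases hx with ⟨h1, h2⟩
      exact ⟨Subgroup.mem_subgroupOf.mp h1, Subgroup.mem_subgroupOf.mp h2⟩
    exact_mod_cast hQ x hx'
  · have e : N.subgroupOf L ≃* N := Subgroup.subgroupOfEquivOfLe hNL
    rw [Nat.card_congr (MulEquiv.abelianizationCongr e).toEquiv]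
    exact hN

end H1Transfer
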