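import Cfsg.Agent.Lib.Helper27.TreeDefs

/-!
# S2079-T3 (helper27's Out(Fi22) front): five small independent lemmas  (helper1)
-/

set_option autoImplicit false

namespace Cfsg.Agent.Lib.Helper27.TreeSift

open Cfsg.Agent.Lib.Helper28.BSGS Cfsg.Agent.Lib.Helper22.SuzOut MulAction

/-- T3a: base points along a cycle of `g`, an element `z` with `z * g = g' * z` -/
theorem himg_of_conj (n : ℕ) [NeZero n] (g g' z : Equiv.Perm (Fin n)) (f f' : ℕ → ℕ)
    (hg : ∀ a : Fin n, (g a).val = f a.val)
    (hg' : ∀ a : Fin n, (g' a).val = f' a.val) (hz : z * g = g' * z) :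
    ∀ (levels : List TLevel), (∀ lv ∈ levels, lv.1 < n) → basesOK f levels = true →
      ∀ y : ℕ, (∀ lv ∈ levels.head?, (z (pt n lv.1)).val = y) →
      List.Forall₂ (fun (lv : TLevel) (y : ℕ) => (z (pt n lv.1)).val = y) levels
        (iterImgs f' levels.length y) := by
  intro levels
  induction levels with
  | nil =>
    intro _ _ y _
    exact List.Forall₂.nil
  | cons lv rest ih =>
    intro hlt hb y hy
    have h0 : (z (pt n lv.1)).val = y := hy lv (by simp)
    have hrest : List.Forall₂ (fun (lv : TLevel) (y : ℕ) => (z (pt n lv.1)).val = y) rest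
        (iterImgs f' rest.length (f' y)) := by
      apply ih (fun lv' h' => hlt lv' (List.mem_cons_of_mem _ h'))
      · cases rest with
        | nil => rfl
        | cons lv' rest' =>
          have hb' : (Nat.beq (f lv.1) lv'.1 && basesOK f (lv' :: rest')) = true := hb
          rw [Bool.and_eq_true] at hb'
          exact hb'.2
      · intro lv' hlv'
        cases rest with
        | nil => simp at hlv'
        | cons lv'' rest' =>
          have hlv : lv' = lv'' := by
            simp only [List.head?_cons, Option.mem_def, Option.some.injEq] at hlv'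
            exact hlv'.symm
          subst hlv
          have hb' : (Nat.beq (f lv.1) lv'.1 && basesOK f (lv' :: rest')) = true := hb
          rw [Bool.and_eq_true] at hb'
          have he : f lv.1 = lv'.1 := Nat.eq_of_beq_eq_true hb'.1
          have hl : lv.1 < n := hlt lv List.mem_cons_self
          have hpt : pt n lv'.1 = g (pt n lv.1) := by
            apply Fin.ext
            rw [hg, pt_val n hl, he]
            exact pt_val n (hlt lv' (List.mem_cons_of_mem _ List.mem_cons_self))
          rw [hpt]
          have hzz : z (g (pt n lv.1)) = g' (z (pt n lv.1)) := by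
            have := congrArg (fun σ : Equiv.Perm (Fin n) => σ (pt n lv.1)) hz
            simpa [Equiv.Perm.mul_apply] using this
          rw [hzz, hg', h0]
    exact List.Forall₂.cons h0 hrest

/-- T3b: iterating a permutation that acts through the function `f` on values -/
theorem pow_val_iterate (n : ℕ) (g : Equiv.Perm (Fin n)) (f : ℕ → ℕ)
    (hf : ∀ a : Fin n, (g a).val = f a.val) (m : ℕ) (a : Fin n) :
    ((g ^ m) a).val = f^[m] a.val := by
  induction m generalizing a with
  | zero => rfl
  | succ k ih =>
    rw [pow_succ, Equiv.Perm.mul_apply, ih, hf, Function.iterate_succ_apply]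

/-- T3c -/
theorem pathPerm_pow_eq_one (n w : ℕ) [NeZero n] (gens : List (ℕ × ℕ))
    (hg : gensOK n w gens = true) (cs : List ℕ) (m : ℕ) (h : relOK n w gens cs m = true) :
    pathPerm n w gens cs ^ m = 1 := by
  unfold relOK at h
  rw [Bool.and_eq_true] at h
  obtain ⟨h1, h2⟩ := h
  have hcs : ∀ c ∈ cs, c / 2 < gens.length := by
    intro c hc
    have := List.all_eq_true.mp h1 c hc
    exact Nat.blt_eq.mp this
  have hf : ∀ a : Fin n, (pathPerm n w gens cs a).val = evalF w gens cs a.val :=
    fun a => (pathPerm_spec n w gens hg cs hcs a).1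
  have hrec : ∀ (k a : ℕ), Nat.rec (motive := fun _ => ℕ) a
      (fun _ x => evalF w gens cs x) k = (evalF w gens cs)^[k] a := by
    intro k
    induction k with
    | zero => intro a; rfl
    | succ j ih =>
      intro a
      rw [Function.iterate_succ_apply']
      exact congrArg (evalF w gens cs) (ih a)
  apply Equiv.ext
  intro a
  apply Fin.ext
  rw [pow_val_iterate n _ _ hf m a, Equiv.Perm.one_apply]
  have := allBelow_spec h2 a.val a.isLt
  rw [hrec] at this
  exact Nat.eq_of_beq_eq_true this

/-- T3d: one more generator given by a path (helper22's `seq_step`) -/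
theorem seq_step (n w : ℕ) [NeZero n] (known : List (ℕ × ℕ)) (hk : gensOK n w known = true)
    (t : ℕ × ℕ) (cs : List ℕ) (h : pathOK n w known (0, t.1, t.2) cs = true) :
    gensOK n w (known ++ [t]) = true ∧ genGroup n w (known ++ [t]) = genGroup n w known ∧
      permOf n w t.1 t.2 = pathPerm n w known cs := by
  obtain ⟨hp, heq, hm⟩ := path_sound n w known hk (0, t.1, t.2) cs h
  obtain ⟨h1, h2⟩ := genGroup_snoc n w known t hk hp hm
  exact ⟨h1, h2, heq⟩

/-- T3e: the level conditions give in-range base points -/
theorem base_lt_of_chainOKT (n w : ℕ) (gens : List (ℕ × ℕ)) (fuel : ℕ) :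
    ∀ (levels : List TLevel) (prev : List ℕ), chainOKT n w gens fuel prev levels = true →
      ∀ lv ∈ levels, lv.1 < n := by
  intro levels
  induction levels with
  | nil => intro _ _ lv hlv; exact absurd hlv List.not_mem_nil
  | cons lv0 rest ih =>
    intro prev h lv hlv
    have h' : (levelOKT n w gens fuel prev lv0 && chainOKT n w gens fuel (lv0.1 :: prev) rest) = true := h
    rw [Bool.and_eq_true] at h'
    rcases List.mem_cons.mp hlv with rfl | hmem
    · have h1 := h'.1
      unfold levelOKT at h1
      rw [Bool.and_eq_true, Bool.and_eq_true] at h1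
      exact Nat.blt_eq.mp h1.1.1
    · exact ih (lv0.1 :: prev) h'.2 lv hmem

end Cfsg.Agent.Lib.Helper27.TreeSift
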