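import Mathlib

/-!
# S2090-[KS] (helper4's front): a subgroup of order at most `36` containing commuting `x, y, z` whose images
have `36` distinct products is `{x ^ i * y ^ j * z ^ k}` and is isomorphic to `C4 × C3 × C3`
-/

set_option autoImplicit false

namespace Cfsg.Agent.Lib.Helper4.U43M

namespace Helper1

/-- powers may be reduced modulo an exponent -/
theorem pow_val_add {M : Type*} [Monoid M] (a : M) (n : ℕ) [NeZero n] (h : a ^ n = 1) (s t : Fin n) :
    a ^ (s + t).val = a ^ s.val * a ^ t.val := by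
  rw [Fin.val_add, ← pow_eq_pow_mod _ h, pow_add]

end Helper1

/-- [KS] a subgroup `K` of order at most 36 containing pairwise commuting `x, y, z` whose images under some
homomorphism `φ` satisfy `φ x ^ 4 = 1`, `φ y ^ 3 = 1`, `φ z ^ 3 = 1` and have 36 distinct products
`φ x ^ i * φ y ^ j * φ z ^ k` is `{x ^ i * y ^ j * z ^ k}` and is isomorphic to `C4 × C3 × C3`. -/
theorem kernel_c4c3c3 {W Δ : Type*} [Group W] [Group Δ] (K : Subgroup W) [Finite K]
    (hK : Nat.card K ≤ 36) (φ : W →* Δ) (x y z : W) (hx : x ∈ K) (hy : y ∈ K) (hz : z ∈ K)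
    (hxy : Commute x y) (hxz : Commute x z) (hyz : Commute y z)
    (h4 : φ x ^ 4 = 1) (h3 : φ y ^ 3 = 1) (h3' : φ z ^ 3 = 1)
    (hinj : Function.Injective
      (fun t : Fin 4 × Fin 3 × Fin 3 => φ x ^ t.1.val * φ y ^ t.2.1.val * φ z ^ t.2.2.val)) :
    (∀ g ∈ K, ∃ i j k : ℕ, g = x ^ i * y ^ j * z ^ k) ∧
      Nonempty (K ≃* Multiplicative (ZMod 4 × ZMod 3 × ZMod 3)) := by
  classical
  -- the three elements inside `K`
  set x' : K := ⟨x, hx⟩ with hx'
  set y' : K := ⟨y, hy⟩ with hy'
  set z' : K := ⟨z, hz⟩ with hz'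
  have cxy : Commute x' y' := by
    apply Subtype.ext
    exact hxy
  have cxz : Commute x' z' := by
    apply Subtype.ext
    exact hxz
  have cyz : Commute y' z' := by
    apply Subtype.ext
    exact hyz
  -- the parametrisation
  let F : Fin 4 × Fin 3 × Fin 3 → K := fun t => x' ^ t.1.val * y' ^ t.2.1.val * z' ^ t.2.2.val
  have hφF : ∀ t, φ ((F t : K) : W) = φ x ^ t.1.val * φ y ^ t.2.1.val * φ z ^ t.2.2.val := by
    intro t
    simp only [F, Subgroup.coe_mul, Subgroup.coe_pow, map_mul, map_pow, hx', hy', hz']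
  have hFinj : Function.Injective F := by
    intro s t hst
    apply hinj
    show φ x ^ s.1.val * φ y ^ s.2.1.val * φ z ^ s.2.2.val
        = φ x ^ t.1.val * φ y ^ t.2.1.val * φ z ^ t.2.2.val
    rw [← hφF s, ← hφF t, hst]
  have hcard : Nat.card K ≤ Nat.card (Fin 4 × Fin 3 × Fin 3) := by
    have : Nat.card (Fin 4 × Fin 3 × Fin 3) = 36 := by
      rw [Nat.card_eq_fintype_card]
      simp
    rw [this]
    exact hK
  have hFbij : Function.Bijective F := hFinj.bijective_of_nat_card_le hcard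
  -- an element of `K` with trivial image is trivial
  have hker : ∀ g : K, φ (g : W) = 1 → g = 1 := by
    intro g hg
    obtain ⟨t, rfl⟩ := hFbij.2 g
    have h0 : F (0, 0, 0) = 1 := by simp [F]
    have : t = (0, 0, 0) := by
      apply hinj
      show φ x ^ t.1.val * φ y ^ t.2.1.val * φ z ^ t.2.2.val
        = φ x ^ ((0 : Fin 4)).val * φ y ^ ((0 : Fin 3)).val * φ z ^ ((0 : Fin 3)).val
      rw [← hφF t, hg]
      simp
    rw [this, h0]
  have ex4 : x' ^ 4 = 1 := by
    apply hker
    rw [Subgroup.coe_pow, map_pow]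
    exact h4
  have ey3 : y' ^ 3 = 1 := by
    apply hker
    rw [Subgroup.coe_pow, map_pow]
    exact h3
  have ez3 : z' ^ 3 = 1 := by
    apply hker
    rw [Subgroup.coe_pow, map_pow]
    exact h3'
  refine ⟨?_, ?_⟩
  · intro g hg
    obtain ⟨t, ht⟩ := hFbij.2 ⟨g, hg⟩
    refine ⟨t.1.val, t.2.1.val, t.2.2.val, ?_⟩
    have := congrArg Subtype.val ht
    simp only [F, Subgroup.coe_mul, Subgroup.coe_pow, hx', hy', hz'] at this
    exact this.symm
  · -- multiplicativity of the parametrisation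
    have hmul : ∀ s t : Fin 4 × Fin 3 × Fin 3, F (s + t) = F s * F t := by
      intro s t
      show x' ^ (s + t).1.val * y' ^ (s + t).2.1.val * z' ^ (s + t).2.2.val
        = x' ^ s.1.val * y' ^ s.2.1.val * z' ^ s.2.2.val
          * (x' ^ t.1.val * y' ^ t.2.1.val * z' ^ t.2.2.val)
      have e1 : (s + t).1 = s.1 + t.1 := rfl
      have e2 : (s + t).2.1 = s.2.1 + t.2.1 := rfl
      have e3 : (s + t).2.2 = s.2.2 + t.2.2 := rfl
      rw [e1, e2, e3, Helper1.pow_val_add x' 4 ex4, Helper1.pow_val_add y' 3 ey3,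
        Helper1.pow_val_add z' 3 ez3]
      have c1 : Commute (x' ^ t.1.val) (y' ^ s.2.1.val) := (cxy.pow_pow _ _)
      have c2 : Commute (x' ^ t.1.val * y' ^ t.2.1.val) (z' ^ s.2.2.val) :=
        (cxz.pow_pow _ _).mul_left (cyz.pow_pow _ _)
      rw [c1.mul_mul_mul_comm, c2.mul_mul_mul_comm]
    let g : Multiplicative (ZMod 4 × ZMod 3 × ZMod 3) →* K :=
      MonoidHom.mk' (fun t => F (Multiplicative.toAdd t)) (by
        intro a b
        exact hmul _ _)
    have hgbij : Function.Bijective g := by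
      constructor
      · intro a b hab
        exact Multiplicative.toAdd.injective (hFbij.1 hab)
      · intro k
        obtain ⟨t, ht⟩ := hFbij.2 k
        exact ⟨Multiplicative.ofAdd t, ht⟩
    exact ⟨(MulEquiv.ofBijective g hgbij).symm⟩

end Cfsg.Agent.Lib.Helper4.U43M
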