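import Mathlib
import Cfsg.Agent.H5.StemTC

/-!
# S2041-[L11] (helper10's front): closures of ranges under a homomorphism, words in the closure
-/

set_option autoImplicit false

namespace Cfsg.Agent.Lib.Helper10.Weak

universe u v

/-- [L11a] -/
theorem closure_map_range {G : Type u} {H : Type v} [Group G] [Group H] (f : G →* H) (γ : ℕ → G)
    (t : ℕ) :
    Subgroup.closure (Set.range fun i : Fin t => f (γ i.val)) =
      (Subgroup.closure (Set.range fun i : Fin t => γ i.val)).map f := by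
  rw [MonoidHom.map_closure]
  congr 1
  ext x
  simp only [Set.mem_range, Set.mem_image]
  constructor
  · rintro ⟨i, rfl⟩
    exact ⟨γ i.val, ⟨i, rfl⟩, rfl⟩
  · rintro ⟨y, ⟨i, rfl⟩, rfl⟩
    exact ⟨i, rfl⟩

/-- [L11b] -/
theorem ev_mem_closure {Γ : Type u} [Group Γ] (γ : ℕ → Γ) (t : ℕ) (w : List ℕ)
    (hw : w.all (fun l => decide (l < 2 * t)) = true) :
    Cfsg.H5.TCk.ev γ w ∈ Subgroup.closure (Set.range fun i : Fin t => γ i.val) := by
  apply Cfsg.H5.StemTC.ev_mem γ _ t _ w hw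
  intro i hi
  exact Subgroup.subset_closure ⟨⟨i, hi⟩, rfl⟩

/-- [L11c] -/
theorem ev_comp {Γ : Type u} {G : Type v} [Group Γ] [Group G] (σ : Γ →* G) (γ : ℕ → Γ)
    (w : List ℕ) : σ (Cfsg.H5.TCk.ev γ w) = Cfsg.H5.TCk.ev (fun i => σ (γ i)) w :=
  Cfsg.H5.StemTC.map_ev σ γ w

end Cfsg.Agent.Lib.Helper10.Weak
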