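import Mathlib
import Cfsg.Agent.H5.StemTC

/-!
# S2041-[L3] (helper10's front): conjugation relators between generators of `p'`-order lift exactly
-/

set_option autoImplicit false

namespace Cfsg.Agent.Lib.Helper10.Weak

open Cfsg Cfsg.H5.TCk

universe u v

namespace Helper1

/-- local copy of [L2]: lifts of `p'`-order through a central `p`-group kernel are unique -/
theorem lift_unique_loc {Γ : Type u} {G : Type v} [Group Γ] [Group G] (σ : Γ →* G)
    (hc : σ.ker ≤ Subgroup.center Γ) {p : ℕ} (hk : IsPGroup p σ.ker) {n m : ℕ} (hn : n.Coprime p)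
    (hm : m.Coprime p) {y y' : Γ} (hy : y ^ n = 1) (hy' : y' ^ m = 1) (h : σ y = σ y') : y = y' := by
  have hzker : y⁻¹ * y' ∈ σ.ker := by
    rw [MonoidHom.mem_ker, map_mul, map_inv, h, inv_mul_cancel]
  have hzc : ∀ g : Γ, g * (y⁻¹ * y') = (y⁻¹ * y') * g := Subgroup.mem_center_iff.mp (hc hzker)
  obtain ⟨k, hk⟩ := hk ⟨y⁻¹ * y', hzker⟩
  have hk' : (y⁻¹ * y') ^ (p ^ k) = 1 := by
    have := congrArg Subtype.val hk
    simpa using this
  have hyN : y ^ (n * m) = 1 := by rw [pow_mul, hy, one_pow]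
  have hy'N : y' ^ (n * m) = 1 := by rw [mul_comm, pow_mul, hy', one_pow]
  have hzn : (y⁻¹ * y') ^ (n * m) = 1 := by
    have hcomm : Commute y (y⁻¹ * y') := hzc y
    have h1 : y' = y * (y⁻¹ * y') := by group
    have h2' : y' ^ (n * m) = y ^ (n * m) * (y⁻¹ * y') ^ (n * m) := by
      conv_lhs => rw [h1]
      exact hcomm.mul_pow (n * m)
    rw [hy'N, hyN, one_mul] at h2'
    exact h2'.symm
  have hcop : Nat.Coprime (p ^ k) (n * m) :=
    Nat.Coprime.pow_left k (Nat.Coprime.mul_right hn.symm hm.symm)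
  have hord : orderOf (y⁻¹ * y') ∣ Nat.gcd (p ^ k) (n * m) :=
    Nat.dvd_gcd (orderOf_dvd_of_pow_eq_one hk') (orderOf_dvd_of_pow_eq_one hzn)
  rw [hcop.gcd_eq_one, Nat.dvd_one, orderOf_eq_one_iff] at hord
  exact (inv_mul_eq_one.mp hord)

theorem ev_replicate {Γ : Type u} [Group Γ] (γ : ℕ → Γ) (l x : ℕ) :
    ev γ (List.replicate l x) = gl γ x ^ l := by
  induction l with
  | zero => simp [ev]
  | succ l ih => rw [List.replicate_succ, ev, ih, pow_succ']

theorem gl_odd {Γ : Type u} [Group Γ] (γ : ℕ → Γ) (j : ℕ) : gl γ (2 * j + 1) = (γ j)⁻¹ := by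
  unfold gl
  have h1 : (2 * j + 1) % 2 ≠ 0 := by omega
  have h2 : (2 * j + 1) / 2 = j := by omega
  simp only [h1, if_false, h2]

theorem gl_even {Γ : Type u} [Group Γ] (γ : ℕ → Γ) (i : ℕ) : gl γ (2 * i) = γ i := by
  unfold gl
  have h1 : (2 * i) % 2 = 0 := by omega
  have h2 : (2 * i) / 2 = i := by omega
  simp only [h1, if_true, h2]

end Helper1

/-- the relator `u g_i u⁻¹ = g_j ^ l` -/
def conjRel (u : List ℕ) (i j l : ℕ) : List ℕ :=
  u ++ [2 * i] ++ winv u ++ List.replicate l (2 * j + 1)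

namespace Helper1

theorem ev_conjRel {Γ : Type u} [Group Γ] (γ : ℕ → Γ) (u : List ℕ) (i j l : ℕ) :
    ev γ (conjRel u i j l) = ev γ u * γ i * (ev γ u)⁻¹ * ((γ j)⁻¹) ^ l := by
  unfold conjRel
  rw [ev_append, ev_append, ev_append, ev_winv, ev_replicate, gl_odd]
  have : ev γ [2 * i] = γ i := by
    simp only [ev, gl_even, mul_one]
  rw [this]

end Helper1

/-- [L3] conjugation relators between generators of `p'`-order lift EXACTLY -/
theorem ev_conjRel_eq_one {Γ : Type u} {G : Type v} [Group Γ] [Group G] (σ : Γ →* G)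
    (hc : σ.ker ≤ Subgroup.center Γ) {p : ℕ} (hk : IsPGroup p σ.ker) (γh : ℕ → Γ) (n : ℕ → ℕ)
    (u : List ℕ) (i j l : ℕ) (hni : (n i).Coprime p) (hnj : (n j).Coprime p)
    (hi : γh i ^ n i = 1) (hj : γh j ^ n j = 1)
    (h : ev (fun k => σ (γh k)) (conjRel u i j l) = 1) : ev γh (conjRel u i j l) = 1 := by
  rw [Helper1.ev_conjRel] at h ⊢
  set U := ev γh u with hU
  have hUs : ev (fun k => σ (γh k)) u = σ U := (Cfsg.H5.StemTC.map_ev σ γh u).symm
  rw [hUs] at h
  -- the two lifts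
  have h1 : (U * γh i * U⁻¹) ^ n i = 1 := by
    rw [conj_pow, hi, mul_one, mul_inv_cancel]
  have h2 : (γh j ^ l) ^ n j = 1 := by
    rw [← pow_mul, mul_comm, pow_mul, hj, one_pow]
  have himg : σ (U * γh i * U⁻¹) = σ (γh j ^ l) := by
    rw [map_mul, map_mul, map_inv, map_pow]
    have := mul_eq_one_iff_eq_inv.mp h
    rw [this, ← inv_pow, inv_inv]
  have := Helper1.lift_unique_loc σ hc hk hni hnj h1 h2 himg
  rw [this, inv_pow, mul_inv_cancel]

end Cfsg.Agent.Lib.Helper10.Weak
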